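import Mathlib
import Cfsg.Prelude.Def_Characters

set_option autoImplicit false

namespace Cfsg.Agent.Lib.Helper4

open scoped ComplexConjugate ComplexOrder
open Matrix

section Unitary

variable {G : Type*} [Group G] [Fintype G] {n : ℕ}

/-- matrix of `ρ g` in the standard basis -/
noncomputable def repMat (ρ : Representation ℂ G (Fin n → ℂ)) (g : G) : Matrix (Fin n) (Fin n) ℂ :=
  LinearMap.toMatrix' (ρ g)

theorem repMat_mul (ρ : Representation ℂ G (Fin n → ℂ)) (g h : G) :
    repMat ρ (g * h) = repMat ρ g * repMat ρ h := by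
  unfold repMat
  rw [map_mul, Module.End.mul_eq_comp, LinearMap.toMatrix'_comp]

theorem repMat_one (ρ : Representation ℂ G (Fin n → ℂ)) : repMat ρ 1 = 1 := by
  unfold repMat
  rw [map_one, Module.End.one_eq_id, LinearMap.toMatrix'_id]

theorem character_eq_trace_repMat (ρ : Representation ℂ G (Fin n → ℂ)) (g : G) :
    ρ.character g = (repMat ρ g).trace := by
  unfold Representation.character repMat
  rw [LinearMap.trace_eq_matrix_trace ℂ (Pi.basisFun ℂ (Fin n)), LinearMap.toMatrix_eq_toMatrix']

/-- the invariant hermitian form of the unitary trick -/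
noncomputable def weylForm (ρ : Representation ℂ G (Fin n → ℂ)) : Matrix (Fin n) (Fin n) ℂ :=
  ∑ g : G, (repMat ρ g)ᴴ * repMat ρ g

theorem weylForm_posDef (ρ : Representation ℂ G (Fin n → ℂ)) : (weylForm ρ).PosDef := by
  classical
  unfold weylForm
  rw [← Finset.add_sum_erase Finset.univ _ (Finset.mem_univ (1 : G))]
  apply Matrix.PosDef.add_posSemidef
  · rw [repMat_one]
    simpa using (Matrix.PosDef.one : (1 : Matrix (Fin n) (Fin n) ℂ).PosDef)
  · apply Matrix.posSemidef_sum
    intro g _
    exact Matrix.posSemidef_conjTranspose_mul_self _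

theorem weylForm_invariant (ρ : Representation ℂ G (Fin n → ℂ)) (h : G) :
    (repMat ρ h)ᴴ * weylForm ρ * repMat ρ h = weylForm ρ := by
  unfold weylForm
  rw [Finset.mul_sum, Finset.sum_mul]
  apply Fintype.sum_equiv (Equiv.mulRight h)
  intro g
  simp only [Equiv.coe_mulRight]
  rw [repMat_mul, Matrix.conjTranspose_mul]
  simp only [Matrix.mul_assoc]

/-- `χ(g⁻¹) = conj χ(g)` for a complex representation of a finite group. -/
theorem character_inv (ρ : Representation ℂ G (Fin n → ℂ)) (g : G) :
    ρ.character g⁻¹ = conj (ρ.character g) := by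
  classical
  rw [character_eq_trace_repMat, character_eq_trace_repMat]
  set H := weylForm ρ with hH
  have hHu : IsUnit H := (weylForm_posDef ρ).isUnit
  have hdet : IsUnit H.det := (Matrix.isUnit_iff_isUnit_det H).mp hHu
  have hinv : repMat ρ g * repMat ρ g⁻¹ = 1 := by
    rw [← repMat_mul, mul_inv_cancel, repMat_one]
  have h1 : (repMat ρ g)ᴴ * H = H * repMat ρ g⁻¹ := by
    have := weylForm_invariant ρ g
    calc (repMat ρ g)ᴴ * H = (repMat ρ g)ᴴ * H * (repMat ρ g * repMat ρ g⁻¹) := by
          rw [hinv, Matrix.mul_one]
      _ = ((repMat ρ g)ᴴ * H * repMat ρ g) * repMat ρ g⁻¹ := by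
          simp only [Matrix.mul_assoc]
      _ = H * repMat ρ g⁻¹ := by rw [this]
  have h2 : (repMat ρ g)ᴴ = H * repMat ρ g⁻¹ * H⁻¹ := by
    rw [← h1, Matrix.mul_assoc, Matrix.mul_nonsing_inv H hdet, Matrix.mul_one]
  have h3 : ((repMat ρ g)ᴴ).trace = (repMat ρ g⁻¹).trace := by
    rw [h2, Matrix.trace_mul_cycle, Matrix.nonsing_inv_mul H hdet, Matrix.one_mul]
  rw [← h3, Matrix.trace_conjTranspose]
  rfl

end Unitary

section Inner

variable {G : Type*} [Group G] [Fintype G]

theorem classInner_def (φ ψ : G → ℂ) :
    classInner φ ψ = (Nat.card G : ℂ)⁻¹ * ∑ g : G, φ g * conj (ψ g) := rfl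

theorem classInner_add_left (a b c : G → ℂ) :
    classInner (a + b) c = classInner a c + classInner b c := by
  simp only [classInner_def, Pi.add_apply, add_mul, Finset.sum_add_distrib, mul_add]

theorem classInner_add_right (a b c : G → ℂ) :
    classInner a (b + c) = classInner a b + classInner a c := by
  simp only [classInner_def, Pi.add_apply, map_add, mul_add, Finset.sum_add_distrib]

theorem classInner_neg_left (a c : G → ℂ) : classInner (-a) c = - classInner a c := by
  simp only [classInner_def, Pi.neg_apply, neg_mul, Finset.sum_neg_distrib, mul_neg]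

theorem classInner_neg_right (a c : G → ℂ) : classInner a (-c) = - classInner a c := by
  simp only [classInner_def, Pi.neg_apply, map_neg, mul_neg, Finset.sum_neg_distrib]

theorem classInner_sub_left (a b c : G → ℂ) :
    classInner (a - b) c = classInner a c - classInner b c := by
  rw [sub_eq_add_neg, classInner_add_left, classInner_neg_left, ← sub_eq_add_neg]

theorem classInner_sub_right (a b c : G → ℂ) :
    classInner a (b - c) = classInner a b - classInner a c := by
  rw [sub_eq_add_neg, classInner_add_right, classInner_neg_right, ← sub_eq_add_neg]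

theorem classInner_smul_left (z : ℂ) (a c : G → ℂ) :
    classInner (z • a) c = z * classInner a c := by
  simp only [classInner_def, Pi.smul_apply, smul_eq_mul]
  have : ∑ g, (z * a g) * conj (c g) = z * ∑ g, a g * conj (c g) := by
    rw [Finset.mul_sum]
    apply Finset.sum_congr rfl
    intro g _
    ring
  rw [this]
  ring

theorem classInner_smul_right (z : ℂ) (a c : G → ℂ) :
    classInner a (z • c) = conj z * classInner a c := by
  simp only [classInner_def, Pi.smul_apply, smul_eq_mul, map_mul]
  have : ∑ g, a g * (conj z * conj (c g)) = conj z * ∑ g, a g * conj (c g) := by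
    rw [Finset.mul_sum]
    apply Finset.sum_congr rfl
    intro g _
    ring
  rw [this]
  ring

theorem classInner_zero_left (c : G → ℂ) : classInner 0 c = 0 := by
  simp [classInner_def]

theorem classInner_zero_right (c : G → ℂ) : classInner c 0 = 0 := by
  simp [classInner_def]

theorem classInner_conj_symm (a b : G → ℂ) : conj (classInner a b) = classInner b a := by
  simp only [classInner_def, map_mul, map_inv₀, map_natCast, map_sum, Complex.conj_conj]
  congr 1
  apply Finset.sum_congr rfl
  intro g _
  ring

theorem classInner_eq_zero_symm {a b : G → ℂ} (h : classInner a b = 0) : classInner b a = 0 := by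
  rw [← classInner_conj_symm, h, map_zero]

theorem classInner_sum_left {ι : Type*} (s : Finset ι) (f : ι → G → ℂ) (c : G → ℂ) :
    classInner (∑ i ∈ s, f i) c = ∑ i ∈ s, classInner (f i) c := by
  classical
  induction s using Finset.induction_on with
  | empty => simp [classInner_zero_left]
  | insert i s hi ih => rw [Finset.sum_insert hi, Finset.sum_insert hi, classInner_add_left, ih]

theorem classInner_sum_right {ι : Type*} (s : Finset ι) (f : ι → G → ℂ) (c : G → ℂ) :
    classInner c (∑ i ∈ s, f i) = ∑ i ∈ s, classInner c (f i) := by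
  classical
  induction s using Finset.induction_on with
  | empty => simp [classInner_zero_right]
  | insert i s hi ih => rw [Finset.sum_insert hi, Finset.sum_insert hi, classInner_add_right, ih]

/-- `Invertible (|G| : ℂ)` -/
noncomputable def invertibleCard : Invertible (Nat.card G : ℂ) :=
  invertibleOfNonzero (Nat.cast_ne_zero.mpr Nat.card_pos.ne')

open Classical in
/-- orthonormality for irreducible representations on coordinate spaces, in terms of `classInner` -/
theorem classInner_character {n m : ℕ} (ρ : Representation ℂ G (Fin n → ℂ))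
    (σ : Representation ℂ G (Fin m → ℂ)) [ρ.IsIrreducible] [σ.IsIrreducible] :
    classInner ρ.character σ.character = if Nonempty (Representation.Equiv σ ρ) then 1 else 0 := by
  haveI := invertibleCard (G := G)
  have := Representation.char_orthonormal ρ σ
  rw [classInner_def]
  simp only [← character_inv]
  rw [this]

/-- Orthonormality of irreducible characters. -/
theorem classInner_irr {χ ψ : G → ℂ} (hχ : IsIrrCharacter G χ) (hψ : IsIrrCharacter G ψ) :
    classInner χ ψ = if χ = ψ then 1 else 0 := by
  classical
  obtain ⟨n, ρ, hρ, rfl⟩ := hχ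
  obtain ⟨m, σ, hσ, rfl⟩ := hψ
  haveI := hρ
  haveI := hσ
  rw [classInner_character]
  by_cases h : Nonempty (Representation.Equiv σ ρ)
  · obtain ⟨φ⟩ := h
    have : ρ.character = σ.character := (Representation.char_iso φ).symm
    simp [this, Nonempty.intro φ]
  · have hne : ρ.character ≠ σ.character := by
      intro heq
      -- then ⟨χ,χ⟩ = 1 would be ⟨χ_ρ,χ_σ⟩ = 0
      have h1 : classInner ρ.character ρ.character = 1 := by
        rw [classInner_character]
        simp [Nonempty.intro (Representation.Equiv.refl ρ)]
      have h2 : classInner ρ.character σ.character = 0 := by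
        rw [classInner_character]
        simp [h]
      rw [← heq, h1] at h2
      exact one_ne_zero h2
    simp [h, hne]

theorem classInner_irr_self {χ : G → ℂ} (hχ : IsIrrCharacter G χ) : classInner χ χ = 1 := by
  rw [classInner_irr hχ hχ]; simp

theorem classInner_irr_ne {χ ψ : G → ℂ} (hχ : IsIrrCharacter G χ) (hψ : IsIrrCharacter G ψ)
    (h : χ ≠ ψ) : classInner χ ψ = 0 := by
  rw [classInner_irr hχ hψ]; simp [h]

end Inner

section Basic

variable {G : Type*} [Group G]

theorem isCharacter_of_irr {χ : G → ℂ} (h : IsIrrCharacter G χ) : IsCharacter G χ := by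
  obtain ⟨n, ρ, _, rfl⟩ := h
  exact ⟨n, ρ, rfl⟩

theorem isClassFunction_of_isCharacter {χ : G → ℂ} (h : IsCharacter G χ) : IsClassFunction G χ := by
  obtain ⟨n, ρ, rfl⟩ := h
  intro g x
  exact Representation.char_conj ρ g x

/-- value at 1 of a character is its degree -/
theorem isCharacter_apply_one {χ : G → ℂ} (h : IsCharacter G χ) : ∃ n : ℕ, χ 1 = n := by
  obtain ⟨n, ρ, rfl⟩ := h
  refine ⟨n, ?_⟩
  rw [Representation.char_one]
  simp

theorem isCharacter_inv [Fintype G] {χ : G → ℂ} (h : IsCharacter G χ) (g : G) :
    χ g⁻¹ = conj (χ g) := by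
  obtain ⟨n, ρ, rfl⟩ := h
  exact character_inv ρ g

/-- an irreducible character has positive degree -/
theorem irr_apply_one_pos {χ : G → ℂ} (h : IsIrrCharacter G χ) :
    ∃ n : ℕ, 0 < n ∧ χ 1 = n := by
  obtain ⟨n, ρ, hρ, rfl⟩ := h
  refine ⟨n, ?_, ?_⟩
  · by_contra hn
    have hn0 : n = 0 := by omega
    subst hn0
    -- an irreducible representation is nontrivial
    haveI := hρ
    have : IsSimpleModule (MonoidAlgebra ℂ G) ρ.asModule :=
      (Representation.irreducible_iff_isSimpleModule_asModule ρ).mp hρ
    have hnt : Nontrivial ρ.asModule := IsSimpleModule.nontrivial (MonoidAlgebra ℂ G) ρ.asModule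
    obtain ⟨x, y, hxy⟩ := hnt
    apply hxy
    have : Subsingleton (Fin 0 → ℂ) := inferInstance
    exact this.elim (ρ.asModuleEquiv x) (ρ.asModuleEquiv y) |> ρ.asModuleEquiv.injective
  · rw [Representation.char_one]
    simp

theorem irr_apply_one_ne_zero {χ : G → ℂ} (h : IsIrrCharacter G χ) : χ 1 ≠ 0 := by
  obtain ⟨n, hn, h1⟩ := irr_apply_one_pos h
  rw [h1]
  exact Nat.cast_ne_zero.mpr hn.ne'

end Basic

end Cfsg.Agent.Lib.Helper4
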