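import Mathlib
import Cfsg.Prelude.Def_Characters
import Cfsg.Agent.S0137

set_option autoImplicit false

namespace Cfsg.Agent.Lib.Helper4

variable {G : Type*} [Group G] [Finite G]

/-- `|χ(g)| ≤ χ(1)` for a character. -/
theorem isCharacter_norm_le {χ : G → ℂ} (hχ : Cfsg.IsCharacter G χ) (g : G) :
    ‖χ g‖ ≤ (χ 1).re := by
  obtain ⟨n, ρ, rfl⟩ := hχ
  have h := Cfsg.Agent.S0137.result ρ g
  rw [Representation.char_one]
  simpa using h

theorem isCharacter_re_le {χ : G → ℂ} (hχ : Cfsg.IsCharacter G χ) (g : G) :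
    (χ g).re ≤ (χ 1).re :=
  (Complex.re_le_norm _).trans (isCharacter_norm_le hχ g)

theorem isCharacter_one_im {χ : G → ℂ} (hχ : Cfsg.IsCharacter G χ) : (χ 1).im = 0 := by
  obtain ⟨n, ρ, rfl⟩ := hχ
  rw [Representation.char_one]
  simp

/-- If `Re χ(g) = χ(1)` then `χ(g) = χ(1)`. -/
theorem isCharacter_eq_of_re_eq {χ : G → ℂ} (hχ : Cfsg.IsCharacter G χ) (g : G)
    (h : (χ g).re = (χ 1).re) : χ g = χ 1 := by
  have h1 := isCharacter_norm_le hχ g
  have h0 : 0 ≤ (χ 1).re := (norm_nonneg _).trans h1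
  have h2 : ‖χ g‖ ^ 2 ≤ (χ 1).re ^ 2 := by
    apply pow_le_pow_left₀ (norm_nonneg _) h1
  rw [Complex.sq_norm, Complex.normSq_apply, h] at h2
  have him : (χ g).im = 0 := by nlinarith
  apply Complex.ext h
  rw [him, isCharacter_one_im hχ]

end Cfsg.Agent.Lib.Helper4
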