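import Mathlib
import Cfsg.Prelude.Def_Characters
import Cfsg.Agent.Lib.Helper4.Characters
import Cfsg.Agent.Lib.Helper4.CharBound
import Cfsg.Agent.Lib.Helper1.CharFound6
import Cfsg.Agent.S0138
import Cfsg.Agent.S0139

set_option autoImplicit false

namespace Cfsg.Agent.Lib.Helper4

open Cfsg.Agent.Lib.Helper1
open scoped ComplexConjugate

section
variable {G : Type*} [Group G] [Fintype G]

/-- A character with nonzero degree has an irreducible constituent. -/
theorem exists_constituent {ρ : G → ℂ} (hρ : Cfsg.IsCharacter G ρ) (h1 : ρ 1 ≠ 0) :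
    ∃ φ : G → ℂ, Cfsg.IsIrrCharacter G φ ∧ ∃ m : ℕ, 0 < m ∧ Cfsg.classInner ρ φ = m := by
  classical
  have : Fintype (Cfsg.IrrCharacter G) := Fintype.ofFinite _
  by_contra hcon
  push Not at hcon
  apply h1
  have hexp := class_function_expansion ρ (isClassFunction_of_isCharacter hρ)
  have hz : ∀ χ : Cfsg.IrrCharacter G, Cfsg.classInner ρ (χ : G → ℂ) = 0 := by
    intro χ
    obtain ⟨m, hm⟩ := classInner_char_irr_nat hρ χ.2
    rcases Nat.eq_zero_or_pos m with h | h
    · rw [hm, h]; simp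
    · exact absurd hm (hcon χ χ.2 m h)
  rw [hexp]
  simp [hz]

/-- Removing an irreducible constituent from a character leaves a character. -/
theorem isCharacter_sub_irr {ρ φ : G → ℂ} (hρ : Cfsg.IsCharacter G ρ)
    (hφ : Cfsg.IsIrrCharacter G φ) {m : ℕ} (hm : 0 < m) (hin : Cfsg.classInner ρ φ = m) :
    Cfsg.IsCharacter G (ρ - φ) := by
  classical
  apply isCharacter_of_nat_mult
  · exact isClassFunction_sub (isClassFunction_of_isCharacter hρ) (isClassFunction_irr hφ)
  · intro χ hχ
    rw [classInner_sub_left]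
    by_cases h : φ = χ
    · subst h
      rw [hin, classInner_irr_self hφ]
      refine ⟨m - 1, ?_⟩
      rw [Nat.cast_sub hm]; simp
    · rw [classInner_irr_ne hφ hχ h, sub_zero]
      exact classInner_char_irr_nat hρ hχ

/-- If a character takes its degree at `g`, so does each irreducible constituent. -/
theorem constituent_apply_eq {ρ φ : G → ℂ} (hρ : Cfsg.IsCharacter G ρ)
    (hφ : Cfsg.IsIrrCharacter G φ) {m : ℕ} (hm : 0 < m) (hin : Cfsg.classInner ρ φ = m)
    (g : G) (hg : ρ g = ρ 1) : φ g = φ 1 := by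
  have hσ := isCharacter_sub_irr hρ hφ hm hin
  have hφc := isCharacter_of_irr hφ
  apply isCharacter_eq_of_re_eq hφc
  have h1 := isCharacter_re_le hφc g
  have h2 := isCharacter_re_le hσ g
  have h3 : (ρ g).re = (ρ 1).re := by rw [hg]
  simp only [Pi.sub_apply, Complex.sub_re] at h2
  linarith

/-- Sum of squared absolute values of an irreducible character. -/
theorem sum_norm_sq_irr {φ : G → ℂ} (hφ : Cfsg.IsIrrCharacter G φ) :
    ∑ g : G, ‖φ g‖ ^ 2 = (Nat.card G : ℝ) := by
  have h := classInner_irr_self hφ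
  rw [classInner_def] at h
  have hG0 : (Nat.card G : ℂ) ≠ 0 := Nat.cast_ne_zero.mpr Nat.card_pos.ne'
  have h2 : ∑ g : G, φ g * conj (φ g) = (Nat.card G : ℂ) := by
    field_simp at h
    exact h
  have h3 : ∀ g : G, φ g * conj (φ g) = ((‖φ g‖ ^ 2 : ℝ) : ℂ) := by
    intro g
    rw [Complex.mul_conj, Complex.normSq_eq_norm_sq]
  rw [Finset.sum_congr rfl fun g _ => h3 g, ← Complex.ofReal_sum] at h2
  exact_mod_cast h2

end

section Schur
variable {G : Type*} [Group G] [Finite G]

/-- Schur's lemma: an endomorphism commuting with an irreducible complex representation is a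
scalar. -/
theorem schur_scalar {V : Type*} [AddCommGroup V] [Module ℂ V] [FiniteDimensional ℂ V]
    (ρ : Representation ℂ G V) [ρ.IsIrreducible] (T : V →ₗ[ℂ] V)
    (hT : ∀ (g : G) (v : V), T (ρ g v) = ρ g (T v)) : ∃ c : ℂ, T = c • LinearMap.id := by
  obtain ⟨c, hc⟩ := (Representation.IsIrreducible.algebraMap_intertwiningMap_bijective_of_isAlgClosed
    (ρ := ρ)).2 (LinearMap.intertwiningMap_of_isIntertwiningMap ρ ρ T hT)
  refine ⟨c, ?_⟩
  have := congrArg Representation.IntertwiningMap.toLinearMap hc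
  rw [Representation.IntertwiningMap.algebraMap_apply] at this
  exact this.symm

/-- If `d` is central modulo the kernel of the irreducible character `φ`, then `|φ(d)| = φ(1)`. -/
theorem norm_eq_of_central_mod_ker {φ : G → ℂ} (hφ : Cfsg.IsIrrCharacter G φ) (d : G)
    (h : ∀ c : G, φ (d * c * d⁻¹ * c⁻¹) = φ 1) : ‖φ d‖ = ‖φ 1‖ := by
  obtain ⟨n, ρ, hirr, rfl⟩ := hφ
  haveI := hirr
  have hker : ∀ c : G, ρ (d * c * d⁻¹ * c⁻¹) = LinearMap.id := by
    intro c
    rw [← Cfsg.Agent.S0139.result ρ, h c, Representation.char_one]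
  have hcomm : ∀ (c : G) (v : Fin n → ℂ), ρ d (ρ c v) = ρ c (ρ d v) := by
    intro c v
    have h1 : d * c = (d * c * d⁻¹ * c⁻¹) * (c * d) := by group
    have h2 : ρ (d * c) = ρ (c * d) := by
      rw [h1, map_mul, hker c]
      rfl
    have h3 := congrArg (fun f => f v) h2
    simpa [map_mul] using h3
  obtain ⟨ω, hω⟩ := schur_scalar ρ (ρ d) hcomm
  have h1 := (Cfsg.Agent.S0138.result ρ d).mpr ⟨ω, hω⟩
  rw [h1, Representation.char_one]
  simp

end Schur

end Cfsg.Agent.Lib.Helper4
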