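import Mathlib
import Cfsg.Prelude.Def_Characters
import Cfsg.Agent.Lib.Helper4.Characters
import Cfsg.Agent.Lib.Helper1.CharFound6

set_option autoImplicit false

namespace Cfsg.Agent.Lib.Helper4

open Cfsg.Agent.Lib.Helper1
open scoped ComplexConjugate

section Closure
variable {G : Type*} [Group G]

theorem isGenChar_of_isCharacter {χ : G → ℂ} (h : Cfsg.IsCharacter G χ) :
    Cfsg.IsGeneralizedCharacter G χ :=
  ⟨χ, 0, h, isCharacter_zero, by simp⟩

theorem isGenChar_of_irr {χ : G → ℂ} (h : Cfsg.IsIrrCharacter G χ) :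
    Cfsg.IsGeneralizedCharacter G χ := isGenChar_of_isCharacter (isCharacter_of_irr h)

theorem isGenChar_zero : Cfsg.IsGeneralizedCharacter G (0 : G → ℂ) :=
  isGenChar_of_isCharacter isCharacter_zero

theorem isGenChar_neg {θ : G → ℂ} (h : Cfsg.IsGeneralizedCharacter G θ) :
    Cfsg.IsGeneralizedCharacter G (-θ) := by
  obtain ⟨a, b, ha, hb, rfl⟩ := h
  exact ⟨b, a, hb, ha, by simp⟩

theorem isGenChar_add {θ φ : G → ℂ} (h : Cfsg.IsGeneralizedCharacter G θ)
    (h' : Cfsg.IsGeneralizedCharacter G φ) : Cfsg.IsGeneralizedCharacter G (θ + φ) := by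
  obtain ⟨a, b, ha, hb, rfl⟩ := h
  obtain ⟨c, d, hc, hd, rfl⟩ := h'
  exact ⟨a + c, b + d, isCharacter_add ha hc, isCharacter_add hb hd, by abel⟩

theorem isGenChar_sub {θ φ : G → ℂ} (h : Cfsg.IsGeneralizedCharacter G θ)
    (h' : Cfsg.IsGeneralizedCharacter G φ) : Cfsg.IsGeneralizedCharacter G (θ - φ) := by
  rw [sub_eq_add_neg]
  exact isGenChar_add h (isGenChar_neg h')

theorem isGenChar_isClassFunction {θ : G → ℂ} (h : Cfsg.IsGeneralizedCharacter G θ) :
    Cfsg.IsClassFunction G θ := by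
  obtain ⟨a, b, ha, hb, rfl⟩ := h
  exact isClassFunction_sub (isClassFunction_of_isCharacter ha) (isClassFunction_of_isCharacter hb)

theorem isGenChar_sum {ι : Type*} (s : Finset ι) (f : ι → G → ℂ)
    (h : ∀ i ∈ s, Cfsg.IsGeneralizedCharacter G (f i)) :
    Cfsg.IsGeneralizedCharacter G (∑ i ∈ s, f i) := by
  classical
  induction s using Finset.induction_on with
  | empty => simpa using isGenChar_zero
  | insert i s hi ih =>
    rw [Finset.sum_insert hi]
    exact isGenChar_add (h i (Finset.mem_insert_self i s))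
      (ih fun j hj => h j (Finset.mem_insert_of_mem hj))

/-- the value at 1 of a generalized character is an integer -/
theorem isGenChar_apply_one {θ : G → ℂ} (h : Cfsg.IsGeneralizedCharacter G θ) :
    ∃ m : ℤ, θ 1 = m := by
  obtain ⟨a, b, ha, hb, rfl⟩ := h
  obtain ⟨n, hn⟩ := isCharacter_apply_one ha
  obtain ⟨k, hk⟩ := isCharacter_apply_one hb
  exact ⟨(n : ℤ) - k, by simp [hn, hk]⟩

end Closure

section Inner
variable {G : Type*} [Group G] [Fintype G]

/-- The inner product of two generalized characters is an integer. -/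
theorem classInner_genChar_int {θ φ : G → ℂ} (hθ : Cfsg.IsGeneralizedCharacter G θ)
    (hφ : Cfsg.IsGeneralizedCharacter G φ) : ∃ m : ℤ, Cfsg.classInner θ φ = m := by
  obtain ⟨a, b, ha, hb, rfl⟩ := hθ
  obtain ⟨c, d, hc, hd, rfl⟩ := hφ
  obtain ⟨m1, h1⟩ := classInner_char_nat ha hc
  obtain ⟨m2, h2⟩ := classInner_char_nat ha hd
  obtain ⟨m3, h3⟩ := classInner_char_nat hb hc
  obtain ⟨m4, h4⟩ := classInner_char_nat hb hd
  refine ⟨(m1 : ℤ) - m2 - m3 + m4, ?_⟩
  rw [classInner_sub_left, classInner_sub_right, classInner_sub_right, h1, h2, h3, h4]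
  push_cast
  ring

theorem classInner_int_symm {θ φ : G → ℂ} {m : ℤ} (h : Cfsg.classInner θ φ = m) :
    Cfsg.classInner φ θ = m := by
  rw [← classInner_conj_symm, h]; exact map_intCast _ m

/-- The norm of a generalized character is the sum of the squares of its multiplicities. -/
theorem genChar_norm [Fintype (Cfsg.IrrCharacter G)] {θ : G → ℂ}
    (hθ : Cfsg.IsGeneralizedCharacter G θ) (m : Cfsg.IrrCharacter G → ℤ)
    (hm : ∀ χ : Cfsg.IrrCharacter G, Cfsg.classInner θ (χ : G → ℂ) = m χ) :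
    Cfsg.classInner θ θ = ((∑ χ : Cfsg.IrrCharacter G, m χ * m χ : ℤ) : ℂ) := by
  rw [classInner_eq_sum_mult θ θ (isGenChar_isClassFunction hθ)]
  push_cast
  refine Finset.sum_congr rfl fun χ _ => ?_
  rw [classInner_int_symm (hm χ), hm χ]

theorem genChar_expansion [Fintype (Cfsg.IrrCharacter G)] {θ : G → ℂ}
    (hθ : Cfsg.IsGeneralizedCharacter G θ) (m : Cfsg.IrrCharacter G → ℤ)
    (hm : ∀ χ : Cfsg.IrrCharacter G, Cfsg.classInner θ (χ : G → ℂ) = m χ) :
    θ = ∑ χ : Cfsg.IrrCharacter G, (m χ : ℂ) • (χ : G → ℂ) := by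
  conv_lhs => rw [class_function_expansion θ (isGenChar_isClassFunction hθ)]
  refine Finset.sum_congr rfl fun χ _ => ?_
  rw [hm χ]

end Inner

section IntSums
variable {ι : Type*} [Fintype ι] [DecidableEq ι]

theorem int_sq_sum_one (m : ι → ℤ) (h : ∑ i, m i * m i = 1) :
    ∃ i₀, (m i₀ = 1 ∨ m i₀ = -1) ∧ ∀ i, i ≠ i₀ → m i = 0 := by
  have hex : ∃ i₀, m i₀ ≠ 0 := by
    by_contra hne
    push Not at hne
    simp [hne] at h
  obtain ⟨i₀, hi₀⟩ := hex
  have hnn : ∀ i, 0 ≤ m i * m i := fun i => mul_self_nonneg _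
  have hle : ∀ i, i ≠ i₀ → m i = 0 := by
    intro i hne
    by_contra hi
    have h4 : m i₀ * m i₀ + m i * m i ≤ ∑ i, m i * m i := by
      rw [← Finset.sum_pair (f := fun i => m i * m i) hne.symm]
      exact Finset.sum_le_sum_of_subset_of_nonneg (Finset.subset_univ _) (fun j _ _ => hnn j)
    have h5 : 1 ≤ m i₀ * m i₀ := by
      have := mul_self_pos.mpr hi₀
      omega
    have h6 : 1 ≤ m i * m i := by
      have := mul_self_pos.mpr hi
      omega
    omega
  refine ⟨i₀, ?_, hle⟩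
  rw [Finset.sum_eq_single i₀ (fun i _ hne => by rw [hle i hne]; rfl)
    (fun h => absurd (Finset.mem_univ _) h)] at h
  have : (m i₀ - 1) * (m i₀ + 1) = 0 := by linear_combination h
  rcases mul_eq_zero.mp this with h1 | h1
  · left; omega
  · right; omega

theorem int_sq_sum_two (m : ι → ℤ) (h : ∑ i, m i * m i = 2) :
    ∃ i₁ i₂, i₁ ≠ i₂ ∧ (m i₁ = 1 ∨ m i₁ = -1) ∧ (m i₂ = 1 ∨ m i₂ = -1) ∧
      ∀ i, i ≠ i₁ → i ≠ i₂ → m i = 0 := by
  have hnn : ∀ i, 0 ≤ m i * m i := fun i => mul_self_nonneg _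
  have hsingle : ∀ i, m i * m i ≤ 2 := by
    intro i
    rw [← h]
    exact Finset.single_le_sum (fun j _ => hnn j) (Finset.mem_univ i)
  have hunit : ∀ i, m i ≠ 0 → (m i = 1 ∨ m i = -1) := by
    intro i hi
    have h2 := hsingle i
    have h3 : -1 ≤ m i := by nlinarith
    have h4 : m i ≤ 1 := by nlinarith
    have : m i = -1 ∨ m i = 0 ∨ m i = 1 := by omega
    rcases this with h | h | h
    · right; exact h
    · exact absurd h hi
    · left; exact h
  have hex : ∃ i₁, m i₁ ≠ 0 := by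
    by_contra hne
    push Not at hne
    simp [hne] at h
  obtain ⟨i₁, hi₁⟩ := hex
  have h1sq : m i₁ * m i₁ = 1 := by
    rcases hunit i₁ hi₁ with h | h <;> rw [h] <;> norm_num
  have hex2 : ∃ i₂, i₂ ≠ i₁ ∧ m i₂ ≠ 0 := by
    by_contra hne
    push Not at hne
    rw [Finset.sum_eq_single i₁ (fun i _ hi => by rw [hne i hi]; rfl)
      (fun h => absurd (Finset.mem_univ _) h)] at h
    omega
  obtain ⟨i₂, hne12, hi₂⟩ := hex2
  have h2sq : m i₂ * m i₂ = 1 := by
    rcases hunit i₂ hi₂ with h | h <;> rw [h] <;> norm_num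
  refine ⟨i₁, i₂, hne12.symm, hunit i₁ hi₁, hunit i₂ hi₂, ?_⟩
  intro i hi1 hi2
  by_contra hi
  have h3sq : m i * m i = 1 := by
    rcases hunit i hi with h | h <;> rw [h] <;> norm_num
  have h4 : m i₁ * m i₁ + (m i₂ * m i₂ + m i * m i) ≤ ∑ i, m i * m i := by
    have hs : ({i₁, i₂, i} : Finset ι) ⊆ Finset.univ := Finset.subset_univ _
    have := Finset.sum_le_sum_of_subset_of_nonneg (f := fun i => m i * m i) hs (fun j _ _ => hnn j)
    rw [Finset.sum_insert, Finset.sum_insert, Finset.sum_singleton] at this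
    · exact this
    · simp [Ne.symm hi2]
    · simp [hne12.symm, Ne.symm hi1]
  omega

end IntSums

section Structure
variable {G : Type*} [Group G] [Fintype G]

/-- A generalized character of norm one is an irreducible character up to sign. -/
theorem genChar_norm_one {θ : G → ℂ} (hθ : Cfsg.IsGeneralizedCharacter G θ)
    (h1 : Cfsg.classInner θ θ = 1) :
    ∃ ψ : G → ℂ, Cfsg.IsIrrCharacter G ψ ∧ (θ = ψ ∨ θ = -ψ) := by
  classical
  have : Fintype (Cfsg.IrrCharacter G) := Fintype.ofFinite _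
  have hm : ∀ χ : Cfsg.IrrCharacter G, ∃ m : ℤ, Cfsg.classInner θ (χ : G → ℂ) = m :=
    fun χ => classInner_genChar_int hθ (isGenChar_of_irr χ.2)
  choose m hm using hm
  have hn := genChar_norm hθ m hm
  rw [h1] at hn
  have hsum : ∑ χ : Cfsg.IrrCharacter G, m χ * m χ = 1 := by exact_mod_cast hn.symm
  obtain ⟨χ₀, h0, hrest⟩ := int_sq_sum_one m hsum
  have hexp := genChar_expansion hθ m hm
  rw [Finset.sum_eq_single χ₀ (fun χ _ hne => by rw [hrest χ hne]; simp)
    (fun h => absurd (Finset.mem_univ _) h)] at hexp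
  refine ⟨χ₀, χ₀.2, ?_⟩
  rcases h0 with h | h
  · left; rw [hexp, h]; simp
  · right; rw [hexp, h]; simp

/-- A generalized character of norm two is a signed sum of two distinct irreducible characters. -/
theorem genChar_norm_two {θ : G → ℂ} (hθ : Cfsg.IsGeneralizedCharacter G θ)
    (h2 : Cfsg.classInner θ θ = 2) :
    ∃ ψ₁ ψ₂ : G → ℂ, Cfsg.IsIrrCharacter G ψ₁ ∧ Cfsg.IsIrrCharacter G ψ₂ ∧ ψ₁ ≠ ψ₂ ∧
      ∃ a₁ a₂ : ℂ, (a₁ = 1 ∨ a₁ = -1) ∧ (a₂ = 1 ∨ a₂ = -1) ∧ θ = a₁ • ψ₁ + a₂ • ψ₂ := by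
  classical
  have : Fintype (Cfsg.IrrCharacter G) := Fintype.ofFinite _
  have hm : ∀ χ : Cfsg.IrrCharacter G, ∃ m : ℤ, Cfsg.classInner θ (χ : G → ℂ) = m :=
    fun χ => classInner_genChar_int hθ (isGenChar_of_irr χ.2)
  choose m hm using hm
  have hn := genChar_norm hθ m hm
  rw [h2] at hn
  have hsum : ∑ χ : Cfsg.IrrCharacter G, m χ * m χ = 2 := by exact_mod_cast hn.symm
  obtain ⟨χ₁, χ₂, hne, h1, h2', hrest⟩ := int_sq_sum_two m hsum
  have hexp := genChar_expansion hθ m hm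
  have hsub : ∑ χ : Cfsg.IrrCharacter G, (m χ : ℂ) • (χ : G → ℂ)
      = ∑ χ ∈ ({χ₁, χ₂} : Finset (Cfsg.IrrCharacter G)), (m χ : ℂ) • (χ : G → ℂ) := by
    symm
    apply Finset.sum_subset (Finset.subset_univ _)
    intro χ _ hχ
    simp only [Finset.mem_insert, Finset.mem_singleton, not_or] at hχ
    rw [hrest χ hχ.1 hχ.2]; simp
  rw [hsub, Finset.sum_pair hne] at hexp
  refine ⟨χ₁, χ₂, χ₁.2, χ₂.2, fun h => hne (Subtype.ext h), (m χ₁ : ℂ), (m χ₂ : ℂ), ?_, ?_, hexp⟩
  · rcases h1 with h | h <;> rw [h] <;> simp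
  · rcases h2' with h | h <;> rw [h] <;> simp

end Structure

end Cfsg.Agent.Lib.Helper4
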