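import Mathlib
import Cfsg.Prelude.Def_Characters
import Cfsg.Agent.Lib.Helper1.CharCenter
import Cfsg.Agent.Lib.Helper1.LinearChar

set_option autoImplicit false

namespace Cfsg.Agent.Lib.Helper4

open Cfsg.Agent.Lib.Helper1
open scoped ComplexConjugate

section AbelianIrr
variable {A : Type*} [Group A]

/-- An irreducible representation of an abelian group on `Fin n → ℂ` has `n = 1`. -/
theorem dim_one_of_comm (hcomm : ∀ a b : A, a * b = b * a) {n : ℕ}
    (ρ : Representation ℂ A (Fin n → ℂ)) [hρ : ρ.IsIrreducible] : n = 1 := by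
  classical
  have hn0 : (Module.finrank ℂ (Fin n → ℂ) : ℂ) ≠ 0 := finrank_ne_zero_of_irreducible ρ
  have hn : n ≠ 0 := by
    intro h
    apply hn0
    rw [Module.finrank_fin_fun, h]
    simp
  have hsc : ∀ g : A, ∃ c : ℂ, ρ g = c • LinearMap.id := by
    intro g
    apply central_scalar ρ
    rw [Subgroup.mem_center_iff]
    intro h
    exact hcomm h g
  obtain ⟨i⟩ : Nonempty (Fin n) := ⟨⟨0, Nat.pos_of_ne_zero hn⟩⟩
  set v : Fin n → ℂ := Pi.single i 1 with hv
  have hv0 : v ≠ 0 := by
    intro h
    have := congrFun h i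
    simp [hv] at this
  let W : Subrepresentation ρ :=
    { toSubmodule := Submodule.span ℂ {v}
      apply_mem_toSubmodule := by
        intro g w hw
        obtain ⟨c, hc⟩ := hsc g
        rw [hc]
        simp only [LinearMap.smul_apply, LinearMap.id_coe, id_eq]
        exact Submodule.smul_mem _ c hw }
  rcases hρ.eq_bot_or_eq_top W with h | h
  · exfalso
    have h1 := congrArg Subrepresentation.toSubmodule h
    have h2 : v ∈ (⊥ : Subrepresentation ρ).toSubmodule := by
      rw [← h1]
      exact Submodule.mem_span_singleton_self v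
    have h3 : (⊥ : Subrepresentation ρ).toSubmodule = ⊥ := rfl
    rw [h3, Submodule.mem_bot] at h2
    exact hv0 h2
  · have h1 := congrArg Subrepresentation.toSubmodule h
    have h2 : Submodule.span ℂ {v} = ⊤ := by
      have : (⊤ : Subrepresentation ρ).toSubmodule = ⊤ := rfl
      rw [← this, ← h1]
    have h3 := finrank_span_singleton (K := ℂ) hv0
    rw [h2, finrank_top, Module.finrank_fin_fun] at h3
    exact h3

/-- Irreducible characters of abelian groups are linear. -/
theorem exists_hom_of_comm (hcomm : ∀ a b : A, a * b = b * a) {ψ : A → ℂ}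
    (hψ : Cfsg.IsIrrCharacter A ψ) : ∃ φ : A →* ℂˣ, ψ = fun g => (φ g : ℂ) := by
  apply exists_hom_of_isIrrCharacter hψ
  obtain ⟨n, ρ, hρ, rfl⟩ := hψ
  have := dim_one_of_comm hcomm ρ
  subst this
  rw [Representation.char_one]
  simp

end AbelianIrr

end Cfsg.Agent.Lib.Helper4
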