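import Mathlib
import Cfsg.Prelude.Def_Characters
import Cfsg.Agent.Lib.Helper1.CharCenter
import Cfsg.Agent.Lib.Helper1.LinearChar
import Cfsg.Agent.Lib.Helper1.CharFound6
import Cfsg.Agent.Lib.Helper4.AbelianIrr
import Cfsg.Agent.S0148

set_option autoImplicit false

namespace Cfsg.Agent.Lib.Helper4

open Cfsg.Agent.Lib.Helper1
open scoped ComplexConjugate

section Congr

/-- A `p`-th root of unity is congruent to `1` modulo `1 - ε`. -/
theorem root_sub_one (p : ℕ) (hp : p.Prime) (z : ℂ) (hz : z ^ p = 1) :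
    ∃ ω : ℂ, IsIntegral ℤ ω ∧ z - 1 = (1 - Complex.exp (2 * Real.pi * Complex.I / p)) * ω := by
  have hε := Complex.isPrimitiveRoot_exp p hp.ne_zero
  set ε := Complex.exp (2 * Real.pi * Complex.I / p) with hεdef
  have : NeZero p := ⟨hp.ne_zero⟩
  obtain ⟨j, _, hj⟩ := hε.eq_pow_of_pow_eq_one hz
  have hεint : IsIntegral ℤ ε := hε.isIntegral hp.pos
  refine ⟨-∑ i ∈ Finset.range j, ε ^ i, ?_, ?_⟩
  · exact (IsIntegral.sum _ fun i _ => hεint.pow i).neg
  · rw [← hj]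
    have := geom_sum_mul ε j
    linear_combination -this

variable {G : Type*} [Group G] [Finite G]

/-- Congruence for character values: `χ(xy) ≡ χ(y)` modulo `1 - ε` when `x` has order `p` and
commutes with `y`. -/
theorem character_congr (χ : G → ℂ) (hχ : Cfsg.IsCharacter G χ) (p : ℕ) (hp : p.Prime)
    (x y : G) (hx : orderOf x = p) (hxy : x * y = y * x) :
    ∃ ω : ℂ, IsIntegral ℤ ω ∧
      χ (x * y) - χ y = (1 - Complex.exp (2 * Real.pi * Complex.I / p)) * ω := by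
  classical
  set A : Subgroup G := Subgroup.closure {x, y} with hA
  have hcommS : ∀ a ∈ ({x, y} : Set G), ∀ b ∈ ({x, y} : Set G), a * b = b * a := by
    intro a ha b hb
    simp only [Set.mem_insert_iff, Set.mem_singleton_iff] at ha hb
    rcases ha with rfl | rfl <;> rcases hb with rfl | rfl
    · rfl
    · exact hxy
    · exact hxy.symm
    · rfl
  have hcomm : ∀ a b : A, a * b = b * a := by
    intro a b
    exact (Subgroup.isMulCommutative_closure hcommS).is_comm.comm a b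
  have : Fintype A := Fintype.ofFinite A
  have : Fintype (Cfsg.IrrCharacter A) := Fintype.ofFinite _
  have hxA : x ∈ A := Subgroup.subset_closure (by simp)
  have hyA : y ∈ A := Subgroup.subset_closure (by simp)
  set χA : A → ℂ := fun a => χ a with hχA
  have hχAc : Cfsg.IsCharacter A χA := Cfsg.Agent.S0148.isCharacter_restrict A hχ
  have hm : ∀ ψ : Cfsg.IrrCharacter A, ∃ m : ℕ, Cfsg.classInner χA (ψ : A → ℂ) = m :=
    fun ψ => classInner_char_irr_nat hχAc ψ.2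
  choose m hm using hm
  have hexp := class_function_expansion χA (isClassFunction_of_isCharacter hχAc)
  have hφ : ∀ ψ : Cfsg.IrrCharacter A, ∃ φ : A →* ℂˣ, (ψ : A → ℂ) = fun g => (φ g : ℂ) :=
    fun ψ => exists_hom_of_comm hcomm ψ.2
  choose φ hφ using hφ
  have hω : ∀ ψ : Cfsg.IrrCharacter A, ∃ ω : ℂ, IsIntegral ℤ ω ∧
      ((φ ψ ⟨x, hxA⟩ : ℂˣ) : ℂ) - 1 = (1 - Complex.exp (2 * Real.pi * Complex.I / p)) * ω := by
    intro ψ
    apply root_sub_one p hp
    rw [← Units.val_pow_eq_pow_val, ← map_pow]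
    have : (⟨x, hxA⟩ : A) ^ p = 1 := by
      apply Subtype.ext
      rw [Subgroup.coe_pow, Subgroup.coe_one]
      show x ^ p = 1
      rw [← hx, pow_orderOf_eq_one]
    rw [this, map_one, Units.val_one]
  choose ω hωint hω using hω
  have hyint : ∀ ψ : Cfsg.IrrCharacter A, IsIntegral ℤ ((φ ψ ⟨y, hyA⟩ : ℂˣ) : ℂ) := by
    intro ψ
    apply IsIntegral.of_pow (n := Nat.card A) Nat.card_pos
    rw [← Units.val_pow_eq_pow_val, ← map_pow, pow_card_eq_one', map_one, Units.val_one]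
    exact isIntegral_one
  refine ⟨∑ ψ : Cfsg.IrrCharacter A, (m ψ : ℂ) * (((φ ψ ⟨y, hyA⟩ : ℂˣ) : ℂ) * ω ψ), ?_, ?_⟩
  · exact IsIntegral.sum _ fun ψ _ => (isIntegral_natCast (m ψ)).mul ((hyint ψ).mul (hωint ψ))
  · have h1 : ∀ a : A, χ a = ∑ ψ : Cfsg.IrrCharacter A, (m ψ : ℂ) * ((φ ψ a : ℂˣ) : ℂ) := by
      intro a
      have h2 : χ a = χA a := rfl
      rw [h2]
      conv_lhs => rw [hexp]
      rw [Finset.sum_apply]
      refine Finset.sum_congr rfl fun ψ _ => ?_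
      rw [Pi.smul_apply, hm ψ, smul_eq_mul]
      conv_lhs => rw [hφ ψ]
    have h3 := h1 (⟨x, hxA⟩ * ⟨y, hyA⟩)
    have h4 := h1 ⟨y, hyA⟩
    have h5 : ((⟨x, hxA⟩ * ⟨y, hyA⟩ : A) : G) = x * y := rfl
    rw [h5] at h3
    have h6 : ((⟨y, hyA⟩ : A) : G) = y := rfl
    rw [h6] at h4
    rw [h3, h4, ← Finset.sum_sub_distrib, Finset.mul_sum]
    refine Finset.sum_congr rfl fun ψ _ => ?_
    rw [map_mul, Units.val_mul]
    linear_combination (m ψ : ℂ) * ((φ ψ ⟨y, hyA⟩ : ℂˣ) : ℂ) * hω ψ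

/-- The same congruence for generalized characters. -/
theorem generalized_character_congr (χ : G → ℂ) (hχ : Cfsg.IsGeneralizedCharacter G χ) (p : ℕ)
    (hp : p.Prime) (x y : G) (hx : orderOf x = p) (hxy : x * y = y * x) :
    ∃ ω : ℂ, IsIntegral ℤ ω ∧
      χ (x * y) - χ y = (1 - Complex.exp (2 * Real.pi * Complex.I / p)) * ω := by
  obtain ⟨χ₁, χ₂, h1, h2, rfl⟩ := hχ
  obtain ⟨ω₁, hi1, hω1⟩ := character_congr χ₁ h1 p hp x y hx hxy
  obtain ⟨ω₂, hi2, hω2⟩ := character_congr χ₂ h2 p hp x y hx hxy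
  refine ⟨ω₁ - ω₂, hi1.sub hi2, ?_⟩
  simp only [Pi.sub_apply]
  linear_combination hω1 - hω2

end Congr

end Cfsg.Agent.Lib.Helper4
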