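import Mathlib
import Cfsg.Prelude.Def_Characters
import Cfsg.Agent.Lib.Helper1.IndFun
import Cfsg.Agent.Lib.Helper1.CharFound7
import Cfsg.Agent.Lib.Helper4.Characters
import Cfsg.Agent.S0146

set_option autoImplicit false

namespace Cfsg.Agent.Lib.Helper4

open Cfsg.Agent.Lib.Helper1
open scoped ComplexConjugate

variable {G : Type*} [Group G]

/-- Conjugate of a function on a normal subgroup: `θ^g (h) = θ (g h g⁻¹)`. -/
def conjFn (H : Subgroup G) [hN : H.Normal] (θ : H → ℂ) (g : G) : H → ℂ :=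
  fun h => θ ⟨g * h * g⁻¹, hN.conj_mem h h.2 g⟩

theorem conjFn_apply (H : Subgroup G) [hN : H.Normal] (θ : H → ℂ) (g : G) (h : H) :
    conjFn H θ g h = θ ⟨g * h * g⁻¹, hN.conj_mem h h.2 g⟩ := rfl

theorem conjFn_one (H : Subgroup G) [hN : H.Normal] (θ : H → ℂ) : conjFn H θ 1 = θ := by
  funext h
  simp [conjFn]

theorem conjFn_mul (H : Subgroup G) [hN : H.Normal] (θ : H → ℂ) (g g₀ : G) :
    conjFn H θ (g * g₀) = conjFn H (conjFn H θ g) g₀ := by
  funext h
  simp only [conjFn]
  congr 1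
  apply Subtype.ext
  simp [mul_assoc]

theorem extendByZero_conj (H : Subgroup G) [hN : H.Normal] (θ : H → ℂ) (g : G) (h : H) :
    Cfsg.extendByZero H θ (g * h * g⁻¹) = conjFn H θ g h := by
  rw [extendByZero_of_mem H θ (hN.conj_mem h h.2 g)]
  rfl

theorem indFun_normal_apply [Fintype G] (H : Subgroup G) [hN : H.Normal] (θ : H → ℂ) (h : H) :
    Cfsg.indFun H θ h = (Nat.card H : ℂ)⁻¹ * ∑ g : G, conjFn H θ g h := by
  rw [indFun_apply]
  congr 1
  rw [← Equiv.sum_comp (Equiv.inv G)]
  refine Finset.sum_congr rfl fun x _ => ?_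
  rw [← extendByZero_conj]
  simp

theorem indFun_normal_of_notMem [Fintype G] (H : Subgroup G) [hN : H.Normal] (θ : H → ℂ) {g : G}
    (hg : g ∉ H) : Cfsg.indFun H θ g = 0 := by
  rw [indFun_apply]
  have : ∀ x : G, Cfsg.extendByZero H θ (x⁻¹ * g * x) = 0 := by
    intro x
    apply extendByZero_of_notMem
    intro hx
    apply hg
    have := hN.conj_mem _ hx x
    simpa [mul_assoc] using this
  simp [this]

/-- The fibre of `g ↦ θ^g` over `θ^{g₀}` has as many elements as the stabilizer of `θ`. -/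
theorem card_fiber_conjFn [Fintype G] (H : Subgroup G) [hN : H.Normal] (θ : H → ℂ) (g₀ : G) :
    Nat.card {g : G // conjFn H θ g = conjFn H θ g₀} = Nat.card {g : G // ∀ h : H, conjFn H θ g h = θ h} := by
  apply Nat.card_congr
  refine Equiv.subtypeEquiv (Equiv.mulRight g₀⁻¹) ?_
  intro g
  simp only [Equiv.coe_mulRight]
  constructor
  · intro hg h
    rw [conjFn_mul, hg, ← conjFn_mul, mul_inv_cancel, conjFn_one]
  · intro hg
    have : conjFn H θ (g * g₀⁻¹) = θ := funext hg
    have h2 : conjFn H θ g = conjFn H θ (g * g₀⁻¹ * g₀) := by simp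
    rw [h2, conjFn_mul, this]

theorem sum_conjFn [Fintype G] (H : Subgroup G) [hN : H.Normal] (θ : H → ℂ) :
    ∑ g : G, conjFn H θ g = (Nat.card {g : G // ∀ h : H, conjFn H θ g h = θ h} : ℂ) •
      ∑ᶠ ψ ∈ {ψ : H → ℂ | ∃ g : G, ψ = conjFn H θ g}, ψ := by
  classical
  have hset : {ψ : H → ℂ | ∃ g : G, ψ = conjFn H θ g}
      = ↑(Finset.univ.image (fun g : G => conjFn H θ g)) := by
    ext ψ
    simp only [Set.mem_setOf_eq, Finset.coe_image, Finset.coe_univ, Set.image_univ, Set.mem_range]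
    constructor
    · rintro ⟨g, rfl⟩; exact ⟨g, rfl⟩
    · rintro ⟨g, rfl⟩; exact ⟨g, rfl⟩
  rw [hset, finsum_mem_coe_finset]
  have := Finset.sum_comp (s := (Finset.univ : Finset G)) (fun ψ : H → ℂ => ψ) (fun g : G => conjFn H θ g)
  rw [this, Finset.smul_sum]
  refine Finset.sum_congr rfl fun ψ hψ => ?_
  obtain ⟨g₀, -, rfl⟩ := Finset.mem_image.mp hψ
  have hc : (Finset.univ.filter (fun a : G => conjFn H θ a = conjFn H θ g₀)).card
      = Nat.card {g : G // ∀ h : H, conjFn H θ g h = θ h} := by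
    rw [← card_fiber_conjFn H θ g₀, Nat.card_eq_fintype_card, Fintype.card_subtype]
  rw [hc, Nat.cast_smul_eq_nsmul]


theorem isIrrCharacter_conjFn (H : Subgroup G) [hN : H.Normal] {θ : H → ℂ}
    (hθ : Cfsg.IsIrrCharacter H θ) (g : G) : Cfsg.IsIrrCharacter H (conjFn H θ g) := by
  have := isIrrCharacter_comp_mulEquiv hθ (MulAut.conjNormal g : H ≃* H)
  convert this using 2
  simp only [conjFn]
  congr 1

/-- Restriction of the induced function to the normal subgroup. -/
theorem indFun_normal_restrict [Fintype G] (H : Subgroup G) [hN : H.Normal] (θ : H → ℂ) :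
    (fun h : H => Cfsg.indFun H θ h) = (Nat.card H : ℂ)⁻¹ • ∑ g : G, conjFn H θ g := by
  funext h
  rw [indFun_normal_apply]
  simp [Finset.sum_apply]

theorem indFun_conjFn [Fintype G] (H : Subgroup G) [hN : H.Normal] (θ : H → ℂ) (g : G) :
    Cfsg.indFun H (conjFn H θ g) = Cfsg.indFun H θ := by
  funext y
  by_cases hy : y ∈ H
  · lift y to H using hy
    rw [indFun_normal_apply, indFun_normal_apply]
    congr 1
    rw [← Equiv.sum_comp (Equiv.mulLeft g) (fun x => conjFn H θ x y)]
    refine Finset.sum_congr rfl fun x _ => ?_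
    rw [Equiv.coe_mulLeft, conjFn_mul]
  · rw [indFun_normal_of_notMem H _ hy, indFun_normal_of_notMem H _ hy]

/-- Inner product of functions induced from a normal subgroup. -/
theorem classInner_indFun_normal [Fintype G] (H : Subgroup G) [hN : H.Normal] [Fintype H]
    (φ θ : H → ℂ) :
    Cfsg.classInner (Cfsg.indFun H φ) (Cfsg.indFun H θ)
      = (Nat.card H : ℂ)⁻¹ * ∑ g : G, Cfsg.classInner φ (conjFn H θ g) := by
  classical
  rw [Cfsg.Agent.S0146.result H φ _ (indFun_isClassFunction H θ), indFun_normal_restrict,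
    classInner_smul_right, classInner_sum_right]
  simp

end Cfsg.Agent.Lib.Helper4
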