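import Mathlib
import Cfsg.Prelude.Def_Characters
import Cfsg.Agent.Lib.Helper4.Characters
import Cfsg.Agent.Lib.Helper1.CycloChar
import Cfsg.Agent.Lib.Helper1.CharFound6

set_option autoImplicit false

namespace Cfsg.Agent.Lib.Helper4

open Cfsg.Agent.Lib.Helper1
open scoped ComplexConjugate

section ExtendAut

/-- Every automorphism of a subfield of an algebraically closed field extends to the whole
field. -/
theorem exists_ringEquiv_extend {K L : Type*} [Field K] [Field L] [Algebra K L] [IsAlgClosed L]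
    (σ : K ≃+* K) :
    ∃ τ : L ≃+* L, ∀ z : K, τ (algebraMap K L z) = algebraMap K L (σ z) := by
  classical
  obtain ⟨ι, x, hx⟩ := exists_isTranscendenceBasis' K L
  have hcl : IsAlgClosure (Algebra.adjoin K (Set.range x)) L :=
    IsAlgClosed.isAlgClosure_of_transcendence_basis x hx
  have hai : AlgebraicIndependent K x := hx.1
  let f : MvPolynomial ι K ≃ₐ[K] Algebra.adjoin K (Set.range x) := hai.aevalEquiv
  let e : Algebra.adjoin K (Set.range x) ≃+* Algebra.adjoin K (Set.range x) :=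
    f.symm.toRingEquiv.trans ((MvPolynomial.mapEquiv ι σ).trans f.toRingEquiv)
  have he : ∀ z : K, e (algebraMap K (Algebra.adjoin K (Set.range x)) z)
      = algebraMap K (Algebra.adjoin K (Set.range x)) (σ z) := by
    intro z
    have h1 : f.symm (algebraMap K (Algebra.adjoin K (Set.range x)) z)
        = MvPolynomial.C z := by
      rw [AlgEquiv.commutes]
      rfl
    have h2 : (MvPolynomial.mapEquiv ι σ) (MvPolynomial.C z) = MvPolynomial.C (σ z) := by
      simp
    have h3 : f (MvPolynomial.C (σ z))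
        = algebraMap K (Algebra.adjoin K (Set.range x)) (σ z) := by
      rw [← MvPolynomial.algebraMap_eq, AlgEquiv.commutes]
    show f ((MvPolynomial.mapEquiv ι σ) (f.symm _)) = _
    rw [h1, h2, h3]
  refine ⟨IsAlgClosure.equivOfEquiv L L e, fun z => ?_⟩
  rw [IsScalarTower.algebraMap_apply K (Algebra.adjoin K (Set.range x)) L,
    IsAlgClosure.equivOfEquiv_algebraMap, he,
    ← IsScalarTower.algebraMap_apply K (Algebra.adjoin K (Set.range x)) L]

/-- For `m` coprime to `n` there is a field automorphism of `ℂ` raising every `n`-th root of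
unity to its `m`-th power. -/
theorem exists_complex_aut_pow (n m : ℕ) [NeZero n] (hm : m.Coprime n) :
    ∃ τ : ℂ ≃+* ℂ, ∀ c : ℂ, c ^ n = 1 → τ c = c ^ m := by
  have hcyc : IsCyclotomicExtension {n} ℚ (CyclotomicField n ℚ) :=
    CyclotomicField.instIsCyclotomicExtensionSingletonNatSetOfCharZero n ℚ
  have hfd : FiniteDimensional ℚ (CyclotomicField n ℚ) :=
    IsCyclotomicExtension.finiteDimensional {n} ℚ (CyclotomicField n ℚ)
  let ι : CyclotomicField n ℚ →ₐ[ℚ] ℂ := IsAlgClosed.lift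
  let _ : Algebra (CyclotomicField n ℚ) ℂ := ι.toRingHom.toAlgebra
  obtain ⟨σ, hσ⟩ := exists_aut_pow n (K := CyclotomicField n ℚ) m hm
  obtain ⟨τ, hτ⟩ := exists_ringEquiv_extend (K := CyclotomicField n ℚ) (L := ℂ) σ.toRingEquiv
  refine ⟨τ, fun c hc => ?_⟩
  obtain ⟨z, hz, hzc⟩ := exists_preimage_of_pow_eq_one n ι.toRingHom c hc
  have h1 : algebraMap (CyclotomicField n ℚ) ℂ z = c := hzc
  rw [← h1, hτ z]
  have h2 : σ.toRingEquiv z = z ^ m := hσ z hz
  rw [h2, map_pow]

end ExtendAut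

section Twist
variable {G : Type*} [Group G]

/-- Twisting a matrix representation by a ring endomorphism of `ℂ`. -/
noncomputable def twistRep (τ : ℂ →+* ℂ) {d : ℕ} (ρ : Representation ℂ G (Fin d → ℂ)) :
    Representation ℂ G (Fin d → ℂ) where
  toFun g := Matrix.toLin' ((LinearMap.toMatrix' (ρ g)).map τ)
  map_one' := by
    rw [map_one, Module.End.one_eq_id, LinearMap.toMatrix'_id, Matrix.map_one _ (map_zero τ) (map_one τ),
      Matrix.toLin'_one]
  map_mul' a b := by
    rw [map_mul, Module.End.mul_eq_comp, LinearMap.toMatrix'_comp, Matrix.map_mul, Matrix.toLin'_mul]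
    rfl

theorem twistRep_character (τ : ℂ →+* ℂ) {d : ℕ} (ρ : Representation ℂ G (Fin d → ℂ)) (g : G) :
    (twistRep τ ρ).character g = τ (ρ.character g) := by
  unfold Representation.character
  show LinearMap.trace ℂ _ (Matrix.toLin' ((LinearMap.toMatrix' (ρ g)).map τ)) = _
  rw [Matrix.trace_toLin'_eq]
  have h1 : LinearMap.trace ℂ _ (ρ g) = (LinearMap.toMatrix' (ρ g)).trace := by
    conv_lhs => rw [← Matrix.toLin'_toMatrix' (ρ g)]
    rw [Matrix.trace_toLin'_eq]
  rw [h1]
  exact (AddMonoidHom.map_trace τ _).symm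

theorem isCharacter_twist (τ : ℂ →+* ℂ) {χ : G → ℂ} (hχ : Cfsg.IsCharacter G χ) :
    Cfsg.IsCharacter G (fun g => τ (χ g)) := by
  obtain ⟨d, ρ, rfl⟩ := hχ
  exact ⟨d, twistRep τ ρ, funext fun g => twistRep_character τ ρ g⟩

variable [Finite G]

theorem twist_apply (τ : ℂ →+* ℂ) (n m : ℕ) (hτ : ∀ c : ℂ, c ^ n = 1 → τ c = c ^ m)
    {χ : G → ℂ} (hχ : Cfsg.IsCharacter G χ) (g : G) (hg : g ^ n = 1) :
    τ (χ g) = χ (g ^ m) := by
  obtain ⟨ι', _, mult, c, hc, hsum⟩ := character_pow_eq_sum hχ g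
  have hdvd : orderOf g ∣ n := orderOf_dvd_of_pow_eq_one hg
  have hc' : ∀ j, c j ^ n = 1 := by
    intro j
    obtain ⟨d, rfl⟩ := hdvd
    rw [pow_mul, hc j, one_pow]
  have h1 := hsum 1
  rw [pow_one] at h1
  rw [h1, hsum m, map_sum]
  refine Finset.sum_congr rfl fun j _ => ?_
  rw [map_mul, map_natCast, pow_one, hτ _ (hc' j)]

omit [Finite G] in
theorem isIrrCharacter_twist [Fintype G] (τ : ℂ →+* ℂ) {χ : G → ℂ}
    (hχ : Cfsg.IsIrrCharacter G χ) : Cfsg.IsIrrCharacter G (fun g => τ (χ g)) := by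
  have hc := isCharacter_of_irr hχ
  have hc' := isCharacter_twist τ hc
  apply isIrrCharacter_of_norm_one hc'
  have h1 := classInner_irr_self hχ
  unfold Cfsg.classInner at h1 ⊢
  have h2 : ∀ g : G, τ (χ g) * conj (τ (χ g)) = τ (χ g * conj (χ g)) := by
    intro g
    rw [← isCharacter_inv hc' g, ← isCharacter_inv hc g, map_mul]
  rw [Finset.sum_congr rfl fun g _ => h2 g, ← map_sum]
  have h3 : (Nat.card G : ℂ)⁻¹ = τ ((Nat.card G : ℂ)⁻¹) := by
    rw [map_inv₀, map_natCast]
  rw [h3, ← map_mul, h1, map_one]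

end Twist

end Cfsg.Agent.Lib.Helper4
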