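import Mathlib
import Cfsg.Prelude.Def_Characters
import Cfsg.Agent.Lib.Helper1.CliffordCorr

set_option autoImplicit false

namespace Cfsg.Agent.Lib.Helper4

open Cfsg.Agent.Lib.Helper1 Cfsg.Agent.S0193 Cfsg.Agent.S0194
open scoped ComplexConjugate

section CliffordInd
variable {G : Type*} [Group G] [Fintype G] (N : Subgroup G) [hN : N.Normal]

/-- Clifford correspondence (induction half): for the inertia group `T` of an irreducible
character `θ` of the normal subgroup `N`, induction to `G` sends the irreducible constituents of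
`θ^T` to irreducible characters, and distinct constituents to orthogonal ones. -/
theorem clifford_induction (θ : N → ℂ) (hθ : Cfsg.IsIrrCharacter N θ)
    (T : Subgroup G) [Fintype T] (hT : T = inertia N θ) (hNT : N ≤ T) :
    (∀ ψ : T → ℂ, Cfsg.IsIrrCharacter T ψ →
      Cfsg.classInner (Cfsg.indFun (N.subgroupOf T)
        (fun x => θ ⟨((x : T) : G), Subgroup.mem_subgroupOf.mp x.2⟩)) ψ ≠ 0 →
      Cfsg.IsIrrCharacter G (Cfsg.indFun T ψ)) ∧
    (∀ ψ ψ' : T → ℂ, Cfsg.IsIrrCharacter T ψ → Cfsg.IsIrrCharacter T ψ' →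
      Cfsg.classInner (Cfsg.indFun (N.subgroupOf T)
        (fun x => θ ⟨((x : T) : G), Subgroup.mem_subgroupOf.mp x.2⟩)) ψ ≠ 0 →
      Cfsg.classInner (Cfsg.indFun (N.subgroupOf T)
        (fun x => θ ⟨((x : T) : G), Subgroup.mem_subgroupOf.mp x.2⟩)) ψ' ≠ 0 →
      ψ ≠ ψ' → Cfsg.classInner (Cfsg.indFun T ψ) (Cfsg.indFun T ψ') = 0) := by
  classical
  have : Fintype N := Fintype.ofFinite N
  have : Fintype (Cfsg.IrrCharacter T) := Fintype.ofFinite _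
  set N' : Subgroup T := N.subgroupOf T with hN'
  have hN'n : N'.Normal := inferInstance
  have : Fintype N' := Fintype.ofFinite _
  let e : N' ≃* N := Subgroup.subgroupOfEquivOfLe hNT
  set θ' : N' → ℂ := fun x => θ ⟨((x : T) : G), Subgroup.mem_subgroupOf.mp x.2⟩ with hθ'
  have hθ'irr : Cfsg.IsIrrCharacter N' θ' := isIrrCharacter_comp_mulEquiv hθ e
  set Θ : T → ℂ := Cfsg.indFun N' θ' with hΘ
  have hΘc : Cfsg.IsCharacter T Θ := Cfsg.Agent.S0148.result N' θ' (isCharacter_of_irr hθ'irr)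
  have htrans : Cfsg.indFun T Θ = Cfsg.indFun N θ := Cfsg.Agent.S0147.result N T hNT θ
  have hcardN : Nat.card N' = Nat.card N := Nat.card_congr e.toEquiv
  have hN0 : (Nat.card N : ℂ) ≠ 0 := Nat.cast_ne_zero.2 Nat.card_pos.ne'
  -- every element of T fixes θ'
  have hfix : ∀ (t : T) (h : N'), θ' ⟨t * h * t⁻¹, hN'n.conj_mem h h.2 t⟩ = θ' h := by
    intro t h
    have ht : conjFun N θ (t : G) = θ := by
      have h1 : (t : G) ∈ inertia N θ := by rw [← hT]; exact t.2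
      exact h1
    exact congrFun ht (e h)
  have hnormT : (Nat.card N : ℂ) * Cfsg.classInner Θ Θ = Nat.card T := by
    have := Cfsg.Agent.S0193.result N' θ' hθ'irr
    rw [hcardN] at this
    rw [this]
    congr 1
    exact Nat.card_congr (Equiv.subtypeUnivEquiv hfix)
  have hnormG : (Nat.card N : ℂ) * Cfsg.classInner (Cfsg.indFun N θ) (Cfsg.indFun N θ)
      = Nat.card T := by
    rw [Cfsg.Agent.S0193.result N θ hθ]
    congr 1
    apply Nat.card_congr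
    refine Equiv.subtypeEquivRight fun g => ?_
    rw [hT, mem_inertia]
    constructor
    · intro h
      funext x
      exact h x
    · intro h x
      exact congrFun h x
  -- multiplicities
  have hm : ∀ ψ : Cfsg.IrrCharacter T, ∃ m : ℕ, Cfsg.classInner Θ (ψ : T → ℂ) = m :=
    fun ψ => classInner_char_irr_nat hΘc ψ.2
  choose m hm using hm
  have hexp : Θ = ∑ ψ : Cfsg.IrrCharacter T, (m ψ : ℂ) • (ψ : T → ℂ) := by
    have := class_function_expansion Θ (isClassFunction_of_isCharacter hΘc)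
    rw [Finset.sum_congr rfl (fun ψ _ => by rw [hm ψ])] at this
    exact this
  have hΦexp : Cfsg.indFun N θ
      = ∑ ψ : Cfsg.IrrCharacter T, (m ψ : ℂ) • Cfsg.indFun T (ψ : T → ℂ) := by
    rw [← htrans]
    conv_lhs => rw [hexp]
    rw [indFun_sum]
    exact Finset.sum_congr rfl fun ψ _ => indFun_smul T _ _
  have hIc : ∀ ψ : Cfsg.IrrCharacter T, Cfsg.IsCharacter G (Cfsg.indFun T (ψ : T → ℂ)) :=
    fun ψ => Cfsg.Agent.S0148.result T ψ (isCharacter_of_irr ψ.2)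
  have ha : ∀ ψ ψ' : Cfsg.IrrCharacter T, ∃ a : ℕ,
      Cfsg.classInner (Cfsg.indFun T (ψ : T → ℂ)) (Cfsg.indFun T (ψ' : T → ℂ)) = a :=
    fun ψ ψ' => classInner_char_nat (hIc ψ) (hIc ψ')
  choose a ha using ha
  have ha1 : ∀ ψ : Cfsg.IrrCharacter T, 1 ≤ a ψ ψ := by
    intro ψ
    by_contra hlt
    have h0 : a ψ ψ = 0 := by omega
    have h1 := ha ψ ψ
    rw [h0, Nat.cast_zero] at h1
    have h2 := eq_zero_of_classInner_self_eq_zero h1 1
    rw [Cfsg.Agent.S0170.indFun_one] at h2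
    obtain ⟨k, hk0, hk⟩ := irr_apply_one_pos ψ.2
    rw [hk] at h2
    have hT0 : (Nat.card T : ℂ) ≠ 0 := Nat.cast_ne_zero.2 Nat.card_pos.ne'
    have hG0 : (Nat.card G : ℂ) ≠ 0 := Nat.cast_ne_zero.2 Nat.card_pos.ne'
    have hk0' : (k : ℂ) ≠ 0 := Nat.cast_ne_zero.2 hk0.ne'
    exact mul_ne_zero (inv_ne_zero hT0) (mul_ne_zero hG0 hk0') h2
  -- norm computations
  have hΘnorm : Cfsg.classInner Θ Θ = ((∑ ψ : Cfsg.IrrCharacter T, m ψ * m ψ : ℕ) : ℂ) := by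
    rw [classInner_eq_sum_mult Θ Θ (isClassFunction_of_isCharacter hΘc)]
    push_cast
    refine Finset.sum_congr rfl fun ψ _ => ?_
    rw [← classInner_conj_symm (Θ) (ψ : T → ℂ), hm]
    simp
  have hΦnorm : Cfsg.classInner (Cfsg.indFun N θ) (Cfsg.indFun N θ)
      = ((∑ ψ : Cfsg.IrrCharacter T, ∑ ψ' : Cfsg.IrrCharacter T, m ψ * m ψ' * a ψ ψ' : ℕ) : ℂ) := by
    rw [hΦexp, classInner_sum_left]
    push_cast
    refine Finset.sum_congr rfl fun ψ _ => ?_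
    rw [classInner_smul_left, classInner_sum_right, Finset.mul_sum]
    refine Finset.sum_congr rfl fun ψ' _ => ?_
    rw [classInner_smul_right, ha]
    simp
    ring
  have hsumeq : ∑ ψ : Cfsg.IrrCharacter T, m ψ * m ψ
      = ∑ ψ : Cfsg.IrrCharacter T, ∑ ψ' : Cfsg.IrrCharacter T, m ψ * m ψ' * a ψ ψ' := by
    have h1 : (Nat.card N : ℂ) * ((∑ ψ : Cfsg.IrrCharacter T, m ψ * m ψ : ℕ) : ℂ)
        = (Nat.card N : ℂ) * ((∑ ψ : Cfsg.IrrCharacter T, ∑ ψ' : Cfsg.IrrCharacter T,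
            m ψ * m ψ' * a ψ ψ' : ℕ) : ℂ) := by
      rw [← hΘnorm, ← hΦnorm, hnormT, hnormG]
    have h2 := mul_left_cancel₀ hN0 h1
    exact_mod_cast h2
  have hle : ∀ ψ ∈ (Finset.univ : Finset (Cfsg.IrrCharacter T)),
      m ψ * m ψ ≤ ∑ ψ' : Cfsg.IrrCharacter T, m ψ * m ψ' * a ψ ψ' := by
    intro ψ _
    calc m ψ * m ψ ≤ m ψ * m ψ * a ψ ψ := Nat.le_mul_of_pos_right _ (ha1 ψ)
      _ ≤ _ := Finset.single_le_sum (f := fun ψ' => m ψ * m ψ' * a ψ ψ')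
          (fun _ _ => Nat.zero_le _) (Finset.mem_univ ψ)
  have hrow : ∀ ψ : Cfsg.IrrCharacter T,
      m ψ * m ψ = ∑ ψ' : Cfsg.IrrCharacter T, m ψ * m ψ' * a ψ ψ' := fun ψ =>
    (Finset.sum_eq_sum_iff_of_le hle).1 hsumeq ψ (Finset.mem_univ ψ)
  have hkey : ∀ ψ : Cfsg.IrrCharacter T, m ψ ≠ 0 → a ψ ψ = 1 := by
    intro ψ hmψ
    have h1 := hrow ψ
    have h2 : m ψ * m ψ * a ψ ψ ≤ m ψ * m ψ :=
      (Finset.single_le_sum (f := fun ψ' => m ψ * m ψ' * a ψ ψ')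
          (fun _ _ => Nat.zero_le _) (Finset.mem_univ ψ)).trans_eq h1.symm
    have h3 : 0 < m ψ * m ψ := Nat.mul_pos (Nat.pos_of_ne_zero hmψ) (Nat.pos_of_ne_zero hmψ)
    have h4 : a ψ ψ ≤ 1 := by
      by_contra hgt
      push Not at hgt
      have : m ψ * m ψ * 2 ≤ m ψ * m ψ * a ψ ψ := Nat.mul_le_mul_left _ hgt
      omega
    have := ha1 ψ
    omega
  have hoff : ∀ ψ ψ' : Cfsg.IrrCharacter T, m ψ ≠ 0 → m ψ' ≠ 0 → ψ ≠ ψ' → a ψ ψ' = 0 := by
    intro ψ ψ' hmψ hmψ' hne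
    have h1 := hrow ψ
    have h2 : m ψ * m ψ * a ψ ψ + m ψ * m ψ' * a ψ ψ'
        ≤ ∑ ψ'' : Cfsg.IrrCharacter T, m ψ * m ψ'' * a ψ ψ'' := by
      have hsub : ({ψ, ψ'} : Finset (Cfsg.IrrCharacter T)) ⊆ Finset.univ := Finset.subset_univ _
      have := Finset.sum_le_sum_of_subset (f := fun ψ'' => m ψ * m ψ'' * a ψ ψ'') hsub
      rwa [Finset.sum_pair hne] at this
    rw [← h1, hkey ψ hmψ, mul_one] at h2
    have h3 : m ψ * m ψ' * a ψ ψ' = 0 := by omega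
    rcases Nat.mul_eq_zero.1 h3 with h | h
    · rcases Nat.mul_eq_zero.1 h with h | h
      · exact absurd h hmψ
      · exact absurd h hmψ'
    · exact h
  have hmne : ∀ ψ : Cfsg.IrrCharacter T, Cfsg.classInner Θ (ψ : T → ℂ) ≠ 0 → m ψ ≠ 0 := by
    intro ψ h h0
    apply h
    rw [hm, h0]
    simp
  refine ⟨fun ψ hψ hc => ?_, fun ψ ψ' hψ hψ' hc hc' hne => ?_⟩
  · apply isIrrCharacter_of_norm_one (hIc ⟨ψ, hψ⟩)
    rw [ha ⟨ψ, hψ⟩ ⟨ψ, hψ⟩, hkey ⟨ψ, hψ⟩ (hmne ⟨ψ, hψ⟩ hc)]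
    simp
  · rw [ha ⟨ψ, hψ⟩ ⟨ψ', hψ'⟩, hoff ⟨ψ, hψ⟩ ⟨ψ', hψ'⟩ (hmne ⟨ψ, hψ⟩ hc) (hmne ⟨ψ', hψ'⟩ hc')
      (fun h => hne (congrArg Subtype.val h))]
    simp

end CliffordInd

end Cfsg.Agent.Lib.Helper4
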