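import Mathlib
import Cfsg.Prelude.Def_Characters
import Cfsg.Agent.Lib.Helper4.CliffordInd
import Cfsg.Agent.Lib.Helper4.IndNormal
import Cfsg.Agent.Lib.Helper1.LinearChar
import Cfsg.Agent.S4996

set_option autoImplicit false

namespace Cfsg.Agent.Lib.Helper4

open Cfsg.Agent.Lib.Helper1
open scoped ComplexConjugate

section Dual

/-- Orthogonality for the dual of a finite abelian group, at the identity. -/
theorem sum_hom_apply_one (A : Type*) [CommGroup A] [Finite A] [Fintype (A →* ℂˣ)] :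
    ∑ f : A →* ℂˣ, ((f 1 : ℂˣ) : ℂ) = (Nat.card A : ℂ) := by
  classical
  have hne : NeZero (Monoid.exponent A) := ⟨Monoid.exponent_ne_zero_of_finite⟩
  simp only [map_one, Units.val_one, Finset.sum_const, Finset.card_univ, nsmul_eq_mul, mul_one]
  rw [← Nat.card_eq_fintype_card, CommGroup.card_monoidHom_of_hasEnoughRootsOfUnity A ℂ]

/-- Orthogonality for the dual of a finite abelian group, off the identity. -/
theorem sum_hom_apply_ne (A : Type*) [CommGroup A] [Finite A] [Fintype (A →* ℂˣ)] {a : A}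
    (ha : a ≠ 1) : ∑ f : A →* ℂˣ, ((f a : ℂˣ) : ℂ) = 0 := by
  classical
  have hne : NeZero (Monoid.exponent A) := ⟨Monoid.exponent_ne_zero_of_finite⟩
  obtain ⟨μ, hμ⟩ := CommGroup.exists_apply_ne_one_of_hasEnoughRootsOfUnity A ℂ ha
  have h1 : ((μ a : ℂˣ) : ℂ) * ∑ f : A →* ℂˣ, ((f a : ℂˣ) : ℂ)
      = ∑ f : A →* ℂˣ, ((f a : ℂˣ) : ℂ) := by
    rw [Finset.mul_sum]
    refine Fintype.sum_equiv (Equiv.mulLeft μ) _ _ fun f => ?_
    simp
  have h2 : (((μ a : ℂˣ) : ℂ) - 1) * ∑ f : A →* ℂˣ, ((f a : ℂˣ) : ℂ) = 0 := by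
    rw [sub_mul, h1, one_mul, sub_self]
  rcases mul_eq_zero.1 h2 with h | h
  · exfalso
    apply hμ
    apply Units.ext
    rw [Units.val_one]
    linear_combination h
  · exact h

end Dual

section LinMul
variable {G : Type*} [Group G] [Fintype G]

theorem norm_hom_apply (f : G →* ℂˣ) (g : G) : ‖((f g : ℂˣ) : ℂ)‖ = 1 := by
  have h : ((f g : ℂˣ) : ℂ) ^ Fintype.card G = 1 := by
    rw [← Units.val_pow_eq_pow_val, ← map_pow, pow_card_eq_one, map_one, Units.val_one]
  exact Complex.norm_eq_one_of_pow_eq_one h Fintype.card_ne_zero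

/-- A linear character times an irreducible character is irreducible. -/
theorem isIrrCharacter_hom_mul (f : G →* ℂˣ) {ψ : G → ℂ} (hψ : Cfsg.IsIrrCharacter G ψ) :
    Cfsg.IsIrrCharacter G (fun g => ((f g : ℂˣ) : ℂ) * ψ g) := by
  have hc : Cfsg.IsCharacter G (fun g => ((f g : ℂˣ) : ℂ) * ψ g) :=
    Cfsg.Agent.S4996.isCharacter_mul (isCharacter_of_irr (isIrrCharacter_of_hom f))
      (isCharacter_of_irr hψ)
  apply isIrrCharacter_of_norm_one hc
  rw [← classInner_irr_self hψ]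
  unfold Cfsg.classInner
  congr 1
  refine Finset.sum_congr rfl fun g _ => ?_
  rw [map_mul]
  have h1 : ((f g : ℂˣ) : ℂ) * conj ((f g : ℂˣ) : ℂ) = 1 := by
    rw [Complex.mul_conj, Complex.normSq_eq_norm_sq, norm_hom_apply]
    simp
  linear_combination (ψ g * conj (ψ g)) * h1

end LinMul

section Gallagher
variable {G : Type*} [Group G] [Fintype G] (N : Subgroup G) [hN : N.Normal]

/-- The restriction to `N` of an irreducible character lying over a `G`-invariant irreducible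
character `θ` of `N` is a multiple of `θ`. -/
theorem restrict_of_invariant [Fintype N] (θ : N → ℂ) (hθ : Cfsg.IsIrrCharacter N θ)
    (hinv : ∀ (g : G) (n : N), θ ⟨g * n * g⁻¹, hN.conj_mem n n.2 g⟩ = θ n)
    (ψ : G → ℂ) (hψ : Cfsg.IsIrrCharacter G ψ)
    (hc : Cfsg.classInner (fun n : N => ψ n) θ ≠ 0) (n : N) :
    ψ n = Cfsg.classInner (fun n : N => ψ n) θ * θ n := by
  have hcl := Cfsg.Agent.S0174.result N hN ψ hψ θ hθ hc
  have hset : {φ : N → ℂ | ∃ t : G, φ = fun n : N => θ ⟨t * n * t⁻¹, hN.conj_mem n n.2 t⟩}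
      = {θ} := by
    ext φ
    simp only [Set.mem_ofPred_eq, Set.mem_singleton_iff]
    constructor
    · rintro ⟨t, rfl⟩
      funext n
      exact hinv t n
    · rintro rfl
      exact ⟨1, by funext n; exact (hinv 1 n).symm⟩
  rw [hset, finsum_mem_singleton] at hcl
  have := congrFun hcl n
  simpa using this

/-- Gallagher-type uniformity: if `G/N` is abelian and `θ` is a `G`-invariant irreducible
character of `N`, then all irreducible constituents of `θ^G` occur with the same multiplicity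
`e` and restrict to `e θ`. -/
theorem gallagher_abelian (hab : ∀ x y : G, x * y * x⁻¹ * y⁻¹ ∈ N)
    (θ : N → ℂ) (hθ : Cfsg.IsIrrCharacter N θ)
    (hinv : ∀ (g : G) (n : N), θ ⟨g * n * g⁻¹, hN.conj_mem n n.2 g⟩ = θ n) :
    ∃ e : ℕ, 0 < e ∧ ∀ ψ : G → ℂ, Cfsg.IsIrrCharacter G ψ →
      Cfsg.classInner (Cfsg.indFun N θ) ψ ≠ 0 →
      Cfsg.classInner (Cfsg.indFun N θ) ψ = e ∧ ∀ n : N, ψ n = e * θ n := by
  classical
  have : Fintype N := Fintype.ofFinite N
  let instQ : CommGroup (G ⧸ N) :=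
    { (inferInstance : Group (G ⧸ N)) with
      mul_comm := by
        intro a b
        induction a using QuotientGroup.induction_on with
        | H x =>
        induction b using QuotientGroup.induction_on with
        | H y =>
        rw [← QuotientGroup.mk_mul, ← QuotientGroup.mk_mul, QuotientGroup.eq]
        have := hab y⁻¹ x⁻¹
        simpa [mul_assoc] using this }
  have : Fintype ((G ⧸ N) →* ℂˣ) := Fintype.ofFinite _
  set Θ : G → ℂ := Cfsg.indFun N θ with hΘ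
  have hΘc : Cfsg.IsCharacter G Θ := Cfsg.Agent.S0148.result N θ (isCharacter_of_irr hθ)
  have hN0 : (Nat.card N : ℂ) ≠ 0 := Nat.cast_ne_zero.2 Nat.card_pos.ne'
  have hG0 : (Nat.card G : ℂ) ≠ 0 := Nat.cast_ne_zero.2 Nat.card_pos.ne'
  obtain ⟨k, hk0, hk⟩ := irr_apply_one_pos hθ
  have hΘ1 : Θ 1 ≠ 0 := by
    rw [hΘ, Cfsg.Agent.S0170.indFun_one, hk]
    exact mul_ne_zero (inv_ne_zero hN0) (mul_ne_zero hG0 (Nat.cast_ne_zero.2 hk0.ne'))
  obtain ⟨ψ₀, hψ₀, e, he0, he⟩ := exists_constituent hΘc hΘ1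
  -- restriction via reciprocity
  have hrec : ∀ ψ : G → ℂ, Cfsg.IsIrrCharacter G ψ →
      Cfsg.classInner (fun n : N => ψ n) θ = conj (Cfsg.classInner Θ ψ) := by
    intro ψ hψ
    rw [hΘ, Cfsg.Agent.S0146.result N θ ψ (isClassFunction_irr hψ), classInner_conj_symm]
  have hres₀ : ∀ n : N, ψ₀ n = e * θ n := by
    intro n
    have h1 := hrec ψ₀ hψ₀
    rw [he, Complex.conj_natCast] at h1
    have h2 := restrict_of_invariant N θ hθ hinv ψ₀ hψ₀
      (by rw [h1]; exact Nat.cast_ne_zero.2 he0.ne') n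
    rw [h1] at h2
    exact h2
  -- if ψ restricts to e θ then its multiplicity is e
  have hmult : ∀ ψ : G → ℂ, Cfsg.IsIrrCharacter G ψ → (∀ n : N, ψ n = e * θ n) →
      Cfsg.classInner Θ ψ = e := by
    intro ψ hψ hr
    rw [hΘ, Cfsg.Agent.S0146.result N θ ψ (isClassFunction_irr hψ)]
    have : (fun n : N => ψ n) = (e : ℂ) • θ := by
      funext n
      rw [hr n]
      rfl
    rw [this, classInner_smul_right, classInner_irr_self hθ, Complex.conj_natCast, mul_one]
  -- the key identity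
  have hcardQ : (Nat.card G : ℂ) = (Nat.card (G ⧸ N) : ℂ) * (Nat.card N : ℂ) := by
    rw [← Nat.cast_mul, ← Subgroup.card_eq_card_quotient_mul_card_subgroup]
  have hkey : (e : ℂ) • Θ = ∑ f : (G ⧸ N) →* ℂˣ,
      fun g : G => (((f.comp (QuotientGroup.mk' N)) g : ℂˣ) : ℂ) * ψ₀ g := by
    funext g
    rw [Pi.smul_apply, smul_eq_mul, Finset.sum_apply]
    simp only [MonoidHom.coe_comp, QuotientGroup.coe_mk', Function.comp_apply]
    rw [← Finset.sum_mul]
    by_cases hg : g ∈ N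
    · have h1 : (QuotientGroup.mk g : G ⧸ N) = 1 := (QuotientGroup.eq_one_iff g).2 hg
      rw [h1, sum_hom_apply_one]
      have h2 : Θ g = (Nat.card N : ℂ)⁻¹ * ((Nat.card G : ℂ) * θ ⟨g, hg⟩) := by
        have := indFun_normal_apply N θ ⟨g, hg⟩
        rw [hΘ]
        change Cfsg.indFun N θ g = _ at this
        rw [this]
        congr 1
        rw [Finset.sum_congr rfl (fun x _ => (conjFn_apply N θ x ⟨g, hg⟩).trans (hinv x ⟨g, hg⟩)),
          Finset.sum_const, Finset.card_univ, nsmul_eq_mul, Nat.card_eq_fintype_card]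
      rw [h2, hres₀ ⟨g, hg⟩, hcardQ]
      field_simp
    · have h1 : (QuotientGroup.mk g : G ⧸ N) ≠ 1 := fun h => hg ((QuotientGroup.eq_one_iff g).1 h)
      rw [sum_hom_apply_ne _ h1, hΘ, indFun_normal_of_notMem N θ hg]
      simp
  refine ⟨e, he0, fun ψ hψ hc => ?_⟩
  have h1 : Cfsg.classInner ((e : ℂ) • Θ) ψ ≠ 0 := by
    rw [classInner_smul_left]
    exact mul_ne_zero (Nat.cast_ne_zero.2 he0.ne') hc
  rw [hkey, classInner_sum_left] at h1
  obtain ⟨f, _, hf⟩ := Finset.exists_ne_zero_of_sum_ne_zero h1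
  have hirr := isIrrCharacter_hom_mul (f.comp (QuotientGroup.mk' N)) hψ₀
  have heq : (fun g : G => (((f.comp (QuotientGroup.mk' N)) g : ℂˣ) : ℂ) * ψ₀ g) = ψ := by
    by_contra hne
    exact hf (classInner_irr_ne hirr hψ hne)
  have hres : ∀ n : N, ψ n = e * θ n := by
    intro n
    rw [← heq]
    simp only [MonoidHom.coe_comp, QuotientGroup.coe_mk', Function.comp_apply]
    have h1 : (QuotientGroup.mk (n : G) : G ⧸ N) = 1 := (QuotientGroup.eq_one_iff _).2 n.2
    rw [h1, map_one, Units.val_one, one_mul, hres₀ n]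
  exact ⟨hmult ψ hψ hres, hres⟩

end Gallagher

section Assembly
variable {G : Type*} [Group G] [Fintype G] (H : Subgroup G) [hN : H.Normal]

open Cfsg.Agent.S0193 in
/-- Assembly step: given the uniform multiplicity `e` of the constituents of `θ^T` (`T` the
inertia group), `θ^G = e Σ_{χ ∈ C} χ` for a set `C` of irreducible characters of `G` of degree
`|G:T| e θ(1)`, with `e² |C| |H| = |T|`. -/
theorem induced_inertia_of_uniform (θ : H → ℂ) (hθ : Cfsg.IsIrrCharacter H θ)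
    (T : Subgroup G) [Fintype T] (hT : T = inertia H θ) (e : ℕ) (he0 : 0 < e)
    (hgal : ∀ ψ : T → ℂ, Cfsg.IsIrrCharacter T ψ →
      Cfsg.classInner (Cfsg.indFun (H.subgroupOf T)
        (fun x => θ ⟨((x : T) : G), Subgroup.mem_subgroupOf.mp x.2⟩)) ψ ≠ 0 →
      Cfsg.classInner (Cfsg.indFun (H.subgroupOf T)
        (fun x => θ ⟨((x : T) : G), Subgroup.mem_subgroupOf.mp x.2⟩)) ψ = e ∧
      ∀ n : H.subgroupOf T, ψ n = e * θ ⟨((n : T) : G), Subgroup.mem_subgroupOf.mp n.2⟩) :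
    ∃ (C : Finset (G → ℂ)), (∀ χ ∈ C, Cfsg.IsIrrCharacter G χ) ∧
      e ^ 2 * C.card * Nat.card H = Nat.card T ∧
      Cfsg.indFun H θ = (e : ℂ) • ∑ χ ∈ C, χ ∧
      ∀ χ ∈ C, χ 1 = (T.index : ℂ) * e * θ 1 := by
  classical
  have : Fintype H := Fintype.ofFinite H
  have : Fintype (Cfsg.IrrCharacter T) := Fintype.ofFinite _
  have hNT : H ≤ T := by
    rw [hT]
    exact le_inertia H (isClassFunction_irr hθ)
  set N' : Subgroup T := H.subgroupOf T with hN'
  have hN'n : N'.Normal := inferInstance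
  have : Fintype N' := Fintype.ofFinite _
  let eq : N' ≃* H := Subgroup.subgroupOfEquivOfLe hNT
  set θ' : N' → ℂ := fun x => θ ⟨((x : T) : G), Subgroup.mem_subgroupOf.mp x.2⟩ with hθ'
  have hθ'irr : Cfsg.IsIrrCharacter N' θ' := isIrrCharacter_comp_mulEquiv hθ eq
  set Θ : T → ℂ := Cfsg.indFun N' θ' with hΘ
  have hΘc : Cfsg.IsCharacter T Θ := Cfsg.Agent.S0148.result N' θ' (isCharacter_of_irr hθ'irr)
  have htrans : Cfsg.indFun T Θ = Cfsg.indFun H θ := Cfsg.Agent.S0147.result H T hNT θ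
  have hcardN : Nat.card N' = Nat.card H := Nat.card_congr eq.toEquiv
  have hN0 : (Nat.card H : ℂ) ≠ 0 := Nat.cast_ne_zero.2 Nat.card_pos.ne'
  have hT0 : (Nat.card T : ℂ) ≠ 0 := Nat.cast_ne_zero.2 Nat.card_pos.ne'
  have hfix : ∀ (t : T) (h : N'), θ' ⟨t * h * t⁻¹, hN'n.conj_mem h h.2 t⟩ = θ' h := by
    intro t h
    have ht : conjFun H θ (t : G) = θ := by
      have h1 : (t : G) ∈ inertia H θ := by rw [← hT]; exact t.2
      exact h1
    exact congrFun ht (eq h)
  have hnormT : (Nat.card H : ℂ) * Cfsg.classInner Θ Θ = Nat.card T := by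
    have := Cfsg.Agent.S0193.result N' θ' hθ'irr
    rw [hcardN] at this
    rw [this]
    congr 1
    exact Nat.card_congr (Equiv.subtypeUnivEquiv hfix)
  obtain ⟨hci1, hci2⟩ := clifford_induction H θ hθ T hT hNT
  set CT : Finset (Cfsg.IrrCharacter T) :=
    Finset.univ.filter (fun ψ => Cfsg.classInner Θ (ψ : T → ℂ) ≠ 0) with hCT
  have hexp : Θ = (e : ℂ) • ∑ ψ ∈ CT, (ψ : T → ℂ) := by
    have h1 := class_function_expansion Θ (isClassFunction_of_isCharacter hΘc)
    rw [Finset.smul_sum, hCT, Finset.sum_filter]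
    conv_lhs => rw [h1]
    refine Finset.sum_congr rfl fun ψ _ => ?_
    split_ifs with h
    · rw [(hgal ψ ψ.2 h).1]
    · push Not at h
      rw [h, zero_smul]
  have hnorm : Cfsg.classInner Θ Θ = ((e ^ 2 * CT.card : ℕ) : ℂ) := by
    rw [classInner_eq_sum_mult Θ Θ (isClassFunction_of_isCharacter hΘc)]
    have h1 : ∀ ψ : Cfsg.IrrCharacter T,
        Cfsg.classInner Θ (ψ : T → ℂ) * Cfsg.classInner (ψ : T → ℂ) Θ
          = if Cfsg.classInner Θ (ψ : T → ℂ) ≠ 0 then ((e ^ 2 : ℕ) : ℂ) else 0 := by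
      intro ψ
      split_ifs with h
      · rw [← classInner_conj_symm Θ (ψ : T → ℂ), (hgal ψ ψ.2 h).1, Complex.conj_natCast]
        push_cast
        ring
      · push Not at h
        rw [h, zero_mul]
    rw [Finset.sum_congr rfl fun ψ _ => h1 ψ, ← Finset.sum_filter, Finset.sum_const,
      nsmul_eq_mul]
    push_cast
    ring
  have hinj : Set.InjOn (fun ψ : Cfsg.IrrCharacter T => Cfsg.indFun T (ψ : T → ℂ)) CT := by
    intro ψ hψ ψ' hψ' heq
    rw [Finset.mem_coe, hCT, Finset.mem_filter] at hψ hψ'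
    by_contra hne
    have h3 := hci2 ψ ψ' ψ.2 ψ'.2 hψ.2 hψ'.2 (fun h => hne (Subtype.ext h))
    have heq' : Cfsg.indFun T (ψ : T → ℂ) = Cfsg.indFun T (ψ' : T → ℂ) := heq
    rw [← heq', classInner_irr_self (hci1 ψ ψ.2 hψ.2)] at h3
    exact one_ne_zero h3
  refine ⟨CT.image (fun ψ : Cfsg.IrrCharacter T => Cfsg.indFun T (ψ : T → ℂ)), ?_, ?_, ?_, ?_⟩
  · intro χ hχ
    obtain ⟨ψ, hψ, rfl⟩ := Finset.mem_image.1 hχ
    rw [hCT, Finset.mem_filter] at hψ
    exact hci1 ψ ψ.2 hψ.2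
  · rw [Finset.card_image_of_injOn hinj]
    have h1 : (Nat.card H : ℂ) * ((e ^ 2 * CT.card : ℕ) : ℂ) = Nat.card T := by
      rw [← hnorm, hnormT]
    have h2 : ((e ^ 2 * CT.card * Nat.card H : ℕ) : ℂ) = ((Nat.card T : ℕ) : ℂ) := by
      rw [← h1]
      push_cast
      ring
    exact_mod_cast h2
  · rw [← htrans, Finset.sum_image hinj]
    conv_lhs => rw [hexp]
    rw [indFun_smul, indFun_sum]
  · intro χ hχ
    obtain ⟨ψ, hψ, rfl⟩ := Finset.mem_image.1 hχ
    rw [hCT, Finset.mem_filter] at hψ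
    have h1 := (hgal ψ ψ.2 hψ.2).2 1
    have h2 : (ψ : T → ℂ) 1 = e * θ 1 := h1
    rw [Cfsg.Agent.S0170.indFun_one, h2]
    have h3 : (Nat.card G : ℂ) = (T.index : ℂ) * (Nat.card T : ℂ) := by
      rw [← Nat.cast_mul, Subgroup.index_mul_card]
    rw [h3]
    field_simp

open Cfsg.Agent.S0193 in
/-- Invariance of `θ` restricted to the inertia group, in the form used by `gallagher_abelian`. -/
theorem inertia_fix (θ : H → ℂ) (T : Subgroup G) (hT : T = inertia H θ) (t : T)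
    (h : H.subgroupOf T) :
    (fun x : H.subgroupOf T => θ ⟨((x : T) : G), Subgroup.mem_subgroupOf.mp x.2⟩)
      ⟨t * h * t⁻¹, (inferInstance : (H.subgroupOf T).Normal).conj_mem h h.2 t⟩
      = θ ⟨((h : T) : G), Subgroup.mem_subgroupOf.mp h.2⟩ := by
  have ht : conjFun H θ (t : G) = θ := by
    have h1 : (t : G) ∈ inertia H θ := by rw [← hT]; exact t.2
    exact h1
  exact congrFun ht ⟨((h : T) : G), Subgroup.mem_subgroupOf.mp h.2⟩

/-- If the inertia group `T` of `θ` has `T/H` abelian, then `θ^G = e Σ_{χ ∈ C} χ` for a set `C`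
of irreducible characters of `G` of degree `|G:T| e θ(1)`, with `e² |C| |H| = |T|`. -/
theorem induced_abelian_inertia (θ : H → ℂ) (hθ : Cfsg.IsIrrCharacter H θ)
    (T : Subgroup G) (hT : T = inertia H θ)
    (hab : ∀ x ∈ T, ∀ y ∈ T, x * y * x⁻¹ * y⁻¹ ∈ H) :
    ∃ (e : ℕ) (C : Finset (G → ℂ)), 0 < e ∧ (∀ χ ∈ C, Cfsg.IsIrrCharacter G χ) ∧
      e ^ 2 * C.card * Nat.card H = Nat.card T ∧
      Cfsg.indFun H θ = (e : ℂ) • ∑ χ ∈ C, χ ∧
      ∀ χ ∈ C, χ 1 = (T.index : ℂ) * e * θ 1 := by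
  classical
  have : Fintype T := Fintype.ofFinite T
  have hNT : H ≤ T := by
    rw [hT]
    exact le_inertia H (isClassFunction_irr hθ)
  have hθ'irr : Cfsg.IsIrrCharacter (H.subgroupOf T)
      (fun x : H.subgroupOf T => θ ⟨((x : T) : G), Subgroup.mem_subgroupOf.mp x.2⟩) :=
    isIrrCharacter_comp_mulEquiv hθ (Subgroup.subgroupOfEquivOfLe hNT)
  have hab' : ∀ x y : T, x * y * x⁻¹ * y⁻¹ ∈ H.subgroupOf T := by
    intro x y
    rw [Subgroup.mem_subgroupOf]
    exact hab x x.2 y y.2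
  obtain ⟨e, he0, hgal⟩ := gallagher_abelian (H.subgroupOf T) hab' _ hθ'irr
    (inertia_fix H θ T hT)
  obtain ⟨C, hC⟩ := induced_inertia_of_uniform H θ hθ T hT e he0 hgal
  exact ⟨e, C, he0, hC⟩

end Assembly

end Cfsg.Agent.Lib.Helper4
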