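import Mathlib
import Cfsg.Prelude.Def_Local
import Cfsg.Agent.Lib.Helper6.PRes
import Cfsg.Agent.Lib.Lead.PComplement

set_option autoImplicit false
open Pointwise

namespace Cfsg.Agent.Lib.Helper4

open Cfsg Cfsg.Agent.Lib.Lead Cfsg.Agent.Lib.Helper6

variable {H : Type*} [Group H]

/-- A normal subgroup of order prime to `p` and `p`-power index is a normal `p`-complement. -/
theorem hasNormalPComplement_of_normal_coprime [Finite H] {p : ℕ} [Fact p.Prime] (K : Subgroup H)
    (hKn : K.Normal) (hK : (Nat.card K).Coprime p) (k : ℕ) (hidx : K.index = p ^ k) :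
    HasNormalPComplement p H := by
  have hp : p.Prime := Fact.out
  obtain ⟨S⟩ : Nonempty (Sylow p H) := inferInstance
  refine ⟨S, K, hKn, ?_⟩
  obtain ⟨j, hj⟩ := (IsPGroup.iff_card).mp S.isPGroup'
  have h1 : Nat.card K * K.index = Nat.card H := Subgroup.card_mul_index K
  have h2 : Nat.card (S : Subgroup H) * (S : Subgroup H).index = Nat.card H := Subgroup.card_mul_index _
  have h3 : (p ^ k).Coprime (S : Subgroup H).index :=
    Nat.Coprime.pow_left k ((Nat.Prime.coprime_iff_not_dvd hp).mpr S.not_dvd_index)
  have h4 : (p ^ j).Coprime (Nat.card K) := Nat.Coprime.pow_left j hK.symm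
  have h5 : p ^ k = p ^ j := by
    apply Nat.dvd_antisymm
    · apply h3.dvd_of_dvd_mul_right
      rw [← hj, h2, ← h1, hidx]
      exact dvd_mul_left _ _
    · apply h4.dvd_of_dvd_mul_left
      rw [← hidx, h1, ← h2, hj]
      exact dvd_mul_right _ _
  apply Subgroup.isComplement'_of_coprime
  · rw [hj, ← h5, ← hidx]; exact h1
  · rw [hj]; exact h4.symm

/-- `T` normal in `H`, `C_S(T) ≤ T` for a Sylow `p`-subgroup `S`, all `p'`-elements centralize `T`: then `H` has a
normal `p`-complement. -/
theorem hasNormalPComplement_of_centralizer [Finite H] {p : ℕ} [Fact p.Prime] (S : Sylow p H)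
    (T : Subgroup H) [hT : T.Normal] (hC : (S : Subgroup H) ⊓ Subgroup.centralizer (T : Set H) ≤ T)
    (hN : ∀ g : H, (orderOf g).Coprime p → g ∈ Subgroup.centralizer (T : Set H)) :
    HasNormalPComplement p H := by
  have hp : p.Prime := Fact.out
  set C := Subgroup.centralizer (T : Set H) with hCdef
  have hCn : C.Normal := Subgroup.normal_centralizer
  obtain ⟨Q⟩ : Nonempty (Sylow p C) := inferInstance
  -- the image of Q in H lies in T
  have hQT : ∀ q : C, q ∈ (Q : Subgroup C) → (q : H) ∈ T := by
    intro q hq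
    have hQp : IsPGroup p ((Q : Subgroup C).map C.subtype) := Q.isPGroup'.map _
    obtain ⟨S', hS'⟩ := hQp.exists_le_sylow
    obtain ⟨n, hn⟩ := MulAction.exists_smul_eq H S S'
    have h1 : (q : H) ∈ (S' : Subgroup H) := hS' ⟨q, hq, rfl⟩
    rw [← hn] at h1
    have h2 : (q : H) ∈ MulAut.conj n • (S : Subgroup H) := by
      rw [← Sylow.pointwise_smul_def]; exact h1
    rw [Subgroup.mem_pointwise_smul_iff_inv_smul_mem] at h2
    have h3 : n⁻¹ * (q : H) * n ∈ (S : Subgroup H) := by
      simpa [MulAut.smul_def, mul_assoc] using h2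
    have h4 : n⁻¹ * (q : H) * n ∈ C := by
      have := hCn.conj_mem (q : H) q.2 n⁻¹
      simpa using this
    have h5 : n⁻¹ * (q : H) * n ∈ T := hC ⟨h3, h4⟩
    have := hT.conj_mem _ h5 n
    simpa [mul_assoc] using this
  -- Q is central in C
  have hQcen : Subgroup.normalizer ((Q : Subgroup C) : Set C) ≤ Subgroup.centralizer ((Q : Subgroup C) : Set C) := by
    intro c _
    rw [Subgroup.mem_centralizer_iff]
    intro q hq
    have h1 : (q : H) ∈ T := hQT q hq
    have h2 := Subgroup.mem_centralizer_iff.mp c.2 (q : H) h1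
    apply Subtype.ext
    simpa using h2
  obtain ⟨Q', K, hKn, hKc⟩ := hasNormalPComplement_of_normalizer_le_centralizer Q hQcen
  -- K has order prime to p and C / K is a p-group
  have hKcard : Nat.card K * Nat.card (Q' : Subgroup C) = Nat.card C := hKc.card_mul_card
  obtain ⟨j, hj⟩ := (IsPGroup.iff_card).mp Q'.isPGroup'
  have hKidx : K.index = p ^ j := by
    have h1 : Nat.card K * K.index = Nat.card C := Subgroup.card_mul_index K
    have : Nat.card K * K.index = Nat.card K * p ^ j := by rw [h1, ← hj, hKcard]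
    exact Nat.eq_of_mul_eq_mul_left Nat.card_pos this
  have hKcop : (Nat.card K).Coprime p := by
    have h1 : Nat.card K = (Q' : Subgroup C).index := by
      have h2 : Nat.card (Q' : Subgroup C) * (Q' : Subgroup C).index = Nat.card C :=
        Subgroup.card_mul_index _
      have : Nat.card (Q' : Subgroup C) * Nat.card K =
          Nat.card (Q' : Subgroup C) * (Q' : Subgroup C).index := by rw [h2, mul_comm, hKcard]
      exact Nat.eq_of_mul_eq_mul_left Nat.card_pos this
    rw [h1]
    exact ((Nat.Prime.coprime_iff_not_dvd hp).mpr Q'.not_dvd_index).symm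
  haveI := hKn
  have hCKp : IsPGroup p (C ⧸ K) := by
    apply IsPGroup.of_card (n := j)
    rw [← Subgroup.index_eq_card, hKidx]
  -- all p'-elements of H lie in the image of K
  have hres : pResidual p H ≤ K.map C.subtype := by
    unfold pResidual
    rw [Subgroup.closure_le]
    intro g hg
    have hgC : g ∈ C := hN g hg
    have hg' : Nat.Coprime (orderOf (⟨g, hgC⟩ : C)) p := by
      rw [Subgroup.orderOf_mk]; exact hg
    exact ⟨⟨g, hgC⟩, mem_of_coprime_of_isPGroup_quotient K hCKp hg', rfl⟩
  have hrescop : (Nat.card (pResidual p H)).Coprime p := by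
    apply Nat.Coprime.coprime_dvd_left (Subgroup.card_dvd_of_le hres)
    rw [Subgroup.card_map_of_injective C.subtype_injective]
    exact hKcop
  obtain ⟨k, hk⟩ := (IsPGroup.iff_card).mp (isPGroup_quotient_pResidual (G := H) p)
  exact hasNormalPComplement_of_normal_coprime (pResidual p H) inferInstance hrescop k
    (by rw [Subgroup.index_eq_card]; exact hk)

end Cfsg.Agent.Lib.Helper4
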