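import Mathlib
import Cfsg.Agent.Lib.Helper4.OmegaOdd

set_option autoImplicit false

namespace Cfsg.Agent.Lib.Helper4

open Cfsg.Agent.Lib.Lead
open scoped commutatorElement

section TypeLevel
variable {P : Type*} [Group P]

/-- In a group where commutators and squares are central, `(u v)^4 = u^4 v^4`. -/
theorem mul_pow_four_of_central
    (hc : ∀ a b : P, ⁅a, b⁆ ∈ Subgroup.center P) (hpow : ∀ x : P, x ^ 2 ∈ Subgroup.center P)
    (u v : P) : (u * v) ^ 4 = u ^ 4 * v ^ 4 := by
  rw [mul_pow_of_class_two hc u v 4]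
  have h1 : ⁅v, u⁆ ^ 2 = 1 := by
    rw [← commutatorElement_pow_left v u (Subgroup.mem_center_iff.mp (hc v u) v).symm]
    have := Subgroup.mem_center_iff.mp (hpow v) u
    rw [commutatorElement_def, ← this]
    group
  have h6 : Nat.choose 4 2 = 2 * 3 := by decide
  rw [h6, pow_mul, h1, one_pow, mul_one]

end TypeLevel

section Main
variable {G : Type*} [Group G] [Finite G]

theorem coprime_centralizes_of_omega_gen_aux {p : ℕ} [Fact p.Prime]
    (A : Subgroup G) (hcop : (Nat.card A).Coprime p) (n : ℕ) :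
    ∀ H : Subgroup G, Nat.card H = n → IsPGroup p H → A ≤ Subgroup.normalizer (H : Set G) →
      (∀ x ∈ H, (x ^ p = 1 ∨ (p = 2 ∧ x ^ 4 = 1)) → ∀ a ∈ A, a * x = x * a) →
      A ≤ Subgroup.centralizer (H : Set G) := by
  induction n using Nat.strong_induction_on with
  | _ n ih =>
  intro H hn hH hAH hfix
  by_contra hnot
  have hcopH : (Nat.card A).Coprime (Nat.card H) := by
    obtain ⟨k, hk⟩ := (IsPGroup.iff_card).mp hH
    rw [hk]; exact Nat.Coprime.pow_right _ hcop
  have hHsolv : Group.IsSolvable H := isSolvable_of_isPGroup p H hH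
  -- proper invariant subgroups are centralized
  have hprop : ∀ K : Subgroup G, K < H → A ≤ Subgroup.normalizer (K : Set G) →
      A ≤ Subgroup.centralizer (K : Set G) := by
    intro K hK hAK
    have hlt : Nat.card K < n := by
      rw [← hn]
      have h1 := Subgroup.card_le_of_le hK.le
      rcases lt_or_eq_of_le h1 with h | h
      · exact h
      · exact absurd (Subgroup.eq_of_le_of_card_ge hK.le h.ge) hK.ne
    exact ih _ hlt K rfl (hH.to_le hK.le) hAK (fun x hx => hfix x (hK.le hx))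
  -- [H, A] = H
  have hHA : ⁅H, A⁆ = H := by
    by_contra hne
    have hle : ⁅H, A⁆ ≤ H := commutator_le_left_of_le_normalizer H A hAH
    have hlt : ⁅H, A⁆ < H := lt_of_le_of_ne hle hne
    have h1 := hprop _ hlt (le_normalizer_commutator_right H A hAH)
    have h2 : ⁅⁅H, A⁆, A⁆ = ⊥ := by
      rw [Subgroup.commutator_eq_bot_iff_le_centralizer]
      exact Subgroup.le_centralizer_iff.mp h1
    rw [coprime_commutator_stable A H hAH hcopH (Or.inr hHsolv)] at h2
    rw [Subgroup.commutator_eq_bot_iff_le_centralizer] at h2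
    exact hnot (Subgroup.le_centralizer_iff.mp h2)
  -- the Frattini subgroup
  set Φ : Subgroup G := (frattini H).map H.subtype with hΦ
  have hΦH : Φ ≤ H := Subgroup.map_subtype_le _
  have hHne : H ≠ ⊥ := by
    intro h
    apply hnot
    rw [h]
    intro a _
    rw [Subgroup.mem_centralizer_iff]
    intro x hx
    rw [Subgroup.coe_bot, Set.mem_singleton_iff] at hx
    subst hx; simp
  have hΦne : Φ ≠ H := by
    intro h
    have hft : frattini H = ⊤ := by
      rw [eq_top_iff]
      intro x _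
      have hx : (x : G) ∈ Φ := by rw [h]; exact x.2
      obtain ⟨y, hy, hyx⟩ := hx
      have : y = x := Subtype.ext hyx
      rw [← this]; exact hy
    haveI : Nontrivial H := by
      rw [Subgroup.nontrivial_iff_ne_bot]; exact hHne
    obtain ⟨M, hM⟩ := (eq_top_or_exists_le_coatom (⊥ : Subgroup H)).resolve_left bot_ne_top
    have hle : frattini H ≤ M := (le_frattini_iff.mp le_rfl) M hM.1
    rw [hft] at hle
    exact hM.1.1 (top_le_iff.mp hle)
  have hAΦ : A ≤ Subgroup.normalizer (Φ : Set G) :=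
    hAH.trans (le_normalizer_map_characteristic H (frattini H))
  have hHΦ : H ≤ Subgroup.normalizer (Φ : Set G) :=
    Subgroup.le_normalizer.trans (le_normalizer_map_characteristic H (frattini H))
  have hAcΦ : A ≤ Subgroup.centralizer (Φ : Set G) := hprop Φ (lt_of_le_of_ne hΦH hΦne) hAΦ
  -- three subgroups lemma: [H, Φ] = 1
  have hHcΦ : ⁅H, Φ⁆ = ⊥ := by
    have h1 : ⁅⁅A, Φ⁆, H⁆ = ⊥ := by
      have : ⁅A, Φ⁆ = ⊥ := by
        rw [Subgroup.commutator_eq_bot_iff_le_centralizer]; exact hAcΦ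
      rw [this, Subgroup.commutator_bot_left]
    have h2 : ⁅⁅Φ, H⁆, A⁆ = ⊥ := by
      rw [Subgroup.commutator_eq_bot_iff_le_centralizer]
      have : ⁅Φ, H⁆ ≤ Φ := commutator_le_left_of_le_normalizer Φ H hHΦ
      exact this.trans (Subgroup.le_centralizer_iff.mp hAcΦ)
    have h3 := Subgroup.commutator_commutator_eq_bot_of_rotate h1 h2
    rwa [hHA] at h3
  have hcomm : ∀ h ∈ H, ∀ z ∈ Φ, z * h = h * z := by
    intro h hh z hz
    rw [Subgroup.commutator_eq_bot_iff_le_centralizer] at hHcΦ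
    exact Subgroup.mem_centralizer_iff.mp (hHcΦ hh) z hz
  -- class two structure on H
  have hcenter : ∀ y : H, y ∈ frattini H → y ∈ Subgroup.center H := by
    intro y hy
    rw [Subgroup.mem_center_iff]
    intro g
    apply Subtype.ext
    have := hcomm g g.2 y ⟨y, hy, rfl⟩
    simpa using this.symm
  have hc : ∀ a b : H, ⁅a, b⁆ ∈ Subgroup.center H := by
    intro a b
    apply hcenter
    apply commutator_le_frattini_of_isPGroup hH
    rw [commutator_def]
    exact Subgroup.commutator_mem_commutator (Subgroup.mem_top a) (Subgroup.mem_top b)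
  have hpow : ∀ x : H, x ^ p ∈ Subgroup.center H := fun x =>
    hcenter _ (pow_mem_frattini_of_isPGroup hH x)
  -- commutators [a, x] have small order
  have hkey : ∀ a ∈ A, ∀ x ∈ H, ((a * x * a⁻¹ * x⁻¹) ^ p = 1 ∨
      (p = 2 ∧ (a * x * a⁻¹ * x⁻¹) ^ 4 = 1)) := by
    intro a ha x hx
    have hax : a * x * a⁻¹ ∈ H := (Subgroup.mem_normalizer_iff.mp (hAH ha) x).mp hx
    have hxp : x ^ p ∈ Φ := ⟨⟨x, hx⟩ ^ p, pow_mem_frattini_of_isPGroup hH ⟨x, hx⟩, by simp⟩
    by_cases hp : p = 2
    · right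
      refine ⟨hp, ?_⟩
      have hpow2 : ∀ x : H, x ^ 2 ∈ Subgroup.center H := by
        intro y; have := hpow y; rwa [hp] at this
      have h1 := mul_pow_four_of_central hc hpow2 ⟨a * x * a⁻¹, hax⟩ ⟨x⁻¹, H.inv_mem hx⟩
      have h2 := congrArg Subtype.val h1
      simp only [Subgroup.coe_pow, Subgroup.coe_mul] at h2
      rw [h2]
      have hx4 : x ^ 4 ∈ Φ := by
        have : x ^ 4 = (x ^ p) ^ 2 := by rw [hp, ← pow_mul]
        rw [this]; exact Φ.pow_mem hxp 2
      have h3 : a * x ^ 4 = x ^ 4 * a := (Subgroup.mem_centralizer_iff.mp (hAcΦ ha) _ hx4).symm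
      have h4 : (a * x * a⁻¹) ^ 4 = x ^ 4 := by
        rw [conj_pow, h3]; group
      rw [h4, inv_pow, mul_inv_cancel]
    · left
      have h1 := mul_pow_prime_of_central hp hc hpow ⟨a * x * a⁻¹, hax⟩ ⟨x⁻¹, H.inv_mem hx⟩
      have h2 := congrArg Subtype.val h1
      simp only [Subgroup.coe_pow, Subgroup.coe_mul] at h2
      rw [h2]
      have h3 : a * x ^ p = x ^ p * a := (Subgroup.mem_centralizer_iff.mp (hAcΦ ha) _ hxp).symm
      have h4 : (a * x * a⁻¹) ^ p = x ^ p := by
        rw [conj_pow, h3]; group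
      rw [h4, inv_pow, mul_inv_cancel]
  -- A centralizes [H, A]
  have hfin : ⁅H, A⁆ ≤ Subgroup.centralizer (A : Set G) := by
    rw [Subgroup.commutator_le]
    intro h hh a ha
    have hmem : a * h * a⁻¹ * h⁻¹ ∈ H :=
      H.mul_mem ((Subgroup.mem_normalizer_iff.mp (hAH ha) h).mp hh) (H.inv_mem hh)
    have hinv : ⁅h, a⁆ = (a * h * a⁻¹ * h⁻¹)⁻¹ := by
      rw [commutatorElement_def]; group
    rw [hinv]
    apply Subgroup.inv_mem
    rw [Subgroup.mem_centralizer_iff]
    intro b hb
    exact hfix _ hmem (hkey a ha h hh) b hb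
  rw [hHA] at hfin
  exact hnot (Subgroup.le_centralizer_iff.mp hfin)

/-- A `p'`-group `A` normalizing a `p`-subgroup `H` and centralizing all its elements of
order dividing `p` (dividing `4` when `p = 2`) centralizes `H`. -/
theorem coprime_centralizes_of_omega_gen {p : ℕ} [Fact p.Prime]
    (A H : Subgroup G) (hcop : (Nat.card A).Coprime p) (hH : IsPGroup p H)
    (hAH : A ≤ Subgroup.normalizer (H : Set G))
    (hfix : ∀ x ∈ H, (x ^ p = 1 ∨ (p = 2 ∧ x ^ 4 = 1)) → ∀ a ∈ A, a * x = x * a) :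
    A ≤ Subgroup.centralizer (H : Set G) :=
  coprime_centralizes_of_omega_gen_aux A hcop _ H rfl hH hAH hfix

end Main

end Cfsg.Agent.Lib.Helper4
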