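import Mathlib
import Cfsg.Agent.Lib.Helper4.OmegaGen
import Cfsg.Agent.Lib.Lead.FrobNPC5

set_option autoImplicit false

namespace Cfsg.Agent.Lib.Helper4

open Cfsg.Agent.Lib.Lead
open scoped commutatorElement

section Nilp
variable {P : Type*} [Group P]

/-- In a nilpotent group, a subgroup `H` with `H ≤ ⁅H, ⊤⁆` is trivial. -/
theorem eq_bot_of_le_commutator_top [Group.IsNilpotent P] (H : Subgroup P)
    (h : H ≤ ⁅H, (⊤ : Subgroup P)⁆) : H = ⊥ := by
  have key : ∀ n, H ≤ (⊤ : Subgroup P).lowerCentralSeries n := by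
    intro n
    induction n with
    | zero => simp
    | succ n ih =>
      calc H ≤ ⁅H, ⊤⁆ := h
        _ ≤ ⁅(⊤ : Subgroup P).lowerCentralSeries n, ⊤⁆ := Subgroup.commutator_mono ih le_rfl
        _ = (⊤ : Subgroup P).lowerCentralSeries (n + 1) := rfl
  obtain ⟨n, hn⟩ := Subgroup.nilpotent_iff_lowerCentralSeries.mp (inferInstance : Group.IsNilpotent P)
  rw [eq_bot_iff, ← hn]; exact key n

end Nilp

section Main
variable {G : Type*} [Group G]

/-- one-sided conjugation stability gives containment in the normalizer -/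
theorem le_normalizer_of_conj_mem (N A : Subgroup G)
    (h : ∀ n ∈ N, ∀ x ∈ A, n * x * n⁻¹ ∈ A) : N ≤ Subgroup.normalizer (A : Set G) := by
  intro n hn
  rw [Subgroup.mem_normalizer_iff]
  intro x
  constructor
  · exact h n hn x
  · intro hx
    have := h n⁻¹ (N.inv_mem hn) _ hx
    have h2 : n⁻¹ * (n * x * n⁻¹) * n⁻¹⁻¹ = x := by group
    rwa [h2] at this

/-- a set stable under conjugation by `N` generates a subgroup normalized by `N` -/
theorem le_normalizer_closure (N : Subgroup G) (S : Set G)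
    (h : ∀ n ∈ N, ∀ s ∈ S, n * s * n⁻¹ ∈ S) :
    N ≤ Subgroup.normalizer ((Subgroup.closure S : Subgroup G) : Set G) := by
  apply le_normalizer_of_conj_mem
  intro n hn x hx
  induction hx using Subgroup.closure_induction with
  | mem s hs => exact Subgroup.subset_closure (h n hn s hs)
  | one => simp
  | mul x y _ _ ihx ihy =>
    have : n * (x * y) * n⁻¹ = (n * x * n⁻¹) * (n * y * n⁻¹) := by group
    rw [this]; exact Subgroup.mul_mem _ ihx ihy
  | inv x _ ih =>
    have : n * x⁻¹ * n⁻¹ = (n * x * n⁻¹)⁻¹ := by group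
    rw [this]; exact Subgroup.inv_mem _ ih

variable [Finite G] {p : ℕ} [hp : Fact p.Prime]

/-- For a nontrivial element `a` of a `p`-subgroup `P`, there is a `P`-invariant subgroup `C`
not containing `a` but containing all commutators `[a, u]`, `u ∈ P`. -/
theorem exists_commutator_subgroup_not_mem (P : Subgroup G) (hP : IsPGroup p P) (a : G)
    (ha : a ∈ P) (ha1 : a ≠ 1) :
    ∃ C : Subgroup G, a ∉ C ∧ (∀ u ∈ P, ∀ c ∈ C, u * c * u⁻¹ ∈ C) ∧
      (∀ u ∈ P, a * u * a⁻¹ * u⁻¹ ∈ C) := by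
  have : Group.IsNilpotent P := hP.isNilpotent
  set a' : P := ⟨a, ha⟩ with ha'
  set A' : Subgroup P := Subgroup.normalClosure {a'} with hA'
  set C0 : Subgroup P := ⁅A', (⊤ : Subgroup P)⁆ with hC0
  have : C0.Normal := Subgroup.commutator_normal A' ⊤
  refine ⟨C0.map P.subtype, ?_, ?_, ?_⟩
  · rintro ⟨y, hy, hya⟩
    have hy' : y = a' := Subtype.ext hya
    rw [hy'] at hy
    have h1 : A' ≤ C0 := Subgroup.normalClosure_le_normal (by
      intro z hz; rw [Set.mem_singleton_iff] at hz; rw [hz]; exact hy)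
    have h2 := eq_bot_of_le_commutator_top A' h1
    have h3 : a' ∈ A' := Subgroup.subset_normalClosure (Set.mem_singleton a')
    rw [h2, Subgroup.mem_bot] at h3
    apply ha1
    have := congrArg Subtype.val h3
    exact this
  · rintro u hu c ⟨y, hy, rfl⟩
    refine ⟨⟨u, hu⟩ * y * ⟨u, hu⟩⁻¹, ?_, by simp⟩
    exact Subgroup.Normal.conj_mem inferInstance y hy _
  · intro u hu
    refine ⟨⁅a', ⟨u, hu⟩⁆, ?_, by simp [commutatorElement_def, ha']⟩
    exact Subgroup.commutator_mem_commutator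
      (Subgroup.subset_normalClosure (Set.mem_singleton a')) (Subgroup.mem_top _)

/-- Key induction: if `P` controls fusion of its small elements, then a `p'`-element `g` of a
subgroup `N` normalizing `Q ≤ P` (with `Q ≤ N`) centralizes the small elements of `Q`. -/
theorem small_fusion_centralizes (P : Subgroup G) (hP : IsPGroup p P)
    (hctl : ∀ a ∈ P, (a ^ p = 1 ∨ (p = 2 ∧ a ^ 4 = 1)) → ∀ g : G, g * a * g⁻¹ ∈ P →
      ∃ x ∈ P, g * a * g⁻¹ = x * a * x⁻¹)
    (Q N : Subgroup G) (hQP : Q ≤ P) (hNQ : N ≤ Subgroup.normalizer (Q : Set G))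
    (g : G) (hgN : g ∈ N) (hg : (orderOf g).Coprime p) (k : ℕ) :
    ∀ a ∈ Q, (a ^ p = 1 ∨ (p = 2 ∧ a ^ 4 = 1)) →
      Nat.card (Subgroup.closure {y | ∃ n ∈ N, y = n * a * n⁻¹}) = k → g * a = a * g := by
  induction k using Nat.strong_induction_on with
  | _ k ih =>
  intro a haQ hsmall hk
  by_cases ha1 : a = 1
  · rw [ha1]; simp
  set S : Set G := {y | ∃ n ∈ N, y = n * a * n⁻¹} with hS
  set A : Subgroup G := Subgroup.closure S with hA
  have hSQ : S ⊆ (Q : Set G) := by
    rintro y ⟨n, hn, rfl⟩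
    exact (Subgroup.mem_normalizer_iff.mp (hNQ hn) a).mp haQ
  have hAQ : A ≤ Q := (Subgroup.closure_le Q).mpr hSQ
  have haS : a ∈ S := ⟨1, N.one_mem, by simp⟩
  have haA : a ∈ A := Subgroup.subset_closure haS
  have hNA : N ≤ Subgroup.normalizer (A : Set G) := by
    apply le_normalizer_closure
    rintro n hn s ⟨m, hm, rfl⟩
    exact ⟨n * m, N.mul_mem hn hm, by group⟩
  set B : Subgroup G := ⁅A, N⁆ with hB
  have hBA : B ≤ A := commutator_le_left_of_le_normalizer A N hNA
  have hNB : N ≤ Subgroup.normalizer (B : Set G) := le_normalizer_commutator_right A N hNA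
  obtain ⟨C, haC, hPC, hcomC⟩ := exists_commutator_subgroup_not_mem P hP a (hQP haQ) ha1
  have hBC : B ≤ C := by
    rw [hB, Subgroup.commutator_le]
    intro x hx n hn
    induction hx using Subgroup.closure_induction with
    | mem s hs =>
      obtain ⟨m, hm, rfl⟩ := hs
      have h1 : m * a * m⁻¹ ∈ P := hQP (hSQ ⟨m, hm, rfl⟩)
      have h2 : (n * m) * a * (n * m)⁻¹ ∈ P := hQP (hSQ ⟨n * m, N.mul_mem hn hm, rfl⟩)
      obtain ⟨u, hu, hu'⟩ := hctl a (hQP haQ) hsmall m h1
      obtain ⟨v, hv, hv'⟩ := hctl a (hQP haQ) hsmall (n * m) h2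
      have h3 : ⁅m * a * m⁻¹, n⁆ = (m * a * m⁻¹) * ((n * m) * a * (n * m)⁻¹)⁻¹ := by
        rw [commutatorElement_def]; group
      rw [h3, hu', hv']
      have h4 : u * a * u⁻¹ * (v * a * v⁻¹)⁻¹ =
          u * (a * (u⁻¹ * v) * a⁻¹ * (u⁻¹ * v)⁻¹) * u⁻¹ := by group
      rw [h4]
      exact hPC u hu _ (hcomC _ (P.mul_mem (P.inv_mem hu) hv))
    | one => rw [commutatorElement_one_left]; exact C.one_mem
    | mul x y hx hy ihx ihy =>
      have h1 : ⁅x * y, n⁆ = x * ⁅y, n⁆ * x⁻¹ * ⁅x, n⁆ := by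
        simp only [commutatorElement_def]; group
      rw [h1]
      exact C.mul_mem (hPC x (hQP (hAQ hx)) _ ihy) ihx
    | inv x hx ih =>
      have h1 : ⁅x⁻¹, n⁆ = x⁻¹ * ⁅x, n⁆⁻¹ * x⁻¹⁻¹ := by
        simp only [commutatorElement_def]; group
      rw [h1]
      exact hPC x⁻¹ (P.inv_mem (hQP (hAQ hx))) _ (C.inv_mem ih)
  have haB : a ∉ B := fun h => haC (hBC h)
  have hBlt : Nat.card B < k := by
    rw [← hk]
    have h1 := Subgroup.card_le_of_le hBA
    rcases lt_or_eq_of_le h1 with h | h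
    · exact h
    · exact absurd (Subgroup.eq_of_le_of_card_ge hBA h.ge ▸ haA) haB
  -- g centralizes the small elements of B
  have hfixB : ∀ b ∈ B, (b ^ p = 1 ∨ (p = 2 ∧ b ^ 4 = 1)) → g * b = b * g := by
    intro b hb hbs
    have hle : Subgroup.closure {y | ∃ n ∈ N, y = n * b * n⁻¹} ≤ B := by
      rw [Subgroup.closure_le]
      rintro y ⟨n, hn, rfl⟩
      exact (Subgroup.mem_normalizer_iff.mp (hNB hn) b).mp hb
    exact ih _ (lt_of_le_of_lt (Subgroup.card_le_of_le hle) hBlt) b (hAQ (hBA hb)) hbs rfl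
  set Z : Subgroup G := Subgroup.zpowers g with hZ
  have hZN : Z ≤ N := by rw [hZ, Subgroup.zpowers_le]; exact hgN
  have hcardZ : (Nat.card Z).Coprime p := by rw [hZ, Nat.card_zpowers]; exact hg
  have hBP : IsPGroup p B := hP.to_le (hBA.trans (hAQ.trans hQP))
  have hAP : IsPGroup p A := hP.to_le (hAQ.trans hQP)
  have hfixB' : ∀ x ∈ B, (x ^ p = 1 ∨ (p = 2 ∧ x ^ 4 = 1)) → ∀ z ∈ Z, z * x = x * z := by
    intro x hx hxs z hz
    obtain ⟨i, rfl⟩ := Subgroup.mem_zpowers_iff.mp hz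
    have hc : Commute g x := hfixB x hx hxs
    exact (hc.zpow_left i)
  have hZB : Z ≤ Subgroup.centralizer (B : Set G) :=
    coprime_centralizes_of_omega_gen Z B hcardZ hBP (hZN.trans hNB) hfixB'
  have h1 : ⁅A, Z⁆ ≤ B := Subgroup.commutator_mono le_rfl hZN
  have h2 : ⁅⁅A, Z⁆, Z⁆ = ⊥ := by
    rw [Subgroup.commutator_eq_bot_iff_le_centralizer]
    exact h1.trans (Subgroup.le_centralizer_iff.mp hZB)
  have hcopA : (Nat.card Z).Coprime (Nat.card A) := by
    obtain ⟨j, hj⟩ := (IsPGroup.iff_card).mp hAP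
    rw [hj]; exact Nat.Coprime.pow_right _ hcardZ
  rw [coprime_commutator_stable Z A (hZN.trans hNA) hcopA
    (Or.inr (isSolvable_of_isPGroup p A hAP))] at h2
  rw [Subgroup.commutator_eq_bot_iff_le_centralizer] at h2
  have := Subgroup.mem_centralizer_iff.mp (h2 haA) g (Subgroup.mem_zpowers g)
  exact this

/-- If a Sylow `p`-subgroup controls the fusion of its elements of order `p` (or `4`), then
`p'`-elements normalizing a `p`-subgroup centralize it. -/
theorem plocalCentral_of_small_fusion (P : Sylow p G)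
    (hctl : ∀ a ∈ (P : Subgroup G), (a ^ p = 1 ∨ (p = 2 ∧ a ^ 4 = 1)) → ∀ g : G,
      g * a * g⁻¹ ∈ (P : Subgroup G) → ∃ x ∈ (P : Subgroup G), g * a * g⁻¹ = x * a * x⁻¹) :
    PLocalCentral p G := by
  apply plocalCentral_of_sylow P
  intro Q hQP g hg hcop
  have hfix : ∀ a ∈ Q, (a ^ p = 1 ∨ (p = 2 ∧ a ^ 4 = 1)) → g * a = a * g := by
    intro a ha hs
    exact small_fusion_centralizes (P : Subgroup G) P.2 hctl Q (Subgroup.normalizer (Q : Set G)) hQP
      le_rfl g hg hcop _ a ha hs rfl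
  set Z : Subgroup G := Subgroup.zpowers g with hZ
  have hcardZ : (Nat.card Z).Coprime p := by rw [hZ, Nat.card_zpowers]; exact hcop
  have hZQ : Z ≤ Subgroup.normalizer (Q : Set G) := by rw [hZ, Subgroup.zpowers_le]; exact hg
  have hfix' : ∀ x ∈ Q, (x ^ p = 1 ∨ (p = 2 ∧ x ^ 4 = 1)) → ∀ z ∈ Z, z * x = x * z := by
    intro x hx hxs z hz
    obtain ⟨i, rfl⟩ := Subgroup.mem_zpowers_iff.mp hz
    have hc : Commute g x := hfix x hx hxs
    exact (hc.zpow_left i)
  exact coprime_centralizes_of_omega_gen Z Q hcardZ (P.2.to_le hQP) hZQ hfix'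
    (Subgroup.mem_zpowers g)

end Main

end Cfsg.Agent.Lib.Helper4
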