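import Mathlib
import Cfsg.Agent.Lib.Helper7.PSolvable
import Cfsg.Agent.Lib.Helper6.PPrimeCore
import Cfsg.Agent.Lib.Lead.Core
import Cfsg.Agent.Lib.Lead.CoprimeTools2
import Cfsg.Agent.Lib.Helper4.SmallFusion

set_option autoImplicit false
open Pointwise

/-! Hall–Higman Lemma 1.2.3 for `p`-solvable groups: if `O_{p'}(G) = 1` then
`C_G(O_p(G)) ≤ O_p(G)`. -/

namespace Cfsg.Agent.Lib.Helper4

open Cfsg Cfsg.Agent.Lib.Helper7

variable {G : Type*} [Group G]

/-- a nontrivial normal subgroup `C` of a `p`-solvable group contains a nontrivial normal subgroup of `G`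
that is a `p`-group or a `p'`-group -/
theorem exists_normal_le_of_isPSolvable {p : ℕ} [hp : Fact p.Prime] (hG : Cfsg.IsPSolvable p G)
    (C : Subgroup G) [hCn : C.Normal] (hC : C ≠ ⊥) :
    ∃ N : Subgroup G, N.Normal ∧ N ≤ C ∧ N ≠ ⊥ ∧
      ((∃ m : ℕ, Nat.card N = p ^ m) ∨ (Nat.card N).Coprime p) ∧
      ∃ H : Subgroup G, H.Normal ∧ N = H ⊓ C := by
  classical
  obtain ⟨n, H, h0, hn, hmono, hnormal, hfac⟩ := hG
  have hex : ∃ k : ℕ, ∃ h : k < n + 1, H ⟨k, h⟩ ⊓ C ≠ ⊥ := by
    refine ⟨n, Nat.lt_succ_self n, ?_⟩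
    have : (⟨n, Nat.lt_succ_self n⟩ : Fin (n + 1)) = Fin.last n := rfl
    rw [this, hn, top_inf_eq]
    exact hC
  obtain ⟨hklt, hkne⟩ := Nat.find_spec hex
  have hk0 : Nat.find hex ≠ 0 := by
    intro h
    apply hkne
    have : (⟨Nat.find hex, hklt⟩ : Fin (n + 1)) = 0 := by
      apply Fin.ext
      exact h
    rw [this, h0, bot_inf_eq]
  obtain ⟨j, hj⟩ : ∃ j, Nat.find hex = j + 1 := Nat.exists_eq_succ_of_ne_zero hk0
  have hjn : j < n := by omega
  have hjbot : H (⟨j, hjn⟩ : Fin n).castSucc ⊓ C = ⊥ := by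
    by_contra hne
    have := Nat.find_min' hex ⟨(by omega : j < n + 1), hne⟩
    omega
  have hsucc : (⟨j, hjn⟩ : Fin n).succ = ⟨Nat.find hex, hklt⟩ := by
    apply Fin.ext
    simp only [Fin.val_succ]
    omega
  obtain ⟨A, hAdef⟩ : ∃ A : Subgroup G, A = H (⟨j, hjn⟩ : Fin n).castSucc := ⟨_, rfl⟩
  obtain ⟨B, hBdef⟩ : ∃ B : Subgroup G, B = H (⟨j, hjn⟩ : Fin n).succ := ⟨_, rfl⟩
  have hAn : A.Normal := by rw [hAdef]; exact hnormal _
  have hBn : B.Normal := by rw [hBdef]; exact hnormal _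
  have hAB : A ≤ B := by
    rw [hAdef, hBdef]; apply hmono
    exact Fin.castSucc_le_succ _
  have hfacAB := hfac ⟨j, hjn⟩
  rw [← hAdef, ← hBdef] at hfacAB
  rw [← hAdef] at hjbot
  refine ⟨B ⊓ C, ?_, inf_le_right, ?_, ?_, B, hBn, rfl⟩
  · exact inferInstance
  · rw [hBdef, hsucc]; exact hkne
  · -- card (B ⊓ C) divides relIndex A B
    have h1 : Nat.card (B ⊓ C : Subgroup G) = A.relIndex (B ⊓ C) := by
      rw [← Subgroup.inf_relIndex_right]
      have : A ⊓ (B ⊓ C) = ⊥ := by
        apply le_antisymm _ bot_le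
        rw [← hjbot]
        exact le_inf inf_le_left (inf_le_right.trans inf_le_right)
      rw [this, Subgroup.relIndex_bot_left]
    have h2 : A.relIndex (B ⊓ C) ∣ A.relIndex B := by
      rw [← Subgroup.relIndex_sup_right (B ⊓ C) A]
      have h3 := Subgroup.relIndex_mul_relIndex A ((B ⊓ C) ⊔ A) B le_sup_right
        (sup_le inf_le_left hAB)
      exact Dvd.intro _ h3
    rw [h1]
    rcases hfacAB with ⟨m, hm⟩ | hcop
    · left
      rw [hm] at h2
      obtain ⟨k, -, hk⟩ := (Nat.dvd_prime_pow hp.out).mp h2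
      exact ⟨k, hk⟩
    · right
      exact Nat.Coprime.coprime_dvd_left h2 hcop

variable [Finite G]

/-- Hall–Higman Lemma 1.2.3 -/
theorem centralizer_pCore_le_of_isPSolvable {p : ℕ} [hp : Fact p.Prime] (hG : Cfsg.IsPSolvable p G)
    (hred : Cfsg.pPrimeCore p G = ⊥) :
    Subgroup.centralizer ((Cfsg.pCore p G : Subgroup G) : Set G) ≤ Cfsg.pCore p G := by
  classical
  obtain ⟨R, hRdef⟩ : ∃ R : Subgroup G, R = Cfsg.pCore p G := ⟨_, rfl⟩
  rw [← hRdef]
  haveI hRn : R.Normal := by rw [hRdef]; exact Cfsg.Agent.Lib.Lead.pCore_normal p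
  have hRp : IsPGroup p R := by rw [hRdef]; exact Cfsg.Agent.Lib.Lead.pCore_isPGroup p
  obtain ⟨C, hCdef⟩ : ∃ C : Subgroup G, C = Subgroup.centralizer (R : Set G) := ⟨_, rfl⟩
  rw [← hCdef]
  haveI hCn : C.Normal := by rw [hCdef]; exact Subgroup.normal_centralizer
  obtain ⟨Z, hZdef⟩ : ∃ Z : Subgroup G, Z = C ⊓ R := ⟨_, rfl⟩
  haveI hZn : Z.Normal := by rw [hZdef]; exact inferInstance
  have hZC : Z ≤ C := by rw [hZdef]; exact inf_le_left
  have hZR : Z ≤ R := by rw [hZdef]; exact inf_le_right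
  have hZp : IsPGroup p Z := hRp.to_le hZR
  by_contra hnot
  obtain ⟨c₀, hc₀C, hc₀R⟩ := SetLike.not_le_iff_exists.mp hnot
  -- pass to G/Z
  have hπs : Function.Surjective (QuotientGroup.mk' Z) := QuotientGroup.mk'_surjective Z
  haveI hCbn : (C.map (QuotientGroup.mk' Z)).Normal := hCn.map _ hπs
  have hCb : C.map (QuotientGroup.mk' Z) ≠ ⊥ := by
    intro h
    have h1 : QuotientGroup.mk' Z c₀ ∈ C.map (QuotientGroup.mk' Z) := ⟨c₀, hc₀C, rfl⟩
    rw [h, Subgroup.mem_bot, QuotientGroup.mk'_apply, QuotientGroup.eq_one_iff] at h1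
    exact hc₀R (hZR h1)
  obtain ⟨Nb, hNbn, hNbC, hNb1, hNbcard, -⟩ :=
    exists_normal_le_of_isPSolvable (isPSolvable_quotient hG Z) (C.map (QuotientGroup.mk' Z)) hCb
  obtain ⟨M, hMdef⟩ : ∃ M : Subgroup G, M = Nb.comap (QuotientGroup.mk' Z) := ⟨_, rfl⟩
  haveI hMn : M.Normal := by rw [hMdef]; exact hNbn.comap _
  have hZM : Z ≤ M := by
    intro z hz
    rw [hMdef, Subgroup.mem_comap]
    have : QuotientGroup.mk' Z z = 1 := by
      rw [QuotientGroup.mk'_apply, QuotientGroup.eq_one_iff]; exact hz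
    rw [this]; exact Subgroup.one_mem _
  have hMC : M ≤ C := by
    intro x hx
    rw [hMdef, Subgroup.mem_comap] at hx
    obtain ⟨c, hc, hcx⟩ := hNbC hx
    have h1 : c⁻¹ * x ∈ Z := by
      rw [← QuotientGroup.eq_one_iff, ← QuotientGroup.mk'_apply, map_mul, map_inv, hcx]
      group
    have : x = c * (c⁻¹ * x) := by group
    rw [this]; exact C.mul_mem hc (hZC h1)
  have hMmap : M.map (QuotientGroup.mk' Z) = Nb := by
    rw [hMdef]; exact Subgroup.map_comap_eq_self_of_surjective hπs Nb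
  have hMZ : ¬ M ≤ Z := by
    intro hle
    apply hNb1
    rw [← hMmap, eq_bot_iff]
    rintro _ ⟨x, hx, rfl⟩
    rw [Subgroup.mem_bot, QuotientGroup.mk'_apply, QuotientGroup.eq_one_iff]
    exact hle hx
  -- card M = card Nb * card Z
  have hcardM : Nat.card Nb * Nat.card Z = Nat.card M := by
    have h1 : Z.relIndex M = Nat.card Nb := by
      have h2 : Z = (⊥ : Subgroup (G ⧸ Z)).comap (QuotientGroup.mk' Z) := by
        have h4 : (⊥ : Subgroup (G ⧸ Z)).comap (QuotientGroup.mk' Z) = (QuotientGroup.mk' Z).ker := rfl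
        rw [h4, QuotientGroup.ker_mk']
      conv_lhs => rw [h2]
      rw [Subgroup.relIndex_comap, hMmap, Subgroup.relIndex_bot_left]
    have h3 := Subgroup.relIndex_mul_relIndex (⊥ : Subgroup G) Z M bot_le hZM
    rw [Subgroup.relIndex_bot_left, Subgroup.relIndex_bot_left, h1] at h3
    rw [mul_comm]; exact h3
  rcases hNbcard with ⟨m, hm⟩ | hcop
  · -- M is a normal p-group
    apply hMZ
    have hMp : IsPGroup p M := by
      obtain ⟨j, hj⟩ := IsPGroup.iff_card.mp hZp
      apply IsPGroup.of_card (n := m + j)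
      rw [← hcardM, hm, hj, pow_add]
    have hMR : M ≤ R := by rw [hRdef]; exact Cfsg.Agent.Lib.Lead.le_pCore hMn hMp
    rw [hZdef]
    exact le_inf hMC hMR
  · -- M/Z is a p'-group
    have hZcardp : (Nat.card Nb).Coprime (Nat.card Z) := by
      obtain ⟨j, hj⟩ := IsPGroup.iff_card.mp hZp
      rw [hj]; exact Nat.Coprime.pow_right j hcop
    obtain ⟨B, hBM, hBcard⟩ := Cfsg.Agent.Lib.Lead.sz_exists_internal Z M hZM
      (by rw [Subgroup.normalizer_eq_top]; exact le_top) (Nat.card Nb) hcardM hZcardp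
    have hBcop : (Nat.card B).Coprime p := by rw [hBcard]; exact hcop
    have hBZ : B ⊓ Z = ⊥ := by
      rw [inf_comm]
      exact Cfsg.Agent.Lib.Helper6.isPGroup_inf_coprime_eq_bot hBcop hZp
    have hBZnorm : B ≤ Subgroup.normalizer (Z : Set G) := by
      rw [Subgroup.normalizer_eq_top]; exact le_top
    have hsup : B ⊔ Z = M := by
      have h1 := Cfsg.Agent.Lib.Lead.card_sup_of_disjoint B Z hBZnorm hBZ
      have h2 : B ⊔ Z ≤ M := sup_le hBM hZM
      apply Subgroup.eq_of_le_of_card_ge h2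
      rw [h1, hBcard, hcardM]
    -- elements of B commute with elements of Z
    have hcommBZ : ∀ b ∈ B, ∀ z ∈ Z, z * b = b * z := by
      intro b hb z hz
      have hbC : b ∈ Subgroup.centralizer (R : Set G) := by rw [← hCdef]; exact hMC (hBM hb)
      exact Subgroup.mem_centralizer_iff.mp hbC z (hZR hz)
    -- every p'-element of M lies in B
    have hp'B : ∀ x ∈ M, (orderOf x).Coprime p → x ∈ B := by
      intro x hx hxo
      rw [← hsup] at hx
      obtain ⟨b, hb, z, hz, hxbz⟩ : ∃ b ∈ B, ∃ z ∈ Z, x = b * z := by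
        have h1 : Z ≤ Subgroup.normalizer (B : Set G) := by
          apply le_normalizer_of_conj_mem
          intro z hz b hb
          have := hcommBZ b hb z hz
          have h2 : z * b * z⁻¹ = b := by rw [this]; group
          rw [h2]; exact hb
        let Mm : Subgroup G :=
          { carrier := {x | ∃ b ∈ B, ∃ z ∈ Z, x = b * z}
            one_mem' := ⟨1, B.one_mem, 1, Z.one_mem, by simp⟩
            mul_mem' := by
              rintro _ _ ⟨b, hb, z, hz, rfl⟩ ⟨b', hb', z', hz', rfl⟩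
              refine ⟨b * b', B.mul_mem hb hb', z * z', Z.mul_mem hz hz', ?_⟩
              have := hcommBZ b' hb' z hz
              calc b * z * (b' * z') = b * (z * b') * z' := by group
                _ = b * (b' * z) * z' := by rw [this]
                _ = b * b' * (z * z') := by group
            inv_mem' := by
              rintro _ ⟨b, hb, z, hz, rfl⟩
              refine ⟨b⁻¹, B.inv_mem hb, z⁻¹, Z.inv_mem hz, ?_⟩
              have := hcommBZ b hb z hz
              calc (b * z)⁻¹ = (z * b)⁻¹ := by rw [this]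
                _ = b⁻¹ * z⁻¹ := by group }
        have h2 : B ≤ Mm := fun b hb => ⟨b, hb, 1, Z.one_mem, by simp⟩
        have h3 : Z ≤ Mm := fun z hz => ⟨1, B.one_mem, z, hz, by simp⟩
        exact (sup_le h2 h3) hx
      have hcomm : Commute b z := (hcommBZ b hb z hz).symm
      have hbpow : b ^ Nat.card B = 1 := by
        have := pow_card_eq_one' (G := B) (x := ⟨b, hb⟩)
        exact congrArg Subtype.val this
      have h1 : x ^ (Nat.card B * orderOf x) = 1 := by
        rw [mul_comm, pow_mul, pow_orderOf_eq_one, one_pow]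
      have h2 : z ^ (Nat.card B * orderOf x) = 1 := by
        have h5 : ∀ j : ℕ, x ^ (Nat.card B * j) = z ^ (Nat.card B * j) := by
          intro j
          rw [hxbz, hcomm.mul_pow, pow_mul b, hbpow, one_pow, one_mul]
        rw [← h5]; exact h1
      have h3 : orderOf z ∣ Nat.card B * orderOf x := orderOf_dvd_of_pow_eq_one h2
      obtain ⟨j, hj⟩ := IsPGroup.iff_orderOf.mp hZp ⟨z, hz⟩
      rw [Subgroup.orderOf_mk] at hj
      have h4 : (orderOf z).Coprime (orderOf z) := by
        apply Nat.Coprime.coprime_dvd_right h3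
        rw [hj]
        exact Nat.Coprime.pow_left j (Nat.Coprime.symm (Nat.Coprime.mul_left hBcop hxo))
      rw [Nat.coprime_self] at h4
      have hz1 : z = 1 := orderOf_eq_one_iff.mp h4
      rw [hxbz, hz1, mul_one]; exact hb
    -- B is normal in G
    have hBn : B.Normal := by
      constructor
      intro b hb g
      apply hp'B _ (hMn.conj_mem b (hBM hb) g)
      have h1 : g * b * g⁻¹ = MulAut.conj g b := rfl
      rw [h1, MulEquiv.orderOf_eq]
      have h2 : orderOf b ∣ Nat.card B := by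
        have := orderOf_dvd_natCard (⟨b, hb⟩ : B)
        rwa [Subgroup.orderOf_mk] at this
      exact Nat.Coprime.coprime_dvd_left h2 hBcop
    have hB1 : B = ⊥ := by
      have := Cfsg.Agent.Lib.Helper6.le_pPrimeCore hBn hBcop
      rw [hred] at this
      exact le_bot_iff.mp this
    apply hMZ
    rw [← hsup, hB1, bot_sup_eq]

end Cfsg.Agent.Lib.Helper4
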