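import Mathlib
import Cfsg.Prelude.Def_Local
import Cfsg.Agent.S0017
import Cfsg.Agent.Lib.Helper6.PPrimeCore
import Cfsg.Agent.Lib.Lead.Core
import Cfsg.Agent.Lib.Lead.HallTools
import Cfsg.Agent.Lib.Lead.CoprimeAction
import Cfsg.Agent.Lib.Lead.ThompsonPQ

set_option autoImplicit false
open Pointwise

namespace Cfsg.Agent.Lib.Helper4

open Cfsg Cfsg.Agent.Lib.Lead Cfsg.Agent.Lib.Helper6

variable {G : Type*} [Group G]

/-- `O_{p'}(G / O_{p'}(G)) = 1`. -/
theorem pPrimeCore_quotient_self (p : ℕ) [Finite G] :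
    pPrimeCore p (G ⧸ pPrimeCore p G) = ⊥ := by
  set K := pPrimeCore p G with hK
  set X := pPrimeCore p (G ⧸ K) with hX
  have hXn : X.Normal := inferInstance
  have h1 : Nat.card (X.comap (QuotientGroup.mk' K)) = Nat.card X * Nat.card K := card_comap_mk K X
  have h2 : (Nat.card (X.comap (QuotientGroup.mk' K))).Coprime p := by
    rw [h1]
    exact Nat.Coprime.mul_left (pPrimeCore_coprime p) (pPrimeCore_coprime p)
  have h3 : X.comap (QuotientGroup.mk' K) ≤ K := le_pPrimeCore (hXn.comap _) h2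
  rw [Subgroup.eq_bot_iff_forall]
  intro y hy
  obtain ⟨g, rfl⟩ := QuotientGroup.mk'_surjective K y
  have : g ∈ X.comap (QuotientGroup.mk' K) := hy
  exact (QuotientGroup.eq_one_iff g).mpr (h3 this)

/-- lifting a fixed point modulo a normal `p'`-subgroup to a fixed point, for an element `x` generating a
`p`-group. -/
theorem exists_fixed_lift [Finite G] (p : ℕ) [Fact p.Prime] (K : Subgroup G) [K.Normal]
    (hK : (Nat.card K).Coprime p) (x : G) (hx : IsPGroup p (Subgroup.zpowers x)) (v : G)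
    (hv : v * x * v⁻¹ * x⁻¹ ∈ K) :
    ∃ k ∈ K, (k * v) * x = x * (k * v) := by
  set A := Subgroup.zpowers x with hA
  have hAK : A ≤ Subgroup.normalizer (K : Set G) := by
    rw [Subgroup.normalizer_eq_top]; exact le_top
  have hcop : (Nat.card A).Coprime (Nat.card K) := by
    obtain ⟨n, hn⟩ := (IsPGroup.iff_card).mp hx
    rw [hn]
    exact (Nat.Coprime.pow_right n hK).symm
  have hsolv : Group.IsSolvable A ∨ Group.IsSolvable K := by
    left
    exact isSolvable_of_isPGroup p A hx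
  have hB : MulAut.conj v • A ≤ A ⊔ K := by
    intro y hy
    rw [mem_conj_smul_iff'] at hy
    obtain ⟨i, hi⟩ := Subgroup.mem_zpowers_iff.mp hy
    -- y = v x^i v⁻¹
    have hy' : y = (v * x * v⁻¹) ^ i := by
      rw [conj_zpow, hi]; group
    have hvx : v * x * v⁻¹ ∈ A ⊔ K := by
      have : v * x * v⁻¹ = (v * x * v⁻¹ * x⁻¹) * x := by group
      rw [this]
      exact Subgroup.mul_mem _ (Subgroup.mem_sup_right hv) (Subgroup.mem_sup_left (Subgroup.mem_zpowers x))
    rw [hy']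
    exact Subgroup.zpow_mem _ hvx i
  obtain ⟨k, hkK, hk⟩ := coprime_conj_complement A K hAK hcop hsolv _ hB (card_conj_smul v A)
  refine ⟨k⁻¹, K.inv_mem hkK, ?_⟩
  -- c = k⁻¹ v normalizes A
  set c := k⁻¹ * v with hc
  have hcA : MulAut.conj c • A = A := by
    rw [hc, map_mul, mul_smul, ← hk, ← mul_smul, ← map_mul, inv_mul_cancel, map_one, one_smul]
  have h1 : c * x * c⁻¹ ∈ A := by
    have : c * x * c⁻¹ ∈ MulAut.conj c • A := by
      rw [mem_conj_smul_iff']
      have : c⁻¹ * (c * x * c⁻¹) * c = x := by group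
      rw [this]; exact Subgroup.mem_zpowers x
    rwa [hcA] at this
  have h2 : c * x * c⁻¹ * x⁻¹ ∈ A := A.mul_mem h1 (A.inv_mem (Subgroup.mem_zpowers x))
  have h3 : c * x * c⁻¹ * x⁻¹ ∈ K := by
    have e : c * x * c⁻¹ * x⁻¹ = k⁻¹ * (v * x * v⁻¹ * x⁻¹) * (x * k * x⁻¹) := by
      rw [hc]; group
    rw [e]
    exact K.mul_mem (K.mul_mem (K.inv_mem hkK) hv) (Subgroup.Normal.conj_mem inferInstance k hkK x)
  have h4 : c * x * c⁻¹ * x⁻¹ ∈ A ⊓ K := ⟨h2, h3⟩
  rw [isPGroup_inf_coprime_eq_bot hK hx, Subgroup.mem_bot] at h4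
  calc c * x = (c * x * c⁻¹ * x⁻¹) * (x * c) := by group
    _ = x * c := by rw [h4, one_mul]

/-- Solvable `L_{p'}`-balance: in a finite solvable group `H`, a `p'`-subgroup `D` of `C_H(x)` normalized
by `C_H(x)`, where `x` is a `p`-element, lies in `O_{p'}(H)`. -/
theorem solvable_pprime_le {H : Type*} [Group H] [Finite H] [Group.IsSolvable H] (p : ℕ) [Fact p.Prime]
    (x : H) (hx : IsPGroup p (Subgroup.zpowers x)) (D : Subgroup H) (hDcop : (Nat.card D).Coprime p)
    (hDx : D ≤ Subgroup.centralizer ({x} : Set H))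
    (hDn : Subgroup.centralizer ({x} : Set H) ≤ Subgroup.normalizer (D : Set H)) :
    D ≤ pPrimeCore p H := by
  set K := pPrimeCore p H with hK
  have hKcop : (Nat.card K).Coprime p := pPrimeCore_coprime p
  set π := QuotientGroup.mk' K with hπ
  set V := pCore p (H ⧸ K) with hV
  have hVn : V.Normal := inferInstance
  have hVp : IsPGroup p V := pCore_isPGroup p
  set P := (Subgroup.zpowers x).map π with hP
  set Q := D.map π with hQ
  have hPp : IsPGroup p P := hx.map π
  have hQcop : (Nat.card Q).Coprime p :=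
    Nat.Coprime.coprime_dvd_left (Subgroup.card_map_dvd D π) hDcop
  have hPQ : P ≤ Subgroup.centralizer (Q : Set (H ⧸ K)) := by
    rintro _ ⟨y, hy, rfl⟩
    rw [Subgroup.mem_centralizer_iff]
    rintro _ ⟨d, hd, rfl⟩
    obtain ⟨i, rfl⟩ := Subgroup.mem_zpowers_iff.mp hy
    have h1 : d * x = x * d := by
      have := Subgroup.mem_centralizer_iff.mp (hDx hd) x rfl
      exact this.symm
    have h2 : d * x ^ i = x ^ i * d := (Commute.zpow_right h1 i).eq
    rw [← map_mul, ← map_mul, h2]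
  have hPU : P ≤ Subgroup.normalizer (V : Set (H ⧸ K)) := by
    rw [Subgroup.normalizer_eq_top]; exact le_top
  have hQU : Q ≤ Subgroup.normalizer (V : Set (H ⧸ K)) := by
    rw [Subgroup.normalizer_eq_top]; exact le_top
  have hVQ : V ⊓ Q = ⊥ := isPGroup_inf_coprime_eq_bot hQcop hVp
  have hC : V ⊓ Subgroup.centralizer (P : Set (H ⧸ K)) ≤ Subgroup.centralizer (Q : Set (H ⧸ K)) := by
    rintro vb ⟨hvV, hvP⟩
    obtain ⟨v, rfl⟩ := QuotientGroup.mk'_surjective K vb
    have hvx : v * x * v⁻¹ * x⁻¹ ∈ K := by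
      have h1 : π x * π v = π v * π x :=
        Subgroup.mem_centralizer_iff.mp hvP (π x) ⟨x, Subgroup.mem_zpowers x, rfl⟩
      rw [← QuotientGroup.eq_one_iff]
      change π (v * x * v⁻¹ * x⁻¹) = 1
      rw [map_mul, map_mul, map_mul, ← h1, map_inv, map_inv]
      group
    obtain ⟨k, hkK, hk⟩ := exists_fixed_lift p K hKcop x hx v hvx
    have hπkv : π (k * v) = π v := by
      rw [map_mul]
      have : π k = 1 := (QuotientGroup.eq_one_iff k).mpr hkK
      rw [this, one_mul]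
    have hcx : k * v ∈ Subgroup.centralizer ({x} : Set H) := by
      rw [Subgroup.mem_centralizer_iff]
      intro y hy
      rw [Set.mem_singleton_iff] at hy
      rw [hy]; exact hk.symm
    rw [Subgroup.mem_centralizer_iff]
    rintro _ ⟨d, hd, rfl⟩
    have h1 : (k * v) * d * (k * v)⁻¹ ∈ D :=
      (Subgroup.mem_normalizer_iff.mp (hDn hcx) d).mp hd
    have h2 : (k * v) * d * (k * v)⁻¹ * d⁻¹ ∈ D := D.mul_mem h1 (D.inv_mem hd)
    have h3 : π ((k * v) * d * (k * v)⁻¹ * d⁻¹) ∈ Q := ⟨_, h2, rfl⟩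
    have h4 : π ((k * v) * d * (k * v)⁻¹ * d⁻¹) ∈ V := by
      have e : π ((k * v) * d * (k * v)⁻¹ * d⁻¹) = π v * (π d * (π v)⁻¹ * (π d)⁻¹) := by
        rw [map_mul, map_mul, map_mul, map_inv, map_inv, hπkv]
        group
      rw [e]
      exact V.mul_mem hvV (hVn.conj_mem _ (V.inv_mem hvV) _)
    have h5 : π ((k * v) * d * (k * v)⁻¹ * d⁻¹) ∈ V ⊓ Q := ⟨h4, h3⟩
    rw [hVQ, Subgroup.mem_bot, map_mul, map_mul, map_mul, map_inv, map_inv, hπkv] at h5
    calc π d * π v = (π v * π d * (π v)⁻¹ * (π d)⁻¹)⁻¹ * (π v * π d) := by group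
      _ = π v * π d := by rw [h5, inv_one, one_mul]
  have hQV : Q ≤ Subgroup.centralizer (V : Set (H ⧸ K)) :=
    thompson_PQ p P Q V hPp hQcop hVp hPQ hPU hQU hC
  have hbot : pPrimeCore p (H ⧸ K) = ⊥ := pPrimeCore_quotient_self p
  have hQV' : Q ≤ V := hQV.trans (Cfsg.Agent.S0017.result p hbot)
  have hQbot : Q = ⊥ := by
    have : Q = V ⊓ Q := (inf_eq_right.mpr hQV').symm
    rw [this, hVQ]
  intro d hd
  have : π d ∈ Q := ⟨d, hd, rfl⟩
  rw [hQbot, Subgroup.mem_bot] at this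
  exact (QuotientGroup.eq_one_iff d).mp this

end Cfsg.Agent.Lib.Helper4
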