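import Mathlib
import Cfsg.Prelude.Def_Characters
import Cfsg.Prelude.Def_OddOrderChar
import Cfsg.Agent.Lib.Helper4.VirtualChar

set_option autoImplicit false

namespace Cfsg.Agent.Lib.Helper4

open Cfsg.Agent.Lib.Helper1
open scoped ComplexConjugate

section ZSpan
variable {X : Type*} {S : Set (X → ℂ)}

theorem mem_zspan_iff {α : X → ℂ} : α ∈ Cfsg.zspan S ↔ α ∈ Submodule.span ℤ S := Iff.rfl

theorem mem_zspan_of_mem {α : X → ℂ} (h : α ∈ S) : α ∈ Cfsg.zspan S :=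
  Submodule.subset_span h

theorem zspan_zero : (0 : X → ℂ) ∈ Cfsg.zspan S := (Submodule.span ℤ S).zero_mem

theorem zspan_add {α β : X → ℂ} (ha : α ∈ Cfsg.zspan S) (hb : β ∈ Cfsg.zspan S) :
    α + β ∈ Cfsg.zspan S := (Submodule.span ℤ S).add_mem ha hb

theorem zspan_neg {α : X → ℂ} (ha : α ∈ Cfsg.zspan S) : -α ∈ Cfsg.zspan S :=
  (Submodule.span ℤ S).neg_mem ha

theorem zspan_sub {α β : X → ℂ} (ha : α ∈ Cfsg.zspan S) (hb : β ∈ Cfsg.zspan S) :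
    α - β ∈ Cfsg.zspan S := (Submodule.span ℤ S).sub_mem ha hb

theorem zspan_zsmul {α : X → ℂ} (n : ℤ) (ha : α ∈ Cfsg.zspan S) : n • α ∈ Cfsg.zspan S :=
  (Submodule.span ℤ S).smul_mem n ha

theorem zspan_mono {T : Set (X → ℂ)} (h : S ⊆ T) : Cfsg.zspan S ⊆ Cfsg.zspan T :=
  Submodule.span_mono h

theorem zspanOn_subset_zspan {A : Set X} : Cfsg.zspanOn S A ⊆ Cfsg.zspan S := fun _ h => h.1

theorem zspanOn_add {A : Set X} {α β : X → ℂ} (ha : α ∈ Cfsg.zspanOn S A)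
    (hb : β ∈ Cfsg.zspanOn S A) : α + β ∈ Cfsg.zspanOn S A :=
  ⟨zspan_add ha.1 hb.1, fun x hx => by simp [ha.2 x hx, hb.2 x hx]⟩

theorem zspanOn_neg {A : Set X} {α : X → ℂ} (ha : α ∈ Cfsg.zspanOn S A) :
    -α ∈ Cfsg.zspanOn S A :=
  ⟨zspan_neg ha.1, fun x hx => by simp [ha.2 x hx]⟩

theorem zspanOn_sub {A : Set X} {α β : X → ℂ} (ha : α ∈ Cfsg.zspanOn S A)
    (hb : β ∈ Cfsg.zspanOn S A) : α - β ∈ Cfsg.zspanOn S A :=
  ⟨zspan_sub ha.1 hb.1, fun x hx => by simp [ha.2 x hx, hb.2 x hx]⟩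

theorem zspanOn_zsmul {A : Set X} {α : X → ℂ} (n : ℤ) (ha : α ∈ Cfsg.zspanOn S A) :
    n • α ∈ Cfsg.zspanOn S A :=
  ⟨zspan_zsmul n ha.1, fun x hx => by simp [ha.2 x hx]⟩

end ZSpan

section Isometry
variable {L : Type*} [Group L] [Fintype L] {G : Type*} [Group G] [Fintype G]
  {E : Set (L → ℂ)} {τ : (L → ℂ) → (G → ℂ)}

theorem lio_add (h : Cfsg.IsLinearIsometryOn E τ) {α β : L → ℂ}
    (ha : α ∈ E) (hb : β ∈ E) : τ (α + β) = τ α + τ β := h.1 α ha β hb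

theorem lio_zsmul (h : Cfsg.IsLinearIsometryOn E τ) {α : L → ℂ}
    (ha : α ∈ E) (n : ℤ) : τ (n • α) = n • τ α := h.2.1 α ha n

theorem lio_inner (h : Cfsg.IsLinearIsometryOn E τ) {α β : L → ℂ}
    (ha : α ∈ E) (hb : β ∈ E) : Cfsg.classInner (τ α) (τ β) = Cfsg.classInner α β :=
  h.2.2.1 α ha β hb

theorem lio_genChar (h : Cfsg.IsLinearIsometryOn E τ) {α : L → ℂ}
    (ha : α ∈ E) : Cfsg.IsGeneralizedCharacter G (τ α) := h.2.2.2 α ha

theorem lio_neg (h : Cfsg.IsLinearIsometryOn E τ) {α : L → ℂ}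
    (ha : α ∈ E) : τ (-α) = -τ α := by
  have := lio_zsmul h ha (-1)
  simpa using this

theorem lio_sub (h : Cfsg.IsLinearIsometryOn E τ) {α β : L → ℂ}
    (ha : α ∈ E) (hb : β ∈ E) (hnb : -β ∈ E) : τ (α - β) = τ α - τ β := by
  rw [sub_eq_add_neg, lio_add h ha hnb, lio_neg h hb, ← sub_eq_add_neg]

theorem lio_mono {E' : Set (L → ℂ)} (h : Cfsg.IsLinearIsometryOn E τ)
    (hE : E' ⊆ E) : Cfsg.IsLinearIsometryOn E' τ :=
  ⟨fun α ha β hb => h.1 α (hE ha) β (hE hb), fun α ha n => h.2.1 α (hE ha) n,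
    fun α ha β hb => h.2.2.1 α (hE ha) β (hE hb), fun α ha => h.2.2.2 α (hE ha)⟩

end Isometry


section ConjFun
variable {G : Type*} [Group G] [Fintype G]

theorem conjFun_apply {X : Type*} (f : X → ℂ) (x : X) : Cfsg.conjFun f x = conj (f x) := rfl

theorem conjFun_conjFun {X : Type*} (f : X → ℂ) : Cfsg.conjFun (Cfsg.conjFun f) = f := by
  funext x; simp [Cfsg.conjFun]

theorem classInner_conjFun_conjFun (f g : G → ℂ) :
    Cfsg.classInner (Cfsg.conjFun f) (Cfsg.conjFun g) = conj (Cfsg.classInner f g) := by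
  simp only [classInner_def, Cfsg.conjFun, map_mul, map_sum, map_inv₀, Complex.conj_natCast]

theorem classInner_conjFun_left (f g : G → ℂ) :
    Cfsg.classInner (Cfsg.conjFun f) g = conj (Cfsg.classInner f (Cfsg.conjFun g)) := by
  rw [← classInner_conjFun_conjFun, conjFun_conjFun]

/-- A generalized character of norm two vanishing at `1` is a signed difference of two distinct
irreducible characters. -/
theorem genChar_norm_two_vanish {θ : G → ℂ} (hθ : Cfsg.IsGeneralizedCharacter G θ)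
    (h2 : Cfsg.classInner θ θ = 2) (h1 : θ 1 = 0) :
    ∃ ψ₁ ψ₂ : G → ℂ, Cfsg.IsIrrCharacter G ψ₁ ∧ Cfsg.IsIrrCharacter G ψ₂ ∧ ψ₁ ≠ ψ₂ ∧
      ∃ a : ℂ, (a = 1 ∨ a = -1) ∧ θ = a • ψ₁ - a • ψ₂ := by
  obtain ⟨ψ₁, ψ₂, hψ₁, hψ₂, hne, a₁, a₂, ha₁, ha₂, rfl⟩ := genChar_norm_two hθ h2
  obtain ⟨n₁, hn₁, e₁⟩ := irr_apply_one_pos hψ₁
  obtain ⟨n₂, hn₂, e₂⟩ := irr_apply_one_pos hψ₂
  simp only [Pi.add_apply, Pi.smul_apply, smul_eq_mul, e₁, e₂] at h1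
  refine ⟨ψ₁, ψ₂, hψ₁, hψ₂, hne, a₁, ha₁, ?_⟩
  rcases ha₁ with rfl | rfl <;> rcases ha₂ with rfl | rfl
  · exfalso
    have : ((n₁ + n₂ : ℕ) : ℂ) = 0 := by push_cast; linear_combination h1
    have : n₁ + n₂ = 0 := by exact_mod_cast this
    omega
  · simp [sub_eq_add_neg]
  · simp [sub_eq_add_neg]
  · exfalso
    have : ((n₁ + n₂ : ℕ) : ℂ) = 0 := by push_cast; linear_combination -h1
    have : n₁ + n₂ = 0 := by exact_mod_cast this
    omega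

end ConjFun

end Cfsg.Agent.Lib.Helper4
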