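import Mathlib
import Cfsg.Prelude.Def_Characters
import Cfsg.Prelude.Def_OddOrderChar
import Cfsg.Agent.Lib.Helper1.IndFun
import Cfsg.Agent.Lib.Helper1.LinearChar
import Cfsg.Agent.Lib.Helper1.CharFound3
import Cfsg.Agent.Lib.Helper1.CharFound8
import Cfsg.Agent.Lib.Helper4.Characters
import Cfsg.Agent.Lib.Helper4.Coherence
import Cfsg.Agent.Lib.Helper4.IndNormal
import Cfsg.Agent.Lib.Helper2.FrobKer
import Cfsg.Agent.S0146
import Cfsg.Agent.S0148
import Cfsg.Agent.S0170
import Cfsg.Agent.S0194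

set_option autoImplicit false
set_option linter.unusedSectionVars false

/-!
# Linear characters of a Frobenius kernel and the characters of degree `e` they induce
-/

namespace Cfsg.Agent.Lib.Helper4.FrobTI

open Cfsg Cfsg.Agent.Lib.Helper1 Cfsg.Agent.Lib.Helper4 Cfsg.Agent.Lib.Helper2
open scoped ComplexConjugate

section LinSec

/-- The non-principal linear characters of a group, as functions. -/
def Lin (K : Type*) [Group K] : Set (K → ℂ) :=
  {θ | IsIrrCharacter K θ ∧ θ 1 = 1 ∧ θ ≠ fun _ => 1}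

variable {K : Type*} [Group K] [Finite K]

/-- coercion of a homomorphism to a function -/
def homFn (φ : K →* ℂˣ) : K → ℂ := fun g => (φ g : ℂ)

omit [Finite K] in
theorem homFn_injective : Function.Injective (homFn (K := K)) := by
  intro φ ψ h
  ext g
  exact congrFun h g

omit [Finite K] in
theorem homFn_one : homFn (1 : K →* ℂˣ) = fun _ => 1 := by
  funext g; simp [homFn]

theorem finite_hom : Finite (K →* ℂˣ) := by
  have : Function.Injective (fun φ : K →* ℂˣ =>
      (⟨homFn φ, isIrrCharacter_of_hom φ⟩ : IrrCharacter K)) := by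
    intro φ ψ h
    exact homFn_injective (congrArg Subtype.val h)
  exact Finite.of_injective _ this

theorem lin_eq_image : Lin K = homFn '' ({1}ᶜ : Set (K →* ℂˣ)) := by
  ext θ
  constructor
  · rintro ⟨hirr, h1, hne⟩
    obtain ⟨φ, rfl⟩ := exists_hom_of_isIrrCharacter hirr h1
    refine ⟨φ, ?_, rfl⟩
    intro hφ
    rw [Set.mem_singleton_iff] at hφ
    apply hne
    rw [hφ]
    exact homFn_one
  · rintro ⟨φ, hφ, rfl⟩
    refine ⟨isIrrCharacter_of_hom φ, by simp [homFn], ?_⟩
    intro h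
    apply hφ
    rw [Set.mem_singleton_iff]
    apply homFn_injective
    rw [homFn_one]
    exact h

theorem lin_finite : (Lin K).Finite := by
  haveI := finite_hom (K := K)
  rw [lin_eq_image]
  exact Set.toFinite _

theorem card_hom : Nat.card (K →* ℂˣ) = Nat.card (Abelianization K) := by
  have hne : NeZero (Monoid.exponent (Abelianization K)) := ⟨Monoid.exponent_ne_zero_of_finite⟩
  rw [Nat.card_congr (Abelianization.lift (G := K) (A := ℂˣ))]
  exact CommGroup.card_monoidHom_of_hasEnoughRootsOfUnity (Abelianization K) ℂ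

theorem ncard_lin : (Lin K).ncard + 1 = Nat.card (Abelianization K) := by
  haveI := finite_hom (K := K)
  rw [lin_eq_image, Set.ncard_image_of_injective _ homFn_injective, ← card_hom]
  have h := Set.ncard_add_ncard_compl ({1} : Set (K →* ℂˣ))
  rw [Set.ncard_singleton] at h
  omega

theorem lin_nonempty [Group.IsNilpotent K] [Nontrivial K] : (Lin K).Nonempty := by
  by_contra hne
  rw [Set.not_nonempty_iff_eq_empty] at hne
  have h1 := ncard_lin (K := K)
  rw [hne, Set.ncard_empty] at h1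
  -- abelianization trivial means K perfect
  have h2 : commutator K = ⊤ := by
    have h3 : (commutator K).index = 1 := by
      rw [Subgroup.index_eq_card]
      exact h1.symm
    exact Subgroup.index_eq_one.mp h3
  have h4 := IsSolvable.commutator_lt_top_of_nontrivial K
  rw [h2] at h4
  exact lt_irrefl _ h4

end LinSec

section XSec

variable {N : Type*} [Group N] [Fintype N] (K : Subgroup N) [hKn : K.Normal] [Fintype K]

/-- The characters of `N` induced from the non-principal linear characters of `K`. -/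
def X : Set (N → ℂ) := {ξ | ∃ θ ∈ Lin K, ξ = indFun K θ}

variable {K}

theorem conjFn_mem_lin {θ : K → ℂ} (hθ : θ ∈ Lin K) (g : N) : conjFn K θ g ∈ Lin K := by
  obtain ⟨hirr, h1, hne⟩ := hθ
  refine ⟨isIrrCharacter_conjFn K hirr g, ?_, ?_⟩
  · rw [conjFn_apply]
    have : (⟨g * ((1 : K) : N) * g⁻¹, hKn.conj_mem _ (1 : K).2 g⟩ : K) = 1 := by
      apply Subtype.ext; simp
    rw [this, h1]
  · intro h
    apply hne
    have h2 : θ = conjFn K (conjFn K θ g) g⁻¹ := by
      rw [← conjFn_mul, mul_inv_cancel, conjFn_one]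
    rw [h2, h]
    funext k
    rw [conjFn_apply]

theorem conjFun_mem_lin {θ : K → ℂ} (hθ : θ ∈ Lin K) : conjFun θ ∈ Lin K := by
  obtain ⟨hirr, h1, hne⟩ := hθ
  refine ⟨isIrrCharacter_conj hirr, ?_, ?_⟩
  · rw [conjFun_apply, h1, map_one]
  · intro h
    apply hne
    rw [← conjFun_conjFun θ, h]
    funext k
    rw [conjFun_apply, map_one]

theorem conjFun_indFun (θ : K → ℂ) : conjFun (indFun K θ) = indFun K (conjFun θ) := by
  funext g
  rw [conjFun_apply, indFun_apply, indFun_apply, map_mul, map_inv₀, map_natCast, map_sum]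
  congr 1
  refine Finset.sum_congr rfl fun x _ => ?_
  by_cases hx : x⁻¹ * g * x ∈ K
  · rw [extendByZero_of_mem K θ hx, extendByZero_of_mem K _ hx, conjFun_apply]
  · rw [extendByZero_of_notMem K θ hx, extendByZero_of_notMem K _ hx, map_zero]

theorem X_irr (hC : ∀ k ∈ K, k ≠ 1 → Subgroup.centralizer ({k} : Set N) ≤ K) {ξ : N → ℂ}
    (h : ξ ∈ X K) : IsIrrCharacter N ξ := by
  obtain ⟨θ, hθ, rfl⟩ := h
  exact FrobKer.isIrr_indFun K hC hθ.1 hθ.2.2

theorem X_one {ξ : N → ℂ} (h : ξ ∈ X K) : ξ 1 = (K.index : ℂ) := by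
  obtain ⟨θ, hθ, rfl⟩ := h
  have hK0 : (Nat.card K : ℂ) ≠ 0 := Nat.cast_ne_zero.mpr Nat.card_pos.ne'
  rw [Cfsg.Agent.S0170.indFun_one, hθ.2.1, ← K.index_mul_card]
  push_cast
  field_simp

theorem X_vanish {ξ : N → ℂ} (h : ξ ∈ X K) {x : N} (hx : x ∉ K) : ξ x = 0 := by
  obtain ⟨θ, hθ, rfl⟩ := h
  exact indFun_normal_of_notMem K θ hx

theorem X_conj {ξ : N → ℂ} (h : ξ ∈ X K) : conjFun ξ ∈ X K := by
  obtain ⟨θ, hθ, rfl⟩ := h
  exact ⟨conjFun θ, conjFun_mem_lin hθ, conjFun_indFun θ⟩

theorem X_conj_ne (hodd : Odd (Nat.card N))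
    (hC : ∀ k ∈ K, k ≠ 1 → Subgroup.centralizer ({k} : Set N) ≤ K) {ξ : N → ℂ}
    (h : ξ ∈ X K) : conjFun ξ ≠ ξ := by
  intro heq
  have hirr := X_irr hC h
  obtain ⟨θ, hθ, rfl⟩ := h
  have h1 := Cfsg.Agent.S0194.result hodd K θ hθ.1 hθ.2.2
  have h2 : (fun g => conj (indFun K θ g)) = conjFun (indFun K θ) := rfl
  rw [h2, heq, classInner_irr_self hirr] at h1
  exact one_ne_zero h1

theorem X_finite : (X K).Finite := by
  have : X K = (fun θ => indFun K θ) '' Lin K := by
    ext ξ
    constructor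
    · rintro ⟨θ, hθ, rfl⟩; exact ⟨θ, hθ, rfl⟩
    · rintro ⟨θ, hθ, rfl⟩; exact ⟨θ, hθ, rfl⟩
  rw [this]
  exact lin_finite.image _

theorem X_nonempty [Group.IsNilpotent K] [Nontrivial K] : (X K).Nonempty := by
  obtain ⟨θ, hθ⟩ := lin_nonempty (K := K)
  exact ⟨indFun K θ, θ, hθ, rfl⟩

/-- Inner product of two induced linear characters via conjugates. -/
theorem inner_ind_lin {θ θ₀ : K → ℂ} (hθ : θ ∈ Lin K) (hθ₀ : θ₀ ∈ Lin K) :
    classInner (indFun K θ) (indFun K θ₀) =
      (Nat.card K : ℂ)⁻¹ * ∑ g : N, (if θ = conjFn K θ₀ g then (1 : ℂ) else 0) := by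
  rw [classInner_indFun_normal]
  congr 1
  refine Finset.sum_congr rfl fun g _ => ?_
  exact classInner_irr hθ.1 (conjFn_mem_lin hθ₀ g).1

open Classical in
/-- The number of linear characters inducing a given member of `X` is the index of `K`. -/
theorem card_fiber (hC : ∀ k ∈ K, k ≠ 1 → Subgroup.centralizer ({k} : Set N) ≤ K)
    {θ₀ : K → ℂ} (hθ₀ : θ₀ ∈ Lin K) :
    ((lin_finite (K := K)).toFinset.filter (fun θ => indFun K θ = indFun K θ₀)).card = K.index := by
  have hK0 : (Nat.card K : ℂ) ≠ 0 := Nat.cast_ne_zero.mpr Nat.card_pos.ne'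
  have hcast : (((lin_finite (K := K)).toFinset.filter
      (fun θ => indFun K θ = indFun K θ₀)).card : ℂ) = (K.index : ℂ) := by
    rw [Finset.card_filter]
    push_cast
    have h1 : ∀ θ ∈ (lin_finite (K := K)).toFinset,
        (if indFun K θ = indFun K θ₀ then (1 : ℂ) else 0) =
          (Nat.card K : ℂ)⁻¹ * ∑ g : N, (if θ = conjFn K θ₀ g then (1 : ℂ) else 0) := by
      intro θ hθ
      rw [Set.Finite.mem_toFinset] at hθ
      rw [← inner_ind_lin hθ hθ₀]
      exact (classInner_irr (FrobKer.isIrr_indFun K hC hθ.1 hθ.2.2)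
        (FrobKer.isIrr_indFun K hC hθ₀.1 hθ₀.2.2)).symm
    rw [Finset.sum_congr rfl h1, ← Finset.mul_sum, Finset.sum_comm]
    have h2 : ∀ g : N, ∑ θ ∈ (lin_finite (K := K)).toFinset,
        (if θ = conjFn K θ₀ g then (1 : ℂ) else 0) = 1 := by
      intro g
      rw [Finset.sum_ite_eq']
      rw [if_pos]
      rw [Set.Finite.mem_toFinset]
      exact conjFn_mem_lin hθ₀ g
    rw [Finset.sum_congr rfl fun g _ => h2 g, Finset.sum_const, Finset.card_univ,
      ← Nat.card_eq_fintype_card, nsmul_eq_mul, mul_one, ← K.index_mul_card]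
    push_cast
    field_simp
  exact_mod_cast hcast

/-- `|Lin K| = [N : K] · |X K|`. -/
theorem ncard_lin_eq (hC : ∀ k ∈ K, k ≠ 1 → Subgroup.centralizer ({k} : Set N) ≤ K) :
    (Lin K).ncard = K.index * (X K).ncard := by
  classical
  rw [Set.ncard_eq_toFinset_card _ lin_finite, Set.ncard_eq_toFinset_card _ X_finite]
  rw [Finset.card_eq_sum_card_fiberwise (f := fun θ => indFun K θ) (t := (X_finite (K := K)).toFinset)]
  · have : ∀ ξ ∈ (X_finite (K := K)).toFinset,
        ((lin_finite (K := K)).toFinset.filter (fun θ => indFun K θ = ξ)).card = K.index := by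
      intro ξ hξ
      rw [Set.Finite.mem_toFinset] at hξ
      obtain ⟨θ₀, hθ₀, rfl⟩ := hξ
      exact card_fiber hC hθ₀
    rw [Finset.sum_congr rfl this, Finset.sum_const, smul_eq_mul, mul_comm]
  · intro θ hθ
    rw [Finset.mem_coe, Set.Finite.mem_toFinset] at hθ
    rw [Finset.mem_coe, Set.Finite.mem_toFinset]
    exact ⟨θ, hθ, rfl⟩

end XSec

end Cfsg.Agent.Lib.Helper4.FrobTI
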