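import Mathlib
import Cfsg.Agent.S0035
import Cfsg.Agent.S0042
import Cfsg.Agent.Lib.Lead.Frobenius
import Cfsg.Agent.Lib.Lead.Frobenius3
import Cfsg.Agent.Lib.Lead.Nilpotent

set_option autoImplicit false
open Pointwise

/-!
# Groups with a normal subgroup containing the centralizers of its non-identity elements
(Frobenius groups given by their kernel): coprimality, complement, nilpotency of the kernel.
-/

namespace Cfsg.Agent.Lib.Helper4.FrobTI

variable {N : Type*} [Group N] [Finite N] (K : Subgroup N) [hKn : K.Normal]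

include hKn in
/-- The order of the kernel is coprime to its index. -/
theorem coprime_card_index (hC : ∀ k ∈ K, k ≠ 1 → Subgroup.centralizer ({k} : Set N) ≤ K) :
    (Nat.card K).Coprime K.index := by
  classical
  by_contra hnc
  obtain ⟨p, hp, hpK, hpI⟩ := Nat.Prime.not_coprime_iff_dvd.mp hnc
  haveI : Fact p.Prime := ⟨hp⟩
  -- an element of order p in K
  obtain ⟨k, hk⟩ := exists_prime_orderOf_dvd_card' (G := K) p hpK
  have hk1 : k ≠ 1 := by
    intro h
    rw [h, orderOf_one] at hk
    exact hp.one_lt.ne hk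
  have hkp : IsPGroup p (Subgroup.zpowers (k : N)) := by
    apply IsPGroup.of_card (n := 1)
    rw [Nat.card_zpowers, pow_one, Subgroup.orderOf_coe, hk]
  obtain ⟨R, hR⟩ := hkp.exists_le_sylow
  -- R is not contained in K
  have hRK : ¬ ((R : Subgroup N) ≤ K) := by
    intro hle
    have h1 : Nat.card (R : Subgroup N) ∣ Nat.card K := Subgroup.card_dvd_of_le hle
    have h2 : Nat.card (R : Subgroup N) = p ^ (Nat.card N).factorization p :=
      Sylow.card_eq_multiplicity R
    have h3 : K.index * Nat.card K = Nat.card N := Subgroup.index_mul_card K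
    have hN0 : Nat.card N ≠ 0 := Nat.card_pos.ne'
    have hK0 : Nat.card K ≠ 0 := Nat.card_pos.ne'
    have hI0 : K.index ≠ 0 := Subgroup.index_ne_zero_of_finite
    have h4 : (Nat.card N).factorization p = (K.index).factorization p + (Nat.card K).factorization p := by
      rw [← h3, Nat.factorization_mul hI0 hK0]; rfl
    have h5 : 1 ≤ (K.index).factorization p :=
      (hp.dvd_iff_one_le_factorization hI0).mp hpI
    have h6 : p ^ ((Nat.card K).factorization p + 1) ∣ Nat.card K := by
      refine dvd_trans (pow_dvd_pow p ?_) (h2 ▸ h1)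
      omega
    exact Nat.pow_succ_factorization_not_dvd hK0 hp h6
  obtain ⟨x, hxR, hxK⟩ := SetLike.not_le_iff_exists.mp hRK
  haveI : Group.IsNilpotent (R : Subgroup N) := R.isPGroup'.isNilpotent
  have hM : K.subgroupOf (R : Subgroup N) ≠ ⊥ := by
    intro hb
    have hkR : (k : N) ∈ (R : Subgroup N) := hR (Subgroup.mem_zpowers _)
    have : (⟨(k : N), hkR⟩ : (R : Subgroup N)) ∈ K.subgroupOf (R : Subgroup N) := by
      rw [Subgroup.mem_subgroupOf]; exact k.2
    rw [hb, Subgroup.mem_bot] at this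
    apply hk1
    apply Subtype.ext
    have := congrArg Subtype.val this
    simpa using this
  have hz := Cfsg.Agent.Lib.Lead.inf_center_ne_bot (K.subgroupOf (R : Subgroup N)) hM
  obtain ⟨⟨z, hzm⟩, hz1⟩ := (Subgroup.ne_bot_iff_exists_ne_one).mp hz
  obtain ⟨hzK, hzc⟩ := Subgroup.mem_inf.mp hzm
  rw [Subgroup.mem_subgroupOf] at hzK
  have hz1' : (z : N) ≠ 1 := by
    intro h
    apply hz1
    apply Subtype.ext
    apply Subtype.ext
    simpa using h
  apply hxK
  apply hC (z : N) hzK hz1'
  rw [Subgroup.mem_centralizer_iff]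
  intro y hy
  rw [Set.mem_singleton_iff] at hy
  subst hy
  have := (Subgroup.mem_center_iff.mp hzc) ⟨x, hxR⟩
  have := congrArg Subtype.val this
  simpa using this.symm

include hKn in
/-- Existence of a complement acting without fixed points. -/
theorem exists_complement (hC : ∀ k ∈ K, k ≠ 1 → Subgroup.centralizer ({k} : Set N) ≤ K) :
    ∃ E : Subgroup N, Subgroup.IsComplement' K E ∧
      ∀ y ∈ E, y ≠ 1 → ∀ k ∈ K, y * k = k * y → k = 1 := by
  obtain ⟨E, hE⟩ := Subgroup.exists_right_complement'_of_coprime (coprime_card_index K hC)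
  refine ⟨E, hE, ?_⟩
  intro y hy hy1 k hk hcomm
  by_contra hk1
  have h1 : y ∈ Subgroup.centralizer ({k} : Set N) := by
    rw [Subgroup.mem_centralizer_iff]
    intro z hz
    rw [Set.mem_singleton_iff] at hz
    subst hz
    exact hcomm.symm
  have h2 : y ∈ K ⊓ E := ⟨hC k hk hk1 h1, hy⟩
  rw [disjoint_iff.mp hE.disjoint, Subgroup.mem_bot] at h2
  exact hy1 h2

include hKn in
/-- The kernel is nilpotent (Thompson). -/
theorem isNilpotent_kernel (hC : ∀ k ∈ K, k ≠ 1 → Subgroup.centralizer ({k} : Set N) ≤ K)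
    (hK1 : K ≠ ⊥) (hKtop : K ≠ ⊤) : Group.IsNilpotent K := by
  classical
  obtain ⟨E, hE, hfpf⟩ := exists_complement K hC
  have hE1 : E ≠ ⊥ := by
    intro hb
    apply hKtop
    have := hE.sup_eq_top
    rwa [hb, sup_bot_eq] at this
  have hF : Cfsg.IsFrobeniusComplement E := by
    rw [Cfsg.Agent.Lib.Lead.isFrobeniusComplement_iff_fpf K E hE hK1 hE1]
    intro y hy hy1
    rw [eq_bot_iff]
    intro k hk
    obtain ⟨hkK, hkc⟩ := Subgroup.mem_inf.mp hk
    rw [Subgroup.mem_bot]
    apply hfpf y hy hy1 k hkK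
    rw [Cfsg.Agent.Lib.Lead.mem_centralizer_singleton_iff] at hkc
    exact hkc
  obtain ⟨M, hMk, hMn, hMnil⟩ := Cfsg.Agent.S0042.result E hF
  -- K ⊆ frobeniusKernel E
  have hsub : (K : Set N) ⊆ Cfsg.frobeniusKernel E := by
    intro k hk
    by_cases hk1 : k = 1
    · exact Or.inl hk1
    · right
      intro g hg
      rw [Cfsg.Agent.Lib.Lead.mem_conj_smul_iff] at hg
      have h1 : g⁻¹ * k * g ∈ K := by
        have := hKn.conj_mem k hk g⁻¹
        rwa [inv_inv] at this
      have h2 : g⁻¹ * k * g ∈ K ⊓ E := ⟨h1, hg⟩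
      rw [disjoint_iff.mp hE.disjoint, Subgroup.mem_bot] at h2
      apply hk1
      have : k = g * (g⁻¹ * k * g) * g⁻¹ := by group
      rw [this, h2]; group
  have hcard : Nat.card (Cfsg.frobeniusKernel E) = Nat.card K := by
    rw [Cfsg.Agent.Lib.Lead.card_frobeniusKernel hF]
    have h1 := hE.card_mul_card
    have h2 := Subgroup.index_mul_card E
    have h3 : 0 < Nat.card E := Nat.card_pos
    rw [← h2] at h1
    exact (Nat.eq_of_mul_eq_mul_right h3 h1).symm
  have heq : (K : Set N) = Cfsg.frobeniusKernel E := by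
    apply Set.eq_of_subset_of_ncard_le hsub
    · rw [← Nat.card_coe_set_eq, ← Nat.card_coe_set_eq, hcard]; rfl
  have hKM : K = M := by
    apply SetLike.coe_injective
    rw [heq, hMk]
  rw [hKM]; exact hMnil

end Cfsg.Agent.Lib.Helper4.FrobTI
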