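import Mathlib
import Cfsg.Agent.Lib.Helper4.FrobTI2

set_option autoImplicit false
set_option linter.unusedSectionVars false

/-!
# The regular character of the quotient by a Frobenius kernel, and parity of `X`
-/

namespace Cfsg.Agent.Lib.Helper4.FrobTI

open Cfsg Cfsg.Agent.Lib.Helper1 Cfsg.Agent.Lib.Helper4 Cfsg.Agent.Lib.Helper2
open scoped ComplexConjugate

section Rho

variable {N : Type*} [Group N] [Fintype N] (K : Subgroup N) [hKn : K.Normal] [Fintype K]

/-- The function induced from the principal character of `K`. -/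
noncomputable def rho : N → ℂ := indFun K (fun _ => 1)

theorem one_irr (M : Type*) [Group M] : IsIrrCharacter M (fun _ => (1 : ℂ)) := by
  have := isIrrCharacter_of_hom (1 : M →* ℂˣ)
  simpa using this

theorem rho_isCharacter : IsCharacter N (rho K) :=
  Cfsg.Agent.S0148.result K _ (isCharacter_of_irr (one_irr K))

theorem rho_apply_mem {x : N} (hx : x ∈ K) : rho K x = (K.index : ℂ) := by
  have hK0 : (Nat.card K : ℂ) ≠ 0 := Nat.cast_ne_zero.mpr Nat.card_pos.ne'
  have := indFun_normal_apply K (fun _ => (1 : ℂ)) ⟨x, hx⟩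
  rw [rho]
  rw [this]
  simp only [conjFn_apply]
  rw [Finset.sum_const, Finset.card_univ, ← Nat.card_eq_fintype_card, nsmul_eq_mul, mul_one,
    ← K.index_mul_card]
  push_cast
  field_simp

theorem rho_apply_notMem {x : N} (hx : x ∉ K) : rho K x = 0 :=
  indFun_normal_of_notMem K _ hx

theorem rho_one : rho K 1 = (K.index : ℂ) := rho_apply_mem K K.one_mem

theorem conjFun_rho : conjFun (rho K) = rho K := by
  funext x
  rw [conjFun_apply]
  by_cases hx : x ∈ K
  · rw [rho_apply_mem K hx, map_natCast]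
  · rw [rho_apply_notMem K hx, map_zero]

theorem inner_rho_rho : classInner (rho K) (rho K) = (K.index : ℂ) := by
  have hK0 : (Nat.card K : ℂ) ≠ 0 := Nat.cast_ne_zero.mpr Nat.card_pos.ne'
  rw [rho, classInner_indFun_normal]
  have h1 : ∀ g : N, classInner (fun _ : K => (1 : ℂ)) (conjFn K (fun _ => 1) g) = 1 := by
    intro g
    have : conjFn K (fun _ : K => (1 : ℂ)) g = fun _ => 1 := by
      funext k; rw [conjFn_apply]
    rw [this]
    exact classInner_irr_self (one_irr K)
  rw [Finset.sum_congr rfl fun g _ => h1 g, Finset.sum_const, Finset.card_univ,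
    ← Nat.card_eq_fintype_card, nsmul_eq_mul, mul_one, ← K.index_mul_card]
  push_cast
  field_simp

variable {K}

theorem inner_rho_X {ξ : N → ℂ} (hξ : ξ ∈ X K) : classInner (rho K) ξ = 0 := by
  obtain ⟨θ, hθ, rfl⟩ := hξ
  rw [rho, classInner_indFun_normal]
  have h1 : ∀ g : N, classInner (fun _ : K => (1 : ℂ)) (conjFn K θ g) = 0 := by
    intro g
    have hg := conjFn_mem_lin hθ g
    exact classInner_irr_ne (one_irr K) hg.1 (Ne.symm hg.2.2)
  rw [Finset.sum_congr rfl fun g _ => h1 g, Finset.sum_const_zero, mul_zero]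

theorem inner_X_rho {ξ : N → ℂ} (hξ : ξ ∈ X K) : classInner ξ (rho K) = 0 :=
  classInner_eq_zero_symm (inner_rho_X hξ)

theorem inner_rho_one : classInner (rho K) (fun _ : N => (1 : ℂ)) = 1 := by
  rw [rho, Cfsg.Agent.S0146.result K _ _ (isClassFunction_irr (one_irr N))]
  exact classInner_irr_self (one_irr K)

theorem inner_X_one {ξ : N → ℂ} (hξ : ξ ∈ X K) : classInner ξ (fun _ : N => (1 : ℂ)) = 0 := by
  obtain ⟨θ, hθ, rfl⟩ := hξ
  rw [Cfsg.Agent.S0146.result K _ _ (isClassFunction_irr (one_irr N))]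
  exact classInner_irr_ne hθ.1 (one_irr K) hθ.2.2

theorem inner_X_X (hC : ∀ k ∈ K, k ≠ 1 → Subgroup.centralizer ({k} : Set N) ≤ K)
    {ξ ξ' : N → ℂ} (hξ : ξ ∈ X K) (hξ' : ξ' ∈ X K) :
    classInner ξ ξ' = if ξ = ξ' then 1 else 0 :=
  classInner_irr (X_irr hC hξ) (X_irr hC hξ')

end Rho

section Parity

/-- A finite set with a fixed-point-free involution has even cardinality. -/
theorem even_ncard_of_involution {α : Type*} (S : Set α) (hS : S.Finite) (σ : α → α)
    (hσ : ∀ x ∈ S, σ x ∈ S) (hne : ∀ x ∈ S, σ x ≠ x) (hinv : ∀ x ∈ S, σ (σ x) = x) :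
    Even S.ncard := by
  classical
  rw [Set.ncard_eq_toFinset_card S hS]
  have h1 : ∑ x ∈ hS.toFinset, (1 : ZMod 2) = 0 := by
    apply Finset.sum_involution (fun x _ => σ x)
    · intro x _
      decide
    · intro x hx _
      exact hne x ((Set.Finite.mem_toFinset hS).mp hx)
    · intro x hx
      exact (Set.Finite.mem_toFinset hS).mpr (hσ x ((Set.Finite.mem_toFinset hS).mp hx))
    · intro x hx
      exact hinv x ((Set.Finite.mem_toFinset hS).mp hx)
  rw [Finset.sum_const, nsmul_eq_mul, mul_one] at h1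
  have h2 := (ZMod.natCast_eq_zero_iff _ 2).mp h1
  exact even_iff_two_dvd.mpr h2

end Parity

end Cfsg.Agent.Lib.Helper4.FrobTI
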