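import Mathlib
import Cfsg.Agent.Lib.Helper4.FrobTI1
import Cfsg.Agent.Lib.Helper4.FrobTI3
import Cfsg.Agent.Lib.Helper4.VirtualChar
import Cfsg.Agent.S0150

set_option autoImplicit false
set_option linter.unusedSectionVars false

/-!
# Local data attached to a TI subgroup with Frobenius normalizer in a group of odd order
-/

namespace Cfsg.Agent.Lib.Helper4.FrobTI

open Cfsg Cfsg.Agent.Lib.Helper1 Cfsg.Agent.Lib.Helper4 Cfsg.Agent.Lib.Helper2
open scoped ComplexConjugate

section General

variable {G : Type*} [Group G] [Fintype G]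

theorem conjFun_indFun' (M : Subgroup G) (θ : M → ℂ) :
    conjFun (indFun M θ) = indFun M (conjFun θ) := by
  funext g
  rw [conjFun_apply, indFun_apply, indFun_apply, map_mul, map_inv₀, map_natCast, map_sum]
  congr 1
  refine Finset.sum_congr rfl fun x _ => ?_
  by_cases hx : x⁻¹ * g * x ∈ M
  · rw [extendByZero_of_mem M θ hx, extendByZero_of_mem M _ hx, conjFun_apply]
  · rw [extendByZero_of_notMem M θ hx, extendByZero_of_notMem M _ hx, map_zero]

theorem indFun_eq_zero_of (M : Subgroup G) (θ : M → ℂ) (g : G)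
    (h : ∀ x : G, ∀ hx : x⁻¹ * g * x ∈ M, θ ⟨x⁻¹ * g * x, hx⟩ = 0) : indFun M θ g = 0 := by
  rw [indFun_apply]
  have : ∀ x : G, extendByZero M θ (x⁻¹ * g * x) = 0 := by
    intro x
    by_cases hx : x⁻¹ * g * x ∈ M
    · rw [extendByZero_of_mem M θ hx]; exact h x hx
    · exact extendByZero_of_notMem M θ hx
  rw [Finset.sum_congr rfl fun x _ => this x, Finset.sum_const_zero, mul_zero]

/-- Two distinct irreducible characters whose conjugates differ by the opposite amount are
complex conjugates of one another. -/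
theorem conj_pair {θ θ' : G → ℂ} (hθ : IsIrrCharacter G θ) (hθ' : IsIrrCharacter G θ')
    (hne : θ ≠ θ') (h : conjFun θ - conjFun θ' = θ' - θ) : conjFun θ = θ' := by
  have hc : IsIrrCharacter G (conjFun θ) := isIrrCharacter_conj hθ
  have hc' : IsIrrCharacter G (conjFun θ') := isIrrCharacter_conj hθ'
  have h1 : classInner (conjFun θ - conjFun θ') θ' = classInner (θ' - θ) θ' := by rw [h]
  rw [classInner_sub_left, classInner_sub_left, classInner_irr hc hθ', classInner_irr hc' hθ',
    classInner_irr_self hθ', classInner_irr_ne hθ hθ' hne] at h1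
  by_contra hcon
  rw [if_neg hcon] at h1
  by_cases hc2 : conjFun θ' = θ'
  · rw [if_pos hc2] at h1; norm_num at h1
  · rw [if_neg hc2] at h1; norm_num at h1

end General

section Local

variable {G : Type*} [Group G] [Fintype G] (H : Subgroup G)
  [Fintype ↥(Subgroup.normalizer (H : Set G))]
  [Fintype ↥(H.subgroupOf (Subgroup.normalizer (H : Set G)))]

/-- the kernel as a subgroup of the normalizer -/
abbrev Ker : Subgroup ↥(Subgroup.normalizer (H : Set G)) :=
  H.subgroupOf (Subgroup.normalizer (H : Set G))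

theorem ker_cent (hC : ∀ h ∈ H, h ≠ 1 → Subgroup.centralizer ({h} : Set G) ≤ H) :
    ∀ k ∈ Ker H, k ≠ 1 → Subgroup.centralizer ({k} : Set ↥(Subgroup.normalizer (H : Set G))) ≤ Ker H := by
  intro k hk hk1 y hy
  rw [Subgroup.mem_subgroupOf] at hk ⊢
  have hk1' : (k : G) ≠ 1 := by
    intro h; apply hk1; apply Subtype.ext; simpa using h
  apply hC (k : G) hk hk1'
  rw [Subgroup.mem_centralizer_iff] at hy ⊢
  intro z hz
  rw [Set.mem_singleton_iff] at hz
  subst hz
  have := hy k (Set.mem_singleton k)
  have := congrArg Subtype.val this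
  simpa using this

theorem ker_ne_bot (hH1 : H ≠ ⊥) : Ker H ≠ ⊥ := by
  intro hb
  apply hH1
  rw [eq_bot_iff]
  intro x hx
  have hxN : x ∈ Subgroup.normalizer (H : Set G) := Subgroup.le_normalizer hx
  have : (⟨x, hxN⟩ : ↥(Subgroup.normalizer (H : Set G))) ∈ Ker H := by
    rw [Subgroup.mem_subgroupOf]; exact hx
  rw [hb, Subgroup.mem_bot] at this
  rw [Subgroup.mem_bot]
  have := congrArg Subtype.val this
  simpa using this

theorem ker_ne_top (hlt : H < Subgroup.normalizer (H : Set G)) : Ker H ≠ ⊤ := by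
  intro ht
  obtain ⟨x, hxN, hxH⟩ := SetLike.exists_of_lt hlt
  have : (⟨x, hxN⟩ : ↥(Subgroup.normalizer (H : Set G))) ∈ Ker H := by
    rw [ht]; exact Subgroup.mem_top _
  rw [Subgroup.mem_subgroupOf] at this
  exact hxH this

theorem card_ker : Nat.card (Ker H) = Nat.card H :=
  Nat.card_congr (Subgroup.subgroupOfEquivOfLe (Subgroup.le_normalizer (H := H))).toEquiv

end Local

end Cfsg.Agent.Lib.Helper4.FrobTI
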