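import Mathlib
import Cfsg.Agent.Lib.Helper4.Coherence

set_option autoImplicit false
set_option linter.unusedSectionVars false

/-!
Coherence: positivity of the inner product, orthogonal sets of functions, and the extension
of an isometry defined on an orthogonal basis.
-/

namespace Cfsg.Agent.Lib.Helper4.Coh

open Cfsg Cfsg.Agent.Lib.Helper4 Cfsg.Agent.Lib.Helper1
open scoped ComplexConjugate

section PosDef
variable {G : Type*} [Group G] [Fintype G]

theorem classInner_self_eq_ofReal (f : G → ℂ) :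
    classInner f f = (((Nat.card G : ℝ)⁻¹ * ∑ x : G, Complex.normSq (f x) : ℝ) : ℂ) := by
  rw [classInner_def]
  push_cast
  congr 1
  exact Finset.sum_congr rfl fun x _ => Complex.mul_conj (f x)

theorem classInner_self_nonneg (f : G → ℂ) : ∃ r : ℝ, 0 ≤ r ∧ classInner f f = r :=
  ⟨_, mul_nonneg (inv_nonneg.mpr (Nat.cast_nonneg _))
    (Finset.sum_nonneg fun x _ => Complex.normSq_nonneg (f x)), classInner_self_eq_ofReal f⟩

theorem eq_zero_of_classInner_self {f : G → ℂ} (h : classInner f f = 0) : f = 0 := by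
  rw [classInner_self_eq_ofReal] at h
  have h0 : (Nat.card G : ℝ)⁻¹ * ∑ x : G, Complex.normSq (f x) = 0 := by exact_mod_cast h
  have hG0 : (Nat.card G : ℝ)⁻¹ ≠ 0 := inv_ne_zero (Nat.cast_ne_zero.2 Nat.card_pos.ne')
  have h2 : ∑ x : G, Complex.normSq (f x) = 0 := by
    rcases mul_eq_zero.1 h0 with h | h
    · exact absurd h hG0
    · exact h
  funext g
  have h3 := (Finset.sum_eq_zero_iff_of_nonneg (fun x _ => Complex.normSq_nonneg (f x))).1 h2 g
    (Finset.mem_univ g)
  exact Complex.normSq_eq_zero.1 h3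

/-- an integer norm is nonnegative -/
theorem int_norm_nonneg {f : G → ℂ} {N : ℤ} (h : classInner f f = N) : 0 ≤ N := by
  obtain ⟨r, hr, hr'⟩ := classInner_self_nonneg f
  rw [h] at hr'
  have : (N : ℝ) = r := by exact_mod_cast hr'
  have h2 : (0 : ℝ) ≤ N := by rw [this]; exact hr
  exact_mod_cast h2

theorem classInner_zsmul_left (n : ℤ) (a c : G → ℂ) :
    classInner (n • a) c = n * classInner a c := by
  have : n • a = (n : ℂ) • a := by
    funext x; simp
  rw [this, classInner_smul_left]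

theorem classInner_zsmul_right (n : ℤ) (a c : G → ℂ) :
    classInner a (n • c) = n * classInner a c := by
  have : n • c = (n : ℂ) • c := by
    funext x; simp
  rw [this, classInner_smul_right, map_intCast]

end PosDef

section Ortho
variable {L : Type*} [Group L] [Fintype L]

/-- a set of pairwise orthogonal functions of nonzero norm -/
structure OrthoSet (S : Set (L → ℂ)) : Prop where
  ortho : ∀ φ ∈ S, ∀ ψ ∈ S, φ ≠ ψ → classInner φ ψ = 0
  ne_zero : ∀ φ ∈ S, classInner φ φ ≠ 0

theorem OrthoSet.mono {S S' : Set (L → ℂ)} (h : OrthoSet S) (hS : S' ⊆ S) : OrthoSet S' :=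
  ⟨fun φ hφ ψ hψ hne => h.ortho φ (hS hφ) ψ (hS hψ) hne, fun φ hφ => h.ne_zero φ (hS hφ)⟩

theorem OrthoSet.linearIndependent {S : Set (L → ℂ)} (h : OrthoSet S) :
    LinearIndependent ℂ (fun φ : ↥S => (φ : L → ℂ)) := by
  classical
  rw [linearIndependent_iff']
  intro s g hg j hj
  have h1 : classInner (∑ i ∈ s, g i • (i : L → ℂ)) (j : L → ℂ) = 0 := by
    rw [hg, classInner_zero_left]
  rw [classInner_sum_left, Finset.sum_eq_single j] at h1
  · rw [classInner_smul_left] at h1
    rcases mul_eq_zero.1 h1 with h2 | h2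
    · exact h2
    · exact absurd h2 (h.ne_zero _ j.2)
  · intro i _ hij
    rw [classInner_smul_left, h.ortho _ i.2 _ j.2 (fun e => hij (Subtype.ext e)), mul_zero]
  · intro hj'; exact absurd hj hj'

theorem OrthoSet.finite {S : Set (L → ℂ)} (h : OrthoSet S) : S.Finite := by
  have := h.linearIndependent.finite_of_isNoetherian
  exact Set.toFinite S

end Ortho

section Extend
variable {L : Type*} [Group L] [Fintype L] {G : Type*} [Group G] [Fintype G]

theorem isGenChar_nsmul {θ : G → ℂ} (h : IsGeneralizedCharacter G θ) (k : ℕ) :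
    IsGeneralizedCharacter G (k • θ) := by
  induction k with
  | zero => simpa using isGenChar_zero
  | succ k ih => rw [succ_nsmul]; exact isGenChar_add ih h

theorem isGenChar_zsmul {θ : G → ℂ} (h : IsGeneralizedCharacter G θ) (n : ℤ) :
    IsGeneralizedCharacter G (n • θ) := by
  rcases Int.eq_nat_or_neg n with ⟨k, hk | hk⟩
  · rw [hk, natCast_zsmul]; exact isGenChar_nsmul h k
  · rw [hk, neg_smul, natCast_zsmul]; exact isGenChar_neg (isGenChar_nsmul h k)

/-- the `ℂ`-linear extension of a map `T` defined on the orthogonal set `F` -/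
noncomputable def extend (F : Finset (L → ℂ)) (T : (L → ℂ) → (G → ℂ)) (α : L → ℂ) : G → ℂ :=
  ∑ φ ∈ F, (classInner α φ / classInner φ φ) • T φ

theorem extend_add (F : Finset (L → ℂ)) (T : (L → ℂ) → (G → ℂ)) (α β : L → ℂ) :
    extend F T (α + β) = extend F T α + extend F T β := by
  unfold extend
  rw [← Finset.sum_add_distrib]
  refine Finset.sum_congr rfl fun φ _ => ?_
  rw [classInner_add_left, add_div, add_smul]

theorem extend_zsmul (F : Finset (L → ℂ)) (T : (L → ℂ) → (G → ℂ)) (n : ℤ) (α : L → ℂ) :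
    extend F T (n • α) = n • extend F T α := by
  unfold extend
  rw [Finset.smul_sum]
  refine Finset.sum_congr rfl fun φ _ => ?_
  rw [classInner_zsmul_left, mul_div_assoc, mul_smul]
  funext x
  simp

theorem classInner_sum_zsmul (F : Finset (L → ℂ)) (hF : OrthoSet (↑F : Set (L → ℂ)))
    (c : (L → ℂ) → ℤ) {ψ : L → ℂ} (hψ : ψ ∈ F) :
    classInner (∑ φ ∈ F, c φ • φ) ψ = c ψ * classInner ψ ψ := by
  classical
  rw [classInner_sum_left, Finset.sum_eq_single ψ]
  · rw [classInner_zsmul_left]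
  · intro φ hφ hne
    rw [classInner_zsmul_left, hF.ortho φ hφ ψ hψ hne, mul_zero]
  · intro h; exact absurd hψ h

theorem extend_sum_zsmul (F : Finset (L → ℂ)) (hF : OrthoSet (↑F : Set (L → ℂ)))
    (T : (L → ℂ) → (G → ℂ)) (c : (L → ℂ) → ℤ) :
    extend F T (∑ φ ∈ F, c φ • φ) = ∑ φ ∈ F, c φ • T φ := by
  unfold extend
  refine Finset.sum_congr rfl fun ψ hψ => ?_
  rw [classInner_sum_zsmul F hF c hψ, mul_div_assoc, div_self (hF.ne_zero ψ hψ), mul_one]
  funext x
  simp

theorem extend_apply_mem (F : Finset (L → ℂ)) (hF : OrthoSet (↑F : Set (L → ℂ)))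
    (T : (L → ℂ) → (G → ℂ)) {ψ : L → ℂ} (hψ : ψ ∈ F) : extend F T ψ = T ψ := by
  classical
  have h1 := extend_sum_zsmul F hF T (fun φ => if φ = ψ then 1 else 0)
  have h2 : ∑ φ ∈ F, (if φ = ψ then (1 : ℤ) else 0) • φ = ψ := by
    rw [Finset.sum_eq_single ψ]
    · simp
    · intro φ _ hne; simp [hne]
    · intro h; exact absurd hψ h
  have h3 : ∑ φ ∈ F, (if φ = ψ then (1 : ℤ) else 0) • T φ = T ψ := by
    rw [Finset.sum_eq_single ψ]
    · simp
    · intro φ _ hne; simp [hne]
    · intro h; exact absurd hψ h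
  rw [h2, h3] at h1
  exact h1

/-- members of the integer span of a finite set are integer combinations -/
theorem exists_coeff {X : Type*} (F : Finset (X → ℂ)) {α : X → ℂ}
    (h : α ∈ zspan (↑F : Set (X → ℂ))) : ∃ c : (X → ℂ) → ℤ, α = ∑ φ ∈ F, c φ • φ := by
  classical
  unfold zspan at h
  rw [SetLike.mem_coe] at h
  induction h using Submodule.span_induction with
  | mem x hx =>
    refine ⟨fun φ => if φ = x then 1 else 0, ?_⟩
    rw [Finset.sum_eq_single x]
    · simp
    · intro φ _ hne; simp [hne]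
    · intro h; exact absurd hx h
  | zero => exact ⟨fun _ => 0, by simp⟩
  | add x y _ _ hx hy =>
    obtain ⟨c, hc⟩ := hx
    obtain ⟨e, he⟩ := hy
    refine ⟨fun φ => c φ + e φ, ?_⟩
    rw [hc, he, ← Finset.sum_add_distrib]
    exact Finset.sum_congr rfl fun φ _ => (add_smul _ _ _).symm
  | smul n x _ hx =>
    obtain ⟨c, hc⟩ := hx
    refine ⟨fun φ => n * c φ, ?_⟩
    rw [hc, Finset.smul_sum]
    exact Finset.sum_congr rfl fun φ _ => (mul_smul _ _ _).symm

theorem sum_zsmul_mem_zspan {X : Type*} (F : Finset (X → ℂ)) (c : (X → ℂ) → ℤ) :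
    ∑ φ ∈ F, c φ • φ ∈ zspan (↑F : Set (X → ℂ)) := by
  unfold zspan
  exact Submodule.sum_mem _ fun φ hφ => Submodule.smul_mem _ _ (Submodule.subset_span hφ)

theorem classInner_sum_sum (F : Finset (L → ℂ)) (T : (L → ℂ) → (G → ℂ)) (c e : (L → ℂ) → ℤ) :
    classInner (∑ φ ∈ F, c φ • T φ) (∑ ψ ∈ F, e ψ • T ψ) =
      ∑ φ ∈ F, ∑ ψ ∈ F, (c φ * e ψ : ℂ) * classInner (T φ) (T ψ) := by
  rw [classInner_sum_left]
  refine Finset.sum_congr rfl fun φ _ => ?_
  rw [classInner_sum_right]
  refine Finset.sum_congr rfl fun ψ _ => ?_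
  rw [classInner_zsmul_left, classInner_zsmul_right]
  ring

/-- the extension is a linear isometry on the integer span -/
theorem extend_isometry (F : Finset (L → ℂ)) (hF : OrthoSet (↑F : Set (L → ℂ)))
    (T : (L → ℂ) → (G → ℂ))
    (hT1 : ∀ φ ∈ F, ∀ ψ ∈ F, classInner (T φ) (T ψ) = classInner φ ψ)
    (hT2 : ∀ φ ∈ F, IsGeneralizedCharacter G (T φ)) :
    IsLinearIsometryOn (zspan (↑F : Set (L → ℂ))) (extend F T) := by
  refine ⟨fun α _ β _ => extend_add F T α β, fun α _ n => extend_zsmul F T n α, ?_, ?_⟩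
  · intro α hα β hβ
    obtain ⟨c, rfl⟩ := exists_coeff F hα
    obtain ⟨e, rfl⟩ := exists_coeff F hβ
    rw [extend_sum_zsmul F hF, extend_sum_zsmul F hF, classInner_sum_sum,
      classInner_sum_sum F (fun φ => φ) c e]
    refine Finset.sum_congr rfl fun φ hφ => Finset.sum_congr rfl fun ψ hψ => ?_
    rw [hT1 φ hφ ψ hψ]
  · intro α hα
    obtain ⟨c, rfl⟩ := exists_coeff F hα
    rw [extend_sum_zsmul F hF]
    apply isGenChar_sum
    intro φ hφ
    exact isGenChar_zsmul (hT2 φ hφ) (c φ)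

end Extend

end Cfsg.Agent.Lib.Helper4.Coh
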