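import Mathlib
import Cfsg.Agent.Lib.Helper4.Coh1

set_option autoImplicit false
set_option linter.unusedSectionVars false

/-!
Coherence systems: basic facts, Bessel's identity for integral coefficients, and the
decomposition of `τ (χ - φ)`.
-/

namespace Cfsg.Agent.Lib.Helper4.Coh

open Cfsg Cfsg.Agent.Lib.Helper4 Cfsg.Agent.Lib.Helper1
open scoped ComplexConjugate

section Char
variable {G : Type*} [Group G]

theorem isCharacter_eq_zero_of_apply_one {χ : G → ℂ} (h : IsCharacter G χ) (h1 : χ 1 = 0) :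
    χ = 0 := by
  obtain ⟨n, ρ, rfl⟩ := h
  rw [Representation.char_one] at h1
  have hn : n = 0 := by
    have : (Module.finrank ℂ (Fin n → ℂ) : ℂ) = 0 := h1
    simpa using this
  subst hn
  funext g
  unfold Representation.character
  have h0 : ρ g = 0 := by
    apply LinearMap.ext
    intro v
    exact Subsingleton.elim _ _
  rw [h0]
  simp

end Char

section Bessel
variable {G : Type*} [Group G] [Fintype G]

open Classical in
/-- Bessel's identity with integral coefficients -/
theorem bessel_int (U : Finset (G → ℂ))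
    (hU : ∀ α ∈ U, ∀ β ∈ U, classInner α β = if α = β then 1 else 0)
    (a : G → ℂ) (m : (G → ℂ) → ℤ) (hm : ∀ α ∈ U, classInner a α = m α) :
    classInner (a - ∑ α ∈ U, m α • α) (a - ∑ α ∈ U, m α • α) =
      classInner a a - ((∑ α ∈ U, m α * m α : ℤ) : ℂ) := by
  have h1 : classInner a (∑ α ∈ U, m α • α) = ((∑ α ∈ U, m α * m α : ℤ) : ℂ) := by
    rw [classInner_sum_right]
    push_cast
    refine Finset.sum_congr rfl fun α hα => ?_
    rw [classInner_zsmul_right, hm α hα]
  have h2 : classInner (∑ α ∈ U, m α • α) a = ((∑ α ∈ U, m α * m α : ℤ) : ℂ) := by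
    rw [classInner_sum_left]
    push_cast
    refine Finset.sum_congr rfl fun α hα => ?_
    rw [classInner_zsmul_left, classInner_int_symm (hm α hα)]
  have h3 : classInner (∑ α ∈ U, m α • α) (∑ α ∈ U, m α • α) =
      ((∑ α ∈ U, m α * m α : ℤ) : ℂ) := by
    rw [classInner_sum_sum U (fun α => α) m m]
    push_cast
    refine Finset.sum_congr rfl fun α hα => ?_
    rw [Finset.sum_eq_single α]
    · rw [hU α hα α hα, if_pos rfl, mul_one]
    · intro β hβ hne
      rw [hU α hα β hβ, if_neg (Ne.symm hne), mul_zero]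
    · intro h; exact absurd hα h
  rw [classInner_sub_left, classInner_sub_right, classInner_sub_right, h1, h2, h3]
  ring

open Classical in
theorem norm_sum_orthonormal (U : Finset (G → ℂ))
    (hU : ∀ α ∈ U, ∀ β ∈ U, classInner α β = if α = β then 1 else 0) :
    classInner (∑ α ∈ U, α) (∑ α ∈ U, α) = (U.card : ℂ) := by
  rw [classInner_sum_left]
  rw [Finset.card_eq_sum_ones]
  push_cast
  refine Finset.sum_congr rfl fun α hα => ?_
  rw [classInner_sum_right, Finset.sum_eq_single α]
  · rw [hU α hα α hα, if_pos rfl]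
  · intro β hβ hne
    rw [hU α hα β hβ, if_neg (Ne.symm hne)]
  · intro h; exact absurd hα h

open Classical in
theorem classInner_sum_subset (U X : Finset (G → ℂ)) (hX : X ⊆ U)
    (hU : ∀ α ∈ U, ∀ β ∈ U, classInner α β = if α = β then 1 else 0) {α : G → ℂ} (hα : α ∈ U) :
    classInner (∑ β ∈ X, β) α = if α ∈ X then 1 else 0 := by
  rw [classInner_sum_left]
  by_cases h : α ∈ X
  · rw [if_pos h, Finset.sum_eq_single α]
    · rw [hU α hα α hα, if_pos rfl]
    · intro β hβ hne
      rw [hU β (hX hβ) α hα, if_neg hne]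
    · intro h'; exact absurd h h'
  · rw [if_neg h]
    apply Finset.sum_eq_zero
    intro β hβ
    rw [hU β (hX hβ) α hα, if_neg (fun e : β = α => h (e ▸ hβ))]

/-- integral coefficients of a generalized character against generalized characters -/
noncomputable def coeff (a : G → ℂ) (α : G → ℂ) : ℤ := by
  classical
  exact if h : ∃ m : ℤ, classInner a α = m then Classical.choose h else 0

theorem coeff_spec {a α : G → ℂ} (ha : IsGeneralizedCharacter G a)
    (hα : IsGeneralizedCharacter G α) : classInner a α = coeff a α := by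
  have h := classInner_genChar_int ha hα
  unfold coeff
  rw [dif_pos h]
  exact Classical.choose_spec h

end Bessel

section System
variable {L : Type*} [Group L] [Fintype L] {G : Type*} [Group G] [Fintype G]
  {S : Set (L → ℂ)} {τ : (L → ℂ) → (G → ℂ)} {R : (L → ℂ) → Finset (G → ℂ)}

theorem sys_ne_zero (hS : IsCoherenceSystem S τ R) {φ : L → ℂ} (hφ : φ ∈ S) : φ ≠ 0 := by
  intro h
  apply hS.conj_ne _ hφ
  rw [h]
  funext x
  simp [conjFun]

theorem sys_orthoSet (hS : IsCoherenceSystem S τ R) : OrthoSet S :=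
  ⟨hS.orthogonal, fun φ hφ h => sys_ne_zero hS hφ (eq_zero_of_classInner_self h)⟩

theorem sys_finite (hS : IsCoherenceSystem S τ R) : S.Finite := (sys_orthoSet hS).finite

theorem sys_norm_nat (hS : IsCoherenceSystem S τ R) {φ : L → ℂ} (hφ : φ ∈ S) :
    ∃ n : ℕ, 0 < n ∧ classInner φ φ = n := by
  obtain ⟨n, hn⟩ := classInner_char_nat (hS.isCharacter φ hφ) (hS.isCharacter φ hφ)
  refine ⟨n, ?_, hn⟩
  rcases Nat.eq_zero_or_pos n with h | h
  · exfalso
    rw [h, Nat.cast_zero] at hn
    exact (sys_orthoSet hS).ne_zero φ hφ hn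
  · exact h

theorem sys_inner_conj (hS : IsCoherenceSystem S τ R) {φ : L → ℂ} (hφ : φ ∈ S) :
    classInner φ (conjFun φ) = 0 :=
  hS.orthogonal φ hφ _ (hS.conj_mem φ hφ) (hS.conj_ne φ hφ).symm

theorem sys_inner_conj' (hS : IsCoherenceSystem S τ R) {φ : L → ℂ} (hφ : φ ∈ S) :
    classInner (conjFun φ) φ = 0 :=
  hS.orthogonal _ (hS.conj_mem φ hφ) φ hφ (hS.conj_ne φ hφ)

theorem sys_norm_conj (hS : IsCoherenceSystem S τ R) {φ : L → ℂ} (hφ : φ ∈ S) :
    classInner (conjFun φ) (conjFun φ) = classInner φ φ := by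
  obtain ⟨n, _, hn⟩ := sys_norm_nat hS hφ
  rw [classInner_conjFun_conjFun, hn, Complex.conj_natCast]

theorem sys_apply_one_ne_zero (hS : IsCoherenceSystem S τ R) {φ : L → ℂ} (hφ : φ ∈ S) :
    φ 1 ≠ 0 := fun h =>
  sys_ne_zero hS hφ (isCharacter_eq_zero_of_apply_one (hS.isCharacter φ hφ) h)

theorem sub_mem_zspanOn {φ ψ : L → ℂ} (hφ : φ ∈ S) (hψ : ψ ∈ S) (h1 : φ 1 = ψ 1) :
    φ - ψ ∈ zspanOn S {1}ᶜ := by
  refine ⟨zspan_sub (mem_zspan_of_mem hφ) (mem_zspan_of_mem hψ), ?_⟩
  intro x hx
  have : x = 1 := by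
    by_contra h
    exact hx h
  rw [this, Pi.sub_apply, h1, sub_self]

end System

end Cfsg.Agent.Lib.Helper4.Coh
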