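import Mathlib
import Cfsg.Agent.Lib.Helper4.Coh2

set_option autoImplicit false
set_option linter.unusedSectionVars false

/-!
Coherence systems: the decomposition of `τ (χ - φ)` for `χ, φ` of the same degree.
-/

namespace Cfsg.Agent.Lib.Helper4.Coh

open Cfsg Cfsg.Agent.Lib.Helper4 Cfsg.Agent.Lib.Helper1
open scoped ComplexConjugate

section IntFacts

theorem int_sq_sub_nonneg (m : ℤ) : 0 ≤ m * m - m := by nlinarith [sq_nonneg (2 * m - 1)]

theorem int_sq_add_nonneg (m : ℤ) : 0 ≤ m * m + m := by nlinarith [sq_nonneg (2 * m + 1)]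

theorem int_eq_zero_or_one {m : ℤ} (h : m * m - m = 0) : m = 0 ∨ m = 1 := by
  have : m * (m - 1) = 0 := by ring_nf; ring_nf at h; linarith
  rcases mul_eq_zero.1 this with h1 | h1
  · left; exact h1
  · right; omega

theorem int_eq_zero_or_neg_one {m : ℤ} (h : m * m + m = 0) : m = 0 ∨ m = -1 := by
  have : m * (m + 1) = 0 := by ring_nf; ring_nf at h; linarith
  rcases mul_eq_zero.1 this with h1 | h1
  · left; exact h1
  · right; omega

end IntFacts

section Dec
variable {L : Type*} [Group L] [Fintype L] {G : Type*} [Group G] [Fintype G]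
  {S : Set (L → ℂ)} {τ : (L → ℂ) → (G → ℂ)} {R : (L → ℂ) → Finset (G → ℂ)}

theorem conjFun_apply_one (hS : IsCoherenceSystem S τ R) {χ : L → ℂ} (hχ : χ ∈ S) :
    conjFun χ 1 = χ 1 := by
  obtain ⟨n, hn⟩ := isCharacter_apply_one (hS.isCharacter χ hχ)
  rw [conjFun_apply, hn, Complex.conj_natCast]

theorem sub_conj_mem (hS : IsCoherenceSystem S τ R) {χ : L → ℂ} (hχ : χ ∈ S) :
    χ - conjFun χ ∈ zspanOn S {1}ᶜ :=
  sub_mem_zspanOn hχ (hS.conj_mem χ hχ) (conjFun_apply_one hS hχ).symm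

theorem card_R (hS : IsCoherenceSystem S τ R) {χ : L → ℂ} (hχ : χ ∈ S) {n : ℕ}
    (hn : classInner χ χ = n) : (R χ).card = 2 * n := by
  have h1 := norm_sum_orthonormal (R χ) (by
    intro α hα β hβ
    have := hS.orthonormal χ hχ α hα β hβ
    convert this)
  rw [← hS.sum_eq χ hχ, lio_inner hS.isometry (sub_conj_mem hS hχ) (sub_conj_mem hS hχ),
    classInner_sub_left, classInner_sub_right, classInner_sub_right, sys_inner_conj hS hχ,
    sys_inner_conj' hS hχ, sys_norm_conj hS hχ, hn] at h1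
  have h2 : ((2 * n : ℕ) : ℂ) = ((R χ).card : ℂ) := by
    rw [← h1]; push_cast; ring
  exact_mod_cast h2.symm

open Classical in
/-- the decomposition of `τ (χ - φ)` -/
theorem dec (hS : IsCoherenceSystem S τ R) {χ φ : L → ℂ} (hχ : χ ∈ S) (hφ : φ ∈ S)
    (hne : φ ≠ χ) (hne' : φ ≠ conjFun χ) (h1 : χ 1 = φ 1) {nχ nφ : ℕ}
    (hnχ : classInner χ χ = nχ) (hnφ : classInner φ φ = nφ) :
    ∃ X ⊆ R χ, ∃ Y ⊆ R φ, τ (χ - φ) = ∑ α ∈ X, α - ∑ β ∈ Y, β ∧ X.card = nχ ∧ Y.card = nφ := by
  have hmem : χ - φ ∈ zspanOn S {1}ᶜ := sub_mem_zspanOn hχ hφ h1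
  set a := τ (χ - φ) with ha
  have hagc : IsGeneralizedCharacter G a := lio_genChar hS.isometry hmem
  -- orthogonality relations
  have o1 : classInner φ χ = 0 := hS.orthogonal φ hφ χ hχ hne
  have o1' : classInner χ φ = 0 := hS.orthogonal χ hχ φ hφ (Ne.symm hne)
  have o2 : classInner φ (conjFun χ) = 0 := hS.orthogonal φ hφ _ (hS.conj_mem χ hχ) hne'
  have hne'' : χ ≠ conjFun φ := by
    intro h
    apply hne'
    rw [h, conjFun_conjFun]
  have o3 : classInner χ (conjFun φ) = 0 := hS.orthogonal χ hχ _ (hS.conj_mem φ hφ) hne''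
  have hperp : ∀ α ∈ R φ, ∀ β ∈ R χ, classInner α β = 0 := hS.disjoint χ hχ φ hφ o1 o2
  have hperp' : ∀ α ∈ R χ, ∀ β ∈ R φ, classInner α β = 0 := fun α hα β hβ =>
    classInner_eq_zero_symm (hperp β hβ α hα)
  have hRχ : ∀ α ∈ R χ, ∀ β ∈ R χ, classInner α β = if α = β then 1 else 0 := by
    intro α hα β hβ
    have := hS.orthonormal χ hχ α hα β hβ
    convert this
  have hRφ : ∀ α ∈ R φ, ∀ β ∈ R φ, classInner α β = if α = β then 1 else 0 := by
    intro α hα β hβ
    have := hS.orthonormal φ hφ α hα β hβ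
    convert this
  have hdisj : Disjoint (R χ) (R φ) := by
    rw [Finset.disjoint_left]
    intro α hα hα'
    have h2 := hperp α hα' α hα
    rw [hRχ α hα α hα, if_pos rfl] at h2
    exact one_ne_zero h2
  have hU : ∀ α ∈ R χ ∪ R φ, ∀ β ∈ R χ ∪ R φ, classInner α β = if α = β then 1 else 0 := by
    intro α hα β hβ
    rcases Finset.mem_union.1 hα with hα | hα <;> rcases Finset.mem_union.1 hβ with hβ | hβ
    · exact hRχ α hα β hβ
    · rw [hperp' α hα β hβ, if_neg]
      intro e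
      exact Finset.disjoint_left.1 hdisj hα (e ▸ hβ)
    · rw [hperp α hα β hβ, if_neg]
      intro e
      exact Finset.disjoint_left.1 hdisj hβ (e ▸ hα)
    · exact hRφ α hα β hβ
  set m : (G → ℂ) → ℤ := coeff a with hm
  have hmU : ∀ α ∈ R χ ∪ R φ, classInner a α = m α := by
    intro α hα
    apply coeff_spec hagc
    rcases Finset.mem_union.1 hα with hα | hα
    · exact hS.virtual χ hχ α hα
    · exact hS.virtual φ hφ α hα
  -- the two sums
  have s1 : ∑ α ∈ R χ, m α = nχ := by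
    have h2 : classInner a (∑ α ∈ R χ, α) = ((∑ α ∈ R χ, m α : ℤ) : ℂ) := by
      rw [classInner_sum_right]
      push_cast
      exact Finset.sum_congr rfl fun α hα => hmU α (Finset.mem_union_left _ hα)
    rw [← hS.sum_eq χ hχ, ha, lio_inner hS.isometry hmem (sub_conj_mem hS hχ),
      classInner_sub_left, classInner_sub_right, classInner_sub_right, hnχ,
      sys_inner_conj hS hχ, o1, o2] at h2
    have h3 : ((nχ : ℤ) : ℂ) = ((∑ α ∈ R χ, m α : ℤ) : ℂ) := by
      rw [← h2]; push_cast; ring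
    exact_mod_cast h3.symm
  have s2 : ∑ β ∈ R φ, m β = -nφ := by
    have h2 : classInner a (∑ α ∈ R φ, α) = ((∑ α ∈ R φ, m α : ℤ) : ℂ) := by
      rw [classInner_sum_right]
      push_cast
      exact Finset.sum_congr rfl fun α hα => hmU α (Finset.mem_union_right _ hα)
    rw [← hS.sum_eq φ hφ, ha, lio_inner hS.isometry hmem (sub_conj_mem hS hφ),
      classInner_sub_left, classInner_sub_right, classInner_sub_right, hnφ,
      sys_inner_conj hS hφ, o1', o3] at h2
    have h3 : ((-(nφ : ℤ) : ℤ) : ℂ) = ((∑ α ∈ R φ, m α : ℤ) : ℂ) := by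
      rw [← h2]; push_cast; ring
    exact_mod_cast h3.symm
  -- Bessel
  have hnorm : classInner a a = ((nχ + nφ : ℤ) : ℂ) := by
    rw [ha, lio_inner hS.isometry hmem hmem, classInner_sub_left, classInner_sub_right,
      classInner_sub_right, hnχ, hnφ, o1, o1']
    push_cast; ring
  have hb := bessel_int (R χ ∪ R φ) hU a m hmU
  have hsq : ∑ α ∈ R χ ∪ R φ, m α * m α =
      ∑ α ∈ R χ, m α * m α + ∑ α ∈ R φ, m α * m α := Finset.sum_union hdisj
  have hb' : classInner (a - ∑ α ∈ R χ ∪ R φ, m α • α) (a - ∑ α ∈ R χ ∪ R φ, m α • α) =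
      (((nχ + nφ : ℤ) - (∑ α ∈ R χ, m α * m α + ∑ α ∈ R φ, m α * m α) : ℤ) : ℂ) := by
    rw [hb, hnorm, hsq]; push_cast; ring
  have hN := int_norm_nonneg hb'
  have hA : 0 ≤ ∑ α ∈ R χ, (m α * m α - m α) :=
    Finset.sum_nonneg fun α _ => int_sq_sub_nonneg (m α)
  have hB : 0 ≤ ∑ α ∈ R φ, (m α * m α + m α) :=
    Finset.sum_nonneg fun α _ => int_sq_add_nonneg (m α)
  rw [Finset.sum_sub_distrib, s1] at hA
  rw [Finset.sum_add_distrib, s2] at hB
  have hA0 : ∑ α ∈ R χ, (m α * m α - m α) = 0 := by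
    rw [Finset.sum_sub_distrib, s1]; omega
  have hB0 : ∑ α ∈ R φ, (m α * m α + m α) = 0 := by
    rw [Finset.sum_add_distrib, s2]; omega
  have hN0 : ((nχ + nφ : ℤ) - (∑ α ∈ R χ, m α * m α + ∑ α ∈ R φ, m α * m α) : ℤ) = 0 := by
    omega
  have hmχ : ∀ α ∈ R χ, m α = 0 ∨ m α = 1 := by
    intro α hα
    exact int_eq_zero_or_one
      ((Finset.sum_eq_zero_iff_of_nonneg fun α _ => int_sq_sub_nonneg (m α)).1 hA0 α hα)
  have hmφ : ∀ α ∈ R φ, m α = 0 ∨ m α = -1 := by
    intro α hα
    exact int_eq_zero_or_neg_one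
      ((Finset.sum_eq_zero_iff_of_nonneg fun α _ => int_sq_add_nonneg (m α)).1 hB0 α hα)
  rw [hN0, Int.cast_zero] at hb'
  have hzero := eq_zero_of_classInner_self hb'
  have haeq : a = ∑ α ∈ R χ, m α • α + ∑ α ∈ R φ, m α • α := by
    rw [← Finset.sum_union hdisj]
    exact sub_eq_zero.1 hzero
  refine ⟨(R χ).filter (fun α => m α = 1), Finset.filter_subset _ _,
    (R φ).filter (fun α => m α = -1), Finset.filter_subset _ _, ?_, ?_, ?_⟩
  · rw [haeq, sub_eq_add_neg]
    congr 1
    · rw [Finset.sum_filter]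
      refine Finset.sum_congr rfl fun α hα => ?_
      rcases hmχ α hα with h | h
      · rw [h, if_neg (by norm_num), zero_smul]
      · rw [h, if_pos rfl, one_smul]
    · rw [Finset.sum_filter, ← Finset.sum_neg_distrib]
      refine Finset.sum_congr rfl fun α hα => ?_
      rcases hmφ α hα with h | h
      · rw [h, if_neg (by norm_num), zero_smul, neg_zero]
      · rw [h, if_pos rfl, neg_smul, one_smul]
  · have : (((R χ).filter (fun α => m α = 1)).card : ℤ) = ∑ α ∈ R χ, m α := by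
      rw [Finset.card_filter]
      push_cast
      refine Finset.sum_congr rfl fun α hα => ?_
      rcases hmχ α hα with h | h
      · rw [h, if_neg (by norm_num)]
      · rw [h, if_pos rfl]
    rw [s1] at this
    exact_mod_cast this
  · have : (((R φ).filter (fun α => m α = -1)).card : ℤ) = -∑ α ∈ R φ, m α := by
      rw [Finset.card_filter, ← Finset.sum_neg_distrib]
      push_cast
      refine Finset.sum_congr rfl fun α hα => ?_
      rcases hmφ α hα with h | h
      · rw [h, if_neg (by norm_num), neg_zero]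
      · rw [h, if_pos rfl]; norm_num
    rw [s2, neg_neg] at this
    exact_mod_cast this

end Dec

end Cfsg.Agent.Lib.Helper4.Coh
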