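import Mathlib
import Cfsg.Agent.Lib.Helper4.Coh3

set_option autoImplicit false
set_option linter.unusedSectionVars false

/-!
Coherence systems whose members all have the same degree are coherent.
-/

namespace Cfsg.Agent.Lib.Helper4.Coh

open Cfsg Cfsg.Agent.Lib.Helper4 Cfsg.Agent.Lib.Helper1
open scoped ComplexConjugate

section Sum
variable {L : Type*} [Group L] [Fintype L] {G : Type*} [Group G] [Fintype G]
  {S : Set (L → ℂ)} {A : Set L} {τ : (L → ℂ) → (G → ℂ)}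

theorem sum_zsmul_mem_zspanOn {ι : Type*} (s : Finset ι) (c : ι → ℤ) (f : ι → L → ℂ)
    (hf : ∀ i ∈ s, f i ∈ zspanOn S A) : ∑ i ∈ s, c i • f i ∈ zspanOn S A := by
  classical
  induction s using Finset.induction_on with
  | empty =>
    rw [Finset.sum_empty]
    exact ⟨zspan_zero, fun _ _ => rfl⟩
  | insert a s ha ih =>
    rw [Finset.sum_insert ha]
    exact zspanOn_add (zspanOn_zsmul _ (hf a (Finset.mem_insert_self a s)))
      (ih fun i hi => hf i (Finset.mem_insert_of_mem hi))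

theorem lio_zero (h : IsLinearIsometryOn (zspanOn S A) τ) : τ 0 = 0 := by
  have h0 : (0 : L → ℂ) ∈ zspanOn S A := ⟨zspan_zero, fun _ _ => rfl⟩
  have := lio_zsmul h h0 0
  simpa using this

theorem lio_sum_zsmul (h : IsLinearIsometryOn (zspanOn S A) τ) {ι : Type*} (s : Finset ι)
    (c : ι → ℤ) (f : ι → L → ℂ) (hf : ∀ i ∈ s, f i ∈ zspanOn S A) :
    τ (∑ i ∈ s, c i • f i) = ∑ i ∈ s, c i • τ (f i) := by
  classical
  induction s using Finset.induction_on with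
  | empty => rw [Finset.sum_empty, Finset.sum_empty]; exact lio_zero h
  | insert a s ha ih =>
    rw [Finset.sum_insert ha, Finset.sum_insert ha,
      lio_add h (zspanOn_zsmul _ (hf a (Finset.mem_insert_self a s)))
        (sum_zsmul_mem_zspanOn s c f fun i hi => hf i (Finset.mem_insert_of_mem hi)),
      lio_zsmul h (hf a (Finset.mem_insert_self a s)),
      ih fun i hi => hf i (Finset.mem_insert_of_mem hi)]

end Sum

section Main
variable {L : Type*} [Group L] [Fintype L] {G : Type*} [Group G] [Fintype G]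
  {S : Set (L → ℂ)} {τ : (L → ℂ) → (G → ℂ)} {R : (L → ℂ) → Finset (G → ℂ)}

theorem orthonormal_R (hS : IsCoherenceSystem S τ R) {χ : L → ℂ} (hχ : χ ∈ S) :
    ∀ α ∈ R χ, ∀ β ∈ R χ, classInner α β = if α = β then 1 else 0 := by
  intro α hα β hβ
  have := hS.orthonormal χ hχ α hα β hβ
  convert this

theorem isGenChar_sum_subset (hS : IsCoherenceSystem S τ R) {χ : L → ℂ} (hχ : χ ∈ S)
    {X : Finset (G → ℂ)} (hX : X ⊆ R χ) : IsGeneralizedCharacter G (∑ α ∈ X, α) :=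
  isGenChar_sum X (fun α => α) fun α hα => hS.virtual χ hχ α (hX hα)

/-- sums over subsets of `R χ` and `R ψ` are orthogonal when `ψ ⊥ χ, conj χ` -/
theorem inner_sum_sum_eq_zero (hS : IsCoherenceSystem S τ R) {χ ψ : L → ℂ} (hχ : χ ∈ S)
    (hψ : ψ ∈ S) (hne : ψ ≠ χ) (hne' : ψ ≠ conjFun χ) {X Z : Finset (G → ℂ)} (hX : X ⊆ R χ)
    (hZ : Z ⊆ R ψ) : classInner (∑ α ∈ X, α) (∑ β ∈ Z, β) = 0 := by
  have o1 : classInner ψ χ = 0 := hS.orthogonal ψ hψ χ hχ hne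
  have o2 : classInner ψ (conjFun χ) = 0 := hS.orthogonal ψ hψ _ (hS.conj_mem χ hχ) hne'
  have hperp := hS.disjoint χ hχ ψ hψ o1 o2
  rw [classInner_sum_left]
  apply Finset.sum_eq_zero
  intro α hα
  rw [classInner_sum_right]
  apply Finset.sum_eq_zero
  intro β hβ
  exact classInner_eq_zero_symm (hperp β (hZ hβ) α (hX hα))

open Classical in
theorem inner_sum_subset_sum (hS : IsCoherenceSystem S τ R) {χ : L → ℂ} (hχ : χ ∈ S)
    {X : Finset (G → ℂ)} (hX : X ⊆ R χ) :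
    classInner (∑ α ∈ X, α) (∑ β ∈ R χ, β) = (X.card : ℂ) := by
  rw [classInner_sum_right]
  have : ∀ β ∈ R χ, classInner (∑ α ∈ X, α) β = if β ∈ X then 1 else 0 := fun β hβ =>
    classInner_sum_subset (R χ) X hX (orthonormal_R hS hχ) hβ
  rw [Finset.sum_congr rfl this, Finset.sum_ite_mem, Finset.inter_eq_right.mpr hX]
  simp

open Classical in
theorem inner_sum_subset_sum_subset (hS : IsCoherenceSystem S τ R) {χ : L → ℂ} (hχ : χ ∈ S)
    {X : Finset (G → ℂ)} (hX : X ⊆ R χ) :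
    classInner (∑ α ∈ X, α) (∑ β ∈ X, β) = (X.card : ℂ) :=
  norm_sum_orthonormal X fun α hα β hβ => orthonormal_R hS hχ α (hX hα) β (hX hβ)

open Classical in
/-- the key existence statement: a "half" of `R χ₁` compatible with all `τ (χ₁ - φ)` -/
theorem exists_half (hS : IsCoherenceSystem S τ R) (hdeg : ∀ φ ∈ S, ∀ ψ ∈ S, φ 1 = ψ 1)
    {χ₁ : L → ℂ} (hχ₁ : χ₁ ∈ S) {n₁ : ℕ} (hn₁ : classInner χ₁ χ₁ = n₁) :
    ∃ X₁ : G → ℂ, IsGeneralizedCharacter G X₁ ∧ classInner X₁ X₁ = n₁ ∧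
      ∀ φ ∈ S, φ ≠ χ₁ → classInner X₁ (τ (χ₁ - φ)) = n₁ := by
  have hcard := card_R hS hχ₁ hn₁
  by_cases hB : ∃ φ₀ ∈ S, φ₀ ≠ χ₁ ∧ φ₀ ≠ conjFun χ₁
  · obtain ⟨φ₀, hφ₀, hne, hne'⟩ := hB
    obtain ⟨n₀, -, hn₀⟩ := sys_norm_nat hS hφ₀
    obtain ⟨X, hX, Y, hY, ha₀, hXc, -⟩ :=
      dec hS hχ₁ hφ₀ hne hne' (hdeg χ₁ hχ₁ φ₀ hφ₀) hn₁ hn₀
    refine ⟨∑ α ∈ X, α, isGenChar_sum_subset hS hχ₁ hX, ?_, ?_⟩
    · rw [inner_sum_subset_sum_subset hS hχ₁ hX, hXc]
    · intro φ hφ hφne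
      have key0 : classInner (∑ α ∈ X, α) (τ (χ₁ - φ₀)) = n₁ := by
        rw [ha₀, classInner_sub_right, inner_sum_subset_sum_subset hS hχ₁ hX,
          inner_sum_sum_eq_zero hS hχ₁ hφ₀ hne hne' hX hY, hXc, sub_zero]
      by_cases h1 : φ = conjFun χ₁
      · rw [h1, hS.sum_eq χ₁ hχ₁, inner_sum_subset_sum hS hχ₁ hX, hXc]
      by_cases h2 : φ = φ₀
      · rw [h2]; exact key0
      -- `τ (χ₁ - φ) = τ (χ₁ - φ₀) + τ (φ₀ - φ)`
      have hsplit : τ (χ₁ - φ) = τ (χ₁ - φ₀) + τ (φ₀ - φ) := by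
        rw [← lio_add hS.isometry (sub_mem_zspanOn hχ₁ hφ₀ (hdeg _ hχ₁ _ hφ₀))
          (sub_mem_zspanOn hφ₀ hφ (hdeg _ hφ₀ _ hφ))]
        congr 1
        abel
      rw [hsplit, classInner_add_right, key0]
      have : classInner (∑ α ∈ X, α) (τ (φ₀ - φ)) = 0 := by
        by_cases h3 : φ = conjFun φ₀
        · rw [h3, hS.sum_eq φ₀ hφ₀]
          exact inner_sum_sum_eq_zero hS hχ₁ hφ₀ hne hne' hX (Finset.Subset.refl _)
        · obtain ⟨n, -, hn⟩ := sys_norm_nat hS hφ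
          obtain ⟨X', hX', Y', hY', ha, -, -⟩ :=
            dec hS hφ₀ hφ h2 h3 (hdeg _ hφ₀ _ hφ) hn₀ hn
          rw [ha, classInner_sub_right, inner_sum_sum_eq_zero hS hχ₁ hφ₀ hne hne' hX hX',
            inner_sum_sum_eq_zero hS hχ₁ hφ hφne h1 hX hY', sub_zero]
      rw [this, add_zero]
  · push Not at hB
    obtain ⟨X, hX, hXc⟩ := Finset.exists_subset_card_eq (s := R χ₁) (n := n₁) (by omega)
    refine ⟨∑ α ∈ X, α, isGenChar_sum_subset hS hχ₁ hX, ?_, ?_⟩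
    · rw [inner_sum_subset_sum_subset hS hχ₁ hX, hXc]
    · intro φ hφ hφne
      have h1 : φ = conjFun χ₁ := hB φ hφ hφne
      rw [h1, hS.sum_eq χ₁ hχ₁, inner_sum_subset_sum hS hχ₁ hX, hXc]

end Main

end Cfsg.Agent.Lib.Helper4.Coh
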