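import Mathlib
import Cfsg.Agent.Lib.Helper4.Coh4

set_option autoImplicit false
set_option linter.unusedSectionVars false

/-!
Coherence systems whose members all have the same degree are coherent: the final assembly.
-/

namespace Cfsg.Agent.Lib.Helper4.Coh

open Cfsg Cfsg.Agent.Lib.Helper4 Cfsg.Agent.Lib.Helper1
open scoped ComplexConjugate

section Main
variable {L : Type*} [Group L] [Fintype L] {G : Type*} [Group G] [Fintype G]
  {S : Set (L → ℂ)} {τ : (L → ℂ) → (G → ℂ)} {R : (L → ℂ) → Finset (G → ℂ)}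

theorem exists_nonzero_mem_zspanOn (hS : IsCoherenceSystem S τ R) :
    ∃ α ∈ zspanOn S {1}ᶜ, α ≠ 0 := by
  obtain ⟨χ, hχ⟩ := hS.nonempty
  refine ⟨χ - conjFun χ, sub_conj_mem hS hχ, ?_⟩
  intro h
  exact hS.conj_ne χ hχ (sub_eq_zero.1 h).symm

open Classical in
theorem coherent_of_same_degree (hS : IsCoherenceSystem S τ R)
    (hdeg : ∀ φ ∈ S, ∀ ψ ∈ S, φ 1 = ψ 1) : IsCoherent S {1}ᶜ τ := by
  refine ⟨exists_nonzero_mem_zspanOn hS, ?_⟩
  obtain ⟨χ₁, hχ₁⟩ := hS.nonempty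
  obtain ⟨n₁, -, hn₁⟩ := sys_norm_nat hS hχ₁
  obtain ⟨X₁, hX₁g, hX₁n, hX₁⟩ := exists_half hS hdeg hχ₁ hn₁
  set F : Finset (L → ℂ) := (sys_finite hS).toFinset with hF
  have hFS : (↑F : Set (L → ℂ)) = S := by rw [hF]; exact Set.Finite.coe_toFinset _
  have hmemF : ∀ φ, φ ∈ F ↔ φ ∈ S := fun φ => by rw [hF]; exact Set.Finite.mem_toFinset _
  have hFo : OrthoSet (↑F : Set (L → ℂ)) := by rw [hFS]; exact sys_orthoSet hS
  set A : (L → ℂ) → (G → ℂ) := fun φ => τ (χ₁ - φ) with hA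
  set T : (L → ℂ) → (G → ℂ) := fun φ => X₁ - A φ with hT
  have hAmem : ∀ φ ∈ S, χ₁ - φ ∈ zspanOn S {1}ᶜ := fun φ hφ =>
    sub_mem_zspanOn hχ₁ hφ (hdeg _ hχ₁ _ hφ)
  have hA1 : A χ₁ = 0 := by
    show τ (χ₁ - χ₁) = 0
    rw [sub_self]; exact lio_zero hS.isometry
  have hAA : ∀ φ ∈ S, ∀ ψ ∈ S, classInner (A φ) (A ψ) = classInner (χ₁ - φ) (χ₁ - ψ) :=
    fun φ hφ ψ hψ => lio_inner hS.isometry (hAmem φ hφ) (hAmem ψ hψ)
  have hXA : ∀ φ ∈ S, φ ≠ χ₁ → classInner X₁ (A φ) = n₁ := hX₁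
  have hAX : ∀ φ ∈ S, φ ≠ χ₁ → classInner (A φ) X₁ = n₁ := by
    intro φ hφ hne
    have := hXA φ hφ hne
    rw [← classInner_conj_symm, this, Complex.conj_natCast]
  have hT1 : ∀ φ ∈ F, ∀ ψ ∈ F, classInner (T φ) (T ψ) = classInner φ ψ := by
    intro φ hφ ψ hψ
    rw [hmemF] at hφ hψ
    show classInner (X₁ - A φ) (X₁ - A ψ) = classInner φ ψ
    rw [classInner_sub_left, classInner_sub_right, classInner_sub_right, hX₁n]
    by_cases h1 : φ = χ₁
    · by_cases h2 : ψ = χ₁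
      · rw [h1, h2, hA1, classInner_zero_right, classInner_zero_left, classInner_zero_left,
          hn₁]
        ring
      · rw [h1, hA1, classInner_zero_left, classInner_zero_left, hXA ψ hψ h2,
          hS.orthogonal χ₁ hχ₁ ψ hψ (Ne.symm h2)]
        ring
    · by_cases h2 : ψ = χ₁
      · rw [h2, hA1, classInner_zero_right, classInner_zero_right, hAX φ hφ h1,
          hS.orthogonal φ hφ χ₁ hχ₁ h1]
        ring
      · rw [hXA ψ hψ h2, hAX φ hφ h1, hAA φ hφ ψ hψ, classInner_sub_left,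
          classInner_sub_right, classInner_sub_right, hn₁,
          hS.orthogonal χ₁ hχ₁ ψ hψ (Ne.symm h2), hS.orthogonal φ hφ χ₁ hχ₁ h1]
        ring
  have hT2 : ∀ φ ∈ F, IsGeneralizedCharacter G (T φ) := by
    intro φ hφ
    rw [hmemF] at hφ
    exact isGenChar_sub hX₁g (lio_genChar hS.isometry (hAmem φ hφ))
  refine ⟨extend F T, ?_, ?_⟩
  · rw [← hFS]
    exact extend_isometry F hFo T hT1 hT2
  · intro α hα
    obtain ⟨c, rfl⟩ := exists_coeff F (by rw [hFS]; exact hα.1)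
    rw [extend_sum_zsmul F hFo]
    -- the coefficients sum to zero
    have hsum : ∑ φ ∈ F, c φ = 0 := by
      have h1 : (∑ φ ∈ F, c φ • φ) 1 = 0 := hα.2 1 (by simp)
      have h2 : (∑ φ ∈ F, c φ • φ) 1 = ((∑ φ ∈ F, c φ : ℤ) : ℂ) * χ₁ 1 := by
        rw [Finset.sum_apply]
        push_cast
        rw [Finset.sum_mul]
        refine Finset.sum_congr rfl fun φ hφ => ?_
        rw [Pi.smul_apply, hdeg φ ((hmemF φ).1 hφ) χ₁ hχ₁]
        simp
      rw [h2] at h1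
      rcases mul_eq_zero.1 h1 with h3 | h3
      · exact_mod_cast h3
      · exact absurd h3 (sys_apply_one_ne_zero hS hχ₁)
    have e1 : ∑ φ ∈ F, c φ • φ = ∑ φ ∈ F, (-c φ) • (χ₁ - φ) := by
      have : ∑ φ ∈ F, (-c φ) • (χ₁ - φ) = -(∑ φ ∈ F, c φ • χ₁) + ∑ φ ∈ F, c φ • φ := by
        rw [← Finset.sum_neg_distrib, ← Finset.sum_add_distrib]
        refine Finset.sum_congr rfl fun φ _ => ?_
        rw [smul_sub, neg_smul, neg_smul]
        abel
      rw [this, ← Finset.sum_smul, hsum, zero_smul, neg_zero, zero_add]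
    rw [e1, lio_sum_zsmul hS.isometry F (fun φ => -c φ) (fun φ => χ₁ - φ)
      (fun φ hφ => hAmem φ ((hmemF φ).1 hφ))]
    have e2 : ∑ φ ∈ F, c φ • T φ = ∑ φ ∈ F, c φ • X₁ + ∑ φ ∈ F, (-c φ) • A φ := by
      rw [← Finset.sum_add_distrib]
      refine Finset.sum_congr rfl fun φ _ => ?_
      show c φ • (X₁ - A φ) = c φ • X₁ + (-c φ) • A φ
      rw [smul_sub, neg_smul]
      abel
    rw [e2, ← Finset.sum_smul, hsum, zero_smul, zero_add]

end Main

end Cfsg.Agent.Lib.Helper4.Coh
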