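import Mathlib
import Cfsg.Agent.Lib.Helper4.Coh5

set_option autoImplicit false
set_option linter.unusedSectionVars false

/-!
Coherence: Bessel's inequality for orthogonal systems with integral data, linearity on the full
integer span, and the "half" lemma for coherent subsets of a coherence system.
-/

namespace Cfsg.Agent.Lib.Helper4.Coh

open Cfsg Cfsg.Agent.Lib.Helper4 Cfsg.Agent.Lib.Helper1
open scoped ComplexConjugate

section Bessel
variable {G : Type*} [Group G] [Fintype G]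

open Classical in
/-- Bessel's inequality for an orthogonal system with natural norms and integral coefficients -/
theorem bessel_orth {ι : Type*} (F : Finset ι) (V : ι → G → ℂ) (k : ι → ℕ)
    (hk : ∀ i ∈ F, k i ≠ 0)
    (hV : ∀ i ∈ F, ∀ j ∈ F, classInner (V i) (V j) = if i = j then (k i : ℂ) else 0)
    (b : G → ℂ) (z : ι → ℤ) (hz : ∀ i ∈ F, classInner b (V i) = z i) {B : ℝ}
    (hB : classInner b b = B) : ∑ i ∈ F, (z i : ℝ) ^ 2 / (k i : ℝ) ≤ B := by
  set Q : G → ℂ := ∑ i ∈ F, ((z i : ℂ) / (k i : ℂ)) • V i with hQ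
  have hkc : ∀ i ∈ F, (k i : ℂ) ≠ 0 := fun i hi => Nat.cast_ne_zero.2 (hk i hi)
  have e1 : classInner b Q = ∑ i ∈ F, (z i : ℂ) ^ 2 / (k i : ℂ) := by
    rw [hQ, classInner_sum_right]
    refine Finset.sum_congr rfl fun i hi => ?_
    rw [classInner_smul_right, hz i hi, map_div₀, map_intCast, map_natCast]
    ring
  have e2 : classInner Q b = ∑ i ∈ F, (z i : ℂ) ^ 2 / (k i : ℂ) := by
    rw [hQ, classInner_sum_left]
    refine Finset.sum_congr rfl fun i hi => ?_
    rw [classInner_smul_left, classInner_int_symm (hz i hi)]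
    ring
  have e3 : classInner Q Q = ∑ i ∈ F, (z i : ℂ) ^ 2 / (k i : ℂ) := by
    rw [hQ, classInner_sum_left]
    refine Finset.sum_congr rfl fun i hi => ?_
    rw [classInner_smul_left, classInner_sum_right, Finset.sum_eq_single i]
    · rw [classInner_smul_right, hV i hi i hi, if_pos rfl, map_div₀, map_intCast, map_natCast]
      field_simp [hkc i hi]
    · intro j hj hne
      rw [classInner_smul_right, hV i hi j hj, if_neg (Ne.symm hne), mul_zero]
    · intro h; exact absurd hi h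
  have e4 : classInner (b - Q) (b - Q) =
      ((B - ∑ i ∈ F, (z i : ℝ) ^ 2 / (k i : ℝ) : ℝ) : ℂ) := by
    rw [classInner_sub_left, classInner_sub_right, classInner_sub_right, e1, e2, e3, hB]
    push_cast
    ring
  obtain ⟨r, hr, hr'⟩ := classInner_self_nonneg (b - Q)
  rw [e4] at hr'
  have : B - ∑ i ∈ F, (z i : ℝ) ^ 2 / (k i : ℝ) = r := by exact_mod_cast hr'
  linarith

end Bessel

section Span
variable {L : Type*} [Group L] [Fintype L] {G : Type*} [Group G] [Fintype G]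
  {S : Set (L → ℂ)} {τ : (L → ℂ) → (G → ℂ)}

theorem sum_zsmul_mem_zspan' {ι : Type*} (s : Finset ι) (c : ι → ℤ) (f : ι → L → ℂ)
    (hf : ∀ i ∈ s, f i ∈ zspan S) : ∑ i ∈ s, c i • f i ∈ zspan S := by
  unfold zspan
  exact Submodule.sum_mem _ fun i hi => Submodule.smul_mem _ _ (hf i hi)

theorem lio_zero' (h : IsLinearIsometryOn (zspan S) τ) : τ 0 = 0 := by
  have := lio_zsmul h (zspan_zero (S := S)) 0
  simpa using this

theorem lio_sum_zsmul' (h : IsLinearIsometryOn (zspan S) τ) {ι : Type*} (s : Finset ι)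
    (c : ι → ℤ) (f : ι → L → ℂ) (hf : ∀ i ∈ s, f i ∈ zspan S) :
    τ (∑ i ∈ s, c i • f i) = ∑ i ∈ s, c i • τ (f i) := by
  classical
  induction s using Finset.induction_on with
  | empty => rw [Finset.sum_empty, Finset.sum_empty]; exact lio_zero' h
  | insert a s ha ih =>
    rw [Finset.sum_insert ha, Finset.sum_insert ha,
      lio_add h (zspan_zsmul _ (hf a (Finset.mem_insert_self a s)))
        (sum_zsmul_mem_zspan' s c f fun i hi => hf i (Finset.mem_insert_of_mem hi)),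
      lio_zsmul h (hf a (Finset.mem_insert_self a s)),
      ih fun i hi => hf i (Finset.mem_insert_of_mem hi)]

theorem zspanOn_mono {S S' : Set (L → ℂ)} {A : Set L} (h : S ⊆ S') :
    zspanOn S A ⊆ zspanOn S' A := fun _ hα => ⟨zspan_mono h hα.1, hα.2⟩

end Span

section Half
variable {L : Type*} [Group L] [Fintype L] {G : Type*} [Group G] [Fintype G]
  {S : Set (L → ℂ)} {τ : (L → ℂ) → (G → ℂ)} {R : (L → ℂ) → Finset (G → ℂ)}

open Classical in
/-- for a coherent subset `S₁` closed under conjugation, `τ₁ ψ` is the sum of a half of `R ψ` -/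
theorem half (hS : IsCoherenceSystem S τ R) {S₁ : Set (L → ℂ)} (hS₁ : S₁ ⊆ S)
    {τ₁ : (L → ℂ) → (G → ℂ)} (hτ₁ : IsLinearIsometryOn (zspan S₁) τ₁)
    (hagree : ∀ α ∈ zspanOn S₁ {1}ᶜ, τ₁ α = τ α) {ψ : L → ℂ} (hψ : ψ ∈ S₁)
    (hψc : conjFun ψ ∈ S₁) {n : ℕ} (hn : classInner ψ ψ = n) :
    ∃ X ⊆ R ψ, τ₁ ψ = ∑ α ∈ X, α ∧ X.card = n := by
  have hψS := hS₁ hψ
  have hmem : ψ - conjFun ψ ∈ zspanOn S₁ {1}ᶜ :=
    sub_mem_zspanOn hψ hψc (conjFun_apply_one hS hψS).symm
  have hP : IsGeneralizedCharacter G (τ₁ ψ) := lio_genChar hτ₁ (mem_zspan_of_mem hψ)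
  set m : (G → ℂ) → ℤ := coeff (τ₁ ψ) with hm
  have hmR : ∀ α ∈ R ψ, classInner (τ₁ ψ) α = m α := fun α hα =>
    coeff_spec hP (hS.virtual ψ hψS α hα)
  have hsum : τ₁ ψ - τ₁ (conjFun ψ) = ∑ α ∈ R ψ, α := by
    rw [← hS.sum_eq ψ hψS, ← hagree _ hmem,
      lio_sub hτ₁ (mem_zspan_of_mem hψ) (mem_zspan_of_mem hψc) (zspan_neg (mem_zspan_of_mem hψc))]
  have s1 : ∑ α ∈ R ψ, m α = n := by
    have h2 : classInner (τ₁ ψ) (∑ α ∈ R ψ, α) = ((∑ α ∈ R ψ, m α : ℤ) : ℂ) := by
      rw [classInner_sum_right]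
      push_cast
      exact Finset.sum_congr rfl fun α hα => hmR α hα
    rw [← hsum, classInner_sub_right, lio_inner hτ₁ (mem_zspan_of_mem hψ) (mem_zspan_of_mem hψ),
      lio_inner hτ₁ (mem_zspan_of_mem hψ) (mem_zspan_of_mem hψc), hn,
      sys_inner_conj hS hψS, sub_zero] at h2
    have h3 : ((n : ℤ) : ℂ) = ((∑ α ∈ R ψ, m α : ℤ) : ℂ) := by
      rw [← h2]; push_cast; rfl
    exact_mod_cast h3.symm
  have hb := bessel_int (R ψ) (orthonormal_R hS hψS) (τ₁ ψ) m hmR
  rw [lio_inner hτ₁ (mem_zspan_of_mem hψ) (mem_zspan_of_mem hψ), hn] at hb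
  have hb' : classInner (τ₁ ψ - ∑ α ∈ R ψ, m α • α) (τ₁ ψ - ∑ α ∈ R ψ, m α • α) =
      (((n : ℤ) - ∑ α ∈ R ψ, m α * m α : ℤ) : ℂ) := by
    rw [hb]; push_cast; ring
  have hN := int_norm_nonneg hb'
  have hA : 0 ≤ ∑ α ∈ R ψ, (m α * m α - m α) :=
    Finset.sum_nonneg fun α _ => int_sq_sub_nonneg (m α)
  have hA0 : ∑ α ∈ R ψ, (m α * m α - m α) = 0 := by
    rw [Finset.sum_sub_distrib, s1] at hA ⊢; omega
  have hN0 : ((n : ℤ) - ∑ α ∈ R ψ, m α * m α : ℤ) = 0 := by
    rw [Finset.sum_sub_distrib, s1] at hA; omega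
  have hm01 : ∀ α ∈ R ψ, m α = 0 ∨ m α = 1 := fun α hα =>
    int_eq_zero_or_one
      ((Finset.sum_eq_zero_iff_of_nonneg fun α _ => int_sq_sub_nonneg (m α)).1 hA0 α hα)
  rw [hN0, Int.cast_zero] at hb'
  have hzero := eq_zero_of_classInner_self hb'
  refine ⟨(R ψ).filter (fun α => m α = 1), Finset.filter_subset _ _, ?_, ?_⟩
  · rw [sub_eq_zero.1 hzero, Finset.sum_filter]
    refine Finset.sum_congr rfl fun α hα => ?_
    rcases hm01 α hα with h | h
    · rw [h, if_neg (by norm_num), zero_smul]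
    · rw [h, if_pos rfl, one_smul]
  · have : (((R ψ).filter (fun α => m α = 1)).card : ℤ) = ∑ α ∈ R ψ, m α := by
      rw [Finset.card_filter]
      push_cast
      refine Finset.sum_congr rfl fun α hα => ?_
      rcases hm01 α hα with h | h
      · rw [h, if_neg (by norm_num)]
      · rw [h, if_pos rfl]
    rw [s1] at this
    exact_mod_cast this

end Half

end Cfsg.Agent.Lib.Helper4.Coh
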