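import Mathlib
import Cfsg.Agent.Lib.Helper4.Coh6

set_option autoImplicit false
set_option linter.unusedSectionVars false

/-!
Coherence: the extension criterion (Peterfalvi 5.6), main computation.
-/

namespace Cfsg.Agent.Lib.Helper4.Coh

open Cfsg Cfsg.Agent.Lib.Helper4 Cfsg.Agent.Lib.Helper1
open scoped ComplexConjugate

section Ext
variable {L : Type*} [Group L] [Fintype L] {G : Type*} [Group G] [Fintype G]
  {S : Set (L → ℂ)} {τ : (L → ℂ) → (G → ℂ)} {R : (L → ℂ) → Finset (G → ℂ)}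

/-- `τ₁ ψ ⊥ R χ` -/
theorem tau1_perp_R (hS : IsCoherenceSystem S τ R) {S₁ : Set (L → ℂ)} (hS₁ : S₁ ⊆ S)
    {τ₁ : (L → ℂ) → (G → ℂ)} (hτ₁ : IsLinearIsometryOn (zspan S₁) τ₁)
    (hagree : ∀ α ∈ zspanOn S₁ {1}ᶜ, τ₁ α = τ α) {ψ : L → ℂ} (hψ : ψ ∈ S₁)
    (hψc : conjFun ψ ∈ S₁) {χ : L → ℂ} (hχ : χ ∈ S) (hne : ψ ≠ χ) (hne' : ψ ≠ conjFun χ)
    {β : G → ℂ} (hβ : β ∈ R χ) : classInner (τ₁ ψ) β = 0 := by
  obtain ⟨n, -, hn⟩ := sys_norm_nat hS (hS₁ hψ)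
  obtain ⟨X, hX, hXe, -⟩ := half hS hS₁ hτ₁ hagree hψ hψc hn
  rw [hXe, classInner_sum_left]
  apply Finset.sum_eq_zero
  intro α hα
  exact hS.disjoint χ hχ ψ (hS₁ hψ) (hS.orthogonal ψ (hS₁ hψ) χ hχ hne)
    (hS.orthogonal ψ (hS₁ hψ) _ (hS.conj_mem χ hχ) hne') α (hX hα) β hβ

theorem beta0_mem (hS : IsCoherenceSystem S τ R) (d : (L → ℂ) → ℕ)
    (hd : ∀ φ ∈ S, φ 1 = (d φ : ℂ)) {χ χ₁ : L → ℂ} (hχ : χ ∈ S) (hχ₁ : χ₁ ∈ S) {a : ℕ}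
    (ha : d χ = d χ₁ * a) : χ - (a : ℤ) • χ₁ ∈ zspanOn S {1}ᶜ := by
  refine ⟨zspan_sub (mem_zspan_of_mem hχ) (zspan_zsmul _ (mem_zspan_of_mem hχ₁)), ?_⟩
  intro x hx
  have : x = 1 := by
    by_contra h
    exact hx h
  rw [this, Pi.sub_apply, Pi.smul_apply, hd χ hχ, hd χ₁ hχ₁, ha]
  push_cast
  simp
  ring

open Classical in
/-- the relation `d₁ ⟨Y, τ₁ φ⟩ = d_φ t` -/
theorem ext_rel (hS : IsCoherenceSystem S τ R) (S₁ : Finset (L → ℂ))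
    (hS₁ : (↑S₁ : Set (L → ℂ)) ⊆ S)
    {τ₁ : (L → ℂ) → (G → ℂ)} (hτ₁ : IsLinearIsometryOn (zspan (↑S₁ : Set (L → ℂ))) τ₁)
    (hagree : ∀ α ∈ zspanOn (↑S₁ : Set (L → ℂ)) {1}ᶜ, τ₁ α = τ α)
    (d n : (L → ℂ) → ℕ) (hd : ∀ φ ∈ S, φ 1 = (d φ : ℂ))
    (hn : ∀ φ ∈ S, classInner φ φ = (n φ : ℂ)) {χ : L → ℂ} (hχ : χ ∈ S) (hχ₁ : χ ∉ S₁)
    {χ₁ : L → ℂ} (hχ₁S : χ₁ ∈ S₁) {a : ℕ} (ha : d χ = d χ₁ * a) {φ : L → ℂ} (hφ : φ ∈ S₁) :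
    (d χ₁ : ℂ) * classInner (τ (χ - (a : ℤ) • χ₁) + (a : ℤ) • τ₁ χ₁) (τ₁ φ) =
      (d φ : ℂ) * (classInner (τ (χ - (a : ℤ) • χ₁)) (τ₁ χ₁) + a * n χ₁) := by
  have hχ₁S' : χ₁ ∈ S := hS₁ hχ₁S
  have hφS : φ ∈ S := hS₁ hφ
  have hne1 : χ₁ ≠ χ := fun h => hχ₁ (h ▸ hχ₁S)
  have hneφ : φ ≠ χ := fun h => hχ₁ (h ▸ hφ)
  have hn₁ := hn χ₁ hχ₁S'
  have o1 : classInner χ χ₁ = 0 := hS.orthogonal χ hχ χ₁ hχ₁S' (Ne.symm hne1)
  have o3 : classInner χ φ = 0 := hS.orthogonal χ hχ φ hφS (Ne.symm hneφ)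
  have hβ₀m := beta0_mem hS d hd hχ hχ₁S' ha
  by_cases hφ1 : φ = χ₁
  · rw [hφ1, classInner_add_left, classInner_zsmul_left,
      lio_inner hτ₁ (mem_zspan_of_mem hχ₁S) (mem_zspan_of_mem hχ₁S), hn₁]
    push_cast
    ring
  · set γ : L → ℂ := (d φ : ℤ) • χ₁ - (d χ₁ : ℤ) • φ with hγ
    have hγm : γ ∈ zspanOn (↑S₁ : Set (L → ℂ)) {1}ᶜ := by
      refine ⟨zspan_sub (zspan_zsmul _ (mem_zspan_of_mem hχ₁S))
        (zspan_zsmul _ (mem_zspan_of_mem hφ)), ?_⟩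
      intro x hx
      have : x = 1 := by
        by_contra h
        exact hx h
      rw [this, hγ, Pi.sub_apply, Pi.smul_apply, Pi.smul_apply, hd φ hφS, hd χ₁ hχ₁S']
      push_cast
      simp
      ring
    have hγm' : γ ∈ zspanOn S {1}ᶜ := zspanOn_mono hS₁ hγm
    have e1 : τ₁ γ = (d φ : ℤ) • τ₁ χ₁ - (d χ₁ : ℤ) • τ₁ φ := by
      rw [hγ, lio_sub hτ₁ (zspan_zsmul _ (mem_zspan_of_mem hχ₁S))
        (zspan_zsmul _ (mem_zspan_of_mem hφ)) (zspan_neg (zspan_zsmul _ (mem_zspan_of_mem hφ))),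
        lio_zsmul hτ₁ (mem_zspan_of_mem hχ₁S), lio_zsmul hτ₁ (mem_zspan_of_mem hφ)]
    have e2 : classInner (τ (χ - (a : ℤ) • χ₁)) (τ₁ γ) = -(a : ℂ) * d φ * n χ₁ := by
      rw [hagree γ hγm, lio_inner hS.isometry hβ₀m hγm', hγ]
      simp only [classInner_sub_left, classInner_sub_right, classInner_zsmul_left,
        classInner_zsmul_right]
      rw [o1, o3, hn₁, hS.orthogonal χ₁ hχ₁S' φ hφS (Ne.symm hφ1)]
      push_cast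
      ring
    rw [e1, classInner_sub_right, classInner_zsmul_right, classInner_zsmul_right] at e2
    rw [classInner_add_left, classInner_zsmul_left,
      lio_inner hτ₁ (mem_zspan_of_mem hχ₁S) (mem_zspan_of_mem hφ),
      hS.orthogonal χ₁ hχ₁S' φ hφS (Ne.symm hφ1)]
    push_cast at e2 ⊢
    linear_combination (-1 : ℂ) * e2

/-- a real inequality used in the extension criterion -/
theorem real_key {T W A : ℝ} (hA : 0 < A) (h1 : T ^ 2 * W ≤ A * T) (h2 : A < W)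
    (h3 : T ≤ T ^ 2) (h4 : T ≠ 0) : False := by
  have hT2 : 0 < T ^ 2 := by positivity
  have h5 : A * T ^ 2 < T ^ 2 * W := by nlinarith
  have h6 : A * T ≤ A * T ^ 2 := by nlinarith
  linarith

open Classical in
/-- the main computation of the extension criterion -/
theorem ext_main (hS : IsCoherenceSystem S τ R) (S₁ : Finset (L → ℂ))
    (hS₁ : (↑S₁ : Set (L → ℂ)) ⊆ S) (hS₁c : ∀ φ ∈ S₁, conjFun φ ∈ S₁)
    {τ₁ : (L → ℂ) → (G → ℂ)} (hτ₁ : IsLinearIsometryOn (zspan (↑S₁ : Set (L → ℂ))) τ₁)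
    (hagree : ∀ α ∈ zspanOn (↑S₁ : Set (L → ℂ)) {1}ᶜ, τ₁ α = τ α)
    (d n : (L → ℂ) → ℕ) (hd : ∀ φ ∈ S, φ 1 = (d φ : ℂ))
    (hn : ∀ φ ∈ S, classInner φ φ = (n φ : ℂ)) {χ : L → ℂ} (hχ : χ ∈ S) (hχ₁ : χ ∉ S₁)
    (hχ₂ : conjFun χ ∉ S₁)
    {χ₁ : L → ℂ} (hχ₁S : χ₁ ∈ S₁) {a : ℕ} (ha : d χ = d χ₁ * a)
    (hineq : (2 * d χ * d χ₁ : ℝ) < ∑ φ ∈ S₁, ((d φ : ℝ) ^ 2 / (n φ : ℝ))) :
    ∃ Y : G → ℂ, IsGeneralizedCharacter G Y ∧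
      Y = τ (χ - (a : ℤ) • χ₁) + (a : ℤ) • τ₁ χ₁ ∧
      classInner Y Y = n χ ∧ classInner Y (∑ α ∈ R χ, α) = n χ ∧
      (∀ φ ∈ S₁, classInner Y (τ₁ φ) = 0) ∧
      ∀ φ ∈ S₁, classInner (τ₁ φ) (∑ α ∈ R χ, α) = 0 := by
  have hχ₁S' : χ₁ ∈ S := hS₁ hχ₁S
  have hne1 : χ₁ ≠ χ := fun h => hχ₁ (h ▸ hχ₁S)
  have hne1' : χ₁ ≠ conjFun χ := fun h => hχ₂ (h ▸ hχ₁S)
  have hd₁ : d χ₁ ≠ 0 := by
    intro h
    apply sys_apply_one_ne_zero hS hχ₁S'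
    rw [hd _ hχ₁S', h, Nat.cast_zero]
  have hdχ : d χ ≠ 0 := by
    intro h
    apply sys_apply_one_ne_zero hS hχ
    rw [hd _ hχ, h, Nat.cast_zero]
  have ha0 : a ≠ 0 := by
    intro h
    apply hdχ
    rw [ha, h, mul_zero]
  have hnχ := hn χ hχ
  have hn₁ := hn χ₁ hχ₁S'
  have hnpos : ∀ φ ∈ S₁, n φ ≠ 0 := by
    intro φ hφ h
    apply (sys_orthoSet hS).ne_zero φ (hS₁ hφ)
    rw [hn φ (hS₁ hφ), h, Nat.cast_zero]
  have o1 : classInner χ χ₁ = 0 := hS.orthogonal χ hχ χ₁ hχ₁S' (Ne.symm hne1)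
  have o1' : classInner χ₁ χ = 0 := hS.orthogonal χ₁ hχ₁S' χ hχ hne1
  have o2 : classInner χ₁ (conjFun χ) = 0 :=
    hS.orthogonal χ₁ hχ₁S' _ (hS.conj_mem χ hχ) hne1'
  have hβ₀m := beta0_mem hS d hd hχ hχ₁S' ha
  set θ := τ (χ - (a : ℤ) • χ₁) with hθ
  have hθg : IsGeneralizedCharacter G θ := lio_genChar hS.isometry hβ₀m
  have hPg : ∀ φ ∈ S₁, IsGeneralizedCharacter G (τ₁ φ) := fun φ hφ =>
    lio_genChar hτ₁ (mem_zspan_of_mem hφ)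
  set Y := θ + (a : ℤ) • τ₁ χ₁ with hY
  have hYg : IsGeneralizedCharacter G Y := isGenChar_add hθg (isGenChar_zsmul (hPg χ₁ hχ₁S) _)
  have hperp : ∀ ψ ∈ S₁, ∀ β ∈ R χ, classInner (τ₁ ψ) β = 0 := fun ψ hψ β hβ =>
    tau1_perp_R hS hS₁ hτ₁ hagree hψ (hS₁c ψ hψ) hχ (fun h => hχ₁ (h ▸ hψ))
      (fun h => hχ₂ (h ▸ hψ)) hβ
  have hperpSum : ∀ ψ ∈ S₁, classInner (τ₁ ψ) (∑ α ∈ R χ, α) = 0 := by
    intro ψ hψ
    rw [classInner_sum_right]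
    exact Finset.sum_eq_zero (hperp ψ hψ)
  have hθSum : classInner θ (∑ α ∈ R χ, α) = n χ := by
    rw [← hS.sum_eq χ hχ, hθ, lio_inner hS.isometry hβ₀m (sub_conj_mem hS hχ)]
    simp only [classInner_sub_left, classInner_sub_right, classInner_zsmul_left]
    rw [hnχ, sys_inner_conj hS hχ, o1', o2]
    ring
  have hYSum : classInner Y (∑ α ∈ R χ, α) = n χ := by
    rw [hY, classInner_add_left, classInner_zsmul_left, hperpSum χ₁ hχ₁S, hθSum]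
    ring
  have hθθ : classInner θ θ = (n χ : ℂ) + (a : ℂ) ^ 2 * n χ₁ := by
    rw [hθ, lio_inner hS.isometry hβ₀m hβ₀m]
    simp only [classInner_sub_left, classInner_sub_right, classInner_zsmul_left,
      classInner_zsmul_right]
    rw [hnχ, hn₁, o1, o1']
    push_cast
    ring
  have hu : classInner θ (τ₁ χ₁) = coeff θ (τ₁ χ₁) := coeff_spec hθg (hPg χ₁ hχ₁S)
  set t : ℤ := coeff θ (τ₁ χ₁) + a * n χ₁ with ht
  have hτ₁inner : ∀ φ ∈ S₁, ∀ ψ ∈ S₁,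
      classInner (τ₁ φ) (τ₁ ψ) = if φ = ψ then (n φ : ℂ) else 0 := by
    intro φ hφ ψ hψ
    rw [lio_inner hτ₁ (mem_zspan_of_mem hφ) (mem_zspan_of_mem hψ)]
    split_ifs with h
    · rw [← h]
      exact hn φ (hS₁ hφ)
    · exact hS.orthogonal φ (hS₁ hφ) ψ (hS₁ hψ) h
  have hy : ∀ φ ∈ S₁, classInner Y (τ₁ φ) = coeff Y (τ₁ φ) := fun φ hφ =>
    coeff_spec hYg (hPg φ hφ)
  have hrel : ∀ φ ∈ S₁, (d χ₁ : ℤ) * coeff Y (τ₁ φ) = d φ * t := by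
    intro φ hφ
    have h1 := ext_rel hS S₁ hS₁ hτ₁ hagree d n hd hn hχ hχ₁ hχ₁S ha hφ
    rw [← hθ, ← hY, hy φ hφ, hu] at h1
    have h2 : (((d χ₁ : ℤ) * coeff Y (τ₁ φ) : ℤ) : ℂ) = ((d φ * t : ℤ) : ℂ) := by
      rw [ht]
      push_cast
      exact h1
    exact_mod_cast h2
  have hYY : classInner Y Y = ((n χ + 2 * a * t : ℤ) : ℂ) := by
    rw [hY, classInner_add_left, classInner_add_right, classInner_add_right,
      classInner_zsmul_left, classInner_zsmul_left, classInner_zsmul_right,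
      classInner_zsmul_right, hθθ, hu, classInner_int_symm hu, hτ₁inner χ₁ hχ₁S χ₁ hχ₁S,
      if_pos rfl, ht]
    push_cast
    ring
  -- first Bessel stage
  set m : (G → ℂ) → ℤ := coeff Y with hm
  have hmR : ∀ α ∈ R χ, classInner Y α = m α := fun α hα =>
    coeff_spec hYg (hS.virtual χ hχ α hα)
  have s1 : ∑ α ∈ R χ, m α = n χ := by
    have h2 : classInner Y (∑ α ∈ R χ, α) = ((∑ α ∈ R χ, m α : ℤ) : ℂ) := by
      rw [classInner_sum_right]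
      push_cast
      exact Finset.sum_congr rfl hmR
    rw [hYSum] at h2
    have h3 : ((n χ : ℤ) : ℂ) = ((∑ α ∈ R χ, m α : ℤ) : ℂ) := by
      rw [← h2]
      push_cast
      rfl
    exact_mod_cast h3.symm
  have hb := bessel_int (R χ) (orthonormal_R hS hχ) Y m hmR
  set b := Y - ∑ α ∈ R χ, m α • α with hbdef
  have hA : 0 ≤ ∑ α ∈ R χ, (m α * m α - m α) :=
    Finset.sum_nonneg fun α _ => int_sq_sub_nonneg (m α)
  rw [Finset.sum_sub_distrib, s1] at hA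
  have hbz : ∀ φ ∈ S₁, classInner b (τ₁ φ) = coeff Y (τ₁ φ) := by
    intro φ hφ
    rw [hbdef, classInner_sub_left, hy φ hφ, classInner_sum_left]
    have : ∑ α ∈ R χ, classInner (m α • α) (τ₁ φ) = 0 := by
      apply Finset.sum_eq_zero
      intro α hα
      rw [classInner_zsmul_left, classInner_eq_zero_symm (hperp φ hφ α hα), mul_zero]
    rw [this, sub_zero]
  have hB : classInner b b =
      (((n χ + 2 * a * t : ℤ) - (∑ α ∈ R χ, m α * m α : ℤ) : ℝ) : ℂ) := by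
    rw [hb, hYY]
    push_cast
    ring
  have hbes := bessel_orth S₁ τ₁ n hnpos
    (fun φ hφ ψ hψ => by rw [hτ₁inner φ hφ ψ hψ]; congr) b (fun φ => coeff Y (τ₁ φ)) hbz hB
  -- rewrite the Bessel sum
  have hd₁R : (d χ₁ : ℝ) ≠ 0 := Nat.cast_ne_zero.2 hd₁
  have hsum : ∑ φ ∈ S₁, ((coeff Y (τ₁ φ) : ℤ) : ℝ) ^ 2 / (n φ : ℝ) =
      ((t : ℝ) ^ 2 / (d χ₁ : ℝ) ^ 2) * ∑ φ ∈ S₁, ((d φ : ℝ) ^ 2 / (n φ : ℝ)) := by
    rw [Finset.mul_sum]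
    refine Finset.sum_congr rfl fun φ hφ => ?_
    have h1 : ((coeff Y (τ₁ φ) : ℤ) : ℝ) = (d φ : ℝ) * t / d χ₁ := by
      have h2 : ((d χ₁ : ℤ) : ℝ) * ((coeff Y (τ₁ φ) : ℤ) : ℝ) = ((d φ : ℤ) : ℝ) * (t : ℝ) := by
        exact_mod_cast hrel φ hφ
      push_cast at h2
      field_simp
      linarith
    rw [h1]
    field_simp
  rw [hsum] at hbes
  have ht0 : t = 0 := by
    by_contra htne
    have hT : ((t : ℤ) : ℝ) ≠ 0 := Int.cast_ne_zero.2 htne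
    have hT2 : ((t : ℤ) : ℝ) ≤ (t : ℝ) ^ 2 := by
      have := int_sq_sub_nonneg t
      have h : (0 : ℝ) ≤ ((t * t - t : ℤ) : ℝ) := by exact_mod_cast this
      push_cast at h
      nlinarith
    have hApos : (0 : ℝ) < 2 * a * (d χ₁ : ℝ) ^ 2 := by
      have : (0 : ℝ) < a := Nat.cast_pos.2 (Nat.pos_of_ne_zero ha0)
      have : (0 : ℝ) < (d χ₁ : ℝ) := Nat.cast_pos.2 (Nat.pos_of_ne_zero hd₁)
      positivity
    have hAW : 2 * a * (d χ₁ : ℝ) ^ 2 < ∑ φ ∈ S₁, ((d φ : ℝ) ^ 2 / (n φ : ℝ)) := by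
      have : (2 * a * (d χ₁ : ℝ) ^ 2) = 2 * d χ * d χ₁ := by
        rw [ha]
        push_cast
        ring
      rw [this]
      exact hineq
    have hle : (t : ℝ) ^ 2 * ∑ φ ∈ S₁, ((d φ : ℝ) ^ 2 / (n φ : ℝ)) ≤
        (2 * a * (d χ₁ : ℝ) ^ 2) * t := by
      have hsq' : (n χ : ℤ) ≤ ∑ α ∈ R χ, m α * m α := by omega
      have hsq : ((n χ : ℤ) : ℝ) ≤ ((∑ α ∈ R χ, m α * m α : ℤ) : ℝ) := by
        exact_mod_cast hsq'
      have h1 : (t : ℝ) ^ 2 / (d χ₁ : ℝ) ^ 2 * ∑ φ ∈ S₁, ((d φ : ℝ) ^ 2 / (n φ : ℝ)) ≤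
          2 * a * t := by
        push_cast at hbes hsq
        linarith
      have hd2 : (0 : ℝ) < (d χ₁ : ℝ) ^ 2 := by positivity
      have h2 : (t : ℝ) ^ 2 * ∑ φ ∈ S₁, ((d φ : ℝ) ^ 2 / (n φ : ℝ)) =
          ((t : ℝ) ^ 2 / (d χ₁ : ℝ) ^ 2 * ∑ φ ∈ S₁, ((d φ : ℝ) ^ 2 / (n φ : ℝ))) *
            (d χ₁ : ℝ) ^ 2 := by
        field_simp
      rw [h2]
      nlinarith
    exact real_key hApos hle hAW hT2 hT
  refine ⟨Y, hYg, rfl, ?_, hYSum, ?_, hperpSum⟩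
  · rw [hYY, ht0]
    push_cast
    ring
  · intro φ hφ
    rw [hy φ hφ]
    have h1 := hrel φ hφ
    rw [ht0, mul_zero] at h1
    rcases mul_eq_zero.1 h1 with h2 | h2
    · exact absurd (by exact_mod_cast h2) hd₁
    · rw [h2, Int.cast_zero]

end Ext

end Cfsg.Agent.Lib.Helper4.Coh
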