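import Mathlib
import Cfsg.Agent.Lib.Helper4.Coh7

set_option autoImplicit false
set_option linter.unusedSectionVars false

/-!
Coherence: Feit's criterion for adjoining one irreducible character to a coherent set.
-/

namespace Cfsg.Agent.Lib.Helper4.Coh

open Cfsg Cfsg.Agent.Lib.Helper4 Cfsg.Agent.Lib.Helper1
open scoped ComplexConjugate

section Feit
variable {L : Type*} [Group L] [Fintype L] {G : Type*} [Group G] [Fintype G]

open Classical in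
/-- Bessel's identity for an orthonormal indexed family with integral coefficients -/
theorem bessel_idx (F : Finset (L → ℂ)) (V : (L → ℂ) → G → ℂ)
    (hV : ∀ i ∈ F, ∀ j ∈ F, classInner (V i) (V j) = if i = j then 1 else 0)
    (a : G → ℂ) (m : (L → ℂ) → ℤ) (hm : ∀ i ∈ F, classInner a (V i) = m i) :
    classInner (a - ∑ i ∈ F, m i • V i) (a - ∑ i ∈ F, m i • V i) =
      classInner a a - ((∑ i ∈ F, m i * m i : ℤ) : ℂ) := by
  have h1 : classInner a (∑ i ∈ F, m i • V i) = ((∑ i ∈ F, m i * m i : ℤ) : ℂ) := by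
    rw [classInner_sum_right]
    push_cast
    refine Finset.sum_congr rfl fun i hi => ?_
    rw [classInner_zsmul_right, hm i hi]
  have h2 : classInner (∑ i ∈ F, m i • V i) a = ((∑ i ∈ F, m i * m i : ℤ) : ℂ) := by
    rw [classInner_sum_left]
    push_cast
    refine Finset.sum_congr rfl fun i hi => ?_
    rw [classInner_zsmul_left, classInner_int_symm (hm i hi)]
  have h3 : classInner (∑ i ∈ F, m i • V i) (∑ i ∈ F, m i • V i) =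
      ((∑ i ∈ F, m i * m i : ℤ) : ℂ) := by
    rw [classInner_sum_sum F V m m]
    push_cast
    refine Finset.sum_congr rfl fun i hi => ?_
    rw [Finset.sum_eq_single i]
    · rw [hV i hi i hi, if_pos rfl, mul_one]
    · intro j hj hne
      rw [hV i hi j hj, if_neg (Ne.symm hne), mul_zero]
    · intro h; exact absurd hi h
  rw [classInner_sub_left, classInner_sub_right, classInner_sub_right, h1, h2, h3]
  ring

/-- an orthonormal set of irreducible characters -/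
theorem orthoSet_of_irr {F : Set (L → ℂ)} (h : ∀ ξ ∈ F, IsIrrCharacter L ξ) : OrthoSet F :=
  ⟨fun φ hφ ψ hψ hne => classInner_irr_ne (h φ hφ) (h ψ hψ) hne, fun φ hφ => by
    rw [classInner_irr_self (h φ hφ)]; exact one_ne_zero⟩

theorem feit_beta0_mem {F : Set (L → ℂ)} (d : (L → ℂ) → ℕ)
    (hd : ∀ φ ∈ F, φ 1 = (d φ : ℂ)) {χ ψ : L → ℂ} (hχ : χ ∈ F) (hψ : ψ ∈ F) {a : ℕ}
    (ha : d χ = d ψ * a) : χ - (a : ℤ) • ψ ∈ zspanOn F {1}ᶜ := by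
  refine ⟨zspan_sub (mem_zspan_of_mem hχ) (zspan_zsmul _ (mem_zspan_of_mem hψ)), ?_⟩
  intro x hx
  have : x = 1 := by
    by_contra h
    exact hx h
  rw [this, Pi.sub_apply, Pi.smul_apply, hd χ hχ, hd ψ hψ, ha]
  push_cast
  simp
  ring

theorem feit_gamma_mem {F : Set (L → ℂ)} (d : (L → ℂ) → ℕ)
    (hd : ∀ φ ∈ F, φ 1 = (d φ : ℂ)) {ξ ψ : L → ℂ} (hξ : ξ ∈ F) (hψ : ψ ∈ F) :
    (d ξ : ℤ) • ψ - (d ψ : ℤ) • ξ ∈ zspanOn F {1}ᶜ := by
  refine ⟨zspan_sub (zspan_zsmul _ (mem_zspan_of_mem hψ)) (zspan_zsmul _ (mem_zspan_of_mem hξ)),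
    ?_⟩
  intro x hx
  have : x = 1 := by
    by_contra h
    exact hx h
  rw [this, Pi.sub_apply, Pi.smul_apply, Pi.smul_apply, hd ξ hξ, hd ψ hψ]
  push_cast
  simp
  ring

open Classical in
theorem feit_rel (S₀ : Finset (L → ℂ)) (χ : L → ℂ) (hirr : ∀ ξ ∈ S₀, IsIrrCharacter L ξ)
    (hχ : IsIrrCharacter L χ) (hχS : χ ∉ S₀) (d : (L → ℂ) → ℕ)
    (hd : ∀ ξ ∈ insert χ S₀, ξ 1 = (d ξ : ℂ)) (τ : (L → ℂ) → (G → ℂ))
    (hτ : IsLinearIsometryOn (zspanOn (↑(insert χ S₀) : Set (L → ℂ)) {1}ᶜ) τ)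
    {τ₁ : (L → ℂ) → (G → ℂ)} (hτ₁ : IsLinearIsometryOn (zspan (↑S₀ : Set (L → ℂ))) τ₁)
    (hagree : ∀ α ∈ zspanOn (↑S₀ : Set (L → ℂ)) {1}ᶜ, τ₁ α = τ α)
    {ψ : L → ℂ} (hψ : ψ ∈ S₀) {a : ℕ} (ha : d χ = d ψ * a) {ξ : L → ℂ} (hξ : ξ ∈ S₀) :
    (d ψ : ℂ) * classInner (τ (χ - (a : ℤ) • ψ) + (a : ℤ) • τ₁ ψ) (τ₁ ξ) =
      (d ξ : ℂ) * (classInner (τ (χ - (a : ℤ) • ψ)) (τ₁ ψ) + a) := by
  have hsub : (↑S₀ : Set (L → ℂ)) ⊆ ↑(insert χ S₀) :=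
    Finset.coe_subset.2 (Finset.subset_insert χ S₀)
  have hd' : ∀ φ ∈ (↑(insert χ S₀) : Set (L → ℂ)), φ 1 = (d φ : ℂ) := fun φ hφ =>
    hd φ (Finset.mem_coe.1 hφ)
  have hd₀ : ∀ φ ∈ (↑S₀ : Set (L → ℂ)), φ 1 = (d φ : ℂ) := fun φ hφ => hd' φ (hsub hφ)
  have hχF : χ ∈ (↑(insert χ S₀) : Set (L → ℂ)) := Finset.mem_coe.2 (Finset.mem_insert_self _ _)
  have hψF : ψ ∈ (↑(insert χ S₀) : Set (L → ℂ)) := hsub hψ
  have hneψ : χ ≠ ψ := fun h => hχS (h ▸ hψ)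
  have hneξ : χ ≠ ξ := fun h => hχS (h ▸ hξ)
  have o1 : classInner χ ψ = 0 := classInner_irr_ne hχ (hirr ψ hψ) hneψ
  have o3 : classInner χ ξ = 0 := classInner_irr_ne hχ (hirr ξ hξ) hneξ
  have hβ₀m := feit_beta0_mem d hd' hχF hψF ha
  by_cases hξ1 : ξ = ψ
  · rw [hξ1, classInner_add_left, classInner_zsmul_left,
      lio_inner hτ₁ (mem_zspan_of_mem hψ) (mem_zspan_of_mem hψ), classInner_irr_self (hirr ψ hψ)]
    push_cast
    ring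
  · set γ : L → ℂ := (d ξ : ℤ) • ψ - (d ψ : ℤ) • ξ with hγ
    have hγm : γ ∈ zspanOn (↑S₀ : Set (L → ℂ)) {1}ᶜ := feit_gamma_mem d hd₀ hξ hψ
    have hγm' : γ ∈ zspanOn (↑(insert χ S₀) : Set (L → ℂ)) {1}ᶜ := zspanOn_mono hsub hγm
    have e1 : τ₁ γ = (d ξ : ℤ) • τ₁ ψ - (d ψ : ℤ) • τ₁ ξ := by
      rw [hγ, lio_sub hτ₁ (zspan_zsmul _ (mem_zspan_of_mem hψ))
        (zspan_zsmul _ (mem_zspan_of_mem hξ)) (zspan_neg (zspan_zsmul _ (mem_zspan_of_mem hξ))),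
        lio_zsmul hτ₁ (mem_zspan_of_mem hψ), lio_zsmul hτ₁ (mem_zspan_of_mem hξ)]
    have e2 : classInner (τ (χ - (a : ℤ) • ψ)) (τ₁ γ) = -(a : ℂ) * d ξ := by
      rw [hagree γ hγm, lio_inner hτ hβ₀m hγm', hγ]
      simp only [classInner_sub_left, classInner_sub_right, classInner_zsmul_left,
        classInner_zsmul_right]
      rw [o1, o3, classInner_irr_self (hirr ψ hψ),
        classInner_irr_ne (hirr ψ hψ) (hirr ξ hξ) (Ne.symm hξ1)]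
      push_cast
      ring
    rw [e1, classInner_sub_right, classInner_zsmul_right, classInner_zsmul_right] at e2
    rw [classInner_add_left, classInner_zsmul_left,
      lio_inner hτ₁ (mem_zspan_of_mem hψ) (mem_zspan_of_mem hξ),
      classInner_irr_ne (hirr ψ hψ) (hirr ξ hξ) (Ne.symm hξ1)]
    push_cast at e2 ⊢
    linear_combination (-1 : ℂ) * e2

theorem genChar_norm_one_apply_one_ne_zero {θ : G → ℂ} (hθ : IsGeneralizedCharacter G θ)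
    (h1 : classInner θ θ = 1) : θ 1 ≠ 0 := by
  obtain ⟨ψ, hψ, h | h⟩ := genChar_norm_one hθ h1
  · rw [h]; exact irr_apply_one_ne_zero hψ
  · rw [h, Pi.neg_apply, neg_ne_zero]; exact irr_apply_one_ne_zero hψ

theorem int_not_zero_one {t : ℤ} (h0 : t ≠ 0) (h1 : t ≠ 1) : 2 ≤ t * t - t := by
  rcases lt_or_gt_of_ne h0 with h | h
  · nlinarith
  · have : 2 ≤ t := by omega
    nlinarith

open Classical in
theorem feit_main (S₀ : Finset (L → ℂ)) (χ : L → ℂ) (hirr : ∀ ξ ∈ S₀, IsIrrCharacter L ξ)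
    (hχ : IsIrrCharacter L χ) (hχS : χ ∉ S₀) (d : (L → ℂ) → ℕ)
    (hd : ∀ ξ ∈ insert χ S₀, ξ 1 = (d ξ : ℂ)) (τ : (L → ℂ) → (G → ℂ))
    (hτ : IsLinearIsometryOn (zspanOn (↑(insert χ S₀) : Set (L → ℂ)) {1}ᶜ) τ)
    (hτ1 : ∀ α ∈ zspanOn (↑(insert χ S₀) : Set (L → ℂ)) {1}ᶜ, τ α 1 = 0)
    {τ₁ : (L → ℂ) → (G → ℂ)} (hτ₁ : IsLinearIsometryOn (zspan (↑S₀ : Set (L → ℂ))) τ₁)
    (hagree : ∀ α ∈ zspanOn (↑S₀ : Set (L → ℂ)) {1}ᶜ, τ₁ α = τ α)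
    {ψ : L → ℂ} (hψ : ψ ∈ S₀) {a : ℕ} (ha : d χ = d ψ * a)
    (hlt : 2 * d ψ * d χ < ∑ ξ ∈ S₀, d ξ ^ 2) :
    ∃ Y : G → ℂ, IsGeneralizedCharacter G Y ∧
      Y = τ (χ - (a : ℤ) • ψ) + (a : ℤ) • τ₁ ψ ∧
      classInner Y Y = 1 ∧ ∀ ξ ∈ S₀, classInner Y (τ₁ ξ) = 0 := by
  have hsub : (↑S₀ : Set (L → ℂ)) ⊆ ↑(insert χ S₀) :=
    Finset.coe_subset.2 (Finset.subset_insert χ S₀)
  have hd' : ∀ φ ∈ (↑(insert χ S₀) : Set (L → ℂ)), φ 1 = (d φ : ℂ) := fun φ hφ =>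
    hd φ (Finset.mem_coe.1 hφ)
  have hd₀ : ∀ φ ∈ (↑S₀ : Set (L → ℂ)), φ 1 = (d φ : ℂ) := fun φ hφ => hd' φ (hsub hφ)
  have hχF : χ ∈ (↑(insert χ S₀) : Set (L → ℂ)) := Finset.mem_coe.2 (Finset.mem_insert_self _ _)
  have hψF : ψ ∈ (↑(insert χ S₀) : Set (L → ℂ)) := hsub hψ
  have hneψ : χ ≠ ψ := fun h => hχS (h ▸ hψ)
  have o1 : classInner χ ψ = 0 := classInner_irr_ne hχ (hirr ψ hψ) hneψ
  have o1' : classInner ψ χ = 0 := classInner_irr_ne (hirr ψ hψ) hχ (Ne.symm hneψ)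
  have hdψ : d ψ ≠ 0 := by
    intro h
    apply irr_apply_one_ne_zero (hirr ψ hψ)
    rw [hd' ψ hψF, h, Nat.cast_zero]
  have hdχ : d χ ≠ 0 := by
    intro h
    apply irr_apply_one_ne_zero hχ
    rw [hd' χ hχF, h, Nat.cast_zero]
  have ha0 : a ≠ 0 := by
    intro h
    apply hdχ
    rw [ha, h, mul_zero]
  have hβ₀m := feit_beta0_mem d hd' hχF hψF ha
  set θ := τ (χ - (a : ℤ) • ψ) with hθ
  have hθg : IsGeneralizedCharacter G θ := lio_genChar hτ hβ₀m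
  have hPg : ∀ φ ∈ S₀, IsGeneralizedCharacter G (τ₁ φ) := fun φ hφ =>
    lio_genChar hτ₁ (mem_zspan_of_mem hφ)
  set Y := θ + (a : ℤ) • τ₁ ψ with hY
  have hYg : IsGeneralizedCharacter G Y := isGenChar_add hθg (isGenChar_zsmul (hPg ψ hψ) _)
  have hθθ : classInner θ θ = 1 + (a : ℂ) ^ 2 := by
    rw [hθ, lio_inner hτ hβ₀m hβ₀m]
    simp only [classInner_sub_left, classInner_sub_right, classInner_zsmul_left,
      classInner_zsmul_right]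
    rw [classInner_irr_self hχ, classInner_irr_self (hirr ψ hψ), o1, o1']
    push_cast
    ring
  have hu : classInner θ (τ₁ ψ) = coeff θ (τ₁ ψ) := coeff_spec hθg (hPg ψ hψ)
  set t : ℤ := coeff θ (τ₁ ψ) + a with ht
  have hτ₁inner : ∀ φ ∈ S₀, ∀ η ∈ S₀,
      classInner (τ₁ φ) (τ₁ η) = if φ = η then 1 else 0 := by
    intro φ hφ η hη
    rw [lio_inner hτ₁ (mem_zspan_of_mem hφ) (mem_zspan_of_mem hη)]
    split_ifs with h
    · rw [← h]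
      exact classInner_irr_self (hirr φ hφ)
    · exact classInner_irr_ne (hirr φ hφ) (hirr η hη) h
  have hy : ∀ φ ∈ S₀, classInner Y (τ₁ φ) = coeff Y (τ₁ φ) := fun φ hφ =>
    coeff_spec hYg (hPg φ hφ)
  have hrel : ∀ φ ∈ S₀, (d ψ : ℤ) * coeff Y (τ₁ φ) = d φ * t := by
    intro φ hφ
    have h1 := feit_rel S₀ χ hirr hχ hχS d hd τ hτ hτ₁ hagree hψ ha hφ
    rw [← hθ, ← hY, hy φ hφ, hu] at h1
    have h2 : (((d ψ : ℤ) * coeff Y (τ₁ φ) : ℤ) : ℂ) = ((d φ * t : ℤ) : ℂ) := by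
      rw [ht]
      push_cast
      exact h1
    exact_mod_cast h2
  have hYY : classInner Y Y = ((1 + 2 * a * t : ℤ) : ℂ) := by
    rw [hY, classInner_add_left, classInner_add_right, classInner_add_right,
      classInner_zsmul_left, classInner_zsmul_left, classInner_zsmul_right,
      classInner_zsmul_right, hθθ, hu, classInner_int_symm hu, hτ₁inner ψ hψ ψ hψ,
      if_pos rfl, ht]
    push_cast
    ring
  have hb := bessel_idx S₀ τ₁ (fun φ hφ η hη => by rw [hτ₁inner φ hφ η hη]) Y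
    (fun φ => coeff Y (τ₁ φ)) hy
  set y : (L → ℂ) → ℤ := fun φ => coeff Y (τ₁ φ) with hydef
  have hb' : classInner (Y - ∑ φ ∈ S₀, y φ • τ₁ φ) (Y - ∑ φ ∈ S₀, y φ • τ₁ φ) =
      (((1 + 2 * a * t) - ∑ φ ∈ S₀, y φ * y φ : ℤ) : ℂ) := by
    rw [hb, hYY]
    push_cast
    ring
  have hN := int_norm_nonneg hb'
  -- `D² Σ y² = t² W`
  have hDW : (d ψ : ℤ) ^ 2 * ∑ φ ∈ S₀, y φ * y φ = t ^ 2 * ∑ φ ∈ S₀, (d φ : ℤ) ^ 2 := by
    rw [Finset.mul_sum, Finset.mul_sum]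
    refine Finset.sum_congr rfl fun φ hφ => ?_
    have := hrel φ hφ
    have h2 : (d ψ : ℤ) ^ 2 * (y φ * y φ) = ((d ψ : ℤ) * y φ) * ((d ψ : ℤ) * y φ) := by ring
    rw [h2, this]
    ring
  have hW : 2 * (d ψ : ℤ) * ((d ψ : ℤ) * a) < ∑ φ ∈ S₀, (d φ : ℤ) ^ 2 := by
    have : ((2 * d ψ * d χ : ℕ) : ℤ) < ((∑ ξ ∈ S₀, d ξ ^ 2 : ℕ) : ℤ) := by exact_mod_cast hlt
    rw [ha] at this
    push_cast at this
    exact this
  have hDpos : (0 : ℤ) < (d ψ : ℤ) := by exact_mod_cast Nat.pos_of_ne_zero hdψ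
  have hapos : (0 : ℤ) < (a : ℤ) := by exact_mod_cast Nat.pos_of_ne_zero ha0
  have hD2 : (0 : ℤ) < (d ψ : ℤ) ^ 2 := by positivity
  have ht01 : t = 0 ∨ t = 1 := by
    by_contra h
    push Not at h
    have h2 := int_not_zero_one h.1 h.2
    have ht2 : 0 < t ^ 2 := by
      have : t ≠ 0 := h.1
      positivity
    have h3 : t ^ 2 * (2 * (d ψ : ℤ) * ((d ψ : ℤ) * a) + 1) ≤
        t ^ 2 * ∑ φ ∈ S₀, (d φ : ℤ) ^ 2 := by
      apply mul_le_mul_of_nonneg_left _ ht2.le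
      omega
    have h4 : (d ψ : ℤ) ^ 2 * ∑ φ ∈ S₀, y φ * y φ ≤ (d ψ : ℤ) ^ 2 * (1 + 2 * a * t) := by
      apply mul_le_mul_of_nonneg_left _ hD2.le
      omega
    have h5 : 0 ≤ (a : ℤ) * (d ψ : ℤ) ^ 2 := by positivity
    nlinarith
  rcases ht01 with ht0 | ht1
  · refine ⟨Y, hYg, rfl, ?_, ?_⟩
    · rw [hYY, ht0]
      push_cast
      ring
    · intro φ hφ
      rw [hy φ hφ]
      have h1 := hrel φ hφ
      rw [ht0, mul_zero] at h1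
      rcases mul_eq_zero.1 h1 with h2 | h2
      · exact absurd (by exact_mod_cast h2) hdψ
      · rw [h2, Int.cast_zero]
  · exfalso
    rw [ht1] at hDW hN hrel
    have hsumy : ∑ φ ∈ S₀, y φ * y φ = 1 + 2 * a := by
      have h1 : (d ψ : ℤ) ^ 2 * (2 * a) < (d ψ : ℤ) ^ 2 * ∑ φ ∈ S₀, y φ * y φ := by
        rw [hDW]
        nlinarith
      have h2 : 2 * (a : ℤ) < ∑ φ ∈ S₀, y φ * y φ := lt_of_mul_lt_mul_left h1 hD2.le
      omega
    have hzero : Y - ∑ φ ∈ S₀, y φ • τ₁ φ = 0 := by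
      apply eq_zero_of_classInner_self
      rw [hb', ht1, hsumy]
      push_cast
      ring
    have hYeq : Y = ∑ φ ∈ S₀, y φ • τ₁ φ := sub_eq_zero.1 hzero
    set e := τ₁ ψ 1 with he
    have he0 : e ≠ 0 := genChar_norm_one_apply_one_ne_zero (hPg ψ hψ) (by
      rw [hτ₁inner ψ hψ ψ hψ, if_pos rfl])
    have hval : ∀ φ ∈ S₀, (d ψ : ℂ) * τ₁ φ 1 = d φ * e := by
      intro φ hφ
      have hγm : (d φ : ℤ) • ψ - (d ψ : ℤ) • φ ∈ zspanOn (↑S₀ : Set (L → ℂ)) {1}ᶜ :=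
        feit_gamma_mem d hd₀ hφ hψ
      have h1 := hτ1 _ (zspanOn_mono hsub hγm)
      rw [← hagree _ hγm, lio_sub hτ₁ (zspan_zsmul _ (mem_zspan_of_mem hψ))
        (zspan_zsmul _ (mem_zspan_of_mem hφ)) (zspan_neg (zspan_zsmul _ (mem_zspan_of_mem hφ))),
        lio_zsmul hτ₁ (mem_zspan_of_mem hψ), lio_zsmul hτ₁ (mem_zspan_of_mem hφ)] at h1
      simp only [Pi.sub_apply, Pi.smul_apply] at h1
      simp only [zsmul_eq_mul] at h1
      push_cast at h1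
      rw [he]
      linear_combination (-1 : ℂ) * h1
    have hY1 : Y 1 = a * e := by
      rw [hY, Pi.add_apply, hθ, hτ1 _ hβ₀m, Pi.smul_apply, zero_add, he]
      simp
    have hY1' : Y 1 = ∑ φ ∈ S₀, (y φ : ℂ) * τ₁ φ 1 := by
      rw [hYeq, Finset.sum_apply]
      refine Finset.sum_congr rfl fun φ hφ => ?_
      rw [Pi.smul_apply]
      simp
    have hkey : ((d ψ : ℂ) ^ 2) * (a * e) = e * ((∑ φ ∈ S₀, (d φ : ℤ) ^ 2 : ℤ) : ℂ) := by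
      rw [← hY1, hY1', Finset.mul_sum]
      push_cast
      rw [Finset.mul_sum]
      refine Finset.sum_congr rfl fun φ hφ => ?_
      have h1 := hval φ hφ
      have h2 : ((d ψ : ℤ) : ℂ) * (y φ : ℂ) = ((d φ : ℤ) : ℂ) * 1 := by
        have := hrel φ hφ
        exact_mod_cast this
      push_cast at h2
      calc (d ψ : ℂ) ^ 2 * ((y φ : ℂ) * τ₁ φ 1)
          = ((d ψ : ℂ) * (y φ : ℂ)) * ((d ψ : ℂ) * τ₁ φ 1) := by ring
        _ = e * (d φ : ℂ) ^ 2 := by rw [h2, h1]; ring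
    have hne : (((∑ φ ∈ S₀, (d φ : ℤ) ^ 2) - (d ψ : ℤ) ^ 2 * a : ℤ) : ℂ) ≠ 0 := by
      apply Int.cast_ne_zero.2
      nlinarith
    apply hne
    have : e * (((∑ φ ∈ S₀, (d φ : ℤ) ^ 2) - (d ψ : ℤ) ^ 2 * a : ℤ) : ℂ) = 0 := by
      push_cast
      push_cast at hkey
      linear_combination (-1 : ℂ) * hkey
    rcases mul_eq_zero.1 this with h | h
    · exact absurd h he0
    · exact h

end Feit

end Cfsg.Agent.Lib.Helper4.Coh
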