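import Mathlib
import Cfsg.Agent.Lib.Helper4.Coh8

set_option autoImplicit false
set_option linter.unusedSectionVars false

/-!
Coherence: the union of two disjoint coherent sets of irreducible characters.
-/

namespace Cfsg.Agent.Lib.Helper4.Coh

open Cfsg Cfsg.Agent.Lib.Helper4 Cfsg.Agent.Lib.Helper1
open scoped ComplexConjugate

section Cross
variable {L : Type*} [Group L] [Fintype L] {G : Type*} [Group G] [Fintype G]

theorem genChar_norm_one_eq_or_neg {A B : G → ℂ} (hA : IsGeneralizedCharacter G A)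
    (hB : IsGeneralizedCharacter G B) (hA1 : classInner A A = 1) (hB1 : classInner B B = 1)
    (h : classInner A B ≠ 0) : A = B ∨ A = -B := by
  obtain ⟨ψA, hψA, hA'⟩ := genChar_norm_one hA hA1
  obtain ⟨ψB, hψB, hB'⟩ := genChar_norm_one hB hB1
  have heq : ψA = ψB := by
    by_contra hne
    apply h
    have h0 := classInner_irr_ne hψA hψB hne
    rcases hA' with rfl | rfl <;> rcases hB' with rfl | rfl <;>
      simp [classInner_neg_left, classInner_neg_right, h0]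
  subst heq
  rcases hA' with rfl | rfl <;> rcases hB' with rfl | rfl <;> simp

/-- the degree of a function (meaningful for characters) -/
noncomputable def deg (φ : L → ℂ) : ℕ := by
  classical
  exact if h : ∃ n : ℕ, φ 1 = n then Classical.choose h else 0

theorem deg_spec {φ : L → ℂ} (h : IsIrrCharacter L φ) : φ 1 = (deg φ : ℂ) := by
  obtain ⟨n, -, hn⟩ := irr_apply_one_pos h
  have h' : ∃ n : ℕ, φ 1 = n := ⟨n, hn⟩
  unfold deg
  rw [dif_pos h']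
  exact Classical.choose_spec h'

theorem deg_pos {φ : L → ℂ} (h : IsIrrCharacter L φ) : 0 < deg φ := by
  rcases Nat.eq_zero_or_pos (deg φ) with h0 | h0
  · exfalso
    apply irr_apply_one_ne_zero h
    rw [deg_spec h, h0, Nat.cast_zero]
  · exact h0

/-- `σ (c' χ - c χ') = c' σ χ - c σ χ'` and it agrees with `α` -/
theorem sigma_diff {S X : Set (L → ℂ)} (hirr : ∀ ξ ∈ S, IsIrrCharacter L ξ) (hXS : X ⊆ S)
    {α σ : (L → ℂ) → (G → ℂ)} (hσ : IsLinearIsometryOn (zspan X) σ)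
    (hσα : ∀ θ ∈ zspanOn X {1}ᶜ, σ θ = α θ) {χ χ' : L → ℂ} (hχ : χ ∈ X) (hχ' : χ' ∈ X) :
    (deg χ' : ℤ) • χ - (deg χ : ℤ) • χ' ∈ zspanOn X {1}ᶜ ∧
    α ((deg χ' : ℤ) • χ - (deg χ : ℤ) • χ') = (deg χ' : ℤ) • σ χ - (deg χ : ℤ) • σ χ' := by
  have hm : (deg χ' : ℤ) • χ - (deg χ : ℤ) • χ' ∈ zspanOn X {1}ᶜ :=
    feit_gamma_mem deg (fun φ hφ => deg_spec (hirr φ (hXS hφ))) hχ' hχ
  refine ⟨hm, ?_⟩
  rw [← hσα _ hm, lio_sub hσ (zspan_zsmul _ (mem_zspan_of_mem hχ))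
    (zspan_zsmul _ (mem_zspan_of_mem hχ')) (zspan_neg (zspan_zsmul _ (mem_zspan_of_mem hχ'))),
    lio_zsmul hσ (mem_zspan_of_mem hχ), lio_zsmul hσ (mem_zspan_of_mem hχ')]

/-- values at one: `c' σχ(1) = c σχ'(1)` -/
theorem sigma_val {S X : Set (L → ℂ)} (hirr : ∀ ξ ∈ S, IsIrrCharacter L ξ) (hXS : X ⊆ S)
    {α σ : (L → ℂ) → (G → ℂ)} (hα1 : ∀ θ ∈ zspanOn S {1}ᶜ, α θ 1 = 0)
    (hσ : IsLinearIsometryOn (zspan X) σ)
    (hσα : ∀ θ ∈ zspanOn X {1}ᶜ, σ θ = α θ) {χ χ' : L → ℂ} (hχ : χ ∈ X) (hχ' : χ' ∈ X) :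
    (deg χ' : ℂ) * σ χ 1 = (deg χ : ℂ) * σ χ' 1 := by
  obtain ⟨hm, he⟩ := sigma_diff hirr hXS hσ hσα hχ hχ'
  have h1 := hα1 _ (zspanOn_mono hXS hm)
  rw [he] at h1
  simp only [Pi.sub_apply, Pi.smul_apply] at h1
  simp only [zsmul_eq_mul] at h1
  push_cast at h1
  linear_combination h1

/-- the four-term relation -/
theorem cross_rel {S X Y : Set (L → ℂ)} (hirr : ∀ ξ ∈ S, IsIrrCharacter L ξ) (hXS : X ⊆ S)
    (hYS : Y ⊆ S) (hXY : Disjoint X Y) {α σ τ : (L → ℂ) → (G → ℂ)}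
    (hα : IsLinearIsometryOn (zspanOn S {1}ᶜ) α)
    (hσ : IsLinearIsometryOn (zspan X) σ) (hσα : ∀ θ ∈ zspanOn X {1}ᶜ, σ θ = α θ)
    (hτ : IsLinearIsometryOn (zspan Y) τ) (hτα : ∀ θ ∈ zspanOn Y {1}ᶜ, τ θ = α θ)
    {χ χ' η η' : L → ℂ} (hχ : χ ∈ X) (hχ' : χ' ∈ X) (hη : η ∈ Y) (hη' : η' ∈ Y) :
    (deg χ' : ℂ) * deg η' * classInner (σ χ) (τ η) - (deg χ' : ℂ) * deg η * classInner (σ χ) (τ η')
      - (deg χ : ℂ) * deg η' * classInner (σ χ') (τ η)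
      + (deg χ : ℂ) * deg η * classInner (σ χ') (τ η') = 0 := by
  obtain ⟨hmA, heA⟩ := sigma_diff hirr hXS hσ hσα hχ hχ'
  obtain ⟨hmB, heB⟩ := sigma_diff hirr hYS hτ hτα hη hη'
  have hne : ∀ φ ∈ X, ∀ ψ ∈ Y, classInner φ ψ = 0 := by
    intro φ hφ ψ hψ
    apply classInner_irr_ne (hirr φ (hXS hφ)) (hirr ψ (hYS hψ))
    intro h
    exact Set.disjoint_left.1 hXY hφ (h ▸ hψ)
  have h1 := lio_inner hα (zspanOn_mono hXS hmA) (zspanOn_mono hYS hmB)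
  rw [heA, heB] at h1
  simp only [classInner_sub_left, classInner_sub_right, classInner_zsmul_left,
    classInner_zsmul_right] at h1
  rw [hne χ hχ η hη, hne χ hχ η' hη', hne χ' hχ' η hη, hne χ' hχ' η' hη'] at h1
  push_cast at h1
  linear_combination h1

theorem exists_ne_of_two {X : Set (L → ℂ)} (hX2 : ∃ a ∈ X, ∃ b ∈ X, a ≠ b) (χ : L → ℂ) :
    ∃ χ' ∈ X, χ' ≠ χ := by
  obtain ⟨a, ha, b, hb, hab⟩ := hX2
  by_cases h : a = χ
  · exact ⟨b, hb, fun h' => hab (h.trans h'.symm)⟩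
  · exact ⟨a, ha, h⟩

theorem exists_sign {A B : G → ℂ} (hA : IsGeneralizedCharacter G A)
    (hB : IsGeneralizedCharacter G B) (hA1 : classInner A A = 1) (hB1 : classInner B B = 1)
    (h : classInner A B ≠ 0) : ∃ ε : ℂ, (ε = 1 ∨ ε = -1) ∧ A = ε • B := by
  rcases genChar_norm_one_eq_or_neg hA hB hA1 hB1 h with h | h
  · exact ⟨1, Or.inl rfl, by rw [h, one_smul]⟩
  · exact ⟨-1, Or.inr rfl, by rw [h, neg_smul, one_smul]⟩

/-- Claim 1: `σ χ ⊥ τ η` -/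
theorem cross_orth {S X Y : Set (L → ℂ)} (hirr : ∀ ξ ∈ S, IsIrrCharacter L ξ) (hXS : X ⊆ S)
    (hYS : Y ⊆ S) (hXY : Disjoint X Y) (hX2 : ∃ a ∈ X, ∃ b ∈ X, a ≠ b)
    (hY2 : ∃ a ∈ Y, ∃ b ∈ Y, a ≠ b) {α σ τ : (L → ℂ) → (G → ℂ)}
    (hα : IsLinearIsometryOn (zspanOn S {1}ᶜ) α) (hα1 : ∀ θ ∈ zspanOn S {1}ᶜ, α θ 1 = 0)
    (hσ : IsLinearIsometryOn (zspan X) σ) (hσα : ∀ θ ∈ zspanOn X {1}ᶜ, σ θ = α θ)
    (hτ : IsLinearIsometryOn (zspan Y) τ) (hτα : ∀ θ ∈ zspanOn Y {1}ᶜ, τ θ = α θ) :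
    ∀ χ ∈ X, ∀ η ∈ Y, classInner (σ χ) (τ η) = 0 := by
  intro χ hχ η hη
  by_contra hz
  obtain ⟨χ', hχ', hneχ⟩ := exists_ne_of_two hX2 χ
  obtain ⟨η', hη', hneη⟩ := exists_ne_of_two hY2 η
  have nσ : ∀ φ ∈ X, classInner (σ φ) (σ φ) = 1 := fun φ hφ => by
    rw [lio_inner hσ (mem_zspan_of_mem hφ) (mem_zspan_of_mem hφ),
      classInner_irr_self (hirr φ (hXS hφ))]
  have nτ : ∀ φ ∈ Y, classInner (τ φ) (τ φ) = 1 := fun φ hφ => by
    rw [lio_inner hτ (mem_zspan_of_mem hφ) (mem_zspan_of_mem hφ),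
      classInner_irr_self (hirr φ (hYS hφ))]
  have gσ : ∀ φ ∈ X, IsGeneralizedCharacter G (σ φ) := fun φ hφ =>
    lio_genChar hσ (mem_zspan_of_mem hφ)
  have gτ : ∀ φ ∈ Y, IsGeneralizedCharacter G (τ φ) := fun φ hφ =>
    lio_genChar hτ (mem_zspan_of_mem hφ)
  have oσ : classInner (σ χ') (σ χ) = 0 := by
    rw [lio_inner hσ (mem_zspan_of_mem hχ') (mem_zspan_of_mem hχ)]
    exact classInner_irr_ne (hirr χ' (hXS hχ')) (hirr χ (hXS hχ)) hneχ
  have oτ : classInner (τ η) (τ η') = 0 := by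
    rw [lio_inner hτ (mem_zspan_of_mem hη) (mem_zspan_of_mem hη')]
    exact classInner_irr_ne (hirr η (hYS hη)) (hirr η' (hYS hη')) (Ne.symm hneη)
  obtain ⟨ε, hε, hσχ⟩ := exists_sign (gσ χ hχ) (gτ η hη) (nσ χ hχ) (nτ η hη) hz
  have z1 : classInner (σ χ) (τ η) = ε := by
    rw [hσχ, classInner_smul_left, nτ η hη, mul_one]
  have z2 : classInner (σ χ) (τ η') = 0 := by
    rw [hσχ, classInner_smul_left, oτ, mul_zero]
  have z3 : classInner (σ χ') (τ η) = 0 := by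
    have h1 : τ η = ε • σ χ := by
      rw [hσχ, smul_smul]
      rcases hε with rfl | rfl <;> simp
    rw [h1, classInner_smul_right, oσ, mul_zero]
  have hrel := cross_rel hirr hXS hYS hXY hα hσ hσα hτ hτα hχ hχ' hη hη'
  rw [z1, z2, z3] at hrel
  have hcpos : ∀ φ ∈ S, (deg φ : ℂ) ≠ 0 := fun φ hφ =>
    Nat.cast_ne_zero.2 (deg_pos (hirr φ hφ)).ne'
  have hε0 : ε ≠ 0 := by
    rcases hε with rfl | rfl <;> norm_num
  have z4ne : classInner (σ χ') (τ η') ≠ 0 := by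
    intro h
    rw [h] at hrel
    have h2 : (deg χ' : ℂ) * deg η' * ε = 0 := by linear_combination hrel
    exact mul_ne_zero (mul_ne_zero (hcpos χ' (hXS hχ')) (hcpos η' (hYS hη'))) hε0 h2
  obtain ⟨ε', hε', hσχ'⟩ := exists_sign (gσ χ' hχ') (gτ η' hη') (nσ χ' hχ') (nτ η' hη') z4ne
  have z4 : classInner (σ χ') (τ η') = ε' := by
    rw [hσχ', classInner_smul_left, nτ η' hη', mul_one]
  rw [z4] at hrel
  have hpos1 : ((deg χ' * deg η' + deg χ * deg η : ℕ) : ℂ) ≠ 0 := by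
    apply Nat.cast_ne_zero.2
    have h1 := deg_pos (hirr χ' (hXS hχ'))
    have h2 := deg_pos (hirr η' (hYS hη'))
    positivity
  have hpos2 : ((deg η * deg χ' + deg χ * deg η' : ℕ) : ℂ) ≠ 0 := by
    apply Nat.cast_ne_zero.2
    have h1 := deg_pos (hirr χ' (hXS hχ'))
    have h2 := deg_pos (hirr η (hYS hη))
    positivity
  have hu : τ η 1 ≠ 0 := genChar_norm_one_apply_one_ne_zero (gτ η hη) (nτ η hη)
  have v1 := sigma_val hirr hXS hα1 hσ hσα hχ hχ'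
  have v2 := sigma_val hirr hYS hα1 hτ hτα hη hη'
  rw [hσχ, hσχ'] at v1
  simp only [Pi.smul_apply, smul_eq_mul] at v1
  have hfin : τ η 1 * ((deg η * deg χ' + deg χ * deg η' : ℕ) : ℂ) = 0 := by
    push_cast
    rcases hε with rfl | rfl <;> rcases hε' with rfl | rfl
    · exfalso
      apply hpos1
      push_cast
      linear_combination hrel
    · linear_combination (deg η : ℂ) * v1 + (deg χ : ℂ) * v2
    · linear_combination -(deg η : ℂ) * v1 + (deg χ : ℂ) * v2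
    · exfalso
      apply hpos1
      push_cast
      linear_combination -hrel
  rcases mul_eq_zero.1 hfin with h | h
  · exact hu h
  · exact hpos2 h

theorem zsmul_cancel {m : ℤ} (hm : m ≠ 0) {u v : G → ℂ} (h : m • u = m • v) : u = v := by
  funext z
  have h1 := congrFun h z
  simp only [Pi.smul_apply, zsmul_eq_mul] at h1
  exact mul_left_cancel₀ (Int.cast_ne_zero.2 hm) h1

open Classical in
/-- Claim 2: the union is coherent -/
theorem cross_coherent {S X Y : Set (L → ℂ)} (hirr : ∀ ξ ∈ S, IsIrrCharacter L ξ)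
    (hXS : X ⊆ S) (hYS : Y ⊆ S) (hXY : Disjoint X Y) (hX2 : ∃ a ∈ X, ∃ b ∈ X, a ≠ b)
    (hY2 : ∃ a ∈ Y, ∃ b ∈ Y, a ≠ b) {α σ τ : (L → ℂ) → (G → ℂ)}
    (hα : IsLinearIsometryOn (zspanOn S {1}ᶜ) α) (hα1 : ∀ θ ∈ zspanOn S {1}ᶜ, α θ 1 = 0)
    (hσ : IsLinearIsometryOn (zspan X) σ) (hσα : ∀ θ ∈ zspanOn X {1}ᶜ, σ θ = α θ)
    (hτ : IsLinearIsometryOn (zspan Y) τ) (hτα : ∀ θ ∈ zspanOn Y {1}ᶜ, τ θ = α θ)
    {χ₀ η₀ : L → ℂ} (hχ₀ : χ₀ ∈ X) (hη₀ : η₀ ∈ Y)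
    (h0 : α (χ₀ 1 • η₀ - η₀ 1 • χ₀) = χ₀ 1 • τ η₀ - η₀ 1 • σ χ₀) :
    IsCoherent (X ∪ Y) {1}ᶜ α := by
  have hU : X ∪ Y ⊆ S := Set.union_subset hXS hYS
  have hUo : OrthoSet (X ∪ Y) := orthoSet_of_irr fun ξ hξ => hirr ξ (hU hξ)
  set F : Finset (L → ℂ) := hUo.finite.toFinset with hF
  have hFS : (↑F : Set (L → ℂ)) = X ∪ Y := by rw [hF]; exact Set.Finite.coe_toFinset _
  have hmemF : ∀ φ, φ ∈ F ↔ φ ∈ X ∪ Y := fun φ => by rw [hF]; exact Set.Finite.mem_toFinset _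
  have hFo : OrthoSet (↑F : Set (L → ℂ)) := by rw [hFS]; exact hUo
  have hYX : ∀ φ ∈ Y, φ ∉ X := fun φ hφ hφ' => Set.disjoint_left.1 hXY hφ' hφ
  set T : (L → ℂ) → (G → ℂ) := fun φ => if φ ∈ X then σ φ else τ φ with hT
  have hTX : ∀ φ ∈ X, T φ = σ φ := fun φ hφ => if_pos hφ
  have hTY : ∀ φ ∈ Y, T φ = τ φ := fun φ hφ => if_neg (hYX φ hφ)
  have hcross := cross_orth hirr hXS hYS hXY hX2 hY2 hα hα1 hσ hσα hτ hτα
  have hne : ∀ φ ∈ X, ∀ ψ ∈ Y, classInner φ ψ = 0 := by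
    intro φ hφ ψ hψ
    apply classInner_irr_ne (hirr φ (hXS hφ)) (hirr ψ (hYS hψ))
    intro h
    exact hYX ψ hψ (h ▸ hφ)
  have hT1 : ∀ φ ∈ F, ∀ ψ ∈ F, classInner (T φ) (T ψ) = classInner φ ψ := by
    intro φ hφ ψ hψ
    rw [hmemF] at hφ hψ
    rcases hφ with hφ | hφ <;> rcases hψ with hψ | hψ
    · rw [hTX φ hφ, hTX ψ hψ, lio_inner hσ (mem_zspan_of_mem hφ) (mem_zspan_of_mem hψ)]
    · rw [hTX φ hφ, hTY ψ hψ, hcross φ hφ ψ hψ, hne φ hφ ψ hψ]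
    · rw [hTY φ hφ, hTX ψ hψ, classInner_eq_zero_symm (hcross ψ hψ φ hφ),
        classInner_eq_zero_symm (hne ψ hψ φ hφ)]
    · rw [hTY φ hφ, hTY ψ hψ, lio_inner hτ (mem_zspan_of_mem hφ) (mem_zspan_of_mem hψ)]
  have hT2 : ∀ φ ∈ F, IsGeneralizedCharacter G (T φ) := by
    intro φ hφ
    rw [hmemF] at hφ
    rcases hφ with hφ | hφ
    · rw [hTX φ hφ]; exact lio_genChar hσ (mem_zspan_of_mem hφ)
    · rw [hTY φ hφ]; exact lio_genChar hτ (mem_zspan_of_mem hφ)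
  have hdeg : ∀ φ ∈ S, φ 1 = (deg φ : ℂ) := fun φ hφ => deg_spec (hirr φ hφ)
  refine ⟨?_, extend F T, ?_, ?_⟩
  · obtain ⟨a, ha, b, hb, hab⟩ := hX2
    obtain ⟨hm, -⟩ := sigma_diff hirr hXS hσ hσα ha hb
    refine ⟨_, zspanOn_mono Set.subset_union_left hm, ?_⟩
    intro h
    have h1 : classInner ((deg b : ℤ) • a - (deg a : ℤ) • b) a = deg b := by
      rw [classInner_sub_left, classInner_zsmul_left, classInner_zsmul_left,
        classInner_irr_self (hirr a (hXS ha)),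
        classInner_irr_ne (hirr b (hXS hb)) (hirr a (hXS ha)) (Ne.symm hab)]
      push_cast
      ring
    rw [h, classInner_zero_left] at h1
    exact (Nat.cast_ne_zero.2 (deg_pos (hirr b (hXS hb))).ne') h1.symm
  · rw [← hFS]
    exact extend_isometry F hFo T hT1 hT2
  · intro θ hθ
    rw [← hFS] at hθ
    obtain ⟨c, rfl⟩ := exists_coeff F hθ.1
    rw [extend_sum_zsmul F hFo]
    set FX := F.filter (fun φ => φ ∈ X) with hFX
    set FY := F.filter (fun φ => ¬ φ ∈ X) with hFY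
    have hFXm : ∀ φ ∈ FX, φ ∈ X := fun φ hφ => (Finset.mem_filter.1 hφ).2
    have hFYm : ∀ φ ∈ FY, φ ∈ Y := by
      intro φ hφ
      obtain ⟨h1, h2⟩ := Finset.mem_filter.1 hφ
      rcases (hmemF φ).1 h1 with h | h
      · exact absurd h h2
      · exact h
    set θX : L → ℂ := ∑ φ ∈ FX, c φ • φ with hθX
    set θY : L → ℂ := ∑ φ ∈ FY, c φ • φ with hθY
    have hsplit : ∑ φ ∈ F, c φ • φ = θX + θY :=
      (Finset.sum_filter_add_sum_filter_not F (fun φ => φ ∈ X) _).symm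
    have hsplitT : ∑ φ ∈ F, c φ • T φ = σ θX + τ θY := by
      rw [← Finset.sum_filter_add_sum_filter_not F (fun φ => φ ∈ X) _, hθX, hθY,
        lio_sum_zsmul' hσ FX c (fun φ => φ) (fun φ hφ => mem_zspan_of_mem (hFXm φ hφ)),
        lio_sum_zsmul' hτ FY c (fun φ => φ) (fun φ hφ => mem_zspan_of_mem (hFYm φ hφ))]
      congr 1
      · exact Finset.sum_congr rfl fun φ hφ => by rw [hTX φ (hFXm φ hφ)]
      · exact Finset.sum_congr rfl fun φ hφ => by rw [hTY φ (hFYm φ hφ)]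
    have hθXm : θX ∈ zspan X :=
      sum_zsmul_mem_zspan' FX c (fun φ => φ) (fun φ hφ => mem_zspan_of_mem (hFXm φ hφ))
    have hθYm : θY ∈ zspan Y :=
      sum_zsmul_mem_zspan' FY c (fun φ => φ) (fun φ hφ => mem_zspan_of_mem (hFYm φ hφ))
    rw [hsplitT]
    rw [hsplit] at hθ ⊢
    -- the values at one
    set k : ℤ := ∑ φ ∈ FX, c φ * deg φ with hk
    have hθX1 : θX 1 = (k : ℂ) := by
      rw [hθX, hk, Finset.sum_apply]
      push_cast
      refine Finset.sum_congr rfl fun φ hφ => ?_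
      rw [Pi.smul_apply, hdeg φ (hXS (hFXm φ hφ))]
      simp
    have hθY1 : θY 1 = -(k : ℂ) := by
      have := hθ.2 1 (by simp)
      rw [Pi.add_apply, hθX1] at this
      linear_combination this
    set c₀ : ℤ := (deg χ₀ : ℤ) with hc₀
    set e₀ : ℤ := (deg η₀ : ℤ) with he₀
    have hc₀ne : c₀ ≠ 0 := by
      rw [hc₀]; exact_mod_cast (deg_pos (hirr χ₀ (hXS hχ₀))).ne'
    have he₀ne : e₀ ≠ 0 := by
      rw [he₀]; exact_mod_cast (deg_pos (hirr η₀ (hYS hη₀))).ne'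
    have hχ₀1 : χ₀ 1 = (c₀ : ℂ) := by rw [hdeg χ₀ (hXS hχ₀), hc₀]; push_cast; rfl
    have hη₀1 : η₀ 1 = (e₀ : ℂ) := by rw [hdeg η₀ (hYS hη₀), he₀]; push_cast; rfl
    set A : L → ℂ := (e₀ * c₀) • θX - (e₀ * k) • χ₀ with hA
    set B : L → ℂ := (e₀ * c₀) • θY + (c₀ * k) • η₀ with hB
    set C : L → ℂ := c₀ • η₀ - e₀ • χ₀ with hC
    have one_of : ∀ z : L, z ∉ ({1}ᶜ : Set L) → z = 1 := by
      intro z hz
      by_contra h
      exact hz h
    have hAm : A ∈ zspanOn X {1}ᶜ := by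
      refine ⟨zspan_sub (zspan_zsmul _ hθXm) (zspan_zsmul _ (mem_zspan_of_mem hχ₀)), ?_⟩
      intro z hz
      rw [one_of z hz, hA]
      simp only [Pi.sub_apply, Pi.smul_apply]
      rw [hθX1, hχ₀1]
      simp only [zsmul_eq_mul]
      push_cast
      ring
    have hBm : B ∈ zspanOn Y {1}ᶜ := by
      refine ⟨zspan_add (zspan_zsmul _ hθYm) (zspan_zsmul _ (mem_zspan_of_mem hη₀)), ?_⟩
      intro z hz
      rw [one_of z hz, hB]
      simp only [Pi.add_apply, Pi.smul_apply]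
      rw [hθY1, hη₀1]
      simp only [zsmul_eq_mul]
      push_cast
      ring
    have hCm : C ∈ zspanOn S {1}ᶜ := by
      refine ⟨zspan_sub (zspan_zsmul _ (mem_zspan_of_mem (hYS hη₀)))
        (zspan_zsmul _ (mem_zspan_of_mem (hXS hχ₀))), ?_⟩
      intro z hz
      rw [one_of z hz, hC]
      simp only [Pi.sub_apply, Pi.smul_apply]
      rw [hχ₀1, hη₀1]
      simp only [zsmul_eq_mul]
      ring
    have hαC : α C = c₀ • τ η₀ - e₀ • σ χ₀ := by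
      have e1 : C = χ₀ 1 • η₀ - η₀ 1 • χ₀ := by
        rw [hC, hχ₀1, hη₀1]
        funext z
        simp only [Pi.sub_apply, Pi.smul_apply]
        simp
      have e2 : c₀ • τ η₀ - e₀ • σ χ₀ = χ₀ 1 • τ η₀ - η₀ 1 • σ χ₀ := by
        rw [hχ₀1, hη₀1]
        funext z
        simp only [Pi.sub_apply, Pi.smul_apply]
        simp
      rw [e1, e2, h0]
    have hdec : (e₀ * c₀) • (θX + θY) = A + (B + (-k) • C) := by
      rw [hA, hB, hC]
      funext z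
      simp only [Pi.add_apply, Pi.smul_apply, Pi.sub_apply]
      simp only [zsmul_eq_mul]
      push_cast
      ring
    have hAS := zspanOn_mono hXS hAm
    have hBS := zspanOn_mono hYS hBm
    have hαA : α A = (e₀ * c₀) • σ θX - (e₀ * k) • σ χ₀ := by
      rw [← hσα A hAm, hA, lio_sub hσ (zspan_zsmul _ hθXm)
        (zspan_zsmul _ (mem_zspan_of_mem hχ₀)) (zspan_neg (zspan_zsmul _ (mem_zspan_of_mem hχ₀))),
        lio_zsmul hσ hθXm, lio_zsmul hσ (mem_zspan_of_mem hχ₀)]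
    have hαB : α B = (e₀ * c₀) • τ θY + (c₀ * k) • τ η₀ := by
      rw [← hτα B hBm, hB, lio_add hτ (zspan_zsmul _ hθYm)
        (zspan_zsmul _ (mem_zspan_of_mem hη₀)),
        lio_zsmul hτ hθYm, lio_zsmul hτ (mem_zspan_of_mem hη₀)]
    have hθS : θX + θY ∈ zspanOn S {1}ᶜ := by
      have := zspanOn_mono hU (A := ({1}ᶜ : Set L)) (by rw [← hFS]; exact hθ)
      exact this
    have hfin : (e₀ * c₀) • (σ θX + τ θY) = (e₀ * c₀) • α (θX + θY) := by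
      rw [← lio_zsmul hα hθS, hdec,
        lio_add hα hAS (zspanOn_add hBS (zspanOn_zsmul _ hCm)),
        lio_add hα hBS (zspanOn_zsmul _ hCm), lio_zsmul hα hCm, hαA, hαB, hαC]
      funext z
      simp only [Pi.add_apply, Pi.smul_apply, Pi.sub_apply]
      simp only [zsmul_eq_mul]
      push_cast
      ring
    exact zsmul_cancel (mul_ne_zero he₀ne hc₀ne) hfin

end Cross

end Cfsg.Agent.Lib.Helper4.Coh
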