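import Mathlib
import Cfsg.Agent.Lib.Helper4.Coh9
import Cfsg.Agent.S1516
import Cfsg.Agent.S1517

set_option autoImplicit false
set_option linter.unusedSectionVars false
set_option maxHeartbeats 800000

/-!
# Peterfalvi, Section 6: generalities on coherence of subsets of a coherence system
-/

namespace Cfsg.Agent.Lib.Helper4.PF6

open Cfsg Cfsg.Agent.Lib.Helper1 Cfsg.Agent.Lib.Helper4 Cfsg.Agent.Lib.Helper4.Coh
open scoped ComplexConjugate

section General

variable {L : Type*} [Group L] [Fintype L] {G : Type*} [Group G] [Fintype G]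
  {S : Set (L → ℂ)} {τ : (L → ℂ) → (G → ℂ)} {R : (L → ℂ) → Finset (G → ℂ)}

theorem deg_spec' {φ : L → ℂ} (h : IsCharacter L φ) : φ 1 = (deg φ : ℂ) := by
  have h' : ∃ n : ℕ, φ 1 = n := isCharacter_apply_one h
  unfold deg
  rw [dif_pos h']
  exact Classical.choose_spec h'

open Classical in
/-- the norm of a function as a natural number (meaningful for characters) -/
noncomputable def nrm (φ : L → ℂ) : ℕ :=
  if h : ∃ n : ℕ, classInner φ φ = n then Classical.choose h else 0

theorem nrm_spec {φ : L → ℂ} (h : IsCharacter L φ) : classInner φ φ = (nrm φ : ℂ) := by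
  have h' : ∃ n : ℕ, classInner φ φ = n := classInner_char_nat h h
  unfold nrm
  rw [dif_pos h']
  exact Classical.choose_spec h'

theorem nrm_pos (hS : IsCoherenceSystem S τ R) {φ : L → ℂ} (hφ : φ ∈ S) : 0 < nrm φ := by
  obtain ⟨n, hn, hn'⟩ := sys_norm_nat hS hφ
  have h2 := nrm_spec (hS.isCharacter φ hφ)
  rw [hn'] at h2
  have : n = nrm φ := by exact_mod_cast h2
  rw [← this]; exact hn

/-- a nonempty conjugation-closed subset of a coherence system is a coherence system -/
theorem subsystem (hS : IsCoherenceSystem S τ R) {S' : Set (L → ℂ)} (hsub : S' ⊆ S)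
    (hne : S'.Nonempty) (hconj : ∀ χ ∈ S', conjFun χ ∈ S') : IsCoherenceSystem S' τ R where
  nonempty := hne
  isCharacter := fun χ hχ => hS.isCharacter χ (hsub hχ)
  conj_mem := hconj
  conj_ne := fun χ hχ => hS.conj_ne χ (hsub hχ)
  isometry := lio_mono hS.isometry (zspanOn_mono hsub)
  map_one := fun α hα => hS.map_one α (zspanOn_mono hsub hα)
  orthogonal := fun χ hχ φ hφ h => hS.orthogonal χ (hsub hχ) φ (hsub hφ) h
  orthonormal := fun χ hχ => hS.orthonormal χ (hsub hχ)
  virtual := fun χ hχ => hS.virtual χ (hsub hχ)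
  sum_eq := fun χ hχ => hS.sum_eq χ (hsub hχ)
  disjoint := fun χ hχ φ hφ => hS.disjoint χ (hsub hχ) φ (hsub hφ)

/-- coherence passes to nonempty conjugation-closed subsets -/
theorem coherent_subset (hS : IsCoherenceSystem S τ R) {T S' : Set (L → ℂ)} (hT : T ⊆ S)
    (hsub : S' ⊆ T) (hne : S'.Nonempty) (hconj : ∀ χ ∈ S', conjFun χ ∈ S')
    (hcoh : IsCoherent T {1}ᶜ τ) : IsCoherent S' {1}ᶜ τ := by
  obtain ⟨-, τ₁, hτ₁, hagree⟩ := hcoh
  refine ⟨exists_nonzero_mem_zspanOn (subsystem hS (hsub.trans hT) hne hconj), τ₁,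
    lio_mono hτ₁ (zspan_mono hsub), fun α hα => hagree α (zspanOn_mono hsub hα)⟩

/-- all members of the same degree: coherent -/
theorem coherent_of_deg_eq (hS : IsCoherenceSystem S τ R) {S' : Set (L → ℂ)} (hsub : S' ⊆ S)
    (hne : S'.Nonempty) (hconj : ∀ χ ∈ S', conjFun χ ∈ S')
    (hdeg : ∀ φ ∈ S', ∀ ψ ∈ S', φ 1 = ψ 1) : IsCoherent S' {1}ᶜ τ :=
  Cfsg.Agent.S1517.result S' τ R (subsystem hS hsub hne hconj) hdeg

open Classical in
/-- Iterating the extension criterion: a coherent subset `S₀` can be enlarged by a conjugation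
closed set `U` all of whose members satisfy the numerical condition with respect to a fixed
`χ₁ ∈ S₀`. -/
theorem coherent_union (hS : IsCoherenceSystem S τ R) (S₀ U : Finset (L → ℂ))
    (hS₀ : (↑S₀ : Set (L → ℂ)) ⊆ S) (hS₀c : ∀ φ ∈ S₀, conjFun φ ∈ S₀)
    (hcoh : IsCoherent (↑S₀ : Set (L → ℂ)) {1}ᶜ τ)
    (hU : (↑U : Set (L → ℂ)) ⊆ S) (hUc : ∀ φ ∈ U, conjFun φ ∈ U)
    (χ₁ : L → ℂ) (hχ₁ : χ₁ ∈ S₀)
    (hnum : ∀ χ ∈ U, deg χ₁ ∣ deg χ ∧
      (2 * deg χ * deg χ₁ : ℝ) < ∑ φ ∈ S₀, ((deg φ : ℝ) ^ 2 / (nrm φ : ℝ))) :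
    IsCoherent (↑(S₀ ∪ U) : Set (L → ℂ)) {1}ᶜ τ := by
  have hd : ∀ φ ∈ S, φ 1 = (deg φ : ℂ) := fun φ hφ => deg_spec' (hS.isCharacter φ hφ)
  have hn : ∀ φ ∈ S, classInner φ φ = (nrm φ : ℂ) := fun φ hφ => nrm_spec (hS.isCharacter φ hφ)
  have key : ∀ k : ℕ, ∀ T : Finset (L → ℂ), S₀ ⊆ T → T ⊆ S₀ ∪ U → (∀ φ ∈ T, conjFun φ ∈ T) →
      IsCoherent (↑T : Set (L → ℂ)) {1}ᶜ τ → ((S₀ ∪ U) \ T).card = k →
      IsCoherent (↑(S₀ ∪ U) : Set (L → ℂ)) {1}ᶜ τ := by
    intro k
    induction k using Nat.strong_induction_on with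
    | _ k ih =>
      intro T hT0 hT1 hTc hTcoh hk
      by_cases hem : (S₀ ∪ U) \ T = ∅
      · have : S₀ ∪ U = T := by
          apply Finset.Subset.antisymm _ hT1
          exact Finset.sdiff_eq_empty_iff_subset.mp hem
        rw [this]; exact hTcoh
      · obtain ⟨χ, hχ⟩ := Finset.nonempty_iff_ne_empty.mpr hem
        rw [Finset.mem_sdiff] at hχ
        obtain ⟨hχSU, hχT⟩ := hχ
        have hχU : χ ∈ U := by
          rcases Finset.mem_union.mp hχSU with h | h
          · exact absurd (hT0 h) hχT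
          · exact h
        have hχS : χ ∈ S := hU hχU
        have hcχT : conjFun χ ∉ T := by
          intro h
          have := hTc _ h
          rw [conjFun_conjFun] at this
          exact hχT this
        have hTS : (↑T : Set (L → ℂ)) ⊆ S := by
          intro x hx
          rcases Finset.mem_union.mp (hT1 hx) with h | h
          · exact hS₀ h
          · exact hU h
        obtain ⟨hdvd, hlt⟩ := hnum χ hχU
        have hle : ∑ φ ∈ S₀, ((deg φ : ℝ) ^ 2 / (nrm φ : ℝ)) ≤
            ∑ φ ∈ T, ((deg φ : ℝ) ^ 2 / (nrm φ : ℝ)) := by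
          apply Finset.sum_le_sum_of_subset_of_nonneg hT0
          intro φ _ _
          positivity
        have hnew := Cfsg.Agent.S1516.result S τ R hS deg nrm hd hn T hTS hTc hTcoh χ hχS hχT hcχT
          χ₁ (hT0 hχ₁) hdvd (lt_of_lt_of_le hlt hle)
        set T' : Finset (L → ℂ) := insert χ (insert (conjFun χ) T) with hT'
        have hT'eq : (↑T' : Set (L → ℂ)) = ↑T ∪ {χ, conjFun χ} := by
          ext x
          simp only [hT', Finset.coe_insert, Set.mem_insert_iff, Finset.mem_coe, Set.mem_union,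
            Set.mem_singleton_iff]
          tauto
        rw [← hT'eq] at hnew
        have hT'0 : S₀ ⊆ T' := fun x hx =>
          Finset.mem_insert_of_mem (Finset.mem_insert_of_mem (hT0 hx))
        have hT'1 : T' ⊆ S₀ ∪ U := by
          intro x hx
          rw [hT', Finset.mem_insert, Finset.mem_insert] at hx
          rcases hx with rfl | rfl | hx
          · exact hχSU
          · exact Finset.mem_union_right _ (hUc _ hχU)
          · exact hT1 hx
        have hT'c : ∀ φ ∈ T', conjFun φ ∈ T' := by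
          intro φ hφ
          rw [hT', Finset.mem_insert, Finset.mem_insert] at hφ
          rcases hφ with rfl | rfl | hφ
          · exact Finset.mem_insert_of_mem (Finset.mem_insert_self _ _)
          · rw [conjFun_conjFun]; exact Finset.mem_insert_self _ _
          · exact Finset.mem_insert_of_mem (Finset.mem_insert_of_mem (hTc φ hφ))
        have hlt' : ((S₀ ∪ U) \ T').card < k := by
          rw [← hk]
          apply Finset.card_lt_card
          rw [Finset.ssubset_iff_of_subset]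
          · refine ⟨χ, Finset.mem_sdiff.mpr ⟨hχSU, hχT⟩, ?_⟩
            intro h
            exact (Finset.mem_sdiff.mp h).2 (Finset.mem_insert_self _ _)
          · intro x hx
            rw [Finset.mem_sdiff] at hx ⊢
            exact ⟨hx.1, fun h => hx.2
              (Finset.mem_insert_of_mem (Finset.mem_insert_of_mem h))⟩
        exact ih _ hlt' T' hT'0 hT'1 hT'c hnew rfl
  exact key _ S₀ (le_refl _) Finset.subset_union_left hS₀c hcoh rfl

end General

end Cfsg.Agent.Lib.Helper4.PF6
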