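import Mathlib
import Cfsg.Agent.Lib.Helper4.PF6a
import Cfsg.Agent.Lib.Helper4.IndNormal
import Cfsg.Agent.Lib.Helper4.FrobTI4
import Cfsg.Agent.S0148

set_option autoImplicit false
set_option linter.unusedSectionVars false
set_option maxHeartbeats 800000

/-!
# Peterfalvi, Section 6: the sets `S(A)` of induced characters
-/

namespace Cfsg.Agent.Lib.Helper4.PF6

open Cfsg Cfsg.Agent.Lib.Helper1 Cfsg.Agent.Lib.Helper4 Cfsg.Agent.Lib.Helper4.Coh
open Cfsg.Agent.Lib.Helper4.FrobTI
open scoped ComplexConjugate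

section Basic

variable {L : Type*} [Group L] [Fintype L]

/-- the nonprincipal irreducible characters of `K` trivial on `A` -/
def ThetaSet (K A : Subgroup L) : Set (K → ℂ) :=
  {θ | IsIrrCharacter K θ ∧ θ ≠ (fun _ => 1) ∧ ∀ a : K, (a : L) ∈ A → θ a = θ 1}

theorem mem_induced_iff {K A : Subgroup L} {φ : L → ℂ} :
    φ ∈ inducedIrrAbove K A ↔ ∃ θ ∈ ThetaSet K A, φ = indFun K θ := by
  constructor
  · rintro ⟨θ, h1, h2, h3, h4⟩
    exact ⟨θ, ⟨h1, h2, h3⟩, h4⟩
  · rintro ⟨θ, ⟨h1, h2, h3⟩, h4⟩
    exact ⟨θ, h1, h2, h3, h4⟩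

theorem thetaSet_finite (K A : Subgroup L) : (ThetaSet K A).Finite := by
  have h1 : (Set.range (Subtype.val : IrrCharacter K → (K → ℂ))).Finite := Set.finite_range _
  apply h1.subset
  rintro θ ⟨h, -, -⟩
  exact ⟨⟨θ, h⟩, rfl⟩

theorem thetaSet_mono (K : Subgroup L) {A A' : Subgroup L} (h : A ≤ A') :
    ThetaSet K A' ⊆ ThetaSet K A :=
  fun _ hθ => ⟨hθ.1, hθ.2.1, fun a ha => hθ.2.2 a (h ha)⟩

theorem induced_mono (K : Subgroup L) {A A' : Subgroup L} (h : A ≤ A') :
    inducedIrrAbove K A' ⊆ inducedIrrAbove K A := by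
  intro φ hφ
  obtain ⟨θ, hθ, rfl⟩ := mem_induced_iff.mp hφ
  exact mem_induced_iff.mpr ⟨θ, thetaSet_mono K h hθ, rfl⟩

theorem induced_finite (K A : Subgroup L) : (inducedIrrAbove K A).Finite := by
  have : inducedIrrAbove K A = (fun θ => indFun K θ) '' ThetaSet K A := by
    ext φ
    rw [mem_induced_iff, Set.mem_image]
    constructor
    · rintro ⟨θ, h1, h2⟩; exact ⟨θ, h1, h2.symm⟩
    · rintro ⟨θ, h1, h2⟩; exact ⟨θ, h1, h2.symm⟩
  rw [this]
  exact (thetaSet_finite K A).image _

theorem conjFun_mem_thetaSet {K A : Subgroup L} {θ : K → ℂ} (hθ : θ ∈ ThetaSet K A) :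
    conjFun θ ∈ ThetaSet K A := by
  haveI : Fintype K := Fintype.ofFinite _
  refine ⟨isIrrCharacter_conj hθ.1, ?_, ?_⟩
  · intro h
    apply hθ.2.1
    have := congrArg conjFun h
    rw [conjFun_conjFun] at this
    rw [this]
    funext x
    simp [conjFun_apply]
  · intro a ha
    rw [conjFun_apply, conjFun_apply, hθ.2.2 a ha]

theorem conjFun_mem_induced {K A : Subgroup L} {φ : L → ℂ} (hφ : φ ∈ inducedIrrAbove K A) :
    conjFun φ ∈ inducedIrrAbove K A := by
  obtain ⟨θ, hθ, rfl⟩ := mem_induced_iff.mp hφ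
  exact mem_induced_iff.mpr ⟨conjFun θ, conjFun_mem_thetaSet hθ, conjFun_indFun' K θ⟩

theorem indFun_one_index (K : Subgroup L) (θ : K → ℂ) :
    indFun K θ 1 = (K.index : ℂ) * θ 1 := by
  rw [Cfsg.Agent.S0170.indFun_one, ← mul_assoc]
  congr 1
  have h := K.index_mul_card
  have hK : (Nat.card K : ℂ) ≠ 0 := Nat.cast_ne_zero.mpr Nat.card_pos.ne'
  rw [← h]
  push_cast
  field_simp

theorem induced_isCharacter {K : Subgroup L} {θ : K → ℂ} (hθ : IsIrrCharacter K θ) :
    IsCharacter L (indFun K θ) := by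
  haveI : Fintype K := Fintype.ofFinite _
  exact Cfsg.Agent.S0148.result _ _ (isCharacter_of_irr hθ)

open Classical in
/-- the natural number equal to a complex number, if any -/
noncomputable def natOf (z : ℂ) : ℕ :=
  if h : ∃ n : ℕ, z = n then h.choose else 0

/-- the degree of a function on any group, as a natural number -/
noncomputable def dg {X : Type*} [One X] (f : X → ℂ) : ℕ := natOf (f 1)

theorem dg_spec {X : Type*} [Group X] [Finite X] {θ : X → ℂ} (hθ : IsIrrCharacter X θ) :
    θ 1 = (dg θ : ℂ) := by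
  haveI : Fintype X := Fintype.ofFinite _
  obtain ⟨n, -, hn⟩ := irr_apply_one_pos hθ
  have h' : ∃ n : ℕ, θ 1 = n := ⟨n, hn⟩
  unfold dg natOf
  rw [dif_pos h']
  exact h'.choose_spec

theorem dg_pos {X : Type*} [Group X] [Finite X] {θ : X → ℂ} (hθ : IsIrrCharacter X θ) :
    0 < dg θ := by
  haveI : Fintype X := Fintype.ofFinite _
  rcases Nat.eq_zero_or_pos (dg θ) with h0 | h0
  · exfalso
    apply irr_apply_one_ne_zero hθ
    rw [dg_spec hθ, h0, Nat.cast_zero]
  · exact h0

theorem deg_induced {K : Subgroup L} {θ : K → ℂ} (hθ : IsIrrCharacter K θ) :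
    deg (indFun K θ) = K.index * dg θ := by
  have h1 := deg_spec' (induced_isCharacter hθ)
  have h2 := dg_spec hθ
  rw [indFun_one_index, h2] at h1
  exact_mod_cast h1.symm

end Basic

section Normal

variable {L : Type*} [Group L] [Fintype L] {K : Subgroup L} [hK : K.Normal]

theorem conjFn_mem_thetaSet {A : Subgroup L} [hA : A.Normal] {θ : K → ℂ}
    (hθ : θ ∈ ThetaSet K A) (g : L) : conjFn K θ g ∈ ThetaSet K A := by
  have hone : conjFn K θ g 1 = θ 1 := by
    rw [conjFn_apply]
    congr 1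
    apply Subtype.ext
    simp
  refine ⟨isIrrCharacter_conjFn K hθ.1 g, ?_, ?_⟩
  · intro h
    apply hθ.2.1
    have h2 : conjFn K (conjFn K θ g) g⁻¹ = θ := by
      rw [← conjFn_mul, mul_inv_cancel, conjFn_one]
    rw [← h2, h]
    funext x
    rfl
  · intro a ha
    rw [hone, conjFn_apply]
    have := hθ.2.2 ⟨g * a * g⁻¹, hK.conj_mem a a.2 g⟩ (hA.conj_mem a ha g)
    exact this

theorem conjFn_apply_one (θ : K → ℂ) (g : L) : conjFn K θ g 1 = θ 1 := by
  rw [conjFn_apply]
  congr 1
  apply Subtype.ext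
  simp

open Classical in
/-- the inner product of two functions induced from irreducible characters of a normal
subgroup -/
theorem inner_induced {θ θ' : K → ℂ} (hθ : IsIrrCharacter K θ) (hθ' : IsIrrCharacter K θ') :
    classInner (indFun K θ') (indFun K θ) =
      (Nat.card K : ℂ)⁻¹ * ((Finset.univ.filter (fun g : L => conjFn K θ g = θ')).card : ℂ) := by
  have : Fintype K := Fintype.ofFinite _
  rw [classInner_indFun_normal]
  congr 1
  rw [Finset.card_filter, Nat.cast_sum]
  refine Finset.sum_congr rfl fun g _ => ?_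
  rw [classInner_irr hθ' (isIrrCharacter_conjFn K hθ g)]
  by_cases h : conjFn K θ g = θ'
  · rw [if_pos h, if_pos h.symm]; simp
  · rw [if_neg h, if_neg (Ne.symm h)]; simp

/-- two induced functions coincide iff the characters are conjugate -/
theorem induced_eq_iff {θ θ' : K → ℂ} (hθ : IsIrrCharacter K θ) (hθ' : IsIrrCharacter K θ') :
    indFun K θ' = indFun K θ ↔ ∃ g : L, conjFn K θ g = θ' := by
  classical
  constructor
  · intro h
    by_contra hne
    push Not at hne
    have h1 := inner_induced hθ hθ'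
    rw [h] at h1
    have h2 : (Finset.univ.filter (fun g : L => conjFn K θ g = θ')) = ∅ := by
      apply Finset.filter_eq_empty_iff.mpr
      intro g _
      exact hne g
    rw [h2, Finset.card_empty, Nat.cast_zero, mul_zero] at h1
    have h3 := eq_zero_of_classInner_self h1
    have h4 := congrFun h3 1
    rw [indFun_one_index] at h4
    have h5 : (K.index : ℂ) ≠ 0 := Nat.cast_ne_zero.mpr Subgroup.index_ne_zero_of_finite
    rcases mul_eq_zero.mp h4 with h6 | h6
    · exact h5 h6
    · exact irr_apply_one_ne_zero hθ h6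
  · rintro ⟨g, rfl⟩
    exact indFun_conjFn K θ g

open Classical in
/-- the norm of an induced character times the number of conjugates is the index -/
theorem nrm_mul_card_conj {θ : K → ℂ} (hθ : IsIrrCharacter K θ) :
    nrm (indFun K θ) * (Finset.univ.image (fun g : L => conjFn K θ g)).card = K.index := by
  have h1 := inner_induced hθ hθ
  rw [nrm_spec (induced_isCharacter hθ)] at h1
  set s := (Finset.univ.filter (fun g : L => conjFn K θ g = θ)).card with hs
  -- all fibres have the same size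
  have hfib : ∀ θ' ∈ Finset.univ.image (fun g : L => conjFn K θ g),
      (Finset.univ.filter (fun g : L => conjFn K θ g = θ')).card = s := by
    intro θ' hθ'
    obtain ⟨g₀, -, rfl⟩ := Finset.mem_image.mp hθ'
    have e1 := card_fiber_conjFn K θ g₀
    have e2 := card_fiber_conjFn K θ 1
    rw [Nat.card_eq_fintype_card, Fintype.card_subtype] at e1 e2
    rw [hs, e1]
    rw [conjFn_one] at e2
    rw [e2]
  have h2 := Finset.card_eq_sum_card_image (fun g : L => conjFn K θ g) Finset.univ
  rw [Finset.sum_congr rfl hfib, Finset.sum_const, smul_eq_mul, Finset.card_univ] at h2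
  -- nrm * |K| = s
  have hKpos : 0 < Nat.card K := Nat.card_pos
  have h3 : nrm (indFun K θ) * Nat.card K = s := by
    have hK0 : (Nat.card K : ℂ) ≠ 0 := Nat.cast_ne_zero.mpr hKpos.ne'
    have : ((nrm (indFun K θ) * Nat.card K : ℕ) : ℂ) = (s : ℂ) := by
      push_cast
      rw [h1]
      field_simp
    exact_mod_cast this
  have h4 := K.index_mul_card
  rw [← Nat.card_eq_fintype_card] at h2
  apply Nat.eq_of_mul_eq_mul_right hKpos
  rw [h4, h2, ← h3]
  ring

end Normal

end Cfsg.Agent.Lib.Helper4.PF6
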