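import Mathlib
import Cfsg.Agent.Lib.Helper4.PF6b
import Cfsg.Agent.Lib.Helper2.TIFN
import Cfsg.Agent.Lib.Helper8.Deflation

set_option autoImplicit false
set_option linter.unusedSectionVars false
set_option maxHeartbeats 1600000

/-!
# Peterfalvi, Section 6: the sum of `d² / n` over `S(A)`
-/

namespace Cfsg.Agent.Lib.Helper4.PF6

open Cfsg Cfsg.Agent.Lib.Helper1 Cfsg.Agent.Lib.Helper4 Cfsg.Agent.Lib.Helper4.Coh
open Cfsg.Agent.Lib.Helper4.FrobTI
open scoped ComplexConjugate

theorem dg_congr {X Y : Type*} [One X] [One Y] {f : X → ℂ} {g : Y → ℂ} (h : f 1 = g 1) :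
    dg f = dg g := by
  unfold dg
  rw [h]

section Sum

variable {L : Type*} [Group L] [Fintype L] {K : Subgroup L} [hK : K.Normal] {A : Subgroup L}
  [hA : A.Normal]

open Classical in
theorem sum_induced :
    ∑ φ ∈ (induced_finite K A).toFinset, ((deg φ : ℝ) ^ 2 / (nrm φ : ℝ)) =
      (K.index : ℝ) * ∑ θ ∈ (thetaSet_finite K A).toFinset, ((dg θ : ℝ)) ^ 2 := by
  have himg : (induced_finite K A).toFinset =
      (thetaSet_finite K A).toFinset.image (fun θ => indFun K θ) := by
    ext φ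
    rw [Set.Finite.mem_toFinset, mem_induced_iff, Finset.mem_image]
    constructor
    · rintro ⟨θ, h1, h2⟩
      exact ⟨θ, (Set.Finite.mem_toFinset _).mpr h1, h2.symm⟩
    · rintro ⟨θ, h1, h2⟩
      exact ⟨θ, (Set.Finite.mem_toFinset _).mp h1, h2.symm⟩
  rw [himg, Finset.mul_sum]
  apply Finset.sum_image'
  intro θ hθ
  rw [Set.Finite.mem_toFinset] at hθ
  have hirr := hθ.1
  -- the fibre is the set of conjugates
  have hfib : (thetaSet_finite K A).toFinset.filter (fun θ' => indFun K θ' = indFun K θ) =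
      Finset.univ.image (fun g : L => conjFn K θ g) := by
    ext θ'
    rw [Finset.mem_filter, Set.Finite.mem_toFinset, Finset.mem_image]
    constructor
    · rintro ⟨h1, h2⟩
      obtain ⟨g, hg⟩ := (induced_eq_iff hirr h1.1).mp h2
      exact ⟨g, Finset.mem_univ _, hg⟩
    · rintro ⟨g, -, rfl⟩
      exact ⟨conjFn_mem_thetaSet hθ g, indFun_conjFn K θ g⟩
  rw [hfib]
  have hdeg : ∀ θ' ∈ Finset.univ.image (fun g : L => conjFn K θ g),
      (K.index : ℝ) * (dg θ' : ℝ) ^ 2 = (K.index : ℝ) * (dg θ : ℝ) ^ 2 := by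
    intro θ' hθ'
    obtain ⟨g, -, rfl⟩ := Finset.mem_image.mp hθ'
    rw [dg_congr (conjFn_apply_one θ g)]
  rw [Finset.sum_congr rfl hdeg, Finset.sum_const, nsmul_eq_mul]
  have h1 := nrm_mul_card_conj (L := L) hirr
  have h2 := deg_induced (L := L) hirr
  rw [h2]
  have hcard : (0 : ℝ) < ((Finset.univ.image (fun g : L => conjFn K θ g)).card : ℝ) := by
    have : (Finset.univ.image (fun g : L => conjFn K θ g)).Nonempty :=
      ⟨conjFn K θ 1, Finset.mem_image.mpr ⟨1, Finset.mem_univ _, rfl⟩⟩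
    exact_mod_cast Finset.card_pos.mpr this
  have hidx : (0 : ℝ) < (K.index : ℝ) := by
    exact_mod_cast Nat.pos_of_ne_zero Subgroup.index_ne_zero_of_finite
  have h1' : (nrm (indFun K θ) : ℝ) *
      ((Finset.univ.image (fun g : L => conjFn K θ g)).card : ℝ) = (K.index : ℝ) := by
    exact_mod_cast h1
  have hn : (0 : ℝ) < (nrm (indFun K θ) : ℝ) := by
    by_contra hcon
    push Not at hcon
    have : (nrm (indFun K θ) : ℝ) *
      ((Finset.univ.image (fun g : L => conjFn K θ g)).card : ℝ) ≤ 0 :=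
      mul_nonpos_of_nonpos_of_nonneg hcon hcard.le
    linarith
  push_cast
  rw [div_eq_iff hn.ne']
  rw [← h1']
  ring

open Classical in
theorem sum_theta (hAK : A ≤ K) :
    ∑ θ ∈ (thetaSet_finite K A).toFinset, (dg θ) ^ 2 + 1 = A.relIndex K := by
  have : Fintype K := Fintype.ofFinite _
  have hAn : (A.subgroupOf K).Normal := hA.subgroupOf K
  set Q := K ⧸ A.subgroupOf K with hQ
  have : Fintype Q := Fintype.ofFinite _
  have : Fintype (IrrCharacter Q) := Fintype.ofFinite _
  let infl : IrrCharacter Q → (K → ℂ) := fun ψ k => ψ.1 (QuotientGroup.mk k)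
  have hinj : Function.Injective infl := by
    intro ψ ψ' h
    apply Subtype.ext
    funext q
    induction q using QuotientGroup.induction_on with
    | H k => exact congrFun h k
  have hone : ∀ ψ : IrrCharacter Q, infl ψ 1 = ψ.1 1 := fun ψ => rfl
  have h1irr : IsIrrCharacter K (fun _ => (1 : ℂ)) := one_irr K
  have himg : Finset.univ.image infl =
      insert (fun _ => (1 : ℂ)) (thetaSet_finite K A).toFinset := by
    ext θ
    rw [Finset.mem_image, Finset.mem_insert, Set.Finite.mem_toFinset]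
    constructor
    · rintro ⟨ψ, -, rfl⟩
      by_cases h1 : infl ψ = fun _ => (1 : ℂ)
      · exact Or.inl h1
      · right
        refine ⟨Cfsg.Agent.Lib.Helper8.isIrrCharacter_inflation (A.subgroupOf K) ψ.2, h1, ?_⟩
        intro a ha
        have hq : (QuotientGroup.mk a : Q) = 1 :=
          (QuotientGroup.eq_one_iff a).mpr (Subgroup.mem_subgroupOf.mpr ha)
        show ψ.1 (QuotientGroup.mk a) = ψ.1 (QuotientGroup.mk 1)
        rw [hq, QuotientGroup.mk_one]
    · rintro (rfl | hθ)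
      · obtain ⟨ψ, hψ, hψ'⟩ := Cfsg.Agent.Lib.Helper8.exists_deflation (A.subgroupOf K) h1irr
          (fun _ _ => rfl)
        exact ⟨⟨ψ, hψ⟩, Finset.mem_univ _, funext hψ'⟩
      · obtain ⟨ψ, hψ, hψ'⟩ := Cfsg.Agent.Lib.Helper8.exists_deflation (A.subgroupOf K) hθ.1
          (fun g hg => hθ.2.2 g (Subgroup.mem_subgroupOf.mp hg))
        exact ⟨⟨ψ, hψ⟩, Finset.mem_univ _, funext hψ'⟩
  have hnot : (fun _ => (1 : ℂ)) ∉ (thetaSet_finite K A).toFinset := by
    rw [Set.Finite.mem_toFinset]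
    intro h
    exact h.2.1 rfl
  have hsq := Cfsg.Agent.Lib.Helper2.TIFN.sum_sq_degrees (L := Q) (fun ψ => dg ψ.1)
    (fun ψ => dg_spec ψ.2)
  have h2 : ∑ θ ∈ Finset.univ.image infl, (dg θ) ^ 2 = ∑ ψ : IrrCharacter Q, dg ψ.1 * dg ψ.1 := by
    rw [Finset.sum_image (fun x _ y _ h => hinj h)]
    refine Finset.sum_congr rfl fun ψ _ => ?_
    rw [dg_congr (hone ψ), sq]
  rw [himg, Finset.sum_insert hnot, hsq] at h2
  have h3 : dg (fun _ : K => (1 : ℂ)) = 1 := by
    have := dg_spec h1irr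
    have h4 : ((1 : ℕ) : ℂ) = (dg (fun _ : K => (1 : ℂ)) : ℂ) := by
      rw [← this]; simp
    exact_mod_cast h4.symm
  rw [h3] at h2
  have h5 : Nat.card Q = A.relIndex K := by
    rw [hQ, ← Subgroup.index_eq_card]
    rfl
  rw [← h5, ← h2]
  ring

end Sum

end Cfsg.Agent.Lib.Helper4.PF6
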