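import Mathlib
import Cfsg.Agent.Lib.Helper4.PF6c
import Cfsg.Agent.Lib.Helper4.FrobTI2
import Cfsg.Agent.S1492

set_option autoImplicit false
set_option linter.unusedSectionVars false
set_option maxHeartbeats 1600000

/-!
# Peterfalvi (6.4): the central step
-/

namespace Cfsg.Agent.Lib.Helper4.PF6

open Cfsg Cfsg.Agent.Lib.Helper1 Cfsg.Agent.Lib.Helper4 Cfsg.Agent.Lib.Helper4.Coh
open Cfsg.Agent.Lib.Helper4.FrobTI
open scoped ComplexConjugate

section Linear

/-- a nontrivial finite solvable group has a nonprincipal linear character -/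
theorem lin_nonempty_of_solvable (Q : Type*) [Group Q] [Finite Q] [Group.IsSolvable Q] [Nontrivial Q] :
    (Lin Q).Nonempty := by
  by_contra hne
  rw [Set.not_nonempty_iff_eq_empty] at hne
  have h1 := ncard_lin (K := Q)
  rw [hne, Set.ncard_empty] at h1
  have h2 : commutator Q = ⊤ := by
    have h3 : (commutator Q).index = 1 := by
      rw [Subgroup.index_eq_card]
      exact h1.symm
    exact Subgroup.index_eq_one.mp h3
  have h4 := IsSolvable.commutator_lt_top_of_nontrivial Q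
  rw [h2] at h4
  exact lt_irrefl _ h4

variable {L : Type*} [Group L] [Fintype L] {K : Subgroup L} {A : Subgroup L} [hA : A.Normal]

/-- if `K` is solvable and `A < K` then some linear character of `K` lies in `ThetaSet K A` -/
theorem exists_linear_theta (hsolv : Group.IsSolvable K) (hAK : A < K) :
    ∃ θ ∈ ThetaSet K A, dg θ = 1 := by
  have hAn : (A.subgroupOf K).Normal := hA.subgroupOf K
  have hne : A.subgroupOf K ≠ ⊤ := by
    intro h
    rw [Subgroup.subgroupOf_eq_top] at h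
    exact (not_le_of_gt hAK) h
  have hnt : Nontrivial (K ⧸ A.subgroupOf K) := by
    rw [← Finite.one_lt_card_iff_nontrivial, ← Subgroup.index_eq_card]
    have h1 : (A.subgroupOf K).index ≠ 1 := fun h => hne (Subgroup.index_eq_one.mp h)
    have h2 : (A.subgroupOf K).index ≠ 0 := Subgroup.index_ne_zero_of_finite
    omega
  obtain ⟨ψ, hψirr, hψ1, hψne⟩ := lin_nonempty_of_solvable (K ⧸ A.subgroupOf K)
  refine ⟨fun k => ψ (QuotientGroup.mk k),
    ⟨Cfsg.Agent.Lib.Helper8.isIrrCharacter_inflation (A.subgroupOf K) hψirr, ?_, ?_⟩, ?_⟩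
  · intro h
    apply hψne
    funext q
    induction q using QuotientGroup.induction_on with
    | H k => exact congrFun h k
  · intro a ha
    have hq : (QuotientGroup.mk a : K ⧸ A.subgroupOf K) = 1 :=
      (QuotientGroup.eq_one_iff a).mpr (Subgroup.mem_subgroupOf.mpr ha)
    show ψ (QuotientGroup.mk a) = ψ (QuotientGroup.mk 1)
    rw [hq, QuotientGroup.mk_one]
  · have h1 : (fun k : K => ψ (QuotientGroup.mk k)) 1 = ((1 : ℕ) : ℂ) := by
      show ψ (QuotientGroup.mk 1) = _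
      rw [QuotientGroup.mk_one, hψ1]; simp
    have h2 := dg_spec
      (Cfsg.Agent.Lib.Helper8.isIrrCharacter_inflation (A.subgroupOf K) hψirr)
    have h3 : ((1 : ℕ) : ℂ) = (dg (fun k : K => ψ (QuotientGroup.mk k)) : ℂ) := h1.symm.trans h2
    exact_mod_cast h3.symm

theorem induced_nonempty (hsolv : Group.IsSolvable K) (hAK : A < K) :
    (inducedIrrAbove K A).Nonempty := by
  obtain ⟨θ, hθ, -⟩ := exists_linear_theta hsolv hAK
  exact ⟨indFun K θ, mem_induced_iff.mpr ⟨θ, hθ, rfl⟩⟩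

end Linear

section Bound

variable {L : Type*} [Group L] [Fintype L] {K : Subgroup L}

/-- the degree bound for characters trivial on `B` when `D / B` is central in `C / B` -/
theorem degree_bound {B C D : Subgroup L} [hB : B.Normal] (hBD : B ≤ D) (hDC : D ≤ C) (hCK : C ≤ K)
    (hcent : ∀ x ∈ D, ∀ y ∈ C, x * y * x⁻¹ * y⁻¹ ∈ B) {θ : K → ℂ} (hθ : θ ∈ ThetaSet K B) :
    (2 * K.index * dg θ) ^ 2 ≤ 4 * C.index ^ 2 * D.relIndex C := by
  have h1 := Cfsg.Agent.S1492.result θ hθ.1 (B.subgroupOf K) (C.subgroupOf K) (D.subgroupOf K)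
    (fun x hx => hBD hx) (fun x hx => hDC hx)
    (fun c _ b hb => by
      rw [Subgroup.mem_subgroupOf] at hb ⊢
      exact hB.conj_mem _ hb _)
    (fun d hd c hc => by
      rw [Subgroup.mem_subgroupOf] at hd hc ⊢
      exact hcent _ hd _ hc)
    (fun b hb => hθ.2.2 b (Subgroup.mem_subgroupOf.mp hb))
  have hcC : Nat.card (C.subgroupOf K) = Nat.card C :=
    Nat.card_congr (Subgroup.subgroupOfEquivOfLe hCK).toEquiv
  have hcD : Nat.card (D.subgroupOf K) = Nat.card D :=
    Nat.card_congr (Subgroup.subgroupOfEquivOfLe (hDC.trans hCK)).toEquiv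
  rw [hcC, hcD, dg_spec hθ.1] at h1
  have h2 : ‖((dg θ : ℕ) : ℂ)‖ = (dg θ : ℝ) := by
    rw [Complex.norm_natCast]
  rw [h2] at h1
  have h3 : (dg θ) ^ 2 * Nat.card C * Nat.card D ≤ (Nat.card K) ^ 2 := by exact_mod_cast h1
  -- indices
  have e1 := K.index_mul_card
  have e2 := C.index_mul_card
  have e3 : D.relIndex C * Nat.card D = Nat.card C := by
    have := (D.subgroupOf C).index_mul_card
    rw [Nat.card_congr (Subgroup.subgroupOfEquivOfLe hDC).toEquiv] at this
    exact this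
  have hCpos : 0 < Nat.card C := Nat.card_pos
  have hDpos : 0 < Nat.card D := Nat.card_pos
  have hpos : 0 < Nat.card C * Nat.card D := Nat.mul_pos hCpos hDpos
  apply Nat.le_of_mul_le_mul_right _ hpos
  calc (2 * K.index * dg θ) ^ 2 * (Nat.card C * Nat.card D)
      = 4 * K.index ^ 2 * ((dg θ) ^ 2 * Nat.card C * Nat.card D) := by ring
    _ ≤ 4 * K.index ^ 2 * (Nat.card K) ^ 2 := Nat.mul_le_mul_left _ h3
    _ = 4 * (K.index * Nat.card K) ^ 2 := by ring
    _ = 4 * (C.index * Nat.card C) ^ 2 := by rw [e1, e2]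
    _ = 4 * C.index ^ 2 * (D.relIndex C * Nat.card D) * Nat.card C := by rw [e3]; ring
    _ = 4 * C.index ^ 2 * D.relIndex C * (Nat.card C * Nat.card D) := by ring

end Bound

section Main

variable {L : Type*} [Group L] [Fintype L] {G : Type*} [Group G] [Fintype G]

open Classical in
theorem central_step (K : Subgroup L) [hK : K.Normal] (hsolv : Group.IsSolvable K)
    (τ : (L → ℂ) → (G → ℂ)) (R : (L → ℂ) → Finset (G → ℂ))
    (hS : IsCoherenceSystem (inducedIrrAbove K ⊥) τ R) (A B C D : Subgroup L) [A.Normal]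
    [B.Normal] (hAK : A < K) (hBK : B < K) (hBD : B ≤ D) (hDC : D ≤ C) (hCK : C ≤ K)
    (hcent : ∀ x ∈ D, ∀ y ∈ C, x * y * x⁻¹ * y⁻¹ ∈ B)
    (hA : IsCoherent (inducedIrrAbove K A) {1}ᶜ τ)
    (hlt : 4 * C.index ^ 2 * D.relIndex C < (A.relIndex K - 1) ^ 2) :
    IsCoherent (inducedIrrAbove K B) {1}ᶜ τ := by
  set S₀ := (induced_finite K A).toFinset with hS₀
  set U := (induced_finite K B).toFinset with hU
  have hS₀eq : (↑S₀ : Set (L → ℂ)) = inducedIrrAbove K A := Set.Finite.coe_toFinset _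
  have hUeq : (↑U : Set (L → ℂ)) = inducedIrrAbove K B := Set.Finite.coe_toFinset _
  have hS₀S : (↑S₀ : Set (L → ℂ)) ⊆ inducedIrrAbove K ⊥ := by
    rw [hS₀eq]; exact induced_mono K bot_le
  have hUS : (↑U : Set (L → ℂ)) ⊆ inducedIrrAbove K ⊥ := by
    rw [hUeq]; exact induced_mono K bot_le
  have hS₀c : ∀ φ ∈ S₀, conjFun φ ∈ S₀ := by
    intro φ hφ
    rw [hS₀, Set.Finite.mem_toFinset] at hφ ⊢
    exact conjFun_mem_induced hφ
  have hUc : ∀ φ ∈ U, conjFun φ ∈ U := by
    intro φ hφ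
    rw [hU, Set.Finite.mem_toFinset] at hφ ⊢
    exact conjFun_mem_induced hφ
  obtain ⟨θ₁, hθ₁, hdg₁⟩ := exists_linear_theta hsolv hAK
  have hχ₁ : indFun K θ₁ ∈ S₀ := by
    rw [hS₀, Set.Finite.mem_toFinset]
    exact mem_induced_iff.mpr ⟨θ₁, hθ₁, rfl⟩
  have hdeg₁ : deg (indFun K θ₁) = K.index := by
    rw [deg_induced hθ₁.1, hdg₁, mul_one]
  have hsum : ∑ φ ∈ S₀, ((deg φ : ℝ) ^ 2 / (nrm φ : ℝ)) =
      (K.index : ℝ) * ((A.relIndex K : ℝ) - 1) := by
    rw [hS₀, sum_induced]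
    congr 1
    have h1 := sum_theta (K := K) (A := A) hAK.le
    have h2 : ((∑ θ ∈ (thetaSet_finite K A).toFinset, (dg θ) ^ 2 + 1 : ℕ) : ℝ) =
        (A.relIndex K : ℝ) := by rw [h1]
    push_cast at h2
    linarith
  have hcoh0 : IsCoherent (↑S₀ : Set (L → ℂ)) {1}ᶜ τ := by rw [hS₀eq]; exact hA
  have hmain := coherent_union hS S₀ U hS₀S hS₀c hcoh0 hUS hUc (indFun K θ₁) hχ₁ (by
    intro χ hχ
    rw [hU, Set.Finite.mem_toFinset] at hχ
    obtain ⟨θ', hθ', rfl⟩ := mem_induced_iff.mp hχ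
    rw [hdeg₁, deg_induced hθ'.1]
    refine ⟨Dvd.intro _ rfl, ?_⟩
    rw [hsum]
    have hb := degree_bound (K := K) hBD hDC hCK hcent hθ'
    have hb2 : (2 * K.index * dg θ') ^ 2 < (A.relIndex K - 1) ^ 2 := lt_of_le_of_lt hb hlt
    have hb3 : 2 * K.index * dg θ' < A.relIndex K - 1 :=
      lt_of_pow_lt_pow_left₀ 2 (Nat.zero_le _) hb2
    have hr1 : 1 ≤ A.relIndex K := by omega
    have hb4 : ((2 * K.index * dg θ' : ℕ) : ℝ) < ((A.relIndex K - 1 : ℕ) : ℝ) := by
      exact_mod_cast hb3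
    rw [Nat.cast_sub hr1] at hb4
    push_cast at hb4 ⊢
    have hidx : (0 : ℝ) < (K.index : ℝ) := by
      exact_mod_cast Nat.pos_of_ne_zero Subgroup.index_ne_zero_of_finite
    nlinarith)
  apply coherent_subset hS (T := ↑(S₀ ∪ U)) _ _ (induced_nonempty hsolv hBK)
    (fun χ hχ => conjFun_mem_induced hχ) hmain
  · intro x hx
    rw [Finset.coe_union] at hx
    rcases hx with h | h
    · exact hS₀S h
    · exact hUS h
  · intro x hx
    rw [Finset.coe_union, hUeq]
    exact Or.inr hx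

end Main

end Cfsg.Agent.Lib.Helper4.PF6
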