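import Mathlib
import Cfsg.Agent.Lib.Helper4.PF6d

set_option autoImplicit false
set_option linter.unusedSectionVars false
set_option maxHeartbeats 1600000

/-!
# Peterfalvi (6.5): descending along a nilpotent section
-/

namespace Cfsg.Agent.Lib.Helper4.PF6

open Cfsg Cfsg.Agent.Lib.Helper1 Cfsg.Agent.Lib.Helper4 Cfsg.Agent.Lib.Helper4.Coh
open scoped ComplexConjugate

theorem eq_bot_of_le_commutator_top {X : Type*} [Group X] [hX : Group.IsNilpotent X]
    (N : Subgroup X) (h : N ≤ ⁅N, (⊤ : Subgroup X)⁆) : N = ⊥ := by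
  obtain ⟨n, hn⟩ := Subgroup.nilpotent_iff_lowerCentralSeries.mp hX
  have key : ∀ k, N ≤ (⊤ : Subgroup X).lowerCentralSeries k := by
    intro k
    induction k with
    | zero => exact le_top
    | succ k ih =>
      rw [Subgroup.lowerCentralSeries_succ]
      exact h.trans (Subgroup.commutator_mono ih le_rfl)
  rw [eq_bot_iff, ← hn]
  exact key n

theorem arith_65 (e k h : ℕ) (hk : 1 ≤ k) (hh : 4 * e ^ 2 + 1 < h) :
    4 * (e * k) ^ 2 * h < (h * k - 1) ^ 2 := by
  have h1 : 1 ≤ h * k := Nat.one_le_iff_ne_zero.mpr (Nat.mul_ne_zero (by omega) (by omega))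
  zify [h1]
  have hk' : (1 : ℤ) ≤ k := by exact_mod_cast hk
  have hh' : (4 : ℤ) * e ^ 2 + 2 ≤ h := by exact_mod_cast hh
  have h2 : (0 : ℤ) ≤ (k : ℤ) ^ 2 * h := by positivity
  have h3 : (k : ℤ) * h ≤ (k : ℤ) ^ 2 * h := by nlinarith
  nlinarith [mul_le_mul_of_nonneg_right hh' h2]

section Main

variable {L : Type*} [Group L] [Fintype L] {G : Type*} [Group G] [Fintype G]

theorem nilpotent_descent (K : Subgroup L) [hK : K.Normal] (hsolv : Group.IsSolvable K)
    (τ : (L → ℂ) → (G → ℂ)) (R : (L → ℂ) → Finset (G → ℂ))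
    (hS : IsCoherenceSystem (inducedIrrAbove K ⊥) τ R) (M H₁ H : Subgroup L) [hMn : M.Normal]
    [hH₁n : H₁.Normal] [hHn : H.Normal] (hMH₁ : M ≤ H₁) (hH₁H : H₁ ≤ H) (hHK : H ≤ K)
    [hMHn : (M.subgroupOf H).Normal] (hnil : Group.IsNilpotent (↥H ⧸ M.subgroupOf H))
    (hcoh : IsCoherent (inducedIrrAbove K H₁) {1}ᶜ τ)
    (hbig : 4 * K.index ^ 2 + 1 < H₁.relIndex H) :
    IsCoherent (inducedIrrAbove K M) {1}ᶜ τ := by
  classical
  -- the family of good subgroups
  let 𝒯 := {B : Subgroup L // B.Normal ∧ M ≤ B ∧ B ≤ H₁ ∧ IsCoherent (inducedIrrAbove K B) {1}ᶜ τ}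
  haveI : Nonempty 𝒯 := ⟨⟨H₁, hH₁n, hMH₁, le_rfl, hcoh⟩⟩
  haveI : Finite 𝒯 := Subtype.finite
  obtain ⟨⟨B, hBn, hMB, hBH₁, hBcoh⟩, hmin⟩ := Finite.exists_min (fun B : 𝒯 => Nat.card B.1)
  have hH₁ltH : H₁ < H := by
    refine lt_of_le_of_ne hH₁H ?_
    intro h
    rw [h, Subgroup.relIndex_self] at hbig
    omega
  have hBH : B ≤ H := hBH₁.trans hH₁H
  have hBltK : B < K := lt_of_le_of_lt hBH₁ (lt_of_lt_of_le hH₁ltH hHK)
  -- the next subgroup
  set B' : Subgroup L := ⁅B, H⁆ ⊔ M with hB'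
  haveI := hBn
  have hcomm_le : ⁅B, H⁆ ≤ B := Subgroup.commutator_le_left B H
  have hB'B : B' ≤ B := sup_le hcomm_le hMB
  have hB'n : B'.Normal := by
    haveI : (⁅B, H⁆).Normal := Subgroup.commutator_normal B H
    exact Subgroup.sup_normal _ _
  haveI := hB'n
  have hB'coh : IsCoherent (inducedIrrAbove K B') {1}ᶜ τ := by
    apply central_step K hsolv τ R hS B B' H B hBltK (lt_of_le_of_lt hB'B hBltK) hB'B hBH hHK
    · intro x hx y hy
      apply Subgroup.mem_sup_left
      exact Subgroup.commutator_mem_commutator hx hy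
    · exact hBcoh
    · -- the numerical condition
      have e1 : H.relIndex K * K.index = H.index := Subgroup.relIndex_mul_index hHK
      have e2 : B.relIndex H * H.relIndex K = B.relIndex K :=
        Subgroup.relIndex_mul_relIndex B H K hBH hHK
      have e3 : B.relIndex H₁ * H₁.relIndex H = B.relIndex H :=
        Subgroup.relIndex_mul_relIndex B H₁ H hBH₁ hH₁H
      have hpos1 : 1 ≤ B.relIndex H₁ := by
        have : B.relIndex H₁ ≠ 0 := Subgroup.index_ne_zero_of_finite
        omega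
      have hpos2 : 1 ≤ H.relIndex K := by
        have : H.relIndex K ≠ 0 := Subgroup.index_ne_zero_of_finite
        omega
      have hh : 4 * K.index ^ 2 + 1 < B.relIndex H := by
        rw [← e3]
        calc 4 * K.index ^ 2 + 1 < H₁.relIndex H := hbig
          _ = 1 * H₁.relIndex H := (one_mul _).symm
          _ ≤ B.relIndex H₁ * H₁.relIndex H := Nat.mul_le_mul_right _ hpos1
      have := arith_65 K.index (H.relIndex K) (B.relIndex H) hpos2 hh
      rw [← e1, ← e2]
      have h5 : K.index * H.relIndex K = H.relIndex K * K.index := mul_comm _ _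
      rw [h5] at this
      exact this
  have hcard := hmin ⟨B', hB'n, le_sup_right, hB'B.trans hBH₁, hB'coh⟩
  simp only at hcard
  have hB'eq : B' = B := Subgroup.eq_of_le_of_card_ge hB'B hcard
  -- nilpotency forces `B = M`
  have hBM : B = M := by
    apply le_antisymm _ hMB
    set π := QuotientGroup.mk' (M.subgroupOf H) with hπ
    set Bbar : Subgroup (↥H ⧸ M.subgroupOf H) := (B.subgroupOf H).map π with hBbar
    have hBbar_le : Bbar ≤ ⁅Bbar, (⊤ : Subgroup (↥H ⧸ M.subgroupOf H))⁆ := by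
      set T : Subgroup L := ((⁅Bbar, (⊤ : Subgroup (↥H ⧸ M.subgroupOf H))⁆).comap π).map H.subtype
        with hT
      have hT1 : ⁅B, H⁆ ≤ T := by
        rw [Subgroup.commutator_le]
        intro b hb h hh
        rw [hT, Subgroup.mem_map]
        set b' : ↥H := ⟨b, hBH hb⟩ with hb'
        set h' : ↥H := ⟨h, hh⟩ with hh'
        refine ⟨b' * h' * b'⁻¹ * h'⁻¹, ?_, rfl⟩
        rw [← commutatorElement_def, Subgroup.mem_comap, map_commutatorElement]
        apply Subgroup.commutator_mem_commutator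
        · exact Subgroup.mem_map_of_mem _ (Subgroup.mem_subgroupOf.mpr hb)
        · exact Subgroup.mem_top _
      have hT2 : M ≤ T := by
        intro m hm
        rw [hT, Subgroup.mem_map]
        refine ⟨⟨m, (hMB.trans hBH) hm⟩, ?_, rfl⟩
        rw [Subgroup.mem_comap]
        have : π ⟨m, (hMB.trans hBH) hm⟩ = 1 := by
          rw [hπ, QuotientGroup.mk'_apply, QuotientGroup.eq_one_iff]
          exact Subgroup.mem_subgroupOf.mpr hm
        rw [this]
        exact Subgroup.one_mem _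
      have hBT : B ≤ T := by
        rw [← hB'eq, hB']
        exact sup_le hT1 hT2
      intro x hx
      obtain ⟨b, hb, rfl⟩ := Subgroup.mem_map.mp hx
      have hbT := hBT (Subgroup.mem_subgroupOf.mp hb)
      rw [hT, Subgroup.mem_map] at hbT
      obtain ⟨t, ht, hteq⟩ := hbT
      have : t = b := Subtype.ext hteq
      rw [this] at ht
      exact ht
    have hbot := eq_bot_of_le_commutator_top Bbar hBbar_le
    intro b hb
    have h1 : π ⟨b, hBH hb⟩ ∈ Bbar :=
      Subgroup.mem_map_of_mem _ (Subgroup.mem_subgroupOf.mpr hb)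
    rw [hbot, Subgroup.mem_bot, hπ, QuotientGroup.mk'_apply, QuotientGroup.eq_one_iff] at h1
    exact Subgroup.mem_subgroupOf.mp h1
  rw [← hBM]
  exact hBcoh

end Main

end Cfsg.Agent.Lib.Helper4.PF6
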