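import Mathlib

set_option autoImplicit false
set_option linter.unusedSectionVars false

/-!
# A nilpotent group with cyclic abelianization is cyclic
-/

namespace Cfsg.Agent.Lib.Helper4.FrobTI

universe u

theorem abelianization_of_surjective (K : Type*) [Group K] :
    Function.Surjective (Abelianization.of : K →* Abelianization K) := by
  intro x
  induction x using QuotientGroup.induction_on with
  | H k => exact ⟨k, rfl⟩

theorem abelianization_map_surjective {K K' : Type*} [Group K] [Group K'] (f : K →* K')
    (hf : Function.Surjective f) : Function.Surjective (Abelianization.map f) := by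
  intro y
  obtain ⟨k', rfl⟩ := abelianization_of_surjective K' y
  obtain ⟨k, rfl⟩ := hf k'
  exact ⟨Abelianization.of k, Abelianization.map_of f k⟩

theorem abelianization_of_injective_of_comm (K : Type*) [Group K]
    (hcomm : ∀ a b : K, a * b = b * a) :
    Function.Injective (Abelianization.of : K →* Abelianization K) := by
  rw [← MonoidHom.ker_eq_bot_iff, Abelianization.ker_of]
  rw [commutator_def, Subgroup.commutator_eq_bot_iff_le_centralizer]
  intro x _
  rw [Subgroup.mem_centralizer_iff]
  intro y _
  exact hcomm y x

theorem isCyclic_of_nilpotent_aux (n : ℕ) : ∀ (K : Type u) [Group K] [Finite K]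
    [Group.IsNilpotent K], Nat.card K = n → IsCyclic (Abelianization K) → IsCyclic K := by
  induction n using Nat.strong_induction_on with
  | _ n ih =>
    intro K _ _ _ hn hcyc
    rcases subsingleton_or_nontrivial K with hs | hnt
    · exact isCyclic_of_subsingleton
    · have hZ : Subgroup.center K ≠ ⊥ := Group.IsNilpotent.center_ne_bot K
      have hlt : Nat.card (K ⧸ Subgroup.center K) < n := by
        rw [← hn, ← Subgroup.index_eq_card]
        have h1 := (Subgroup.center K).index_mul_card
        have h2 : 1 < Nat.card (Subgroup.center K) := by
          rw [Finite.one_lt_card_iff_nontrivial]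
          exact (Subgroup.nontrivial_iff_ne_bot _).mpr hZ
        have h3 : 0 < (Subgroup.center K).index := Nat.pos_of_ne_zero Subgroup.index_ne_zero_of_finite
        rw [← h1]
        nlinarith
      have hcyc' : IsCyclic (Abelianization (K ⧸ Subgroup.center K)) :=
        isCyclic_of_surjective _ (abelianization_map_surjective
          (QuotientGroup.mk' (Subgroup.center K)) (QuotientGroup.mk'_surjective _))
      have : IsCyclic (K ⧸ Subgroup.center K) := ih _ hlt (K ⧸ Subgroup.center K) rfl hcyc'
      have hcomm : ∀ a b : K, a * b = b * a := fun a b =>
        ((QuotientGroup.mk' (Subgroup.center K)).isMulCommutative_of_isCyclic_of_ker_le_center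
          (by rw [QuotientGroup.ker_mk'])).is_comm.comm a b
      exact isCyclic_of_injective _ (abelianization_of_injective_of_comm K hcomm)

theorem isCyclic_of_nilpotent (K : Type u) [Group K] [Finite K] [Group.IsNilpotent K]
    (h : IsCyclic (Abelianization K)) : IsCyclic K :=
  isCyclic_of_nilpotent_aux _ K rfl h

/-- A nilpotent group whose abelianization has prime order is equal in order to its
abelianization. -/
theorem card_eq_card_abelianization_of_prime (K : Type u) [Group K] [Finite K]
    [Group.IsNilpotent K] (hp : (Nat.card (Abelianization K)).Prime) :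
    Nat.card K = Nat.card (Abelianization K) := by
  have : Fact (Nat.card (Abelianization K)).Prime := ⟨hp⟩
  have h1 : IsCyclic (Abelianization K) := isCyclic_of_prime_card rfl
  have := isCyclic_of_nilpotent K h1
  have hcomm : ∀ a b : K, a * b = b * a := by
    intro a b
    obtain ⟨g, hg⟩ := IsCyclic.exists_generator (α := K)
    obtain ⟨m, rfl⟩ := Subgroup.mem_zpowers_iff.mp (hg a)
    obtain ⟨k, rfl⟩ := Subgroup.mem_zpowers_iff.mp (hg b)
    exact (Commute.zpow_zpow_self g m k).eq
  exact Nat.card_congr (Equiv.ofBijective _
    ⟨abelianization_of_injective_of_comm K hcomm, abelianization_of_surjective K⟩)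

end Cfsg.Agent.Lib.Helper4.FrobTI
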