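import Mathlib
import Cfsg.Agent.Lib.Helper4.FrobPart5

set_option autoImplicit false
set_option linter.unusedSectionVars false
set_option maxHeartbeats 1600000

/-!
# Group-theoretic lemmas for Peterfalvi (6.6)
-/

namespace Cfsg.Agent.Lib.Helper4.PF6

open Cfsg.Agent.Lib.Helper4.FrobTI

section Orbit

variable {α β : Type*} [Group α] [Finite α] [MulAction α β] [DecidableEq β]

/-- an invariant finite set all of whose point stabilizers equal `S` has cardinality divisible
by the index of `S` -/
theorem index_dvd_card_of_stabilizer (S : Subgroup α) :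
    ∀ (n : ℕ) (X : Finset β), X.card = n → (∀ a : α, ∀ b ∈ X, a • b ∈ X) →
      (∀ b ∈ X, MulAction.stabilizer α b = S) → S.index ∣ X.card := by
  classical
  haveI : Fintype α := Fintype.ofFinite α
  intro n
  induction n using Nat.strong_induction_on with
  | _ n ih =>
    intro X hn hinv hstab
    rcases X.eq_empty_or_nonempty with rfl | ⟨b, hb⟩
    · simp
    · set O : Finset β := Finset.univ.image (fun a : α => a • b) with hO
      have hOX : O ⊆ X := by
        intro x hx
        obtain ⟨a, -, rfl⟩ := Finset.mem_image.mp hx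
        exact hinv a b hb
      have hOcoe : (↑O : Set β) = MulAction.orbit α b := by
        ext x
        simp only [hO, Finset.coe_image, Finset.coe_univ, Set.image_univ, Set.mem_range,
          MulAction.mem_orbit_iff]
      have hOcard : O.card = S.index := by
        have h1 : Nat.card (MulAction.orbit α b) = O.card := by
          rw [← hOcoe]
          exact Nat.card_eq_card_toFinset _ |>.trans (by simp)
        rw [← h1, Nat.card_congr (MulAction.orbitEquivQuotientStabilizer α b), hstab b hb,
          Subgroup.index_eq_card]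
      have hsd : (X \ O).card < n := by
        rw [← hn]
        apply Finset.card_lt_card
        apply Finset.sdiff_ssubset hOX
        exact ⟨b, Finset.mem_image.mpr ⟨1, Finset.mem_univ _, one_smul _ _⟩⟩
      have hinv' : ∀ a : α, ∀ x ∈ X \ O, a • x ∈ X \ O := by
        intro a x hx
        rw [Finset.mem_sdiff] at hx ⊢
        refine ⟨hinv a x hx.1, ?_⟩
        intro h
        apply hx.2
        obtain ⟨a', -, ha'⟩ := Finset.mem_image.mp h
        refine Finset.mem_image.mpr ⟨a⁻¹ * a', Finset.mem_univ _, ?_⟩
        show (a⁻¹ * a') • b = x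
        rw [mul_smul, ha', inv_smul_smul]
      have h3 := ih _ hsd (X \ O) rfl hinv' (fun x hx => hstab x (Finset.mem_sdiff.mp hx).1)
      have h4 : X.card = (X \ O).card + O.card := by
        rw [Finset.card_sdiff_add_card_eq_card hOX]
      rw [h4]
      exact Dvd.dvd.add h3 (by rw [hOcard])

end Orbit

section Nilp

universe u

/-- in a finite nilpotent group every prime divisor of the order divides the order of the
abelianization -/
theorem prime_dvd_card_abelianization (X : Type u) [Group X] [Finite X] [hX : Group.IsNilpotent X]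
    {p : ℕ} (hp : p.Prime) (hpX : p ∣ Nat.card X) : p ∣ Nat.card (Abelianization X) := by
  haveI : Fact p.Prime := ⟨hp⟩
  obtain ⟨e⟩ := (Group.isNilpotent_of_finite_tfae (G := X)).out 0 4 |>.mp hX
  obtain ⟨P⟩ : Nonempty (Sylow p X) := inferInstance
  have hpmem : p ∈ (Nat.card X).primeFactors :=
    Nat.mem_primeFactors.mpr ⟨hp, hpX, Nat.card_pos.ne'⟩
  -- the projection onto the Sylow `p`-subgroup
  let f1 : (∀ p : (Nat.card X).primeFactors, ∀ P : Sylow p X, (↑P : Subgroup X)) →*
      (∀ P : Sylow p X, (↑P : Subgroup X)) :=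
    Pi.evalMonoidHom (fun p : (Nat.card X).primeFactors => ∀ P : Sylow p X, (↑P : Subgroup X))
      ⟨p, hpmem⟩
  let f2 : (∀ P : Sylow p X, (↑P : Subgroup X)) →* (↑P : Subgroup X) :=
    Pi.evalMonoidHom (fun P : Sylow p X => (↑P : Subgroup X)) P
  let f : X →* (↑P : Subgroup X) := (f2.comp f1).comp e.symm.toMonoidHom
  have hf : Function.Surjective f := by
    intro y
    classical
    let w : (∀ p : (Nat.card X).primeFactors, ∀ P : Sylow p X, (↑P : Subgroup X)) :=
      Function.update 1 ⟨p, hpmem⟩ (Function.update 1 P y)
    refine ⟨e w, ?_⟩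
    show f2 (f1 (e.symm (e w))) = y
    rw [MulEquiv.symm_apply_apply]
    show w ⟨p, hpmem⟩ P = y
    simp [w]
  have hPnt : Nontrivial (↑P : Subgroup X) := by
    rw [← Finite.one_lt_card_iff_nontrivial]
    have h1 : p ∣ Nat.card (↑P : Subgroup X) := P.dvd_card_of_dvd_card hpX
    have h2 : 0 < Nat.card (↑P : Subgroup X) := Nat.card_pos
    have := Nat.le_of_dvd h2 h1
    have := hp.two_le
    omega
  haveI : Group.IsNilpotent (↑P : Subgroup X) := P.isPGroup'.isNilpotent
  -- the abelianization of `P` is a nontrivial `p`-group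
  have hab : p ∣ Nat.card (Abelianization (↑P : Subgroup X)) := by
    have h1 : commutator (↑P : Subgroup X) ≠ ⊤ :=
      (IsSolvable.commutator_lt_top_of_nontrivial (↑P : Subgroup X)).ne
    have h2 : Nat.card (Abelianization (↑P : Subgroup X)) ≠ 1 := by
      intro h
      apply h1
      apply Subgroup.index_eq_one.mp
      rw [Subgroup.index_eq_card]
      exact h
    have h3 : Nat.card (Abelianization (↑P : Subgroup X)) ∣ Nat.card (↑P : Subgroup X) :=
      Subgroup.card_quotient_dvd_card _
    obtain ⟨k, hk⟩ := P.isPGroup'.exists_card_eq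
    rw [hk] at h3
    obtain ⟨j, -, hj⟩ := (Nat.dvd_prime_pow hp).mp h3
    rw [hj] at h2 ⊢
    rcases Nat.eq_zero_or_pos j with h0 | h0
    · rw [h0, pow_zero] at h2; exact absurd rfl h2
    · exact dvd_pow_self p h0.ne'
  have hsurj := abelianization_map_surjective f hf
  exact hab.trans (Subgroup.card_dvd_of_surjective _ hsurj)

end Nilp

end Cfsg.Agent.Lib.Helper4.PF6
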