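import Mathlib
import Cfsg.Agent.Lib.Helper4.PF6e
import Cfsg.Agent.Lib.Helper4.PF6f

set_option autoImplicit false
set_option linter.unusedSectionVars false
set_option maxHeartbeats 1600000

/-!
# Peterfalvi (6.6): coherence of `S(M)` for Frobenius-like quotients
-/

namespace Cfsg.Agent.Lib.Helper4.PF6

open Cfsg Cfsg.Agent.Lib.Helper4.FrobTI

section Arith

theorem odd_cong_ge (e n : ℕ) (he : Odd e) (hn : Odd n) (h1 : 1 < n) (hd : e ∣ n - 1) :
    2 * e + 1 ≤ n := by
  obtain ⟨t, ht⟩ := hd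
  obtain ⟨a, ha⟩ := he
  obtain ⟨b, hb⟩ := hn
  have hn' : n = e * t + 1 := by omega
  have ht0 : t ≠ 0 := by
    rintro rfl
    omega
  have hteven : Even t := by
    by_contra hodd
    rw [Nat.not_even_iff_odd] at hodd
    obtain ⟨c, hc⟩ := hodd
    have : n = (2 * a + 1) * (2 * c + 1) + 1 := by rw [hn', ha, hc]
    have h2 : n = 2 * (2 * a * c + a + c + 1) := by rw [this]; ring
    omega
  obtain ⟨s, hs⟩ := hteven
  have hs1 : 1 ≤ s := by omega
  rw [hn', hs]
  nlinarith

theorem sq_gt (e n : ℕ) (he : 0 < e) (h : 2 * e + 1 ≤ n) (m : ℕ) (hm : 2 * e + 1 ≤ m) :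
    4 * e ^ 2 + 1 < n * m := by
  have h1 : (2 * e + 1) * (2 * e + 1) ≤ n * m := Nat.mul_le_mul h hm
  nlinarith

end Arith

section Ab

variable {L : Type*} [Group L] [Finite L]

theorem commutator_self_le (K : Subgroup L) : ⁅K, K⁆ ≤ K := by
  rw [Subgroup.commutator_le]
  intro a ha b hb
  rw [commutatorElement_def]
  exact K.mul_mem (K.mul_mem (K.mul_mem ha hb) (K.inv_mem ha)) (K.inv_mem hb)

/-- The order of the abelianization of `K / M` is `|K : K'M|`. -/
theorem card_abelianization_quotient (K M : Subgroup L) (hMK : M ≤ K)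
    [hn : (M.subgroupOf K).Normal] :
    Nat.card (Abelianization (↥K ⧸ M.subgroupOf K)) = (⁅K, K⁆ ⊔ M).relIndex K := by
  set π := QuotientGroup.mk' (M.subgroupOf K) with hπdef
  have hπ : Function.Surjective π := QuotientGroup.mk'_surjective _
  have h1 : commutator (↥K ⧸ M.subgroupOf K) = (commutator K).map π := by
    rw [commutator_def, commutator_def, Subgroup.map_commutator, ← MonoidHom.range_eq_map,
      MonoidHom.range_eq_top.mpr hπ]
  have h2 : commutator K = (⁅K, K⁆).subgroupOf K := by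
    rw [← Subgroup.map_subtype_commutator, Subgroup.subgroupOf,
      Subgroup.comap_map_eq_self_of_injective K.subtype_injective]
  show Nat.card ((↥K ⧸ M.subgroupOf K) ⧸ commutator (↥K ⧸ M.subgroupOf K)) = _
  rw [← Subgroup.index_eq_card, h1, ← Subgroup.index_comap_of_surjective _ hπ,
    Subgroup.comap_map_eq, QuotientGroup.ker_mk', Subgroup.relIndex, h2,
    Subgroup.subgroupOf_sup (commutator_self_le K) hMK]

end Ab

section Cong

variable {L : Type*} [Group L] [Finite L]

/-- the congruence `|N : H₁| ≡ 1 (mod |L : K|)` in a Frobenius-like quotient -/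
theorem index_dvd_relIndex_sub_one (K H₁ N : Subgroup L) [hK : K.Normal] [hH₁n : H₁.Normal]
    [hN : N.Normal] (hcH₁ : ⁅K, K⁆ ≤ H₁) (hNK : N ≤ K)
    (hfrob : ∀ k ∈ K, k ∉ H₁ → ∀ x : L, x * k * x⁻¹ * k⁻¹ ∈ H₁ → x ∈ K) :
    K.index ∣ H₁.relIndex N - 1 := by
  classical
  set π : L →* L ⧸ H₁ := QuotientGroup.mk' H₁ with hπdef
  let act : MulAction L (L ⧸ H₁) :=
    MulAction.compHom (L ⧸ H₁) ((MulAut.conj : (L ⧸ H₁) →* MulAut (L ⧸ H₁)).comp π)
  have hsmul : ∀ (g : L) (q : L ⧸ H₁), g • q = π g * q * (π g)⁻¹ := fun g q => rfl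
  have : Fintype (L ⧸ H₁) := Fintype.ofFinite _
  set Y : Finset (L ⧸ H₁) := Finset.univ.filter (fun q : L ⧸ H₁ => q ∈ N.map π) with hY
  set X : Finset (L ⧸ H₁) := Y.erase 1 with hX
  have hmemX : ∀ q, q ∈ X ↔ q ≠ 1 ∧ q ∈ N.map π := by
    intro q
    rw [hX, Finset.mem_erase, hY, Finset.mem_filter]
    simp
  have hinv : ∀ a : L, ∀ b ∈ X, a • b ∈ X := by
    intro a b hb
    rw [hmemX] at hb ⊢
    obtain ⟨hb1, n, hn, rfl⟩ := hb
    rw [hsmul]
    refine ⟨?_, ?_⟩
    · intro h
      apply hb1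
      have : π n = (π a)⁻¹ * (π a * π n * (π a)⁻¹) * π a := by group
      rw [this, h]; group
    · refine ⟨a * n * a⁻¹, hN.conj_mem n hn a, ?_⟩
      rw [map_mul, map_mul, map_inv]
  have hstab : ∀ b ∈ X, MulAction.stabilizer L b = K := by
    intro b hb
    rw [hmemX] at hb
    obtain ⟨hb1, n, hn, rfl⟩ := hb
    have hnH : n ∉ H₁ := by
      intro h
      apply hb1
      rw [hπdef, QuotientGroup.mk'_apply, QuotientGroup.eq_one_iff]
      exact h
    ext x
    rw [MulAction.mem_stabilizer_iff, hsmul]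
    have hiff : π x * π n * (π x)⁻¹ = π n ↔ x * n * x⁻¹ * n⁻¹ ∈ H₁ := by
      rw [← map_inv, ← map_mul, ← map_mul, ← mul_inv_eq_one, ← map_inv, ← map_mul, hπdef,
        QuotientGroup.mk'_apply, QuotientGroup.eq_one_iff]
    rw [hiff]
    constructor
    · intro h
      exact hfrob n (hNK hn) hnH x h
    · intro hx
      apply hcH₁
      have := Subgroup.commutator_mem_commutator hx (hNK hn)
      rwa [commutatorElement_def] at this
  have h := index_dvd_card_of_stabilizer K X.card X rfl hinv hstab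
  have hYcard : Y.card = H₁.relIndex N := by
    have h1 : H₁.relIndex N = Nat.card (N.map π) := by
      have := Subgroup.relIndex_ker (K := N) π
      rwa [hπdef, QuotientGroup.ker_mk'] at this
    rw [h1, Nat.card_eq_fintype_card, hY]
    exact (Fintype.card_subtype _).symm
  have hXcard : X.card = H₁.relIndex N - 1 := by
    rw [hX, Finset.card_erase_of_mem, hYcard]
    rw [hY, Finset.mem_filter]
    exact ⟨Finset.mem_univ _, Subgroup.one_mem _⟩
  rwa [hXcard] at h

end Cong

end Cfsg.Agent.Lib.Helper4.PF6
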