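import Mathlib
import Cfsg.Agent.Lib.Helper4.PF6g

set_option autoImplicit false
set_option linter.unusedSectionVars false
set_option linter.unusedVariables false
set_option maxHeartbeats 1600000

/-!
# Peterfalvi (6.6): main theorem
-/

namespace Cfsg.Agent.Lib.Helper4.PF6

open Cfsg Cfsg.Agent.Lib.Helper4.FrobTI

section Mid

variable {L : Type*} [Group L] [Finite L]

/-- the subgroup of elements of `K` whose `p`-th power lies in `H₁` -/
def powSub (K H₁ : Subgroup L) [hH₁n : H₁.Normal] (hc : ⁅K, K⁆ ≤ H₁) (p : ℕ) : Subgroup L where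
  carrier := {x | x ∈ K ∧ x ^ p ∈ H₁}
  one_mem' := ⟨K.one_mem, by rw [one_pow]; exact H₁.one_mem⟩
  mul_mem' := by
    rintro x y ⟨hx, hxp⟩ ⟨hy, hyp⟩
    refine ⟨K.mul_mem hx hy, ?_⟩
    have hcomm : Commute ((QuotientGroup.mk' H₁) x) ((QuotientGroup.mk' H₁) y) := by
      have h1 : x * y * x⁻¹ * y⁻¹ ∈ H₁ := by
        apply hc
        have := Subgroup.commutator_mem_commutator hx hy
        rwa [commutatorElement_def] at this
      have h2 : (QuotientGroup.mk' H₁) (x * y * x⁻¹ * y⁻¹) = 1 := by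
        rw [QuotientGroup.mk'_apply, QuotientGroup.eq_one_iff]; exact h1
      rw [map_mul, map_mul, map_mul, map_inv, map_inv] at h2
      show _ * _ = _ * _
      have h3 := congrArg (fun z => z * (QuotientGroup.mk' H₁) y * (QuotientGroup.mk' H₁) x) h2
      rw [one_mul] at h3
      rw [← h3]; group
    have h4 : (QuotientGroup.mk' H₁) ((x * y) ^ p) = 1 := by
      rw [map_pow, map_mul, hcomm.mul_pow, ← map_pow, ← map_pow]
      have hx1 : (QuotientGroup.mk' H₁) (x ^ p) = 1 := by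
        rw [QuotientGroup.mk'_apply, QuotientGroup.eq_one_iff]; exact hxp
      have hy1 : (QuotientGroup.mk' H₁) (y ^ p) = 1 := by
        rw [QuotientGroup.mk'_apply, QuotientGroup.eq_one_iff]; exact hyp
      rw [hx1, hy1, one_mul]
    rw [QuotientGroup.mk'_apply, QuotientGroup.eq_one_iff] at h4
    exact h4
  inv_mem' := by
    rintro x ⟨hx, hxp⟩
    exact ⟨K.inv_mem hx, by rw [inv_pow]; exact H₁.inv_mem hxp⟩

theorem mem_powSub {K H₁ : Subgroup L} [hH₁n : H₁.Normal] (hc : ⁅K, K⁆ ≤ H₁) (p : ℕ) (x : L) :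
    x ∈ powSub K H₁ hc p ↔ x ∈ K ∧ x ^ p ∈ H₁ := Iff.rfl

theorem powSub_normal {K H₁ : Subgroup L} [hK : K.Normal] [hH₁n : H₁.Normal] (hc : ⁅K, K⁆ ≤ H₁)
    (p : ℕ) : (powSub K H₁ hc p).Normal := by
  constructor
  intro x hx g
  rw [mem_powSub] at hx ⊢
  refine ⟨hK.conj_mem x hx.1 g, ?_⟩
  rw [conj_pow]
  exact hH₁n.conj_mem _ hx.2 g

/-- an element of `K` of prime order `p` modulo `H₁` -/
theorem exists_order_mod (K H₁ : Subgroup L) [hH₁n : H₁.Normal] (hH₁K : H₁ ≤ K) {p : ℕ}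
    (hp : p.Prime) (hdvd : p ∣ H₁.relIndex K) :
    ∃ x ∈ K, x ∉ H₁ ∧ x ^ p ∈ H₁ ∧ ∀ r : ℕ, x ^ r ∈ H₁ → p ∣ r := by
  haveI : Fact p.Prime := ⟨hp⟩
  haveI : (H₁.subgroupOf K).Normal := hH₁n.subgroupOf K
  have hcard : p ∣ Nat.card (↥K ⧸ H₁.subgroupOf K) := by
    rw [← Subgroup.index_eq_card]; exact hdvd
  obtain ⟨q, hq⟩ := exists_prime_orderOf_dvd_card' p hcard
  obtain ⟨k, rfl⟩ := QuotientGroup.mk_surjective q
  have hpow : ∀ r : ℕ, (k : L) ^ r ∈ H₁ ↔ ((k : ↥K ⧸ H₁.subgroupOf K)) ^ r = 1 := by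
    intro r
    rw [← QuotientGroup.mk_pow, QuotientGroup.eq_one_iff, Subgroup.mem_subgroupOf]
    simp
  refine ⟨k, k.2, ?_, ?_, ?_⟩
  · intro h
    have h1 := (hpow 1).mp (by simpa using h)
    rw [pow_one] at h1
    rw [h1, orderOf_one] at hq
    exact hp.one_lt.ne hq
  · rw [hpow, ← hq]; exact pow_orderOf_eq_one _
  · intro r hr
    rw [hpow] at hr
    rw [← hq]
    exact orderOf_dvd_of_pow_eq_one hr

/-- two distinct primes dividing `|K : H₁|` give a normal subgroup strictly in between -/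
theorem exists_mid_of_two_primes (K H₁ : Subgroup L) [hK : K.Normal] [hH₁n : H₁.Normal]
    (hc : ⁅K, K⁆ ≤ H₁) (hH₁K : H₁ ≤ K) {p q : ℕ} (hp : p.Prime) (hq : q.Prime) (hpq : p ≠ q)
    (hpd : p ∣ H₁.relIndex K) (hqd : q ∣ H₁.relIndex K) :
    ∃ N : Subgroup L, N.Normal ∧ H₁ < N ∧ N < K := by
  refine ⟨powSub K H₁ hc p, powSub_normal hc p, ?_, ?_⟩
  · obtain ⟨x, hxK, hxH, hxp, -⟩ := exists_order_mod K H₁ hH₁K hp hpd
    refine lt_of_le_of_ne ?_ ?_
    · intro y hy
      rw [mem_powSub]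
      exact ⟨hH₁K hy, H₁.pow_mem hy p⟩
    · intro h
      apply hxH
      rw [h, mem_powSub]
      exact ⟨hxK, hxp⟩
  · obtain ⟨y, hyK, hyH, hyq, hyr⟩ := exists_order_mod K H₁ hH₁K hq hqd
    refine lt_of_le_of_ne ?_ ?_
    · intro x hx
      exact ((mem_powSub hc p x).mp hx).1
    · intro h
      have h1 : y ∈ powSub K H₁ hc p := by rw [h]; exact hyK
      have h2 := hyr p ((mem_powSub hc p y).mp h1).2
      exact hpq ((Nat.prime_dvd_prime_iff_eq hq hp).mp h2).symm

end Mid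

section Main

variable {L : Type*} [Group L] [Fintype L] {G : Type*} [Group G] [Fintype G]

theorem dg_eq_one_of_comm {K A : Subgroup L} [hA : A.Normal] (hAK : A ≤ K) (hc : ⁅K, K⁆ ≤ A)
    {θ : K → ℂ} (hθ : θ ∈ ThetaSet K A) : dg θ = 1 := by
  have h1 := degree_bound (K := K) (B := A) (C := K) (D := K) hAK le_rfl le_rfl
    (fun x hx y hy => by
      apply hc
      have := Subgroup.commutator_mem_commutator hx hy
      rwa [commutatorElement_def] at this) hθ
  rw [Subgroup.relIndex_self, mul_one] at h1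
  have h2 := dg_pos hθ.1
  have he : 0 < K.index := Nat.pos_of_ne_zero Subgroup.index_ne_zero_of_finite
  have h3 : (2 * K.index * dg θ) ^ 2 = 4 * K.index ^ 2 * dg θ ^ 2 := by ring
  rw [h3] at h1
  have h4 : dg θ ^ 2 ≤ 1 := by
    have h5 : 0 < 4 * K.index ^ 2 := by positivity
    have h6 : 4 * K.index ^ 2 * dg θ ^ 2 ≤ 4 * K.index ^ 2 * 1 := by rw [mul_one]; exact h1
    exact Nat.le_of_mul_le_mul_left h6 h5
  nlinarith

theorem coherent_of_comm (K : Subgroup L) [hK : K.Normal] (hsolv : Group.IsSolvable K)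
    (τ : (L → ℂ) → (G → ℂ)) (R : (L → ℂ) → Finset (G → ℂ))
    (hS : IsCoherenceSystem (inducedIrrAbove K ⊥) τ R) (A : Subgroup L) [hA : A.Normal]
    (hAK : A < K) (hc : ⁅K, K⁆ ≤ A) : IsCoherent (inducedIrrAbove K A) {1}ᶜ τ := by
  apply coherent_of_deg_eq hS (induced_mono K bot_le) (induced_nonempty hsolv hAK)
    (fun χ h => conjFun_mem_induced h)
  intro φ hφ ψ hψ
  obtain ⟨θ, hθ, rfl⟩ := mem_induced_iff.mp hφ
  obtain ⟨θ', hθ', rfl⟩ := mem_induced_iff.mp hψ
  rw [indFun_one_index, indFun_one_index, dg_spec hθ.1, dg_spec hθ'.1,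
    dg_eq_one_of_comm hAK.le hc hθ, dg_eq_one_of_comm hAK.le hc hθ']

theorem coherent_66 (K : Subgroup L) [hK : K.Normal] (hsolv : Group.IsSolvable K)
    (τ : (L → ℂ) → (G → ℂ)) (R : (L → ℂ) → Finset (G → ℂ))
    (hS : IsCoherenceSystem (inducedIrrAbove K ⊥) τ R) (hodd : Odd (Nat.card L))
    (M : Subgroup L) [hMn : M.Normal] (hMK : M ≤ K) [hMKn : (M.subgroupOf K).Normal]
    (hnil : Group.IsNilpotent (↥K ⧸ M.subgroupOf K)) (H₁ : Subgroup L) (hH₁ : H₁ = ⁅K, K⁆ ⊔ M)
    (hH₁K : H₁ < K)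
    (hfrob : ∀ k ∈ K, k ∉ H₁ → ∀ x : L, x * k * x⁻¹ * k⁻¹ ∈ H₁ → x ∈ K)
    (hgood : (∃ N : Subgroup L, N.Normal ∧ H₁ < N ∧ N < K) ∨ 4 * K.index ^ 2 + 1 < H₁.relIndex K ∨
      (¬ ∃ p m : ℕ, p.Prime ∧ M.relIndex K = p ^ m) ∨ ⁅K, K⁆ ≤ M ∨
      (∃ p m : ℕ, p.Prime ∧ M.relIndex K = p ^ m ∧ K.index ∣ p - 1)) :
    IsCoherent (inducedIrrAbove K M) {1}ᶜ τ := by
  haveI hcn : (⁅K, K⁆).Normal := Subgroup.commutator_normal K K
  haveI hH₁n : H₁.Normal := by rw [hH₁]; exact Subgroup.sup_normal _ _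
  have hMH₁ : M ≤ H₁ := by rw [hH₁]; exact le_sup_right
  have hcH₁ : ⁅K, K⁆ ≤ H₁ := by rw [hH₁]; exact le_sup_left
  have hcohH₁ : IsCoherent (inducedIrrAbove K H₁) {1}ᶜ τ :=
    coherent_of_comm K hsolv τ R hS H₁ hH₁K hcH₁
  have he : 0 < K.index := Nat.pos_of_ne_zero Subgroup.index_ne_zero_of_finite
  have heodd : Odd K.index := by
    have : K.index ∣ Nat.card L := K.index_dvd_card
    exact hodd.of_dvd_nat this
  have relodd : ∀ A B : Subgroup L, Odd (A.relIndex B) := by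
    intro A B
    have h1 : A.relIndex B ∣ Nat.card B := Subgroup.relIndex_dvd_card A B
    have h2 : Nat.card B ∣ Nat.card L := Subgroup.card_subgroup_dvd_card B
    exact hodd.of_dvd_nat (h1.trans h2)
  -- the big case
  have big : 4 * K.index ^ 2 + 1 < H₁.relIndex K → IsCoherent (inducedIrrAbove K M) {1}ᶜ τ :=
    fun hbig => nilpotent_descent K hsolv τ R hS M H₁ K hMH₁ hH₁K.le le_rfl hnil hcohH₁ hbig
  -- the abelian case
  have ab : ⁅K, K⁆ ≤ M → IsCoherent (inducedIrrAbove K M) {1}ᶜ τ := by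
    intro h
    have : H₁ = M := by rw [hH₁]; exact sup_eq_right.mpr h
    rw [← this]; exact hcohH₁
  -- the case of an intermediate normal subgroup
  have mid : (∃ N : Subgroup L, N.Normal ∧ H₁ < N ∧ N < K) →
      IsCoherent (inducedIrrAbove K M) {1}ᶜ τ := by
    rintro ⟨N, hNn, hH₁N, hNK⟩
    haveI := hNn
    apply big
    have c1 := index_dvd_relIndex_sub_one K H₁ N hcH₁ hNK.le hfrob
    have c2 := index_dvd_relIndex_sub_one K H₁ K hcH₁ le_rfl hfrob
    have e1 : H₁.relIndex N * N.relIndex K = H₁.relIndex K :=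
      Subgroup.relIndex_mul_relIndex H₁ N K hH₁N.le hNK.le
    have n1 : 1 < H₁.relIndex N := by
      have h0 : H₁.relIndex N ≠ 0 := Subgroup.index_ne_zero_of_finite
      have h1 : H₁.relIndex N ≠ 1 := by
        intro h
        exact (not_le_of_gt hH₁N) (Subgroup.relIndex_eq_one.mp h)
      omega
    have n2 : 1 < N.relIndex K := by
      have h0 : N.relIndex K ≠ 0 := Subgroup.index_ne_zero_of_finite
      have h1 : N.relIndex K ≠ 1 := by
        intro h
        exact (not_le_of_gt hNK) (Subgroup.relIndex_eq_one.mp h)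
      omega
    have nK' : 1 < H₁.relIndex K := by
      have h0 : H₁.relIndex K ≠ 0 := Subgroup.index_ne_zero_of_finite
      have h1 : H₁.relIndex K ≠ 1 := by
        intro h
        exact (not_le_of_gt hH₁K) (Subgroup.relIndex_eq_one.mp h)
      omega
    have c3 : K.index ∣ N.relIndex K - 1 := by
      have m1 : H₁.relIndex N ≡ 1 [MOD K.index] :=
        ((Nat.modEq_iff_dvd' n1.le).mpr c1).symm
      have m2 : H₁.relIndex N * N.relIndex K ≡ 1 [MOD K.index] := by
        rw [e1]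
        exact ((Nat.modEq_iff_dvd' nK'.le).mpr c2).symm
      have m3 : H₁.relIndex N * N.relIndex K ≡ 1 * N.relIndex K [MOD K.index] :=
        m1.mul_right _
      rw [one_mul] at m3
      exact (Nat.modEq_iff_dvd' n2.le).mp (m2.symm.trans m3)
    have g1 := odd_cong_ge K.index _ heodd (relodd H₁ N) n1 c1
    have g2 := odd_cong_ge K.index _ heodd (relodd N K) n2 c3
    rw [← e1]
    exact sq_gt K.index _ he g1 _ g2
  have eMH : M.relIndex H₁ * H₁.relIndex K = M.relIndex K :=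
    Subgroup.relIndex_mul_relIndex M H₁ K hMH₁ hH₁K.le
  have nK : 1 < H₁.relIndex K := by
    have h0 : H₁.relIndex K ≠ 0 := Subgroup.index_ne_zero_of_finite
    have h1 : H₁.relIndex K ≠ 1 := by
      intro h
      exact (not_le_of_gt hH₁K) (Subgroup.relIndex_eq_one.mp h)
    omega
  have hab : Nat.card (Abelianization (↥K ⧸ M.subgroupOf K)) = H₁.relIndex K := by
    rw [hH₁]; exact card_abelianization_quotient K M hMK
  rcases hgood with h | h | h | h | h
  · exact mid h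
  · exact big h
  · -- not a prime power
    apply mid
    set n := M.relIndex K with hn
    have hn1 : n ≠ 1 := by
      intro h1
      exact h ⟨2, 0, Nat.prime_two, by rw [h1, pow_zero]⟩
    have hn0 : n ≠ 0 := Subgroup.index_ne_zero_of_finite
    obtain ⟨p, hp, hpn⟩ := Nat.exists_prime_and_dvd hn1
    have hex : ∃ q : ℕ, q.Prime ∧ q ∣ n ∧ q ≠ p := by
      by_contra hno
      push Not at hno
      apply h
      exact ⟨p, _, hp, Nat.eq_prime_pow_of_unique_prime_dvd hn0 (fun {d} hd hdn => hno d hd hdn)⟩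
    obtain ⟨q, hq, hqn, hqp⟩ := hex
    have hcardn : Nat.card (↥K ⧸ M.subgroupOf K) = n := by
      rw [← Subgroup.index_eq_card]; rfl
    have hpd : p ∣ H₁.relIndex K := by
      rw [← hab]
      exact prime_dvd_card_abelianization _ hp (by rw [hcardn]; exact hpn)
    have hqd : q ∣ H₁.relIndex K := by
      rw [← hab]
      exact prime_dvd_card_abelianization _ hq (by rw [hcardn]; exact hqn)
    exact exists_mid_of_two_primes K H₁ hcH₁ hH₁K.le hp hq hqp.symm hpd hqd
  · exact ab h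
  · obtain ⟨p, m, hp, hpm, hep⟩ := h
    have hdvd : H₁.relIndex K ∣ p ^ m := by
      rw [← hpm, ← eMH]; exact dvd_mul_left _ _
    obtain ⟨j, hjm, hj⟩ := (Nat.dvd_prime_pow hp).mp hdvd
    have hj1 : 1 ≤ j := by
      rcases Nat.eq_zero_or_pos j with h0 | h0
      · rw [h0, pow_zero] at hj; omega
      · exact h0
    rcases Nat.lt_or_ge 1 j with h2 | h2
    · -- `j ≥ 2`
      apply big
      have hpodd : Odd p := by
        have : p ∣ H₁.relIndex K := by rw [hj]; exact dvd_pow_self p (by omega)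
        exact (relodd H₁ K).of_dvd_nat this
      have g := odd_cong_ge K.index p heodd hpodd hp.one_lt hep
      rw [hj]
      have h3 : p ^ 2 ≤ p ^ j := Nat.pow_le_pow_right hp.pos h2
      have h4 := sq_gt K.index p he g p g
      calc 4 * K.index ^ 2 + 1 < p * p := h4
        _ = p ^ 2 := (sq p).symm
        _ ≤ p ^ j := h3
    · -- `j = 1`
      have hj' : j = 1 := le_antisymm h2 hj1
      rw [hj', pow_one] at hj
      apply ab
      have hprime : (Nat.card (Abelianization (↥K ⧸ M.subgroupOf K))).Prime := by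
        rw [hab, hj]; exact hp
      have h5 := card_eq_card_abelianization_of_prime (↥K ⧸ M.subgroupOf K) hprime
      rw [hab, ← Subgroup.index_eq_card] at h5
      have h6 : M.relIndex H₁ = 1 := by
        have h7 : M.relIndex K = H₁.relIndex K := h5
        rw [h7] at eMH
        have h8 : 0 < H₁.relIndex K := by omega
        exact Nat.eq_of_mul_eq_mul_right h8 (by rw [eMH, one_mul])
      exact hcH₁.trans (Subgroup.relIndex_eq_one.mp h6)

end Main

end Cfsg.Agent.Lib.Helper4.PF6
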