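import Mathlib
import Cfsg.Agent.Lib.Helper4.PF6h
import Cfsg.Agent.Lib.Helper4.CharTools
import Cfsg.Agent.S1487
import Cfsg.Agent.S0146

set_option autoImplicit false
set_option linter.unusedSectionVars false
set_option linter.unusedVariables false
set_option maxHeartbeats 1600000

/-!
# Peterfalvi (6.7): the characters nontrivial on a central subgroup
-/

namespace Cfsg.Agent.Lib.Helper4.PF6

open Cfsg Cfsg.Agent.Lib.Helper4 Cfsg.Agent.Lib.Helper1 Cfsg.Agent.Lib.Helper4.FrobTI Cfsg.Agent.Lib.Helper4.Coh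

section SetEq

variable {L : Type*} [Group L] [Fintype L] {K Z : Subgroup L} [hK : K.Normal] [hZ : Z.Normal]

theorem mem_sdiff_iff (hZK : Z ≤ K) {φ : L → ℂ} :
    φ ∈ inducedIrrAbove K ⊥ \ inducedIrrAbove K Z ↔
      ∃ θ : K → ℂ, IsIrrCharacter K θ ∧ (∃ z : K, (z : L) ∈ Z ∧ θ z ≠ θ 1) ∧
        φ = indFun K θ := by
  constructor
  · rintro ⟨h1, h2⟩
    obtain ⟨θ, hθ, rfl⟩ := mem_induced_iff.mp h1
    refine ⟨θ, hθ.1, ?_, rfl⟩
    by_contra hno
    push Not at hno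
    exact h2 (mem_induced_iff.mpr ⟨θ, ⟨hθ.1, hθ.2.1, hno⟩, rfl⟩)
  · rintro ⟨θ, hθ, ⟨z, hzZ, hz⟩, rfl⟩
    have hne : θ ≠ fun _ => 1 := by
      intro h; apply hz; rw [h]
    refine ⟨mem_induced_iff.mpr ⟨θ, ⟨hθ, hne, ?_⟩, rfl⟩, ?_⟩
    · intro a ha
      rw [Subgroup.mem_bot] at ha
      have : a = 1 := Subtype.ext ha
      rw [this]
    · intro h
      obtain ⟨θ', hθ', heq⟩ := mem_induced_iff.mp h
      have h1 := (Cfsg.Agent.S1487.result Z K hZK θ' hθ'.1).mp hθ'.2.2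
      rw [← heq] at h1
      have h2 := (Cfsg.Agent.S1487.result Z K hZK θ hθ).mpr h1
      exact hz (h2 z hzZ)

theorem sdiff_eq_irr (hZK : Z ≤ K)
    (hirr : ∀ χ ∈ inducedIrrAbove K ⊥ \ inducedIrrAbove K Z, IsIrrCharacter L χ) :
    inducedIrrAbove K ⊥ \ inducedIrrAbove K Z =
      {χ | IsIrrCharacter L χ ∧ ∃ z ∈ Z, χ z ≠ χ 1} := by
  ext χ
  constructor
  · intro hχ
    refine ⟨hirr χ hχ, ?_⟩
    obtain ⟨θ, hθ, ⟨z, hzZ, hz⟩, rfl⟩ := (mem_sdiff_iff hZK).mp hχ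
    by_contra hno
    push Not at hno
    have h2 := (Cfsg.Agent.S1487.result Z K hZK θ hθ).mpr hno
    exact hz (h2 z hzZ)
  · rintro ⟨hχ, z₀, hz₀Z, hz₀⟩
    haveI : Fintype K := Fintype.ofFinite _
    have hres : IsCharacter K (fun k : K => χ k) :=
      Cfsg.Agent.S0148.isCharacter_restrict K (isCharacter_of_irr hχ)
    have hres1 : (fun k : K => χ k) 1 ≠ 0 := by
      show χ ((1 : K) : L) ≠ 0
      rw [Subgroup.coe_one]; exact irr_apply_one_ne_zero hχ
    obtain ⟨θ, hθ, m, hm, hin⟩ := exists_constituent hres hres1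
    have hfr := Cfsg.Agent.S0146.result K θ χ (isClassFunction_irr hχ)
    have h1 : classInner θ (fun k : K => χ k) = m := by
      rw [← classInner_conj_symm, hin]; simp
    rw [h1] at hfr
    have hθZ : ∃ z : K, (z : L) ∈ Z ∧ θ z ≠ θ 1 := by
      by_contra hno
      push Not at hno
      have h2 := (Cfsg.Agent.S1487.result Z K hZK θ hθ).mp hno
      have h3 := constituent_apply_eq (induced_isCharacter hθ) hχ hm hfr z₀ (h2 z₀ hz₀Z)
      exact hz₀ h3
    have hmem : indFun K θ ∈ inducedIrrAbove K ⊥ \ inducedIrrAbove K Z :=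
      (mem_sdiff_iff hZK).mpr ⟨θ, hθ, hθZ, rfl⟩
    have hirrInd := hirr _ hmem
    have heq : indFun K θ = χ := by
      by_contra hne
      rw [classInner_irr_ne hirrInd hχ hne] at hfr
      have : (m : ℂ) = 0 := hfr.symm
      have : m = 0 := by exact_mod_cast this
      omega
    rw [← heq]; exact hmem

theorem nrm_eq_one_of_irr {φ : L → ℂ} (h : IsIrrCharacter L φ) : nrm φ = 1 := by
  have h1 := nrm_spec (isCharacter_of_irr h)
  rw [classInner_irr_self h] at h1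
  exact_mod_cast h1.symm

open Classical in
theorem sum_sdiff_deg (hZK : Z ≤ K)
    (hirr : ∀ χ ∈ inducedIrrAbove K ⊥ \ inducedIrrAbove K Z, IsIrrCharacter L χ) :
    ∑ φ ∈ ((induced_finite K ⊥).toFinset \ (induced_finite K Z).toFinset), deg φ ^ 2
      + K.index * Z.relIndex K = K.index * Nat.card K := by
  set A := (induced_finite K ⊥).toFinset with hA
  set B := (induced_finite K Z).toFinset with hB
  have hBA : B ⊆ A := by
    intro φ hφ
    rw [hB, Set.Finite.mem_toFinset] at hφ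
    rw [hA, Set.Finite.mem_toFinset]
    exact induced_mono K bot_le hφ
  have h1 := Finset.sum_sdiff (f := fun φ : L → ℂ => ((deg φ : ℝ) ^ 2 / (nrm φ : ℝ))) hBA
  have h2 : ∑ φ ∈ A \ B, ((deg φ : ℝ) ^ 2 / (nrm φ : ℝ)) = ∑ φ ∈ A \ B, ((deg φ : ℝ) ^ 2) := by
    refine Finset.sum_congr rfl fun φ hφ => ?_
    rw [Finset.mem_sdiff, hA, hB, Set.Finite.mem_toFinset, Set.Finite.mem_toFinset] at hφ
    rw [nrm_eq_one_of_irr (hirr φ ⟨hφ.1, hφ.2⟩), Nat.cast_one, div_one]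
  rw [h2, hA, hB, sum_induced, sum_induced] at h1
  have t1 := sum_theta (K := K) (A := ⊥) bot_le
  have t2 := sum_theta (K := K) (A := Z) hZK
  rw [Subgroup.relIndex_bot_left] at t1
  have t1' : (∑ θ ∈ (thetaSet_finite K ⊥).toFinset, ((dg θ : ℝ)) ^ 2) + 1 = (Nat.card K : ℝ) := by
    exact_mod_cast t1
  have t2' : (∑ θ ∈ (thetaSet_finite K Z).toFinset, ((dg θ : ℝ)) ^ 2) + 1 = (Z.relIndex K : ℝ) := by
    exact_mod_cast t2
  have h3 : ((∑ φ ∈ A \ B, deg φ ^ 2 + K.index * Z.relIndex K : ℕ) : ℝ) =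
      ((K.index * Nat.card K : ℕ) : ℝ) := by
    push_cast
    rw [hA, hB]
    linear_combination h1 + (K.index : ℝ) * t1' - (K.index : ℝ) * t2'
  exact_mod_cast h3

end SetEq

end Cfsg.Agent.Lib.Helper4.PF6
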