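import Mathlib
import Cfsg.Agent.Lib.Helper4.PF6i
import Cfsg.Agent.Lib.Helper8.Deflation

set_option autoImplicit false
set_option linter.unusedSectionVars false
set_option linter.unusedVariables false
set_option maxHeartbeats 1600000

/-!
# Peterfalvi (6.7): coherence in the `p`-group case
-/

namespace Cfsg.Agent.Lib.Helper4.PF6

open Cfsg Cfsg.Agent.Lib.Helper4 Cfsg.Agent.Lib.Helper1 Cfsg.Agent.Lib.Helper4.FrobTI
  Cfsg.Agent.Lib.Helper4.Coh
open scoped ComplexConjugate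

section Numerics

open Classical in
theorem pgroup_sum_bound {ι : Type*} (𝒮 : Finset ι) (b : ι → ℕ) (e p a N : ℕ) (hp : p.Prime)
    (hcop : Nat.Coprime e p) (he : 0 < e)
    (htot : ∑ φ ∈ 𝒮, (e * p ^ b φ) ^ 2 = e * N) (hN : p ^ (2 * a) ∣ N)
    (hT : ∃ φ ∈ 𝒮, b φ < a) :
    e ^ 2 * p ^ (2 * a) ≤ ∑ φ ∈ 𝒮.filter (fun φ => b φ < a), (e * p ^ b φ) ^ 2 := by
  have hsplit := Finset.sum_filter_add_sum_filter_not 𝒮 (fun φ => b φ < a)
    (fun φ => (e * p ^ b φ) ^ 2)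
  set t := ∑ φ ∈ 𝒮.filter (fun φ => b φ < a), (p ^ b φ) ^ 2 with ht
  have h1 : ∑ φ ∈ 𝒮.filter (fun φ => b φ < a), (e * p ^ b φ) ^ 2 = e ^ 2 * t := by
    rw [ht, Finset.mul_sum]
    refine Finset.sum_congr rfl fun φ _ => ?_
    rw [mul_pow]
  have h2 : e ^ 2 * p ^ (2 * a) ∣ ∑ φ ∈ 𝒮.filter (fun φ => ¬ b φ < a), (e * p ^ b φ) ^ 2 := by
    apply Finset.dvd_sum
    intro φ hφ
    rw [Finset.mem_filter] at hφ
    have hle : a ≤ b φ := Nat.le_of_not_lt hφ.2
    rw [mul_pow, ← pow_mul, mul_comm (b φ) 2]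
    exact Nat.mul_dvd_mul_left _ (pow_dvd_pow p (by omega))
  obtain ⟨r, hr⟩ := h2
  rw [h1, hr, htot] at hsplit
  -- `p ^ (2a) ∣ e² t`
  have h3 : p ^ (2 * a) ∣ e ^ 2 * t := by
    have h4 : p ^ (2 * a) ∣ e * N := Dvd.dvd.mul_left hN e
    have h5 : p ^ (2 * a) ∣ e ^ 2 * p ^ (2 * a) * r := ⟨e ^ 2 * r, by ring⟩
    rw [← hsplit] at h4
    exact (Nat.dvd_add_left h5).mp h4
  have h6 : Nat.Coprime (p ^ (2 * a)) (e ^ 2) :=
    Nat.Coprime.pow _ _ hcop.symm
  have h7 : p ^ (2 * a) ∣ t := h6.dvd_of_dvd_mul_left h3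
  have htpos : 0 < t := by
    obtain ⟨φ, hφ, hφa⟩ := hT
    rw [ht]
    apply Finset.sum_pos'
    · intro i _; positivity
    · exact ⟨φ, Finset.mem_filter.mpr ⟨hφ, hφa⟩, by
        have := hp.pos
        positivity⟩
  rw [h1]
  exact Nat.mul_le_mul_left _ (Nat.le_of_dvd htpos h7)

end Numerics

section Main

variable {L : Type*} [Group L] [Fintype L] {G : Type*} [Group G] [Fintype G]

theorem deg_conjFun_of_irr {φ : L → ℂ} (h : IsIrrCharacter L φ) : deg (conjFun φ) = deg φ := by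
  have h1 := deg_spec h
  have h2 : IsIrrCharacter L (conjFun φ) := isIrrCharacter_conj h
  have h3 := deg_spec h2
  have h4 : conjFun φ 1 = conj (φ 1) := rfl
  rw [h4, h1, Complex.conj_natCast] at h3
  exact_mod_cast h3.symm

theorem dg_dvd_card {X : Type*} [Group X] [Finite X] {θ : X → ℂ} (hθ : IsIrrCharacter X θ) :
    dg θ ∣ Nat.card X := by
  have h1 := Cfsg.Agent.Lib.Helper8.charDegree_dvd_card hθ
  have h2 : Cfsg.charDegree θ = dg θ := by
    unfold Cfsg.charDegree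
    rw [dg_spec hθ]
    simp
  rwa [h2] at h1

variable {K Z : Subgroup L} [hK : K.Normal] [hZ : Z.Normal]

theorem sdiff_conj {φ : L → ℂ} (hφ : φ ∈ inducedIrrAbove K ⊥ \ inducedIrrAbove K Z) :
    conjFun φ ∈ inducedIrrAbove K ⊥ \ inducedIrrAbove K Z := by
  refine ⟨conjFun_mem_induced hφ.1, ?_⟩
  intro h
  apply hφ.2
  have := conjFun_mem_induced h
  rwa [conjFun_conjFun] at this

theorem card_eq_card_mul_relIndex (hZK : Z ≤ K) : Nat.card K = Nat.card Z * Z.relIndex K := by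
  have h := Subgroup.relIndex_mul_relIndex ⊥ Z K bot_le hZK
  rw [Subgroup.relIndex_bot_left, Subgroup.relIndex_bot_left] at h
  exact h.symm

theorem sdiff_nonempty (hZ1 : Z ≠ ⊥) (hZK : Z ≤ K)
    (hirr : ∀ χ ∈ inducedIrrAbove K ⊥ \ inducedIrrAbove K Z, IsIrrCharacter L χ) :
    (inducedIrrAbove K ⊥ \ inducedIrrAbove K Z).Nonempty := by
  classical
  by_contra hne
  rw [Set.not_nonempty_iff_eq_empty] at hne
  have h1 := sum_sdiff_deg hZK hirr
  have hem : (induced_finite K ⊥).toFinset \ (induced_finite K Z).toFinset = ∅ := by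
    rw [← Finset.coe_eq_empty, Finset.coe_sdiff, Set.Finite.coe_toFinset, Set.Finite.coe_toFinset]
    exact hne
  rw [hem, Finset.sum_empty, zero_add] at h1
  have he0 : 0 < K.index := Nat.pos_of_ne_zero Subgroup.index_ne_zero_of_finite
  have h2 : Z.relIndex K = Nat.card K := Nat.eq_of_mul_eq_mul_left he0 h1
  have h3 := card_eq_card_mul_relIndex hZK
  rw [← h2] at h3
  have h4 : 0 < Z.relIndex K := Nat.pos_of_ne_zero Subgroup.index_ne_zero_of_finite
  have h5 : Nat.card Z = 1 := by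
    have : 1 * Z.relIndex K = Nat.card Z * Z.relIndex K := by rw [one_mul]; exact h3
    exact (Nat.eq_of_mul_eq_mul_right h4 this).symm
  exact hZ1 (Subgroup.card_eq_one.mp h5)

theorem coherent_pgroup (τ : (L → ℂ) → (G → ℂ)) (R : (L → ℂ) → Finset (G → ℂ))
    (hS : IsCoherenceSystem (inducedIrrAbove K ⊥) τ R)
    (hZ1 : Z ≠ ⊥) (hZK : Z ≤ K) (hZc : ∀ z ∈ Z, ∀ k ∈ K, z * k = k * z)
    (hirr : ∀ χ ∈ inducedIrrAbove K ⊥ \ inducedIrrAbove K Z, IsIrrCharacter L χ)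
    (p m : ℕ) (hp : p.Prime) (hp3 : 3 ≤ p) (hcard : Nat.card K = p ^ m)
    (hcop : Nat.Coprime K.index p) :
    IsCoherent (inducedIrrAbove K ⊥ \ inducedIrrAbove K Z) {1}ᶜ τ := by
  classical
  set e := K.index with he
  have he0 : 0 < e := Nat.pos_of_ne_zero Subgroup.index_ne_zero_of_finite
  set 𝒮 := (induced_finite K ⊥).toFinset \ (induced_finite K Z).toFinset with h𝒮
  have hcoe : (↑𝒮 : Set (L → ℂ)) = inducedIrrAbove K ⊥ \ inducedIrrAbove K Z := by
    rw [h𝒮, Finset.coe_sdiff, Set.Finite.coe_toFinset, Set.Finite.coe_toFinset]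
  have hmem : ∀ φ, φ ∈ 𝒮 ↔ φ ∈ inducedIrrAbove K ⊥ \ inducedIrrAbove K Z := by
    intro φ; rw [← hcoe]; exact Iff.rfl
  have hzr : ∃ c', Z.relIndex K = p ^ c' := by
    have h1 : Z.relIndex K ∣ Nat.card K := Subgroup.relIndex_dvd_card Z K
    rw [hcard] at h1
    obtain ⟨c', -, hc'⟩ := (Nat.dvd_prime_pow hp).mp h1
    exact ⟨c', hc'⟩
  obtain ⟨c', hc'⟩ := hzr
  -- the exponent
  let b : (L → ℂ) → ℕ := fun φ => Nat.log p (deg φ / e)
  have hb : ∀ φ ∈ 𝒮, deg φ = e * p ^ b φ ∧ p ^ (2 * b φ) ∣ Z.relIndex K := by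
    intro φ hφ
    obtain ⟨θ, hθ, ⟨z, hzZ, hz⟩, rfl⟩ := (mem_sdiff_iff hZK).mp ((hmem φ).mp hφ)
    have h1 := deg_induced (K := K) hθ
    have h2 := dg_dvd_card hθ
    rw [hcard] at h2
    obtain ⟨c, hcm, hc⟩ := (Nat.dvd_prime_pow hp).mp h2
    have hbφ : b (indFun K θ) = c := by
      show Nat.log p (deg (indFun K θ) / e) = c
      rw [h1, hc, Nat.mul_div_cancel_left _ he0, Nat.log_pow hp.one_lt]
    refine ⟨by rw [hbφ, h1, hc], ?_⟩
    rw [hbφ]
    have hne : θ ≠ fun _ => 1 := by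
      intro h; apply hz; rw [h]
    have hθ' : θ ∈ ThetaSet K ⊥ := by
      refine ⟨hθ, hne, ?_⟩
      intro a ha
      rw [Subgroup.mem_bot] at ha
      have : a = 1 := Subtype.ext ha
      rw [this]
    have h3 := degree_bound (K := K) (B := ⊥) (C := K) (D := Z) bot_le hZK le_rfl
      (fun x hx y hy => by
        rw [Subgroup.mem_bot, hZc x hx y hy]
        group) hθ'
    rw [hc, hc'] at h3
    have h4 : (2 * K.index * p ^ c) ^ 2 = 4 * K.index ^ 2 * (p ^ c) ^ 2 := by ring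
    rw [h4] at h3
    have h5 : (p ^ c) ^ 2 ≤ p ^ c' := by
      have h6 : 0 < 4 * K.index ^ 2 := by positivity
      exact Nat.le_of_mul_le_mul_left h3 h6
    rw [← pow_mul, Nat.pow_le_pow_iff_right hp.one_lt] at h5
    rw [hc']
    exact pow_dvd_pow p (by omega)
  have htot : ∑ φ ∈ 𝒮, (e * p ^ b φ) ^ 2 = e * (Nat.card K - Z.relIndex K) := by
    have h1 : ∑ φ ∈ 𝒮, deg φ ^ 2 + e * Z.relIndex K = e * Nat.card K := sum_sdiff_deg hZK hirr
    have h2 : ∑ φ ∈ 𝒮, (e * p ^ b φ) ^ 2 = ∑ φ ∈ 𝒮, deg φ ^ 2 :=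
      Finset.sum_congr rfl (fun φ hφ => by rw [(hb φ hφ).1])
    rw [h2, Nat.mul_sub]
    omega
  have hzrdvd : Z.relIndex K ∣ Nat.card K - Z.relIndex K :=
    Nat.dvd_sub (Subgroup.relIndex_dvd_card Z K) dvd_rfl
  have hconj𝒮 : ∀ φ ∈ 𝒮, conjFun φ ∈ 𝒮 ∧ b (conjFun φ) = b φ := by
    intro φ hφ
    have h1 := (hmem φ).mp hφ
    refine ⟨(hmem _).mpr (sdiff_conj h1), ?_⟩
    show Nat.log p (deg (conjFun φ) / e) = Nat.log p (deg φ / e)
    rw [deg_conjFun_of_irr (hirr φ h1)]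
  have h𝒮S : ∀ φ ∈ 𝒮, φ ∈ inducedIrrAbove K ⊥ := fun φ hφ => ((hmem φ).mp hφ).1
  have hdegC : ∀ φ ∈ 𝒮, φ 1 = (deg φ : ℂ) := fun φ hφ => deg_spec (hirr φ ((hmem φ).mp hφ))
  have key : ∀ n : ℕ, 𝒮.filter (fun φ => b φ < n) = ∅ ∨
      IsCoherent (↑(𝒮.filter (fun φ => b φ < n)) : Set (L → ℂ)) {1}ᶜ τ := by
    intro n
    induction n with
    | zero => left; simp
    | succ n ih =>
      set T := 𝒮.filter (fun φ => b φ < n) with hT
      set U := 𝒮.filter (fun φ => b φ = n) with hU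
      have hTU : 𝒮.filter (fun φ => b φ < n + 1) = T ∪ U := by
        ext φ
        simp only [Finset.mem_filter, Finset.mem_union, hT, hU]
        constructor
        · rintro ⟨h1, h2⟩
          rcases Nat.lt_succ_iff_lt_or_eq.mp h2 with h | h
          · left; exact ⟨h1, h⟩
          · right; exact ⟨h1, h⟩
        · rintro (⟨h1, h2⟩ | ⟨h1, h2⟩)
          · exact ⟨h1, by omega⟩
          · exact ⟨h1, by omega⟩
      rw [hTU]
      by_cases hUe : U = ∅
      · rw [hUe, Finset.union_empty]; exact ih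
      right
      have hUS : (↑U : Set (L → ℂ)) ⊆ inducedIrrAbove K ⊥ := by
        intro φ hφ
        exact h𝒮S φ (Finset.mem_filter.mp hφ).1
      have hUc : ∀ φ ∈ U, conjFun φ ∈ U := by
        intro φ hφ
        rw [hU, Finset.mem_filter] at hφ ⊢
        exact ⟨(hconj𝒮 φ hφ.1).1, by rw [(hconj𝒮 φ hφ.1).2]; exact hφ.2⟩
      have hTS : (↑T : Set (L → ℂ)) ⊆ inducedIrrAbove K ⊥ := by
        intro φ hφ
        exact h𝒮S φ (Finset.mem_filter.mp hφ).1
      have hTc : ∀ φ ∈ T, conjFun φ ∈ T := by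
        intro φ hφ
        rw [hT, Finset.mem_filter] at hφ ⊢
        exact ⟨(hconj𝒮 φ hφ.1).1, by rw [(hconj𝒮 φ hφ.1).2]; exact hφ.2⟩
      by_cases hTe : T = ∅
      · rw [hTe, Finset.empty_union]
        apply coherent_of_deg_eq hS hUS
          (Finset.coe_nonempty.mpr (Finset.nonempty_iff_ne_empty.mpr hUe)) hUc
        intro φ hφ ψ hψ
        have hφ' := Finset.mem_filter.mp (Finset.mem_coe.mp hφ)
        have hψ' := Finset.mem_filter.mp (Finset.mem_coe.mp hψ)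
        rw [hdegC φ hφ'.1, hdegC ψ hψ'.1, (hb φ hφ'.1).1, (hb ψ hψ'.1).1, hφ'.2, hψ'.2]
      · rcases ih with h | hcohT
        · exact absurd h hTe
        obtain ⟨χ₁, hχ₁⟩ := Finset.nonempty_iff_ne_empty.mpr hTe
        have hχ₁' := Finset.mem_filter.mp hχ₁
        have hcu := coherent_union hS T U hTS hTc hcohT hUS hUc χ₁ hχ₁ ?_
        · exact hcu
        intro χ hχ
        have hχ' := Finset.mem_filter.mp hχ
        have d1 : deg χ = e * p ^ n := by rw [(hb χ hχ'.1).1, hχ'.2]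
        have d2 : deg χ₁ = e * p ^ b χ₁ := (hb χ₁ hχ₁'.1).1
        refine ⟨?_, ?_⟩
        · rw [d1, d2]
          exact Nat.mul_dvd_mul_left e (pow_dvd_pow p hχ₁'.2.le)
        · have hN : p ^ (2 * n) ∣ Nat.card K - Z.relIndex K := by
            have := (hb χ hχ'.1).2
            rw [hχ'.2] at this
            exact this.trans hzrdvd
          have hbound := pgroup_sum_bound 𝒮 b e p n _ hp hcop he0 htot hN ⟨χ₁, hχ₁'.1, hχ₁'.2⟩
          have hsum : ∑ φ ∈ T, ((deg φ : ℝ) ^ 2 / (nrm φ : ℝ)) =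
              ((∑ φ ∈ 𝒮.filter (fun φ => b φ < n), (e * p ^ b φ) ^ 2 : ℕ) : ℝ) := by
            rw [Nat.cast_sum]
            refine Finset.sum_congr rfl fun φ hφ => ?_
            have hφ' := Finset.mem_filter.mp hφ
            rw [nrm_eq_one_of_irr (hirr φ ((hmem φ).mp hφ'.1)), Nat.cast_one, div_one,
              (hb φ hφ'.1).1]
            push_cast
            ring
          rw [hsum, d1, d2]
          have hpow : 3 * p ^ b χ₁ ≤ p ^ n := by
            calc 3 * p ^ b χ₁ ≤ p * p ^ b χ₁ := Nat.mul_le_mul_right _ hp3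
              _ = p ^ (b χ₁ + 1) := by ring
              _ ≤ p ^ n := Nat.pow_le_pow_right hp.pos hχ₁'.2
          have hpos : 0 < p ^ b χ₁ := pow_pos hp.pos _
          have hlt : 2 * (e * p ^ n) * (e * p ^ b χ₁) < e ^ 2 * p ^ (2 * n) := by
            have e1 : 2 * (e * p ^ n) * (e * p ^ b χ₁) = e ^ 2 * p ^ n * (2 * p ^ b χ₁) := by ring
            have e2 : e ^ 2 * p ^ (2 * n) = e ^ 2 * p ^ n * p ^ n := by
              rw [two_mul, pow_add]; ring
            rw [e1, e2]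
            apply Nat.mul_lt_mul_of_pos_left
            · omega
            · have := pow_pos hp.pos n
              positivity
          have hfin : 2 * (e * p ^ n) * (e * p ^ b χ₁) <
              ∑ φ ∈ 𝒮.filter (fun φ => b φ < n), (e * p ^ b φ) ^ 2 := lt_of_lt_of_le hlt hbound
          exact_mod_cast hfin
  have hne : 𝒮.Nonempty := by
    rw [← Finset.coe_nonempty, hcoe]
    exact sdiff_nonempty hZ1 hZK hirr
  have hall : 𝒮.filter (fun φ => b φ < 𝒮.sup b + 1) = 𝒮 := by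
    apply Finset.filter_true_of_mem
    intro φ hφ
    exact Nat.lt_succ_of_le (Finset.le_sup hφ)
  rcases key (𝒮.sup b + 1) with h | h
  · rw [hall] at h
    exact absurd h (Finset.nonempty_iff_ne_empty.mp hne)
  · rw [hall, hcoe] at h
    exact h

end Main

end Cfsg.Agent.Lib.Helper4.PF6
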