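import Mathlib
import Cfsg.Agent.Lib.Helper4.Coh9
import Cfsg.Agent.Lib.Helper2.Exceptional

set_option autoImplicit false
set_option linter.unusedSectionVars false
set_option linter.unusedVariables false
set_option maxHeartbeats 1600000

/-!
# Coherence for sets of irreducible characters (no complex-conjugation hypotheses)

* `feit_insert`: Feit's criterion for adjoining one irreducible character;
* `coherent_union_irr`: adjoining a finite set of irreducible characters;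
* `coherent_same_degree`: a set of at least two irreducible characters of equal degree is coherent.
-/

namespace Cfsg.Agent.Lib.Helper4.PF7

open Cfsg Cfsg.Agent.Lib.Helper1 Cfsg.Agent.Lib.Helper4 Cfsg.Agent.Lib.Helper4.Coh
open scoped ComplexConjugate

section General

variable {L : Type*} [Group L] [Fintype L] {G : Type*} [Group G] [Fintype G]

theorem feit_insert (S₀ : Finset (L → ℂ)) (χ : L → ℂ)
    (hirr : ∀ ξ ∈ S₀, Cfsg.IsIrrCharacter L ξ) (hχ : Cfsg.IsIrrCharacter L χ) (hχS : χ ∉ S₀)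
    (d : (L → ℂ) → ℕ) (hd : ∀ ξ ∈ insert χ S₀, ξ 1 = (d ξ : ℂ)) (τ : (L → ℂ) → (G → ℂ))
    (hτ : Cfsg.IsLinearIsometryOn (Cfsg.zspanOn (↑(insert χ S₀) : Set (L → ℂ)) {1}ᶜ) τ)
    (hτ1 : ∀ α ∈ Cfsg.zspanOn (↑(insert χ S₀) : Set (L → ℂ)) {1}ᶜ, τ α 1 = 0)
    (hcoh : Cfsg.IsCoherent (↑S₀ : Set (L → ℂ)) {1}ᶜ τ) (ψ : L → ℂ) (hψ : ψ ∈ S₀)
    (hdvd : d ψ ∣ d χ) (hlt : 2 * d ψ * d χ < ∑ ξ ∈ S₀, d ξ ^ 2) :
    Cfsg.IsCoherent (↑(insert χ S₀) : Set (L → ℂ)) {1}ᶜ τ := by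
  classical
  obtain ⟨-, τ₁, hτ₁, hagree⟩ := hcoh
  obtain ⟨a, ha⟩ := hdvd
  obtain ⟨Y, hYg, hYe, hYY, hYφ⟩ :=
    feit_main S₀ χ hirr hχ hχS d hd τ hτ hτ1 hτ₁ hagree hψ ha hlt
  have hsub : (↑S₀ : Set (L → ℂ)) ⊆ ↑(insert χ S₀) :=
    Finset.coe_subset.2 (Finset.subset_insert χ S₀)
  have hd' : ∀ φ ∈ (↑(insert χ S₀) : Set (L → ℂ)), φ 1 = (d φ : ℂ) := fun φ hφ =>
    hd φ (Finset.mem_coe.1 hφ)
  have hχF : χ ∈ (↑(insert χ S₀) : Set (L → ℂ)) := Finset.mem_coe.2 (Finset.mem_insert_self _ _)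
  have hψF : ψ ∈ (↑(insert χ S₀) : Set (L → ℂ)) := hsub hψ
  have hirrF : ∀ ξ ∈ (↑(insert χ S₀) : Set (L → ℂ)), Cfsg.IsIrrCharacter L ξ := by
    intro ξ hξ
    rw [Finset.mem_coe, Finset.mem_insert] at hξ
    rcases hξ with rfl | hξ
    · exact hχ
    · exact hirr ξ hξ
  have hFo : OrthoSet (↑(insert χ S₀) : Set (L → ℂ)) := orthoSet_of_irr hirrF
  have hβ₀m := feit_beta0_mem d hd' hχF hψF ha
  set T : (L → ℂ) → (G → ℂ) := fun φ => if φ = χ then Y else τ₁ φ with hT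
  have hTχ : T χ = Y := if_pos rfl
  have hTφ : ∀ φ ∈ S₀, T φ = τ₁ φ := by
    intro φ hφ
    have h1 : φ ≠ χ := fun h => hχS (h ▸ hφ)
    show (if φ = χ then Y else τ₁ φ) = _
    rw [if_neg h1]
  have hT1 : ∀ φ ∈ insert χ S₀, ∀ η ∈ insert χ S₀,
      Cfsg.classInner (T φ) (T η) = Cfsg.classInner φ η := by
    intro φ hφ η hη
    rw [Finset.mem_insert] at hφ hη
    rcases hφ with rfl | hφ <;> rcases hη with rfl | hη
    · rw [hTχ, hYY, classInner_irr_self hχ]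
    · rw [hTχ, hTφ η hη, hYφ η hη,
        classInner_irr_ne hχ (hirr η hη) (fun h => hχS (h ▸ hη))]
    · rw [hTχ, hTφ φ hφ, classInner_eq_zero_symm (hYφ φ hφ),
        classInner_irr_ne (hirr φ hφ) hχ (fun h => hχS (h ▸ hφ))]
    · rw [hTφ φ hφ, hTφ η hη,
        lio_inner hτ₁ (mem_zspan_of_mem hφ) (mem_zspan_of_mem hη)]
  have hT2 : ∀ φ ∈ insert χ S₀, Cfsg.IsGeneralizedCharacter G (T φ) := by
    intro φ hφ
    rw [Finset.mem_insert] at hφ
    rcases hφ with rfl | hφ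
    · rw [hTχ]; exact hYg
    · rw [hTφ φ hφ]
      exact lio_genChar hτ₁ (mem_zspan_of_mem hφ)
  refine ⟨⟨χ - (a : ℤ) • ψ, hβ₀m, ?_⟩, extend (insert χ S₀) T, ?_, ?_⟩
  · intro h
    have h1 : Cfsg.classInner (χ - (a : ℤ) • ψ) χ = 1 := by
      rw [classInner_sub_left, classInner_zsmul_left, classInner_irr_self hχ,
        classInner_irr_ne (hirr ψ hψ) hχ (fun h => hχS (h ▸ hψ))]
      ring
    rw [h, classInner_zero_left] at h1
    exact zero_ne_one h1
  · exact extend_isometry (insert χ S₀) hFo T hT1 hT2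
  · intro α hα
    obtain ⟨c, rfl⟩ := exists_coeff (insert χ S₀) hα.1
    rw [extend_sum_zsmul (insert χ S₀) hFo]
    rw [Finset.sum_insert hχS, Finset.sum_insert hχS, hTχ]
    set x := c χ with hx
    set β : L → ℂ := ∑ φ ∈ S₀, c φ • φ with hβ
    have hβm : β ∈ Cfsg.zspan (↑S₀ : Set (L → ℂ)) := sum_zsmul_mem_zspan S₀ c
    have hsumT : ∑ φ ∈ S₀, c φ • T φ = τ₁ β := by
      rw [hβ, lio_sum_zsmul' hτ₁ S₀ c (fun φ => φ) (fun φ hφ => mem_zspan_of_mem hφ)]
      exact Finset.sum_congr rfl fun φ hφ => by rw [hTφ φ hφ]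
    rw [hsumT]
    have hα1 : (x • χ + β) 1 = 0 := by
      have := hα.2 1 (by simp)
      rw [Finset.sum_insert hχS] at this
      exact this
    set γ : L → ℂ := β + (x * a) • ψ with hγ
    have hγm : γ ∈ Cfsg.zspanOn (↑S₀ : Set (L → ℂ)) {1}ᶜ := by
      refine ⟨zspan_add hβm (zspan_zsmul _ (mem_zspan_of_mem hψ)), ?_⟩
      intro z hz
      have : z = 1 := by
        by_contra h
        exact hz h
      rw [this, hγ]
      simp only [Pi.add_apply, Pi.smul_apply] at hα1 ⊢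
      rw [hd' χ hχF, ha] at hα1
      rw [hd' ψ hψF]
      simp only [zsmul_eq_mul] at hα1 ⊢
      push_cast at hα1 ⊢
      linear_combination hα1
    have hdec : x • χ + β = x • (χ - (a : ℤ) • ψ) + γ := by
      rw [hγ]
      funext z
      simp only [Pi.add_apply, Pi.smul_apply, Pi.sub_apply]
      simp only [zsmul_eq_mul]
      push_cast
      ring
    have hγm' : γ ∈ Cfsg.zspanOn (↑(insert χ S₀) : Set (L → ℂ)) {1}ᶜ := zspanOn_mono hsub hγm
    rw [hdec, lio_add hτ (zspanOn_zsmul _ hβ₀m) hγm', lio_zsmul hτ hβ₀m, ← hagree γ hγm, hγ,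
      lio_add hτ₁ hβm (zspan_zsmul _ (mem_zspan_of_mem hψ)),
      lio_zsmul hτ₁ (mem_zspan_of_mem hψ), hYe]
    funext z
    simp only [Pi.add_apply, Pi.smul_apply, Pi.sub_apply]
    simp only [zsmul_eq_mul]
    push_cast
    ring


theorem lio_on_zero {S : Set (L → ℂ)} {A : Set L} {τ : (L → ℂ) → (G → ℂ)}
    (h : IsLinearIsometryOn (zspanOn S A) τ) : τ 0 = 0 := by
  have h0 : (0 : L → ℂ) ∈ zspanOn S A := ⟨zspan_zero, fun x _ => rfl⟩
  have := lio_zsmul h h0 (n := 0)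
  rwa [zero_smul, zero_smul] at this

theorem lio_on_sum_zsmul {S : Set (L → ℂ)} {A : Set L} {τ : (L → ℂ) → (G → ℂ)}
    (h : IsLinearIsometryOn (zspanOn S A) τ) {ι : Type*} (s : Finset ι)
    (c : ι → ℤ) (f : ι → L → ℂ) (hf : ∀ i ∈ s, f i ∈ zspanOn S A) :
    τ (∑ i ∈ s, c i • f i) = ∑ i ∈ s, c i • τ (f i) := by
  classical
  induction s using Finset.induction_on with
  | empty => rw [Finset.sum_empty, Finset.sum_empty]; exact lio_on_zero h
  | insert a s ha ih =>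
    have hmem : ∑ i ∈ s, c i • f i ∈ zspanOn S A := by
      have : ∀ t : Finset ι, (∀ i ∈ t, f i ∈ zspanOn S A) → ∑ i ∈ t, c i • f i ∈ zspanOn S A := by
        intro t
        induction t using Finset.induction_on with
        | empty => intro _; rw [Finset.sum_empty]; exact ⟨zspan_zero, fun x _ => rfl⟩
        | insert b t hb iht =>
          intro hft
          rw [Finset.sum_insert hb]
          exact zspanOn_add (zspanOn_zsmul _ (hft b (Finset.mem_insert_self b t)))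
            (iht fun i hi => hft i (Finset.mem_insert_of_mem hi))
      exact this s fun i hi => hf i (Finset.mem_insert_of_mem hi)
    rw [Finset.sum_insert ha, Finset.sum_insert ha,
      lio_add h (zspanOn_zsmul _ (hf a (Finset.mem_insert_self a s))) hmem,
      lio_zsmul h (hf a (Finset.mem_insert_self a s)),
      ih fun i hi => hf i (Finset.mem_insert_of_mem hi)]

/-- a subset of a coherent set of characters is coherent, if it carries a nonzero
combination vanishing at `1` -/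
theorem coherent_subset_irr {S T : Set (L → ℂ)} {τ : (L → ℂ) → (G → ℂ)} (hTS : T ⊆ S)
    (hne : ∃ α ∈ zspanOn T ({1}ᶜ : Set L), α ≠ 0) (hcoh : IsCoherent S {1}ᶜ τ) :
    IsCoherent T {1}ᶜ τ := by
  obtain ⟨-, τ₁, hτ₁, hag⟩ := hcoh
  exact ⟨hne, τ₁, lio_mono hτ₁ (zspan_mono hTS), fun α hα => hag α (zspanOn_mono hTS hα)⟩

open Classical in
/-- adjoining a finite set of irreducible characters to a coherent set -/
theorem coherent_union_irr {S : Set (L → ℂ)} (hirr : ∀ χ ∈ S, IsIrrCharacter L χ)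
    (τ : (L → ℂ) → (G → ℂ)) (hτ : IsLinearIsometryOn (zspanOn S {1}ᶜ) τ)
    (hτ1 : ∀ α ∈ zspanOn S ({1}ᶜ : Set L), τ α 1 = 0)
    (S₀ U : Finset (L → ℂ)) (hS₀ : (↑S₀ : Set (L → ℂ)) ⊆ S)
    (hcoh : IsCoherent (↑S₀ : Set (L → ℂ)) {1}ᶜ τ) (hU : (↑U : Set (L → ℂ)) ⊆ S)
    (χ₁ : L → ℂ) (hχ₁ : χ₁ ∈ S₀)
    (hnum : ∀ χ ∈ U, deg χ₁ ∣ deg χ ∧ 2 * deg χ₁ * deg χ < ∑ φ ∈ S₀, deg φ ^ 2) :
    IsCoherent (↑(S₀ ∪ U) : Set (L → ℂ)) {1}ᶜ τ := by
  induction U using Finset.induction_on with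
  | empty => rw [Finset.union_empty]; exact hcoh
  | insert χ U' hχU' ih =>
    have hU' : (↑U' : Set (L → ℂ)) ⊆ S := fun x hx => hU (by
      rw [Finset.mem_coe] at hx ⊢
      exact Finset.mem_insert_of_mem hx)
    have ih' := ih hU' (fun χ' hχ' => hnum χ' (Finset.mem_insert_of_mem hχ'))
    have heq : S₀ ∪ insert χ U' = insert χ (S₀ ∪ U') := by
      rw [Finset.union_insert]
    rw [heq]
    by_cases hmem : χ ∈ S₀ ∪ U'
    · rw [Finset.insert_eq_of_mem hmem]; exact ih'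
    · have hχS : χ ∈ S := hU (by rw [Finset.mem_coe]; exact Finset.mem_insert_self _ _)
      have hsubS : (↑(insert χ (S₀ ∪ U')) : Set (L → ℂ)) ⊆ S := by
        intro x hx
        rw [Finset.mem_coe, Finset.mem_insert, Finset.mem_union] at hx
        rcases hx with rfl | hx | hx
        · exact hχS
        · exact hS₀ hx
        · exact hU' hx
      have hsub0 : (↑(S₀ ∪ U') : Set (L → ℂ)) ⊆ S := fun x hx =>
        hsubS (by rw [Finset.mem_coe] at hx ⊢; exact Finset.mem_insert_of_mem hx)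
      obtain ⟨hd1, hd2⟩ := hnum χ (Finset.mem_insert_self _ _)
      apply feit_insert (S₀ ∪ U') χ (fun ξ hξ => hirr ξ (hsub0 hξ)) (hirr χ hχS) hmem deg
        (fun ξ hξ => deg_spec (hirr ξ (hsubS hξ))) τ (lio_mono hτ (zspanOn_mono hsubS))
        (fun α hα => hτ1 α (zspanOn_mono hsubS hα)) ih' χ₁ (Finset.mem_union_left _ hχ₁) hd1
      calc 2 * deg χ₁ * deg χ < ∑ φ ∈ S₀, deg φ ^ 2 := hd2
        _ ≤ ∑ φ ∈ S₀ ∪ U', deg φ ^ 2 :=
          Finset.sum_le_sum_of_subset Finset.subset_union_left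

open Classical in
/-- a set of at least two irreducible characters of the same degree is coherent -/
theorem coherent_same_degree (F : Finset (L → ℂ)) (hirr : ∀ χ ∈ F, IsIrrCharacter L χ)
    (h2 : ∃ a ∈ F, ∃ b ∈ F, a ≠ b) (d : ℕ) (hdeg : ∀ χ ∈ F, χ 1 = (d : ℂ))
    (τ : (L → ℂ) → (G → ℂ))
    (hτ : IsLinearIsometryOn (zspanOn (↑F : Set (L → ℂ)) {1}ᶜ) τ)
    (hτ1 : ∀ α ∈ zspanOn (↑F : Set (L → ℂ)) ({1}ᶜ : Set L), τ α 1 = 0) :
    IsCoherent (↑F : Set (L → ℂ)) {1}ᶜ τ := by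
  have hFo : OrthoSet (↑F : Set (L → ℂ)) := orthoSet_of_irr (fun ξ hξ => hirr ξ hξ)
  have hdiff : ∀ a ∈ F, ∀ b ∈ F, a - b ∈ zspanOn (↑F : Set (L → ℂ)) ({1}ᶜ : Set L) := by
    intro a ha b hb
    refine ⟨zspan_sub (mem_zspan_of_mem ha) (mem_zspan_of_mem hb), ?_⟩
    intro x hx
    have hx1 : x = 1 := by
      by_contra h
      exact hx h
    rw [hx1, Pi.sub_apply, hdeg a ha, hdeg b hb, sub_self]
  have hd0 : d ≠ 0 := by
    obtain ⟨a, ha, -⟩ := h2
    intro h0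
    have := deg_pos (hirr a ha)
    have h3 := deg_spec (hirr a ha)
    rw [hdeg a ha, h0] at h3
    have : deg a = 0 := by exact_mod_cast h3.symm
    omega
  -- the exceptional system
  set v : ↥F → ↥F → G → ℂ := fun i j => τ (i.1 - j.1) with hv
  have hsys : Cfsg.Agent.Lib.Helper2.Exceptional.Sys v := by
    refine ⟨?_, ?_, ?_, ?_, ?_⟩
    · intro i j
      exact lio_genChar hτ (hdiff i.1 i.2 j.1 j.2)
    · intro i j
      exact hτ1 _ (hdiff i.1 i.2 j.1 j.2)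
    · intro i j k
      show τ (i.1 - j.1) + τ (j.1 - k.1) = τ (i.1 - k.1)
      rw [← lio_add hτ (hdiff i.1 i.2 j.1 j.2) (hdiff j.1 j.2 k.1 k.2)]
      congr 1
      abel
    · intro i j hij
      show classInner (τ (i.1 - j.1)) (τ (i.1 - j.1)) = 2
      have hne : i.1 ≠ j.1 := fun h => hij (Subtype.ext h)
      rw [lio_inner hτ (hdiff i.1 i.2 j.1 j.2) (hdiff i.1 i.2 j.1 j.2),
        classInner_sub_left, classInner_sub_right, classInner_sub_right,
        classInner_irr_self (hirr i.1 i.2), classInner_irr_self (hirr j.1 j.2),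
        classInner_irr_ne (hirr i.1 i.2) (hirr j.1 j.2) hne,
        classInner_irr_ne (hirr j.1 j.2) (hirr i.1 i.2) hne.symm]
      norm_num
    · intro i j k hij hik hjk
      show classInner (τ (i.1 - j.1)) (τ (i.1 - k.1)) = 1
      have hne1 : i.1 ≠ j.1 := fun h => hij (Subtype.ext h)
      have hne2 : i.1 ≠ k.1 := fun h => hik (Subtype.ext h)
      have hne3 : j.1 ≠ k.1 := fun h => hjk (Subtype.ext h)
      rw [lio_inner hτ (hdiff i.1 i.2 j.1 j.2) (hdiff i.1 i.2 k.1 k.2),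
        classInner_sub_left, classInner_sub_right, classInner_sub_right,
        classInner_irr_self (hirr i.1 i.2),
        classInner_irr_ne (hirr i.1 i.2) (hirr k.1 k.2) hne2,
        classInner_irr_ne (hirr j.1 j.2) (hirr i.1 i.2) hne1.symm,
        classInner_irr_ne (hirr j.1 j.2) (hirr k.1 k.2) hne3]
      norm_num
  obtain ⟨ε, hε, f, hf, hvf⟩ := hsys.main
  have hεε : ε * conj ε = 1 := by
    rcases hε with rfl | rfl <;> simp
  set T : (L → ℂ) → (G → ℂ) := fun φ => if h : φ ∈ F then ε • (f ⟨φ, h⟩ : G → ℂ) else 0 with hT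
  have hTmem : ∀ φ (h : φ ∈ F), T φ = ε • (f ⟨φ, h⟩ : G → ℂ) := fun φ h => dif_pos h
  have hT1 : ∀ φ ∈ F, ∀ ψ ∈ F, classInner (T φ) (T ψ) = classInner φ ψ := by
    intro φ hφ ψ hψ
    rw [hTmem φ hφ, hTmem ψ hψ, classInner_smul_left, classInner_smul_right, ← mul_assoc, hεε,
      one_mul]
    by_cases hφψ : φ = ψ
    · subst hφψ
      rw [classInner_irr_self (f ⟨φ, hφ⟩).2, classInner_irr_self (hirr φ hφ)]
    · have hfne : (f ⟨φ, hφ⟩ : G → ℂ) ≠ (f ⟨ψ, hψ⟩ : G → ℂ) := by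
        intro h
        apply hφψ
        have := hf (Subtype.ext h)
        exact congrArg Subtype.val this
      rw [classInner_irr_ne (f ⟨φ, hφ⟩).2 (f ⟨ψ, hψ⟩).2 hfne,
        classInner_irr_ne (hirr φ hφ) (hirr ψ hψ) hφψ]
  have hT2 : ∀ φ ∈ F, IsGeneralizedCharacter G (T φ) := by
    intro φ hφ
    rw [hTmem φ hφ]
    rcases hε with rfl | rfl
    · rw [one_smul]; exact isGenChar_of_irr (f ⟨φ, hφ⟩).2
    · rw [neg_one_smul]; exact isGenChar_neg (isGenChar_of_irr (f ⟨φ, hφ⟩).2)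
  obtain ⟨a, ha, b, hb, hab⟩ := h2
  refine ⟨⟨a - b, hdiff a ha b hb, sub_ne_zero.mpr hab⟩, extend F T,
    extend_isometry F hFo T hT1 hT2, ?_⟩
  intro α hα
  obtain ⟨c, rfl⟩ := exists_coeff F hα.1
  rw [extend_sum_zsmul F hFo]
  -- the coefficients sum to zero
  have hsum0 : ∑ φ ∈ F, c φ = 0 := by
    have h1 := hα.2 1 (by simp)
    rw [Finset.sum_apply] at h1
    have h2 : ∑ φ ∈ F, (c φ • φ) 1 = (d : ℂ) * ((∑ φ ∈ F, c φ : ℤ) : ℂ) := by
      push_cast
      rw [Finset.mul_sum]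
      refine Finset.sum_congr rfl fun φ hφ => ?_
      rw [Pi.smul_apply, hdeg φ hφ, zsmul_eq_mul]
      ring
    rw [h2] at h1
    have hd0' : (d : ℂ) ≠ 0 := Nat.cast_ne_zero.mpr hd0
    have := (mul_eq_zero.mp h1).resolve_left hd0'
    exact_mod_cast this
  -- rewrite the combination through differences with `a`
  have hrew : ∑ φ ∈ F, c φ • φ = ∑ φ ∈ F, c φ • (φ - a) := by
    have : ∑ φ ∈ F, c φ • (φ - a) = ∑ φ ∈ F, c φ • φ - (∑ φ ∈ F, c φ) • a := by
      rw [Finset.sum_smul, ← Finset.sum_sub_distrib]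
      refine Finset.sum_congr rfl fun φ _ => ?_
      rw [smul_sub]
    rw [this, hsum0, zero_smul, sub_zero]
  rw [hrew, lio_on_sum_zsmul hτ F c (fun φ => φ - a) (fun φ hφ => hdiff φ hφ a ha)]
  have hterm : ∀ φ ∈ F, c φ • τ (φ - a) = c φ • T φ - c φ • T a := by
    intro φ hφ
    have := hvf ⟨φ, hφ⟩ ⟨a, ha⟩
    show c φ • τ (φ - a) = _
    have h3 : τ (φ - a) = ε • ((f ⟨φ, hφ⟩ : G → ℂ) - (f ⟨a, ha⟩ : G → ℂ)) := this
    rw [h3, hTmem φ hφ, hTmem a ha, smul_sub, smul_sub]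
  rw [Finset.sum_congr rfl hterm, Finset.sum_sub_distrib, ← Finset.sum_smul, hsum0, zero_smul,
    sub_zero]

end General

end Cfsg.Agent.Lib.Helper4.PF7
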