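import Mathlib
import Cfsg.Agent.Lib.Helper4.PF7a
import Cfsg.Agent.Lib.Helper4.PF6j

set_option autoImplicit false
set_option linter.unusedSectionVars false
set_option linter.unusedVariables false
set_option maxHeartbeats 1600000

/-!
# Coherence of sets of induced irreducible characters: descent along normal series
(no complex-conjugation hypotheses)
-/

namespace Cfsg.Agent.Lib.Helper4.PF7

open Cfsg Cfsg.Agent.Lib.Helper1 Cfsg.Agent.Lib.Helper4 Cfsg.Agent.Lib.Helper4.Coh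
  Cfsg.Agent.Lib.Helper4.PF6
open scoped ComplexConjugate

section Ind

variable {L : Type*} [Group L] [Fintype L] {G : Type*} [Group G] [Fintype G]

/-- the sum of the squares of the degrees of the members of `S(A)` -/
theorem sum_deg_sq (K : Subgroup L) [hK : K.Normal]
    (hirr : ∀ χ ∈ inducedIrrAbove K ⊥, IsIrrCharacter L χ) (A : Subgroup L) [hA : A.Normal]
    (hAK : A ≤ K) :
    ∑ φ ∈ (induced_finite K A).toFinset, deg φ ^ 2 + K.index = K.index * A.relIndex K := by
  have h1 := sum_induced (K := K) (A := A)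
  have h2 := sum_theta (K := K) (A := A) hAK
  have h3 : ∑ φ ∈ (induced_finite K A).toFinset, ((deg φ : ℝ) ^ 2 / (nrm φ : ℝ)) =
      ((∑ φ ∈ (induced_finite K A).toFinset, deg φ ^ 2 : ℕ) : ℝ) := by
    push_cast
    refine Finset.sum_congr rfl fun φ hφ => ?_
    rw [Set.Finite.mem_toFinset] at hφ
    rw [nrm_eq_one_of_irr (hirr φ (induced_mono K bot_le hφ))]
    simp
  rw [h3] at h1
  have h4 : ((∑ θ ∈ (thetaSet_finite K A).toFinset, (dg θ) ^ 2 + 1 : ℕ) : ℝ) =
      (A.relIndex K : ℝ) := by rw [h2]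
  push_cast at h4
  have h5 : ((∑ φ ∈ (induced_finite K A).toFinset, deg φ ^ 2 + K.index : ℕ) : ℝ) =
      ((K.index * A.relIndex K : ℕ) : ℝ) := by
    push_cast
    push_cast at h1
    rw [h1, ← h4]
    ring
  exact_mod_cast h5

open Classical in
theorem central_step_irr (K : Subgroup L) [hK : K.Normal] (hsolv : Group.IsSolvable K)
    (hirr : ∀ χ ∈ inducedIrrAbove K ⊥, IsIrrCharacter L χ)
    (τ : (L → ℂ) → (G → ℂ))
    (hτ : IsLinearIsometryOn (zspanOn (inducedIrrAbove K ⊥) {1}ᶜ) τ)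
    (hτ1 : ∀ α ∈ zspanOn (inducedIrrAbove K ⊥) ({1}ᶜ : Set L), τ α 1 = 0)
    (A B D : Subgroup L) [hA : A.Normal] [hB : B.Normal] (hAK : A < K) (hBA : B ≤ A)
    (hBD : B ≤ D) (hDK : D ≤ K)
    (hcent : ∀ x ∈ D, ∀ y ∈ K, x * y * x⁻¹ * y⁻¹ ∈ B)
    (hAcoh : IsCoherent (inducedIrrAbove K A) {1}ᶜ τ)
    (hlt : 4 * K.index ^ 2 * D.relIndex K < (A.relIndex K - 1) ^ 2) :
    IsCoherent (inducedIrrAbove K B) {1}ᶜ τ := by
  set S₀ := (induced_finite K A).toFinset with hS₀
  set U := (induced_finite K B).toFinset with hU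
  have hS₀eq : (↑S₀ : Set (L → ℂ)) = inducedIrrAbove K A := Set.Finite.coe_toFinset _
  have hUeq : (↑U : Set (L → ℂ)) = inducedIrrAbove K B := Set.Finite.coe_toFinset _
  have hS₀S : (↑S₀ : Set (L → ℂ)) ⊆ inducedIrrAbove K ⊥ := by
    rw [hS₀eq]; exact induced_mono K bot_le
  have hUS : (↑U : Set (L → ℂ)) ⊆ inducedIrrAbove K ⊥ := by
    rw [hUeq]; exact induced_mono K bot_le
  obtain ⟨θ₁, hθ₁, hdg₁⟩ := exists_linear_theta hsolv hAK
  have hχ₁ : indFun K θ₁ ∈ S₀ := by
    rw [hS₀, Set.Finite.mem_toFinset]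
    exact mem_induced_iff.mpr ⟨θ₁, hθ₁, rfl⟩
  have hdeg₁ : deg (indFun K θ₁) = K.index := by
    rw [deg_induced hθ₁.1, hdg₁, mul_one]
  have hsum := sum_deg_sq K hirr A hAK.le
  have hcoh0 : IsCoherent (↑S₀ : Set (L → ℂ)) {1}ᶜ τ := by rw [hS₀eq]; exact hAcoh
  have hmain := coherent_union_irr hirr τ hτ hτ1 S₀ U hS₀S hcoh0 hUS (indFun K θ₁) hχ₁ (by
    intro χ hχ
    rw [hU, Set.Finite.mem_toFinset] at hχ
    obtain ⟨θ', hθ', rfl⟩ := mem_induced_iff.mp hχ
    rw [hdeg₁, deg_induced hθ'.1]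
    refine ⟨Dvd.intro _ rfl, ?_⟩
    have hb := degree_bound (K := K) (C := K) hBD hDK le_rfl hcent hθ'
    have hb2 : (2 * K.index * dg θ') ^ 2 < (A.relIndex K - 1) ^ 2 := lt_of_le_of_lt hb hlt
    have hb3 : 2 * K.index * dg θ' < A.relIndex K - 1 :=
      lt_of_pow_lt_pow_left₀ 2 (Nat.zero_le _) hb2
    have hr1 : 1 ≤ A.relIndex K := by omega
    have hidx : 0 < K.index := Nat.pos_of_ne_zero Subgroup.index_ne_zero_of_finite
    have h6 : K.index * (2 * K.index * dg θ') < K.index * (A.relIndex K - 1) :=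
      Nat.mul_lt_mul_of_pos_left hb3 hidx
    have h7 : K.index * (A.relIndex K - 1) + K.index = K.index * A.relIndex K := by
      rw [← Nat.mul_succ]
      congr 1
      omega
    have h8 : ∑ φ ∈ S₀, deg φ ^ 2 = K.index * (A.relIndex K - 1) := by
      have h9 := hsum
      rw [← h7] at h9
      exact Nat.add_right_cancel h9
    rw [h8]
    calc 2 * K.index * (K.index * dg θ') = K.index * (2 * K.index * dg θ') := by ring
      _ < _ := h6)
  apply coherent_subset_irr (T := inducedIrrAbove K B) _ _ hmain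
  · intro x hx
    rw [Finset.coe_union, hUeq]
    exact Or.inr hx
  · obtain ⟨⟨α, hα, hα0⟩, -⟩ := hAcoh
    exact ⟨α, zspanOn_mono (induced_mono K hBA) hα, hα0⟩

/-- descent along a central series: if `S(H₁)` is coherent and `|K : H₁| > 4e² + 1` then `S(M)`
is coherent, for `M ≤ H₁` normal with `K / M` nilpotent -/
theorem nilpotent_descent_irr (K : Subgroup L) [hK : K.Normal] (hsolv : Group.IsSolvable K)
    (hirr : ∀ χ ∈ inducedIrrAbove K ⊥, IsIrrCharacter L χ)
    (τ : (L → ℂ) → (G → ℂ))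
    (hτ : IsLinearIsometryOn (zspanOn (inducedIrrAbove K ⊥) {1}ᶜ) τ)
    (hτ1 : ∀ α ∈ zspanOn (inducedIrrAbove K ⊥) ({1}ᶜ : Set L), τ α 1 = 0)
    (M H₁ : Subgroup L) [hMn : M.Normal] [hH₁n : H₁.Normal] (hMH₁ : M ≤ H₁) (hH₁K : H₁ ≤ K)
    [hMHn : (M.subgroupOf K).Normal] (hnil : Group.IsNilpotent (↥K ⧸ M.subgroupOf K))
    (hcoh : IsCoherent (inducedIrrAbove K H₁) {1}ᶜ τ)
    (hbig : 4 * K.index ^ 2 + 1 < H₁.relIndex K) :
    IsCoherent (inducedIrrAbove K M) {1}ᶜ τ := by
  classical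
  let 𝒯 := {B : Subgroup L // B.Normal ∧ M ≤ B ∧ B ≤ H₁ ∧ IsCoherent (inducedIrrAbove K B) {1}ᶜ τ}
  haveI : Nonempty 𝒯 := ⟨⟨H₁, hH₁n, hMH₁, le_rfl, hcoh⟩⟩
  haveI : Finite 𝒯 := Subtype.finite
  obtain ⟨⟨B, hBn, hMB, hBH₁, hBcoh⟩, hmin⟩ := Finite.exists_min (fun B : 𝒯 => Nat.card B.1)
  have hH₁ltK : H₁ < K := by
    refine lt_of_le_of_ne hH₁K ?_
    intro h
    rw [h, Subgroup.relIndex_self] at hbig
    omega
  have hBK : B ≤ K := hBH₁.trans hH₁K
  have hBltK : B < K := lt_of_le_of_lt hBH₁ hH₁ltK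
  set B' : Subgroup L := ⁅B, K⁆ ⊔ M with hB'
  haveI := hBn
  have hcomm_le : ⁅B, K⁆ ≤ B := Subgroup.commutator_le_left B K
  have hB'B : B' ≤ B := sup_le hcomm_le hMB
  have hB'n : B'.Normal := by
    haveI : (⁅B, K⁆).Normal := Subgroup.commutator_normal B K
    exact Subgroup.sup_normal _ _
  haveI := hB'n
  have hB'coh : IsCoherent (inducedIrrAbove K B') {1}ᶜ τ := by
    apply central_step_irr K hsolv hirr τ hτ hτ1 B B' B hBltK hB'B hB'B hBK
    · intro x hx y hy
      apply Subgroup.mem_sup_left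
      exact Subgroup.commutator_mem_commutator hx hy
    · exact hBcoh
    · have e3 : B.relIndex H₁ * H₁.relIndex K = B.relIndex K :=
        Subgroup.relIndex_mul_relIndex B H₁ K hBH₁ hH₁K
      have hpos1 : 1 ≤ B.relIndex H₁ := by
        have : B.relIndex H₁ ≠ 0 := Subgroup.index_ne_zero_of_finite
        omega
      have hh : 4 * K.index ^ 2 + 1 < B.relIndex K := by
        rw [← e3]
        calc 4 * K.index ^ 2 + 1 < H₁.relIndex K := hbig
          _ = 1 * H₁.relIndex K := (one_mul _).symm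
          _ ≤ B.relIndex H₁ * H₁.relIndex K := Nat.mul_le_mul_right _ hpos1
      have := arith_65 K.index 1 (B.relIndex K) le_rfl hh
      simpa using this
  have hcard := hmin ⟨B', hB'n, le_sup_right, hB'B.trans hBH₁, hB'coh⟩
  simp only at hcard
  have hB'eq : B' = B := Subgroup.eq_of_le_of_card_ge hB'B hcard
  have hBM : B = M := by
    apply le_antisymm _ hMB
    set π := QuotientGroup.mk' (M.subgroupOf K) with hπ
    set Bbar : Subgroup (↥K ⧸ M.subgroupOf K) := (B.subgroupOf K).map π with hBbar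
    have hBbar_le : Bbar ≤ ⁅Bbar, (⊤ : Subgroup (↥K ⧸ M.subgroupOf K))⁆ := by
      set T : Subgroup L := ((⁅Bbar, (⊤ : Subgroup (↥K ⧸ M.subgroupOf K))⁆).comap π).map K.subtype
        with hT
      have hT1 : ⁅B, K⁆ ≤ T := by
        rw [Subgroup.commutator_le]
        intro b hb h hh
        rw [hT, Subgroup.mem_map]
        set b' : ↥K := ⟨b, hBK hb⟩ with hb'
        set h' : ↥K := ⟨h, hh⟩ with hh'
        refine ⟨b' * h' * b'⁻¹ * h'⁻¹, ?_, rfl⟩
        rw [← commutatorElement_def, Subgroup.mem_comap, map_commutatorElement]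
        apply Subgroup.commutator_mem_commutator
        · exact Subgroup.mem_map_of_mem _ (Subgroup.mem_subgroupOf.mpr hb)
        · exact Subgroup.mem_top _
      have hT2 : M ≤ T := by
        intro m hm
        rw [hT, Subgroup.mem_map]
        refine ⟨⟨m, (hMB.trans hBK) hm⟩, ?_, rfl⟩
        rw [Subgroup.mem_comap]
        have : π ⟨m, (hMB.trans hBK) hm⟩ = 1 := by
          rw [hπ, QuotientGroup.mk'_apply, QuotientGroup.eq_one_iff]
          exact Subgroup.mem_subgroupOf.mpr hm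
        rw [this]
        exact Subgroup.one_mem _
      have hBT : B ≤ T := by
        rw [← hB'eq, hB']
        exact sup_le hT1 hT2
      intro x hx
      obtain ⟨b, hb, rfl⟩ := Subgroup.mem_map.mp hx
      have hbT := hBT (Subgroup.mem_subgroupOf.mp hb)
      rw [hT, Subgroup.mem_map] at hbT
      obtain ⟨t, ht, hteq⟩ := hbT
      have : t = b := Subtype.ext hteq
      rw [this] at ht
      exact ht
    have hbot := eq_bot_of_le_commutator_top Bbar hBbar_le
    intro b hb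
    have h1 : π ⟨b, hBK hb⟩ ∈ Bbar :=
      Subgroup.mem_map_of_mem _ (Subgroup.mem_subgroupOf.mpr hb)
    rw [hbot, Subgroup.mem_bot, hπ, QuotientGroup.mk'_apply, QuotientGroup.eq_one_iff] at h1
    exact Subgroup.mem_subgroupOf.mp h1
  rw [← hBM]
  exact hBcoh

open Classical in
/-- the base: characters induced from linear characters -/
theorem base_irr (K : Subgroup L) [hK : K.Normal] (hsolv : Group.IsSolvable K)
    (hirr : ∀ χ ∈ inducedIrrAbove K ⊥, IsIrrCharacter L χ)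
    (τ : (L → ℂ) → (G → ℂ))
    (hτ : IsLinearIsometryOn (zspanOn (inducedIrrAbove K ⊥) {1}ᶜ) τ)
    (hτ1 : ∀ α ∈ zspanOn (inducedIrrAbove K ⊥) ({1}ᶜ : Set L), τ α 1 = 0)
    (A : Subgroup L) [hA : A.Normal] (hAK : A ≤ K) (hc : ⁅K, K⁆ ≤ A)
    (hbig : 2 * K.index < A.relIndex K) :
    IsCoherent (inducedIrrAbove K A) {1}ᶜ τ := by
  set F := (induced_finite K A).toFinset with hF
  have hFeq : (↑F : Set (L → ℂ)) = inducedIrrAbove K A := Set.Finite.coe_toFinset _
  have hFS : (↑F : Set (L → ℂ)) ⊆ inducedIrrAbove K ⊥ := by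
    rw [hFeq]; exact induced_mono K bot_le
  have hdegF : ∀ χ ∈ F, χ 1 = (K.index : ℂ) := by
    intro χ hχ
    rw [hF, Set.Finite.mem_toFinset] at hχ
    obtain ⟨θ, hθ, rfl⟩ := mem_induced_iff.mp hχ
    rw [indFun_one_index, dg_spec hθ.1, dg_eq_one_of_comm hAK hc hθ]
    simp
  have hdeg' : ∀ χ ∈ F, deg χ = K.index := by
    intro χ hχ
    have h1 := deg_spec (hirr χ (hFS hχ))
    rw [hdegF χ hχ] at h1
    exact_mod_cast h1.symm
  have hsum := sum_deg_sq K hirr A hAK
  rw [← hF, Finset.sum_congr rfl fun φ hφ => by rw [hdeg' φ hφ], Finset.sum_const,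
    smul_eq_mul] at hsum
  have hidx : 0 < K.index := Nat.pos_of_ne_zero Subgroup.index_ne_zero_of_finite
  -- `F.card * e + 1 = |K : A|`
  have hcard : F.card * K.index + 1 = A.relIndex K := by
    have h1 : K.index * (F.card * K.index + 1) = K.index * A.relIndex K := by
      rw [← hsum]; ring
    exact Nat.eq_of_mul_eq_mul_left hidx h1
  have h2card : 2 ≤ F.card := by
    by_contra hlt
    push Not at hlt
    have : F.card * K.index ≤ 1 * K.index := Nat.mul_le_mul_right _ (by omega)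
    omega
  have h2 : ∃ a ∈ F, ∃ b ∈ F, a ≠ b := by
    have := Finset.one_lt_card.mp (by omega : 1 < F.card)
    exact this
  rw [← hFeq]
  exact coherent_same_degree F (fun χ hχ => hirr χ (hFS hχ)) h2 K.index hdegF τ
    (lio_mono hτ (zspanOn_mono hFS)) (fun α hα => hτ1 α (zspanOn_mono hFS hα))

end Ind

end Cfsg.Agent.Lib.Helper4.PF7
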