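import Mathlib

set_option autoImplicit false
set_option linter.unusedSectionVars false
set_option linter.unusedVariables false

/-!
# Group-theoretic facts on Frobenius-type normal subgroups

`L` a finite group, `K` a normal subgroup with `C_L(k) ≤ K` for `1 ≠ k ∈ K`.
* if `|K|` is odd and `K` is not abelian then `|L|` is odd;
* if `|K|` and `|L : K|` are coprime and `M ≤ K` is normal in `L`, then `L/M` is again of
  Frobenius type: an element of `L` centralising modulo `M` an element of `K` outside `M`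
  lies in `K`.
-/

namespace Cfsg.Agent.Lib.Helper4.PF6

variable {L : Type*} [Group L] [Finite L]

/-- A non-abelian Frobenius-type kernel of odd order forces the whole group to have odd order. -/
theorem odd_card_of_nonabelian_kernel (K : Subgroup L) [hK : K.Normal]
    (hC : ∀ k ∈ K, k ≠ 1 → Subgroup.centralizer ({k} : Set L) ≤ K)
    (hKodd : Odd (Nat.card K)) (hna : ¬ ∀ a ∈ K, ∀ b ∈ K, a * b = b * a) :
    Odd (Nat.card L) := by
  by_contra hev
  rw [Nat.not_odd_iff_even, even_iff_two_dvd] at hev
  haveI : Fact (Nat.Prime 2) := ⟨Nat.prime_two⟩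
  obtain ⟨t, ht⟩ := exists_prime_orderOf_dvd_card' 2 hev
  have htK : t ∉ K := by
    intro h
    have h1 : orderOf (⟨t, h⟩ : K) = 2 := by
      rw [← ht]
      exact Subgroup.orderOf_mk t h
    have h2 : orderOf (⟨t, h⟩ : K) ∣ Nat.card K := orderOf_dvd_natCard _
    rw [h1] at h2
    exact (Nat.not_even_iff_odd.mpr hKodd) (even_iff_two_dvd.mpr h2)
  have ht2 : t * t = 1 := by
    have := pow_orderOf_eq_one t
    rwa [ht, pow_two] at this
  have htinv : t⁻¹ = t := inv_eq_of_mul_eq_one_left ht2
  let φ : K →* K := (MulAut.conjNormal t : MulAut K).toMonoidHom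
  have hφ : ∀ k : K, ((φ k : K) : L) = t * k * t⁻¹ := fun k => rfl
  have hfpf : MonoidHom.FixedPointFree φ := by
    intro k hk
    by_contra hk1
    have hk1' : (k : L) ≠ 1 := fun h => hk1 (Subtype.ext h)
    apply htK
    apply hC (k : L) k.2 hk1'
    rw [Subgroup.mem_centralizer_iff]
    intro z hz
    rw [Set.mem_singleton_iff] at hz
    subst hz
    have := congrArg Subtype.val hk
    rw [hφ] at this
    calc (k : L) * t = (t * k * t⁻¹) * t := by rw [this]
      _ = t * k := by group
  have hinv : Function.Involutive φ := by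
    intro k
    apply Subtype.ext
    rw [hφ, hφ, htinv]
    calc t * (t * (k : L) * t) * t = (t * t) * k * (t * t) := by group
      _ = k := by rw [ht2, one_mul, mul_one]
  apply hna
  intro a ha b hb
  have := hfpf.commute_all_of_involutive hinv (⟨a, ha⟩ : K) ⟨b, hb⟩
  exact congrArg Subtype.val this.eq

/-- The quotient of a Frobenius-type group by a normal subgroup of the kernel is of Frobenius
type, when the kernel is a Hall subgroup. -/
theorem frob_quotient (K : Subgroup L) [hK : K.Normal]
    (hC : ∀ k ∈ K, k ≠ 1 → Subgroup.centralizer ({k} : Set L) ≤ K)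
    (hcop : Nat.Coprime (Nat.card K) K.index)
    (M : Subgroup L) [hM : M.Normal] (hMK : M ≤ K) :
    ∀ k ∈ K, k ∉ M → ∀ x : L, x * k * x⁻¹ * k⁻¹ ∈ M → x ∈ K := by
  classical
  intro k hkK hkM x hx
  by_contra hxK
  -- the subgroup of elements centralising `k` modulo `M`
  let C : Subgroup L :=
    (Subgroup.centralizer ({(QuotientGroup.mk' M k)} : Set (L ⧸ M))).comap (QuotientGroup.mk' M)
  have hCmem : ∀ y : L, y ∈ C ↔ y * k * y⁻¹ * k⁻¹ ∈ M := by
    intro y
    show QuotientGroup.mk' M y ∈ Subgroup.centralizer _ ↔ _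
    rw [Subgroup.mem_centralizer_iff]
    constructor
    · intro h
      have h1 := h _ (Set.mem_singleton _)
      rw [← QuotientGroup.eq_one_iff]
      have : ((y * k * y⁻¹ * k⁻¹ : L) : L ⧸ M) =
          (QuotientGroup.mk' M y) * (QuotientGroup.mk' M k) * (QuotientGroup.mk' M y)⁻¹ *
            (QuotientGroup.mk' M k)⁻¹ := rfl
      rw [this, ← h1]
      group
    · intro h z hz
      rw [Set.mem_singleton_iff] at hz
      subst hz
      rw [← QuotientGroup.eq_one_iff] at h
      have : ((y * k * y⁻¹ * k⁻¹ : L) : L ⧸ M) =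
          (QuotientGroup.mk' M y) * (QuotientGroup.mk' M k) * (QuotientGroup.mk' M y)⁻¹ *
            (QuotientGroup.mk' M k)⁻¹ := rfl
      rw [this] at h
      have h2 := mul_inv_eq_one.mp h
      have h3 := mul_inv_eq_iff_eq_mul.mp h2
      exact h3.symm
  have hxC : x ∈ C := (hCmem x).mpr hx
  -- an element `y` of prime order `q`, a power of `x`, outside `K`
  have hxbar : (QuotientGroup.mk' K x) ≠ 1 := by
    intro h
    exact hxK ((QuotientGroup.eq_one_iff x).mp h)
  set m := orderOf (QuotientGroup.mk' K x) with hm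
  have hm1 : m ≠ 1 := fun h => hxbar (orderOf_eq_one_iff.mp h)
  have hq : (Nat.minFac m).Prime := Nat.minFac_prime hm1
  set q := Nat.minFac m with hqdef
  haveI : Fact q.Prime := ⟨hq⟩
  have hqm : q ∣ m := Nat.minFac_dvd m
  have hmidx : m ∣ K.index := by
    rw [Subgroup.index_eq_card]
    exact orderOf_dvd_natCard _
  have hmx : m ∣ orderOf x := orderOf_map_dvd (QuotientGroup.mk' K) x
  have hqx : q ∣ orderOf x := hqm.trans hmx
  have hox : orderOf x ≠ 0 := (orderOf_pos x).ne'
  set y := x ^ (orderOf x / q) with hy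
  have hoy : orderOf y = q := orderOf_pow_orderOf_div hox hqx
  have hyC : y ∈ C := C.pow_mem hxC _
  have hyK : y ∉ K := by
    intro h
    have h1 : orderOf (⟨y, h⟩ : K) = q := by
      rw [← hoy]
      exact Subgroup.orderOf_mk y h
    have h2 : orderOf (⟨y, h⟩ : K) ∣ Nat.card K := orderOf_dvd_natCard _
    rw [h1] at h2
    have h3 : q ∣ Nat.gcd (Nat.card K) K.index := Nat.dvd_gcd h2 (hqm.trans hmidx)
    rw [hcop] at h3
    exact hq.one_lt.ne' (Nat.dvd_one.mp h3)
  -- `y` acts on the coset `M k`
  have hpowC : ∀ n : ℕ, y ^ n ∈ C := fun n => C.pow_mem hyC n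
  have hstab : ∀ g ∈ C, ∀ z : L, z * k⁻¹ ∈ M → g * z * g⁻¹ * k⁻¹ ∈ M := by
    intro g hg z hz
    have h1 : g * z * g⁻¹ * k⁻¹ = (g * (z * k⁻¹) * g⁻¹) * (g * k * g⁻¹ * k⁻¹) := by group
    rw [h1]
    exact M.mul_mem (hM.conj_mem _ hz g) ((hCmem g).mp hg)
  let X := {z : L // z * k⁻¹ ∈ M}
  haveI : Fintype X := Fintype.ofFinite _
  let σ : Equiv.Perm X :=
    { toFun := fun z => ⟨y * z.1 * y⁻¹, hstab y hyC z.1 z.2⟩
      invFun := fun z => ⟨y⁻¹ * z.1 * y, by
        have := hstab y⁻¹ (C.inv_mem hyC) z.1 z.2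
        rwa [inv_inv] at this⟩
      left_inv := fun z => by
        apply Subtype.ext
        show y⁻¹ * (y * z.1 * y⁻¹) * y = z.1
        group
      right_inv := fun z => by
        apply Subtype.ext
        show y * (y⁻¹ * z.1 * y) * y⁻¹ = z.1
        group }
  have hσpow : ∀ n : ℕ, ∀ z : X, (((σ ^ n) z : X) : L) = y ^ n * z.1 * (y ^ n)⁻¹ := by
    intro n
    induction n with
    | zero => intro z; simp
    | succ n ih =>
      intro z
      rw [pow_succ', Equiv.Perm.mul_apply]
      show y * ((σ ^ n) z : X).1 * y⁻¹ = _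
      rw [ih z, pow_succ']
      group
  have hσq : σ ^ q ^ 1 = 1 := by
    rw [pow_one]
    ext z
    rw [hσpow q z, ← hoy, pow_orderOf_eq_one]
    simp
  -- the coset has `|M|` elements
  have hcardX : Fintype.card X = Nat.card M := by
    rw [← Nat.card_eq_fintype_card]
    apply Nat.card_congr
    exact
      { toFun := fun z => ⟨z.1 * k⁻¹, z.2⟩
        invFun := fun m => ⟨m.1 * k, by
          show m.1 * k * k⁻¹ ∈ M
          rw [mul_inv_cancel_right]
          exact m.2⟩
        left_inv := fun z => by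
          apply Subtype.ext
          show z.1 * k⁻¹ * k = z.1
          group
        right_inv := fun m => by
          apply Subtype.ext
          show m.1 * k * k⁻¹ = m.1
          group }
  have hqX : ¬ q ∣ Fintype.card X := by
    rw [hcardX]
    intro h
    have h2 : q ∣ Nat.card K := h.trans (Subgroup.card_dvd_of_le hMK)
    have h3 : q ∣ Nat.gcd (Nat.card K) K.index := Nat.dvd_gcd h2 (hqm.trans hmidx)
    rw [hcop] at h3
    exact hq.one_lt.ne' (Nat.dvd_one.mp h3)
  obtain ⟨z, hz⟩ := Equiv.Perm.exists_fixed_point_of_prime (p := q) (n := 1) hqX hσq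
  have hz' : y * z.1 * y⁻¹ = z.1 := congrArg Subtype.val hz
  have hz1 : z.1 ≠ 1 := by
    intro h
    have := z.2
    rw [h, one_mul] at this
    exact hkM (by simpa using M.inv_mem this)
  have hzK : z.1 ∈ K := by
    have h1 : z.1 = (z.1 * k⁻¹) * k := by group
    rw [h1]
    exact K.mul_mem (hMK z.2) hkK
  apply hyK
  apply hC z.1 hzK hz1
  rw [Subgroup.mem_centralizer_iff]
  intro w hw
  rw [Set.mem_singleton_iff] at hw
  subst hw
  calc z.1 * y = (y * z.1 * y⁻¹) * y := by rw [hz']
    _ = y * z.1 := by group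

end Cfsg.Agent.Lib.Helper4.PF6
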