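import Mathlib
import Cfsg.Agent.Lib.Helper4.PF6h
import Cfsg.Agent.Lib.Helper4.PF6k
import Cfsg.Agent.Lib.Helper4.FrobTI1

set_option autoImplicit false
set_option linter.unusedSectionVars false
set_option linter.unusedVariables false
set_option maxHeartbeats 1600000

/-!
# Group theory of Frobenius kernels needed for Feit's coherence theorem
-/

namespace Cfsg.Agent.Lib.Helper4.PF7

open Cfsg Cfsg.Agent.Lib.Helper4.PF6 Cfsg.Agent.Lib.Helper4.FrobTI

section Cong

variable {L : Type*} [Group L] [Finite L]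

/-- the congruence `|Y : X| ≡ 1 (mod |L : K|)` for normal subgroups `X ≤ Y ≤ K` of a Frobenius
group `L` with kernel `K` -/
theorem section_cong (K X Y : Subgroup L) [hK : K.Normal] [hXn : X.Normal] [hYn : Y.Normal]
    (hC : ∀ k ∈ K, k ≠ 1 → Subgroup.centralizer ({k} : Set L) ≤ K)
    (hXK : X ≤ K) (hYK : Y ≤ K) :
    K.index ∣ X.relIndex Y - 1 := by
  classical
  obtain ⟨E, hE, hfpf⟩ := exists_complement K hC
  have hcop := coprime_card_index K hC
  have hfrob := frob_quotient K hC hcop X hXK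
  set π : L →* L ⧸ X := QuotientGroup.mk' X with hπdef
  let act : MulAction ↥E (L ⧸ X) :=
    MulAction.compHom (L ⧸ X)
      (((MulAut.conj : (L ⧸ X) →* MulAut (L ⧸ X)).comp π).comp E.subtype)
  have hsmul : ∀ (g : ↥E) (q : L ⧸ X), g • q = π g * q * (π g)⁻¹ := fun g q => rfl
  have : Fintype (L ⧸ X) := Fintype.ofFinite _
  set Ys : Finset (L ⧸ X) := Finset.univ.filter (fun q : L ⧸ X => q ∈ Y.map π) with hYs
  set Xs : Finset (L ⧸ X) := Ys.erase 1 with hXs
  have hmemX : ∀ q, q ∈ Xs ↔ q ≠ 1 ∧ q ∈ Y.map π := by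
    intro q
    rw [hXs, Finset.mem_erase, hYs, Finset.mem_filter]
    simp
  have hinv : ∀ a : ↥E, ∀ b ∈ Xs, a • b ∈ Xs := by
    intro a b hb
    rw [hmemX] at hb ⊢
    obtain ⟨hb1, n, hn, rfl⟩ := hb
    rw [hsmul]
    refine ⟨?_, ?_⟩
    · intro h
      apply hb1
      have : π n = (π a)⁻¹ * (π a * π n * (π a)⁻¹) * π a := by group
      rw [this, h]; group
    · refine ⟨(a : L) * n * (a : L)⁻¹, hYn.conj_mem n hn a, ?_⟩
      rw [map_mul, map_mul, map_inv]
  have hstab : ∀ b ∈ Xs, MulAction.stabilizer ↥E b = ⊥ := by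
    intro b hb
    rw [hmemX] at hb
    obtain ⟨hb1, n, hn, rfl⟩ := hb
    have hnH : n ∉ X := by
      intro h
      apply hb1
      rw [hπdef, QuotientGroup.mk'_apply, QuotientGroup.eq_one_iff]
      exact h
    rw [eq_bot_iff]
    intro x hx
    rw [MulAction.mem_stabilizer_iff, hsmul] at hx
    have hiff : π x * π n * (π x)⁻¹ = π n ↔ (x : L) * n * (x : L)⁻¹ * n⁻¹ ∈ X := by
      rw [← map_inv, ← map_mul, ← map_mul, ← mul_inv_eq_one, ← map_inv, ← map_mul, hπdef,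
        QuotientGroup.mk'_apply, QuotientGroup.eq_one_iff]
    rw [hiff] at hx
    have hxK : (x : L) ∈ K := hfrob n (hYK hn) hnH x hx
    have hxKE : (x : L) ∈ K ⊓ E := ⟨hxK, x.2⟩
    rw [disjoint_iff.mp hE.disjoint, Subgroup.mem_bot] at hxKE
    rw [Subgroup.mem_bot]
    exact Subtype.ext hxKE
  have h := index_dvd_card_of_stabilizer (⊥ : Subgroup ↥E) Xs.card Xs rfl hinv hstab
  rw [Subgroup.index_bot, ← hE.symm.index_eq_card] at h
  have hYcard : Ys.card = X.relIndex Y := by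
    have h1 : X.relIndex Y = Nat.card (Y.map π) := by
      have := Subgroup.relIndex_ker (K := Y) π
      rwa [hπdef, QuotientGroup.ker_mk'] at this
    rw [h1, Nat.card_eq_fintype_card, hYs]
    exact (Fintype.card_subtype _).symm
  have hXcard : Xs.card = X.relIndex Y - 1 := by
    rw [hXs, Finset.card_erase_of_mem, hYcard]
    rw [hYs, Finset.mem_filter]
    exact ⟨Finset.mem_univ _, Subgroup.one_mem _⟩
  rwa [hXcard] at h

/-- a proper section has order at least `e + 1` -/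
theorem section_ge (K X Y : Subgroup L) [hK : K.Normal] [hXn : X.Normal] [hYn : Y.Normal]
    (hC : ∀ k ∈ K, k ≠ 1 → Subgroup.centralizer ({k} : Set L) ≤ K)
    (hXY : X < Y) (hYK : Y ≤ K) :
    K.index + 1 ≤ X.relIndex Y := by
  have h1 := section_cong K X Y hC (hXY.le.trans hYK) hYK
  have h0 : X.relIndex Y ≠ 0 := Subgroup.index_ne_zero_of_finite
  have h2 : X.relIndex Y ≠ 1 := by
    intro h
    exact (not_le_of_gt hXY) (Subgroup.relIndex_eq_one.mp h)
  have h3 : 0 < X.relIndex Y - 1 := by omega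
  have := Nat.le_of_dvd h3 h1
  omega

end Cong

section Comm

variable {L : Type*} [Group L] [Finite L]

/-- modulo `Γ = [[K,K],K]` the commutator is multiplicative in the first variable -/
theorem commutator_pow_mod (K : Subgroup L) [hK : K.Normal] {x y : L} (hx : x ∈ K) (hy : y ∈ K)
    (n : ℕ) :
    (x ^ n * y * (x ^ n)⁻¹ * y⁻¹)⁻¹ * (x * y * x⁻¹ * y⁻¹) ^ n ∈ ⁅⁅K, K⁆, K⁆ := by
  haveI : (⁅K, K⁆).Normal := Subgroup.commutator_normal K K
  haveI hΓ : (⁅⁅K, K⁆, K⁆).Normal := Subgroup.commutator_normal _ K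
  set π := QuotientGroup.mk' ⁅⁅K, K⁆, K⁆ with hπ
  rw [← QuotientGroup.eq_one_iff, ← QuotientGroup.mk'_apply, ← hπ]
  -- centrality
  have hcent : ∀ c ∈ ⁅K, K⁆, ∀ k ∈ K, π k * π c = π c * π k := by
    intro c hc k hk
    have h1 : c * k * c⁻¹ * k⁻¹ ∈ ⁅⁅K, K⁆, K⁆ := by
      have := Subgroup.commutator_mem_commutator hc hk
      rwa [commutatorElement_def] at this
    have h2 : π (c * k * c⁻¹ * k⁻¹) = 1 := by
      rw [hπ, QuotientGroup.mk'_apply, QuotientGroup.eq_one_iff]; exact h1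
    rw [map_mul, map_mul, map_mul, map_inv, map_inv] at h2
    have h3 := congrArg (fun z => z * π k * π c) h2
    simp only [one_mul] at h3
    rw [← h3]; group
  have hcomm_mem : ∀ n : ℕ, x ^ n * y * (x ^ n)⁻¹ * y⁻¹ ∈ ⁅K, K⁆ := by
    intro n
    have := Subgroup.commutator_mem_commutator (K.pow_mem hx n) hy
    rwa [commutatorElement_def] at this
  have key : ∀ n : ℕ, π (x ^ n * y * (x ^ n)⁻¹ * y⁻¹) = (π (x * y * x⁻¹ * y⁻¹)) ^ n := by
    intro n
    induction n with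
    | zero => simp
    | succ n ih =>
      have h1 : x ^ (n + 1) * y * (x ^ (n + 1))⁻¹ * y⁻¹ =
          x * (x ^ n * y * (x ^ n)⁻¹ * y⁻¹) * x⁻¹ * (x * y * x⁻¹ * y⁻¹) := by
        rw [pow_succ']; group
      rw [h1, map_mul, map_mul, map_mul, map_inv, hcent _ (hcomm_mem n) x hx, mul_assoc (π _),
        mul_inv_cancel, mul_one, ih, pow_succ]
  rw [map_mul, map_inv, key n, map_pow, inv_mul_cancel]

/-- if `x ^ p ∈ [K,K]` then `[x,y] ^ p ∈ [[K,K],K]` -/
theorem commutator_pow_mem (K : Subgroup L) [hK : K.Normal] {x y : L} (hx : x ∈ K) (hy : y ∈ K)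
    (p : ℕ) (hxp : x ^ p ∈ ⁅K, K⁆) : (x * y * x⁻¹ * y⁻¹) ^ p ∈ ⁅⁅K, K⁆, K⁆ := by
  have h1 := commutator_pow_mod K hx hy p
  have h2 : x ^ p * y * (x ^ p)⁻¹ * y⁻¹ ∈ ⁅⁅K, K⁆, K⁆ := by
    have := Subgroup.commutator_mem_commutator hxp hy
    rwa [commutatorElement_def] at this
  have := Subgroup.mul_mem _ h2 h1
  rwa [mul_inv_cancel_left] at this

/-- choice of a good intermediate subgroup -/
theorem exists_good_mid (K : Subgroup L) [hK : K.Normal] (hnil : Group.IsNilpotent K)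
    (hna : ⁅K, K⁆ ≠ ⊥) {p q : ℕ} (hp : p.Prime) (hq : q.Prime) (hpq : p ≠ q)
    (hpd : p ∣ (⁅K, K⁆).relIndex K) (hqd : q ∣ (⁅K, K⁆).relIndex K) :
    ∃ N : Subgroup L, N.Normal ∧ ⁅K, K⁆ < N ∧ N < K ∧ ⁅N, K⁆ < ⁅K, K⁆ := by
  haveI hcn : (⁅K, K⁆).Normal := Subgroup.commutator_normal K K
  haveI hΓ : (⁅⁅K, K⁆, K⁆).Normal := Subgroup.commutator_normal _ K
  have hcle : ⁅K, K⁆ ≤ K := commutator_self_le K
  have hc : ⁅K, K⁆ ≤ ⁅K, K⁆ := le_rfl
  have hΓle : ⁅⁅K, K⁆, K⁆ ≤ ⁅K, K⁆ := Subgroup.commutator_le_left _ K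
  -- the two candidates
  have mid : ∀ {r s : ℕ}, r.Prime → s.Prime → r ≠ s → r ∣ (⁅K, K⁆).relIndex K →
      s ∣ (⁅K, K⁆).relIndex K → ⁅K, K⁆ < powSub K ⁅K, K⁆ hc r ∧ powSub K ⁅K, K⁆ hc r < K := by
    intro r s hr hs hrs hrd hsd
    constructor
    · obtain ⟨x, hxK, hxH, hxp, -⟩ := exists_order_mod K ⁅K, K⁆ hcle hr hrd
      refine lt_of_le_of_ne ?_ ?_
      · intro y hy
        rw [mem_powSub]
        exact ⟨hcle hy, Subgroup.pow_mem _ hy r⟩
      · intro h
        apply hxH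
        rw [h, mem_powSub]
        exact ⟨hxK, hxp⟩
    · obtain ⟨y, hyK, hyH, hyq, hyr⟩ := exists_order_mod K ⁅K, K⁆ hcle hs hsd
      refine lt_of_le_of_ne ?_ ?_
      · intro x hx
        exact ((mem_powSub hc r x).mp hx).1
      · intro h
        have h1 : y ∈ powSub K ⁅K, K⁆ hc r := by rw [h]; exact hyK
        have h2 := hyr r ((mem_powSub hc r y).mp h1).2
        exact hrs ((Nat.prime_dvd_prime_iff_eq hs hr).mp h2).symm
  -- the commutator with `powSub r` has exponent `r` modulo `Γ`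
  have hc' : ⁅⁅K, K⁆, ⁅K, K⁆⁆ ≤ ⁅⁅K, K⁆, K⁆ := Subgroup.commutator_mono le_rfl hcle
  have hexp : ∀ r : ℕ, ⁅powSub K ⁅K, K⁆ hc r, K⁆ ≤ powSub ⁅K, K⁆ ⁅⁅K, K⁆, K⁆ hc' r := by
    intro r
    rw [Subgroup.commutator_le]
    intro x hx y hy
    rw [mem_powSub] at hx
    rw [mem_powSub, commutatorElement_def]
    refine ⟨?_, commutator_pow_mem K hx.1 hy r hx.2⟩
    have := Subgroup.commutator_mem_commutator hx.1 hy
    rwa [commutatorElement_def] at this
  have hle : ∀ r : ℕ, ⁅powSub K ⁅K, K⁆ hc r, K⁆ ≤ ⁅K, K⁆ := fun r =>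
    Subgroup.commutator_mono (fun x hx => ((mem_powSub hc r x).mp hx).1) le_rfl
  by_cases h1 : ⁅powSub K ⁅K, K⁆ hc p, K⁆ = ⁅K, K⁆
  · by_cases h2 : ⁅powSub K ⁅K, K⁆ hc q, K⁆ = ⁅K, K⁆
    · exfalso
      -- then `[K,K] ≤ Γ`
      have hKΓ : ⁅K, K⁆ ≤ ⁅⁅K, K⁆, K⁆ := by
        intro z hz
        have hzp : z ^ p ∈ ⁅⁅K, K⁆, K⁆ := by
          have := hexp p (h1 ▸ hz)
          exact ((mem_powSub hc' p z).mp this).2
        have hzq : z ^ q ∈ ⁅⁅K, K⁆, K⁆ := by
          have := hexp q (h2 ▸ hz)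
          exact ((mem_powSub hc' q z).mp this).2
        have hcop : Nat.Coprime p q := (Nat.coprime_primes hp hq).mpr hpq
        have hbez := Nat.gcd_eq_gcd_ab p q
        rw [hcop] at hbez
        have hz1 : z = (z ^ p) ^ (Nat.gcdA p q) * (z ^ q) ^ (Nat.gcdB p q) := by
          rw [← zpow_natCast z p, ← zpow_natCast z q, ← zpow_mul, ← zpow_mul, ← zpow_add]
          have : (p : ℤ) * Nat.gcdA p q + (q : ℤ) * Nat.gcdB p q = 1 := by
            rw [← hbez]; simp
          rw [this, zpow_one]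
        rw [hz1]
        exact Subgroup.mul_mem _ (Subgroup.zpow_mem _ hzp _) (Subgroup.zpow_mem _ hzq _)
      -- nilpotency: `[K,K] = ⊥`
      apply hna
      haveI := hnil
      have hbot : (⁅K, K⁆.subgroupOf K) = ⊥ := by
        apply eq_bot_of_le_commutator_top
        intro k hk
        rw [Subgroup.mem_subgroupOf] at hk
        have hk2 := hKΓ hk
        -- `k ∈ ⁅⁅K,K⁆,K⁆` gives membership in the commutator inside `K`
        have hmap : ⁅⁅K, K⁆, K⁆ ≤
            (⁅⁅K, K⁆.subgroupOf K, (⊤ : Subgroup ↥K)⁆).map K.subtype := by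
          rw [Subgroup.commutator_le]
          intro a ha b hb
          rw [Subgroup.mem_map]
          set a' : ↥K := ⟨a, hcle ha⟩ with ha'
          set b' : ↥K := ⟨b, hb⟩ with hb'
          refine ⟨a' * b' * a'⁻¹ * b'⁻¹, ?_, rfl⟩
          rw [← commutatorElement_def]
          apply Subgroup.commutator_mem_commutator
          · rw [Subgroup.mem_subgroupOf]; exact ha
          · exact Subgroup.mem_top _
        obtain ⟨t, ht, hteq⟩ := Subgroup.mem_map.mp (hmap hk2)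
        have : t = k := Subtype.ext hteq
        rw [← this]; exact ht
      rw [eq_bot_iff]
      intro z hz
      have hzK : z ∈ K := hcle hz
      have : (⟨z, hzK⟩ : ↥K) ∈ (⁅K, K⁆.subgroupOf K) := by
        rw [Subgroup.mem_subgroupOf]; exact hz
      rw [hbot, Subgroup.mem_bot] at this
      rw [Subgroup.mem_bot]
      exact congrArg Subtype.val this
    · obtain ⟨m1, m2⟩ := mid hq hp hpq.symm hqd hpd
      exact ⟨powSub K ⁅K, K⁆ hc q, powSub_normal hc q, m1, m2, lt_of_le_of_ne (hle q) h2⟩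
  · obtain ⟨m1, m2⟩ := mid hp hq hpq hpd hqd
    exact ⟨powSub K ⁅K, K⁆ hc p, powSub_normal hc p, m1, m2, lt_of_le_of_ne (hle p) h1⟩

end Comm

end Cfsg.Agent.Lib.Helper4.PF7
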