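import Mathlib
import Cfsg.Agent.Lib.Helper4.PF7b
import Cfsg.Agent.Lib.Helper4.PF7c
import Cfsg.Agent.Lib.Helper2.FrobKer

set_option autoImplicit false
set_option linter.unusedSectionVars false
set_option linter.unusedVariables false
set_option maxHeartbeats 1600000

/-!
# Feit's coherence theorem for Frobenius groups
-/

namespace Cfsg.Agent.Lib.Helper4.PF7

open Cfsg Cfsg.Agent.Lib.Helper1 Cfsg.Agent.Lib.Helper4 Cfsg.Agent.Lib.Helper4.Coh
  Cfsg.Agent.Lib.Helper4.PF6 Cfsg.Agent.Lib.Helper4.FrobTI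
open scoped ComplexConjugate

section Feit

variable {L : Type*} [Group L] [Fintype L] {G : Type*} [Group G] [Fintype G]

/-- an irreducible character which is constant is the principal character -/
theorem irr_const_eq_one {X : Type*} [Group X] [Fintype X] {θ : X → ℂ} (hθ : IsIrrCharacter X θ)
    (hc : ∀ a : X, θ a = θ 1) : θ = fun _ => 1 := by
  obtain ⟨n, hn, hθ1⟩ := irr_apply_one_pos hθ
  have h1 := classInner_irr_self hθ
  rw [classInner_def] at h1
  have h2 : ∀ g : X, θ g * conj (θ g) = (n : ℂ) ^ 2 := by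
    intro g
    rw [hc g, hθ1, Complex.conj_natCast, pow_two]
  rw [Finset.sum_congr rfl fun g _ => h2 g, Finset.sum_const, Finset.card_univ,
    ← Nat.card_eq_fintype_card, nsmul_eq_mul, ← mul_assoc,
    inv_mul_cancel₀ (Nat.cast_ne_zero.mpr Nat.card_pos.ne'), one_mul] at h1
  have h3 : n ^ 2 = 1 := by exact_mod_cast h1
  have h4 : n = 1 := by
    have := Nat.pow_eq_one.mp h3
    omega
  funext a
  rw [hc a, hθ1, h4]
  simp

/-- the set of irreducible characters nontrivial on the kernel is the set of induced characters -/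
theorem frob_set_eq (K : Subgroup L) [hK : K.Normal] [Fintype K]
    (hC : ∀ k ∈ K, k ≠ 1 → Subgroup.centralizer ({k} : Set L) ≤ K) :
    {χ : L → ℂ | IsIrrCharacter L χ ∧ ∃ h ∈ K, χ h ≠ χ 1} = inducedIrrAbove K ⊥ := by
  ext χ
  constructor
  · rintro ⟨hχ, h, hh, hne⟩
    obtain ⟨θ, hθ, hθ1, rfl⟩ := Cfsg.Agent.Lib.Helper2.FrobKer.exists_induced K hC hχ ⟨h, hh, hne⟩
    refine ⟨θ, hθ, hθ1, ?_, rfl⟩
    intro a ha
    rw [Subgroup.mem_bot] at ha
    have : a = 1 := Subtype.ext ha
    rw [this]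
  · rintro ⟨θ, hθ, hθ1, -, rfl⟩
    refine ⟨Cfsg.Agent.Lib.Helper2.FrobKer.isIrr_indFun K hC hθ hθ1, ?_⟩
    by_contra hno
    push Not at hno
    apply hθ1
    apply irr_const_eq_one hθ
    intro a
    exact (Cfsg.Agent.S1487.result K K le_rfl θ hθ).mpr (fun a ha => hno a ha) a a.2

theorem frob_irr (K : Subgroup L) [hK : K.Normal] [Fintype K]
    (hC : ∀ k ∈ K, k ≠ 1 → Subgroup.centralizer ({k} : Set L) ≤ K) :
    ∀ χ ∈ inducedIrrAbove K ⊥, IsIrrCharacter L χ := by
  rintro χ ⟨θ, hθ, hθ1, -, rfl⟩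
  exact Cfsg.Agent.Lib.Helper2.FrobKer.isIrr_indFun K hC hθ hθ1

/-- numerical lemma for the first step -/
theorem arith_mid (e r s : ℕ) (he : 1 ≤ e) (hr : e + 1 ≤ r) (hs : e + 1 ≤ s) :
    4 * e ^ 2 * r < (r * s - 1) ^ 2 := by
  have h1 : 1 ≤ r * s := Nat.one_le_iff_ne_zero.mpr (Nat.mul_ne_zero (by omega) (by omega))
  zify [h1]
  have he' : (1 : ℤ) ≤ e := by exact_mod_cast he
  have hr' : (e : ℤ) + 1 ≤ r := by exact_mod_cast hr
  have hs' : (e : ℤ) + 1 ≤ s := by exact_mod_cast hs
  have h2 : (e : ℤ) * (r + 1) ≤ r * s - 1 := by nlinarith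
  have h3 : (0 : ℤ) ≤ e * (r + 1) := by positivity
  have h4 : ((e : ℤ) * (r + 1)) ^ 2 ≤ (r * s - 1) ^ 2 := pow_le_pow_left₀ h3 h2 2
  nlinarith [sq_nonneg ((r : ℤ) - 1)]

theorem arith_cube (e : ℕ) (he : 1 ≤ e) : 4 * e ^ 2 + 1 < (e + 1) * (e + 1) * (e + 1) := by
  nlinarith [sq_nonneg (e - 1 : ℤ)]

/-- Feit's theorem -/
theorem feit_frobenius (K : Subgroup L) [hK : K.Normal] (hK1 : K ≠ ⊥) (hK2 : K ≠ ⊤)
    (hC : ∀ k ∈ K, k ≠ 1 → Subgroup.centralizer ({k} : Set L) ≤ K)
    (he : Nat.card K ≠ K.index + 1) (τ : (L → ℂ) → (G → ℂ))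
    (hτ : IsLinearIsometryOn (zspanOn (inducedIrrAbove K ⊥) {1}ᶜ) τ)
    (hτ1 : ∀ α ∈ zspanOn (inducedIrrAbove K ⊥) ({1}ᶜ : Set L), τ α 1 = 0) :
    IsCoherent (inducedIrrAbove K ⊥) {1}ᶜ τ ∨
      ((∃ p : ℕ, p.Prime ∧ ∃ m : ℕ, Nat.card K = p ^ m) ∧ ⁅K, K⁆ ≠ ⊥ ∧
        (⁅K, K⁆).relIndex K ≤ 4 * K.index ^ 2 + 1) := by
  classical
  haveI : Fintype K := Fintype.ofFinite _
  have hnil : Group.IsNilpotent K := isNilpotent_kernel K hC hK1 hK2
  have hsolv : Group.IsSolvable K := by
    haveI := hnil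
    infer_instance
  have hirr := frob_irr K hC
  haveI hbotn : ((⊥ : Subgroup L).subgroupOf K).Normal := by
    rw [Subgroup.bot_subgroupOf]; infer_instance
  have hnilq : Group.IsNilpotent (↥K ⧸ (⊥ : Subgroup L).subgroupOf K) := by
    haveI := hnil
    infer_instance
  haveI hcn : (⁅K, K⁆).Normal := Subgroup.commutator_normal K K
  have hcle : ⁅K, K⁆ ≤ K := commutator_self_le K
  set e := K.index with hedef
  have he1 : 1 ≤ e := Nat.one_le_iff_ne_zero.mpr Subgroup.index_ne_zero_of_finite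
  have hbotK : (⊥ : Subgroup L) < K := bot_lt_iff_ne_bot.mpr hK1
  by_cases hab : ⁅K, K⁆ = ⊥
  · -- abelian kernel
    left
    have h1 := section_ge K ⊥ K hC hbotK le_rfl
    have h2 := section_cong K ⊥ K hC bot_le le_rfl
    rw [Subgroup.relIndex_bot_left] at h1 h2
    have hbig : 2 * K.index < (⊥ : Subgroup L).relIndex K := by
      rw [Subgroup.relIndex_bot_left]
      obtain ⟨c, hc⟩ := h2
      have hc1 : c ≠ 0 := by
        rintro rfl
        omega
      have hc2 : c ≠ 1 := by
        rintro rfl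
        apply he
        omega
      have hc3 : 2 ≤ c := by omega
      have : K.index * 2 ≤ K.index * c := Nat.mul_le_mul_left _ hc3
      omega
    exact base_irr K hsolv hirr τ hτ hτ1 ⊥ bot_le (by rw [hab]) hbig
  · -- nonabelian kernel
    have hcK : ⁅K, K⁆ < K := by
      refine lt_of_le_of_ne hcle ?_
      intro heq
      haveI := hnil
      apply hab
      have hbot : (⁅K, K⁆.subgroupOf K) = ⊥ := by
        apply eq_bot_of_le_commutator_top
        intro k _
        have hk : (k : L) ∈ ⁅K, K⁆ := by rw [heq]; exact k.2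
        rw [← Subgroup.map_subtype_commutator] at hk
        obtain ⟨c, hc, hck⟩ := hk
        have : c = k := Subtype.ext hck
        rw [← this]
        rw [commutator_def] at hc
        refine Subgroup.commutator_mono ?_ le_rfl hc
        intro x _
        rw [Subgroup.mem_subgroupOf, heq]
        exact x.2
      rw [eq_bot_iff]
      intro z hz
      have : (⟨z, hcle hz⟩ : ↥K) ∈ (⁅K, K⁆.subgroupOf K) := by
        rw [Subgroup.mem_subgroupOf]; exact hz
      rw [hbot, Subgroup.mem_bot] at this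
      rw [Subgroup.mem_bot]
      exact congrArg Subtype.val this
    by_cases hbigc : 4 * e ^ 2 + 1 < (⁅K, K⁆).relIndex K
    · left
      have hbase : IsCoherent (inducedIrrAbove K ⁅K, K⁆) {1}ᶜ τ := by
        apply base_irr K hsolv hirr τ hτ hτ1 ⁅K, K⁆ hcle le_rfl
        nlinarith
      exact nilpotent_descent_irr K hsolv hirr τ hτ hτ1 ⊥ ⁅K, K⁆ bot_le hcle hnilq hbase hbigc
    · push Not at hbigc
      by_cases hpg : ∃ p : ℕ, p.Prime ∧ ∃ m : ℕ, Nat.card K = p ^ m
      · right
        exact ⟨hpg, hab, hbigc⟩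
      · left
        -- two primes dividing `|K : K'|`
        have hK1' : Nat.card K ≠ 1 := by
          intro h
          apply hK1
          exact Subgroup.card_eq_one.mp h
        obtain ⟨p, hp, hpK⟩ := Nat.exists_prime_and_dvd hK1'
        have hex : ∃ q : ℕ, q.Prime ∧ q ∣ Nat.card K ∧ q ≠ p := by
          by_contra hno
          push Not at hno
          apply hpg
          exact ⟨p, hp, _, Nat.eq_prime_pow_of_unique_prime_dvd Nat.card_pos.ne'
            (fun {d} hd hdn => hno d hd hdn)⟩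
        obtain ⟨q, hq, hqK, hqp⟩ := hex
        have hrel : (⁅K, K⁆).relIndex K = Nat.card (Abelianization ↥K) := by
          have h1 : (⁅K, K⁆).subgroupOf K = commutator ↥K := by
            ext x
            rw [Subgroup.mem_subgroupOf, ← Subgroup.map_subtype_commutator]
            constructor
            · rintro ⟨c, hc, hcx⟩
              have : c = x := Subtype.ext hcx
              rw [← this]; exact hc
            · intro hx
              exact ⟨x, hx, rfl⟩
          show ((⁅K, K⁆).subgroupOf K).index = _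
          rw [h1, Subgroup.index_eq_card]
          rfl
        haveI := hnil
        have hpd : p ∣ (⁅K, K⁆).relIndex K := by
          rw [hrel]; exact prime_dvd_card_abelianization _ hp hpK
        have hqd : q ∣ (⁅K, K⁆).relIndex K := by
          rw [hrel]; exact prime_dvd_card_abelianization _ hq hqK
        obtain ⟨N, hNn, hcN, hNK, hNc⟩ := exists_good_mid K hnil hab hp hq hqp.symm hpd hqd
        haveI := hNn
        set M₁ := ⁅N, K⁆ with hM₁
        haveI hM₁n : M₁.Normal := Subgroup.commutator_normal N K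
        have r_ge := section_ge K N K hC hNK le_rfl
        have s_ge := section_ge K ⁅K, K⁆ N hC hcN hNK.le
        have t_ge := section_ge K M₁ ⁅K, K⁆ hC hNc hcle
        have e1 : (⁅K, K⁆).relIndex N * N.relIndex K = (⁅K, K⁆).relIndex K :=
          Subgroup.relIndex_mul_relIndex _ N K hcN.le hNK.le
        have e2 : M₁.relIndex ⁅K, K⁆ * (⁅K, K⁆).relIndex K = M₁.relIndex K :=
          Subgroup.relIndex_mul_relIndex M₁ _ K hNc.le hcle
        have hbase : IsCoherent (inducedIrrAbove K ⁅K, K⁆) {1}ᶜ τ := by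
          apply base_irr K hsolv hirr τ hτ hτ1 ⁅K, K⁆ hcle le_rfl
          rw [← e1]
          nlinarith
        have hstep : IsCoherent (inducedIrrAbove K M₁) {1}ᶜ τ := by
          apply central_step_irr K hsolv hirr τ hτ hτ1 ⁅K, K⁆ M₁ N hcK hNc.le
            (hNc.le.trans hcN.le) hNK.le
          · intro x hx y hy
            have := Subgroup.commutator_mem_commutator hx hy
            rwa [commutatorElement_def] at this
          · exact hbase
          · rw [← e1]
            have := arith_mid e (N.relIndex K) ((⁅K, K⁆).relIndex N) he1 r_ge s_ge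
            rwa [mul_comm (N.relIndex K)] at this
        haveI hM₁Kn : (M₁.subgroupOf K).Normal := hM₁n.subgroupOf K
        have hnilq' : Group.IsNilpotent (↥K ⧸ (⊥ : Subgroup L).subgroupOf K) := hnilq
        apply nilpotent_descent_irr K hsolv hirr τ hτ hτ1 ⊥ M₁ bot_le (hNc.le.trans hcle) hnilq
          hstep
        rw [← e2, ← e1]
        have h3 := arith_cube e he1
        have h4 : (e + 1) * (e + 1) * (e + 1) ≤
            M₁.relIndex ⁅K, K⁆ * ((⁅K, K⁆).relIndex N * N.relIndex K) := by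
          calc (e + 1) * (e + 1) * (e + 1) = (e + 1) * ((e + 1) * (e + 1)) := by ring
            _ ≤ M₁.relIndex ⁅K, K⁆ * ((⁅K, K⁆).relIndex N * N.relIndex K) :=
              Nat.mul_le_mul t_ge (Nat.mul_le_mul s_ge r_ge)
        exact lt_of_lt_of_le h3 h4

end Feit

end Cfsg.Agent.Lib.Helper4.PF7
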