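import Mathlib
import Cfsg.Agent.Lib.Helper4.PF6j
import Cfsg.Agent.Lib.Helper4.PF6k
import Cfsg.Agent.Lib.Helper2.TIFN
import Cfsg.Agent.Lib.Helper1.CliffordCorr
import Cfsg.Agent.S0150
import Cfsg.Agent.S0177
import Cfsg.Agent.S0194
import Cfsg.Agent.S1514

set_option autoImplicit false
set_option linter.unusedSectionVars false
set_option linter.unusedVariables false
set_option maxHeartbeats 800000

/-!
# Induction from the normaliser of a T.I. subgroup is an isometry on `ℤ[S]°`
where `S` is the set of characters induced from the T.I. subgroup.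
-/

namespace Cfsg.Agent.Lib.Helper4.PF6

open Cfsg Cfsg.Agent.Lib.Helper4 Cfsg.Agent.Lib.Helper1 Cfsg.Agent.Lib.Helper4.FrobTI
  Cfsg.Agent.Lib.Helper4.Coh
open scoped ComplexConjugate

section TI

variable {G : Type*} [Group G] [Fintype G] (K : Subgroup G)
  [Fintype ↥(Subgroup.normalizer (K : Set G))]

theorem zspan_induced_props
    [hKn : (K.subgroupOf (Subgroup.normalizer (K : Set G))).Normal]
    {α : ↥(Subgroup.normalizer (K : Set G)) → ℂ}
    (hα : α ∈ zspan (inducedIrrAbove (K.subgroupOf (Subgroup.normalizer (K : Set G))) ⊥)) :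
    IsGeneralizedCharacter ↥(Subgroup.normalizer (K : Set G)) α ∧
      ∀ x : ↥(Subgroup.normalizer (K : Set G)), (x : G) ∉ (K : Set G) → α x = 0 := by
  rw [mem_zspan_iff] at hα
  induction hα using Submodule.span_induction with
  | mem χ hχ =>
    obtain ⟨θ, hθ, rfl⟩ := mem_induced_iff.mp hχ
    refine ⟨isGenChar_of_isCharacter (induced_isCharacter hθ.1), fun x hx => ?_⟩
    exact indFun_normal_of_notMem _ θ (fun h => hx (Subgroup.mem_subgroupOf.mp h))
  | zero => exact ⟨isGenChar_zero, fun x _ => rfl⟩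
  | add a b _ _ iha ihb =>
    exact ⟨isGenChar_add iha.1 ihb.1, fun x hx => by
      rw [Pi.add_apply, iha.2 x hx, ihb.2 x hx, add_zero]⟩
  | smul n a _ iha =>
    exact ⟨Cfsg.Agent.Lib.Helper4.Coh.isGenChar_zsmul iha.1 n, fun x hx => by
      rw [Pi.smul_apply, iha.2 x hx, smul_zero]⟩

theorem ti_isometry (hTI : Cfsg.IsTISubset (K : Set G))
    [hKn : (K.subgroupOf (Subgroup.normalizer (K : Set G))).Normal] :
    IsLinearIsometryOn
      (zspanOn (inducedIrrAbove (K.subgroupOf (Subgroup.normalizer (K : Set G))) ⊥) {1}ᶜ)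
      (fun α => indFun (Subgroup.normalizer (K : Set G)) α) ∧
    ∀ α ∈ zspanOn (inducedIrrAbove (K.subgroupOf (Subgroup.normalizer (K : Set G))) ⊥) {1}ᶜ,
      indFun (Subgroup.normalizer (K : Set G)) α 1 = 0 := by
  refine ⟨⟨?_, ?_, ?_, ?_⟩, ?_⟩
  · intro α _ β _
    exact indFun_add _ α β
  · intro α _ n
    show indFun _ (n • α) = n • indFun _ α
    have h1 : (n • α : ↥(Subgroup.normalizer (K : Set G)) → ℂ) = (n : ℂ) • α := by
      funext x
      simp
    rw [h1, indFun_smul]
    funext x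
    simp
  · intro α hα β hβ
    obtain ⟨hαg, hαv⟩ := zspan_induced_props K hα.1
    obtain ⟨hβg, hβv⟩ := zspan_induced_props K hβ.1
    have hα1 : α 1 = 0 := hα.2 1 (by simp)
    exact Cfsg.Agent.S0150.result (K : Set G) hTI (Subgroup.le_normalizer) α β
      (isGenChar_isClassFunction hαg) (isGenChar_isClassFunction hβg) hαv hβv hα1
  · intro α hα
    exact Cfsg.Agent.S0177.isGenChar_indFun _ (zspan_induced_props K hα.1).1
  · intro α hα
    have hα1 : α 1 = 0 := hα.2 1 (by simp)
    rw [Cfsg.Agent.S0170.indFun_one, hα1]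
    simp

end TI

end Cfsg.Agent.Lib.Helper4.PF6
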