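import Mathlib
import Cfsg.Agent.Lib.Helper4.PF7a

set_option autoImplicit false
set_option linter.unusedSectionVars false
set_option linter.unusedVariables false
set_option maxHeartbeats 1600000

/-!
# Adjoining a character of smaller degree to a coherent set, given the image explicitly
-/

namespace Cfsg.Agent.Lib.Helper4.PF8

open Cfsg Cfsg.Agent.Lib.Helper1 Cfsg.Agent.Lib.Helper4 Cfsg.Agent.Lib.Helper4.Coh
open scoped ComplexConjugate

section General

variable {L : Type*} [Group L] [Fintype L] {G : Type*} [Group G] [Fintype G]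

theorem insert_with (S₀ : Finset (L → ℂ)) (χ : L → ℂ)
    (hirr : ∀ ξ ∈ S₀, IsIrrCharacter L ξ) (hχ : IsIrrCharacter L χ) (hχS : χ ∉ S₀)
    (d : (L → ℂ) → ℕ) (hd : ∀ ξ ∈ insert χ S₀, ξ 1 = (d ξ : ℂ)) (τ : (L → ℂ) → (G → ℂ))
    (hτ : IsLinearIsometryOn (zspanOn (↑(insert χ S₀) : Set (L → ℂ)) {1}ᶜ) τ)
    (T : (L → ℂ) → (G → ℂ))
    (hT1 : ∀ φ ∈ S₀, ∀ η ∈ S₀, classInner (T φ) (T η) = classInner φ η)
    (hT2 : ∀ φ ∈ S₀, IsGeneralizedCharacter G (T φ))
    (hTag : ∀ c : (L → ℂ) → ℤ, (∑ φ ∈ S₀, c φ • φ) ∈ zspanOn (↑S₀ : Set (L → ℂ)) {1}ᶜ →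
      τ (∑ φ ∈ S₀, c φ • φ) = ∑ φ ∈ S₀, c φ • T φ)
    (ψ : L → ℂ) (hψ : ψ ∈ S₀) (a : ℕ) (ha : d ψ = a * d χ)
    (Y : G → ℂ) (hYg : IsGeneralizedCharacter G Y) (hYY : classInner Y Y = 1)
    (hYφ : ∀ φ ∈ S₀, classInner Y (T φ) = 0)
    (hYe : τ (ψ - (a : ℤ) • χ) = T ψ - (a : ℤ) • Y) :
    IsCoherent (↑(insert χ S₀) : Set (L → ℂ)) {1}ᶜ τ := by
  classical
  have hsub : (↑S₀ : Set (L → ℂ)) ⊆ ↑(insert χ S₀) :=
    Finset.coe_subset.2 (Finset.subset_insert χ S₀)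
  have hd' : ∀ φ ∈ (↑(insert χ S₀) : Set (L → ℂ)), φ 1 = (d φ : ℂ) := fun φ hφ =>
    hd φ (Finset.mem_coe.1 hφ)
  have hχF : χ ∈ (↑(insert χ S₀) : Set (L → ℂ)) := Finset.mem_coe.2 (Finset.mem_insert_self _ _)
  have hψF : ψ ∈ (↑(insert χ S₀) : Set (L → ℂ)) := hsub hψ
  have hirrF : ∀ ξ ∈ (↑(insert χ S₀) : Set (L → ℂ)), IsIrrCharacter L ξ := by
    intro ξ hξ
    rw [Finset.mem_coe, Finset.mem_insert] at hξ
    rcases hξ with rfl | hξ
    · exact hχ
    · exact hirr ξ hξ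
  have hFo : OrthoSet (↑(insert χ S₀) : Set (L → ℂ)) := orthoSet_of_irr hirrF
  have ha0 : a ≠ 0 := by
    intro h0
    obtain ⟨n, hn, hn1⟩ := irr_apply_one_pos (hirr ψ hψ)
    have h1 := hd ψ (Finset.mem_insert_of_mem hψ)
    rw [hn1] at h1
    have h2 : n = d ψ := by exact_mod_cast h1
    rw [ha, h0, zero_mul] at h2
    omega
  -- the basic element
  have hβ₀m : ψ - (a : ℤ) • χ ∈ zspanOn (↑(insert χ S₀) : Set (L → ℂ)) {1}ᶜ := by
    refine ⟨zspan_sub (mem_zspan_of_mem hψF) (zspan_zsmul _ (mem_zspan_of_mem hχF)), ?_⟩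
    intro x hx
    have : x = 1 := by
      by_contra h
      exact hx h
    rw [this, Pi.sub_apply, Pi.smul_apply, hd' χ hχF, hd' ψ hψF, ha]
    push_cast
    simp
  set T' : (L → ℂ) → (G → ℂ) := fun φ => if φ = χ then Y else T φ with hT'
  have hTχ : T' χ = Y := if_pos rfl
  have hTφ : ∀ φ ∈ S₀, T' φ = T φ := by
    intro φ hφ
    have h1 : φ ≠ χ := fun h => hχS (h ▸ hφ)
    show (if φ = χ then Y else T φ) = _
    rw [if_neg h1]
  have hT1' : ∀ φ ∈ insert χ S₀, ∀ η ∈ insert χ S₀,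
      classInner (T' φ) (T' η) = classInner φ η := by
    intro φ hφ η hη
    rw [Finset.mem_insert] at hφ hη
    rcases hφ with rfl | hφ <;> rcases hη with rfl | hη
    · rw [hTχ, hYY, classInner_irr_self hχ]
    · rw [hTχ, hTφ η hη, hYφ η hη,
        classInner_irr_ne hχ (hirr η hη) (fun h => hχS (h ▸ hη))]
    · rw [hTχ, hTφ φ hφ, classInner_eq_zero_symm (hYφ φ hφ),
        classInner_irr_ne (hirr φ hφ) hχ (fun h => hχS (h ▸ hφ))]
    · rw [hTφ φ hφ, hTφ η hη, hT1 φ hφ η hη]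
  have hT2' : ∀ φ ∈ insert χ S₀, IsGeneralizedCharacter G (T' φ) := by
    intro φ hφ
    rw [Finset.mem_insert] at hφ
    rcases hφ with rfl | hφ
    · rw [hTχ]; exact hYg
    · rw [hTφ φ hφ]
      exact hT2 φ hφ
  refine ⟨⟨ψ - (a : ℤ) • χ, hβ₀m, ?_⟩, extend (insert χ S₀) T', ?_, ?_⟩
  · intro h
    have h1 : classInner (ψ - (a : ℤ) • χ) ψ = 1 := by
      rw [classInner_sub_left, classInner_zsmul_left, classInner_irr_self (hirr ψ hψ),
        classInner_irr_ne hχ (hirr ψ hψ) (fun h => hχS (h ▸ hψ))]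
      ring
    rw [h, classInner_zero_left] at h1
    exact zero_ne_one h1
  · exact extend_isometry (insert χ S₀) hFo T' hT1' hT2'
  · intro α hα
    obtain ⟨c, rfl⟩ := exists_coeff (insert χ S₀) hα.1
    rw [extend_sum_zsmul (insert χ S₀) hFo]
    rw [Finset.sum_insert hχS, Finset.sum_insert hχS, hTχ]
    set x := c χ with hx
    set β : L → ℂ := ∑ φ ∈ S₀, c φ • φ with hβ
    have hsumT : ∑ φ ∈ S₀, c φ • T' φ = ∑ φ ∈ S₀, c φ • T φ :=
      Finset.sum_congr rfl fun φ hφ => by rw [hTφ φ hφ]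
    rw [hsumT]
    have hα1 : (x • χ + β) 1 = 0 := by
      have := hα.2 1 (by simp)
      rw [Finset.sum_insert hχS] at this
      exact this
    have hαm : x • χ + β ∈ zspanOn (↑(insert χ S₀) : Set (L → ℂ)) {1}ᶜ := by
      have := hα
      rw [Finset.sum_insert hχS] at this
      exact this
    -- the coefficients of γ'
    set c' : (L → ℂ) → ℤ := fun φ => (a : ℤ) * c φ + (if φ = ψ then x else 0) with hc'
    have hγeq : ∑ φ ∈ S₀, c' φ • φ = (a : ℤ) • β + x • ψ := by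
      rw [hβ, Finset.smul_sum]
      simp only [hc', add_smul, Finset.sum_add_distrib, mul_smul]
      congr 1
      rw [Finset.sum_eq_single ψ]
      · rw [if_pos rfl]
      · intro φ _ hne; rw [if_neg hne, zero_smul]
      · intro h; exact absurd hψ h
    have hγm : ∑ φ ∈ S₀, c' φ • φ ∈ zspanOn (↑S₀ : Set (L → ℂ)) {1}ᶜ := by
      refine ⟨sum_zsmul_mem_zspan S₀ c', ?_⟩
      intro z hz
      have : z = 1 := by
        by_contra h
        exact hz h
      rw [this, hγeq]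
      simp only [Pi.add_apply, Pi.smul_apply] at hα1 ⊢
      rw [hd' χ hχF] at hα1
      rw [hd' ψ hψF, ha]
      simp only [zsmul_eq_mul] at hα1 ⊢
      push_cast at hα1 ⊢
      linear_combination (a : ℂ) * hα1
    have hγm' : ∑ φ ∈ S₀, c' φ • φ ∈ zspanOn (↑(insert χ S₀) : Set (L → ℂ)) {1}ᶜ :=
      zspanOn_mono hsub hγm
    have hdec : (a : ℤ) • (x • χ + β) = (-x) • (ψ - (a : ℤ) • χ) + ∑ φ ∈ S₀, c' φ • φ := by
      rw [hγeq]
      funext z
      simp only [Pi.add_apply, Pi.smul_apply, Pi.sub_apply]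
      simp only [zsmul_eq_mul]
      push_cast
      ring
    have h1 : (a : ℤ) • τ (x • χ + β) = (a : ℤ) • (x • Y + ∑ φ ∈ S₀, c φ • T φ) := by
      rw [← lio_zsmul hτ hαm, hdec, lio_add hτ (zspanOn_zsmul _ hβ₀m) hγm',
        lio_zsmul hτ hβ₀m, hTag c' hγm, hYe]
      have hsum2 : ∑ φ ∈ S₀, c' φ • T φ = (a : ℤ) • (∑ φ ∈ S₀, c φ • T φ) + x • T ψ := by
        rw [Finset.smul_sum]
        simp only [hc', add_smul, Finset.sum_add_distrib, mul_smul]
        congr 1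
        rw [Finset.sum_eq_single ψ]
        · rw [if_pos rfl]
        · intro φ _ hne; rw [if_neg hne, zero_smul]
        · intro h; exact absurd hψ h
      rw [hsum2]
      funext z
      simp only [Pi.add_apply, Pi.smul_apply, Pi.sub_apply]
      simp only [zsmul_eq_mul]
      push_cast
      ring
    funext z
    have h2 : ((a : ℤ) : ℂ) * τ (x • χ + β) z
        = ((a : ℤ) : ℂ) * (x • Y + ∑ φ ∈ S₀, c φ • T φ) z := by
      have h3 := congrFun h1 z
      have e1 : ((a : ℤ) • τ (x • χ + β)) z = ((a : ℤ) : ℂ) * τ (x • χ + β) z := by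
        rw [Pi.smul_apply, zsmul_eq_mul]
      have e2 : ((a : ℤ) • (x • Y + ∑ φ ∈ S₀, c φ • T φ)) z
          = ((a : ℤ) : ℂ) * (x • Y + ∑ φ ∈ S₀, c φ • T φ) z := by
        rw [Pi.smul_apply, zsmul_eq_mul]
      rw [← e1, ← e2]
      exact h3
    have ha0' : ((a : ℤ) : ℂ) ≠ 0 := by exact_mod_cast ha0
    exact (mul_left_cancel₀ ha0' h2).symm

end General

end Cfsg.Agent.Lib.Helper4.PF8
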