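import Mathlib
import Cfsg.Agent.Lib.Helper4.PF8b

set_option autoImplicit false
set_option linter.unusedSectionVars false
set_option linter.unusedVariables false
set_option maxHeartbeats 1600000

/-!
# Sibley's step: adjoining a character of smaller degree, given divisibility of multiplicities
-/

namespace Cfsg.Agent.Lib.Helper4.PF8

open Cfsg Cfsg.Agent.Lib.Helper1 Cfsg.Agent.Lib.Helper4 Cfsg.Agent.Lib.Helper4.Coh
open scoped ComplexConjugate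

section General

variable {L : Type*} [Group L] [Fintype L] {G : Type*} [Group G] [Fintype G]

/-- a generalized character all of whose multiplicities are divisible by `a` is `a` times a
generalized character -/
theorem genChar_div {Δ : G → ℂ} (hΔ : IsGeneralizedCharacter G Δ) (a : ℕ)
    (h : ∀ ψ : G → ℂ, IsIrrCharacter G ψ → ∃ m : ℤ, classInner Δ ψ = (a : ℂ) * m) :
    ∃ Δ' : G → ℂ, IsGeneralizedCharacter G Δ' ∧ Δ = (a : ℤ) • Δ' := by
  classical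
  haveI : Fintype (Cfsg.IrrCharacter G) := Fintype.ofFinite _
  have h' : ∀ χ : Cfsg.IrrCharacter G, ∃ m : ℤ, classInner Δ (χ : G → ℂ) = (a : ℂ) * m :=
    fun χ => h _ χ.2
  choose m hm using h'
  have hexp := genChar_expansion hΔ (fun χ => (a : ℤ) * m χ) (fun χ => by
    rw [hm χ]; push_cast; ring)
  refine ⟨∑ χ : Cfsg.IrrCharacter G, m χ • (χ : G → ℂ), ?_, ?_⟩
  · exact isGenChar_sum _ _ fun χ _ => isGenChar_zsmul (isGenChar_of_irr χ.2) _
  · conv_lhs => rw [hexp]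
    rw [Finset.smul_sum]
    refine Finset.sum_congr rfl fun χ _ => ?_
    funext z
    rw [Pi.smul_apply, Pi.smul_apply, Pi.smul_apply, smul_eq_mul, zsmul_eq_mul, zsmul_eq_mul]
    push_cast
    ring

theorem sibley_insert (𝒯 : Finset (L → ℂ)) (lam : L → ℂ)
    (hirr : ∀ ξ ∈ 𝒯, IsIrrCharacter L ξ) (hlam : IsIrrCharacter L lam) (hlamT : lam ∉ 𝒯)
    (d : (L → ℂ) → ℕ) (hd : ∀ ξ ∈ insert lam 𝒯, ξ 1 = (d ξ : ℂ))
    (τ : (L → ℂ) → (G → ℂ))
    (hτ : IsLinearIsometryOn (zspanOn (↑(insert lam 𝒯) : Set (L → ℂ)) {1}ᶜ) τ)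
    (hτ1 : ∀ α ∈ zspanOn (↑(insert lam 𝒯) : Set (L → ℂ)) {1}ᶜ, τ α 1 = 0)
    (hcoh : IsCoherent (↑𝒯 : Set (L → ℂ)) {1}ᶜ τ)
    (ξ : L → ℂ) (hξ : ξ ∈ 𝒯) (a : ℕ) (ha : d ξ = a * d lam)
    (h2 : ∃ φ ∈ 𝒯, φ ≠ ξ)
    (hdiv : ∀ τ₁ : (L → ℂ) → (G → ℂ), IsLinearIsometryOn (zspan (↑𝒯 : Set (L → ℂ))) τ₁ →
      (∀ α ∈ zspanOn (↑𝒯 : Set (L → ℂ)) {1}ᶜ, τ₁ α = τ α) →
      ∀ ψ : G → ℂ, IsIrrCharacter G ψ → (∀ φ ∈ 𝒯, classInner (τ₁ φ) ψ = 0) →
        ∃ m : ℤ, classInner (τ (ξ - (a : ℤ) • lam)) ψ = (a : ℂ) * m) :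
    IsCoherent (↑(insert lam 𝒯) : Set (L → ℂ)) {1}ᶜ τ := by
  classical
  obtain ⟨-, τ₁, hτ₁, hagree⟩ := hcoh
  have hsub : (↑𝒯 : Set (L → ℂ)) ⊆ ↑(insert lam 𝒯) :=
    Finset.coe_subset.2 (Finset.subset_insert lam 𝒯)
  have hd' : ∀ φ ∈ (↑(insert lam 𝒯) : Set (L → ℂ)), φ 1 = (d φ : ℂ) := fun φ hφ =>
    hd φ (Finset.mem_coe.1 hφ)
  have hd₀ : ∀ φ ∈ (↑𝒯 : Set (L → ℂ)), φ 1 = (d φ : ℂ) := fun φ hφ => hd' φ (hsub hφ)
  have hlamF : lam ∈ (↑(insert lam 𝒯) : Set (L → ℂ)) :=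
    Finset.mem_coe.2 (Finset.mem_insert_self _ _)
  have hξF : ξ ∈ (↑(insert lam 𝒯) : Set (L → ℂ)) := hsub hξ
  have hdpos : ∀ φ ∈ 𝒯, 0 < d φ := by
    intro φ hφ
    obtain ⟨n, hn, hn1⟩ := irr_apply_one_pos (hirr φ hφ)
    have h1 := hd₀ φ hφ
    rw [hn1] at h1
    have h2 : n = d φ := by exact_mod_cast h1
    omega
  have ha0 : a ≠ 0 := by
    intro h0
    have := hdpos ξ hξ
    rw [ha, h0, zero_mul] at this
    exact lt_irrefl _ this
  have hneξ : lam ≠ ξ := fun h => hlamT (h ▸ hξ)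
  have hβm : ξ - (a : ℤ) • lam ∈ zspanOn (↑(insert lam 𝒯) : Set (L → ℂ)) {1}ᶜ := by
    refine ⟨zspan_sub (mem_zspan_of_mem hξF) (zspan_zsmul _ (mem_zspan_of_mem hlamF)), ?_⟩
    intro x hx
    have : x = 1 := by
      by_contra h
      exact hx h
    rw [this, Pi.sub_apply, Pi.smul_apply, hd' lam hlamF, hd' ξ hξF, ha]
    push_cast
    simp
  set B : G → ℂ := τ (ξ - (a : ℤ) • lam) with hB
  have hBg : IsGeneralizedCharacter G B := lio_genChar hτ hβm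
  have hB1 : B 1 = 0 := hτ1 _ hβm
  have o1 : classInner ξ lam = 0 := classInner_irr_ne (hirr ξ hξ) hlam (Ne.symm hneξ)
  have o2 : classInner lam ξ = 0 := classInner_irr_ne hlam (hirr ξ hξ) hneξ
  have hBB : classInner B B = ((1 + (a : ℤ) ^ 2 : ℤ) : ℂ) := by
    rw [hB, lio_inner hτ hβm hβm]
    simp only [classInner_sub_left, classInner_sub_right, classInner_zsmul_left,
      classInner_zsmul_right]
    rw [o1, o2, classInner_irr_self (hirr ξ hξ), classInner_irr_self hlam]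
    push_cast
    ring
  have hV : ∀ i ∈ 𝒯, ∀ j ∈ 𝒯, classInner (τ₁ i) (τ₁ j) = if i = j then 1 else 0 := by
    intro i hi j hj
    rw [lio_inner hτ₁ (mem_zspan_of_mem hi) (mem_zspan_of_mem hj)]
    by_cases hij : i = j
    · rw [if_pos hij, hij, classInner_irr_self (hirr j hj)]
    · rw [if_neg hij, classInner_irr_ne (hirr i hi) (hirr j hj) hij]
  have hVg : ∀ φ ∈ 𝒯, IsGeneralizedCharacter G (τ₁ φ) := fun φ hφ =>
    lio_genChar hτ₁ (mem_zspan_of_mem hφ)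
  have hx' : ∀ φ : L → ℂ, ∃ m : ℤ, φ ∈ 𝒯 → classInner B (τ₁ φ) = m := by
    intro φ
    by_cases hφ : φ ∈ 𝒯
    · obtain ⟨m, hm⟩ := classInner_genChar_int hBg (hVg φ hφ)
      exact ⟨m, fun _ => hm⟩
    · exact ⟨0, fun h => absurd h hφ⟩
  choose x hx using hx'
  -- the relations between the coefficients
  have hrel : ∀ φ ∈ 𝒯, φ ≠ ξ → (d ξ : ℤ) * x φ = (d φ : ℤ) * (x ξ - 1) := by
    intro φ hφ hne
    set γ : L → ℂ := (d φ : ℤ) • ξ - (d ξ : ℤ) • φ with hγ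
    have hγm : γ ∈ zspanOn (↑𝒯 : Set (L → ℂ)) {1}ᶜ := feit_gamma_mem d hd₀ hφ hξ
    have hγm' : γ ∈ zspanOn (↑(insert lam 𝒯) : Set (L → ℂ)) {1}ᶜ := zspanOn_mono hsub hγm
    have e1 : τ₁ γ = (d φ : ℤ) • τ₁ ξ - (d ξ : ℤ) • τ₁ φ := by
      rw [hγ, lio_sub hτ₁ (zspan_zsmul _ (mem_zspan_of_mem hξ))
        (zspan_zsmul _ (mem_zspan_of_mem hφ)) (zspan_neg (zspan_zsmul _ (mem_zspan_of_mem hφ))),
        lio_zsmul hτ₁ (mem_zspan_of_mem hξ), lio_zsmul hτ₁ (mem_zspan_of_mem hφ)]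
    have o3 : classInner ξ φ = 0 := classInner_irr_ne (hirr ξ hξ) (hirr φ hφ) (Ne.symm hne)
    have o4 : classInner lam φ = 0 :=
      classInner_irr_ne hlam (hirr φ hφ) (fun h => hlamT (h ▸ hφ))
    have e2 : classInner B (τ₁ γ) = (d φ : ℂ) := by
      rw [hagree γ hγm, hB, lio_inner hτ hβm hγm', hγ]
      simp only [classInner_sub_left, classInner_sub_right, classInner_zsmul_left,
        classInner_zsmul_right]
      rw [o2, o3, o4, classInner_irr_self (hirr ξ hξ)]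
      push_cast
      ring
    rw [e1, classInner_sub_right, classInner_zsmul_right, classInner_zsmul_right,
      hx ξ hξ, hx φ hφ] at e2
    have e3 : ((d φ : ℤ) * x ξ - (d ξ : ℤ) * x φ : ℤ) = (d φ : ℤ) := by
      have : (((d φ : ℤ) * x ξ - (d ξ : ℤ) * x φ : ℤ) : ℂ) = ((d φ : ℤ) : ℂ) := by
        push_cast
        push_cast at e2
        exact e2
      exact_mod_cast this
    linarith
  -- the orthogonal part
  set Δ : G → ℂ := B - ∑ φ ∈ 𝒯, x φ • τ₁ φ with hΔ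
  have hΔΔ : classInner Δ Δ = classInner B B - ((∑ φ ∈ 𝒯, x φ * x φ : ℤ) : ℂ) :=
    bessel_idx 𝒯 τ₁ hV B x (fun i hi => hx i hi)
  have hΔg : IsGeneralizedCharacter G Δ :=
    isGenChar_sub hBg (isGenChar_sum _ _ fun φ hφ => isGenChar_zsmul (hVg φ hφ) _)
  have hΔφ : ∀ φ ∈ 𝒯, classInner Δ (τ₁ φ) = 0 := by
    intro φ hφ
    rw [hΔ, classInner_sub_left, classInner_sum_left, Finset.sum_eq_single φ]
    · rw [classInner_zsmul_left, hV φ hφ φ hφ, if_pos rfl, hx φ hφ]; ring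
    · intro η hη hne
      rw [classInner_zsmul_left, hV η hη φ hφ, if_neg hne, mul_zero]
    · intro h; exact absurd hφ h
  have hΔdiv : ∀ ψ : G → ℂ, IsIrrCharacter G ψ → ∃ m : ℤ, classInner Δ ψ = (a : ℂ) * m := by
    intro ψ hψ
    by_cases hall : ∀ φ ∈ 𝒯, classInner (τ₁ φ) ψ = 0
    · obtain ⟨m, hm⟩ := hdiv τ₁ hτ₁ hagree ψ hψ hall
      refine ⟨m, ?_⟩
      rw [hΔ, classInner_sub_left, classInner_sum_left, Finset.sum_eq_zero, sub_zero]
      · exact hm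
      · intro φ hφ
        rw [classInner_zsmul_left, hall φ hφ, mul_zero]
    · push Not at hall
      obtain ⟨φ₀, hφ₀, hne⟩ := hall
      have h1 : classInner (τ₁ φ₀) (τ₁ φ₀) = 1 := by rw [hV φ₀ hφ₀ φ₀ hφ₀, if_pos rfl]
      have h2 : classInner ψ ψ = 1 := classInner_irr_self hψ
      refine ⟨0, ?_⟩
      rcases genChar_norm_one_eq_or_neg (hVg φ₀ hφ₀) (isGenChar_of_irr hψ) h1 h2 hne with h | h
      · rw [← h, hΔφ φ₀ hφ₀]; simp
      · have h3 : ψ = -τ₁ φ₀ := by rw [h, neg_neg]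
        rw [h3, classInner_neg_right, hΔφ φ₀ hφ₀]; simp
  obtain ⟨Δ', hΔ'g, hΔeq⟩ := genChar_div hΔg a hΔdiv
  obtain ⟨n', hn'⟩ := classInner_genChar_int hΔ'g hΔ'g
  have hn'0 : 0 ≤ n' := int_norm_nonneg hn'
  have hnorm : (1 + (a : ℤ) ^ 2 : ℤ) = (∑ φ ∈ 𝒯, x φ * x φ) + (a : ℤ) ^ 2 * n' := by
    have h1 : classInner Δ Δ = (((a : ℤ) ^ 2 * n' : ℤ) : ℂ) := by
      rw [hΔeq, classInner_zsmul_left, classInner_zsmul_right, hn']
      push_cast
      ring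
    rw [h1, hBB] at hΔΔ
    have h2 : (((a : ℤ) ^ 2 * n' : ℤ) : ℂ)
        = (((1 + (a : ℤ) ^ 2) - ∑ φ ∈ 𝒯, x φ * x φ : ℤ) : ℂ) := by
      rw [hΔΔ]; push_cast; ring
    have h3 : (a : ℤ) ^ 2 * n' = (1 + (a : ℤ) ^ 2) - ∑ φ ∈ 𝒯, x φ * x φ := by exact_mod_cast h2
    linarith
  obtain ⟨φ₁, hφ₁, hφ₁ne⟩ := h2
  have hr1 := hrel φ₁ hφ₁ hφ₁ne
  have hdξ : (0 : ℤ) < d ξ := by exact_mod_cast hdpos ξ hξ
  have hdφ₁ : (0 : ℤ) < d φ₁ := by exact_mod_cast hdpos φ₁ hφ₁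
  have ha1 : (1 : ℤ) ≤ a := by
    have : 1 ≤ a := Nat.one_le_iff_ne_zero.mpr ha0
    exact_mod_cast this
  have hXge : x ξ * x ξ + x φ₁ * x φ₁ ≤ ∑ φ ∈ 𝒯, x φ * x φ := by
    have hsub2 : ({ξ, φ₁} : Finset (L → ℂ)) ⊆ 𝒯 := by
      intro y hy
      rw [Finset.mem_insert, Finset.mem_singleton] at hy
      rcases hy with rfl | rfl
      · exact hξ
      · exact hφ₁
    have := Finset.sum_le_sum_of_subset_of_nonneg (f := fun φ => x φ * x φ) hsub2
      (fun i _ _ => mul_self_nonneg (x i))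
    rwa [Finset.sum_pair (Ne.symm hφ₁ne)] at this
  have hXself : ∀ φ ∈ 𝒯, x φ * x φ ≤ ∑ η ∈ 𝒯, x η * x η := fun φ hφ =>
    Finset.single_le_sum (f := fun η => x η * x η) (fun i _ => mul_self_nonneg (x i)) hφ
  -- `n' ≤ 1`
  have hn'le : n' ≤ 1 := by
    by_contra hgt
    push Not at hgt
    have h2' : (2 : ℤ) ≤ n' := by omega
    have hX0 : ∑ φ ∈ 𝒯, x φ * x φ ≤ 0 := by nlinarith
    have h3 : x ξ * x ξ + x φ₁ * x φ₁ ≤ 0 := le_trans hXge hX0
    have h4 : x ξ = 0 := by nlinarith [mul_self_nonneg (x ξ), mul_self_nonneg (x φ₁)]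
    have h5 : x φ₁ = 0 := by nlinarith [mul_self_nonneg (x ξ), mul_self_nonneg (x φ₁)]
    rw [h4, h5] at hr1
    linarith
  -- `n' ≠ 0`
  have hn'ne : n' ≠ 0 := by
    intro h0
    rw [h0, mul_zero, add_zero] at hnorm
    have hΔ'0 : Δ' = 0 := by
      apply eq_zero_of_classInner_self
      rw [hn', h0]; simp
    have hΔ0 : Δ = 0 := by rw [hΔeq, hΔ'0, smul_zero]
    have hBsum : B = ∑ φ ∈ 𝒯, x φ • τ₁ φ := by
      have := hΔ0
      rw [hΔ] at this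
      exact sub_eq_zero.mp this
    -- values at one
    have hval : ∀ φ ∈ 𝒯, (d ξ : ℂ) * τ₁ φ 1 = (d φ : ℂ) * τ₁ ξ 1 := by
      intro φ hφ
      by_cases hne : φ = ξ
      · rw [hne]
      set γ : L → ℂ := (d φ : ℤ) • ξ - (d ξ : ℤ) • φ with hγ
      have hγm : γ ∈ zspanOn (↑𝒯 : Set (L → ℂ)) {1}ᶜ := feit_gamma_mem d hd₀ hφ hξ
      have hγm' : γ ∈ zspanOn (↑(insert lam 𝒯) : Set (L → ℂ)) {1}ᶜ := zspanOn_mono hsub hγm
      have e1 : τ₁ γ = (d φ : ℤ) • τ₁ ξ - (d ξ : ℤ) • τ₁ φ := by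
        rw [hγ, lio_sub hτ₁ (zspan_zsmul _ (mem_zspan_of_mem hξ))
          (zspan_zsmul _ (mem_zspan_of_mem hφ)) (zspan_neg (zspan_zsmul _ (mem_zspan_of_mem hφ))),
          lio_zsmul hτ₁ (mem_zspan_of_mem hξ), lio_zsmul hτ₁ (mem_zspan_of_mem hφ)]
      have e2 : τ₁ γ 1 = 0 := by rw [hagree γ hγm]; exact hτ1 γ hγm'
      rw [e1] at e2
      simp only [Pi.sub_apply, Pi.smul_apply] at e2
      simp only [zsmul_eq_mul] at e2
      push_cast at e2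
      linear_combination -e2
    have hτξ1 : τ₁ ξ 1 ≠ 0 := genChar_norm_one_apply_one_ne_zero (hVg ξ hξ) (by
      rw [hV ξ hξ ξ hξ, if_pos rfl])
    have hsum0 : ∑ φ ∈ 𝒯, (x φ : ℂ) * (d φ : ℂ) = 0 := by
      have h1 : (d ξ : ℂ) * B 1 = τ₁ ξ 1 * ∑ φ ∈ 𝒯, (x φ : ℂ) * (d φ : ℂ) := by
        rw [hBsum, Finset.sum_apply, Finset.mul_sum, Finset.mul_sum]
        refine Finset.sum_congr rfl fun φ hφ => ?_
        rw [Pi.smul_apply, zsmul_eq_mul]
        linear_combination (x φ : ℂ) * hval φ hφ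
      rw [hB1, mul_zero] at h1
      rcases mul_eq_zero.mp h1.symm with h | h
      · exact absurd h hτξ1
      · exact h
    set γ₀ : L → ℂ := ∑ φ ∈ 𝒯, x φ • φ with hγ₀
    have hγ₀m : γ₀ ∈ zspanOn (↑𝒯 : Set (L → ℂ)) {1}ᶜ := by
      refine ⟨sum_zsmul_mem_zspan 𝒯 x, ?_⟩
      intro z hz
      have : z = 1 := by
        by_contra h
        exact hz h
      rw [this, hγ₀, Finset.sum_apply, ← hsum0]
      refine Finset.sum_congr rfl fun φ hφ => ?_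
      rw [Pi.smul_apply, zsmul_eq_mul, hd₀ φ hφ]
    have hγ₀m' : γ₀ ∈ zspanOn (↑(insert lam 𝒯) : Set (L → ℂ)) {1}ᶜ := zspanOn_mono hsub hγ₀m
    have hBγ : B = τ γ₀ := by
      rw [← hagree γ₀ hγ₀m, hγ₀,
        lio_sum_zsmul' hτ₁ 𝒯 x (fun φ => φ) (fun φ hφ => mem_zspan_of_mem hφ)]
      exact hBsum
    have hxξ : x ξ = 1 + (a : ℤ) ^ 2 := by
      have h1 : classInner (τ γ₀) B = (x ξ : ℂ) := by
        rw [hB, lio_inner hτ hγ₀m' hβm, hγ₀, classInner_sub_right, classInner_zsmul_right,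
          classInner_sum_zsmul 𝒯 (orthoSet_of_irr fun ξ' hξ' => hirr ξ' hξ') x hξ,
          classInner_irr_self (hirr ξ hξ), classInner_sum_left, Finset.sum_eq_zero, mul_one]
        · simp
        · intro φ hφ
          rw [classInner_zsmul_left, classInner_irr_ne (hirr φ hφ) hlam
            (fun h => hlamT (h ▸ hφ)), mul_zero]
      rw [← hBγ, hBB] at h1
      exact_mod_cast h1.symm
    have h6 := hXself ξ hξ
    rw [← hnorm, hxξ] at h6
    nlinarith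
  have hn'1 : n' = 1 := by omega
  have hX1 : ∑ φ ∈ 𝒯, x φ * x φ = 1 := by
    rw [hn'1] at hnorm; linarith
  have hΔ'Δ' : classInner Δ' Δ' = 1 := by rw [hn', hn'1]; simp
  have ha0' : ((a : ℤ) : ℂ) ≠ 0 := by exact_mod_cast ha0
  have hΔ'φ : ∀ φ ∈ 𝒯, classInner Δ' (τ₁ φ) = 0 := by
    intro φ hφ
    have := hΔφ φ hφ
    rw [hΔeq, classInner_zsmul_left] at this
    rcases mul_eq_zero.mp this with h | h
    · exact absurd h ha0'
    · exact h
  have hBdec : B = ∑ φ ∈ 𝒯, x φ • τ₁ φ + (a : ℤ) • Δ' := by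
    rw [← hΔeq, hΔ]; abel
  have hTag₁ : ∀ c : (L → ℂ) → ℤ, (∑ φ ∈ 𝒯, c φ • φ) ∈ zspanOn (↑𝒯 : Set (L → ℂ)) {1}ᶜ →
      τ (∑ φ ∈ 𝒯, c φ • φ) = ∑ φ ∈ 𝒯, c φ • τ₁ φ := by
    intro c hc
    rw [← hagree _ hc, lio_sum_zsmul' hτ₁ 𝒯 c (fun φ => φ) (fun φ hφ => mem_zspan_of_mem hφ)]
  have hnz : ∀ t : ℤ, t ≠ 0 → 1 ≤ t * t := by
    intro t ht
    rcases lt_or_gt_of_ne ht with h | h
    · nlinarith
    · nlinarith
  by_cases hx1 : x ξ = 1
  · -- the good case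
    have hx0 : ∀ φ ∈ 𝒯, φ ≠ ξ → x φ = 0 := by
      intro φ hφ hne
      have := hrel φ hφ hne
      rw [hx1, sub_self, mul_zero] at this
      rcases mul_eq_zero.mp this with h | h
      · omega
      · exact h
    have hsum : ∑ φ ∈ 𝒯, x φ • τ₁ φ = τ₁ ξ := by
      rw [Finset.sum_eq_single ξ]
      · rw [hx1, one_smul]
      · intro φ hφ hne; rw [hx0 φ hφ hne, zero_smul]
      · intro h; exact absurd hξ h
    apply insert_with 𝒯 lam hirr hlam hlamT d hd τ hτ τ₁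
      (fun φ hφ η hη => lio_inner hτ₁ (mem_zspan_of_mem hφ) (mem_zspan_of_mem hη)) hVg hTag₁
      ξ hξ a ha (-Δ') (isGenChar_neg hΔ'g)
      (by rw [classInner_neg_left, classInner_neg_right, neg_neg, hΔ'Δ'])
      (fun φ hφ => by rw [classInner_neg_left, hΔ'φ φ hφ, neg_zero])
    show B = _
    rw [hBdec, hsum, smul_neg, sub_neg_eq_add]
  · -- the swapped case
    have hxξsq : x ξ * x ξ ≤ 1 := hX1 ▸ hXself ξ hξ
    have hxξ0 : x ξ = 0 := by
      have h1 : x ξ = -1 ∨ x ξ = 0 := by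
        have h2 : -1 ≤ x ξ ∧ x ξ ≤ 1 := by constructor <;> nlinarith
        omega
      rcases h1 with h | h
      · exfalso
        rw [h] at hr1
        have h3 : x φ₁ ≠ 0 := by
          intro h0
          rw [h0] at hr1
          linarith
        have h4 := hnz _ h3
        have h5 := hXge
        rw [hX1, h] at h5
        linarith
      · exact h
    have hxne : ∀ φ ∈ 𝒯, φ ≠ ξ → (d ξ : ℤ) * x φ = -(d φ : ℤ) := by
      intro φ hφ hne
      have := hrel φ hφ hne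
      rw [hxξ0] at this
      linarith
    have hxφ₁ : x φ₁ = -1 := by
      have h1 := hxne φ₁ hφ₁ hφ₁ne
      have h2 := hXge
      rw [hX1, hxξ0] at h2
      have h3 : -1 ≤ x φ₁ ∧ x φ₁ ≤ 1 := by constructor <;> nlinarith
      have h4 : x φ₁ < 0 := by
        by_contra hge
        push Not at hge
        nlinarith
      omega
    have hdeq : d φ₁ = d ξ := by
      have h1 := hxne φ₁ hφ₁ hφ₁ne
      rw [hxφ₁] at h1
      have : (d φ₁ : ℤ) = d ξ := by linarith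
      exact_mod_cast this
    have hall : ∀ φ ∈ 𝒯, φ = ξ ∨ φ = φ₁ := by
      intro φ hφ
      by_contra h
      push Not at h
      obtain ⟨h1, h2⟩ := h
      have h3 : x φ ≠ 0 := by
        intro h0
        have := hxne φ hφ h1
        rw [h0, mul_zero] at this
        have := hdpos φ hφ
        omega
      have hsub3 : ({φ₁, φ} : Finset (L → ℂ)) ⊆ 𝒯 := by
        intro y hy
        rw [Finset.mem_insert, Finset.mem_singleton] at hy
        rcases hy with rfl | rfl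
        · exact hφ₁
        · exact hφ
      have h4 := Finset.sum_le_sum_of_subset_of_nonneg (f := fun φ => x φ * x φ) hsub3
        (fun i _ _ => mul_self_nonneg (x i))
      rw [Finset.sum_pair (Ne.symm h2), hX1, hxφ₁] at h4
      have := hnz _ h3
      linarith
    have h𝒯 : 𝒯 = {ξ, φ₁} := by
      ext φ
      rw [Finset.mem_insert, Finset.mem_singleton]
      constructor
      · exact hall φ
      · rintro (rfl | rfl)
        · exact hξ
        · exact hφ₁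
    set T' : (L → ℂ) → (G → ℂ) := fun φ => if φ = ξ then -τ₁ φ₁ else -τ₁ ξ with hT'
    have hT'ξ : T' ξ = -τ₁ φ₁ := if_pos rfl
    have hT'φ₁ : T' φ₁ = -τ₁ ξ := if_neg hφ₁ne
    have hne' : ξ ≠ φ₁ := Ne.symm hφ₁ne
    have hT1 : ∀ φ ∈ 𝒯, ∀ η ∈ 𝒯, classInner (T' φ) (T' η) = classInner φ η := by
      intro φ hφ η hη
      rcases hall φ hφ with rfl | rfl <;> rcases hall η hη with rfl | rfl
      · rw [hT'ξ, classInner_neg_left, classInner_neg_right, neg_neg, hV φ₁ hφ₁ φ₁ hφ₁,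
          if_pos rfl, classInner_irr_self (hirr _ hξ)]
      · rw [hT'ξ, hT'φ₁, classInner_neg_left, classInner_neg_right, neg_neg, hV _ hφ₁ _ hξ,
          if_neg hφ₁ne, classInner_irr_ne (hirr _ hξ) (hirr _ hφ₁) hne']
      · rw [hT'ξ, hT'φ₁, classInner_neg_left, classInner_neg_right, neg_neg, hV _ hξ _ hφ₁,
          if_neg hne', classInner_irr_ne (hirr _ hφ₁) (hirr _ hξ) hφ₁ne]
      · rw [hT'φ₁, classInner_neg_left, classInner_neg_right, neg_neg, hV _ hξ _ hξ,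
          if_pos rfl, classInner_irr_self (hirr _ hφ₁)]
    have hT2 : ∀ φ ∈ 𝒯, IsGeneralizedCharacter G (T' φ) := by
      intro φ hφ
      rcases hall φ hφ with rfl | rfl
      · rw [hT'ξ]; exact isGenChar_neg (hVg _ hφ₁)
      · rw [hT'φ₁]; exact isGenChar_neg (hVg _ hξ)
    have hTag : ∀ c : (L → ℂ) → ℤ, (∑ φ ∈ 𝒯, c φ • φ) ∈ zspanOn (↑𝒯 : Set (L → ℂ)) {1}ᶜ →
        τ (∑ φ ∈ 𝒯, c φ • φ) = ∑ φ ∈ 𝒯, c φ • T' φ := by
      intro c hc
      rw [hTag₁ c hc]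
      have hs1 : ∀ f : (L → ℂ) → (G → ℂ), ∑ φ ∈ 𝒯, c φ • f φ = c ξ • f ξ + c φ₁ • f φ₁ := by
        intro f
        rw [h𝒯, Finset.sum_pair hne']
      have hs2 : ∑ φ ∈ 𝒯, c φ • φ = c ξ • ξ + c φ₁ • φ₁ := by
        rw [h𝒯, Finset.sum_pair hne']
      have hc1 : (c ξ : ℂ) + c φ₁ = 0 := by
        have h1 := hc.2 1 (by simp)
        rw [hs2] at h1
        simp only [Pi.add_apply, Pi.smul_apply] at h1
        simp only [zsmul_eq_mul] at h1
        rw [hd₀ ξ hξ, hd₀ φ₁ hφ₁, hdeq] at h1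
        have hd0 : (d ξ : ℂ) ≠ 0 := by
          have := hdpos ξ hξ
          exact_mod_cast this.ne'
        have h2 : ((c ξ : ℂ) + c φ₁) * (d ξ : ℂ) = 0 := by linear_combination h1
        rcases mul_eq_zero.mp h2 with h | h
        · exact h
        · exact absurd h hd0
      rw [hs1 τ₁, hs1 T', hT'ξ, hT'φ₁]
      funext z
      simp only [Pi.add_apply, Pi.smul_apply, Pi.neg_apply]
      simp only [zsmul_eq_mul]
      linear_combination (τ₁ ξ z + τ₁ φ₁ z) * hc1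
    have hsum : ∑ φ ∈ 𝒯, x φ • τ₁ φ = -τ₁ φ₁ := by
      rw [h𝒯, Finset.sum_pair hne', hxξ0, hxφ₁, zero_smul, zero_add, neg_smul, one_smul]
    apply insert_with 𝒯 lam hirr hlam hlamT d hd τ hτ T' hT1 hT2 hTag
      ξ hξ a ha (-Δ') (isGenChar_neg hΔ'g)
      (by rw [classInner_neg_left, classInner_neg_right, neg_neg, hΔ'Δ'])
      (fun φ hφ => by
        rcases hall φ hφ with rfl | rfl
        · rw [hT'ξ, classInner_neg_left, classInner_neg_right, neg_neg, hΔ'φ _ hφ₁]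
        · rw [hT'φ₁, classInner_neg_left, classInner_neg_right, neg_neg, hΔ'φ _ hξ])
    show B = _
    rw [hBdec, hsum, hT'ξ, smul_neg, sub_neg_eq_add]

end General

end Cfsg.Agent.Lib.Helper4.PF8
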