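import Mathlib
import Cfsg.Agent.Lib.Helper4.PF8c
import Cfsg.Agent.Lib.Helper1.CharFound5

set_option autoImplicit false
set_option linter.unusedSectionVars false
set_option linter.unusedVariables false
set_option maxHeartbeats 1600000

/-!
# A class function whose multiplicities on the characters nontrivial on `Z` are proportional to
the degrees
-/

namespace Cfsg.Agent.Lib.Helper4.PF8

open Cfsg Cfsg.Agent.Lib.Helper1 Cfsg.Agent.Lib.Helper4 Cfsg.Agent.Lib.Helper4.Coh
open scoped ComplexConjugate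

section Resid

variable {N : Type*} [Group N] [Fintype N]

theorem resid (Zs : Set N) (f : N → ℂ) (hf : IsClassFunction N f) (c : ℂ)
    (h : ∀ χ : N → ℂ, IsIrrCharacter N χ → (∃ z ∈ Zs, χ z ≠ χ 1) →
      classInner f χ = c * χ 1)
    (x : N) (hx : x ∈ Zs) (hx1 : x ≠ 1) : f 1 - f x = c * (Nat.card N : ℂ) := by
  classical
  haveI : Fintype (Cfsg.IrrCharacter N) := Fintype.ofFinite _
  have hexp := class_function_expansion f hf
  have hval : ∀ y : N, f y = ∑ χ : Cfsg.IrrCharacter N, classInner f χ * (χ : N → ℂ) y := by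
    intro y
    conv_lhs => rw [hexp]
    rw [Finset.sum_apply]
    refine Finset.sum_congr rfl fun χ _ => ?_
    rw [Pi.smul_apply, smul_eq_mul]
  have hreal : ∀ χ : Cfsg.IrrCharacter N, conj ((χ : N → ℂ) 1) = (χ : N → ℂ) 1 := by
    intro χ
    obtain ⟨n, -, hn⟩ := irr_apply_one_pos χ.2
    rw [hn, Complex.conj_natCast]
  have hterm : ∀ χ : Cfsg.IrrCharacter N,
      classInner f χ * ((χ : N → ℂ) 1 - (χ : N → ℂ) x)
        = c * ((χ : N → ℂ) 1 * conj ((χ : N → ℂ) 1) - (χ : N → ℂ) x * conj ((χ : N → ℂ) 1)) := by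
    intro χ
    rw [hreal χ]
    by_cases hχ : ∃ z ∈ Zs, (χ : N → ℂ) z ≠ (χ : N → ℂ) 1
    · rw [h _ χ.2 hχ]; ring
    · push Not at hχ
      rw [hχ x hx]; ring
  rw [hval 1, hval x, ← Finset.sum_sub_distrib]
  have h1 : ∀ χ : Cfsg.IrrCharacter N, classInner f χ * (χ : N → ℂ) 1
      - classInner f χ * (χ : N → ℂ) x
      = c * ((χ : N → ℂ) 1 * conj ((χ : N → ℂ) 1) - (χ : N → ℂ) x * conj ((χ : N → ℂ) 1)) := by
    intro χ
    rw [← hterm χ]; ring
  rw [Finset.sum_congr rfl fun χ _ => h1 χ, ← Finset.mul_sum, Finset.sum_sub_distrib,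
    column_orthogonality 1 1, column_orthogonality 1 x]
  have hc1 : classIndicator (1 : N) 1 = 1 := by
    unfold classIndicator
    rw [if_pos (IsConj.refl 1)]
  have hcx : classIndicator (1 : N) x = 0 := by
    unfold classIndicator
    rw [if_neg]
    intro hconj
    rw [isConj_iff] at hconj
    obtain ⟨g, hg⟩ := hconj
    apply hx1
    rw [← hg]; simp
  have hcent : Nat.card (Subgroup.centralizer ({1} : Set N)) = Nat.card N := by
    have : Subgroup.centralizer ({1} : Set N) = ⊤ := by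
      ext g
      simp [Subgroup.mem_centralizer_iff]
    rw [this, Subgroup.card_top]
  rw [hc1, hcx, hcent]
  ring

end Resid

end Cfsg.Agent.Lib.Helper4.PF8
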