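import Mathlib

set_option autoImplicit false

namespace Cfsg.Agent.Lib.Helper4.PF8a

/-- If a finite group acts on a finite set, `F` is an invariant function with algebraic integer
values which vanishes at every point with nontrivial stabilizer, then the sum of `F` is `|A|`
times an algebraic integer. -/
theorem sum_eq_card_mul_of_free {A X : Type*} [Group A] [Fintype A] [MulAction A X] [Fintype X]
    (F : X → ℂ) (hF : ∀ (a : A) (x : X), F (a • x) = F x)
    (hfree : ∀ x, F x ≠ 0 → ∀ a : A, a • x = x → a = 1)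
    (hint : ∀ x, IsIntegral ℤ (F x)) :
    ∃ S : ℂ, IsIntegral ℤ S ∧ ∑ x, F x = (Fintype.card A : ℂ) * S := by
  classical
  let Ω := MulAction.orbitRel.Quotient A X
  haveI : Fintype Ω := Fintype.ofFinite _
  refine ⟨∑ ω : Ω, F ω.out, IsIntegral.sum _ (fun ω _ => hint _), ?_⟩
  rw [← Finset.sum_fiberwise (s := Finset.univ) (g := fun x : X => (Quotient.mk'' x : Ω)) (f := F),
    Finset.mul_sum]
  refine Finset.sum_congr rfl fun ω _ => ?_
  have hmem : ∀ x : X, (Quotient.mk'' x : Ω) = ω → ∃ a : A, a • ω.out = x := by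
    intro x hx
    have h1 : (Quotient.mk'' x : Ω) = Quotient.mk'' ω.out := by rw [hx, Quotient.out_eq']
    have h2 := Quotient.exact' h1
    rw [MulAction.orbitRel_apply, MulAction.mem_orbit_iff] at h2
    exact h2
  have hval : ∀ x : X, (Quotient.mk'' x : Ω) = ω → F x = F ω.out := by
    intro x hx
    obtain ⟨a, rfl⟩ := hmem x hx
    exact hF a _
  by_cases h0 : F ω.out = 0
  · rw [h0, mul_zero]
    apply Finset.sum_eq_zero
    intro x hx
    rw [Finset.mem_filter] at hx
    rw [hval x hx.2, h0]
  · have hinj : Function.Injective (fun a : A => a • ω.out) := by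
      intro a b hab
      have h1 : (b⁻¹ * a) • ω.out = ω.out := by
        rw [mul_smul]
        show b⁻¹ • (a • ω.out) = ω.out
        have : a • ω.out = b • ω.out := hab
        rw [this, inv_smul_smul]
      have h2 := hfree _ h0 _ h1
      have : a = b * (b⁻¹ * a) := by group
      rw [this, h2, mul_one]
    have himg : (Finset.univ.filter fun x : X => (Quotient.mk'' x : Ω) = ω)
        = Finset.univ.image (fun a : A => a • ω.out) := by
      ext x
      simp only [Finset.mem_filter, Finset.mem_univ, true_and, Finset.mem_image]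
      constructor
      · intro hx
        exact hmem x hx
      · rintro ⟨a, rfl⟩
        have : (Quotient.mk'' (a • ω.out) : Ω) = Quotient.mk'' ω.out := by
          apply Quotient.sound'
          rw [MulAction.orbitRel_apply]
          exact MulAction.mem_orbit _ _
        rw [this, Quotient.out_eq']
    rw [himg, Finset.sum_image (fun a _ b _ h => hinj h)]
    simp only [hF]
    rw [Finset.sum_const, Finset.card_univ, nsmul_eq_mul]

/-- In a subgroup of odd order, no nonidentity element is inverted by conjugation. -/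
theorem eq_one_of_conj_eq_inv {G : Type*} [Group G] (L : Subgroup G) [Finite L]
    (hodd : Odd (Nat.card L)) {y z : G} (hy : y ∈ L) (hz : z ∈ L)
    (h : y * z * y⁻¹ = z⁻¹) : z = 1 := by
  have hoy : Odd (orderOf y) := by
    have h1 : orderOf (⟨y, hy⟩ : L) ∣ Nat.card L := orderOf_dvd_natCard _
    have h2 : orderOf (⟨y, hy⟩ : L) = orderOf y := by
      rw [← Subgroup.orderOf_coe]
    rw [h2] at h1
    exact Odd.of_dvd_nat hodd h1
  have hoz : Odd (orderOf z) := by
    have h1 : orderOf (⟨z, hz⟩ : L) ∣ Nat.card L := orderOf_dvd_natCard _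
    have h2 : orderOf (⟨z, hz⟩ : L) = orderOf z := by
      rw [← Subgroup.orderOf_coe]
    rw [h2] at h1
    exact Odd.of_dvd_nat hodd h1
  -- y^2 commutes with z
  have h2 : Commute (y ^ 2) z := by
    have h3 : y * z = z⁻¹ * y := by
      have := congrArg (· * y) h
      simpa [mul_assoc] using this
    have h4 : y * z⁻¹ = z * y := by
      have : y * z⁻¹ * y⁻¹ = z := by
        have h5 : y * z⁻¹ * y⁻¹ = (y * z * y⁻¹)⁻¹ := by group
        rw [h5, h, inv_inv]
      have := congrArg (· * y) this
      simpa [mul_assoc] using this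
    show y ^ 2 * z = z * y ^ 2
    rw [pow_two, mul_assoc, h3, ← mul_assoc, h4, mul_assoc]
  obtain ⟨k, hk⟩ := hoy
  have hy' : y = (y ^ 2) ^ (k + 1) := by
    rw [← pow_mul]
    have : 2 * (k + 1) = orderOf y + 1 := by omega
    rw [this, pow_succ, pow_orderOf_eq_one, one_mul]
  have hc : Commute y z := by
    rw [hy']
    exact h2.pow_left _
  have hzz : z = z⁻¹ := by
    rw [← h, hc.eq, mul_inv_cancel_right]
  have hz2 : z ^ 2 = 1 := by
    rw [pow_two]
    nth_rewrite 2 [hzz]
    exact mul_inv_cancel z
  have hd : orderOf z ∣ 2 := orderOf_dvd_of_pow_eq_one hz2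
  have h1 : orderOf z = 1 := by
    have hle := Nat.le_of_dvd (by norm_num) hd
    obtain ⟨m, hm⟩ := hoz
    interval_cases h : orderOf z
    · omega
    · rfl
    · omega
  exact orderOf_eq_one_iff.1 h1

/-- The action of `P × P` on `G` by `(b₁, b₂) • y = b₁ y b₂⁻¹`. -/
@[instance_reducible]
def dcAction {G : Type*} [Group G] (P : Subgroup G) : MulAction (↥P × ↥P) G where
  smul b y := (b.1 : G) * y * (b.2 : G)⁻¹
  one_smul y := by
    show ((1 : ↥P × ↥P).1 : G) * y * (((1 : ↥P × ↥P).2 : G))⁻¹ = y
    simp
  mul_smul b c y := by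
    show ((b * c).1 : G) * y * (((b * c).2 : G))⁻¹
      = (b.1 : G) * ((c.1 : G) * y * (c.2 : G)⁻¹) * (b.2 : G)⁻¹
    simp [mul_assoc]

theorem dcAction_smul {G : Type*} [Group G] (P : Subgroup G) (b : ↥P × ↥P) (y : G) :
    (letI := dcAction P; b • y) = (b.1 : G) * y * (b.2 : G)⁻¹ := rfl

end Cfsg.Agent.Lib.Helper4.PF8a
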