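import Mathlib
import Cfsg.Agent.Lib.Helper4.PF8d
import Cfsg.Agent.S1523
import Cfsg.Agent.S0146
import Cfsg.Agent.S0148

set_option autoImplicit false
set_option linter.unusedSectionVars false
set_option linter.unusedVariables false
set_option maxHeartbeats 1600000

/-!
# The divisibility property feeding Sibley's insertion step
-/

namespace Cfsg.Agent.Lib.Helper4.PF8

open Cfsg Cfsg.Agent.Lib.Helper1 Cfsg.Agent.Lib.Helper4 Cfsg.Agent.Lib.Helper4.Coh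
open scoped ComplexConjugate

section Ctx

variable {G : Type*} [Group G] [Fintype G]

local notation "𝐍[" P "]" => Subgroup.normalizer ((P : Subgroup G) : Set G)

theorem sibley_div (p : ℕ) [Fact p.Prime] (P : Sylow p G)
    (hTI : IsTISubset ((P : Subgroup G) : Set G))
    (hC : ∀ k ∈ (P : Subgroup G), k ≠ 1 → Subgroup.centralizer ({k} : Set G) ≤ (P : Subgroup G))
    [Fintype ↥(Subgroup.normalizer ((P : Subgroup G) : Set G))]
    (hodd : Odd (Nat.card ↥(Subgroup.normalizer ((P : Subgroup G) : Set G))))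
    (Z : Subgroup G) (hZ1 : Z ≠ ⊥)
    (hZP : ∀ z ∈ Z, z ∈ (P : Subgroup G) ∧ ∀ y ∈ (P : Subgroup G), z * y = y * z)
    (hZn : ∀ x ∈ Subgroup.normalizer ((P : Subgroup G) : Set G), ∀ z ∈ Z, x * z * x⁻¹ ∈ Z)
    (𝒯 : Finset (↥(Subgroup.normalizer ((P : Subgroup G) : Set G)) → ℂ))
    (hirr𝒯 : ∀ χ ∈ 𝒯, IsIrrCharacter ↥(Subgroup.normalizer ((P : Subgroup G) : Set G)) χ)
    (hS₁ : ∀ χ : ↥(Subgroup.normalizer ((P : Subgroup G) : Set G)) → ℂ,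
      IsIrrCharacter ↥(Subgroup.normalizer ((P : Subgroup G) : Set G)) χ →
      (∃ z : ↥(Subgroup.normalizer ((P : Subgroup G) : Set G)), (z : G) ∈ Z ∧ χ z ≠ χ 1) → χ ∈ 𝒯)
    (τ₁ : (↥(Subgroup.normalizer ((P : Subgroup G) : Set G)) → ℂ) → (G → ℂ))
    (hτ₁ : IsLinearIsometryOn (zspan (↑𝒯 : Set (↥(Subgroup.normalizer ((P : Subgroup G) : Set G)) → ℂ))) τ₁)
    (hagree : ∀ α ∈ zspanOn (↑𝒯 : Set (↥(Subgroup.normalizer ((P : Subgroup G) : Set G)) → ℂ)) {1}ᶜ,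
      τ₁ α = indFun (Subgroup.normalizer ((P : Subgroup G) : Set G)) α)
    (ξ : ↥(Subgroup.normalizer ((P : Subgroup G) : Set G)) → ℂ)
    (hξirr : IsIrrCharacter ↥(Subgroup.normalizer ((P : Subgroup G) : Set G)) ξ)
    (hξZ : ∃ z : ↥(Subgroup.normalizer ((P : Subgroup G) : Set G)), (z : G) ∈ Z ∧ ξ z ≠ ξ 1)
    (lam : ↥(Subgroup.normalizer ((P : Subgroup G) : Set G)) → ℂ)
    (hlam : IsIrrCharacter ↥(Subgroup.normalizer ((P : Subgroup G) : Set G)) lam)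
    (e : ℕ) (he : Nat.card ↥(Subgroup.normalizer ((P : Subgroup G) : Set G))
      = e * Nat.card (P : Subgroup G))
    (a : ℕ) (hξ1 : ξ 1 = (a : ℂ) * e)
    (ψ : G → ℂ) (hψ : IsIrrCharacter G ψ) (horth : ∀ φ ∈ 𝒯, classInner (τ₁ φ) ψ = 0) :
    ∃ m : ℤ, classInner (indFun (Subgroup.normalizer ((P : Subgroup G) : Set G))
      (ξ - (a : ℤ) • lam)) ψ = (a : ℂ) * m := by
  classical
  have hPN : (P : Subgroup G) ≤ 𝐍[P] := Subgroup.le_normalizer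
  have hψc : IsClassFunction G ψ := isClassFunction_irr hψ
  have hψchar : IsCharacter G ψ := isCharacter_of_irr hψ
  set f : ↥𝐍[P] → ℂ := fun x => ψ x with hf
  have hfchar : IsCharacter ↥𝐍[P] f := Cfsg.Agent.S0148.isCharacter_restrict 𝐍[P] hψchar
  have hfcl : IsClassFunction ↥𝐍[P] f := isClassFunction_of_isCharacter hfchar
  have hrec : ∀ α : ↥𝐍[P] → ℂ, classInner (indFun 𝐍[P] α) ψ = classInner α f := fun α =>
    Cfsg.Agent.S0146.result 𝐍[P] α ψ hψc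
  have hξ𝒯 : ξ ∈ 𝒯 := hS₁ ξ hξirr hξZ
  have hdeg : ∀ φ ∈ (↑𝒯 : Set (↥𝐍[P] → ℂ)), φ 1 = (deg φ : ℂ) := fun φ hφ =>
    deg_spec (hirr𝒯 φ (Finset.mem_coe.1 hφ))
  -- multiplicities
  have hmult : ∀ χ : ↥𝐍[P] → ℂ, IsIrrCharacter ↥𝐍[P] χ → ∃ m : ℕ, classInner f χ = m ∧
      classInner χ f = m := by
    intro χ hχ
    obtain ⟨m, hm⟩ := classInner_char_nat hfchar (isCharacter_of_irr hχ)
    refine ⟨m, hm, ?_⟩
    rw [← classInner_conj_symm, hm, Complex.conj_natCast]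
  -- proportionality
  have h1 : ∀ χ ∈ 𝒯, (deg χ : ℂ) * classInner ξ f = (deg ξ : ℂ) * classInner χ f := by
    intro χ hχ
    set γ : ↥𝐍[P] → ℂ := (deg χ : ℤ) • ξ - (deg ξ : ℤ) • χ with hγ
    have hγm : γ ∈ zspanOn (↑𝒯 : Set (↥𝐍[P] → ℂ)) {1}ᶜ := feit_gamma_mem deg hdeg hχ hξ𝒯
    have e1 : τ₁ γ = (deg χ : ℤ) • τ₁ ξ - (deg ξ : ℤ) • τ₁ χ := by
      rw [hγ, lio_sub hτ₁ (zspan_zsmul _ (mem_zspan_of_mem hξ𝒯))
        (zspan_zsmul _ (mem_zspan_of_mem hχ)) (zspan_neg (zspan_zsmul _ (mem_zspan_of_mem hχ))),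
        lio_zsmul hτ₁ (mem_zspan_of_mem hξ𝒯), lio_zsmul hτ₁ (mem_zspan_of_mem hχ)]
    have e2 : classInner (τ₁ γ) ψ = 0 := by
      rw [e1, classInner_sub_left, classInner_zsmul_left, classInner_zsmul_left,
        horth ξ hξ𝒯, horth χ hχ]
      ring
    rw [hagree γ hγm, hrec, hγ, classInner_sub_left, classInner_zsmul_left,
      classInner_zsmul_left] at e2
    push_cast at e2
    linear_combination e2
  obtain ⟨mξ, hmξ, hmξ'⟩ := hmult ξ hξirr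
  have hdξ0 : (deg ξ : ℂ) ≠ 0 := by
    have := deg_pos hξirr
    exact_mod_cast this.ne'
  set c : ℂ := (mξ : ℂ) / (deg ξ : ℂ) with hc
  have hres : ∀ χ : ↥𝐍[P] → ℂ, IsIrrCharacter ↥𝐍[P] χ →
      (∃ z ∈ {x : ↥𝐍[P] | (x : G) ∈ Z}, χ z ≠ χ 1) → classInner f χ = c * χ 1 := by
    intro χ hχ hz
    have hχ𝒯 : χ ∈ 𝒯 := by
      obtain ⟨z, hz1, hz2⟩ := hz
      exact hS₁ χ hχ ⟨z, hz1, hz2⟩
    obtain ⟨m, hm, hm'⟩ := hmult χ hχ
    have := h1 χ hχ𝒯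
    rw [hmξ', hm'] at this
    rw [hm, deg_spec hχ, hc]
    field_simp
    linear_combination -this
  -- a nonidentity element of `Z`
  obtain ⟨z₀, hz₀, hz₀1⟩ : ∃ z₀ : G, z₀ ∈ Z ∧ z₀ ≠ 1 := by
    obtain ⟨a, ha⟩ := Subgroup.ne_bot_iff_exists_ne_one.mp hZ1
    exact ⟨(a : G), a.2, fun h => ha (Subtype.ext h)⟩
  have hZN : ∀ z ∈ Z, z ∈ 𝐍[P] := fun z hz => hPN (hZP z hz).1
  have hvalZ : ∀ z ∈ Z, z ≠ 1 → ψ 1 - ψ z = c * (Nat.card ↥𝐍[P] : ℂ) := by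
    intro z hz hz1
    have := resid {x : ↥𝐍[P] | (x : G) ∈ Z} f hfcl c hres ⟨z, hZN z hz⟩ hz
      (fun h => hz1 (congrArg Subtype.val h))
    exact this
  have hconst : ∀ z ∈ Z, ∀ z' ∈ Z, z ≠ 1 → z' ≠ 1 → ψ z = ψ z' := by
    intro z hz z' hz' hz1 hz'1
    have e1 := hvalZ z hz hz1
    have e2 := hvalZ z' hz' hz'1
    linear_combination e2 - e1
  have hCL : ∀ z ∈ Z, ∀ z' ∈ Z, z ≠ 1 → z' ≠ 1 →
      Nat.card ↥(𝐍[P] ⊓ Subgroup.centralizer ({z} : Set G))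
        = Nat.card ↥(𝐍[P] ⊓ Subgroup.centralizer ({z'} : Set G)) := by
    have key : ∀ z ∈ Z, z ≠ 1 → 𝐍[P] ⊓ Subgroup.centralizer ({z} : Set G) = (P : Subgroup G) := by
      intro z hz hz1
      apply le_antisymm
      · exact inf_le_right.trans (hC z (hZP z hz).1 hz1)
      · refine le_inf hPN ?_
        intro y hy
        rw [Subgroup.mem_centralizer_iff]
        intro w hw
        rw [Set.mem_singleton_iff] at hw
        subst hw
        exact (hZP w hz).2 y hy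
    intro z hz z' hz' hz1 hz'1
    rw [key z hz hz1, key z' hz' hz'1]
  obtain ⟨n, d', hn, hd', hdvd⟩ := Cfsg.Agent.S1523.result p P hTI hodd Z hZ1
    (fun z hz => (hZP z hz).1) hZn (fun z hz y hy => (hZP z hz).2 y hy) hCL ψ hψ hconst z₀ hz₀ hz₀1
  obtain ⟨k, hk⟩ := hdvd
  have hcN : c * (Nat.card ↥𝐍[P] : ℂ) = (Nat.card (P : Subgroup G) : ℂ) * k := by
    rw [← hvalZ z₀ hz₀ hz₀1, hn, hd']
    have : ((d' - n : ℤ) : ℂ) = (((Nat.card (P : Subgroup G) : ℤ) * k : ℤ) : ℂ) := by rw [hk]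
    push_cast at this
    exact this
  have hP0 : (Nat.card (P : Subgroup G) : ℂ) ≠ 0 := Nat.cast_ne_zero.2 Nat.card_pos.ne'
  have he0 : (e : ℂ) ≠ 0 := by
    intro h0
    have h2 : e = 0 := by exact_mod_cast h0
    rw [h2, zero_mul] at he
    exact Nat.card_pos.ne' he
  have hdegξ : (deg ξ : ℂ) = (a : ℂ) * e := by rw [← deg_spec hξirr, hξ1]
  have hmξa : (mξ : ℂ) = (a : ℂ) * k := by
    rw [hc, he, hdegξ] at hcN
    have ha0 : (a : ℂ) ≠ 0 := by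
      intro h0
      rw [h0, zero_mul] at hdegξ
      exact hdξ0 hdegξ
    push_cast at hcN
    field_simp at hcN
    exact hcN
  obtain ⟨ml, hml, hml'⟩ := hmult lam hlam
  refine ⟨k - ml, ?_⟩
  rw [hrec, classInner_sub_left, classInner_zsmul_left, hmξ', hml', hmξa]
  push_cast
  ring

end Ctx

end Cfsg.Agent.Lib.Helper4.PF8
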