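import Mathlib
import Cfsg.Agent.Lib.Helper4.PF8e
import Cfsg.Agent.Lib.Helper4.PF7d
import Cfsg.Agent.Lib.Helper4.PF6l
import Cfsg.Agent.S1522
import Cfsg.Agent.S1514
import Cfsg.Agent.S0194

set_option autoImplicit false
set_option linter.unusedSectionVars false
set_option linter.unusedVariables false
set_option maxHeartbeats 1600000

/-!
# Sibley's coherence theorem for a nonabelian TI Sylow subgroup with Frobenius normalizer
-/

namespace Cfsg.Agent.Lib.Helper4.PF8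

open Cfsg Cfsg.Agent.Lib.Helper1 Cfsg.Agent.Lib.Helper4 Cfsg.Agent.Lib.Helper4.Coh
open Cfsg.Agent.Lib.Helper4.PF6 Cfsg.Agent.Lib.Helper4.PF7
open scoped ComplexConjugate

section Aux

variable {L : Type*} [Group L] [Fintype L]

theorem exists_ne_of_nonzero (F : Finset (L → ℂ)) (hirr : ∀ φ ∈ F, IsIrrCharacter L φ)
    (hne : ∃ α ∈ zspanOn (↑F : Set (L → ℂ)) ({1}ᶜ : Set L), α ≠ 0) {ξ : L → ℂ} (hξ : ξ ∈ F) :
    ∃ φ ∈ F, φ ≠ ξ := by
  classical
  by_contra hall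
  push Not at hall
  obtain ⟨α, hα, hα0⟩ := hne
  obtain ⟨c, hc⟩ := exists_coeff F hα.1
  have h1 : α = c ξ • ξ := by
    rw [hc, Finset.sum_eq_single ξ]
    · intro φ hφ hne'
      exact absurd (hall φ hφ) hne'
    · intro h; exact absurd hξ h
  have h2 := hα.2 1 (by simp)
  rw [h1, Pi.smul_apply, zsmul_eq_mul] at h2
  rcases mul_eq_zero.mp h2 with h | h
  · have : c ξ = 0 := by exact_mod_cast h
    apply hα0
    rw [h1, this, zero_smul]
  · exact irr_apply_one_ne_zero (hirr ξ hξ) h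

theorem nonempty_of_nonzero (F : Finset (L → ℂ))
    (hne : ∃ α ∈ zspanOn (↑F : Set (L → ℂ)) ({1}ᶜ : Set L), α ≠ 0) : F.Nonempty := by
  classical
  by_contra hemp
  rw [Finset.not_nonempty_iff_eq_empty] at hemp
  obtain ⟨α, hα, hα0⟩ := hne
  obtain ⟨c, hc⟩ := exists_coeff F hα.1
  rw [hemp, Finset.sum_empty] at hc
  exact hα0 hc

end Aux

section Main

variable {G : Type*} [Group G] [Fintype G]

local notation "𝐍[" P "]" => Subgroup.normalizer ((P : Subgroup G) : Set G)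
local notation "𝐊[" P "]" => Subgroup.subgroupOf (P : Subgroup G) (Subgroup.normalizer ((P : Subgroup G) : Set G))

theorem sibley_sylow (p : ℕ) [Fact p.Prime] (hp : p ≠ 2) (P : Sylow p G)
    (hna : ¬ IsMulCommutative (P : Subgroup G))
    (hTI : IsTISubset ((P : Subgroup G) : Set G))
    (hlt : (P : Subgroup G) < 𝐍[P])
    (hC : ∀ k ∈ (P : Subgroup G), k ≠ 1 → Subgroup.centralizer ({k} : Set G) ≤ (P : Subgroup G))
    [Fintype ↥𝐍[P]] :
    IsCoherent (inducedIrrAbove 𝐊[P] ⊥) {1}ᶜ (fun α => indFun 𝐍[P] α) := by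
  classical
  haveI hKn : 𝐊[P].Normal := Subgroup.normal_in_normalizer
  haveI : Fintype 𝐊[P] := Fintype.ofFinite _
  have hPN : (P : Subgroup G) ≤ 𝐍[P] := Subgroup.le_normalizer
  have hyp := Cfsg.Agent.Lib.Helper2.TIFN.hyp_of_TI (P : Subgroup G)
    (fun g hg k hk h => hTI g hg k hk h) hlt hC
  have hCN := hyp.cent
  have hKp : IsPGroup p 𝐊[P] :=
    P.isPGroup'.of_equiv (Subgroup.subgroupOfEquivOfLe hPN).symm
  have hnil : Group.IsNilpotent 𝐊[P] := hKp.isNilpotent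
  have hsolv : Group.IsSolvable 𝐊[P] := by
    haveI := hnil
    infer_instance
  have hcardK : Nat.card 𝐊[P] = Nat.card (P : Subgroup G) :=
    Nat.card_congr (Subgroup.subgroupOfEquivOfLe hPN).toEquiv
  have hKodd : Odd (Nat.card 𝐊[P]) := by
    obtain ⟨n, hn⟩ := hKp.exists_card_eq
    rw [hn]
    exact ((Fact.out : p.Prime).odd_of_ne_two hp).pow
  have hna' : ¬ ∀ a ∈ 𝐊[P], ∀ b ∈ 𝐊[P], a * b = b * a := by
    intro h
    apply hna
    refine ⟨⟨fun a b => ?_⟩⟩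
    apply Subtype.ext
    have := h ⟨a.1, hPN a.2⟩ (Subgroup.mem_subgroupOf.mpr a.2) ⟨b.1, hPN b.2⟩
      (Subgroup.mem_subgroupOf.mpr b.2)
    have h2 : (a : G) * (b : G) = (b : G) * (a : G) := congrArg Subtype.val this
    exact h2
  have hodd : Odd (Nat.card ↥𝐍[P]) :=
    Cfsg.Agent.Lib.Helper4.PF6.odd_card_of_nonabelian_kernel _ hCN hKodd hna'
  have hcop : Nat.Coprime (Nat.card 𝐊[P]) 𝐊[P].index := by
    rw [hcardK]
    have h1 := P.card_coprime_index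
    have h2 : 𝐊[P].index ∣ (P : Subgroup G).index := by
      have := Subgroup.relIndex_mul_index hPN
      exact Dvd.intro _ this
    exact Nat.Coprime.coprime_dvd_right h2 h1
  have hcomm_le := Cfsg.Agent.Lib.Helper4.PF6.commutator_self_le 𝐊[P]
  have hfrob := Cfsg.Agent.Lib.Helper4.PF6.frob_quotient _ hCN hcop ⁅𝐊[P], 𝐊[P]⁆ hcomm_le
  have hKne : 𝐊[P] ≠ ⊥ := by
    intro h
    apply hna'
    intro a ha b hb
    rw [h, Subgroup.mem_bot] at ha hb
    rw [ha, hb]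
  have hH₁K : ⁅𝐊[P], 𝐊[P]⁆ < 𝐊[P] := by
    refine lt_of_le_of_ne hcomm_le ?_
    intro heq
    haveI := hnil
    have htop : (⊤ : Subgroup 𝐊[P]) = ⊥ := by
      apply Cfsg.Agent.Lib.Helper4.PF6.eq_bot_of_le_commutator_top
      intro k _
      have hk : (k : ↥𝐍[P]) ∈ ⁅𝐊[P], 𝐊[P]⁆ := by
        rw [heq]
        exact k.2
      rw [← Subgroup.map_subtype_commutator] at hk
      obtain ⟨c, hc, hck⟩ := hk
      have : c = k := Subtype.ext hck
      rw [← this]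
      rwa [commutator_def] at hc
    apply hKne
    rw [Subgroup.eq_bot_iff_forall]
    intro x hx
    have h1 : (⟨x, hx⟩ : 𝐊[P]) ∈ (⊤ : Subgroup _) := Subgroup.mem_top _
    rw [htop, Subgroup.mem_bot] at h1
    exact congrArg Subtype.val h1
  have hKL : 𝐊[P] < ⊤ := by
    rw [lt_top_iff_ne_top]
    intro h
    obtain ⟨x, hxN, hxP⟩ := SetLike.exists_of_lt hlt
    apply hxP
    have : (⟨x, hxN⟩ : ↥𝐍[P]) ∈ 𝐊[P] := by
      rw [h]
      exact Subgroup.mem_top _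
    exact Subgroup.mem_subgroupOf.mp this
  have hSirr : ∀ χ ∈ inducedIrrAbove 𝐊[P] ⊥, IsIrrCharacter ↥𝐍[P] χ := by
    rintro χ ⟨θ, hθ, hθ1, -, rfl⟩
    exact Cfsg.Agent.Lib.Helper2.FrobKer.isIrr_indFun _ hCN hθ hθ1
  obtain ⟨hiso, hone⟩ := Cfsg.Agent.Lib.Helper4.PF6.ti_isometry (P : Subgroup G) hTI
  have hbotlt : (⊥ : Subgroup ↥𝐍[P]) < 𝐊[P] := bot_lt_iff_ne_bot.mpr hKne
  obtain ⟨R, hR⟩ := Cfsg.Agent.S1514.result (inducedIrrAbove 𝐊[P] ⊥)
    (Cfsg.Agent.Lib.Helper4.PF6.induced_nonempty hsolv hbotlt) hSirr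
    (fun χ hχ => ⟨Cfsg.Agent.Lib.Helper4.PF6.conjFun_mem_induced hχ, by
      intro heq
      have hirr := hSirr χ hχ
      obtain ⟨θ, hθ, hθ1, -, rfl⟩ := hχ
      have h1 := Cfsg.Agent.S0194.result hodd _ θ hθ hθ1
      have h2 : (fun g => (starRingEnd ℂ) (indFun 𝐊[P] θ g)) = conjFun (indFun _ θ) := rfl
      rw [h2, heq, classInner_irr_self hirr] at h1
      exact one_ne_zero h1⟩)
    (fun α => indFun 𝐍[P] α) hiso hone
  -- the centre of `P`
  set Z : Subgroup G := (Subgroup.center ↥(P : Subgroup G)).map (P : Subgroup G).subtype with hZdef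
  have hZmem : ∀ z, z ∈ Z ↔ z ∈ (P : Subgroup G) ∧ ∀ y ∈ (P : Subgroup G), z * y = y * z := by
    intro z
    constructor
    · rintro ⟨w, hw, rfl⟩
      refine ⟨w.2, fun y hy => ?_⟩
      have h1 := Subgroup.mem_center_iff.mp hw ⟨y, hy⟩
      have h2 := congrArg Subtype.val h1
      exact h2.symm
    · rintro ⟨hz, hc⟩
      refine ⟨⟨z, hz⟩, ?_, rfl⟩
      rw [SetLike.mem_coe, Subgroup.mem_center_iff]
      intro y
      exact Subtype.ext (hc y.1 y.2).symm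
  have hZP : ∀ z ∈ Z, z ∈ (P : Subgroup G) ∧ ∀ y ∈ (P : Subgroup G), z * y = y * z :=
    fun z hz => (hZmem z).mp hz
  have hZ1 : Z ≠ ⊥ := by
    haveI : Nontrivial ↥(P : Subgroup G) := by
      by_contra hnt
      rw [not_nontrivial_iff_subsingleton] at hnt
      apply hna
      exact ⟨⟨fun a b => by rw [Subsingleton.elim a b]⟩⟩
    haveI : Nontrivial (Subgroup.center ↥(P : Subgroup G)) := P.isPGroup'.center_nontrivial
    intro h
    rw [hZdef, Subgroup.map_eq_bot_iff_of_injective _ (Subgroup.subtype_injective _)] at h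
    obtain ⟨a, b, hab⟩ := (inferInstance : Nontrivial (Subgroup.center ↥(P : Subgroup G)))
    apply hab
    have ha : (a : ↥(P : Subgroup G)) ∈ (⊥ : Subgroup ↥(P : Subgroup G)) := h ▸ a.2
    have hb : (b : ↥(P : Subgroup G)) ∈ (⊥ : Subgroup ↥(P : Subgroup G)) := h ▸ b.2
    rw [Subgroup.mem_bot] at ha hb
    exact Subtype.ext (ha.trans hb.symm)
  have hZn : ∀ x ∈ 𝐍[P], ∀ z ∈ Z, x * z * x⁻¹ ∈ Z := by
    intro x hx z hz
    obtain ⟨hzP, hzc⟩ := hZP z hz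
    have hxn : ∀ y, y ∈ (P : Subgroup G) ↔ x * y * x⁻¹ ∈ (P : Subgroup G) := by
      intro y
      exact Subgroup.mem_normalizer_iff.mp hx y
    rw [hZmem]
    refine ⟨(hxn z).mp hzP, fun y hy => ?_⟩
    have hy' : x⁻¹ * y * x ∈ (P : Subgroup G) := by
      rw [hxn]
      have : x * (x⁻¹ * y * x) * x⁻¹ = y := by group
      rw [this]; exact hy
    have h1 := hzc _ hy'
    have h2 : x * z * x⁻¹ * y = x * (z * (x⁻¹ * y * x)) * x⁻¹ := by group
    have h3 : y * (x * z * x⁻¹) = x * ((x⁻¹ * y * x) * z) * x⁻¹ := by group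
    rw [h2, h3, h1]
  have hZn' : (Z.subgroupOf 𝐍[P]).Normal := by
    refine ⟨fun z hz x => ?_⟩
    rw [Subgroup.mem_subgroupOf] at hz ⊢
    exact hZn x.1 x.2 z.1 hz
  have hZ1' : Z.subgroupOf 𝐍[P] ≠ ⊥ := by
    intro h
    apply hZ1
    rw [Subgroup.eq_bot_iff_forall]
    intro z hz
    have h1 : (⟨z, hPN (hZP z hz).1⟩ : ↥𝐍[P]) ∈ Z.subgroupOf 𝐍[P] :=
      Subgroup.mem_subgroupOf.mpr hz
    rw [h, Subgroup.mem_bot] at h1
    exact congrArg Subtype.val h1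
  have hZK : Z.subgroupOf 𝐍[P] ≤ 𝐊[P] := by
    intro z hz
    rw [Subgroup.mem_subgroupOf] at hz ⊢
    exact (hZP z.1 hz).1
  have hZc : ∀ z ∈ Z.subgroupOf 𝐍[P], ∀ k ∈ 𝐊[P], z * k = k * z := by
    intro z hz k hk
    rw [Subgroup.mem_subgroupOf] at hz hk
    exact Subtype.ext ((hZP z.1 hz).2 k.1 hk)
  obtain ⟨hset, hcoh₁⟩ := Cfsg.Agent.S1522.result 𝐊[P] hsolv
    (fun α => indFun 𝐍[P] α) R hR hodd hnil
    hH₁K hKL hfrob (Z.subgroupOf 𝐍[P]) hZ1' hZK hZc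
    (fun χ hχ => hSirr χ hχ.1)
  -- finite sets
  set Sfin := (induced_finite 𝐊[P] ⊥).toFinset with hSfin
  set SZfin := (induced_finite 𝐊[P] (Z.subgroupOf 𝐍[P])).toFinset with hSZfin
  set S₁fin := Sfin \ SZfin with hS₁fin
  set S₃fin := Sfin.filter (fun χ => deg χ = 𝐊[P].index) with hS₃fin
  have hSfineq : (↑Sfin : Set (↥𝐍[P] → ℂ)) = inducedIrrAbove 𝐊[P] ⊥ :=
    Set.Finite.coe_toFinset _
  have hSZfineq : (↑SZfin : Set (↥𝐍[P] → ℂ)) = inducedIrrAbove 𝐊[P] (Z.subgroupOf 𝐍[P]) :=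
    Set.Finite.coe_toFinset _
  have hS₁fineq : (↑S₁fin : Set (↥𝐍[P] → ℂ))
      = inducedIrrAbove 𝐊[P] ⊥ \ inducedIrrAbove 𝐊[P] (Z.subgroupOf 𝐍[P]) := by
    rw [hS₁fin, Finset.coe_sdiff, hSfineq, hSZfineq]
  have hSZsub : SZfin ⊆ Sfin := by
    intro χ hχ
    rw [hSZfin, Set.Finite.mem_toFinset] at hχ
    rw [hSfin, Set.Finite.mem_toFinset]
    exact induced_mono 𝐊[P] bot_le hχ
  have hS₁sub : S₁fin ⊆ Sfin := Finset.sdiff_subset
  have hS₃sub : S₃fin ⊆ Sfin := Finset.filter_subset _ _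
  have hirrfin : ∀ χ ∈ Sfin, IsIrrCharacter ↥𝐍[P] χ := by
    intro χ hχ
    rw [hSfin, Set.Finite.mem_toFinset] at hχ
    exact hSirr χ hχ
  have hS₁mem : ∀ χ : ↥𝐍[P] → ℂ, χ ∈ S₁fin ↔
      (IsIrrCharacter ↥𝐍[P] χ ∧ ∃ z : ↥𝐍[P], (z : G) ∈ Z ∧ χ z ≠ χ 1) := by
    intro χ
    rw [← Finset.mem_coe, hS₁fineq, hset]
    constructor
    · rintro ⟨h1, z, hz, h2⟩
      exact ⟨h1, z, Subgroup.mem_subgroupOf.mp hz, h2⟩
    · rintro ⟨h1, z, hz, h2⟩
      exact ⟨h1, z, Subgroup.mem_subgroupOf.mpr hz, h2⟩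
  have hcohS₁ : IsCoherent (↑S₁fin : Set (↥𝐍[P] → ℂ)) {1}ᶜ (fun α => indFun 𝐍[P] α) := by
    rw [hS₁fineq]; exact hcoh₁
  -- a fixed member of `S₁`
  obtain ⟨ξ₀, hξ₀⟩ := nonempty_of_nonzero S₁fin hcohS₁.1
  have hξ₀S : ξ₀ ∈ inducedIrrAbove 𝐊[P] ⊥ := by
    have := hS₁sub hξ₀
    rwa [hSfin, Set.Finite.mem_toFinset] at this
  obtain ⟨θ₀, hθ₀, hξ₀eq⟩ := mem_induced_iff.mp hξ₀S
  have hξ₀irr : IsIrrCharacter ↥𝐍[P] ξ₀ := hSirr ξ₀ hξ₀S
  have hdegξ₀ : deg ξ₀ = 𝐊[P].index * dg θ₀ := by rw [hξ₀eq]; exact deg_induced hθ₀.1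
  have hξ₀Z : ∃ z : ↥𝐍[P], (z : G) ∈ Z ∧ ξ₀ z ≠ ξ₀ 1 := ((hS₁mem ξ₀).mp hξ₀).2
  have hcardN : Nat.card ↥𝐍[P] = 𝐊[P].index * Nat.card (P : Subgroup G) := by
    rw [← hcardK, mul_comm]
    exact (Subgroup.card_mul_index 𝐊[P]).symm
  obtain ⟨φ₁, hφ₁, hφ₁ne⟩ := exists_ne_of_nonzero S₁fin (fun φ hφ => hirrfin φ (hS₁sub hφ))
    hcohS₁.1 hξ₀
  -- Step B
  have hB : ∀ F : Finset (↥𝐍[P] → ℂ), F ⊆ S₃fin →
      IsCoherent (↑(S₁fin ∪ F) : Set (↥𝐍[P] → ℂ)) {1}ᶜ (fun α => indFun 𝐍[P] α) := by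
    intro F
    induction F using Finset.induction_on with
    | empty =>
      intro _
      rw [Finset.union_empty]; exact hcohS₁
    | insert lam F' hlamF' ih =>
      intro hsubF
      have ih' := ih (fun x hx => hsubF (Finset.mem_insert_of_mem hx))
      rw [Finset.union_insert]
      by_cases hmem : lam ∈ S₁fin ∪ F'
      · rw [Finset.insert_eq_of_mem hmem]; exact ih'
      · have hlam₃ : lam ∈ S₃fin := hsubF (Finset.mem_insert_self _ _)
        have hlamS : lam ∈ Sfin := hS₃sub hlam₃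
        have hlamdeg : deg lam = 𝐊[P].index := (Finset.mem_filter.mp hlam₃).2
        have h𝒯sub : S₁fin ∪ F' ⊆ Sfin := by
          intro x hx
          rw [Finset.mem_union] at hx
          rcases hx with hx | hx
          · exact hS₁sub hx
          · exact hS₃sub (hsubF (Finset.mem_insert_of_mem hx))
        have hsubS : (↑(insert lam (S₁fin ∪ F')) : Set (↥𝐍[P] → ℂ)) ⊆ inducedIrrAbove 𝐊[P] ⊥ := by
          intro x hx
          rw [← hSfineq]
          rw [Finset.mem_coe, Finset.mem_insert] at hx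
          rcases hx with rfl | hx
          · exact hlamS
          · exact h𝒯sub hx
        have hirr𝒯 : ∀ χ ∈ S₁fin ∪ F', IsIrrCharacter ↥𝐍[P] χ := fun χ hχ =>
          hirrfin χ (h𝒯sub hχ)
        apply sibley_insert (S₁fin ∪ F') lam hirr𝒯 (hirrfin lam hlamS) hmem deg
          (fun ξ hξ => deg_spec (hSirr ξ (hsubS (Finset.mem_coe.mpr hξ))))
          (fun α => indFun 𝐍[P] α) (lio_mono hiso (zspanOn_mono hsubS))
          (fun α hα => hone α (zspanOn_mono hsubS hα)) ih' ξ₀ (Finset.mem_union_left _ hξ₀)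
          (dg θ₀) (by rw [hdegξ₀, hlamdeg, mul_comm])
          ⟨φ₁, Finset.mem_union_left _ hφ₁, hφ₁ne⟩
        intro τ₁ hτ₁ hag ψ hψ horth
        exact sibley_div p P hTI hC hodd Z hZ1 hZP hZn (S₁fin ∪ F') hirr𝒯
          (fun χ hχ hz => Finset.mem_union_left _ ((hS₁mem χ).mpr ⟨hχ, hz⟩))
          τ₁ hτ₁ hag ξ₀ hξ₀irr hξ₀Z lam (hirrfin lam hlamS) 𝐊[P].index hcardN (dg θ₀)
          (by rw [deg_spec hξ₀irr, hdegξ₀]; push_cast; ring) ψ hψ horth
  have hS₀coh := hB S₃fin (Finset.Subset.refl _)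
  -- a character of degree `e`
  obtain ⟨θ₁, hθ₁, hdg₁⟩ := exists_linear_theta hsolv hbotlt
  have hlam₀S : indFun 𝐊[P] θ₁ ∈ Sfin := by
    rw [hSfin, Set.Finite.mem_toFinset]
    exact mem_induced_iff.mpr ⟨θ₁, hθ₁, rfl⟩
  have hdeglam₀ : deg (indFun 𝐊[P] θ₁) = 𝐊[P].index := by
    rw [deg_induced hθ₁.1, hdg₁, mul_one]
  have hlam₀ : indFun 𝐊[P] θ₁ ∈ S₃fin := Finset.mem_filter.mpr ⟨hlam₀S, hdeglam₀⟩
  -- arithmetic
  have hepos : 0 < 𝐊[P].index := Nat.pos_of_ne_zero Subgroup.index_ne_zero_of_finite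
  have hsumS := sum_deg_sq 𝐊[P] hSirr ⊥ bot_le
  rw [Subgroup.relIndex_bot_left] at hsumS
  have hsumZ := sum_deg_sq 𝐊[P] hSirr (Z.subgroupOf 𝐍[P]) hZK
  have hsplit : ∑ φ ∈ S₁fin, deg φ ^ 2 + ∑ φ ∈ SZfin, deg φ ^ 2 = ∑ φ ∈ Sfin, deg φ ^ 2 :=
    Finset.sum_sdiff hSZsub
  have hrz : Nat.card (Z.subgroupOf 𝐍[P]) * (Z.subgroupOf 𝐍[P]).relIndex 𝐊[P]
      = Nat.card 𝐊[P] := by
    have h1 := Subgroup.card_mul_index ((Z.subgroupOf 𝐍[P]).subgroupOf 𝐊[P])
    have h2 : Nat.card ((Z.subgroupOf 𝐍[P]).subgroupOf 𝐊[P]) = Nat.card (Z.subgroupOf 𝐍[P]) :=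
      Nat.card_congr (Subgroup.subgroupOfEquivOfLe hZK).toEquiv
    rw [h2] at h1
    exact h1
  have hzgt : 1 < Nat.card (Z.subgroupOf 𝐍[P]) := (Subgroup.one_lt_card_iff_ne_bot _).mpr hZ1'
  have h2e : 2 * 𝐊[P].index ≤ Nat.card (Z.subgroupOf 𝐍[P]) - 1 := by
    have h1 := section_cong 𝐊[P] ⊥ (Z.subgroupOf 𝐍[P]) hCN bot_le hZK
    rw [Subgroup.relIndex_bot_left] at h1
    obtain ⟨t, ht⟩ := h1
    have hzodd : Odd (Nat.card (Z.subgroupOf 𝐍[P])) :=
      Odd.of_dvd_nat hodd (Subgroup.card_subgroup_dvd_card _)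
    have heodd : Odd 𝐊[P].index := Odd.of_dvd_nat hodd (Subgroup.index_dvd_card _)
    have hteven : Even t := by
      have h3 : Even (Nat.card (Z.subgroupOf 𝐍[P]) - 1) := by
        obtain ⟨m, hm⟩ := hzodd
        exact ⟨m, by omega⟩
      rw [ht] at h3
      rcases Nat.even_mul.mp h3 with h | h
      · exact absurd h (Nat.not_even_iff_odd.mpr heodd)
      · exact h
    have htpos : t ≠ 0 := by
      intro h0
      rw [h0, mul_zero] at ht
      omega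
    obtain ⟨m, hm⟩ := hteven
    have hm1 : 1 ≤ m := by omega
    rw [ht, hm]
    nlinarith
  have hcoh := coherent_union_irr hSirr (fun α => indFun 𝐍[P] α) hiso hone (S₁fin ∪ S₃fin)
    (Sfin \ (S₁fin ∪ S₃fin))
    (by
      intro x hx
      rw [← hSfineq]
      rw [Finset.mem_coe, Finset.mem_union] at hx
      rcases hx with hx | hx
      · exact hS₁sub hx
      · exact hS₃sub hx)
    hS₀coh
    (by
      intro x hx
      rw [← hSfineq]
      rw [Finset.mem_coe] at hx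
      exact Finset.mem_coe.mpr (Finset.sdiff_subset hx))
    (indFun 𝐊[P] θ₁) (Finset.mem_union_right _ hlam₀)
    (by
      intro χ hχ
      rw [Finset.mem_sdiff, Finset.mem_union, not_or] at hχ
      obtain ⟨hχS, hχ1, hχ3⟩ := hχ
      have hχZ : χ ∈ SZfin := by
        by_contra hno
        exact hχ1 (Finset.mem_sdiff.mpr ⟨hχS, hno⟩)
      rw [hSZfin, Set.Finite.mem_toFinset] at hχZ
      obtain ⟨θ, hθ, rfl⟩ := mem_induced_iff.mp hχZ
      have hdegχ : deg (indFun 𝐊[P] θ) = 𝐊[P].index * dg θ := deg_induced hθ.1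
      have hdgne : dg θ ≠ 1 := by
        intro h1
        apply hχ3
        exact Finset.mem_filter.mpr ⟨hχS, by rw [hdegχ, h1, mul_one]⟩
      have hdgpos := dg_pos hθ.1
      have hdg2 : 2 ≤ dg θ := by omega
      have hbound := degree_bound (K := 𝐊[P]) (B := Z.subgroupOf 𝐍[P]) (C := 𝐊[P])
        (D := Z.subgroupOf 𝐍[P]) le_rfl hZK le_rfl
        (fun x hx y hy => by
          have := hZc x hx y hy
          have h1 : x * y * x⁻¹ * y⁻¹ = 1 := by
            rw [this]; group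
          rw [h1]; exact Subgroup.one_mem _) hθ
      have hdgsq : dg θ ^ 2 ≤ (Z.subgroupOf 𝐍[P]).relIndex 𝐊[P] := by
        have h1 : (2 * 𝐊[P].index * dg θ) ^ 2 = 4 * 𝐊[P].index ^ 2 * dg θ ^ 2 := by ring
        rw [h1] at hbound
        have h2 : 0 < 4 * 𝐊[P].index ^ 2 := by positivity
        exact Nat.le_of_mul_le_mul_left hbound h2
      refine ⟨by rw [hdeglam₀, hdegχ]; exact Dvd.intro _ rfl, ?_⟩
      rw [hdeglam₀, hdegχ]
      have hge : ∑ φ ∈ S₁fin, deg φ ^ 2 ≤ ∑ φ ∈ S₁fin ∪ S₃fin, deg φ ^ 2 :=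
        Finset.sum_le_sum_of_subset Finset.subset_union_left
      refine lt_of_lt_of_le ?_ hge
      -- the sum over `S₁`
      set e := 𝐊[P].index with he
      set r := (Z.subgroupOf 𝐍[P]).relIndex 𝐊[P] with hr
      set z := Nat.card (Z.subgroupOf 𝐍[P]) with hz
      obtain ⟨z', hz'⟩ : ∃ z', z = z' + 1 := ⟨z - 1, by omega⟩
      have h2e' : 2 * e ≤ z' := by
        have := h2e
        omega
      have hS₁sum : ∑ φ ∈ S₁fin, deg φ ^ 2 = e * r * z' := by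
        have h5 : ∑ φ ∈ S₁fin, deg φ ^ 2 + e * r = e * r * z' + e * r := by
          calc ∑ φ ∈ S₁fin, deg φ ^ 2 + e * r
              = ∑ φ ∈ S₁fin, deg φ ^ 2 + (∑ φ ∈ SZfin, deg φ ^ 2 + e) := by rw [hsumZ]
            _ = (∑ φ ∈ S₁fin, deg φ ^ 2 + ∑ φ ∈ SZfin, deg φ ^ 2) + e := by ring
            _ = ∑ φ ∈ Sfin, deg φ ^ 2 + e := by rw [hsplit]
            _ = e * Nat.card 𝐊[P] := hsumS
            _ = e * (z * r) := by rw [hrz]
            _ = e * r * z' + e * r := by rw [hz']; ring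
        exact Nat.add_right_cancel h5
      rw [hS₁sum]
      have h6 : dg θ < r := by
        have : dg θ < dg θ ^ 2 := by nlinarith
        exact lt_of_lt_of_le this hdgsq
      have h7 : 2 * e * (e * dg θ) ≤ e * z' * dg θ := by nlinarith
      have h8 : e * z' * dg θ < e * z' * r := by
        have hez : 0 < e * z' := by
          have : 0 < z' := by omega
          positivity
        exact Nat.mul_lt_mul_of_pos_left h6 hez
      calc 2 * e * (e * dg θ) ≤ e * z' * dg θ := h7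
        _ < e * z' * r := h8
        _ = e * r * z' := by ring)
  have hfinal : S₁fin ∪ S₃fin ∪ (Sfin \ (S₁fin ∪ S₃fin)) = Sfin :=
    Finset.union_sdiff_of_subset (Finset.union_subset hS₁sub hS₃sub)
  rw [hfinal, hSfineq] at hcoh
  exact hcoh

end Main

end Cfsg.Agent.Lib.Helper4.PF8
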