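import Mathlib
import Cfsg.Agent.Lib.Helper4.PF8f

set_option autoImplicit false
set_option linter.unusedSectionVars false
set_option linter.unusedVariables false
set_option maxHeartbeats 1600000

/-!
# Auxiliary group theory for the Sibley-type statements
-/

namespace Cfsg.Agent.Lib.Helper4.PF8

open Cfsg Cfsg.Agent.Lib.Helper1 Cfsg.Agent.Lib.Helper4 Cfsg.Agent.Lib.Helper4.Coh
open Cfsg.Agent.Lib.Helper4.PF6 Cfsg.Agent.Lib.Helper4.PF7
open scoped ComplexConjugate

section Frob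

variable {N : Type*} [Group N] [Finite N]

/-- a normal subgroup with a complement acting without fixed points is a Frobenius kernel -/
theorem frob_of_fpf (K W : Subgroup N) [hK : K.Normal] (hsup : K ⊔ W = ⊤)
    (hfpf : ∀ w ∈ W, w ≠ 1 → ∀ k ∈ K, w * k = k * w → k = 1) :
    ∀ k ∈ K, k ≠ 1 → Subgroup.centralizer ({k} : Set N) ≤ K := by
  intro k hk hk1 x hx
  have hx' : k * x = x * k := by
    rw [Subgroup.mem_centralizer_iff] at hx
    exact hx k rfl
  have hxm : x ∈ (↑(K ⊔ W) : Set N) := by rw [hsup]; trivial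
  rw [Subgroup.normal_mul] at hxm
  obtain ⟨u, hu, w, hw, rfl⟩ := Set.mem_mul.mp hxm
  by_cases hw1 : w = 1
  · rw [hw1, mul_one]; exact hu
  exfalso
  let ψ : K → K := fun c => ⟨(c : N) * (w * (c : N)⁻¹ * w⁻¹),
    K.mul_mem c.2 (hK.conj_mem _ (K.inv_mem c.2) w)⟩
  have hψinj : Function.Injective ψ := by
    intro c d hcd
    have h2 : (c : N) * (w * (c : N)⁻¹ * w⁻¹) = (d : N) * (w * (d : N)⁻¹ * w⁻¹) :=
      congrArg Subtype.val hcd
    have h3 : w * ((d : N)⁻¹ * (c : N)) = ((d : N)⁻¹ * (c : N)) * w := by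
      have h4 : (d : N)⁻¹ * (c : N) = w * ((d : N)⁻¹ * (c : N)) * w⁻¹ := by
        calc (d : N)⁻¹ * (c : N) = (d : N)⁻¹ * ((c : N) * (w * (c : N)⁻¹ * w⁻¹)) *
            (w * (c : N) * w⁻¹) := by group
          _ = (d : N)⁻¹ * ((d : N) * (w * (d : N)⁻¹ * w⁻¹)) * (w * (c : N) * w⁻¹) := by rw [h2]
          _ = w * ((d : N)⁻¹ * (c : N)) * w⁻¹ := by group
      calc w * ((d : N)⁻¹ * (c : N)) = (w * ((d : N)⁻¹ * (c : N)) * w⁻¹) * w := by group
        _ = ((d : N)⁻¹ * (c : N)) * w := by rw [← h4]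
    have h5 := hfpf w hw hw1 _ (K.mul_mem (K.inv_mem d.2) c.2) h3
    apply Subtype.ext
    have : (c : N) = (d : N) * ((d : N)⁻¹ * (c : N)) := by group
    rw [this, h5, mul_one]
  have hψsurj : Function.Surjective ψ := Finite.surjective_of_injective hψinj
  obtain ⟨c, hc⟩ := hψsurj ⟨u, hu⟩
  have hcu : (c : N) * (w * (c : N)⁻¹ * w⁻¹) = u := congrArg Subtype.val hc
  have hconj : u * w = (c : N) * w * (c : N)⁻¹ := by
    rw [← hcu]; group
  rw [hconj] at hx'
  have h6 : w * ((c : N)⁻¹ * k * (c : N)) = ((c : N)⁻¹ * k * (c : N)) * w := by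
    have : w * ((c : N)⁻¹ * k * (c : N)) = (c : N)⁻¹ * ((c : N) * w * (c : N)⁻¹ * k) * (c : N) := by
      group
    rw [this, ← hx']; group
  have h7 := hfpf w hw hw1 _ (K.mul_mem (K.mul_mem (K.inv_mem c.2) hk) c.2) h6
  apply hk1
  have : k = (c : N) * ((c : N)⁻¹ * k * (c : N)) * (c : N)⁻¹ := by group
  rw [this, h7]; group

/-- a Frobenius kernel of order `e + 1` is abelian of prime exponent -/
theorem frob_small_comm (K : Subgroup N) [hK : K.Normal]
    (hC : ∀ k ∈ K, k ≠ 1 → Subgroup.centralizer ({k} : Set N) ≤ K)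
    (hK1 : K ≠ ⊥) (hnil : Group.IsNilpotent K) (hcard : Nat.card K = K.index + 1) :
    ∀ a ∈ K, ∀ b ∈ K, a * b = b * a := by
  classical
  set Zc : Subgroup N := (Subgroup.center ↥K).map K.subtype with hZc
  have hZmem : ∀ z, z ∈ Zc ↔ z ∈ K ∧ ∀ y ∈ K, z * y = y * z := by
    intro z
    constructor
    · rintro ⟨w, hw, rfl⟩
      refine ⟨w.2, fun y hy => ?_⟩
      have h1 := Subgroup.mem_center_iff.mp hw ⟨y, hy⟩
      exact (congrArg Subtype.val h1).symm
    · rintro ⟨hz, hc⟩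
      refine ⟨⟨z, hz⟩, ?_, rfl⟩
      rw [SetLike.mem_coe, Subgroup.mem_center_iff]
      intro y
      exact Subtype.ext (hc y.1 y.2).symm
  have hZK : Zc ≤ K := fun z hz => ((hZmem z).mp hz).1
  haveI hZn : Zc.Normal := by
    refine ⟨fun z hz x => ?_⟩
    obtain ⟨hzK, hzc⟩ := (hZmem z).mp hz
    rw [hZmem]
    refine ⟨hK.conj_mem z hzK x, fun y hy => ?_⟩
    have hy' : x⁻¹ * y * x ∈ K := by
      have := hK.conj_mem y hy x⁻¹
      rwa [inv_inv] at this
    have h1 := hzc _ hy'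
    have h2 : x * z * x⁻¹ * y = x * (z * (x⁻¹ * y * x)) * x⁻¹ := by group
    have h3 : y * (x * z * x⁻¹) = x * ((x⁻¹ * y * x) * z) * x⁻¹ := by group
    rw [h2, h3, h1]
  have hZ1 : Zc ≠ ⊥ := by
    haveI : Nontrivial ↥K := by
      rw [← Subgroup.nontrivial_iff_ne_bot] at hK1
      exact hK1
    haveI := hnil
    have h0 : Subgroup.center ↥K ≠ ⊥ := Group.IsNilpotent.center_ne_bot ↥K
    intro h
    rw [hZc, Subgroup.map_eq_bot_iff_of_injective _ (Subgroup.subtype_injective _)] at h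
    exact h0 h
  have h1 := section_cong K ⊥ Zc hC bot_le hZK
  rw [Subgroup.relIndex_bot_left] at h1
  have hgt : 1 < Nat.card Zc := (Subgroup.one_lt_card_iff_ne_bot _).mpr hZ1
  have hge : K.index ≤ Nat.card Zc - 1 := Nat.le_of_dvd (by omega) h1
  have heq : Zc = K := Subgroup.eq_of_le_of_card_ge hZK (by omega)
  intro a ha b hb
  rw [← heq] at ha
  exact ((hZmem a).mp ha).2 b hb

theorem frob_small_exp (K : Subgroup N) [hK : K.Normal]
    (hC : ∀ k ∈ K, k ≠ 1 → Subgroup.centralizer ({k} : Set N) ≤ K)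
    (hab : ∀ a ∈ K, ∀ b ∈ K, a * b = b * a) (hcard : Nat.card K = K.index + 1)
    (p : ℕ) (hp : p.Prime) (hpK : p ∣ Nat.card K) : ∀ a ∈ K, a ^ p = 1 := by
  classical
  haveI : Fact p.Prime := ⟨hp⟩
  have hc : ⁅K, K⁆ ≤ (⊥ : Subgroup N) := by
    rw [Subgroup.commutator_le]
    intro a ha b hb
    rw [Subgroup.mem_bot, commutatorElement_def, hab a ha b hb]
    group
  set Ω := powSub K ⊥ hc p with hΩ
  haveI hΩn : Ω.Normal := powSub_normal hc p
  have hΩK : Ω ≤ K := fun x hx => ((mem_powSub hc p x).mp hx).1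
  have hΩ1 : Ω ≠ ⊥ := by
    obtain ⟨x, hx⟩ := exists_prime_orderOf_dvd_card' (G := ↥K) p hpK
    intro h
    have hxΩ : (x : N) ∈ Ω := by
      rw [hΩ, mem_powSub]
      refine ⟨x.2, ?_⟩
      rw [Subgroup.mem_bot, ← Subgroup.coe_pow, ← hx, pow_orderOf_eq_one, Subgroup.coe_one]
    rw [h, Subgroup.mem_bot] at hxΩ
    have hx1 : x = 1 := Subtype.ext hxΩ
    rw [hx1, orderOf_one] at hx
    exact hp.one_lt.ne hx
  have h1 := section_cong K ⊥ Ω hC bot_le hΩK
  rw [Subgroup.relIndex_bot_left] at h1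
  have hgt : 1 < Nat.card Ω := (Subgroup.one_lt_card_iff_ne_bot _).mpr hΩ1
  have hge : K.index ≤ Nat.card Ω - 1 := Nat.le_of_dvd (by omega) h1
  have heq : Ω = K := Subgroup.eq_of_le_of_card_ge hΩK (by omega)
  intro a ha
  rw [← heq, hΩ, mem_powSub] at ha
  exact Subgroup.mem_bot.mp ha.2

end Frob

section Syl

variable {G : Type*} [Group G] [Finite G]

theorem sylow_of_normalizer (p : ℕ) [Fact p.Prime] (K : Subgroup G) (hKp : IsPGroup p K)
    (hcop : ¬ p ∣ (K.subgroupOf (Subgroup.normalizer (K : Set G))).index) :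
    ∃ P : Sylow p G, (P : Subgroup G) = K := by
  classical
  refine ⟨⟨K, hKp, ?_⟩, rfl⟩
  intro Q hQ hKQ
  by_contra hne
  have hlt : K < Q := lt_of_le_of_ne hKQ (Ne.symm hne)
  have hlt' : K.subgroupOf Q < ⊤ := by
    rw [lt_top_iff_ne_top]
    intro h
    rw [Subgroup.subgroupOf_eq_top] at h
    exact absurd (le_antisymm hKQ h) (Ne.symm hne)
  haveI : Group.IsNilpotent ↥Q := IsPGroup.isNilpotent (p := p) hQ
  have hnc := Group.normalizerCondition_of_isNilpotent (G := ↥Q) (K.subgroupOf Q) hlt'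
  obtain ⟨y, hyN, hyK⟩ := SetLike.exists_of_lt hnc
  have hyK' : (y : G) ∉ K := fun h => hyK (Subgroup.mem_subgroupOf.mpr h)
  have hyn : (y : G) ∈ Subgroup.normalizer (K : Set G) := by
    rw [Subgroup.mem_normalizer_iff]
    intro h
    have hyN' := Subgroup.mem_normalizer_iff.mp hyN
    constructor
    · intro hh
      have := (hyN' ⟨h, hKQ hh⟩).mp (Subgroup.mem_subgroupOf.mpr hh)
      exact Subgroup.mem_subgroupOf.mp this
    · intro hh
      have hhQ : h ∈ Q := by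
        have : h = (y : G)⁻¹ * ((y : G) * h * (y : G)⁻¹) * (y : G) := by group
        rw [this]
        exact Q.mul_mem (Q.mul_mem (Q.inv_mem y.2) (hKQ hh)) y.2
      have := (hyN' ⟨h, hhQ⟩).mpr (Subgroup.mem_subgroupOf.mpr hh)
      exact Subgroup.mem_subgroupOf.mp this
  haveI hKn : (K.subgroupOf (Subgroup.normalizer (K : Set G))).Normal :=
    Subgroup.normal_in_normalizer
  set e := (K.subgroupOf (Subgroup.normalizer (K : Set G))).index with he
  have hpow : (y : G) ^ e ∈ K := by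
    have := Subgroup.pow_index_mem (K.subgroupOf (Subgroup.normalizer (K : Set G)))
      (⟨(y : G), hyn⟩ : ↥(Subgroup.normalizer (K : Set G)))
    rw [Subgroup.mem_subgroupOf] at this
    exact this
  have hQ' : IsPGroup p ↥Q := hQ
  obtain ⟨j, hj⟩ := (IsPGroup.iff_orderOf.mp hQ') y
  have hord : orderOf (y : G) = p ^ j := by rw [Subgroup.orderOf_coe, hj]
  have hcop' : e.Coprime (orderOf (y : G)) := by
    rw [hord]
    exact (Nat.Coprime.pow_left j ((Fact.out : p.Prime).coprime_iff_not_dvd.mpr hcop)).symm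
  obtain ⟨m, hm⟩ := exists_pow_eq_self_of_coprime hcop'
  apply hyK'
  rw [← hm]
  exact K.pow_mem hpow m

end Syl

section Coh

variable {L : Type*} [Group L] [Fintype L] {G : Type*} [Group G] [Fintype G]

theorem frob_abelian_coh (K : Subgroup L) [hK : K.Normal] (hK1 : K ≠ ⊥)
    (hC : ∀ k ∈ K, k ≠ 1 → Subgroup.centralizer ({k} : Set L) ≤ K)
    (hab : ∀ a ∈ K, ∀ b ∈ K, a * b = b * a)
    (τ : (L → ℂ) → (G → ℂ))
    (hτ : IsLinearIsometryOn (zspanOn (inducedIrrAbove K ⊥) {1}ᶜ) τ)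
    (hτ1 : ∀ α ∈ zspanOn (inducedIrrAbove K ⊥) ({1}ᶜ : Set L), τ α 1 = 0) :
    (Nat.card {χ : L → ℂ // χ ∈ inducedIrrAbove K ⊥} = 1 ∧ Nat.card K = K.index + 1) ∨
      IsCoherent (inducedIrrAbove K ⊥) {1}ᶜ τ := by
  classical
  haveI : Fintype K := Fintype.ofFinite _
  have hSirr := frob_irr K hC
  have hsolv : Group.IsSolvable K :=
    Group.isSolvable_of_comm (fun a b => Subtype.ext (hab a a.2 b b.2))
  have hc : ⁅K, K⁆ ≤ (⊥ : Subgroup L) := by
    rw [Subgroup.commutator_le]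
    intro a ha b hb
    rw [Subgroup.mem_bot, commutatorElement_def, hab a ha b hb]
    group
  set Sfin := (induced_finite K ⊥).toFinset with hSfin
  have hSfineq : (↑Sfin : Set (L → ℂ)) = inducedIrrAbove K ⊥ := Set.Finite.coe_toFinset _
  have hdegS : ∀ χ ∈ Sfin, deg χ = K.index := by
    intro χ hχ
    rw [hSfin, Set.Finite.mem_toFinset] at hχ
    obtain ⟨θ, hθ, rfl⟩ := mem_induced_iff.mp hχ
    rw [deg_induced hθ.1, dg_eq_one_of_comm bot_le hc hθ, mul_one]
  have hirrfin : ∀ χ ∈ Sfin, IsIrrCharacter L χ := by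
    intro χ hχ
    rw [hSfin, Set.Finite.mem_toFinset] at hχ
    exact hSirr χ hχ
  by_cases h2 : ∃ a ∈ Sfin, ∃ b ∈ Sfin, a ≠ b
  · right
    rw [← hSfineq]
    apply coherent_same_degree Sfin hirrfin h2 K.index
      (fun χ hχ => by rw [deg_spec (hirrfin χ hχ), hdegS χ hχ]) τ
    · rw [hSfineq]; exact hτ
    · rw [hSfineq]; exact hτ1
  · left
    push Not at h2
    have hne : Sfin.Nonempty := by
      obtain ⟨χ, hχ⟩ := induced_nonempty hsolv (bot_lt_iff_ne_bot.mpr hK1)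
      exact ⟨χ, by rw [hSfin, Set.Finite.mem_toFinset]; exact hχ⟩
    have hcard1 : Sfin.card = 1 := by
      obtain ⟨χ₀, hχ₀⟩ := hne
      rw [Finset.card_eq_one]
      refine ⟨χ₀, ?_⟩
      ext χ
      rw [Finset.mem_singleton]
      constructor
      · intro hχ; exact h2 χ hχ χ₀ hχ₀
      · rintro rfl; exact hχ₀
    refine ⟨?_, ?_⟩
    · rw [← hSfineq]
      have : Nat.card {χ : L → ℂ // χ ∈ (↑Sfin : Set (L → ℂ))} = (↑Sfin : Set (L → ℂ)).ncard := rfl
      rw [this, Set.ncard_coe_finset, hcard1]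
    · have hsum := sum_deg_sq K hSirr ⊥ bot_le
      rw [Subgroup.relIndex_bot_left] at hsum
      have hs : ∑ φ ∈ Sfin, deg φ ^ 2 = K.index ^ 2 := by
        rw [Finset.sum_congr rfl fun φ hφ => by rw [hdegS φ hφ], Finset.sum_const, hcard1,
          one_smul]
      rw [hs] at hsum
      have hepos : 0 < K.index := Nat.pos_of_ne_zero Subgroup.index_ne_zero_of_finite
      have : K.index * (K.index + 1) = K.index * Nat.card K := by rw [← hsum]; ring
      exact (Nat.eq_of_mul_eq_mul_left hepos this).symm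

end Coh

end Cfsg.Agent.Lib.Helper4.PF8
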