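import Mathlib

/-!
# Carve-outs P1 (and the common core of P1, P2) for S2510: element orders of `PSL_n(F)` and maps of
determinant one
-/

set_option autoImplicit false

namespace Cfsg.Agent.Lib.Carve

open Module Matrix

/-- powers of the image in `PSL_n` of an element `g` of `SL_n`: `(mk g)^j = 1` iff `g^j` is scalar -/
theorem P1.mk_pow_eq_one_iff {F : Type*} [Field F] {n : ℕ}
    (g : Matrix.SpecialLinearGroup (Fin n) F) (j : ℕ) :
    ((QuotientGroup.mk g : Matrix.ProjectiveSpecialLinearGroup (Fin n) F)) ^ j = 1 ↔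
      ∃ c : F, (g : Matrix (Fin n) (Fin n) F) ^ j = c • (1 : Matrix (Fin n) (Fin n) F) := by
  rw [← QuotientGroup.mk_pow, QuotientGroup.eq_one_iff, Matrix.SpecialLinearGroup.mem_center_iff]
  constructor
  · rintro ⟨c, _, hc⟩
    refine ⟨c, ?_⟩
    rw [← Matrix.SpecialLinearGroup.coe_pow, ← hc]
    ext a b
    simp [Matrix.scalar_apply, Matrix.diagonal_apply, Matrix.one_apply]
  · rintro ⟨c, hc⟩
    refine ⟨c, ?_, ?_⟩
    · have h1 : ((g ^ j : Matrix.SpecialLinearGroup (Fin n) F) : Matrix (Fin n) (Fin n) F).det = 1 :=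
        (g ^ j).2
      rw [Matrix.SpecialLinearGroup.coe_pow, hc, Matrix.det_smul, Matrix.det_one, mul_one] at h1
      exact h1
    · rw [Matrix.SpecialLinearGroup.coe_pow, hc]
      ext a b
      simp [Matrix.scalar_apply, Matrix.diagonal_apply, Matrix.one_apply]

/-- a matrix power is scalar iff the corresponding power of the linear map is -/
theorem P1.toLin'_pow_scalar_iff {F : Type*} [Field F] {n : ℕ} (A : Matrix (Fin n) (Fin n) F)
    (j : ℕ) :
    (∃ c : F, (Matrix.toLin' A : Module.End F (Fin n → F)) ^ j = c • 1) ↔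
      ∃ c : F, A ^ j = c • (1 : Matrix (Fin n) (Fin n) F) := by
  have e : ∀ (c : F), ((Matrix.toLin' A : Module.End F (Fin n → F)) ^ j = c • 1 ↔
      A ^ j = c • (1 : Matrix (Fin n) (Fin n) F)) := by
    intro c
    have h1 : (Matrix.toLin' A : Module.End F (Fin n → F)) ^ j = Matrix.toLinAlgEquiv' (A ^ j) := by
      rw [map_pow]; rfl
    have h2 : (c • 1 : Module.End F (Fin n → F)) =
        Matrix.toLinAlgEquiv' (c • (1 : Matrix (Fin n) (Fin n) F)) := by
      rw [map_smul, map_one]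
    rw [h1, h2]
    exact (Matrix.toLinAlgEquiv' (R := F) (n := Fin n)).injective.eq_iff
  constructor
  · rintro ⟨c, hc⟩; exact ⟨c, (e c).1 hc⟩
  · rintro ⟨c, hc⟩; exact ⟨c, (e c).2 hc⟩

/-- P1: element orders of `PSL_n(F)` come from maps of determinant 1. -/
theorem P1.exists_sl_of_psl {F : Type*} [Field F] {n k : ℕ}
    (hk : k ∈ Set.range (orderOf : Matrix.ProjectiveSpecialLinearGroup (Fin n) F → ℕ)) :
    ∃ T : Module.End F (Fin n → F), LinearMap.det T = 1 ∧
      ∀ j : ℕ, (∃ c : F, T ^ j = c • 1) ↔ k ∣ j := by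
  obtain ⟨x, rfl⟩ := hk
  obtain ⟨g, rfl⟩ := QuotientGroup.mk_surjective x
  refine ⟨Matrix.toLin' (g : Matrix (Fin n) (Fin n) F), ?_, ?_⟩
  · rw [LinearMap.det_toLin']
    exact g.2
  · intro j
    rw [P1.toLin'_pow_scalar_iff, ← P1.mk_pow_eq_one_iff, orderOf_dvd_iff_pow_eq_one]

end Cfsg.Agent.Lib.Carve
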