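import Mathlib
import Cfsg.Agent.Lib.Helper4.CarveP1

/-!
# Carve-out P2 for S2510: a map whose determinant is an `r`-element, `r ∤ n`, gives an element order
of `PSL_n(F)`
-/

set_option autoImplicit false

namespace Cfsg.Agent.Lib.Carve

open Module Matrix

/-- an `n`-th root of an element of `r`-power order, `r ∤ n` -/
theorem P2.exists_root {F : Type*} [Field F] {n r : ℕ} (hr : r.Prime) (hrn : ¬ r ∣ n) {d : F}
    {i : ℕ} (hd : d ^ (r ^ i) = 1) : ∃ z : F, z ≠ 0 ∧ z ^ n = d := by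
  have hcop : Nat.Coprime n (r ^ i) :=
    Nat.Coprime.pow_right i ((Nat.Prime.coprime_iff_not_dvd hr).2 hrn).symm
  have hd0 : d ≠ 0 := by
    intro h
    rw [h, zero_pow (pow_ne_zero i hr.ne_zero)] at hd
    exact zero_ne_one hd
  -- Bezout over the integers
  have hb := Nat.gcd_eq_gcd_ab n (r ^ i)
  rw [hcop.gcd_eq_one] at hb
  refine ⟨d ^ (Nat.gcdA n (r ^ i)), zpow_ne_zero _ hd0, ?_⟩
  have h1 : (d ^ (Nat.gcdA n (r ^ i))) ^ n = d ^ ((n : ℤ) * Nat.gcdA n (r ^ i)) := by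
    rw [← zpow_natCast, ← _root_.zpow_mul, mul_comm]
  have h2 : d ^ (((r ^ i : ℕ) : ℤ) * Nat.gcdB n (r ^ i)) = 1 := by
    rw [_root_.zpow_mul, zpow_natCast, hd, _root_.one_zpow]
  have h3 : (n : ℤ) * Nat.gcdA n (r ^ i) = 1 - ((r ^ i : ℕ) : ℤ) * Nat.gcdB n (r ^ i) := by
    have : ((1 : ℕ) : ℤ) = (n : ℤ) * Nat.gcdA n (r ^ i) + ((r ^ i : ℕ) : ℤ) * Nat.gcdB n (r ^ i) := hb
    push_cast at this ⊢
    linarith
  rw [h1, h3, zpow_sub₀ hd0, zpow_one, h2, div_one]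

/-- P2: a map whose determinant is an `r`-element, `r ∤ n`, gives an element order of `PSL_n(F)`. -/
theorem P2.psl_of_abstract {F : Type*} [Field F] {V : Type*} [AddCommGroup V] [Module F V]
    [FiniteDimensional F V] {n : ℕ} (hdim : finrank F V = n) (hn : 1 ≤ n) {r : ℕ} (hr : r.Prime)
    (hrn : ¬ r ∣ n) (T : Module.End F V) (hdet : ∃ i : ℕ, (LinearMap.det T) ^ (r ^ i) = 1) {N : ℕ}
    (hN : ∀ j : ℕ, (∃ c : F, T ^ j = c • 1) ↔ N ∣ j) :
    N ∈ Set.range (orderOf : Matrix.ProjectiveSpecialLinearGroup (Fin n) F → ℕ) := by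
  obtain ⟨i, hi⟩ := hdet
  obtain ⟨z, hz0, hz⟩ := P2.exists_root hr hrn hi
  -- normalise the determinant
  set T' : Module.End F V := z⁻¹ • T with hT'
  have hdet' : LinearMap.det T' = 1 := by
    rw [hT', LinearMap.det_smul, hdim, ← hz, inv_pow, inv_mul_cancel₀ (pow_ne_zero n hz0)]
  have hpow : ∀ j : ℕ, T' ^ j = (z⁻¹) ^ j • T ^ j := by
    intro j
    rw [hT', smul_pow]
  have hscal : ∀ j : ℕ, (∃ c : F, T' ^ j = c • 1) ↔ ∃ c : F, T ^ j = c • 1 := by
    intro j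
    constructor
    · rintro ⟨c, hc⟩
      refine ⟨z ^ j * c, ?_⟩
      rw [hpow] at hc
      have := congrArg (fun f : Module.End F V => z ^ j • f) hc
      simp only [smul_smul] at this
      rw [← mul_pow, mul_inv_cancel₀ hz0, one_pow, one_smul] at this
      exact this
    · rintro ⟨c, hc⟩
      exact ⟨(z⁻¹) ^ j * c, by rw [hpow, hc, smul_smul]⟩
  -- pass to matrices
  let b : Basis (Fin n) F V := Module.finBasisOfFinrankEq F V hdim
  set A : Matrix (Fin n) (Fin n) F := LinearMap.toMatrix b b T' with hA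
  have hAdet : A.det = 1 := by rw [hA, LinearMap.det_toMatrix, hdet']
  let g : Matrix.SpecialLinearGroup (Fin n) F := ⟨A, hAdet⟩
  have hmat : ∀ j : ℕ, (∃ c : F, A ^ j = c • (1 : Matrix (Fin n) (Fin n) F)) ↔
      ∃ c : F, T' ^ j = c • 1 := by
    intro j
    have e : ∀ c : F, (A ^ j = c • (1 : Matrix (Fin n) (Fin n) F) ↔ T' ^ j = c • 1) := by
      intro c
      have h1 : A ^ j = LinearMap.toMatrixAlgEquiv b (T' ^ j) := by
        rw [map_pow]; rfl
      have h2 : (c • 1 : Matrix (Fin n) (Fin n) F) = LinearMap.toMatrixAlgEquiv b (c • 1) := by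
        rw [map_smul, map_one]
      rw [h1, h2]
      exact (LinearMap.toMatrixAlgEquiv b).injective.eq_iff
    constructor
    · rintro ⟨c, hc⟩; exact ⟨c, (e c).1 hc⟩
    · rintro ⟨c, hc⟩; exact ⟨c, (e c).2 hc⟩
  refine ⟨(QuotientGroup.mk g : Matrix.ProjectiveSpecialLinearGroup (Fin n) F), ?_⟩
  have key : ∀ j : ℕ,
      (QuotientGroup.mk g : Matrix.ProjectiveSpecialLinearGroup (Fin n) F) ^ j = 1 ↔ N ∣ j := by
    intro j
    rw [P1.mk_pow_eq_one_iff]
    show (∃ c : F, A ^ j = c • (1 : Matrix (Fin n) (Fin n) F)) ↔ N ∣ j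
    rw [hmat, hscal, hN]
  apply Nat.dvd_antisymm
  · rw [orderOf_dvd_iff_pow_eq_one, key]
  · rw [← key, pow_orderOf_eq_one]

end Cfsg.Agent.Lib.Carve
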