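import Mathlib
import Cfsg.Agent.Lib.Helper9.CubeUDefs
import Cfsg.Agent.Lib.Helper1.SUCenter
import Cfsg.Agent.Lib.Helper5.UStar
import Cfsg.Agent.S2366

/-!
# Carve-out U1 for S2511: element orders of `PSU_n(q)` are projective orders of unitary matrices of
determinant one
-/

set_option autoImplicit false

namespace Cfsg.Agent.Lib.Carve

open Polynomial Cfsg.Agent.S0278 Cfsg.Agent.Lib.Helper5.Wall Cfsg.Agent.Lib.Helper5.SUConj
  Cfsg.Agent.Lib.Helper5.SSOrder Cfsg.Agent.Lib.Helper9.CubeU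

universe u

variable {F : Type u} [Field F] [Fintype F] {q : ℕ}

namespace U1

/-- the matrix of an element of `SU` -/
def matSU {n : ℕ} (g : Cfsg.SU n F q) : Matrix (Fin n) (Fin n) F :=
  ((g : Matrix.SpecialLinearGroup (Fin n) F) : Matrix (Fin n) (Fin n) F)

theorem matSU_pow {n : ℕ} (g : Cfsg.SU n F q) (j : ℕ) : matSU (g ^ j) = matSU g ^ j := by
  unfold matSU
  rw [Subgroup.coe_pow, Matrix.SpecialLinearGroup.coe_pow]

theorem matSU_unitary (hF : Fintype.card F = q ^ 2) {n : ℕ} (g : Cfsg.SU n F q) :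
    ct hF (matSU g) * matSU g = 1 := by
  rw [ct_mul_self_iff]
  exact Cfsg.Agent.Lib.Helper5.UStar.transpose_mul_map hF _
    (fun u v => Cfsg.Agent.Lib.Helper1.SUCenter.SU_preserves g u v)

theorem matSU_det {n : ℕ} (g : Cfsg.SU n F q) : (matSU g).det = 1 :=
  (g : Matrix.SpecialLinearGroup (Fin n) F).2

/-- powers of the image in `PSU_n` of `g ∈ SU_n`: `(mk g)^j = 1` iff `g^j` is scalar -/
theorem mk_pow_eq_one_iff (hF : Fintype.card F = q ^ 2) {n : ℕ} (hn : 3 ≤ n)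
    (g : Cfsg.SU n F q) (j : ℕ) :
    ((QuotientGroup.mk g : Cfsg.PSU n F q)) ^ j = 1 ↔
      ∃ c : F, matSU g ^ j = c • (1 : Matrix (Fin n) (Fin n) F) := by
  rw [← QuotientGroup.mk_pow, QuotientGroup.eq_one_iff, ← matSU_pow]
  constructor
  · intro h
    exact ⟨_, Cfsg.Agent.Lib.Helper1.SUCenter.central_scalar hF hn (g ^ j) h ⟨0, by omega⟩⟩
  · rintro ⟨c, hc⟩
    obtain ⟨h1, h2⟩ := Cfsg.Agent.Lib.Helper1.SUCenter.scalar_props hF (g ^ j) c ⟨0, by omega⟩ hc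
    have h3 : g ^ j = Cfsg.Agent.Lib.Helper1.SUCenter.scalarSU c h1 h2 := by
      apply Cfsg.Agent.Lib.Helper1.SUCenter.SU_ext
      exact hc
    rw [h3]
    exact Cfsg.Agent.Lib.Helper1.SUCenter.scalarSU_mem_center c h1 h2

theorem mem_omega_iff (hF : Fintype.card F = q ^ 2) {n : ℕ} (hn : 3 ≤ n) (k : ℕ) :
    k ∈ Set.range (orderOf : Cfsg.PSU n F q → ℕ) ↔
      ∃ g : Matrix (Fin n) (Fin n) F, ct hF g * g = 1 ∧ g.det = 1 ∧ ProjOrd g k := by
  constructor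
  · rintro ⟨x, rfl⟩
    obtain ⟨g, rfl⟩ := QuotientGroup.mk_surjective x
    refine ⟨matSU g, matSU_unitary hF g, matSU_det g, ?_⟩
    intro j
    rw [← mk_pow_eq_one_iff hF hn, orderOf_dvd_iff_pow_eq_one]
  · rintro ⟨M, hM, hdet, hk⟩
    let g : Cfsg.SU n F q := Cfsg.Agent.Lib.Helper1.SUCenter.mkSU M hdet
      (fun u v => Cfsg.Agent.S2366.preserves_of_transpose_mul_map hF M
        ((ct_mul_self_iff hF M).1 hM) u v)
    have hg : matSU g = M := rfl
    refine ⟨(QuotientGroup.mk g : Cfsg.PSU n F q), ?_⟩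
    have key : ∀ j : ℕ, orderOf (QuotientGroup.mk g : Cfsg.PSU n F q) ∣ j ↔ k ∣ j := by
      intro j
      rw [orderOf_dvd_iff_pow_eq_one, mk_pow_eq_one_iff hF hn, hg]
      exact hk j
    exact Nat.dvd_antisymm ((key k).2 dvd_rfl) ((key _).1 dvd_rfl)

end U1

end Cfsg.Agent.Lib.Carve
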