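import Mathlib
import Cfsg.Prelude.Def_OddOrderLocal
import Cfsg.Prelude.Def_Solvable

set_option autoImplicit false

namespace Cfsg.Agent.Lib.Helper4

universe u v

/-- `n` is a π-number: every prime divisor of `n` lies in `π`. -/
def IsPiNum (π : Set ℕ) (n : ℕ) : Prop := ∀ p : ℕ, p.Prime → p ∣ n → p ∈ π

theorem IsPiNum.of_dvd {π : Set ℕ} {n m : ℕ} (h : IsPiNum π n) (hd : m ∣ n) : IsPiNum π m :=
  fun p hp hpm => h p hp (hpm.trans hd)

theorem IsPiNum.mul {π : Set ℕ} {n m : ℕ} (h1 : IsPiNum π m) (h2 : IsPiNum π n) :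
    IsPiNum π (m * n) := by
  intro p hp hd
  rcases (Nat.Prime.dvd_mul hp).mp hd with h | h
  · exact h1 p hp h
  · exact h2 p hp h

theorem isPiNum_one (π : Set ℕ) : IsPiNum π 1 := by
  intro p hp hd
  exact absurd (Nat.dvd_one.mp hd) hp.one_lt.ne'

theorem IsPiNum.pow {π : Set ℕ} {p : ℕ} (hp : p ∈ π) (hpp : p.Prime) (k : ℕ) : IsPiNum π (p ^ k) := by
  intro q hq hd
  have := (Nat.prime_dvd_prime_iff_eq hq hpp).mp (hq.dvd_of_dvd_pow hd)
  rw [this]; exact hp

section
variable {G : Type u} [Group G]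

theorem card_subgroupOf_of_le {H K : Subgroup G} (h : H ≤ K) :
    Nat.card (H.subgroupOf K) = Nat.card H :=
  Nat.card_congr (Subgroup.subgroupOfEquivOfLe h).toEquiv

theorem card_sup_dvd (H K : Subgroup G) [K.Normal] :
    Nat.card (H ⊔ K : Subgroup G) ∣ Nat.card H * Nat.card K := by
  have h1 : Nat.card (K.subgroupOf (H ⊔ K)) * (K.subgroupOf (H ⊔ K)).index = Nat.card (H ⊔ K : Subgroup G) :=
    Subgroup.card_mul_index _
  have h2 : (K.subgroupOf (H ⊔ K)).index = K.relIndex H := Subgroup.relIndex_sup_right H K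
  rw [card_subgroupOf_of_le le_sup_right, h2] at h1
  rw [← h1, mul_comm]
  exact Nat.mul_dvd_mul_right (Subgroup.relIndex_dvd_card K H) _

theorem isPiNum_card_sup {π : Set ℕ} (H K : Subgroup G) [K.Normal]
    (hH : IsPiNum π (Nat.card H)) (hK : IsPiNum π (Nat.card K)) :
    IsPiNum π (Nat.card (H ⊔ K : Subgroup G)) :=
  (hH.mul hK).of_dvd (card_sup_dvd H K)

theorem isPiNum_card_bot (π : Set ℕ) : IsPiNum π (Nat.card (⊥ : Subgroup G)) := by
  rw [Subgroup.card_bot]; exact isPiNum_one π

theorem supClosed_normal_pi (π : Set ℕ) :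
    SupClosed {N : Subgroup G | N.Normal ∧ IsPiNum π (Nat.card N)} := by
  intro H hH K hK
  haveI := hH.1
  haveI := hK.1
  exact ⟨inferInstance, isPiNum_card_sup H K hH.2 hK.2⟩

/-- The join of a set of normal π-subgroups of a finite group is a normal π-subgroup. -/
theorem isPiNum_card_sSup [Finite G] {π : Set ℕ} (S : Set (Subgroup G))
    (hS : ∀ N ∈ S, N.Normal ∧ IsPiNum π (Nat.card N)) :
    (sSup S).Normal ∧ IsPiNum π (Nat.card (sSup S : Subgroup G)) :=
  (supClosed_normal_pi π).sSup_mem (Set.toFinite S) ⟨inferInstance, isPiNum_card_bot π⟩ hS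

theorem piCore_eq (π : Set ℕ) :
    Cfsg.piCore π G = sSup {N : Subgroup G | N.Normal ∧ IsPiNum π (Nat.card N)} := rfl

theorem isPiNum_card_piCore [Finite G] (π : Set ℕ) : IsPiNum π (Nat.card (Cfsg.piCore π G)) :=
  (isPiNum_card_sSup _ (fun _ h => h)).2

theorem le_piCore {π : Set ℕ} {N : Subgroup G} (hN : N.Normal) (hπ : IsPiNum π (Nat.card N)) :
    N ≤ Cfsg.piCore π G := le_sSup ⟨hN, hπ⟩

theorem piCore_eq_top_iff [Finite G] (π : Set ℕ) :
    Cfsg.piCore π G = ⊤ ↔ IsPiNum π (Nat.card G) := by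
  constructor
  · intro h
    have := isPiNum_card_piCore (G := G) π
    rw [h, Subgroup.card_top] at this
    exact this
  · intro h
    apply top_le_iff.mp
    apply le_piCore inferInstance
    rw [Subgroup.card_top]; exact h

/-- image of the π-core under an isomorphism -/
theorem piCore_map_equiv {H : Type v} [Group H] (π : Set ℕ) (e : G ≃* H) :
    (Cfsg.piCore π G).map e.toMonoidHom = Cfsg.piCore π H := by
  have key : ∀ {A : Type u} {B : Type v} [Group A] [Group B] (f : A ≃* B),
      (Cfsg.piCore π A).map f.toMonoidHom ≤ Cfsg.piCore π B := by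
    intro A B _ _ f
    rw [Subgroup.map_le_iff_le_comap]
    apply sSup_le
    rintro N ⟨hN, hπ⟩
    rw [← Subgroup.map_le_iff_le_comap]
    apply le_piCore
    · exact hN.map _ f.surjective
    · rw [Subgroup.card_map_of_injective f.injective]; exact hπ
  have key' : ∀ {A : Type v} {B : Type u} [Group A] [Group B] (f : A ≃* B),
      (Cfsg.piCore π A).map f.toMonoidHom ≤ Cfsg.piCore π B := by
    intro A B _ _ f
    rw [Subgroup.map_le_iff_le_comap]
    apply sSup_le
    rintro N ⟨hN, hπ⟩
    rw [← Subgroup.map_le_iff_le_comap]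
    apply le_piCore
    · exact hN.map _ f.surjective
    · rw [Subgroup.card_map_of_injective f.injective]; exact hπ
  apply le_antisymm (key e)
  have h := key' e.symm
  intro x hx
  refine ⟨e.symm x, h ⟨x, hx, rfl⟩, ?_⟩
  simp

/-- A finite subgroup is a π-group iff every element of prime order has order in π. -/
theorem isPiNum_card_iff_orderOf [Finite G] (π : Set ℕ) (H : Subgroup G) :
    IsPiNum π (Nat.card H) ↔ ∀ g ∈ H, ∀ p : ℕ, p.Prime → orderOf g = p → p ∈ π := by
  constructor
  · intro h g hg p hp ho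
    apply h p hp
    rw [← ho]
    exact Subgroup.orderOf_dvd_natCard H hg
  · intro h p hp hd
    haveI : Fact p.Prime := ⟨hp⟩
    obtain ⟨g, hg⟩ := exists_prime_orderOf_dvd_card' (G := H) p hd
    apply h (g : G) g.2 p hp
    rw [Subgroup.orderOf_coe]; exact hg

/-- preimage of a π-subgroup under a homomorphism with π-kernel is a π-group -/
theorem isPiNum_card_comap [Finite G] {H : Type v} [Group H] [Finite H] (π : Set ℕ) (f : G →* H)
    (R : Subgroup H) (hk : IsPiNum π (Nat.card f.ker)) (hR : IsPiNum π (Nat.card R)) :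
    IsPiNum π (Nat.card (R.comap f)) := by
  rw [isPiNum_card_iff_orderOf] at hk hR ⊢
  intro g hg p hp ho
  haveI : Fact p.Prime := ⟨hp⟩
  have hdvd : orderOf (f g) ∣ p := by
    rw [← ho]; exact orderOf_map_dvd f g
  rcases (Nat.dvd_prime hp).mp hdvd with h1 | h1
  · apply hk g _ p hp ho
    rw [MonoidHom.mem_ker]; exact orderOf_eq_one_iff.mp h1
  · exact hR (f g) hg p hp h1

/-- `O_π(G / O_π(G)) = 1`. -/
theorem piCore_quotient_piCore [Finite G] (π : Set ℕ) :
    Cfsg.piCore π (G ⧸ Cfsg.piCore π G) = ⊥ := by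
  set P := Cfsg.piCore π G with hP
  set R := Cfsg.piCore π (G ⧸ P) with hR
  have h1 : IsPiNum π (Nat.card (R.comap (QuotientGroup.mk' P))) := by
    apply isPiNum_card_comap
    · rw [QuotientGroup.ker_mk']; exact isPiNum_card_piCore π
    · exact isPiNum_card_piCore π
  have h2 : (R.comap (QuotientGroup.mk' P)).Normal := inferInstance
  have h3 : R.comap (QuotientGroup.mk' P) ≤ P := le_piCore h2 h1
  rw [eq_bot_iff]
  intro x hx
  obtain ⟨g, rfl⟩ := QuotientGroup.mk'_surjective P x
  have : g ∈ P := h3 hx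
  rw [Subgroup.mem_bot]
  exact (QuotientGroup.eq_one_iff g).mpr this

/-- The π-core of a subnormal subgroup lies in the π-core of the group. -/
theorem piCore_map_subtype_le_of_isSubnormal [Finite G] (π : Set ℕ) {K : Subgroup G}
    (hK : K.IsSubnormal) : (Cfsg.piCore π K).map K.subtype ≤ Cfsg.piCore π G := by
  induction hK with
  | top =>
    apply le_piCore
    · exact (Cfsg.piCore_normal π _).map _ (fun x => ⟨⟨x, Subgroup.mem_top x⟩, rfl⟩)
    · rw [Subgroup.card_map_of_injective (Subgroup.subtype_injective _)]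
      exact isPiNum_card_piCore π
  | step H K h_le hSubn hN ih =>
    refine le_trans ?_ ih
    set N : Subgroup G := (Cfsg.piCore π H).map H.subtype with hNdef
    have hNH : N ≤ H := by
      rintro _ ⟨y, _, rfl⟩; exact y.2
    have hNK : N ≤ K := hNH.trans h_le
    have hnorm : K ≤ Subgroup.normalizer (H : Set G) :=
      (Subgroup.normal_subgroupOf_iff_le_normalizer h_le).mp hN
    have hNnorm : (N.subgroupOf K).Normal := by
      rw [Subgroup.normal_subgroupOf_iff_le_normalizer hNK]
      intro k hk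
      have hkH : k ∈ Subgroup.normalizer (H : Set G) := hnorm hk
      rw [Subgroup.mem_normalizer_iff_map_conj_eq] 
      -- the automorphism of H induced by k
      let φ : H ≃* H := Subgroup.normalizerMonoidHom H ⟨k, hkH⟩
      have hφ : (Cfsg.piCore π H).map φ.toMonoidHom = Cfsg.piCore π H := piCore_map_equiv π φ
      rw [hNdef]
      conv_rhs => rw [← hφ]
      rw [Subgroup.map_map, Subgroup.map_map]
      congr 1
    have hcard : IsPiNum π (Nat.card (N.subgroupOf K)) := by
      rw [card_subgroupOf_of_le hNK, hNdef,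
        Subgroup.card_map_of_injective (Subgroup.subtype_injective _)]
      exact isPiNum_card_piCore π
    have h1 : N.subgroupOf K ≤ Cfsg.piCore π K := le_piCore hNnorm hcard
    intro x hx
    exact ⟨⟨x, hNK hx⟩, h1 hx, rfl⟩

/-- A subnormal π-subgroup lies in the π-core. -/
theorem le_piCore_of_isSubnormal [Finite G] {π : Set ℕ} {K : Subgroup G}
    (hK : K.IsSubnormal) (hπ : IsPiNum π (Nat.card K)) : K ≤ Cfsg.piCore π G := by
  have h := piCore_map_subtype_le_of_isSubnormal π hK
  have h2 : Cfsg.piCore π K = ⊤ := (piCore_eq_top_iff π).mpr hπ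
  rw [h2] at h
  intro x hx
  exact h ⟨⟨x, hx⟩, Subgroup.mem_top _, rfl⟩

end

end Cfsg.Agent.Lib.Helper4
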