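import Mathlib
import Cfsg.Agent.Lib.Helper2.CubD0
import Cfsg.Agent.Lib.Helper9.LargeExtra5

/-!
# S4415 swarm, package N4 (part a): basic lemmas
-/

set_option autoImplicit false
open Cfsg

namespace Cfsg.Agent.Lib.Helper2.Cub

open scoped commutatorElement

/-! ### facts on `ZMod 3` -/

theorem n4_z_sq : ∀ c : ZMod 3, c ≠ 0 → c * c = 1 := by decide

theorem n4_z_idem : ∀ c : ZMod 3, c ≠ 0 → c = c * c → c = 1 := by decide

theorem n4_z_ne : ∀ c d : ZMod 3, c ≠ 0 → d ≠ 0 → c ≠ d → c * d = 2 := by decide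

theorem n4_z_23 : ∀ e1 e2 e3 e4 : ZMod 3, e1 ≠ 0 → e2 ≠ 0 → e3 ≠ 0 → e4 ≠ 0 →
    e1 * e2 * e3 * e4 = 1 → e1 ≠ e4 → e2 * e3 = 2 := by decide

theorem n4_z_pair1 : ∀ e1 e2 e3 e4 : ZMod 3, e1 ≠ 0 → e2 ≠ 0 → e3 ≠ 0 → e4 ≠ 0 →
    e1 * e2 * e3 * e4 = 1 → e1 * e2 = e3 * e4 := by decide

theorem n4_z_pair2 : ∀ e1 e2 e3 e4 : ZMod 3, e1 ≠ 0 → e2 ≠ 0 → e3 ≠ 0 → e4 ≠ 0 →
    e1 * e2 * e3 * e4 = 1 → e1 * e3 = e2 * e4 := by decide

theorem n4_z_pair3 : ∀ e1 e2 e3 e4 : ZMod 3, e1 ≠ 0 → e2 ≠ 0 → e3 ≠ 0 → e4 ≠ 0 →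
    e1 * e2 * e3 * e4 = 1 → e1 * e4 = e2 * e3 := by decide

theorem n4_z_fourth : ∀ e1 e2 e3 e4 d4 : ZMod 3, e1 ≠ 0 → e2 ≠ 0 → e3 ≠ 0 →
    e1 * e2 * e3 * e4 = 1 → e1 * e2 * e3 * d4 = 1 → e4 = d4 := by decide

theorem n4_z_12 : ∀ c : ZMod 3, c ≠ 0 → c = 1 ∨ c = 2 := by decide

/-- the four generating patterns generate all sign patterns -/
theorem n4_z_gen : ∀ e1 e2 e3 : ZMod 3, e1 ≠ 0 → e2 ≠ 0 → e3 ≠ 0 → e2 * e3 = 2 →
    ∀ t1 t2 t3 : ZMod 3, t1 ≠ 0 → t2 ≠ 0 → t3 ≠ 0 →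
    ∃ α β γ δ : Bool, (cond α e1 1) * (cond β e3 1) * (cond γ e2 1) * (cond δ 2 1) = t1 ∧
      (cond α e2 1) * (cond β e1 1) * (cond γ e3 1) * (cond δ 2 1) = t2 ∧
      (cond α e3 1) * (cond β e2 1) * (cond γ e1 1) * (cond δ 2 1) = t3 := by decide

/-! ### the data -/

/-- the hypotheses of N4 except `hb*`, `hsep` -/
structure N4 {G : Type*} [Group G] {ι : Type*} [MulAction G ι] (R : Subgroup G)
    (eps : G → ι → ZMod 3) (i1 i2 i3 i4 : ι) : Prop where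
  normal : R.Normal
  hall : ∀ l : ι, l = i1 ∨ l = i2 ∨ l = i3 ∨ l = i4
  h12 : i1 ≠ i2
  h13 : i1 ≠ i3
  h14 : i1 ≠ i4
  h23 : i2 ≠ i3
  h24 : i2 ≠ i4
  h34 : i3 ≠ i4
  heps0 : ∀ (g : G) (i : ι), eps g i ≠ 0
  hmul : ∀ (g h : G) (i : ι), eps (g * h) i = eps g (h • i) * eps h i
  hfaith : ∀ g : G, (∀ i : ι, g • i = i ∧ eps g i = 1) → g = 1
  hdelta : ∀ g : G, eps g i1 * eps g i2 * eps g i3 * eps g i4 = 1
  hklein : ∀ x ∈ R, (∀ l : ι, x • l = l) ∨ (∀ l : ι, x • l ≠ l ∧ x • x • l = l)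
  htrans : ∀ j : ι, ∃ x ∈ R, x • i4 = j

/-- the kernel of the action of `R` on the four points -/
def n4K {G : Type*} [Group G] (ι : Type*) [MulAction G ι] (R : Subgroup G) : Subgroup G where
  carrier := {x | x ∈ R ∧ ∀ l : ι, x • l = l}
  one_mem' := ⟨R.one_mem, fun l => one_smul G l⟩
  mul_mem' := by
    rintro x y ⟨hx, hx'⟩ ⟨hy, hy'⟩
    exact ⟨R.mul_mem hx hy, fun l => by rw [mul_smul, hy', hx']⟩
  inv_mem' := by
    rintro x ⟨hx, hx'⟩
    exact ⟨R.inv_mem hx, fun l => by rw [inv_smul_eq_iff, hx']⟩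

variable {G : Type*} [Group G] {ι : Type*} [MulAction G ι] {R : Subgroup G}
  {eps : G → ι → ZMod 3} {i1 i2 i3 i4 : ι}

theorem n4_mem_K {x : G} : x ∈ n4K ι R ↔ x ∈ R ∧ ∀ l : ι, x • l = l := Iff.rfl

namespace N4

variable (D : N4 R eps i1 i2 i3 i4)
include D

theorem eps_one (i : ι) : eps 1 i = 1 := by
  have h := D.hmul 1 1 i
  rw [one_mul, one_smul] at h
  exact n4_z_idem _ (D.heps0 1 i) h

theorem eps_mul_triv (a a' : G) (i : ι) (h : a' • i = i) :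
    eps (a * a') i = eps a i * eps a' i := by
  rw [D.hmul, h]

theorem eps_inv (g : G) (i : ι) : eps g⁻¹ (g • i) * eps g i = 1 := by
  rw [← D.hmul, inv_mul_cancel, D.eps_one]

theorem eps_conj (g a : G) (i : ι) (h : a • i = i) :
    eps (g * a * g⁻¹) (g • i) = eps a i := by
  rw [D.hmul (g * a) g⁻¹, inv_smul_smul, D.hmul g a, h]
  have := D.eps_inv g i
  calc eps g i * eps a i * eps g⁻¹ (g • i) = eps a i * (eps g⁻¹ (g • i) * eps g i) := by ring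
    _ = eps a i := by rw [this, mul_one]

theorem K_sq {a : G} (ha : a ∈ n4K ι R) : a * a = 1 := by
  apply D.hfaith
  intro i
  refine ⟨by rw [mul_smul, ha.2, ha.2], ?_⟩
  rw [D.eps_mul_triv a a i (ha.2 i)]
  exact n4_z_sq _ (D.heps0 a i)

theorem K_inj {a a' : G} (ha : a ∈ n4K ι R) (ha' : a' ∈ n4K ι R)
    (h : ∀ i, eps a i = eps a' i) : a = a' := by
  have h1 : a * a' = 1 := by
    apply D.hfaith
    intro i
    refine ⟨by rw [mul_smul, ha'.2, ha.2], ?_⟩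
    rw [D.eps_mul_triv a a' i (ha'.2 i), h i]
    exact n4_z_sq _ (D.heps0 a' i)
  have h2 := D.K_sq ha'
  calc a = a * (a' * a') := by rw [h2, mul_one]
    _ = (a * a') * a' := by rw [mul_assoc]
    _ = a' := by rw [h1, one_mul]

/-- it suffices to compare three of the four signs -/
theorem K_inj3 {a a' : G} (ha : a ∈ n4K ι R) (ha' : a' ∈ n4K ι R)
    (h1 : eps a i1 = eps a' i1) (h2 : eps a i2 = eps a' i2) (h3 : eps a i3 = eps a' i3) :
    a = a' := by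
  apply D.K_inj ha ha'
  have h4 : eps a i4 = eps a' i4 := by
    have e1 := D.hdelta a
    have e2 := D.hdelta a'
    rw [← h1, ← h2, ← h3] at e2
    exact n4_z_fourth _ _ _ _ _ (D.heps0 a i1) (D.heps0 a i2) (D.heps0 a i3) e1 e2
  intro i
  rcases D.hall i with e | e | e | e <;> rw [e] <;> assumption

theorem K_conj {a : G} (ha : a ∈ n4K ι R) (g : G) : g * a * g⁻¹ ∈ n4K ι R := by
  refine ⟨D.normal.conj_mem a ha.1 g, fun l => ?_⟩
  rw [mul_smul, mul_smul, ha.2, smul_inv_smul]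

/-- a fixed-point-free involution on the four points -/
theorem invol {x : G} (hfp : ∀ l : ι, x • l ≠ l ∧ x • x • l = l) :
    (x • i1 = i2 ∧ x • i2 = i1 ∧ x • i3 = i4 ∧ x • i4 = i3) ∨
    (x • i1 = i3 ∧ x • i3 = i1 ∧ x • i2 = i4 ∧ x • i4 = i2) ∨
    (x • i1 = i4 ∧ x • i4 = i1 ∧ x • i2 = i3 ∧ x • i3 = i2) := by
  have hinj : ∀ l l' : ι, x • l = x • l' → l = l' := fun l l' h => MulAction.injective x h
  rcases D.hall (x • i1) with e | e | e | e
  · exact absurd e (hfp i1).1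
  · left
    have e2 : x • i2 = i1 := by rw [← e]; exact (hfp i1).2
    have e3 : x • i3 = i4 := by
      rcases D.hall (x • i3) with f | f | f | f
      · exact absurd (hinj _ _ (f.trans e2.symm)) (Ne.symm D.h23)
      · exact absurd (hinj _ _ (f.trans e.symm)) (Ne.symm D.h13)
      · exact absurd f (hfp i3).1
      · exact f
    exact ⟨e, e2, e3, by rw [← e3]; exact (hfp i3).2⟩
  · right; left
    have e3 : x • i3 = i1 := by rw [← e]; exact (hfp i1).2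
    have e2 : x • i2 = i4 := by
      rcases D.hall (x • i2) with f | f | f | f
      · exact absurd (hinj _ _ (f.trans e3.symm)) D.h23
      · exact absurd f (hfp i2).1
      · exact absurd (hinj _ _ (f.trans e.symm)) (Ne.symm D.h12)
      · exact f
    exact ⟨e, e3, e2, by rw [← e2]; exact (hfp i2).2⟩
  · right; right
    have e4 : x • i4 = i1 := by rw [← e]; exact (hfp i1).2
    have e2 : x • i2 = i3 := by
      rcases D.hall (x • i2) with f | f | f | f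
      · exact absurd (hinj _ _ (f.trans e4.symm)) D.h24
      · exact absurd f (hfp i2).1
      · exact f
      · exact absurd (hinj _ _ (f.trans e.symm)) (Ne.symm D.h12)
    exact ⟨e, e4, e2, by rw [← e2]; exact (hfp i2).2⟩

end N4

end Cfsg.Agent.Lib.Helper2.Cub
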