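import Mathlib
import Cfsg.Agent.Lib.Helper4.CubN4a

/-!
# S4415 swarm, package N4 (part b): the central involution, separators, all sign patterns
-/

set_option autoImplicit false
open Cfsg

namespace Cfsg.Agent.Lib.Helper2.Cub

open scoped commutatorElement

variable {G : Type*} [Group G] {ι : Type*} [MulAction G ι] {R : Subgroup G}
  {eps : G → ι → ZMod 3} {i1 i2 i3 i4 : ι}

namespace N4

variable (D : N4 R eps i1 i2 i3 i4)
include D

/-- an element of `R` moving `i4` to `i1` swaps `i1, i4` and `i2, i3` -/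
theorem swap14 {x : G} (hx : x ∈ R) (h41 : x • i4 = i1) :
    x • i1 = i4 ∧ x • i2 = i3 ∧ x • i3 = i2 := by
  rcases D.hklein x hx with h | h
  · exact absurd ((h i4).symm.trans h41) (Ne.symm D.h14)
  · rcases D.invol h with ⟨-, -, -, e⟩ | ⟨-, -, -, e⟩ | ⟨e1, -, e2, e3⟩
    · exact absurd (e.symm.trans h41) (Ne.symm D.h13)
    · exact absurd (e.symm.trans h41) (Ne.symm D.h12)
    · exact ⟨e1, e2, e3⟩

/-- the central involution -/
theorem exists_z {a : G} (haK : a ∈ n4K ι R) (hane : eps a i1 ≠ eps a i4) :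
    ∃ z ∈ n4K ι R, ∀ i, eps z i = 2 := by
  obtain ⟨x, hxR, hx41⟩ := D.htrans i1
  obtain ⟨hx14, hx23, hx32⟩ := D.swap14 hxR hx41
  have hcK := D.K_conj haK x
  have hc4 : eps (x * a * x⁻¹) i4 = eps a i1 := by
    have := D.eps_conj x a i1 (haK.2 i1); rwa [hx14] at this
  have hc1 : eps (x * a * x⁻¹) i1 = eps a i4 := by
    have := D.eps_conj x a i4 (haK.2 i4); rwa [hx41] at this
  have hc3 : eps (x * a * x⁻¹) i3 = eps a i2 := by
    have := D.eps_conj x a i2 (haK.2 i2); rwa [hx23] at this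
  have hc2 : eps (x * a * x⁻¹) i2 = eps a i3 := by
    have := D.eps_conj x a i3 (haK.2 i3); rwa [hx32] at this
  have h23 := n4_z_23 _ _ _ _ (D.heps0 a i1) (D.heps0 a i2) (D.heps0 a i3) (D.heps0 a i4)
    (D.hdelta a) hane
  have h14 := n4_z_ne _ _ (D.heps0 a i1) (D.heps0 a i4) hane
  refine ⟨a * (x * a * x⁻¹), (n4K ι R).mul_mem haK hcK, fun i => ?_⟩
  rw [D.eps_mul_triv a _ i (hcK.2 i)]
  rcases D.hall i with e | e | e | e <;> rw [e]
  · rw [hc1]; exact h14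
  · rw [hc2]; exact h23
  · rw [hc3, mul_comm]; exact h23
  · rw [hc4, mul_comm]; exact h14

/-- signs of a conjugate under the three-cycle `b` -/
theorem eps_conj_b {b : G} (hb1 : b • i1 = i2) (hb2 : b • i2 = i3) (hb3 : b • i3 = i1)
    (hb4 : b • i4 = i4) {a : G} (haK : a ∈ n4K ι R) :
    eps (b * a * b⁻¹) i1 = eps a i3 ∧ eps (b * a * b⁻¹) i2 = eps a i1 ∧
      eps (b * a * b⁻¹) i3 = eps a i2 ∧ eps (b * a * b⁻¹) i4 = eps a i4 := by
  refine ⟨?_, ?_, ?_, ?_⟩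
  · have := D.eps_conj b a i3 (haK.2 i3); rwa [hb3] at this
  · have := D.eps_conj b a i1 (haK.2 i1); rwa [hb1] at this
  · have := D.eps_conj b a i2 (haK.2 i2); rwa [hb2] at this
  · have := D.eps_conj b a i4 (haK.2 i4); rwa [hb4] at this

/-- separating elements -/
theorem exists_sep {b : G} (hb1 : b • i1 = i2) (hb2 : b • i2 = i3) (hb3 : b • i3 = i1)
    (hb4 : b • i4 = i4) {a : G} (haK : a ∈ n4K ι R) (hane : eps a i1 ≠ eps a i4) (j : ι)
    (hj : j ≠ i4) : ∃ s ∈ n4K ι R, eps s j ≠ eps s i4 := by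
  have ha'K := D.K_conj haK b
  have ha''K := D.K_conj ha'K b
  obtain ⟨p1, p2, p3, p4⟩ := D.eps_conj_b hb1 hb2 hb3 hb4 haK
  obtain ⟨q1, q2, q3, q4⟩ := D.eps_conj_b hb1 hb2 hb3 hb4 ha'K
  rcases D.hall j with e | e | e | e
  · exact ⟨a, haK, by rw [e]; exact hane⟩
  · exact ⟨b * a * b⁻¹, ha'K, by rw [e, p2, p4]; exact hane⟩
  · exact ⟨b * (b * a * b⁻¹) * b⁻¹, ha''K, by rw [e, q3, q4, p2, p4]; exact hane⟩
  · exact absurd e hj

theorem eps_cond (α : Bool) (a : G) (i : ι) : eps (cond α a 1) i = cond α (eps a i) 1 := by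
  cases α
  · exact D.eps_one i
  · rfl

theorem cond_mem_K (α : Bool) {a : G} (haK : a ∈ n4K ι R) : cond α a 1 ∈ n4K ι R := by
  cases α
  · exact (n4K ι R).one_mem
  · exact haK

/-- every sign pattern occurs -/
theorem exists_pattern {b : G} (hb1 : b • i1 = i2) (hb2 : b • i2 = i3) (hb3 : b • i3 = i1)
    (hb4 : b • i4 = i4) {a : G} (haK : a ∈ n4K ι R) (hane : eps a i1 ≠ eps a i4)
    (t1 t2 t3 : ZMod 3) (ht1 : t1 ≠ 0) (ht2 : t2 ≠ 0) (ht3 : t3 ≠ 0) :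
    ∃ k ∈ n4K ι R, eps k i1 = t1 ∧ eps k i2 = t2 ∧ eps k i3 = t3 := by
  have ha'K := D.K_conj haK b
  have ha''K := D.K_conj ha'K b
  obtain ⟨p1, p2, p3, p4⟩ := D.eps_conj_b hb1 hb2 hb3 hb4 haK
  obtain ⟨q1, q2, q3, q4⟩ := D.eps_conj_b hb1 hb2 hb3 hb4 ha'K
  obtain ⟨z, hzK, hz⟩ := D.exists_z haK hane
  have h23 := n4_z_23 _ _ _ _ (D.heps0 a i1) (D.heps0 a i2) (D.heps0 a i3) (D.heps0 a i4)
    (D.hdelta a) hane
  obtain ⟨α, β, γ, δ, g1, g2, g3⟩ := n4_z_gen _ _ _ (D.heps0 a i1) (D.heps0 a i2)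
    (D.heps0 a i3) h23 t1 t2 t3 ht1 ht2 ht3
  have hAK := D.cond_mem_K α haK
  have hBK := D.cond_mem_K β ha'K
  have hCK := D.cond_mem_K γ ha''K
  have hZK := D.cond_mem_K δ hzK
  have key : ∀ i, eps (cond α a 1 * cond β (b * a * b⁻¹) 1 * cond γ (b * (b * a * b⁻¹) * b⁻¹) 1 *
      cond δ z 1) i = cond α (eps a i) 1 * cond β (eps (b * a * b⁻¹) i) 1 *
        cond γ (eps (b * (b * a * b⁻¹) * b⁻¹) i) 1 * cond δ (eps z i) 1 := by
    intro i
    rw [D.eps_mul_triv _ _ i (hZK.2 i), D.eps_mul_triv _ _ i (hCK.2 i),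
      D.eps_mul_triv _ _ i (hBK.2 i), D.eps_cond, D.eps_cond, D.eps_cond, D.eps_cond]
  refine ⟨_, (n4K ι R).mul_mem ((n4K ι R).mul_mem ((n4K ι R).mul_mem hAK hBK) hCK) hZK, ?_, ?_, ?_⟩
  · rw [key, p1, q1, p3, hz]; exact g1
  · rw [key, p2, q2, p1, hz]; exact g2
  · rw [key, p3, q3, p2, hz]; exact g3

end N4

end Cfsg.Agent.Lib.Helper2.Cub
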