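import Mathlib
import Cfsg.Agent.Lib.Helper4.CubN4b

/-!
# S4415 swarm, package N4 (part c): orders, centre, squares
-/

set_option autoImplicit false
open Cfsg

namespace Cfsg.Agent.Lib.Helper2.Cub

open scoped commutatorElement

variable {G : Type*} [Group G] {ι : Type*} [MulAction G ι] {R : Subgroup G}
  {eps : G → ι → ZMod 3} {i1 i2 i3 i4 : ι}

namespace N4

variable (D : N4 R eps i1 i2 i3 i4)
include D

theorem card_K {b : G} (hb1 : b • i1 = i2) (hb2 : b • i2 = i3) (hb3 : b • i3 = i1)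
    (hb4 : b • i4 = i4) {a : G} (haK : a ∈ n4K ι R) (hane : eps a i1 ≠ eps a i4) :
    Nat.card ↥(n4K ι R) = 8 := by
  have h8 : Nat.card {v : ZMod 3 × ZMod 3 × ZMod 3 // v.1 ≠ 0 ∧ v.2.1 ≠ 0 ∧ v.2.2 ≠ 0} = 8 := by
    rw [Nat.card_eq_fintype_card]
    decide
  rw [← h8]
  apply Nat.card_eq_of_bijective
    (fun k : ↥(n4K ι R) => (⟨(eps k i1, eps k i2, eps k i3),
      D.heps0 _ _, D.heps0 _ _, D.heps0 _ _⟩ :
      {v : ZMod 3 × ZMod 3 × ZMod 3 // v.1 ≠ 0 ∧ v.2.1 ≠ 0 ∧ v.2.2 ≠ 0}))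
  constructor
  · intro k k' h
    have h' := congrArg Subtype.val h
    simp only [Prod.mk.injEq] at h'
    exact Subtype.ext (D.K_inj3 k.2 k'.2 h'.1 h'.2.1 h'.2.2)
  · rintro ⟨⟨t1, t2, t3⟩, ht1, ht2, ht3⟩
    obtain ⟨k, hkK, e1, e2, e3⟩ := D.exists_pattern hb1 hb2 hb3 hb4 haK hane t1 t2 t3 ht1 ht2 ht3
    refine ⟨⟨k, hkK⟩, ?_⟩
    apply Subtype.ext
    simp only [e1, e2, e3]

theorem card_iota : Nat.card ι = 4 := by
  have hbij : Function.Bijective (fun k : Fin 4 => (![i1, i2, i3, i4] k : ι)) := by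
    constructor
    · intro k k' h
      have h12 := D.h12; have h13 := D.h13; have h14 := D.h14
      have h23 := D.h23; have h24 := D.h24; have h34 := D.h34
      fin_cases k <;> fin_cases k' <;> simp at h <;>
        first
        | rfl
        | exact absurd h h12 | exact absurd h h13 | exact absurd h h14
        | exact absurd h h23 | exact absurd h h24 | exact absurd h h34
        | exact absurd h.symm h12 | exact absurd h.symm h13 | exact absurd h.symm h14
        | exact absurd h.symm h23 | exact absurd h.symm h24 | exact absurd h.symm h34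
    · intro l
      rcases D.hall l with e | e | e | e
      · exact ⟨0, by rw [e]; rfl⟩
      · exact ⟨1, by rw [e]; rfl⟩
      · exact ⟨2, by rw [e]; rfl⟩
      · exact ⟨3, by rw [e]; rfl⟩
  have := Nat.card_eq_of_bijective _ hbij
  rw [← this]
  simp

theorem card_R {b : G} (hb1 : b • i1 = i2) (hb2 : b • i2 = i3) (hb3 : b • i3 = i1)
    (hb4 : b • i4 = i4) {a : G} (haK : a ∈ n4K ι R) (hane : eps a i1 ≠ eps a i4) :
    Nat.card ↥R = 32 := by
  have htr : MulAction.IsPretransitive ↥R ι := by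
    constructor
    intro l l'
    obtain ⟨x, hx, hxl⟩ := D.htrans l
    obtain ⟨y, hy, hyl⟩ := D.htrans l'
    refine ⟨⟨y, hy⟩ * ⟨x, hx⟩⁻¹, ?_⟩
    show (y * x⁻¹) • l = l'
    rw [mul_smul, ← hxl, inv_smul_smul, hyl]
  have hidx := MulAction.index_stabilizer_of_transitive ↥R i4
  rw [D.card_iota] at hidx
  have hstab : MulAction.stabilizer ↥R i4 = (n4K ι R).subgroupOf R := by
    ext r
    rw [MulAction.mem_stabilizer_iff, Subgroup.mem_subgroupOf, n4_mem_K]
    constructor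
    · intro h
      have h' : (r : G) • i4 = i4 := h
      refine ⟨r.2, ?_⟩
      rcases D.hklein r r.2 with h1 | h1
      · exact h1
      · exact absurd h' (h1 i4).1
    · intro h
      exact h.2 i4
  have hKR : n4K ι R ≤ R := fun _ h => h.1
  have h1 := Subgroup.card_mul_index (MulAction.stabilizer ↥R i4)
  rw [hidx, hstab, Nat.card_congr (Subgroup.subgroupOfEquivOfLe hKR).toEquiv,
    D.card_K hb1 hb2 hb3 hb4 haK hane] at h1
  omega

theorem z_central {z : G} (hzK : z ∈ n4K ι R) (hz : ∀ i, eps z i = 2) (g : G) :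
    g * z * g⁻¹ = z := by
  apply D.K_inj (D.K_conj hzK g) hzK
  intro l
  have := D.eps_conj g z (g⁻¹ • l) (hzK.2 _)
  rw [smul_inv_smul] at this
  rw [this, hz, hz]

theorem eq_of_const {z : G} (hzK : z ∈ n4K ι R) (hz : ∀ i, eps z i = 2) {k : G}
    (hkK : k ∈ n4K ι R) (hk : ∀ l, eps k l = eps k i4) : k = 1 ∨ k = z := by
  rcases n4_z_12 _ (D.heps0 k i4) with e | e
  · left
    apply D.K_inj hkK (n4K ι R).one_mem
    intro l
    rw [hk l, e, D.eps_one]
  · right
    apply D.K_inj hkK hzK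
    intro l
    rw [hk l, e, hz]

theorem sq_mem {z : G} (hzK : z ∈ n4K ι R) (hz : ∀ i, eps z i = 2) {x : G} (hx : x ∈ R) :
    x * x = 1 ∨ x * x = z := by
  rcases D.hklein x hx with h | h
  · left; exact D.K_sq ⟨hx, h⟩
  · have hxxK : x * x ∈ n4K ι R :=
      ⟨R.mul_mem hx hx, fun l => by rw [mul_smul]; exact (h l).2⟩
    apply D.eq_of_const hzK hz hxxK
    have n1 := D.heps0 x i1; have n2 := D.heps0 x i2
    have n3 := D.heps0 x i3; have n4 := D.heps0 x i4
    have hd := D.hdelta x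
    intro l
    rw [D.hmul x x l, D.hmul x x i4]
    rcases D.invol h with ⟨e1, e2, e3, e4⟩ | ⟨e1, e3, e2, e4⟩ | ⟨e1, e4, e2, e3⟩
    · have p := n4_z_pair1 _ _ _ _ n1 n2 n3 n4 hd
      rcases D.hall l with e | e | e | e <;> rw [e]
      · rw [e1, e4, mul_comm (eps x i2), p]
      · rw [e2, e4, p]
      · rw [e3, e4, mul_comm]
    · have p := n4_z_pair2 _ _ _ _ n1 n2 n3 n4 hd
      rcases D.hall l with e | e | e | e <;> rw [e]
      · rw [e1, e4, mul_comm (eps x i3), p]
      · rw [e2, e4, mul_comm]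
      · rw [e3, e4, p]
    · have p := n4_z_pair3 _ _ _ _ n1 n2 n3 n4 hd
      rcases D.hall l with e | e | e | e <;> rw [e]
      · rw [e1, e4, mul_comm]
      · rw [e2, e4, mul_comm (eps x i3), ← p, mul_comm]
      · rw [e3, e4, ← p, mul_comm]

theorem center_sub {b : G} (hb1 : b • i1 = i2) (hb2 : b • i2 = i3) (hb3 : b • i3 = i1)
    (hb4 : b • i4 = i4) {a : G} (haK : a ∈ n4K ι R) (hane : eps a i1 ≠ eps a i4)
    {z : G} (hzK : z ∈ n4K ι R) (hz : ∀ i, eps z i = 2) {c : G} (hc : c ∈ R)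
    (hcomm : ∀ r ∈ R, r * c = c * r) : c = 1 ∨ c = z := by
  rcases D.hklein c hc with h | h
  · have hcK : c ∈ n4K ι R := ⟨hc, h⟩
    apply D.eq_of_const hzK hz hcK
    intro l
    obtain ⟨x, hx, hxl⟩ := D.htrans l
    have h1 : x * c * x⁻¹ = c := by rw [hcomm x hx, mul_assoc, mul_inv_cancel, mul_one]
    have h2 := D.eps_conj x c i4 (h i4)
    rw [h1, hxl] at h2
    exact h2
  · exfalso
    obtain ⟨s, hsK, hs⟩ := D.exists_sep hb1 hb2 hb3 hb4 haK hane (c • i4) (h i4).1
    have h1 : c * s * c⁻¹ = s := by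
      rw [← hcomm s hsK.1, mul_assoc, mul_inv_cancel, mul_one]
    have h2 := D.eps_conj c s i4 (hsK.2 i4)
    rw [h1] at h2
    exact hs h2

end N4

end Cfsg.Agent.Lib.Helper2.Cub
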