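import Mathlib
import Cfsg.Agent.Lib.Helper4.CubN4c

/-!
# S4415 swarm, package N4: the monomial group of degree 4 over `F_3`, abstract form
-/

set_option autoImplicit false
open Cfsg

namespace Cfsg.Agent.Lib.Helper2.Cub

open scoped commutatorElement

/-- a commutator in terms of squares, when `x * x` is central -/
theorem n4_comm_eq {G : Type*} [Group G] (x y : G) (hx : ∀ g : G, g * (x * x) = (x * x) * g) :
    x * y * x⁻¹ * y⁻¹ = (x * y) * (x * y) * ((y * y)⁻¹ * (x * x)⁻¹) := by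
  have h2 : y⁻¹ * (x * x)⁻¹ = (x * x)⁻¹ * y⁻¹ := by
    rw [← mul_inv_rev, ← mul_inv_rev, hx y]
  calc x * y * x⁻¹ * y⁻¹ = x * y * x * ((x * x)⁻¹ * y⁻¹) := by group
    _ = x * y * x * (y⁻¹ * (x * x)⁻¹) := by rw [h2]
    _ = (x * y) * (x * y) * ((y * y)⁻¹ * (x * x)⁻¹) := by group

/-- **Package N4** (monomial group of degree 4 over `F_3`, abstract form; paper Part III (N5)).
`eps g i` is the sign with `ρ g (f i) = eps g i • f (g • i)`; `hdelta` says the product of the four
signs of every element is 1; `hklein` is F2; `hfaith` is faithfulness of the monomial data. -/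
theorem n4_concl32 {G : Type*} [Group G] [Finite G] {ι : Type*} [MulAction G ι]
    (R : Subgroup G) [R.Normal] (b : G) (eps : G → ι → ZMod 3)
    (i1 i2 i3 i4 : ι)
    (hall : ∀ l : ι, l = i1 ∨ l = i2 ∨ l = i3 ∨ l = i4)
    (h12 : i1 ≠ i2) (h13 : i1 ≠ i3) (h14 : i1 ≠ i4) (h23 : i2 ≠ i3) (h24 : i2 ≠ i4) (h34 : i3 ≠ i4)
    (hb1 : b • i1 = i2) (hb2 : b • i2 = i3) (hb3 : b • i3 = i1) (hb4 : b • i4 = i4)
    (heps0 : ∀ (g : G) (i : ι), eps g i ≠ 0)
    (hmul : ∀ (g h : G) (i : ι), eps (g * h) i = eps g (h • i) * eps h i)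
    (hfaith : ∀ g : G, (∀ i : ι, g • i = i ∧ eps g i = 1) → g = 1)
    (hdelta : ∀ g : G, eps g i1 * eps g i2 * eps g i3 * eps g i4 = 1)
    (hklein : ∀ x ∈ R, (∀ l : ι, x • l = l) ∨ (∀ l : ι, x • l ≠ l ∧ x • x • l = l))
    (htrans : ∀ j : ι, ∃ x ∈ R, x • i4 = j)
    (hsep : ∃ a ∈ R, (∀ k : ι, a • k = k) ∧ eps a i1 ≠ eps a i4) :
    Concl32 R := by
  have D : N4 R eps i1 i2 i3 i4 :=
    ⟨inferInstance, hall, h12, h13, h14, h23, h24, h34, heps0, hmul, hfaith, hdelta, hklein, htrans⟩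
  obtain ⟨a, haR, hafix, hane⟩ := hsep
  have haK : a ∈ n4K ι R := ⟨haR, hafix⟩
  obtain ⟨z, hzK, hz⟩ := D.exists_z haK hane
  have hcardK := D.card_K hb1 hb2 hb3 hb4 haK hane
  have hcardR := D.card_R hb1 hb2 hb3 hb4 haK hane
  have hzc : ∀ g : G, g * z = z * g := by
    intro g
    have := D.z_central hzK hz g
    calc g * z = (g * z * g⁻¹) * g := by group
      _ = z * g := by rw [this]
  have hz1 : z ≠ 1 := by
    intro e
    have := hz i1
    rw [e, D.eps_one] at this
    exact absurd this (by decide)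
  have hzz : z * z = 1 := D.K_sq hzK
  have hC_mul : ∀ u v : G, (u = 1 ∨ u = z) → (v = 1 ∨ v = z) → (u * v = 1 ∨ u * v = z) := by
    rintro u v (rfl | rfl) (rfl | rfl)
    · left; rw [mul_one]
    · right; rw [one_mul]
    · right; rw [mul_one]
    · left; exact hzz
  have hC_inv : ∀ u : G, (u = 1 ∨ u = z) → (u⁻¹ = 1 ∨ u⁻¹ = z) := by
    rintro u (rfl | rfl)
    · left; exact inv_one
    · right; exact inv_eq_of_mul_eq_one_right hzz
  have hC_central : ∀ u : G, (u = 1 ∨ u = z) → ∀ g : G, g * u = u * g := by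
    rintro u (rfl | rfl) g
    · rw [mul_one, one_mul]
    · exact hzc g
  have hsq : ∀ x ∈ R, x * x = 1 ∨ x * x = z := fun x hx => D.sq_mem hzK hz hx
  have hcomm : ∀ x ∈ R, ∀ y ∈ R, x * y * x⁻¹ * y⁻¹ = 1 ∨ x * y * x⁻¹ * y⁻¹ = z := by
    intro x hx y hy
    rw [n4_comm_eq x y (hC_central _ (hsq x hx))]
    exact hC_mul _ _ (hsq _ (R.mul_mem hx hy))
      (hC_mul _ _ (hC_inv _ (hsq y hy)) (hC_inv _ (hsq x hx)))
  have hcenter : ∀ r : ↥R, r ∈ Subgroup.center ↥R ↔ ((r : G) = 1 ∨ (r : G) = z) := by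
    intro r
    rw [Subgroup.mem_center_iff]
    constructor
    · intro h
      apply D.center_sub hb1 hb2 hb3 hb4 haK hane hzK hz r.2
      intro s hs
      exact congrArg Subtype.val (h ⟨s, hs⟩)
    · intro h s
      apply Subtype.ext
      exact hC_central _ h s
  have hcardZ : Nat.card (Subgroup.center ↥R) = 2 := by
    rw [Nat.card_eq_two_iff]
    refine ⟨⟨1, (hcenter 1).mpr (Or.inl rfl)⟩, ⟨⟨z, hzK.1⟩, (hcenter _).mpr (Or.inr rfl)⟩, ?_, ?_⟩
    · intro e
      apply hz1
      have := congrArg (fun u : Subgroup.center ↥R => ((u : ↥R) : G)) e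
      exact this.symm
    · ext u
      simp only [Set.mem_insert_iff, Set.mem_singleton_iff, Set.mem_univ, iff_true]
      rcases (hcenter u.1).mp u.2 with h | h
      · left; exact Subtype.ext (Subtype.ext h)
      · right; exact Subtype.ext (Subtype.ext h)
  have hP : IsPGroup 2 ↥R := IsPGroup.of_card (n := 5) (by rw [hcardR]; norm_num)
  have hex : IsExtraspecial 2 ↥R := by
    apply Cfsg.Agent.Lib.Helper9.LargeExtra.isExtraspecial_of_type hP hcardZ
    · intro x y
      rw [hcenter]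
      have := hcomm x x.2 y y.2
      simpa [commutatorElement_def] using this
    · intro x
      rw [hcenter]
      have := hsq x x.2
      simpa [pow_two] using this
    · obtain ⟨x, hxR, hx41⟩ := D.htrans i1
      refine ⟨⟨x, hxR⟩, ⟨a, haR⟩, ?_⟩
      intro e
      have e' : x * a * x⁻¹ * a⁻¹ = 1 := by
        have := congrArg Subtype.val e
        simpa [commutatorElement_def] using this
      have h1 : x * a * x⁻¹ = a := by
        calc x * a * x⁻¹ = (x * a * x⁻¹ * a⁻¹) * a := by group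
          _ = a := by rw [e', one_mul]
      have h2 := D.eps_conj x a i4 (hafix i4)
      rw [h1, hx41] at h2
      exact hane h2
  refine ⟨hex, hcardR, n4K ι R, fun _ h => h.1, ⟨⟨⟨fun u v => ?_⟩⟩, fun k hk => ?_⟩, hcardK⟩
  · apply Subtype.ext
    have huu := D.K_sq u.2
    have hvv := D.K_sq v.2
    have huv := D.K_sq ((n4K ι R).mul_mem u.2 v.2)
    show (u : G) * v = v * u
    calc (u : G) * v = u * (((u : G) * v) * (u * v)) * v := by rw [huv, mul_one]
      _ = ((u : G) * u) * (v * u) * (v * v) := by group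
      _ = v * u := by rw [huu, hvv, one_mul, mul_one]
  · rw [pow_two]; exact D.K_sq hk

end Cfsg.Agent.Lib.Helper2.Cub
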