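import Mathlib
import Cfsg.Agent.Lib.Helper2.CubD0

/-!
# S4415, package PC7K: the counting in (C7)

An element of prime order `r ≥ 5` of `R` has order `5` and is fixed-point-free on `W`
(`|W| = 81`), given a normal 2-subgroup `O ∋ z` of order `≤ 32` with `C_R(O) = {1,z}`.
-/

set_option autoImplicit false
open Cfsg

namespace Cfsg.Agent.Lib.Helper2.Cub

/-- Fixed-point congruence for a self-map `f` with `f^[r] = id`, `r` prime. -/
theorem pc7k_fix_modEq {α : Type*} [Finite α] (f : α → α) (r : ℕ) (hr : r.Prime)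
    (hf : ∀ a, f^[r] a = a) : Nat.card α ≡ Nat.card {a // f a = a} [MOD r] := by
  classical
  haveI := Fintype.ofFinite α
  haveI : Fact r.Prime := ⟨hr⟩
  let e : Function.End α := f
  have hpow : ∀ n : ℕ, ((e ^ n : Function.End α) : α → α) = f^[n] := fun n =>
    hom_coe_pow (fun g : Function.End α => (g : α → α)) rfl (fun _ _ => rfl) e n
  have h1 : e ^ r ^ 1 = 1 := by
    rw [pow_one]
    funext a
    have := congrFun (hpow r) a
    rw [this]
    exact hf a
  have h2 := Equiv.Perm.card_fixedPoints_modEq (f := e) (p := r) (n := 1) h1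
  rw [Nat.card_eq_fintype_card, Nat.card_eq_fintype_card]
  exact h2

/-- The arithmetic on the `O` side. -/
theorem pc7k_arithO (r m k : ℕ) (hr : r.Prime) (hr5 : 5 ≤ r) (hk : 1 ≤ k) (hkm : k < m) (hm : m ≤ 5)
    (h : 2 ^ m ≡ 2 ^ k [MOD r]) : r = 5 ∨ r = 7 := by
  have hle : 2 ^ k ≤ 2 ^ m := Nat.pow_le_pow_right (by norm_num) hkm.le
  have hdvd : r ∣ 2 ^ m - 2 ^ k := (Nat.modEq_iff_dvd' hle).mp h.symm
  have hpos : 0 < 2 ^ m - 2 ^ k := Nat.sub_pos_of_lt (Nat.pow_lt_pow_right (by norm_num) hkm)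
  have hrle : r ≤ 2 ^ m - 2 ^ k := Nat.le_of_dvd hpos hdvd
  have hm32 : 2 ^ m ≤ 32 := by
    calc 2 ^ m ≤ 2 ^ 5 := Nat.pow_le_pow_right (by norm_num) hm
      _ = 32 := by norm_num
  have hk2 : 2 ≤ 2 ^ k := by
    calc 2 = 2 ^ 1 := by norm_num
      _ ≤ 2 ^ k := Nat.pow_le_pow_right (by norm_num) hk
  have hr30 : r ≤ 30 := by omega
  interval_cases m <;> interval_cases k <;> norm_num at hdvd <;>
    interval_cases r <;> first | omega | (exfalso; revert hr; norm_num)

/-- The arithmetic on the `W` side. -/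
theorem pc7k_arithW (r j : ℕ) (hr : r = 5 ∨ r = 7) (hj : j < 4)
    (h : 81 ≡ 3 ^ j [MOD r]) : r = 5 ∧ j = 0 := by
  rcases hr with rfl | rfl <;> interval_cases j <;> revert h <;> decide

variable {G : Type*} [Group G] {W : Type*} [AddCommGroup W] [Module (ZMod 3) W]
variable [Finite G] [Finite W] {ρ : Representation (ZMod 3) G W} {R Q : Subgroup G} {b : G}

theorem pc7k_rho_iter (ρ : Representation (ZMod 3) G W) (g : G) (n : ℕ) (w : W) :
    (fun v => ρ g v)^[n] w = ρ (g ^ n) w := by
  induction n generalizing w with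
  | zero => simp
  | succ n ih =>
    rw [Function.iterate_succ_apply', ih, pow_succ', rho_mul_apply]

theorem Setup.pc7k_order_five (h : Setup ρ R Q b) (hW : Nat.card W = 81) {z : G} (hz1 : z ≠ 1)
    (hzc : ∀ g : G, z * g = g * z) (O : Subgroup G) (hOn : O.Normal) (hzO : z ∈ O)
    (hO2 : IsPGroup 2 O) (hO32 : Nat.card O ≤ 32)
    (hcent : ∀ x ∈ R, (∀ o ∈ O, x * o = o * x) → x = 1 ∨ x = z)
    (r : ℕ) (hr : r.Prime) (hr5 : 5 ≤ r) (g : G) (hgR : g ∈ R) (hg : orderOf g = r) :
    r = 5 ∧ ∀ w : W, ρ g w = w → w = 0 := by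
  classical
  haveI : Fact (Nat.Prime 2) := ⟨Nat.prime_two⟩
  have hgr : g ^ r = 1 := by rw [← hg]; exact pow_orderOf_eq_one g
  -- `g` does not centralize `O`
  have hncent : ¬ ∀ o ∈ O, g * o = o * g := by
    intro hc
    rcases hcent g hgR hc with h1 | h1
    · rw [h1, orderOf_one] at hg; omega
    · -- `z` has 2-power order
      obtain ⟨k, hk⟩ := hO2 ⟨z, hzO⟩
      have hk' : z ^ 2 ^ k = 1 := by
        have := congrArg Subtype.val hk
        simpa using this
      have hdvd : r ∣ 2 ^ k := by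
        rw [← hg, h1]; exact orderOf_dvd_of_pow_eq_one hk'
      have h2 : r ∣ 2 := hr.dvd_of_dvd_pow hdvd
      have := Nat.le_of_dvd (by norm_num) h2
      omega
  -- the centralizer of `g` in `O`
  let C : Subgroup ↥O :=
    { carrier := {o | g * (o : G) * g⁻¹ = o}
      one_mem' := by simp
      mul_mem' := by
        intro x y hx hy
        simp only [Set.mem_setOf_eq, Subgroup.coe_mul] at *
        calc g * ((x : G) * y) * g⁻¹ = (g * x * g⁻¹) * (g * y * g⁻¹) := by group
          _ = x * y := by rw [hx, hy]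
      inv_mem' := by
        intro x hx
        simp only [Set.mem_setOf_eq, Subgroup.coe_inv] at *
        calc g * (x : G)⁻¹ * g⁻¹ = (g * x * g⁻¹)⁻¹ := by group
          _ = (x : G)⁻¹ := by rw [hx] }
  have hCmem : ∀ o : ↥O, o ∈ C ↔ g * (o : G) * g⁻¹ = o := fun o => Iff.rfl
  obtain ⟨m, hm⟩ := (IsPGroup.iff_card (p := 2) (G := ↥O)).mp hO2
  obtain ⟨k, hk⟩ := (IsPGroup.iff_card (p := 2) (G := ↥C)).mp (hO2.to_subgroup C)
  have hCtop : C ≠ ⊤ := by
    intro htop
    apply hncent
    intro o ho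
    have : (⟨o, ho⟩ : ↥O) ∈ C := by rw [htop]; trivial
    have h1 : g * o * g⁻¹ = o := (hCmem _).mp this
    calc g * o = g * o * g⁻¹ * g := by group
      _ = o * g := by rw [h1]
  have hCbot : C ≠ ⊥ := by
    intro hbot
    have : (⟨z, hzO⟩ : ↥O) ∈ C := by
      rw [hCmem]
      show g * z * g⁻¹ = z
      rw [← hzc g, mul_assoc, mul_inv_cancel, mul_one]
    rw [hbot, Subgroup.mem_bot] at this
    exact hz1 (congrArg Subtype.val this)
  have hClt : Nat.card ↥C < Nat.card ↥O := by
    refine lt_of_le_of_ne (Subgroup.card_le_card_group C) ?_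
    intro heq
    exact hCtop ((Subgroup.card_eq_iff_eq_top C).mp heq)
  have hC1 : 1 < Nat.card ↥C := (Subgroup.one_lt_card_iff_ne_bot C).mpr hCbot
  have hkm : k < m := by
    rw [hk, hm] at hClt
    exact (Nat.pow_lt_pow_iff_right (by norm_num)).mp hClt
  have hk1 : 1 ≤ k := by
    rw [hk] at hC1
    rcases Nat.eq_zero_or_pos k with h0 | h0
    · rw [h0] at hC1; norm_num at hC1
    · exact h0
  have hm5 : m ≤ 5 := by
    rw [hm] at hO32
    have : 2 ^ m ≤ 2 ^ 5 := by norm_num; exact hO32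
    exact (Nat.pow_le_pow_iff_right (by norm_num)).mp this
  -- counting on `O`
  let f : ↥O → ↥O := fun o => ⟨g * (o : G) * g⁻¹, hOn.conj_mem o o.2 g⟩
  have hfiter : ∀ (n : ℕ) (o : ↥O), ((f^[n] o : ↥O) : G) = g ^ n * (o : G) * (g ^ n)⁻¹ := by
    intro n
    induction n with
    | zero => intro o; simp
    | succ n ih =>
      intro o
      rw [Function.iterate_succ_apply', pow_succ']
      show g * ((f^[n] o : ↥O) : G) * g⁻¹ = _
      rw [ih]; group
  have hfO := pc7k_fix_modEq f r hr (fun o => by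
    apply Subtype.ext
    rw [hfiter, hgr]; simp)
  have hfixC : Nat.card {a // f a = a} = Nat.card ↥C := by
    apply Nat.card_congr
    apply Equiv.subtypeEquivRight
    intro o
    rw [hCmem]
    constructor
    · intro h1; exact congrArg Subtype.val h1
    · intro h1; exact Subtype.ext h1
  rw [hfixC, hm, hk] at hfO
  have hr57 := pc7k_arithO r m k hr hr5 hk1 hkm hm5 hfO
  -- counting on `W`
  let F : Submodule (ZMod 3) W := LinearMap.ker (ρ g - 1)
  have hFmem : ∀ w : W, w ∈ F ↔ ρ g w = w := by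
    intro w
    simp only [F, LinearMap.mem_ker, LinearMap.sub_apply, Module.End.one_apply, sub_eq_zero]
  have hfW := pc7k_fix_modEq (fun v : W => ρ g v) r hr (fun w => by
    rw [pc7k_rho_iter, hgr, rho_one_apply])
  have hfixF : Nat.card {a : W // (fun v : W => ρ g v) a = a} = Nat.card ↥F := by
    apply Nat.card_congr
    apply Equiv.subtypeEquivRight
    intro w
    exact (hFmem w).symm
  have hFdvd : Nat.card ↥F ∣ 3 ^ 4 := by
    have := AddSubgroup.card_addSubgroup_dvd_card F.toAddSubgroup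
    rw [hW] at this
    exact this
  obtain ⟨j, hj4, hj⟩ := (Nat.dvd_prime_pow Nat.prime_three).mp hFdvd
  have hFtop : F ≠ ⊤ := by
    intro htop
    have h1 : ρ g = ρ 1 := by
      apply LinearMap.ext
      intro w
      rw [rho_one_apply]
      exact (hFmem w).mp (by rw [htop]; trivial)
    have := h.faithful h1
    rw [this, orderOf_one] at hg; omega
  have hjlt : j < 4 := by
    rcases Nat.lt_or_ge j 4 with h4 | h4
    · exact h4
    · exfalso
      have hj4' : j = 4 := le_antisymm hj4 h4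
      apply hFtop
      have hcard : Nat.card ↥F.toAddSubgroup = Nat.card W := by
        show Nat.card ↥F = Nat.card W
        rw [hj, hj4', hW]; norm_num
      have := (AddSubgroup.card_eq_iff_eq_top F.toAddSubgroup).mp hcard
      rw [eq_top_iff]
      intro w _
      have hw : w ∈ F.toAddSubgroup := by rw [this]; trivial
      exact hw
  rw [hfixF, hW, hj] at hfW
  obtain ⟨hr5', hj0⟩ := pc7k_arithW r j hr57 hjlt hfW
  refine ⟨hr5', ?_⟩
  intro w hw
  have hwF : w ∈ F := (hFmem w).mpr hw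
  have hF1 : Nat.card ↥F = 1 := by rw [hj, hj0, pow_zero]
  have hsub : Subsingleton ↥F := (Nat.card_eq_one_iff_unique.mp hF1).1
  have := Subsingleton.elim (⟨w, hwF⟩ : ↥F) 0
  exact congrArg Subtype.val this

end Cfsg.Agent.Lib.Helper2.Cub
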