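import Mathlib

set_option autoImplicit false

namespace Cfsg.Agent.Lib.Helper4

/-- A finite cyclic group has at most one involution. -/
theorem cyclic_involution_unique {C : Type*} [Group C] [Finite C] [IsCyclic C] {a b : C}
    (ha : orderOf a = 2) (hb : orderOf b = 2) : a = b := by
  classical
  haveI : Fintype C := Fintype.ofFinite C
  by_contra hne
  have hS := IsCyclic.card_pow_eq_one_le (α := C) (n := 2) (by norm_num)
  have ha1 : a ≠ 1 := fun h => by rw [h, orderOf_one] at ha; norm_num at ha
  have hb1 : b ≠ 1 := fun h => by rw [h, orderOf_one] at hb; norm_num at hb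
  have ha2 : a ^ 2 = 1 := by rw [← ha]; exact pow_orderOf_eq_one a
  have hb2 : b ^ 2 = 1 := by rw [← hb]; exact pow_orderOf_eq_one b
  have hsub : ({1, a, b} : Finset C) ⊆ Finset.univ.filter (fun x : C => x ^ 2 = 1) := by
    intro x hx
    simp only [Finset.mem_insert, Finset.mem_singleton] at hx
    simp only [Finset.mem_filter, Finset.mem_univ, true_and]
    rcases hx with rfl | rfl | rfl
    · simp
    · exact ha2
    · exact hb2
  have hcard : ({1, a, b} : Finset C).card = 3 := by
    rw [Finset.card_insert_of_notMem, Finset.card_pair hne]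
    simp only [Finset.mem_insert, Finset.mem_singleton, not_or]
    exact ⟨fun h => ha1 h.symm, fun h => hb1 h.symm⟩
  have := Finset.card_le_card hsub
  omega

/-- In a cyclic `2`-subgroup `T` containing the involution `t`, every nontrivial element has `t`
among its powers. -/
theorem involution_mem_zpowers {G : Type*} [Group G] [Finite G] {T : Subgroup G} (hc : IsCyclic T)
    (h2 : IsPGroup 2 T) {t : G} (ht : t ∈ T) (hto : orderOf t = 2) {x : G} (hx : x ∈ T)
    (hx1 : x ≠ 1) : t ∈ Subgroup.zpowers x := by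
  haveI := hc
  obtain ⟨k, hk⟩ := h2 ⟨x, hx⟩
  have hk' : x ^ (2 ^ k) = 1 := by
    have := congrArg Subtype.val hk
    simpa using this
  obtain ⟨j, hj, hord⟩ := (Nat.dvd_prime_pow Nat.prime_two).mp (orderOf_dvd_of_pow_eq_one hk')
  have hj0 : j ≠ 0 := by
    intro h
    rw [h, pow_zero, orderOf_eq_one_iff] at hord
    exact hx1 hord
  obtain ⟨i, rfl⟩ := Nat.exists_eq_succ_of_ne_zero hj0
  have hy : orderOf (x ^ (2 ^ i)) = 2 := by
    rw [orderOf_pow' x (by positivity), hord, Nat.gcd_eq_right (pow_dvd_pow 2 (Nat.le_succ i)),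
      pow_succ, Nat.mul_div_cancel_left _ (by positivity)]
  have hyT : x ^ (2 ^ i) ∈ T := T.pow_mem hx _
  have e : (⟨t, ht⟩ : T) = ⟨x ^ (2 ^ i), hyT⟩ := by
    apply cyclic_involution_unique
    · rw [Subgroup.orderOf_mk]; exact hto
    · rw [Subgroup.orderOf_mk]; exact hy
  have : t = x ^ (2 ^ i) := congrArg Subtype.val e
  rw [this]
  exact Subgroup.pow_mem _ (Subgroup.mem_zpowers x) _

end Cfsg.Agent.Lib.Helper4
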