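import Mathlib
import Cfsg.Agent.Lib.Helper5.FlvDefs
import Cfsg.Agent.Lib.Lead.CoprimeAction2

/-!
# S3816, packages R2 (quotient step) and R0, H_ne_bot

`R2`: in a minimal counterexample, for every nontrivial `N ≤ H` normalised by `H` and `P`:
`C_H(P) ≤ K(H) · C_N(P)`.  The quotient group is `N_G(N) / N`.
-/

set_option autoImplicit false
set_option linter.style.haveILetI false
set_option linter.unusedSectionVars false

namespace Cfsg.Agent.Lib.Helper4.FlvR2

open scoped Pointwise commutatorElement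
open Cfsg.Agent.Lib.Helper5.FlvDefs Cfsg.Agent.Lib.Lead

universe u

section basic
variable {G : Type u} [Group G] {P H : Subgroup G}

theorem cmE_le' (hn : P ≤ Subgroup.normalizer (H : Set G)) {g : G} (hg : g ∈ H) :
    cmE P g ≤ H := by
  unfold cmE
  rw [Subgroup.closure_le]
  rintro c ⟨a, ha, rfl⟩
  have h1 : a⁻¹ * g * a⁻¹⁻¹ ∈ H :=
    (Subgroup.mem_normalizer_iff.mp (hn (P.inv_mem ha)) g).mp hg
  rw [inv_inv] at h1
  exact H.mul_mem (H.inv_mem hg) h1

theorem KK_le_centralizer : KK P H ≤ Subgroup.centralizer (P : Set G) := by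
  unfold KK
  exact iSup₂_le fun g _ => inf_le_right

theorem KK_mono' {H₁ : Subgroup G} (h : H₁ ≤ H) : KK P H₁ ≤ KK P H := by
  unfold KK
  exact iSup₂_le fun g hg => le_iSup₂_of_le g (h hg) le_rfl

theorem cmE_inf_le_KK' {g : G} (hg : g ∈ H) :
    cmE P g ⊓ Subgroup.centralizer (P : Set G) ≤ KK P H := by
  unfold KK
  exact le_iSup₂_of_le g hg le_rfl

/-- if every element of `P` conjugates `B` into `B` then `P` normalises `B` -/
theorem le_normalizer_of_conj_mem {B : Subgroup G}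
    (h : ∀ b ∈ P, ∀ x ∈ B, b * x * b⁻¹ ∈ B) : P ≤ Subgroup.normalizer (B : Set G) := by
  intro b hb
  rw [Subgroup.mem_normalizer_iff]
  intro x
  refine ⟨h b hb x, fun hx => ?_⟩
  have := h b⁻¹ (P.inv_mem hb) _ hx
  simpa [mul_assoc] using this

/-- `[g,P]` is `P`-invariant -/
theorem cmE_norm' (g : G) : P ≤ Subgroup.normalizer (cmE P g : Set G) := by
  apply le_normalizer_of_conj_mem
  intro b hb x hx
  have hle : cmE P g ≤ (cmE P g).comap (MulAut.conj b).toMonoidHom := by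
    unfold cmE
    rw [Subgroup.closure_le]
    rintro c ⟨a, ha, rfl⟩
    show (MulAut.conj b) (g⁻¹ * (a⁻¹ * g * a)) ∈ Subgroup.closure _
    have e : (MulAut.conj b) (g⁻¹ * (a⁻¹ * g * a)) =
        (g⁻¹ * ((b⁻¹)⁻¹ * g * b⁻¹))⁻¹ * (g⁻¹ * ((a * b⁻¹)⁻¹ * g * (a * b⁻¹))) := by
      rw [MulAut.conj_apply]; group
    rw [e]
    exact Subgroup.mul_mem _
      (Subgroup.inv_mem _ (Subgroup.subset_closure ⟨b⁻¹, P.inv_mem hb, rfl⟩))
      (Subgroup.subset_closure ⟨a * b⁻¹, P.mul_mem ha (P.inv_mem hb), rfl⟩)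
  have := hle hx
  rw [Subgroup.mem_comap] at this
  simpa [MulAut.conj_apply] using this

theorem solvable_of_card_prime {p : ℕ} (hp : p.Prime) (hP : Nat.card P = p) :
    Group.IsSolvable P := by
  haveI : Fact p.Prime := ⟨hp⟩
  haveI : IsCyclic P := isCyclic_of_prime_card hP
  letI : CommGroup P := IsCyclic.commGroup
  exact Group.isSolvable_of_comm (fun a b => mul_comm a b)

theorem ctx_coprime {p : ℕ} (hc : Ctx p P H) {B : Subgroup G} (hB : B ≤ H) :
    (Nat.card P).Coprime (Nat.card B) := by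
  rw [hc.cardP]
  exact (Nat.Coprime.coprime_dvd_left (Subgroup.card_dvd_of_le hB) hc.cop).symm

theorem ctx_inf_eq_bot [Finite G] {p : ℕ} (hc : Ctx p P H) {B : Subgroup G} (hB : B ≤ H) :
    P ⊓ B = ⊥ :=
  (Subgroup.disjoint_of_coprime_natCard (ctx_coprime hc hB)).eq_bot

end basic

section R0
variable {G : Type u} [Group G] [Finite G] {p : ℕ} {P H : Subgroup G}

theorem H_ne_bot (h : MinCE p P H) : H ≠ ⊥ := by
  intro hH
  apply h.bad
  unfold Goal
  rw [hH]
  have : ⁅(⊥ : Subgroup G), P⁆ = ⊥ := Subgroup.commutator_bot_left P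
  rw [this]
  exact le_trans inf_le_left bot_le

theorem R0 (h : MinCE p P H) : ⁅H, P⁆ = H := by
  by_contra hne
  have hc := h.ctx
  have hle : ⁅H, P⁆ ≤ H := commutator_le_left_of_le_normalizer H P hc.norm
  have hPs : Group.IsSolvable P := solvable_of_card_prime hc.hp hc.cardP
  have hnorm1 : P ≤ Subgroup.normalizer ((⁅H, P⁆ : Subgroup G) : Set G) :=
    le_normalizer_commutator_right H P hc.norm
  have hc1 : Ctx p P ⁅H, P⁆ := by
    refine ⟨hc.hp, hc.hp2, hc.cardP, hnorm1, ?_, ?_⟩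
    · haveI := hc.solv
      exact isSolvable_of_le hle
    · exact Nat.Coprime.coprime_dvd_left (Subgroup.card_dvd_of_le hle) hc.cop
  have hlt : Nat.card (⁅H, P⁆ : Subgroup G) < Nat.card H := by
    rcases lt_or_eq_of_le (Subgroup.card_le_of_le hle) with h1 | h1
    · exact h1
    · exact absurd (Subgroup.eq_of_le_of_card_ge hle (le_of_eq h1.symm)) hne
  have hg := h.ih G P ⁅H, P⁆ hc1 hlt
  apply h.bad
  unfold Goal at hg ⊢
  rw [coprime_commutator_stable P H hc.norm (ctx_coprime hc le_rfl) (Or.inl hPs)] at hg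
  exact hg.trans (KK_mono' hle)

end R0


section quot
variable {G : Type u} [Group G]

/-- the projection `N_G(N) → N_G(N)/N` -/
noncomputable abbrev pr (N : Subgroup G) :
    ↥(Subgroup.normalizer (N : Set G)) →*
      ↥(Subgroup.normalizer (N : Set G)) ⧸ N.subgroupOf (Subgroup.normalizer (N : Set G)) :=
  QuotientGroup.mk' (N.subgroupOf (Subgroup.normalizer (N : Set G)))

/-- the image of `X` in `N_G(N)/N` -/
noncomputable def img (N X : Subgroup G) :
    Subgroup (↥(Subgroup.normalizer (N : Set G)) ⧸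
      N.subgroupOf (Subgroup.normalizer (N : Set G))) :=
  (X.subgroupOf (Subgroup.normalizer (N : Set G))).map (pr N)

theorem pr_eq_iff (N : Subgroup G) (x y : ↥(Subgroup.normalizer (N : Set G))) :
    pr N x = pr N y ↔ (x : G)⁻¹ * (y : G) ∈ N := by
  show (QuotientGroup.mk x : _ ⧸ N.subgroupOf (Subgroup.normalizer (N : Set G))) =
    QuotientGroup.mk y ↔ _
  rw [QuotientGroup.eq, Subgroup.mem_subgroupOf]
  simp

theorem pr_eq_one_iff (N : Subgroup G) (x : ↥(Subgroup.normalizer (N : Set G))) :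
    pr N x = 1 ↔ (x : G) ∈ N := by
  show (QuotientGroup.mk x : _ ⧸ N.subgroupOf (Subgroup.normalizer (N : Set G))) = 1 ↔ _
  rw [QuotientGroup.eq_one_iff, Subgroup.mem_subgroupOf]

theorem mem_img_iff (N X : Subgroup G) (w : ↥(Subgroup.normalizer (N : Set G)) ⧸
      N.subgroupOf (Subgroup.normalizer (N : Set G))) :
    w ∈ img N X ↔ ∃ y : ↥(Subgroup.normalizer (N : Set G)), (y : G) ∈ X ∧ pr N y = w := by
  unfold img
  rw [Subgroup.mem_map]
  constructor
  · rintro ⟨y, hy, rfl⟩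
    exact ⟨y, Subgroup.mem_subgroupOf.mp hy, rfl⟩
  · rintro ⟨y, hy, rfl⟩
    exact ⟨y, Subgroup.mem_subgroupOf.mpr hy, rfl⟩

theorem pr_mem_img {N X : Subgroup G} (y : ↥(Subgroup.normalizer (N : Set G)))
    (hy : (y : G) ∈ X) : pr N y ∈ img N X :=
  (mem_img_iff N X _).mpr ⟨y, hy, rfl⟩

theorem img_mono {N X Y : Subgroup G} (h : X ≤ Y) : img N X ≤ img N Y := by
  intro w hw
  obtain ⟨y, hy, rfl⟩ := (mem_img_iff N X w).mp hw
  exact pr_mem_img y (h hy)

end quot


section quotCtx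
variable {G : Type u} [Group G] [Finite G] {p : ℕ} {P H N : Subgroup G}

theorem card_img_of_inf_bot {X : Subgroup G} (hXL : X ≤ Subgroup.normalizer (N : Set G))
    (hXN : X ⊓ N = ⊥) : Nat.card (img N X) = Nat.card X := by
  symm
  apply Nat.card_congr
  refine Equiv.ofBijective
    (fun a : X => (⟨pr N ⟨a.1, hXL a.2⟩, pr_mem_img _ a.2⟩ : img N X)) ⟨?_, ?_⟩
  · intro a b hab
    have h1 : pr N ⟨a.1, hXL a.2⟩ = pr N ⟨b.1, hXL b.2⟩ := congrArg Subtype.val hab
    rw [pr_eq_iff] at h1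
    have h2 : (a.1)⁻¹ * b.1 ∈ X ⊓ N := ⟨X.mul_mem (X.inv_mem a.2) b.2, h1⟩
    rw [hXN, Subgroup.mem_bot] at h2
    exact Subtype.ext (inv_mul_eq_one.mp h2)
  · rintro ⟨w, hw⟩
    obtain ⟨y, hy, rfl⟩ := (mem_img_iff N X w).mp hw
    exact ⟨⟨y.1, hy⟩, rfl⟩

theorem card_img_lt {X : Subgroup G} (hXL : X ≤ Subgroup.normalizer (N : Set G)) (hNX : N ≤ X)
    (hN : N ≠ ⊥) : Nat.card (img N X) < Nat.card X := by
  classical
  have h2 : Nat.card (X.subgroupOf (Subgroup.normalizer (N : Set G))) = Nat.card X :=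
    Nat.card_congr (Subgroup.subgroupOfEquivOfLe hXL).toEquiv
  rw [← h2]
  unfold img
  haveI := Fintype.ofFinite (X.subgroupOf (Subgroup.normalizer (N : Set G)))
  haveI := Fintype.ofFinite ((X.subgroupOf (Subgroup.normalizer (N : Set G))).map (pr N))
  rw [Nat.card_eq_fintype_card, Nat.card_eq_fintype_card]
  apply Fintype.card_lt_of_surjective_not_injective
    ((pr N).subgroupMap (X.subgroupOf (Subgroup.normalizer (N : Set G))))
    ((pr N).subgroupMap_surjective _)
  intro hinj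
  obtain ⟨n, hn1⟩ := (Subgroup.ne_bot_iff_exists_ne_one).mp hN
  apply hn1
  have hnL : (n : G) ∈ Subgroup.normalizer (N : Set G) := Subgroup.le_normalizer n.2
  have h1 : (pr N).subgroupMap (X.subgroupOf (Subgroup.normalizer (N : Set G)))
      ⟨⟨n.1, hnL⟩, Subgroup.mem_subgroupOf.mpr (hNX n.2)⟩ =
      (pr N).subgroupMap (X.subgroupOf (Subgroup.normalizer (N : Set G))) 1 := by
    apply Subtype.ext
    rw [map_one]
    simp only [MonoidHom.subgroupMap_apply_coe]
    rw [Subgroup.coe_one]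
    exact (pr_eq_one_iff N _).mpr n.2
  have h3 := hinj h1
  have h4 : (n : G) = 1 := by
    have := congrArg (fun z : ↥(X.subgroupOf (Subgroup.normalizer (N : Set G))) => ((z : ↥(Subgroup.normalizer (N : Set G))) : G)) h3
    simpa using this
  exact Subtype.ext h4

theorem ctx_img (hc : Ctx p P H) (hHL : H ≤ Subgroup.normalizer (N : Set G))
    (hPL : P ≤ Subgroup.normalizer (N : Set G)) (hNH : N ≤ H) : Ctx p (img N P) (img N H) := by
  refine ⟨hc.hp, hc.hp2, ?_, ?_, ?_, ?_⟩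
  · rw [card_img_of_inf_bot hPL (ctx_inf_eq_bot hc hNH)]
    exact hc.cardP
  · unfold img
    refine le_trans ?_ (Subgroup.le_normalizer_map (pr N))
    apply Subgroup.map_mono
    intro a ha
    rw [Subgroup.mem_normalizer_iff]
    intro x
    rw [Subgroup.mem_subgroupOf, Subgroup.mem_subgroupOf]
    have := Subgroup.mem_normalizer_iff.mp (hc.norm (Subgroup.mem_subgroupOf.mp ha)) x.1
    simpa using this
  · haveI := hc.solv
    haveI : Group.IsSolvable (H.subgroupOf (Subgroup.normalizer (N : Set G))) :=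
      Group.isSolvable_of_isSolvable_injective
        (f := (Subgroup.subgroupOfEquivOfLe hHL).toMonoidHom) (MulEquiv.injective _)
    unfold img
    exact Group.isSolvable_of_surjective ((pr N).subgroupMap_surjective _)
  · have h1 : Nat.card (img N H) ∣ Nat.card (H.subgroupOf (Subgroup.normalizer (N : Set G))) :=
      Subgroup.card_map_dvd _ (pr N)
    have h2 : Nat.card (H.subgroupOf (Subgroup.normalizer (N : Set G))) = Nat.card H :=
      Nat.card_congr (Subgroup.subgroupOfEquivOfLe hHL).toEquiv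
    rw [h2] at h1
    exact Nat.Coprime.coprime_dvd_left h1 hc.cop

theorem commutator_le_img (hHL : H ≤ Subgroup.normalizer (N : Set G))
    (hPL : P ≤ Subgroup.normalizer (N : Set G)) :
    ⁅H, P⁆ ≤ ((⁅img N H, img N P⁆ : Subgroup _).comap (pr N)).map
      (Subgroup.normalizer (N : Set G)).subtype := by
  rw [Subgroup.commutator_le]
  intro h hh a ha
  refine Subgroup.mem_map.mpr ⟨⁅(⟨h, hHL hh⟩ : ↥(Subgroup.normalizer (N : Set G))),
    (⟨a, hPL ha⟩ : ↥(Subgroup.normalizer (N : Set G)))⁆, ?_, rfl⟩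
  rw [Subgroup.mem_comap, map_commutatorElement]
  exact Subgroup.commutator_mem_commutator (pr_mem_img _ hh) (pr_mem_img _ ha)

end quotCtx


section main
variable {G : Type u} [Group G] [Finite G] {p : ℕ} {P H N : Subgroup G}

theorem le_normalizer_inf' {X A B : Subgroup G} (hA : X ≤ Subgroup.normalizer (A : Set G))
    (hB : X ≤ Subgroup.normalizer (B : Set G)) :
    X ≤ Subgroup.normalizer ((A ⊓ B : Subgroup G) : Set G) := by
  intro x hx
  rw [Subgroup.mem_normalizer_iff]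
  intro g
  rw [Subgroup.mem_inf, Subgroup.mem_inf, ← Subgroup.mem_normalizer_iff.mp (hA hx) g,
    ← Subgroup.mem_normalizer_iff.mp (hB hx) g]

/-- `[gb, P̄]` lies in the image of `[g,P]` -/
theorem cmE_img_le (h : ↥(Subgroup.normalizer (N : Set G))) :
    cmE (img N P) (pr N h) ≤ img N (cmE P (h : G)) := by
  show Subgroup.closure {c | ∃ a ∈ img N P, c = (pr N h)⁻¹ * (a⁻¹ * pr N h * a)} ≤ _
  rw [Subgroup.closure_le]
  rintro c ⟨ab, hab, rfl⟩
  obtain ⟨a, ha, rfl⟩ := (mem_img_iff N P ab).mp hab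
  have e : (pr N h)⁻¹ * ((pr N a)⁻¹ * pr N h * pr N a) = pr N (h⁻¹ * (a⁻¹ * h * a)) := by
    simp
  rw [e]
  apply pr_mem_img
  show ((h⁻¹ * (a⁻¹ * h * a) : ↥(Subgroup.normalizer (N : Set G))) : G) ∈
    Subgroup.closure {c : G | ∃ a ∈ P, c = (h : G)⁻¹ * (a⁻¹ * (h : G) * a)}
  exact Subgroup.subset_closure ⟨a.1, ha, by simp⟩

theorem KK_img_le (hc : Ctx p P H) (hHL : H ≤ Subgroup.normalizer (N : Set G))
    (hPL : P ≤ Subgroup.normalizer (N : Set G)) :
    KK (img N P) (img N H) ≤ img N (KK P H) := by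
  show (⨆ g ∈ img N H, cmE (img N P) g ⊓ Subgroup.centralizer ((img N P : Subgroup _) : Set _)) ≤ _
  apply iSup₂_le
  intro gb hgb
  obtain ⟨h, hh, rfl⟩ := (mem_img_iff N H gb).mp hgb
  intro w hw
  obtain ⟨hw1, hw2⟩ := Subgroup.mem_inf.mp hw
  obtain ⟨y, hy, rfl⟩ := (mem_img_iff N _ w).mp (cmE_img_le h hw1)
  have hBH : cmE P (h : G) ≤ H := cmE_le' hc.norm hh
  have hPB : P ≤ Subgroup.normalizer (cmE P (h : G) : Set G) := cmE_norm' _
  have hfix : ∀ a ∈ P, a * (y : G) * a⁻¹ * (y : G)⁻¹ ∈ cmE P (h : G) ⊓ N := by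
    intro a ha
    refine ⟨?_, ?_⟩
    · exact Subgroup.mul_mem _ ((Subgroup.mem_normalizer_iff.mp (hPB ha) _).mp hy)
        (Subgroup.inv_mem _ hy)
    · have h1 := (Subgroup.mem_centralizer_iff.mp hw2) (pr N ⟨a, hPL ha⟩) (pr_mem_img _ ha)
      have h2 : pr N (⟨a, hPL ha⟩ * y * ⟨a, hPL ha⟩⁻¹ * y⁻¹) = 1 := by
        rw [map_mul, map_mul, map_mul, h1]
        simp
      exact (pr_eq_one_iff N _).mp h2
  have hPs : Group.IsSolvable P := solvable_of_card_prime hc.hp hc.cardP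
  obtain ⟨c, hcB, hyc⟩ := coprime_fixed_coset P (cmE P (h : G)) hPB (ctx_coprime hc hBH)
    (Or.inl hPs) (cmE P (h : G) ⊓ N) inf_le_left
    (le_normalizer_inf' Subgroup.le_normalizer (hBH.trans hHL))
    (le_normalizer_inf' hPB hPL) (y : G) hy hfix
  have hcL : c ∈ Subgroup.normalizer (N : Set G) := hHL (hBH hcB.1)
  have e : pr N y = pr N ⟨c, hcL⟩ := (pr_eq_iff N _ _).mpr hyc.2
  rw [e]
  exact pr_mem_img _ (cmE_inf_le_KK' hh hcB)

/-- PKG-R2 (the only place where a quotient group is formed) -/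
theorem R2 (h : MinCE p P H) {N : Subgroup G} (hN : N ≤ H) (hne : N ≠ ⊥) (hn : NormBy P H N) :
    H ⊓ Subgroup.centralizer (P : Set G) ≤
      KK P H ⊔ (N ⊓ Subgroup.centralizer (P : Set G)) := by
  obtain ⟨hHL, hPL⟩ := hn
  have hc := h.ctx
  have hgoal : Goal (img N P) (img N H) :=
    h.ih _ (img N P) (img N H) (ctx_img hc hHL hPL hN) (card_img_lt hHL hN hne)
  intro g hg
  obtain ⟨hgH, hgP⟩ := Subgroup.mem_inf.mp hg
  have hgc : g ∈ ⁅H, P⁆ := by rw [R0 h]; exact hgH
  obtain ⟨y, hy, hyg⟩ := Subgroup.mem_map.mp (commutator_le_img hHL hPL hgc)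
  rw [Subgroup.mem_comap] at hy
  have hyg' : (y : G) = g := hyg
  have hcent : pr N y ∈ Subgroup.centralizer ((img N P : Subgroup _) : Set _) := by
    rw [Subgroup.mem_centralizer_iff]
    intro ab hab
    obtain ⟨a, ha, rfl⟩ := (mem_img_iff N P ab).mp hab
    rw [← map_mul, ← map_mul]
    congr 1
    apply Subtype.ext
    have := (Subgroup.mem_centralizer_iff.mp hgP) a.1 ha
    simp only [Subgroup.coe_mul]
    rw [hyg']
    exact this
  have h1 := hgoal (Subgroup.mem_inf.mpr ⟨hy, hcent⟩)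
  have h2 := KK_img_le hc hHL hPL h1
  obtain ⟨k, hk, hky⟩ := (mem_img_iff N _ _).mp h2
  rw [pr_eq_iff, hyg'] at hky
  have e : g = (k : G) * ((k : G)⁻¹ * g) := by group
  rw [e]
  refine Subgroup.mul_mem _ (Subgroup.mem_sup_left hk) (Subgroup.mem_sup_right ⟨hky, ?_⟩)
  exact Subgroup.mul_mem _ (Subgroup.inv_mem _ (KK_le_centralizer hk)) hgP

end main

end Cfsg.Agent.Lib.Helper4.FlvR2
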