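import Mathlib

/-!
# S3067 package P1 (helper4): the prime-order coprime toolkit inside an ambient finite group

Ambient finite group `Gam`, an element `a` with `a ^ r = 1` (`r` prime), subgroups `H` of `Gam`
normalized by `a` (in the form `∀ x ∈ H, a * x * a⁻¹ ∈ H`) with `¬ r ∣ Nat.card H`.

* `exists_fixed_of_iterate`, `exists_commute_mem_of_invariant`, `exists_map_eq_of_invariant_family`:
  an `a`-invariant finite family of size prime to `r` has an `a`-fixed member.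
* `cm H a` : the subgroup `[H,a]` generated by the `h * a * h⁻¹ * a⁻¹`, `h ∈ H`; normalized by `H` and `a`;
  `H = C_H(a) * cm H a`; `cm (cm H a) a = cm H a`; lifting of fixed points modulo an invariant normal subgroup.
* `exists_invariant_sylow`: an `a`-invariant Sylow `p`-subgroup.
* `exists_commute_conj`, `exists_commute_transporter`: Glauberman's lemma for prime order.
-/

set_option autoImplicit false

namespace Cfsg.Agent.Lib.Helper4.GlFixP1

open Subgroup

theorem end_pow_apply {α : Type*} (g : Function.End α) (n : ℕ) (x : α) :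
    (g ^ n) x = (Nat.iterate (show α → α from g) n) x := by
  induction n generalizing x with
  | zero => rfl
  | succ k ih =>
    rw [pow_succ, Function.iterate_succ_apply]
    show (g ^ k) (g x) = _
    rw [ih]

/-- A map of prime order `r` (or trivial) on a finite set of size prime to `r` has a fixed point. -/
theorem exists_fixed_of_iterate {α : Type*} [Finite α] {r : ℕ} [Fact r.Prime] (f : α → α)
    (hf : ∀ x, f^[r] x = x) (hr : ¬ r ∣ Nat.card α) : ∃ x, f x = x := by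
  classical
  have := Fintype.ofFinite α
  let g : Function.End α := f
  have h1 : g ^ r ^ 1 = 1 := by
    rw [pow_one]
    funext x
    rw [end_pow_apply]
    exact hf x
  have h2 := Equiv.Perm.card_fixedPoints_modEq (f := g) (p := r) (n := 1) h1
  by_contra hne
  push Not at hne
  have h3 : Fintype.card (Function.fixedPoints g) = 0 := by
    rw [Fintype.card_eq_zero_iff]
    exact ⟨fun ⟨x, hx⟩ => hne x hx⟩
  rw [h3] at h2
  apply hr
  rw [Nat.card_eq_fintype_card]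
  exact (Nat.modEq_zero_iff_dvd).mp h2

variable {Gam : Type*} [Group Gam]

theorem conj_iterate (a : Gam) (n : ℕ) (x : Gam) :
    (fun y => a * y * a⁻¹)^[n] x = a ^ n * x * (a ^ n)⁻¹ := by
  induction n generalizing x with
  | zero => simp
  | succ k ih =>
    rw [Function.iterate_succ_apply, ih, pow_succ]
    group

variable [Finite Gam] {r : ℕ} [Fact r.Prime]

/-- **Fixed point lemma** (elements): an `a`-invariant subset of size prime to `r` contains an
element commuting with `a`. -/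
theorem exists_commute_mem_of_invariant (a : Gam) (ha : a ^ r = 1) (s : Set Gam)
    (hs : ∀ x ∈ s, a * x * a⁻¹ ∈ s) (hr : ¬ r ∣ s.ncard) : ∃ x ∈ s, a * x = x * a := by
  let f : s → s := fun x => ⟨a * x.1 * a⁻¹, hs x.1 x.2⟩
  have hf : ∀ (n : ℕ) (x : s), ((f^[n]) x).1 = a ^ n * x.1 * (a ^ n)⁻¹ := by
    intro n
    induction n with
    | zero => intro x; simp
    | succ k ih =>
      intro x
      rw [Function.iterate_succ_apply, ih, pow_succ]
      show a ^ k * (a * x.1 * a⁻¹) * (a ^ k)⁻¹ = _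
      group
  have hf' : ∀ x : s, f^[r] x = x := by
    intro x
    apply Subtype.ext
    rw [hf, ha]; simp
  have hcard : ¬ r ∣ Nat.card s := by
    rwa [Nat.card_coe_set_eq]
  obtain ⟨x, hx⟩ := exists_fixed_of_iterate f hf' hcard
  refine ⟨x.1, x.2, ?_⟩
  have : a * x.1 * a⁻¹ = x.1 := congrArg Subtype.val hx
  calc a * x.1 = (a * x.1 * a⁻¹) * a := by group
    _ = x.1 * a := by rw [this]

/-- **Fixed point lemma** (subgroups): an `a`-invariant family of subgroups of size prime to `r`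
contains a subgroup normalized by `a`. -/
theorem exists_map_eq_of_invariant_family (a : Gam) (ha : a ^ r = 1) (S : Set (Subgroup Gam))
    (hS : ∀ P ∈ S, P.map (MulAut.conj a).toMonoidHom ∈ S) (hr : ¬ r ∣ S.ncard) :
    ∃ P ∈ S, P.map (MulAut.conj a).toMonoidHom = P := by
  let f : S → S := fun P => ⟨P.1.map (MulAut.conj a).toMonoidHom, hS P.1 P.2⟩
  have hf : ∀ (n : ℕ) (P : S), ((f^[n]) P).1 = P.1.map (MulAut.conj (a ^ n)).toMonoidHom := by
    intro n
    induction n with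
    | zero =>
      intro P
      ext x
      simp
    | succ k ih =>
      intro P
      rw [Function.iterate_succ_apply, ih]
      show (P.1.map (MulAut.conj a).toMonoidHom).map (MulAut.conj (a ^ k)).toMonoidHom = _
      rw [Subgroup.map_map]
      congr 1
      ext x
      simp only [MonoidHom.coe_comp, MulEquiv.coe_toMonoidHom, Function.comp_apply,
        MulAut.conj_apply, pow_succ]
      group
  have hf' : ∀ P : S, f^[r] P = P := by
    intro P
    apply Subtype.ext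
    rw [hf, ha]
    ext x
    simp
  have hcard : ¬ r ∣ Nat.card S := by
    rwa [Nat.card_coe_set_eq]
  obtain ⟨P, hP⟩ := exists_fixed_of_iterate f hf' hcard
  exact ⟨P.1, P.2, congrArg Subtype.val hP⟩

/-! ### The commutator subgroup `[H,a]` -/

/-- `[H,a]`: the subgroup generated by the commutators `h * a * h⁻¹ * a⁻¹`, `h ∈ H`. -/
def cm (H : Subgroup Gam) (a : Gam) : Subgroup Gam :=
  Subgroup.closure {x | ∃ h ∈ H, x = h * a * h⁻¹ * a⁻¹}

omit [Finite Gam] in
theorem comm_mem_cm {H : Subgroup Gam} {a h : Gam} (hh : h ∈ H) : h * a * h⁻¹ * a⁻¹ ∈ cm H a :=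
  Subgroup.subset_closure ⟨h, hh, rfl⟩

omit [Finite Gam] in
theorem cm_mono {H₁ H₂ : Subgroup Gam} (a : Gam) (h : H₁ ≤ H₂) : cm H₁ a ≤ cm H₂ a := by
  apply Subgroup.closure_mono
  rintro x ⟨y, hy, rfl⟩
  exact ⟨y, h hy, rfl⟩

omit [Finite Gam] in
/-- `[H,a] ≤ H` when `a` normalizes `H`. -/
theorem cm_le {H : Subgroup Gam} {a : Gam} (hn : ∀ x ∈ H, a * x * a⁻¹ ∈ H) : cm H a ≤ H := by
  rw [cm, Subgroup.closure_le]
  rintro x ⟨h, hh, rfl⟩
  have h1 : a * h⁻¹ * a⁻¹ ∈ H := hn _ (H.inv_mem hh)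
  have : h * a * h⁻¹ * a⁻¹ = h * (a * h⁻¹ * a⁻¹) := by group
  rw [SetLike.mem_coe, this]
  exact H.mul_mem hh h1

omit [Finite Gam] in
/-- `H` normalizes `[H,a]`. -/
theorem conj_mem_cm {H : Subgroup Gam} {a : Gam} {g x : Gam} (hg : g ∈ H) (hx : x ∈ cm H a) :
    g * x * g⁻¹ ∈ cm H a := by
  induction hx using Subgroup.closure_induction with
  | mem y hy =>
    obtain ⟨h, hh, rfl⟩ := hy
    have e : g * (h * a * h⁻¹ * a⁻¹) * g⁻¹ =
        ((g * h) * a * (g * h)⁻¹ * a⁻¹) * (g * a * g⁻¹ * a⁻¹)⁻¹ := by group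
    rw [e]
    exact (cm H a).mul_mem (comm_mem_cm (H.mul_mem hg hh)) ((cm H a).inv_mem (comm_mem_cm hg))
  | one => simp
  | mul y z _ _ ihy ihz =>
    have e : g * (y * z) * g⁻¹ = (g * y * g⁻¹) * (g * z * g⁻¹) := by group
    rw [e]; exact (cm H a).mul_mem ihy ihz
  | inv y _ ihy =>
    have e : g * y⁻¹ * g⁻¹ = (g * y * g⁻¹)⁻¹ := by group
    rw [e]; exact (cm H a).inv_mem ihy

omit [Finite Gam] in
/-- `a` normalizes `[H,a]` when it normalizes `H`. -/
theorem conj_self_mem_cm {H : Subgroup Gam} {a : Gam} (hn : ∀ x ∈ H, a * x * a⁻¹ ∈ H) {x : Gam}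
    (hx : x ∈ cm H a) : a * x * a⁻¹ ∈ cm H a := by
  induction hx using Subgroup.closure_induction with
  | mem y hy =>
    obtain ⟨h, hh, rfl⟩ := hy
    have e : a * (h * a * h⁻¹ * a⁻¹) * a⁻¹ = (a * h * a⁻¹) * a * (a * h * a⁻¹)⁻¹ * a⁻¹ := by group
    rw [e]
    exact comm_mem_cm (hn h hh)
  | one => simp
  | mul y z _ _ ihy ihz =>
    have e : a * (y * z) * a⁻¹ = (a * y * a⁻¹) * (a * z * a⁻¹) := by group
    rw [e]; exact (cm H a).mul_mem ihy ihz
  | inv y _ ihy =>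
    have e : a * y⁻¹ * a⁻¹ = (a * y * a⁻¹)⁻¹ := by group
    rw [e]; exact (cm H a).inv_mem ihy

/-- `a⁻¹` normalizes a subgroup normalized by `a`. -/
theorem inv_conj_mem {K : Subgroup Gam} {a : Gam}
    (hn : ∀ x ∈ K, a * x * a⁻¹ ∈ K) {x : Gam} (hx : x ∈ K) : a⁻¹ * x * a ∈ K := by
  have h : ∀ k : ℕ, a ^ k * x * (a ^ k)⁻¹ ∈ K := by
    intro k
    induction k with
    | zero => simpa using hx
    | succ k ih =>
      have e : a ^ (k + 1) * x * (a ^ (k + 1))⁻¹ = a * (a ^ k * x * (a ^ k)⁻¹) * a⁻¹ := by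
        rw [pow_succ']; group
      rw [e]; exact hn _ ih
  have hpos : 0 < orderOf a := orderOf_pos a
  have h1 : a ^ (orderOf a - 1) = a⁻¹ := by
    have : a ^ (orderOf a - 1) * a = 1 := by
      rw [← pow_succ, Nat.sub_add_cancel hpos, pow_orderOf_eq_one]
    exact eq_inv_of_mul_eq_one_left this
  have e : a⁻¹ * x * a = a ^ (orderOf a - 1) * x * (a ^ (orderOf a - 1))⁻¹ := by
    rw [h1]; group
  rw [e]; exact h _

/-- **Lifting of fixed points**: `N ≤ H` normalized by `H` and by `a`, `r ∤ |N|`.  If `x ∈ H` and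
`x * a * x⁻¹ * a⁻¹ ∈ N` (i.e. `a` fixes the coset `xN`), then `x = c * k` with `c ∈ H` commuting
with `a` and `k ∈ N`. -/
theorem exists_commute_mul_of_comm_mem (a : Gam) (ha : a ^ r = 1) {H N : Subgroup Gam} (hNH : N ≤ H)
    (hnorm : ∀ g ∈ H, ∀ x ∈ N, g * x * g⁻¹ ∈ N) (hNa : ∀ x ∈ N, a * x * a⁻¹ ∈ N)
    (hr : ¬ r ∣ Nat.card N) {x : Gam} (hx : x ∈ H) (hxa : x * a * x⁻¹ * a⁻¹ ∈ N) :
    ∃ c ∈ H, a * c = c * a ∧ ∃ k ∈ N, x = c * k := by
  let s : Set Gam := (fun k => x * k) '' (N : Set Gam)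
  have hinj : Function.Injective (fun k : Gam => x * k) := mul_right_injective x
  have hcard : s.ncard = Nat.card N := by
    rw [Set.ncard_image_of_injective _ hinj, ← Nat.card_coe_set_eq]; rfl
  have hk0 : x⁻¹ * (x * a * x⁻¹ * a⁻¹)⁻¹ * x ∈ N := by
    have := hnorm x⁻¹ (H.inv_mem hx) _ (N.inv_mem hxa)
    simpa using this
  have hs : ∀ y ∈ s, a * y * a⁻¹ ∈ s := by
    rintro y ⟨k, hk, rfl⟩
    refine ⟨(x⁻¹ * (x * a * x⁻¹ * a⁻¹)⁻¹ * x) * (a * k * a⁻¹), N.mul_mem hk0 (hNa k hk), ?_⟩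
    show x * ((x⁻¹ * (x * a * x⁻¹ * a⁻¹)⁻¹ * x) * (a * k * a⁻¹)) = a * (x * k) * a⁻¹
    group
  obtain ⟨c, ⟨k, hk, hck⟩, hca⟩ := exists_commute_mem_of_invariant a ha s hs (by rwa [hcard])
  have hck' : x * k = c := hck
  refine ⟨c, ?_, hca, k⁻¹, N.inv_mem hk, ?_⟩
  · rw [← hck']; exact H.mul_mem hx (hNH hk)
  · rw [← hck']; group

/-- **`H = C_H(a) [H,a]`**. -/
theorem exists_commute_mul_cm (a : Gam) (ha : a ^ r = 1) {H : Subgroup Gam}
    (hn : ∀ x ∈ H, a * x * a⁻¹ ∈ H) (hr : ¬ r ∣ Nat.card H) {x : Gam} (hx : x ∈ H) :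
    ∃ c ∈ H, a * c = c * a ∧ ∃ k ∈ cm H a, x = c * k := by
  have hle : cm H a ≤ H := cm_le hn
  have hr' : ¬ r ∣ Nat.card (cm H a) := fun h =>
    hr (dvd_trans h (Subgroup.card_dvd_of_le hle))
  exact exists_commute_mul_of_comm_mem a ha hle (fun g hg y hy => conj_mem_cm hg hy)
    (fun y hy => conj_self_mem_cm hn hy) hr' hx (comm_mem_cm hx)

/-- **`[[H,a],a] = [H,a]`**. -/
theorem cm_cm (a : Gam) (ha : a ^ r = 1) {H : Subgroup Gam}
    (hn : ∀ x ∈ H, a * x * a⁻¹ ∈ H) (hr : ¬ r ∣ Nat.card H) : cm (cm H a) a = cm H a := by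
  apply le_antisymm (cm_mono a (cm_le hn))
  rw [cm, Subgroup.closure_le]
  rintro y ⟨h, hh, rfl⟩
  obtain ⟨c, hc, hca, k, hk, rfl⟩ := exists_commute_mul_cm a ha hn hr hh
  have hca' : c * a * c⁻¹ = a := by rw [← hca]; group
  have e : (c * k) * a * (c * k)⁻¹ * a⁻¹ = (c * k * c⁻¹) * a * (c * k * c⁻¹)⁻¹ * a⁻¹ := by
    have : (c * k * c⁻¹) * a * (c * k * c⁻¹)⁻¹ * a⁻¹ = c * k * (c⁻¹ * a * c) * k⁻¹ * c⁻¹ * a⁻¹ := by
      group
    rw [this]
    have h2 : c⁻¹ * a * c = a := by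
      calc c⁻¹ * a * c = c⁻¹ * (a * c) := by group
        _ = c⁻¹ * (c * a) := by rw [hca]
        _ = a := by group
    rw [h2]; group
  rw [SetLike.mem_coe, e]
  exact comm_mem_cm (conj_mem_cm hc hk)

omit [Finite Gam] in
/-- `[H,a] = 1` iff `a` centralizes `H`. -/
theorem cm_eq_bot_iff {H : Subgroup Gam} {a : Gam} : cm H a = ⊥ ↔ ∀ h ∈ H, a * h = h * a := by
  constructor
  · intro h0 h hh
    have h1 : h * a * h⁻¹ * a⁻¹ ∈ cm H a := comm_mem_cm hh
    rw [h0, Subgroup.mem_bot] at h1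
    have : h * a = a * h := by
      calc h * a = (h * a * h⁻¹ * a⁻¹) * (a * h) := by group
        _ = a * h := by rw [h1, one_mul]
    exact this.symm
  · intro hc
    rw [cm, Subgroup.closure_eq_bot_iff]
    rintro x ⟨h, hh, rfl⟩
    have := hc h hh
    rw [Set.mem_singleton_iff]
    calc h * a * h⁻¹ * a⁻¹ = (a * h) * h⁻¹ * a⁻¹ := by rw [this]
      _ = 1 := by group

/-! ### Invariant Sylow subgroups, Glauberman's lemma -/

/-- An `a`-invariant Sylow `p`-subgroup of an `a`-invariant subgroup `H` with `r ∤ |H|`. -/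
theorem exists_invariant_sylow (a : Gam) (ha : a ^ r = 1) {H : Subgroup Gam}
    (hn : ∀ x ∈ H, a * x * a⁻¹ ∈ H) (hr : ¬ r ∣ Nat.card H) (p : ℕ) [Fact p.Prime] :
    ∃ P : Subgroup Gam, P ≤ H ∧ IsPGroup p P ∧ (∀ x ∈ P, a * x * a⁻¹ ∈ P) ∧
      (∀ Q : Subgroup Gam, Q ≤ H → IsPGroup p Q → P ≤ Q → Q = P) := by
  -- the family of maximal p-subgroups of H
  let S : Set (Subgroup Gam) := Set.range (fun P : Sylow p H => (P : Subgroup H).map H.subtype)
  have hinj : Function.Injective (fun P : Sylow p H => (P : Subgroup H).map H.subtype) := by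
    intro P Q hPQ
    apply Sylow.ext
    exact Subgroup.map_injective H.subtype_injective hPQ
  have hcard : S.ncard = Nat.card (Sylow p H) := by
    rw [← Nat.card_coe_set_eq]
    exact Nat.card_congr (Equiv.ofInjective _ hinj).symm
  have hdvd : Nat.card (Sylow p H) ∣ Nat.card H := by
    obtain ⟨P⟩ : Nonempty (Sylow p H) := inferInstance
    exact dvd_trans (Sylow.card_dvd_index P) (Subgroup.index_dvd_card _)
  have hr' : ¬ r ∣ S.ncard := by
    rw [hcard]; exact fun h => hr (dvd_trans h hdvd)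
  -- conjugation by a maps H to H
  have hmapH : H.map (MulAut.conj a).toMonoidHom = H := by
    apply le_antisymm
    · rintro _ ⟨x, hx, rfl⟩; exact hn x hx
    · intro x hx
      refine ⟨a⁻¹ * x * a, inv_conj_mem hn hx, ?_⟩
      simp only [MulEquiv.coe_toMonoidHom, MulAut.conj_apply]; group
  have hS : ∀ P ∈ S, P.map (MulAut.conj a).toMonoidHom ∈ S := by
    rintro _ ⟨P, rfl⟩
    -- the image is a p-subgroup of H of the same order, hence Sylow
    let Q : Subgroup Gam := ((P : Subgroup H).map H.subtype).map (MulAut.conj a).toMonoidHom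
    have hQH : Q ≤ H := by
      rintro _ ⟨y, ⟨z, _, rfl⟩, rfl⟩
      exact hn _ z.2
    have hcardQ : Nat.card Q = Nat.card (P : Subgroup H) := by
      have e1 : Nat.card Q = Nat.card ((P : Subgroup H).map H.subtype) :=
        Subgroup.card_map_of_injective (MulAut.conj a).injective
      have e2 : Nat.card ((P : Subgroup H).map H.subtype) = Nat.card (P : Subgroup H) :=
        Subgroup.card_map_of_injective H.subtype_injective
      rw [e1, e2]
    have hQ' : Nat.card (Q.subgroupOf H) = p ^ (Nat.card H).factorization p := by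
      have e3 : Nat.card (Q.subgroupOf H) = Nat.card Q :=
        Nat.card_congr (Subgroup.subgroupOfEquivOfLe hQH).toEquiv
      rw [e3, hcardQ, Sylow.card_eq_multiplicity]
    refine ⟨Sylow.ofCard (Q.subgroupOf H) hQ', ?_⟩
    show (Q.subgroupOf H).map H.subtype = Q
    rw [Subgroup.subgroupOf_map_subtype]
    exact inf_eq_left.mpr hQH
  obtain ⟨P, ⟨P0, rfl⟩, hP⟩ := exists_map_eq_of_invariant_family a ha S hS hr'
  refine ⟨(P0 : Subgroup H).map H.subtype, ?_, ?_, ?_, ?_⟩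
  · rintro _ ⟨y, _, rfl⟩; exact y.2
  · exact P0.2.map H.subtype
  · intro x hx
    have hP' : ((P0 : Subgroup H).map H.subtype).map (MulAut.conj a).toMonoidHom
        = (P0 : Subgroup H).map H.subtype := hP
    rw [← hP']
    exact ⟨x, hx, rfl⟩
  · intro Q hQH hQ hPQ
    have h1 : (P0 : Subgroup H) ≤ Q.subgroupOf H := by
      intro y hy
      exact hPQ ⟨y, hy, rfl⟩
    have hQ' : IsPGroup p (Q.subgroupOf H) := by
      exact hQ.comap_of_injective H.subtype H.subtype_injective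
    have h2 : Q.subgroupOf H = (P0 : Subgroup H) := P0.3 hQ' h1
    apply le_antisymm _ hPQ
    intro y hy
    have : (⟨y, hQH hy⟩ : H) ∈ Q.subgroupOf H := hy
    rw [h2] at this
    exact ⟨⟨y, hQH hy⟩, this, rfl⟩

/-- **Glauberman's lemma** (prime order, general form): if `x ∈ H`, `U ≤ H` a subgroup
normalized... the coset `x * U` is `a`-invariant and `r ∤ |U|`, then `x * U` contains an element
commuting with `a`. -/
theorem exists_commute_mem_coset (a : Gam) (ha : a ^ r = 1) (U : Subgroup Gam)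
    (hr : ¬ r ∣ Nat.card U) (x : Gam)
    (hinv : ∀ u ∈ U, ∃ u' ∈ U, a * (x * u) * a⁻¹ = x * u') :
    ∃ u ∈ U, a * (x * u) = (x * u) * a := by
  let s : Set Gam := (fun k => x * k) '' (U : Set Gam)
  have hinj : Function.Injective (fun k : Gam => x * k) := mul_right_injective x
  have hcard : s.ncard = Nat.card U := by
    rw [Set.ncard_image_of_injective _ hinj, ← Nat.card_coe_set_eq]; rfl
  have hs : ∀ y ∈ s, a * y * a⁻¹ ∈ s := by
    rintro y ⟨k, hk, rfl⟩
    obtain ⟨u', hu', e⟩ := hinv k hk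
    exact ⟨u', hu', e.symm⟩
  obtain ⟨c, ⟨k, hk, hck⟩, hca⟩ := exists_commute_mem_of_invariant a ha s hs (by rwa [hcard])
  have hck' : x * k = c := hck
  exact ⟨k, hk, by rw [hck']; exact hca⟩

/-- **Glauberman's lemma** for elements: `x, y` commute with `a` and are conjugate under
`g ∈ H`; then they are conjugate under an element of `C_H(a)`. -/
theorem exists_commute_conj (a : Gam) (ha : a ^ r = 1) {H : Subgroup Gam}
    (hn : ∀ x ∈ H, a * x * a⁻¹ ∈ H) (hr : ¬ r ∣ Nat.card H) {x y g : Gam}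
    (hxa : a * x = x * a) (hya : a * y = y * a) (hg : g ∈ H) (hgx : g * x * g⁻¹ = y) :
    ∃ c ∈ H, a * c = c * a ∧ c * x * c⁻¹ = y := by
  let U : Subgroup Gam := H ⊓ Subgroup.centralizer {x}
  have hU : ¬ r ∣ Nat.card U := fun h => hr (dvd_trans h (Subgroup.card_dvd_of_le inf_le_left))
  have hax : a * x * a⁻¹ = x := by rw [hxa]; group
  have hay : a * y * a⁻¹ = y := by rw [hya]; group
  have key : ∀ u ∈ U, ∃ u' ∈ U, a * (g * u) * a⁻¹ = g * u' := by
    intro u hu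
    refine ⟨g⁻¹ * (a * (g * u) * a⁻¹), ?_, by group⟩
    have hguH : a * (g * u) * a⁻¹ ∈ H := hn _ (H.mul_mem hg hu.1)
    refine ⟨H.mul_mem (H.inv_mem hg) hguH, ?_⟩
    show g⁻¹ * (a * (g * u) * a⁻¹) ∈ Subgroup.centralizer {x}
    rw [Subgroup.mem_centralizer_iff]
    intro z hz
    rw [Set.mem_singleton_iff] at hz
    subst hz
    have hu2 : u * z = z * u := by
      have := (Subgroup.mem_centralizer_iff.mp hu.2) z (Set.mem_singleton z)
      exact this.symm
    -- (a g u a⁻¹) x (a g u a⁻¹)⁻¹ = a g u x u⁻¹ g⁻¹ a⁻¹ = a y a⁻¹ = y = g x g⁻¹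
    have h1 : (a * (g * u) * a⁻¹) * z * (a * (g * u) * a⁻¹)⁻¹ = g * z * g⁻¹ := by
      have e1 : (a * (g * u) * a⁻¹) * z * (a * (g * u) * a⁻¹)⁻¹
          = a * (g * (u * (a⁻¹ * z * a) * u⁻¹) * g⁻¹) * a⁻¹ := by group
      have e2 : a⁻¹ * z * a = z := by
        calc a⁻¹ * z * a = a⁻¹ * (z * a) := by group
          _ = a⁻¹ * (a * z) := by rw [hxa]
          _ = z := by group
      have e3 : u * z * u⁻¹ = z := by rw [hu2]; group
      rw [e1, e2, e3, hgx, hay]
    calc z * (g⁻¹ * (a * (g * u) * a⁻¹))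
        = g⁻¹ * (g * z * g⁻¹) * (a * (g * u) * a⁻¹) := by group
      _ = g⁻¹ * ((a * (g * u) * a⁻¹) * z * (a * (g * u) * a⁻¹)⁻¹) * (a * (g * u) * a⁻¹) := by
          rw [h1]
      _ = g⁻¹ * (a * (g * u) * a⁻¹) * z := by group
  obtain ⟨u, hu, hc⟩ := exists_commute_mem_coset a ha U hU g key
  refine ⟨g * u, H.mul_mem hg hu.1, hc, ?_⟩
  have hu2 : u * x = x * u := by
    have := (Subgroup.mem_centralizer_iff.mp hu.2) x (Set.mem_singleton x)
    exact this.symm
  calc g * u * x * (g * u)⁻¹ = g * (u * x * u⁻¹) * g⁻¹ := by group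
    _ = g * x * g⁻¹ := by rw [hu2]; group
    _ = y := hgx

/-! ### `Commute`-shaped restatements (the shapes used by the S3067 swarm) -/

omit [Finite Gam] in
theorem cm_def (H : Subgroup Gam) (a : Gam) :
    cm H a = Subgroup.closure {x : Gam | ∃ h ∈ H, x = h * a * h⁻¹ * a⁻¹} := rfl

/-- Fixed point lemma, `Commute` form. -/
theorem exists_commute_of_invariant (a : Gam) (ha : a ^ r = 1) (s : Set Gam)
    (hs : ∀ x ∈ s, a * x * a⁻¹ ∈ s) (hr : ¬ r ∣ s.ncard) : ∃ x ∈ s, Commute x a := by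
  obtain ⟨x, hx, h⟩ := exists_commute_mem_of_invariant a ha s hs hr
  exact ⟨x, hx, h.symm⟩

/-- `H = C_H(a) [H,a]`, `Commute` form. -/
theorem exists_commute_mul_cm' (a : Gam) (ha : a ^ r = 1) {H : Subgroup Gam}
    (hn : ∀ x ∈ H, a * x * a⁻¹ ∈ H) (hr : ¬ r ∣ Nat.card H) {x : Gam} (hx : x ∈ H) :
    ∃ c ∈ H, Commute c a ∧ ∃ k ∈ cm H a, x = c * k := by
  obtain ⟨c, hc, hca, k, hk, e⟩ := exists_commute_mul_cm a ha hn hr hx
  exact ⟨c, hc, hca.symm, k, hk, e⟩

/-- `H = [H,a] C_H(a)` (other order), `Commute` form. -/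
theorem exists_cm_mul_commute (a : Gam) (ha : a ^ r = 1) {H : Subgroup Gam}
    (hn : ∀ x ∈ H, a * x * a⁻¹ ∈ H) (hr : ¬ r ∣ Nat.card H) {x : Gam} (hx : x ∈ H) :
    ∃ k ∈ cm H a, ∃ c ∈ H, Commute c a ∧ x = k * c := by
  obtain ⟨c, hc, hca, k, hk, e⟩ := exists_commute_mul_cm' a ha hn hr hx
  refine ⟨c * k * c⁻¹, conj_mem_cm hc hk, c, hc, hca, ?_⟩
  rw [e]; group

/-- Glauberman's lemma for elements, `Commute` form (conjugation written `g * x * g⁻¹`). -/
theorem exists_commute_conj' (a : Gam) (ha : a ^ r = 1) {H : Subgroup Gam}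
    (hn : ∀ x ∈ H, a * x * a⁻¹ ∈ H) (hr : ¬ r ∣ Nat.card H) {x y g : Gam}
    (hxa : Commute x a) (hya : Commute y a) (hg : g ∈ H) (hgx : g * x * g⁻¹ = y) :
    ∃ c ∈ H, Commute c a ∧ c * x * c⁻¹ = y := by
  obtain ⟨c, hc, hca, e⟩ := exists_commute_conj a ha hn hr hxa.symm.eq hya.symm.eq hg hgx
  exact ⟨c, hc, hca.symm, e⟩

/-- Glauberman's lemma for elements, conjugation written `g⁻¹ * x * g`. -/
theorem exists_commute_conj'' (a : Gam) (ha : a ^ r = 1) {H : Subgroup Gam}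
    (hn : ∀ x ∈ H, a * x * a⁻¹ ∈ H) (hr : ¬ r ∣ Nat.card H) {x y g : Gam}
    (hxa : Commute x a) (hya : Commute y a) (hg : g ∈ H) (hgx : g⁻¹ * x * g = y) :
    ∃ c ∈ H, Commute c a ∧ c⁻¹ * x * c = y := by
  obtain ⟨c, hc, hca, e⟩ := exists_commute_conj' a ha hn hr hxa hya (H.inv_mem hg)
    (show g⁻¹ * x * g⁻¹⁻¹ = y by rw [inv_inv]; exact hgx)
  exact ⟨c⁻¹, H.inv_mem hc, hca.inv_left, by rw [inv_inv]; exact e⟩

/-! ### Conjugacy of complements (prime order): `b ∈ X a`, `b ^ r = 1`  ⟹  `b = o⁻¹ a o`, `o ∈ X` -/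

/-- Let `X` be normalized by `a`, `r ∤ |X|`, and `b` with `b ^ r = 1`, `b * a⁻¹ ∈ X`.
Then `b = o⁻¹ * a * o` for some `o ∈ X`.  (Fixed point of `x ↦ a * x * b⁻¹` on `X`.) -/
theorem exists_conj_eq_of_mul_inv_mem (a : Gam) (ha : a ^ r = 1) {X : Subgroup Gam}
    (hn : ∀ x ∈ X, a * x * a⁻¹ ∈ X) (hr : ¬ r ∣ Nat.card X) {b : Gam} (hb : b ^ r = 1)
    (hba : b * a⁻¹ ∈ X) : ∃ o ∈ X, o⁻¹ * a * o = b := by
  have hmem : ∀ x ∈ X, a * x * b⁻¹ ∈ X := by
    intro x hx
    have e : a * x * b⁻¹ = (a * x * a⁻¹) * (b * a⁻¹)⁻¹ := by group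
    rw [e]
    exact X.mul_mem (hn x hx) (X.inv_mem hba)
  let f : X → X := fun x => ⟨a * x.1 * b⁻¹, hmem x.1 x.2⟩
  have hf : ∀ (n : ℕ) (x : X), ((f^[n]) x).1 = a ^ n * x.1 * (b ^ n)⁻¹ := by
    intro n
    induction n with
    | zero => intro x; simp
    | succ k ih =>
      intro x
      rw [Function.iterate_succ_apply, ih, pow_succ, pow_succ]
      show a ^ k * (a * x.1 * b⁻¹) * (b ^ k)⁻¹ = _
      group
  have hf' : ∀ x : X, f^[r] x = x := by
    intro x
    apply Subtype.ext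
    rw [hf, ha, hb]; simp
  obtain ⟨o, ho⟩ := exists_fixed_of_iterate f hf' hr
  refine ⟨o.1, o.2, ?_⟩
  have h1 : a * o.1 * b⁻¹ = o.1 := congrArg Subtype.val ho
  calc o.1⁻¹ * a * o.1 = o.1⁻¹ * (a * o.1 * b⁻¹) * b := by group
    _ = b := by rw [h1]; group

end Cfsg.Agent.Lib.Helper4.GlFixP1
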