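import Cfsg.Agent.Lib.Helper1.GC0
import Cfsg.Agent.Lib.Helper4.GlFixP1

/-!
# Adapters: the coprime-action toolkit `GlFixP1` in the conventions of `Helper1.GC0`

`GC0` writes invariance as `a⁻¹ * x * a ∈ H`, conjugates as `g⁻¹ * x * g` and commutators as
`x⁻¹ * a⁻¹ * x * a`.  Everything here is `GlFixP1` applied to `a⁻¹`.
-/

set_option autoImplicit false

namespace Cfsg.Agent.Lib.Helper4.GlFixP1a

open Cfsg.Agent.Lib.Helper1.GC Cfsg.Agent.Lib.Helper4.GlFixP1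

universe u
variable {Γ : Type u} [Group Γ] [Finite Γ] {G : Subgroup Γ} {a τ : Γ} {r : ℕ}

theorem inv_pow_eq_one (h : Hyp G a τ r) : a⁻¹ ^ r = 1 := by
  rw [inv_pow, h.a_pow, inv_one]

/-- (FP) stub shape: an `a`-invariant set of size prime to `r` contains an element commuting
with `a`. -/
theorem fp (h : Hyp G a τ r) (S : Set Γ) (hS : ∀ x ∈ S, a⁻¹ * x * a ∈ S)
    (hr : ¬ r ∣ S.ncard) : ∃ x ∈ S, Commute x a := by
  haveI : Fact r.Prime := ⟨h.hr⟩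
  obtain ⟨x, hx, hc⟩ := exists_commute_of_invariant a⁻¹ (inv_pow_eq_one h) S
    (fun x hx => by rw [inv_inv]; exact hS x hx) hr
  exact ⟨x, hx, by simpa using hc.inv_right⟩

/-- The commutator subgroup `[H,a]` in `GC0` conventions: generated by `x⁻¹ a⁻¹ x a`, `x ∈ H`. -/
def commSub (H : Subgroup Γ) (a : Γ) : Subgroup Γ :=
  Subgroup.closure {y : Γ | ∃ x ∈ H, y = x⁻¹ * a⁻¹ * x * a}

theorem commSub_eq_cm (H : Subgroup Γ) (a : Γ) : commSub H a = cm H a⁻¹ := by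
  unfold commSub
  rw [cm_def]
  congr 1
  ext y
  constructor
  · rintro ⟨x, hx, rfl⟩
    exact ⟨x⁻¹, H.inv_mem hx, by simp⟩
  · rintro ⟨x, hx, rfl⟩
    exact ⟨x⁻¹, H.inv_mem hx, by simp⟩

theorem comm_mem_commSub {H : Subgroup Γ} {a x : Γ} (hx : x ∈ H) :
    x⁻¹ * a⁻¹ * x * a ∈ commSub H a :=
  Subgroup.subset_closure ⟨x, hx, rfl⟩

theorem commSub_mono {H₁ H₂ : Subgroup Γ} (a : Γ) (hle : H₁ ≤ H₂) : commSub H₁ a ≤ commSub H₂ a := by
  rw [commSub_eq_cm, commSub_eq_cm]; exact cm_mono _ hle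

theorem commSub_le {H : Subgroup Γ} {a : Γ} (hn : ∀ x ∈ H, a⁻¹ * x * a ∈ H) : commSub H a ≤ H := by
  rw [commSub_eq_cm]
  exact cm_le (fun x hx => by rw [inv_inv]; exact hn x hx)

/-- `[H,a]` is normalized by `H`. -/
theorem conj_mem_commSub {H : Subgroup Γ} {a g y : Γ} (hg : g ∈ H) (hy : y ∈ commSub H a) :
    g⁻¹ * y * g ∈ commSub H a := by
  rw [commSub_eq_cm] at hy ⊢
  have := conj_mem_cm (H.inv_mem hg) hy
  rwa [inv_inv] at this

/-- `[H,a]` is normalized by `a`. -/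
theorem conj_self_mem_commSub {H : Subgroup Γ} {a : Γ} (hn : ∀ x ∈ H, a⁻¹ * x * a ∈ H) {y : Γ}
    (hy : y ∈ commSub H a) : a⁻¹ * y * a ∈ commSub H a := by
  rw [commSub_eq_cm] at hy ⊢
  have := conj_self_mem_cm (a := a⁻¹) (fun x hx => by rw [inv_inv]; exact hn x hx) hy
  rwa [inv_inv] at this

/-- `H = C_H(a) [H,a]`. -/
theorem exists_commute_mul_commSub (h : Hyp G a τ r) {H : Subgroup Γ}
    (hn : ∀ x ∈ H, a⁻¹ * x * a ∈ H) (hr : ¬ r ∣ Nat.card H) {x : Γ} (hx : x ∈ H) :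
    ∃ c ∈ H, Commute c a ∧ ∃ k ∈ commSub H a, x = c * k := by
  haveI : Fact r.Prime := ⟨h.hr⟩
  obtain ⟨c, hc, hca, k, hk, e⟩ := exists_commute_mul_cm' a⁻¹ (inv_pow_eq_one h)
    (fun x hx => by rw [inv_inv]; exact hn x hx) hr hx
  exact ⟨c, hc, by simpa using hca.inv_right, k, by rw [commSub_eq_cm]; exact hk, e⟩

/-- `H = [H,a] C_H(a)`. -/
theorem exists_commSub_mul_commute (h : Hyp G a τ r) {H : Subgroup Γ}
    (hn : ∀ x ∈ H, a⁻¹ * x * a ∈ H) (hr : ¬ r ∣ Nat.card H) {x : Γ} (hx : x ∈ H) :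
    ∃ k ∈ commSub H a, ∃ c ∈ H, Commute c a ∧ x = k * c := by
  haveI : Fact r.Prime := ⟨h.hr⟩
  obtain ⟨k, hk, c, hc, hca, e⟩ := exists_cm_mul_commute a⁻¹ (inv_pow_eq_one h)
    (fun x hx => by rw [inv_inv]; exact hn x hx) hr hx
  exact ⟨k, by rw [commSub_eq_cm]; exact hk, c, hc, by simpa using hca.inv_right, e⟩

/-- `[[H,a],a] = [H,a]`. -/
theorem commSub_commSub (h : Hyp G a τ r) {H : Subgroup Γ}
    (hn : ∀ x ∈ H, a⁻¹ * x * a ∈ H) (hr : ¬ r ∣ Nat.card H) :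
    commSub (commSub H a) a = commSub H a := by
  haveI : Fact r.Prime := ⟨h.hr⟩
  rw [commSub_eq_cm, commSub_eq_cm]
  exact cm_cm a⁻¹ (inv_pow_eq_one h) (fun x hx => by rw [inv_inv]; exact hn x hx) hr

/-- `[H,a] = 1` iff `a` centralizes `H`. -/
theorem commSub_eq_bot_iff {H : Subgroup Γ} {a : Γ} :
    commSub H a = ⊥ ↔ ∀ x ∈ H, Commute x a := by
  rw [commSub_eq_cm, cm_eq_bot_iff]
  constructor
  · intro hh x hx
    have := hh x hx
    have h2 : Commute x a⁻¹ := this.symm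
    simpa using h2.inv_right
  · intro hh x hx
    exact ((hh x hx).inv_right).symm.eq

/-- Glauberman's lemma in `GC0` conventions: two elements of `C(a)` conjugate under `H` are
conjugate under `C_H(a)`. -/
theorem exists_commute_conj (h : Hyp G a τ r) {H : Subgroup Γ}
    (hn : ∀ x ∈ H, a⁻¹ * x * a ∈ H) (hr : ¬ r ∣ Nat.card H) {x y g : Γ}
    (hxa : Commute x a) (hya : Commute y a) (hg : g ∈ H) (hgx : g⁻¹ * x * g = y) :
    ∃ c ∈ H, Commute c a ∧ c⁻¹ * x * c = y := by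
  haveI : Fact r.Prime := ⟨h.hr⟩
  obtain ⟨c, hc, hca, e⟩ := exists_commute_conj'' a⁻¹ (inv_pow_eq_one h)
    (fun x hx => by rw [inv_inv]; exact hn x hx) hr hxa.inv_right hya.inv_right hg hgx
  exact ⟨c, hc, by simpa using hca.inv_right, e⟩

/-- Conjugacy of complements: `X` normalized by `a`, `r ∤ |X|`, `b ^ r = 1`, `a⁻¹ * b ∈ X`
⟹ `b = o⁻¹ * a * o` with `o ∈ X`. -/
theorem exists_conj_eq (h : Hyp G a τ r) {X : Subgroup Γ}
    (hn : ∀ x ∈ X, a⁻¹ * x * a ∈ X) (hr : ¬ r ∣ Nat.card X) {b : Γ} (hb : b ^ r = 1)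
    (hba : a⁻¹ * b ∈ X) : ∃ o ∈ X, b = o⁻¹ * a * o := by
  haveI : Fact r.Prime := ⟨h.hr⟩
  -- apply the `GlFixP1` lemma to `a⁻¹`, `b⁻¹`
  have hn' : ∀ x ∈ X, a⁻¹ * x * a⁻¹⁻¹ ∈ X := fun x hx => by rw [inv_inv]; exact hn x hx
  have hb' : b⁻¹ ^ r = 1 := by rw [inv_pow, hb, inv_one]
  have hba' : b⁻¹ * a⁻¹⁻¹ ∈ X := by
    rw [inv_inv]
    have := X.inv_mem hba
    simpa [mul_inv_rev] using this
  obtain ⟨o, ho, e⟩ := exists_conj_eq_of_mul_inv_mem a⁻¹ (inv_pow_eq_one h) hn' hr hb' hba'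
  refine ⟨o, ho, ?_⟩
  have := congrArg (·⁻¹) e
  simp only [mul_inv_rev, inv_inv] at this
  rw [← this]; group

end Cfsg.Agent.Lib.Helper4.GlFixP1a
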