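import Cfsg.Agent.Lib.Helper1.GC0
import Cfsg.Agent.Lib.Helper2.GlFix1
import Cfsg.Agent.Lib.Helper4.GlFixP1a

/-!
# S3067, step (S2): an element `u ∈ K` swapping the points `a`, `b` with `⟨a,b⟩ ∩ G` of odd order

`X := Lam0 G a b`.  Then `u` and `a` normalize `X`, `b⁻¹ a ∈ X`, and some `X`-conjugate
`t = x⁻¹ u x` of `u` commutes with `a` (so `t ∈ K_a` and `t u⁻¹ ∈ X`).
-/

set_option autoImplicit false

namespace Cfsg.Agent.Lib.Helper4.GlFixS2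

open Cfsg.Agent.Lib.Helper1.GC

universe u
variable {Γ : Type u} [Group Γ]

/-- The number of `X`-conjugates of `u` divides `|X|`. -/
theorem ncard_conj_dvd [Finite Γ] (X : Subgroup Γ) (u : Γ) :
    {s : Γ | ∃ x ∈ X, s = x⁻¹ * u * x}.ncard ∣ Nat.card X := by
  letI : MulAction X Γ := MulAction.compHom Γ ((MulAut.conj : Γ →* MulAut Γ).comp X.subtype)
  have hsm : ∀ (x : X) (g : Γ), x • g = (x : Γ) * g * (x : Γ)⁻¹ := fun x g => rfl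
  have : {s : Γ | ∃ x ∈ X, s = x⁻¹ * u * x} = MulAction.orbit X u := by
    ext s; constructor
    · rintro ⟨x, hx, rfl⟩
      exact ⟨⟨x⁻¹, X.inv_mem hx⟩, by show _ • u = _; rw [hsm]; simp⟩
    · rintro ⟨x, rfl⟩
      exact ⟨(x : Γ)⁻¹, X.inv_mem x.2, by show x • u = _; rw [hsm]; simp⟩
  rw [this, ← MulAction.index_stabilizer]
  exact Subgroup.index_dvd_card _

/-- If `u⁻¹ a u = b` and `u⁻¹ b u = a` then `u` normalizes `⟨a,b⟩`. -/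
theorem conj_mem_closure_pair {a b u : Γ} (hab : u⁻¹ * a * u = b) (hba : u⁻¹ * b * u = a) :
    ∀ x ∈ Subgroup.closure ({a, b} : Set Γ), u⁻¹ * x * u ∈ Subgroup.closure ({a, b} : Set Γ) := by
  intro x hx
  induction hx using Subgroup.closure_induction with
  | mem y hy =>
    rcases hy with rfl | rfl
    · rw [hab]; exact Subgroup.subset_closure (by simp)
    · rw [hba]; exact Subgroup.subset_closure (by simp)
  | one => simp
  | mul y z _ _ ihy ihz =>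
    have : u⁻¹ * (y * z) * u = (u⁻¹ * y * u) * (u⁻¹ * z * u) := by group
    rw [this]; exact Subgroup.mul_mem _ ihy ihz
  | inv y _ ihy =>
    have : u⁻¹ * y⁻¹ * u = (u⁻¹ * y * u)⁻¹ := by group
    rw [this]; exact Subgroup.inv_mem _ ihy

/-- An element of `⟨a,b⟩` normalizes `⟨a,b⟩`. -/
theorem conj_mem_closure_of_mem {S : Set Γ} {g : Γ} (hg : g ∈ Subgroup.closure S) :
    ∀ x ∈ Subgroup.closure S, g⁻¹ * x * g ∈ Subgroup.closure S := fun x hx =>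
  Subgroup.mul_mem _ (Subgroup.mul_mem _ (Subgroup.inv_mem _ hg) hx) hg

variable {G : Subgroup Γ} {a τ : Γ} {r : ℕ}

/-- `a` normalizes `Lam0 G a b`. -/
theorem a_conj_mem_Lam0 (h : Hyp G a τ r) (b : Γ) :
    ∀ x ∈ Lam0 G a b, a⁻¹ * x * a ∈ Lam0 G a b := by
  intro x hx
  have hx' : x ∈ Subgroup.closure ({a, b} : Set Γ) ⊓ G := hx
  rw [Subgroup.mem_inf] at hx'
  show a⁻¹ * x * a ∈ Subgroup.closure ({a, b} : Set Γ) ⊓ G
  rw [Subgroup.mem_inf]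
  exact ⟨conj_mem_closure_of_mem (Subgroup.subset_closure (by simp)) x hx'.1, h.hnorm x hx'.2⟩

/-- `b` normalizes `Lam0 G a b` when `b` is a point. -/
theorem b_conj_mem_Lam0 [Finite Γ] (h : Hyp G a τ r) {b : Γ} (hb : IsPt G a b) :
    ∀ x ∈ Lam0 G a b, b⁻¹ * x * b ∈ Lam0 G a b := by
  obtain ⟨g, hg, rfl⟩ := hb
  intro x hx
  have hx' : x ∈ Subgroup.closure ({a, g⁻¹ * a * g} : Set Γ) ⊓ G := hx
  rw [Subgroup.mem_inf] at hx'
  show _ ∈ Subgroup.closure ({a, g⁻¹ * a * g} : Set Γ) ⊓ G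
  rw [Subgroup.mem_inf]
  exact ⟨conj_mem_closure_of_mem (Subgroup.subset_closure (by simp)) x hx'.1,
    (h.conj hg).hnorm x hx'.2⟩

/-- For `u ∈ G` with `u⁻¹ a u = b`: `b⁻¹ a ∈ Lam0 G a b`. -/
theorem inv_mul_mem_Lam0 (h : Hyp G a τ r) {b u : Γ} (huG : u ∈ G) (hub : u⁻¹ * a * u = b) :
    b⁻¹ * a ∈ Lam0 G a b := by
  show b⁻¹ * a ∈ Subgroup.closure ({a, b} : Set Γ) ⊓ G
  rw [Subgroup.mem_inf]
  refine ⟨Subgroup.mul_mem _ (Subgroup.inv_mem _ (Subgroup.subset_closure (by simp)))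
    (Subgroup.subset_closure (by simp)), ?_⟩
  have := h.comm_mem huG
  have e : b⁻¹ * a = u⁻¹ * a⁻¹ * u * a := by rw [← hub]; group
  rw [e]; exact this

/-- (S2), part (i): an involution `u ∈ G` with `u⁻¹ a u = b` normalizes `Lam0 G a b`. -/
theorem u_conj_mem_Lam0 {b u : Γ} (huG : u ∈ G) (hu2 : u * u = 1)
    (hub : u⁻¹ * a * u = b) : ∀ x ∈ Lam0 G a b, u⁻¹ * x * u ∈ Lam0 G a b := by
  have hui : u⁻¹ = u := inv_eq_of_mul_eq_one_right hu2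
  have hba : u⁻¹ * b * u = a := by
    rw [← hub]
    calc u⁻¹ * (u⁻¹ * a * u) * u = (u * u)⁻¹ * a * (u * u) := by group
      _ = a := by rw [hu2]; group
  intro x hx
  have hx' : x ∈ Subgroup.closure ({a, b} : Set Γ) ⊓ G := hx
  rw [Subgroup.mem_inf] at hx'
  show u⁻¹ * x * u ∈ Subgroup.closure ({a, b} : Set Γ) ⊓ G
  rw [Subgroup.mem_inf]
  exact ⟨conj_mem_closure_pair hub hba x hx'.1,
    G.mul_mem (G.mul_mem (G.inv_mem huG) hx'.2) huG⟩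

/-- (S2), part (ii), general form: `X ≤ G` of odd order normalized by `a`, `u` an involution with
`u⁻¹ a⁻¹ u a ∈ X`.  Then some `X`-conjugate of `u` commutes with `a`. -/
theorem exists_conj_commute [Finite Γ] (h : Hyp G a τ r) {X : Subgroup Γ} (hXG : X ≤ G)
    (hodd : Odd (Nat.card X)) (hXa : ∀ x ∈ X, a⁻¹ * x * a ∈ X) {u : Γ} (hu2 : u * u = 1)
    (hcomm : u⁻¹ * a⁻¹ * u * a ∈ X) : ∃ x ∈ X, Commute (x⁻¹ * u * x) a := by
  -- `e := a⁻¹ u a = u * (u⁻¹ a⁻¹ u a)` is an involution in `u X`, hence `X`-conjugate to `u`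
  have he2 : (a⁻¹ * u * a) * (a⁻¹ * u * a) = 1 := by
    calc (a⁻¹ * u * a) * (a⁻¹ * u * a) = a⁻¹ * (u * u) * a := by group
      _ = 1 := by rw [hu2]; group
  obtain ⟨c, hc, -, hce⟩ := Cfsg.Agent.Lib.Helper2.GlFix.involution_coset_conj (X := X) hodd
    (t' := u) hu2 (y := u⁻¹ * a⁻¹ * u * a) (e := a⁻¹ * u * a) (v := 1) hcomm (by group) he2
    (Commute.one_left _) (Commute.one_left _)
  -- the set of `X`-conjugates of `u` is `a`-invariant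
  let S : Set Γ := {s : Γ | ∃ x ∈ X, s = x⁻¹ * u * x}
  have hS : ∀ s ∈ S, a⁻¹ * s * a ∈ S := by
    rintro s ⟨x, hx, rfl⟩
    refine ⟨c * (a⁻¹ * x * a), X.mul_mem hc (hXa x hx), ?_⟩
    calc a⁻¹ * (x⁻¹ * u * x) * a = (a⁻¹ * x * a)⁻¹ * (a⁻¹ * u * a) * (a⁻¹ * x * a) := by group
      _ = (a⁻¹ * x * a)⁻¹ * (c⁻¹ * u * c) * (a⁻¹ * x * a) := by rw [hce]
      _ = (c * (a⁻¹ * x * a))⁻¹ * u * (c * (a⁻¹ * x * a)) := by group
  have hr : ¬ r ∣ S.ncard := by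
    intro hd
    apply h.hcop
    exact dvd_trans hd (dvd_trans (ncard_conj_dvd X u) (Subgroup.card_dvd_of_le hXG))
  obtain ⟨s, ⟨x, hx, rfl⟩, hsa⟩ := Cfsg.Agent.Lib.Helper4.GlFixP1a.fp h S hS hr
  exact ⟨x, hx, hsa⟩

/-- **(S2)**: `Lam0 G a b` of odd order, `u ∈ K` with `u⁻¹ a u = b`.  Then `u` normalizes
`Lam0 G a b`, and there is `x ∈ Lam0 G a b` with `t := x⁻¹ u x ∈ K` commuting with `a`;
moreover `t * u⁻¹ ∈ Lam0 G a b`. -/
theorem S2 [Finite Γ] (h : Hyp G a τ r) {b u : Γ} (hS1 : Odd (Nat.card (Lam0 G a b)))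
    (hu : IsK G τ u) (hub : u⁻¹ * a * u = b) :
    (∀ x ∈ Lam0 G a b, u⁻¹ * x * u ∈ Lam0 G a b) ∧
    ∃ x ∈ Lam0 G a b, IsK G τ (x⁻¹ * u * x) ∧ Commute (x⁻¹ * u * x) a ∧
      (x⁻¹ * u * x) * u⁻¹ ∈ Lam0 G a b := by
  have huG : u ∈ G := hu.mem h
  have hu2 : u * u = 1 := hu.mul_self h
  have hnorm := u_conj_mem_Lam0 (a := a) huG hu2 hub
  refine ⟨hnorm, ?_⟩
  have hXG : Lam0 G a b ≤ G := inf_le_right
  have hcomm : u⁻¹ * a⁻¹ * u * a ∈ Lam0 G a b := by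
    have := inv_mul_mem_Lam0 h huG hub
    have e : b⁻¹ * a = u⁻¹ * a⁻¹ * u * a := by rw [← hub]; group
    rwa [e] at this
  obtain ⟨x, hx, hxa⟩ := exists_conj_commute h hXG hS1 (a_conj_mem_Lam0 h b) hu2 hcomm
  refine ⟨x, hx, hu.conj (hXG hx), hxa, ?_⟩
  -- `x⁻¹ u x u⁻¹ = x⁻¹ * (u x u⁻¹)`
  have hui : u⁻¹ = u := inv_eq_of_mul_eq_one_right hu2
  have h1 : u⁻¹ * x * u ∈ Lam0 G a b := hnorm x hx
  have e : x⁻¹ * u * x * u⁻¹ = x⁻¹ * (u⁻¹ * x * u) := by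
    rw [hui]; group
  rw [e]
  exact (Lam0 G a b).mul_mem ((Lam0 G a b).inv_mem hx) h1

/-- (S2) in the shape suggested for (S5): `∃ t ∈ K_a` with `t * u⁻¹ ∈ Lam0 G a b`. -/
theorem S2' [Finite Γ] (h : Hyp G a τ r) {b u : Γ} (hS1 : Odd (Nat.card (Lam0 G a b)))
    (hu : IsK G τ u) (hub : u⁻¹ * a * u = b) :
    (∀ x ∈ Lam0 G a b, u⁻¹ * x * u ∈ Lam0 G a b) ∧
    ∃ t, IsK G τ t ∧ Commute t a ∧ t * u⁻¹ ∈ Lam0 G a b := by
  obtain ⟨h1, x, _, h2, h3, h4⟩ := S2 h hS1 hu hub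
  exact ⟨h1, _, h2, h3, h4⟩

end Cfsg.Agent.Lib.Helper4.GlFixS2
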