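import Mathlib
import Cfsg.Prelude.Def_ConjugacyFunctors
import Cfsg.Agent.Lib.Helper7.Wielandt1
import Cfsg.Agent.Lib.Lead.CoprimeSylow4

set_option autoImplicit false
open Pointwise

namespace Cfsg.Agent.Lib.Helper4

open Cfsg Cfsg.Agent.Lib.Helper7

variable {G : Type*} [Group G]

theorem relIndex_cj (g : G) (H K : Subgroup G) : (cj g H).relIndex (cj g K) = H.relIndex K :=
  Subgroup.relIndex_map_map_of_injective H K (MulAut.conj g).injective

theorem isPGroup_cj {p : ℕ} (g : G) {H : Subgroup G} (h : IsPGroup p H) : IsPGroup p (cj g H) :=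
  h.map _

/-- a `p`-subgroup `Q` of `N` containing a subgroup `R` of `N` of index prime to `p` equals `R` -/
theorem eq_of_isPGroup_of_relIndex [Finite G] {p : ℕ} [Fact p.Prime] {R Q N : Subgroup G} (hRQ : R ≤ Q) (hQN : Q ≤ N)
    (hQ : IsPGroup p Q) (hR : ¬ p ∣ R.relIndex N) : Q = R := by
  have hp : p.Prime := Fact.out
  have h1 : R.relIndex Q * Q.relIndex N = R.relIndex N := Subgroup.relIndex_mul_relIndex R Q N hRQ hQN
  have h2 : R.relIndex Q ∣ Nat.card Q := Subgroup.relIndex_dvd_card R Q
  obtain ⟨n, hn⟩ := (IsPGroup.iff_card).mp hQ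
  rw [hn] at h2
  obtain ⟨m, _, hm⟩ := (Nat.dvd_prime_pow hp).mp h2
  have h3 : m = 0 := by
    by_contra hne
    apply hR
    rw [← h1, hm]
    exact Dvd.dvd.mul_right (dvd_pow_self p hne) _
  rw [h3, pow_zero] at hm
  exact le_antisymm (Subgroup.relIndex_eq_one.mp hm) hRQ

section tower

variable (p : ℕ) [Fact p.Prime] (W : Subgroup G → Subgroup G) (S : Subgroup G)

/-- the normalizer in `S` of the `i`-th term of the tower of `T` -/
def nS (T : Subgroup G) (i : ℕ) : Subgroup G :=
  S ⊓ Subgroup.normalizer ((functorTower W S T i : Subgroup G) : Set G)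

theorem functorTower_succ (T : Subgroup G) (i : ℕ) :
    functorTower W S T (i + 1) = W (nS W S T i) := rfl

theorem functorTower_zero (T : Subgroup G) : functorTower W S T 0 = T := rfl

theorem nS_le (T : Subgroup G) (i : ℕ) : nS W S T i ≤ S := inf_le_left

variable {p W S}

theorem functorTower_le (hW : IsConjugacyFunctor p W) (hS : IsPGroup p S) {T : Subgroup G} (hT : T ≤ S) (i : ℕ) :
    functorTower W S T i ≤ S := by
  cases i with
  | zero => exact hT
  | succ i =>
    rw [functorTower_succ]
    exact ((hW _ (hS.to_le (nS_le W S T i))).1).trans (nS_le W S T i)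

theorem conj_W_eq (hW : IsConjugacyFunctor p W) {P : Subgroup G} (hP : IsPGroup p P) (g : G) :
    W (cj g P) = cj g (W P) := (hW P hP).2.2 g

/-- the normalizer in `S` of `N_S(U_i)` normalizes `U_{i+1}` -/
theorem normalizer_nS_le (hW : IsConjugacyFunctor p W) (hS : IsPGroup p S) (T : Subgroup G) (i : ℕ) :
    S ⊓ Subgroup.normalizer ((nS W S T i : Subgroup G) : Set G) ≤ nS W S T (i + 1) := by
  intro g hg
  refine ⟨hg.1, ?_⟩
  change g ∈ Subgroup.normalizer ((functorTower W S T (i + 1) : Subgroup G) : Set G)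
  rw [functorTower_succ]
  apply mem_normalizer_iff_cj.mpr
  rw [← conj_W_eq hW (hS.to_le (nS_le W S T i)), mem_normalizer_iff_cj.mp hg.2]

theorem nS_le_succ (hW : IsConjugacyFunctor p W) (hS : IsPGroup p S) (T : Subgroup G) (i : ℕ) :
    nS W S T i ≤ nS W S T (i + 1) := by
  refine le_trans ?_ (normalizer_nS_le hW hS T i)
  exact le_inf (nS_le W S T i) Subgroup.le_normalizer

theorem nS_mono (hW : IsConjugacyFunctor p W) (hS : IsPGroup p S) (T : Subgroup G) {i j : ℕ} (hij : i ≤ j) :
    nS W S T i ≤ nS W S T j := by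
  induction j with
  | zero =>
    have : i = 0 := by omega
    rw [this]
  | succ j ih =>
    by_cases h : i ≤ j
    · exact (ih h).trans (nS_le_succ hW hS T j)
    · have : i = j + 1 := by omega
      rw [this]

theorem nS_lt_succ [Finite G] (hW : IsConjugacyFunctor p W) (hS : IsPGroup p S) (T : Subgroup G) (i : ℕ)
    (h : nS W S T i ≠ S) : nS W S T i < nS W S T (i + 1) := by
  have hlt : nS W S T i < S := lt_of_le_of_ne (nS_le W S T i) h
  exact lt_of_lt_of_le (Cfsg.Agent.Lib.Lead.pgroup_normalizer_grows p S _ hS hlt) (normalizer_nS_le hW hS T i)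

theorem nS_eq_of_eq (hW : IsConjugacyFunctor p W) (hS : IsPGroup p S) (T : Subgroup G) {i j : ℕ} (hij : i ≤ j)
    (h : nS W S T i = S) : nS W S T j = S :=
  le_antisymm (nS_le W S T j) (by
    have := nS_mono hW hS T hij
    rwa [h] at this)

theorem card_nS_ge [Finite G] (hW : IsConjugacyFunctor p W) (hS : IsPGroup p S) (T : Subgroup G) (i : ℕ) :
    nS W S T i = S ∨ i + 1 ≤ Nat.card (nS W S T i) := by
  induction i with
  | zero =>
    right
    exact Nat.card_pos
  | succ i ih =>
    rcases ih with h | h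
    · left; exact nS_eq_of_eq hW hS T (Nat.le_succ i) h
    · by_cases h' : nS W S T i = S
      · left; exact nS_eq_of_eq hW hS T (Nat.le_succ i) h'
      · right
        have hlt := nS_lt_succ hW hS T i h'
        have : Nat.card (nS W S T i) < Nat.card (nS W S T (i + 1)) := by
          by_contra hcon
          push Not at hcon
          have := Subgroup.eq_of_le_of_card_ge hlt.le hcon
          exact hlt.ne this
        omega

theorem nS_eq_of_card_le [Finite G] (hW : IsConjugacyFunctor p W) (hS : IsPGroup p S) (T : Subgroup G) (i : ℕ)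
    (hi : Nat.card S ≤ i) : nS W S T i = S := by
  rcases card_nS_ge hW hS T i with h | h
  · exact h
  · exfalso
    have := Subgroup.card_le_of_le (nS_le W S T i)
    omega

/-- if `N_S(U_i) = S` and `S` has index prime to `p` in `G`, the level `i` condition holds -/
theorem level_of_nS_eq [Finite G] (T : Subgroup G) (i : ℕ) (hSi : ¬ p ∣ S.index) (h : nS W S T i = S) :
    ¬ p ∣ (nS W S T i).relIndex (Subgroup.normalizer ((functorTower W S T i : Subgroup G) : Set G)) := by
  rw [h]
  intro hdvd
  apply hSi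
  have hle : S ≤ Subgroup.normalizer ((functorTower W S T i : Subgroup G) : Set G) := by
    have h' : nS W S T i ≤ Subgroup.normalizer ((functorTower W S T i : Subgroup G) : Set G) :=
      inf_le_right
    rwa [h] at h'
  exact hdvd.trans (Subgroup.relIndex_dvd_index_of_le hle)

end tower

/-- every subgroup `U` of a Sylow subgroup `S` has an extremal conjugate, reached by an element carrying `N_S(U)` into `S` -/
theorem exists_extremal_conj [Finite G] {p : ℕ} [Fact p.Prime] (S : Sylow p G) (U : Subgroup G)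
    (hU : U ≤ (S : Subgroup G)) :
    ∃ x : G, cj x U ≤ (S : Subgroup G) ∧
      ¬ p ∣ ((S : Subgroup G) ⊓ Subgroup.normalizer ((cj x U : Subgroup G) : Set G)).relIndex
        (Subgroup.normalizer ((cj x U : Subgroup G) : Set G)) ∧
      cj x ((S : Subgroup G) ⊓ Subgroup.normalizer (U : Set G)) ≤
        (S : Subgroup G) ⊓ Subgroup.normalizer ((cj x U : Subgroup G) : Set G) := by
  set N := Subgroup.normalizer (U : Set G) with hN
  have hNSp : IsPGroup p (((S : Subgroup G) ⊓ N).subgroupOf N) :=
    (S.isPGroup'.to_le inf_le_left).comap_subtype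
  obtain ⟨R, hR⟩ := hNSp.exists_le_sylow
  set Rg : Subgroup G := (R : Subgroup N).map N.subtype with hRg
  have hRgN : Rg ≤ N := by
    rintro _ ⟨r, _, rfl⟩
    exact r.2
  have hRgp : IsPGroup p Rg := R.isPGroup'.map _
  have hNSRg : (S : Subgroup G) ⊓ N ≤ Rg := by
    intro g hg
    exact ⟨⟨g, hg.2⟩, hR (by exact hg), rfl⟩
  have hRgidx : ¬ p ∣ Rg.relIndex N := by
    have : Rg.subgroupOf N = (R : Subgroup N) := by
      rw [hRg]
      exact Subgroup.comap_map_eq_self_of_injective N.subtype_injective _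
    unfold Subgroup.relIndex
    rw [this]
    exact R.not_dvd_index
  obtain ⟨S', hS'⟩ := hRgp.exists_le_sylow
  obtain ⟨y, hy⟩ := MulAction.exists_smul_eq G S S'
  -- x = y⁻¹
  have hxRg : cj y⁻¹ Rg ≤ (S : Subgroup G) := by
    intro g hg
    rw [mem_cj] at hg
    have h1 := hS' hg
    rw [← hy] at h1
    have h2 : y⁻¹⁻¹ * g * y⁻¹ ∈ MulAut.conj y • (S : Subgroup G) := by
      rw [← Sylow.pointwise_smul_def]; exact h1
    rw [Subgroup.mem_pointwise_smul_iff_inv_smul_mem] at h2
    have h3 : y⁻¹ * (y⁻¹⁻¹ * g * y⁻¹) * y ∈ (S : Subgroup G) := by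
      simpa [MulAut.smul_def, mul_assoc] using h2
    have e : y⁻¹ * (y⁻¹⁻¹ * g * y⁻¹) * y = g := by group
    rwa [e] at h3
  have hUNS : U ≤ (S : Subgroup G) ⊓ N := le_inf hU Subgroup.le_normalizer
  have hnorm : Subgroup.normalizer ((cj y⁻¹ U : Subgroup G) : Set G) = cj y⁻¹ N := normalizer_cj y⁻¹ U
  have hle : cj y⁻¹ Rg ≤ (S : Subgroup G) ⊓ Subgroup.normalizer ((cj y⁻¹ U : Subgroup G) : Set G) := by
    rw [hnorm]
    exact le_inf hxRg (cj_mono _ hRgN)
  have hidx' : ¬ p ∣ (cj y⁻¹ Rg).relIndex (Subgroup.normalizer ((cj y⁻¹ U : Subgroup G) : Set G)) := by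
    rw [hnorm, relIndex_cj]; exact hRgidx
  have heq : (S : Subgroup G) ⊓ Subgroup.normalizer ((cj y⁻¹ U : Subgroup G) : Set G) = cj y⁻¹ Rg :=
    eq_of_isPGroup_of_relIndex hle inf_le_right (S.isPGroup'.to_le inf_le_left) hidx'
  refine ⟨y⁻¹, ?_, ?_, ?_⟩
  · exact (cj_mono _ (hUNS.trans hNSRg)).trans hxRg
  · rw [heq]; exact hidx'
  · rw [heq]; exact cj_mono _ hNSRg

/-- the tower of `T` satisfies the Sylow condition at all levels below `k` -/
def GoodUpTo (p : ℕ) (W : Subgroup G → Subgroup G) (S T : Subgroup G) (k : ℕ) : Prop :=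
  T ≤ S ∧ ∀ i < k, ¬ p ∣ (nS W S T i).relIndex
    (Subgroup.normalizer ((functorTower W S T i : Subgroup G) : Set G))

theorem goodUpTo_step [Finite G] {p : ℕ} [Fact p.Prime] (S : Sylow p G) {W : Subgroup G → Subgroup G}
    (hW : IsConjugacyFunctor p W) (T : Subgroup G) (k : ℕ) (h : GoodUpTo p W (S : Subgroup G) T k) :
    ∃ g : G, GoodUpTo p W (S : Subgroup G) (cj g T) (k + 1) := by
  have hS : IsPGroup p (S : Subgroup G) := S.isPGroup'
  by_cases hk : ¬ p ∣ (nS W (S : Subgroup G) T k).relIndex
      (Subgroup.normalizer ((functorTower W (S : Subgroup G) T k : Subgroup G) : Set G))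
  · refine ⟨1, ?_⟩
    rw [cj_one]
    refine ⟨h.1, ?_⟩
    intro i hi
    by_cases hik : i < k
    · exact h.2 i hik
    · have : i = k := by omega
      rw [this]; exact hk
  · set U := functorTower W (S : Subgroup G) T k with hUdef
    have hUS : U ≤ (S : Subgroup G) := functorTower_le hW hS h.1 k
    obtain ⟨x, hx1, hx2, hx3⟩ := exists_extremal_conj S U hUS
    have hx3' : cj x (nS W (S : Subgroup G) T k) ≤ (S : Subgroup G) :=
      hx3.trans inf_le_left
    -- Claim B
    have claimB : ∀ i < k, functorTower W (S : Subgroup G) (cj x T) i = cj x (functorTower W (S : Subgroup G) T i) →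
        nS W (S : Subgroup G) (cj x T) i = cj x (nS W (S : Subgroup G) T i) := by
      intro i hi htw
      have hnorm : Subgroup.normalizer ((functorTower W (S : Subgroup G) (cj x T) i : Subgroup G) : Set G) =
          cj x (Subgroup.normalizer ((functorTower W (S : Subgroup G) T i : Subgroup G) : Set G)) := by
        rw [htw]; exact normalizer_cj x _
      apply eq_of_isPGroup_of_relIndex (p := p) (N := Subgroup.normalizer
        ((functorTower W (S : Subgroup G) (cj x T) i : Subgroup G) : Set G))
      · apply le_inf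
        · exact (cj_mono x (nS_mono (p := p) hW hS T hi.le)).trans hx3'
        · rw [hnorm]; exact cj_mono x inf_le_right
      · exact inf_le_right
      · exact hS.to_le inf_le_left
      · rw [hnorm]
        have : cj x (nS W (S : Subgroup G) T i) = cj x (nS W (S : Subgroup G) T i) := rfl
        rw [relIndex_cj]
        exact h.2 i hi
    -- Claim A
    have claimA : ∀ i ≤ k, functorTower W (S : Subgroup G) (cj x T) i =
        cj x (functorTower W (S : Subgroup G) T i) := by
      intro i
      induction i with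
      | zero => intro _; rfl
      | succ i ih =>
        intro hi
        have hi' : i < k := by omega
        rw [functorTower_succ, functorTower_succ, claimB i hi' (ih hi'.le)]
        exact conj_W_eq hW (hS.to_le (nS_le W _ T i)) x
    refine ⟨x, ?_, ?_⟩
    · have h1 : T ≤ nS W (S : Subgroup G) T 0 := le_inf h.1 Subgroup.le_normalizer
      exact (cj_mono x (h1.trans (nS_mono (p := p) hW hS T (Nat.zero_le k)))).trans hx3'
    · intro i hi
      by_cases hik : i < k
      · have htw := claimA i hik.le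
        rw [claimB i hik htw, htw, normalizer_cj, relIndex_cj]
        exact h.2 i hik
      · have hik' : i = k := by omega
        rw [hik']
        have htw := claimA k le_rfl
        unfold nS
        rw [htw]
        exact hx2

theorem exists_goodUpTo [Finite G] {p : ℕ} [Fact p.Prime] (S : Sylow p G) {W : Subgroup G → Subgroup G}
    (hW : IsConjugacyFunctor p W) (T : Subgroup G) (hT : T ≤ (S : Subgroup G)) (k : ℕ) :
    ∃ g : G, GoodUpTo p W (S : Subgroup G) (cj g T) k := by
  induction k with
  | zero =>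
    refine ⟨1, ?_, ?_⟩
    · rw [cj_one]; exact hT
    · intro i hi; omega
  | succ k ih =>
    obtain ⟨g, hg⟩ := ih
    obtain ⟨g', hg'⟩ := goodUpTo_step S hW (cj g T) k hg
    refine ⟨g' * g, ?_⟩
    rw [cj_mul]; exact hg'

theorem exists_wellPlaced_conj [Finite G] {p : ℕ} [Fact p.Prime] (S : Sylow p G) {W : Subgroup G → Subgroup G}
    (hW : IsConjugacyFunctor p W) (T : Subgroup G) (hT : T ≤ (S : Subgroup G)) :
    ∃ g : G, IsWellPlaced p W (S : Subgroup G) (cj g T) := by
  obtain ⟨g, hg⟩ := exists_goodUpTo S hW T hT (Nat.card (S : Subgroup G))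
  refine ⟨g, hg.1, ?_⟩
  intro i
  by_cases hi : i < Nat.card (S : Subgroup G)
  · exact hg.2 i hi
  · push Not at hi
    exact level_of_nS_eq (cj g T) i S.not_dvd_index (nS_eq_of_card_le hW S.isPGroup' (cj g T) i hi)

end Cfsg.Agent.Lib.Helper4
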