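import Mathlib
import Cfsg.Prelude.Def_ConjugacyFunctors
import Cfsg.Agent.Lib.Helper4.WellPlaced
import Cfsg.Agent.S2014

set_option autoImplicit false
open Pointwise

namespace Cfsg.Agent.Lib.Helper4

open Cfsg Cfsg.Agent.Lib.Helper7

variable {G : Type*} [Group G]

/-- right conjugation of a set: `A^g = g⁻¹ A g` -/
def cs (g : G) (A : Set G) : Set G := (fun a => g⁻¹ * a * g) '' A

theorem mem_cs {g x : G} {A : Set G} : x ∈ cs g A ↔ g * x * g⁻¹ ∈ A := by
  constructor
  · rintro ⟨a, ha, rfl⟩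
    have : g * (g⁻¹ * a * g) * g⁻¹ = a := by group
    rw [this]; exact ha
  · intro h
    exact ⟨g * x * g⁻¹, h, by group⟩

theorem cs_one (A : Set G) : cs 1 A = A := by
  ext x; rw [mem_cs]; simp

theorem cs_mul (g h : G) (A : Set G) : cs (g * h) A = cs h (cs g A) := by
  ext x
  rw [mem_cs, mem_cs, mem_cs]
  have : g * h * x * (g * h)⁻¹ = g * (h * x * h⁻¹) * g⁻¹ := by group
  rw [this]

theorem cs_mono (g : G) {A B : Set G} (h : A ⊆ B) : cs g A ⊆ cs g B := Set.image_mono h

theorem cs_inv_cs (g : G) (A : Set G) : cs g⁻¹ (cs g A) = A := by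
  rw [← cs_mul, mul_inv_cancel, cs_one]

theorem cs_cs_inv (g : G) (A : Set G) : cs g (cs g⁻¹ A) = A := by
  rw [← cs_mul, inv_mul_cancel, cs_one]

theorem cs_subgroup (g : G) (P : Subgroup G) : cs g (P : Set G) = ((cj g⁻¹ P : Subgroup G) : Set G) := by
  ext x
  rw [mem_cs, SetLike.mem_coe, SetLike.mem_coe, mem_cj, inv_inv]

theorem cs_subset_of_mem_normalizer {x : G} {T : Subgroup G} (hx : x ∈ Subgroup.normalizer (T : Set G))
    {A : Set G} (hA : A ⊆ T) : cs x A ⊆ T := by
  intro y hy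
  rw [mem_cs] at hy
  have h1 := hA hy
  have h2 := (Subgroup.mem_normalizer_iff.mp (Subgroup.inv_mem _ hx) (x * y * x⁻¹)).mp h1
  have e : x⁻¹ * (x * y * x⁻¹) * x⁻¹⁻¹ = y := by group
  rwa [e] at h2

/-- `Via 𝓕 A g`: the conjugation of `A` by `g` decomposes into steps inside normalizers of members of `𝓕` -/
inductive Via (𝓕 : Set (Subgroup G)) : Set G → G → Prop
  | nil (A : Set G) : Via 𝓕 A 1
  | cons (A : Set G) (T : Subgroup G) (x g : G) : T ∈ 𝓕 → x ∈ Subgroup.normalizer (T : Set G) →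
      A ⊆ T → Via 𝓕 (cs x A) g → Via 𝓕 A (x * g)

variable {𝓕 : Set (Subgroup G)}

theorem Via.single {A : Set G} {T : Subgroup G} {x : G} (hT : T ∈ 𝓕)
    (hx : x ∈ Subgroup.normalizer (T : Set G)) (hA : A ⊆ T) : Via 𝓕 A x := by
  have := Via.cons A T x 1 hT hx hA (Via.nil _)
  rwa [mul_one] at this

theorem Via.trans {A : Set G} {g h : G} (h1 : Via 𝓕 A g) (h2 : Via 𝓕 (cs g A) h) : Via 𝓕 A (g * h) := by
  induction h1 generalizing h with
  | nil A =>
    rw [one_mul]
    rwa [cs_one] at h2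
  | cons A T x g hT hx hA _ ih =>
    rw [mul_assoc]
    apply Via.cons A T x (g * h) hT hx hA
    apply ih
    rwa [cs_mul] at h2

theorem Via.mono {A B : Set G} {g : G} (h1 : Via 𝓕 A g) (hBA : B ⊆ A) : Via 𝓕 B g := by
  induction h1 generalizing B with
  | nil A => exact Via.nil _
  | cons A T x g hT hx hA _ ih =>
    exact Via.cons B T x g hT hx (hBA.trans hA) (ih (cs_mono x hBA))

theorem Via.symm {A : Set G} {g : G} (h1 : Via 𝓕 A g) : Via 𝓕 (cs g A) g⁻¹ := by
  induction h1 with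
  | nil A =>
    rw [inv_one]; exact Via.nil _
  | cons A T x g hT hx hA _ ih =>
    rw [mul_inv_rev, cs_mul]
    apply Via.trans ih
    rw [cs_inv_cs]
    exact Via.single hT (Subgroup.inv_mem _ hx) (cs_subset_of_mem_normalizer hx hA)

/-- conversion to the indexed form used in `IsConjugationFamily` -/
theorem Via.exists_fin {A : Set G} {g : G} (h1 : Via 𝓕 A g) :
    ∃ (n : ℕ) (T : Fin n → Subgroup G) (x : Fin n → G), (List.ofFn x).prod = g ∧
      (∀ i, T i ∈ 𝓕) ∧ (∀ i, x i ∈ Subgroup.normalizer ((T i : Subgroup G) : Set G)) ∧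
      (∀ h : 0 < n, A ⊆ T ⟨0, h⟩) ∧
      ∀ (i : Fin n) (h : i.val + 1 < n),
        (fun a => (((List.ofFn x).take (i.val + 1)).prod)⁻¹ * a * ((List.ofFn x).take (i.val + 1)).prod) '' A ⊆
          T ⟨i.val + 1, h⟩ := by
  induction h1 with
  | nil A =>
    refine ⟨0, Fin.elim0, Fin.elim0, by simp, fun i => i.elim0, fun i => i.elim0, ?_, fun i => i.elim0⟩
    intro h; omega
  | cons A T x g hT hx hA _ ih =>
    obtain ⟨n, Ts, xs, hprod, hTs, hxs, h0, hstep⟩ := ih
    refine ⟨n + 1, Fin.cons T Ts, Fin.cons x xs, ?_, ?_, ?_, ?_, ?_⟩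
    · rw [List.ofFn_succ]
      simp only [Fin.cons_zero, Fin.cons_succ, List.prod_cons]
      rw [hprod]
    · intro i
      refine Fin.cases ?_ (fun j => ?_) i
      · simpa using hT
      · simpa using hTs j
    · intro i
      refine Fin.cases ?_ (fun j => ?_) i
      · simpa using hx
      · simpa using hxs j
    · intro _
      exact hA
    · intro i hi
      have hlist : List.ofFn (Fin.cons x xs : Fin (n + 1) → G) = x :: List.ofFn xs := by
        rw [List.ofFn_succ]; simp
      rw [hlist, List.take_succ_cons, List.prod_cons]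
      have hTi : (Fin.cons T Ts : Fin (n + 1) → Subgroup G) ⟨i.val + 1, hi⟩ = Ts ⟨i.val, by omega⟩ := by
        have : (⟨i.val + 1, hi⟩ : Fin (n + 1)) = Fin.succ ⟨i.val, by omega⟩ := rfl
        rw [this, Fin.cons_succ]
      rw [hTi]
      by_cases hi0 : i.val = 0
      · -- take 0
        have htake : List.take i.val (List.ofFn xs) = [] := by rw [hi0]; rfl
        rw [htake, List.prod_nil, mul_one]
        have hn : 0 < n := by omega
        have := h0 hn
        have e : (⟨i.val, by omega⟩ : Fin n) = ⟨0, hn⟩ := by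
          apply Fin.ext; exact hi0
        rw [e]
        exact this
      · obtain ⟨j, hj⟩ : ∃ j, i.val = j + 1 := ⟨i.val - 1, by omega⟩
        have hjn : j + 1 < n := by omega
        have := hstep ⟨j, by omega⟩ hjn
        have e : (⟨i.val, by omega⟩ : Fin n) = ⟨j + 1, hjn⟩ := by
          apply Fin.ext; exact hj
        rw [e, hj]
        intro y hy
        obtain ⟨a, ha, rfl⟩ := hy
        apply this
        refine ⟨x⁻¹ * a * x, ⟨a, ha, rfl⟩, ?_⟩
        simp only [mul_inv_rev, mul_assoc]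

theorem mem_normalizer_of_cs_eq [Finite G] {m : G} {U : Subgroup G} (h : cs m (U : Set G) = U) :
    m ∈ Subgroup.normalizer (U : Set G) := by
  rw [cs_subgroup] at h
  have h1 : cj m⁻¹ U = U := SetLike.coe_injective h
  have h2 : m⁻¹ ∈ Subgroup.normalizer (U : Set G) := mem_normalizer_iff_cj.mpr h1
  simpa using Subgroup.inv_mem _ h2

/-- Alperin's fusion theorem (Goldschmidt / Glauberman form) for subgroups -/
theorem alperin_subgroup [Finite G] {p : ℕ} [Fact p.Prime] (S : Sylow p G) (𝓕 : Set (Subgroup G))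
    (h𝓕 : ∀ U ∈ 𝓕, U ≤ (S : Subgroup G))
    (h : ∀ T : Subgroup G, T ≤ (S : Subgroup G) → ∃ U ∈ 𝓕, (∃ g : G, cj g T = U) ∧
      ¬ p ∣ ((S : Subgroup G) ⊓ Subgroup.normalizer ((U : Subgroup G) : Set G)).relIndex
        (Subgroup.normalizer ((U : Subgroup G) : Set G))) :
    ∀ d : ℕ, ∀ P : Subgroup G, P ≤ (S : Subgroup G) → Nat.card (S : Subgroup G) - Nat.card P = d →
      ∀ g : G, cs g (P : Set G) ⊆ (S : Subgroup G) → Via 𝓕 (P : Set G) g := by
  have hSp : IsPGroup p (S : Subgroup G) := S.isPGroup'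
  -- S ∈ 𝓕
  have hS𝓕 : (S : Subgroup G) ∈ 𝓕 := by
    obtain ⟨U, hU, ⟨c, hc⟩, _⟩ := h (S : Subgroup G) le_rfl
    have h1 : cj c (S : Subgroup G) ≤ (S : Subgroup G) := by rw [hc]; exact h𝓕 U hU
    have h2 := cj_eq_of_le h1
    rw [hc] at h2
    rw [← h2]; exact hU
  intro d
  induction d using Nat.strong_induction_on with
  | _ d ih =>
  intro P hPS hd g hg
  by_cases hPeq : P = (S : Subgroup G)
  · -- top case
    have h1 : cs g ((S : Subgroup G) : Set G) = (S : Subgroup G) := by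
      rw [cs_subgroup]
      have h2 : cj g⁻¹ (S : Subgroup G) ≤ (S : Subgroup G) := by
        intro x hx
        apply hg
        rw [hPeq, cs_subgroup]
        exact hx
      rw [cj_eq_of_le h2]
    rw [hPeq]
    exact Via.single hS𝓕 (mem_normalizer_of_cs_eq h1) le_rfl
  · have hPlt : P < (S : Subgroup G) := lt_of_le_of_ne hPS hPeq
    set Q : Subgroup G := cj g⁻¹ P with hQdef
    have hQcs : cs g (P : Set G) = Q := cs_subgroup g P
    have hQS : Q ≤ (S : Subgroup G) := by
      intro x hx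
      apply hg
      rw [hQcs]; exact hx
    have hQcard : Nat.card Q = Nat.card P := card_cj g⁻¹ P
    have hQlt : Q < (S : Subgroup G) := by
      refine lt_of_le_of_ne hQS ?_
      intro hQeq
      apply hPeq
      apply Subgroup.eq_of_le_of_card_ge hPS
      rw [← hQcard, hQeq]
    obtain ⟨U, hU, ⟨c, hc⟩, hext⟩ := h P hPS
    have hUS : U ≤ (S : Subgroup G) := h𝓕 U hU
    obtain ⟨g₁, hg₁U, hg₁N, _⟩ := Cfsg.Agent.S2014.result p S P U hPS hUS hext c hc
    have hcQ : cj (c * g) Q = U := by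
      rw [hQdef, cj_mul, cj_cj_inv, hc]
    obtain ⟨g₂, hg₂U, hg₂N, _⟩ := Cfsg.Agent.S2014.result p S Q U hQS hUS hext (c * g) hcQ
    -- induction hypothesis for the normalizers
    set NP := (S : Subgroup G) ⊓ Subgroup.normalizer (P : Set G) with hNP
    set NQ := (S : Subgroup G) ⊓ Subgroup.normalizer (Q : Set G) with hNQ
    have hNPlt : P < NP := Cfsg.Agent.Lib.Lead.pgroup_normalizer_grows p _ P hSp hPlt
    have hNQlt : Q < NQ := Cfsg.Agent.Lib.Lead.pgroup_normalizer_grows p _ Q hSp hQlt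
    have hcardlt : ∀ {A B : Subgroup G}, A < B → Nat.card A < Nat.card B := by
      intro A B hAB
      by_contra hcon
      push Not at hcon
      exact hAB.ne (Subgroup.eq_of_le_of_card_ge hAB.le hcon)
    have hPcardS : Nat.card P < Nat.card (S : Subgroup G) := hcardlt hPlt
    have hNPle : Nat.card NP ≤ Nat.card (S : Subgroup G) := Subgroup.card_le_of_le inf_le_left
    have hNQle : Nat.card NQ ≤ Nat.card (S : Subgroup G) := Subgroup.card_le_of_le inf_le_left
    have hviaNP : Via 𝓕 (NP : Set G) g₁⁻¹ := by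
      apply ih (Nat.card (S : Subgroup G) - Nat.card NP) _ NP inf_le_left rfl
      · rw [cs_subgroup, inv_inv]
        intro x hx
        exact (hg₁N hx).1
      · have := hcardlt hNPlt
        omega
    have hviaNQ : Via 𝓕 (NQ : Set G) g₂⁻¹ := by
      apply ih (Nat.card (S : Subgroup G) - Nat.card NQ) _ NQ inf_le_left rfl
      · rw [cs_subgroup, inv_inv]
        intro x hx
        exact (hg₂N hx).1
      · have := hcardlt hNQlt
        omega
    have hviaP : Via 𝓕 (P : Set G) g₁⁻¹ := hviaNP.mono (by exact_mod_cast hNPlt.le)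
    have hviaQ : Via 𝓕 (Q : Set G) g₂⁻¹ := hviaNQ.mono (by exact_mod_cast hNQlt.le)
    have hcsP : cs g₁⁻¹ (P : Set G) = U := by
      rw [cs_subgroup, inv_inv]
      exact congrArg _ hg₁U
    have hcsQ : cs g₂⁻¹ (Q : Set G) = U := by
      rw [cs_subgroup, inv_inv]
      exact congrArg _ hg₂U
    have hviaU : Via 𝓕 (U : Set G) g₂ := by
      have := hviaQ.symm
      rwa [hcsQ, inv_inv] at this
    -- the middle element
    set m : G := g₁ * g * g₂⁻¹ with hm
    have hmU : cs m (U : Set G) = U := by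
      rw [hm, cs_mul, cs_mul, ← hcsP, cs_cs_inv, hQcs, hcsQ, hcsP]
    have hmN : m ∈ Subgroup.normalizer (U : Set G) := mem_normalizer_of_cs_eq hmU
    have hviam : Via 𝓕 (U : Set G) m := Via.single hU hmN le_rfl
    have h1 : Via 𝓕 (P : Set G) (g₁⁻¹ * m) := by
      apply Via.trans hviaP
      rw [hcsP]; exact hviam
    have h2 : Via 𝓕 (P : Set G) (g₁⁻¹ * m * g₂) := by
      apply Via.trans h1
      rw [cs_mul, hcsP, hmU]
      exact hviaU
    have e : g₁⁻¹ * m * g₂ = g := by rw [hm]; group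
    rwa [e] at h2

/-- Alperin's fusion theorem: a family containing an extremal conjugate of every subgroup of `S` is a conjugation family -/
theorem isConjugationFamily_of_extremal [Finite G] {p : ℕ} [Fact p.Prime] (S : Sylow p G) (𝓕 : Set (Subgroup G))
    (h𝓕 : ∀ U ∈ 𝓕, U ≤ (S : Subgroup G))
    (h : ∀ T : Subgroup G, T ≤ (S : Subgroup G) → ∃ U ∈ 𝓕, (∃ g : G, cj g T = U) ∧
      ¬ p ∣ ((S : Subgroup G) ⊓ Subgroup.normalizer ((U : Subgroup G) : Set G)).relIndex
        (Subgroup.normalizer ((U : Subgroup G) : Set G))) :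
    IsConjugationFamily 𝓕 (S : Subgroup G) := by
  refine ⟨h𝓕, ?_⟩
  intro A g _ hAS hAg
  set P := Subgroup.closure A with hP
  have hPS : P ≤ (S : Subgroup G) := (Subgroup.closure_le _).mpr hAS
  have hPg : cs g (P : Set G) ⊆ (S : Subgroup G) := by
    rw [cs_subgroup]
    have h1 : A ⊆ ((cj g (S : Subgroup G) : Subgroup G) : Set G) := by
      intro a ha
      rw [SetLike.mem_coe, mem_cj]
      exact hAg ⟨a, ha, rfl⟩
    have h2 : P ≤ cj g (S : Subgroup G) := (Subgroup.closure_le _).mpr h1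
    have h3 := cj_mono g⁻¹ h2
    rw [cj_inv_cj] at h3
    exact h3
  have hvia := alperin_subgroup S 𝓕 h𝓕 h _ P hPS rfl g hPg
  exact (hvia.mono Subgroup.subset_closure).exists_fin

/-- Alperin's fusion theorem for subsets, in `Via` form -/
theorem alperin_set [Finite G] {p : ℕ} [Fact p.Prime] (S : Sylow p G) (𝓕 : Set (Subgroup G))
    (h𝓕 : ∀ U ∈ 𝓕, U ≤ (S : Subgroup G))
    (h : ∀ T : Subgroup G, T ≤ (S : Subgroup G) → ∃ U ∈ 𝓕, (∃ g : G, cj g T = U) ∧
      ¬ p ∣ ((S : Subgroup G) ⊓ Subgroup.normalizer ((U : Subgroup G) : Set G)).relIndex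
        (Subgroup.normalizer ((U : Subgroup G) : Set G)))
    (A : Set G) (g : G) (hAS : A ⊆ (S : Subgroup G)) (hAg : cs g A ⊆ (S : Subgroup G)) :
    Via 𝓕 A g := by
  set P := Subgroup.closure A with hP
  have hPS : P ≤ (S : Subgroup G) := (Subgroup.closure_le _).mpr hAS
  have hPg : cs g (P : Set G) ⊆ (S : Subgroup G) := by
    rw [cs_subgroup]
    have h1 : A ⊆ ((cj g (S : Subgroup G) : Subgroup G) : Set G) := by
      intro a ha
      rw [SetLike.mem_coe, mem_cj]
      exact hAg ⟨a, ha, rfl⟩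
    have h2 : P ≤ cj g (S : Subgroup G) := (Subgroup.closure_le _).mpr h1
    have h3 := cj_mono g⁻¹ h2
    rw [cj_inv_cj] at h3
    exact h3
  have hvia := alperin_subgroup S 𝓕 h𝓕 h _ P hPS rfl g hPg
  exact hvia.mono Subgroup.subset_closure

/-- the well-placed subgroups satisfy the hypotheses of Alperin's theorem -/
theorem alperin_wellPlaced [Finite G] {p : ℕ} [Fact p.Prime] (S : Sylow p G) {W : Subgroup G → Subgroup G}
    (hW : IsConjugacyFunctor p W) (A : Set G) (g : G) (hAS : A ⊆ (S : Subgroup G))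
    (hAg : cs g A ⊆ (S : Subgroup G)) :
    Via {T : Subgroup G | IsWellPlaced p W (S : Subgroup G) T} A g := by
  apply alperin_set S _ _ _ A g hAS hAg
  · intro U hU
    exact hU.1
  · intro T hT
    obtain ⟨g, hg⟩ := exists_wellPlaced_conj S hW T hT
    exact ⟨_, hg, ⟨g, rfl⟩, hg.2 0⟩

end Cfsg.Agent.Lib.Helper4
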