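import Mathlib
import Cfsg.Prelude.Def_ConjugacyFunctors
import Cfsg.Agent.Lib.Helper4.Alperin
import Cfsg.Agent.Lib.Lead.HallTools

set_option autoImplicit false
open Pointwise

namespace Cfsg.Agent.Lib.Helper4

open Cfsg Cfsg.Agent.Lib.Helper7

variable {G : Type*} [Group G]

theorem conj_smul_eq_cj (g : G) (H : Subgroup G) : MulAut.conj g • H = cj g H := rfl

/-- Sylow's conjugacy theorem, relative to a subgroup `H` -/
theorem sylow_conj_rel [Finite G] {p : ℕ} [Fact p.Prime] {H T R : Subgroup G} (hT : T ≤ H)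
    (hTp : IsPGroup p T) (hTi : ¬ p ∣ T.relIndex H) (hR : R ≤ H) (hRp : IsPGroup p R)
    (hRi : ¬ p ∣ R.relIndex H) : ∃ y ∈ H, cj y T = R := by
  have hT' : IsPGroup p (T.subgroupOf H) := hTp.comap_subtype
  have hR' : IsPGroup p (R.subgroupOf H) := hRp.comap_subtype
  have hTi' : ¬ p ∣ (T.subgroupOf H).index := hTi
  have hRi' : ¬ p ∣ (R.subgroupOf H).index := hRi
  set PT : Sylow p H := hT'.toSylow hTi' with hPT
  set PR : Sylow p H := hR'.toSylow hRi' with hPR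
  obtain ⟨y, hy⟩ := MulAction.exists_smul_eq H PT PR
  have h1 : MulAut.conj y • T.subgroupOf H = R.subgroupOf H := by
    have h2 : ((y • PT : Sylow p H) : Subgroup H) = (PR : Subgroup H) := by rw [hy]
    have h3 : ((y • PT : Sylow p H) : Subgroup H) = MulAut.conj y • (PT : Subgroup H) :=
      Sylow.pointwise_smul_def
    rw [h3, hPT, hPR, IsPGroup.toSylow_coe, IsPGroup.toSylow_coe] at h2
    exact h2
  obtain ⟨g, hgH, hg⟩ := Cfsg.Agent.Lib.Lead.conj_of_conj_subgroupOf hT hR ⟨y, h1⟩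
  exact ⟨g, hgH, hg⟩

/-- the control condition relative to a specified Sylow subgroup `R` of `H` -/
def CSFWith (W : Subgroup G → Subgroup G) (H R : Subgroup G) : Prop :=
  ∀ (A : Set G) (h : G), h ∈ H → A ⊆ R → (fun a => h * a * h⁻¹) '' A ⊆ R →
    ∃ x ∈ H ⊓ Subgroup.normalizer ((W R : Subgroup G) : Set G), ∀ a ∈ A, x * a * x⁻¹ = h * a * h⁻¹

theorem csfWith_of_controls [Finite G] {p : ℕ} [Fact p.Prime] {W : Subgroup G → Subgroup G}
    (hW : IsConjugacyFunctor p W) {H : Subgroup G} (hc : ControlsStrongFusionIn p W H)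
    {R : Subgroup G} (hR : R ≤ H) (hRp : IsPGroup p R) (hRi : ¬ p ∣ R.relIndex H) :
    CSFWith W H R := by
  obtain ⟨T, hT, hTp, hTi, hctl⟩ := hc
  obtain ⟨y, hyH, hy⟩ := sylow_conj_rel hT hTp hTi hR hRp hRi
  intro A h hh hAR hAh
  -- conjugate back to T
  set A' : Set G := (fun a => y⁻¹ * a * y) '' A with hA'
  set h' : G := y⁻¹ * h * y with hh'
  have hmemT : ∀ r ∈ R, y⁻¹ * r * y ∈ T := by
    intro r hr
    rw [← hy, mem_cj] at hr
    exact hr
  have hA'T : A' ⊆ T := by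
    rintro _ ⟨a, ha, rfl⟩
    exact hmemT a (hAR ha)
  have hh'H : h' ∈ H := H.mul_mem (H.mul_mem (H.inv_mem hyH) hh) hyH
  have hA'h : (fun a => h' * a * h'⁻¹) '' A' ⊆ T := by
    rintro _ ⟨_, ⟨a, ha, rfl⟩, rfl⟩
    have h1 : h * a * h⁻¹ ∈ R := hAh ⟨a, ha, rfl⟩
    have h2 := hmemT _ h1
    have e : h' * (y⁻¹ * a * y) * h'⁻¹ = y⁻¹ * (h * a * h⁻¹) * y := by
      rw [hh']; group
    simp only
    rw [e]; exact h2
  obtain ⟨x', hx', hx'eq⟩ := hctl A' h' hh'H hA'T hA'h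
  refine ⟨y * x' * y⁻¹, ⟨H.mul_mem (H.mul_mem hyH hx'.1) (H.inv_mem hyH), ?_⟩, ?_⟩
  · -- normalizes W R = cj y (W T)
    have hWR : W R = cj y (W T) := by rw [← hy]; exact (hW T hTp).2.2 y
    rw [hWR, normalizer_cj]
    apply (mem_cj _ _ _).mpr
    have e : y⁻¹ * (y * x' * y⁻¹) * y = x' := by group
    rw [e]; exact hx'.2
  · intro a ha
    have h1 := hx'eq (y⁻¹ * a * y) ⟨a, ha, rfl⟩
    have e1 : y * x' * y⁻¹ * a * (y * x' * y⁻¹)⁻¹ = y * (x' * (y⁻¹ * a * y) * x'⁻¹) * y⁻¹ := by group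
    rw [e1, h1, hh']
    group

end Cfsg.Agent.Lib.Helper4
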