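import Mathlib
import Cfsg.Agent.Lib.Helper4.Alperin
import Cfsg.Agent.Lib.Helper4.FusionControl

set_option autoImplicit false
open Pointwise

/-! Alperin's fusion theorem in its classical form: tame Sylow intersections and `p`-element factors. -/

namespace Cfsg.Agent.Lib.Helper4

open Cfsg Cfsg.Agent.Lib.Helper7

variable {G : Type*} [Group G]

/-- `ViaP 𝓢 A g`: the conjugation of `A` by `g` decomposes into steps `(T, x)` with `𝓢 T x`,
`x ∈ N(T)` and the current conjugate of `A` inside `T`. -/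
inductive ViaP (𝓢 : Subgroup G → G → Prop) : Set G → G → Prop
  | nil (A : Set G) : ViaP 𝓢 A 1
  | cons (A : Set G) (T : Subgroup G) (x g : G) : 𝓢 T x → x ∈ Subgroup.normalizer (T : Set G) →
      A ⊆ T → ViaP 𝓢 (cs x A) g → ViaP 𝓢 A (x * g)

variable {𝓢 : Subgroup G → G → Prop}

theorem ViaP.single {A : Set G} {T : Subgroup G} {x : G} (hT : 𝓢 T x)
    (hx : x ∈ Subgroup.normalizer (T : Set G)) (hA : A ⊆ T) : ViaP 𝓢 A x := by
  have := ViaP.cons A T x 1 hT hx hA (ViaP.nil _)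
  rwa [mul_one] at this

theorem ViaP.trans {A : Set G} {g h : G} (h1 : ViaP 𝓢 A g) (h2 : ViaP 𝓢 (cs g A) h) :
    ViaP 𝓢 A (g * h) := by
  induction h1 generalizing h with
  | nil A =>
    rw [one_mul]
    rwa [cs_one] at h2
  | cons A T x g hT hx hA _ ih =>
    rw [mul_assoc]
    apply ViaP.cons A T x (g * h) hT hx hA
    apply ih
    rwa [cs_mul] at h2

theorem ViaP.mono {A B : Set G} {g : G} (h1 : ViaP 𝓢 A g) (hBA : B ⊆ A) : ViaP 𝓢 B g := by
  induction h1 generalizing B with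
  | nil A => exact ViaP.nil _
  | cons A T x g hT hx hA _ ih =>
    exact ViaP.cons B T x g hT hx (hBA.trans hA) (ih (cs_mono x hBA))

theorem ViaP.symm (hsym : ∀ T x, 𝓢 T x → 𝓢 T x⁻¹) {A : Set G} {g : G} (h1 : ViaP 𝓢 A g) :
    ViaP 𝓢 (cs g A) g⁻¹ := by
  induction h1 with
  | nil A =>
    rw [inv_one]; exact ViaP.nil _
  | cons A T x g hT hx hA _ ih =>
    rw [mul_inv_rev, cs_mul]
    apply ViaP.trans ih
    rw [cs_inv_cs]
    exact ViaP.single (hsym T x hT) (Subgroup.inv_mem _ hx) (cs_subset_of_mem_normalizer hx hA)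

/-- conversion to the indexed form -/
theorem ViaP.exists_fin {A : Set G} {g : G} (h1 : ViaP 𝓢 A g) :
    ∃ (n : ℕ) (T : Fin n → Subgroup G) (x : Fin n → G), (List.ofFn x).prod = g ∧
      (∀ i, 𝓢 (T i) (x i)) ∧ (∀ i, x i ∈ Subgroup.normalizer ((T i : Subgroup G) : Set G)) ∧
      (∀ h : 0 < n, A ⊆ T ⟨0, h⟩) ∧
      ∀ (i : Fin n) (h : i.val + 1 < n),
        (fun a => (((List.ofFn x).take (i.val + 1)).prod)⁻¹ * a * ((List.ofFn x).take (i.val + 1)).prod) '' A ⊆
          T ⟨i.val + 1, h⟩ := by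
  induction h1 with
  | nil A =>
    refine ⟨0, Fin.elim0, Fin.elim0, by simp, fun i => i.elim0, fun i => i.elim0, ?_, fun i => i.elim0⟩
    intro h; omega
  | cons A T x g hT hx hA _ ih =>
    obtain ⟨n, Ts, xs, hprod, hTs, hxs, h0, hstep⟩ := ih
    refine ⟨n + 1, Fin.cons T Ts, Fin.cons x xs, ?_, ?_, ?_, ?_, ?_⟩
    · rw [List.ofFn_succ]
      simp only [Fin.cons_zero, Fin.cons_succ, List.prod_cons]
      rw [hprod]
    · intro i
      refine Fin.cases ?_ (fun j => ?_) i
      · simpa using hT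
      · simpa using hTs j
    · intro i
      refine Fin.cases ?_ (fun j => ?_) i
      · simpa using hx
      · simpa using hxs j
    · intro _
      exact hA
    · intro i hi
      have hlist : List.ofFn (Fin.cons x xs : Fin (n + 1) → G) = x :: List.ofFn xs := by
        rw [List.ofFn_succ]; simp
      rw [hlist, List.take_succ_cons, List.prod_cons]
      have hTi : (Fin.cons T Ts : Fin (n + 1) → Subgroup G) ⟨i.val + 1, hi⟩ = Ts ⟨i.val, by omega⟩ := by
        have : (⟨i.val + 1, hi⟩ : Fin (n + 1)) = Fin.succ ⟨i.val, by omega⟩ := rfl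
        rw [this, Fin.cons_succ]
      rw [hTi]
      by_cases hi0 : i.val = 0
      · have htake : List.take i.val (List.ofFn xs) = [] := by rw [hi0]; rfl
        rw [htake, List.prod_nil, mul_one]
        have hn : 0 < n := by omega
        have := h0 hn
        have e : (⟨i.val, by omega⟩ : Fin n) = ⟨0, hn⟩ := by
          apply Fin.ext; exact hi0
        rw [e]
        exact this
      · obtain ⟨j, hj⟩ : ∃ j, i.val = j + 1 := ⟨i.val - 1, by omega⟩
        have hjn : j + 1 < n := by omega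
        have := hstep ⟨j, by omega⟩ hjn
        have e : (⟨i.val, by omega⟩ : Fin n) = ⟨j + 1, hjn⟩ := by
          apply Fin.ext; exact hj
        rw [e, hj]
        intro y hy
        obtain ⟨a, ha, rfl⟩ := hy
        apply this
        refine ⟨x⁻¹ * a * x, ⟨a, ha, rfl⟩, ?_⟩
        simp only [mul_inv_rev, mul_assoc]

theorem cs_eq_self_of_mem_normalizer {x : G} {T : Subgroup G}
    (hx : x ∈ Subgroup.normalizer (T : Set G)) : cs x (T : Set G) = T := by
  rw [cs_subgroup]
  have h1 : x⁻¹ ∈ Subgroup.normalizer (T : Set G) := Subgroup.inv_mem _ hx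
  rw [mem_normalizer_iff_cj.mp h1]

theorem ncard_cs [Finite G] (x : G) (A : Set G) : (cs x A).ncard = A.ncard := by
  unfold cs
  apply Set.ncard_image_of_injective
  intro a b hab
  have : x⁻¹ * a * x = x⁻¹ * b * x := hab
  exact mul_left_cancel (mul_right_cancel this)

/-- turning a `Via` decomposition into a `ViaP` decomposition -/
theorem Via.toViaP [Finite G] {𝓕 : Set (Subgroup G)} {A : Set G} {g : G} (h : Via 𝓕 A g)
    (hstep : ∀ T ∈ 𝓕, A.ncard ≤ Nat.card T → ∀ x ∈ Subgroup.normalizer (T : Set G),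
      ViaP 𝓢 (T : Set G) x) : ViaP 𝓢 A g := by
  induction h with
  | nil A => exact ViaP.nil _
  | cons A T x g hT hx hA _ ih =>
    have h1 : A.ncard ≤ Nat.card T := by
      have := Set.ncard_le_ncard hA (Set.toFinite _)
      exact this
    have h2 : ViaP 𝓢 A x := (hstep T hT h1 x hx).mono hA
    apply ViaP.trans h2
    apply ih
    intro T' hT' hcard x' hx'
    rw [ncard_cs] at hcard
    exact hstep T' hT' hcard x' hx'

/-! ### Sylow subgroups of a subgroup -/

/-- `R` is a Sylow `p`-subgroup of `N` -/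
def SylIn (p : ℕ) (N R : Subgroup G) : Prop := R ≤ N ∧ IsPGroup p R ∧ ¬ p ∣ R.relIndex N

variable {p : ℕ}

theorem SylIn.cj {N R : Subgroup G} (h : SylIn p N R) {g : G} (hg : g ∈ N) : SylIn p N (cj g R) := by
  refine ⟨cj_le_of_mem hg h.1, isPGroup_cj g h.2.1, ?_⟩
  have h1 : Helper7.cj g N = N := cj_eq_self_of_mem hg
  have h2 := relIndex_cj g R N
  rw [h1] at h2
  rw [h2]
  exact h.2.2

theorem SylIn.mono {N V R : Subgroup G} (h : SylIn p N R) (hRV : R ≤ V) (hVN : V ≤ N) : SylIn p V R := by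
  refine ⟨hRV, h.2.1, ?_⟩
  intro hdvd
  apply h.2.2
  rw [← Subgroup.relIndex_mul_relIndex R V N hRV hVN]
  exact Dvd.dvd.mul_right hdvd _

variable [Finite G] [Fact p.Prime]

theorem exists_sylIn_ge {N A : Subgroup G} (hAN : A ≤ N) (hA : IsPGroup p A) :
    ∃ R : Subgroup G, A ≤ R ∧ SylIn p N R := by
  have hA' : IsPGroup p (A.subgroupOf N) := hA.comap_subtype
  obtain ⟨S', hS'⟩ := hA'.exists_le_sylow
  refine ⟨(S' : Subgroup N).map N.subtype, ?_, Subgroup.map_subtype_le _, S'.2.map _, ?_⟩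
  · intro a ha
    exact ⟨⟨a, hAN ha⟩, hS' (Subgroup.mem_subgroupOf.mpr ha), rfl⟩
  · have h2 : ((S' : Subgroup N).map N.subtype).relIndex N = (S' : Subgroup N).index := by
      unfold Subgroup.relIndex Subgroup.subgroupOf
      rw [Subgroup.comap_map_eq_self_of_injective N.subtype_injective]
    rw [h2]
    exact S'.not_dvd_index

theorem SylIn.conj {H R₁ R₂ : Subgroup G} (h1 : SylIn p H R₁) (h2 : SylIn p H R₂) :
    ∃ y ∈ H, Helper7.cj y R₁ = R₂ :=
  sylow_conj_rel h1.1 h1.2.1 h1.2.2 h2.1 h2.2.1 h2.2.2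

theorem SylIn.card_eq {H R₁ R₂ : Subgroup G} (h1 : SylIn p H R₁) (h2 : SylIn p H R₂) :
    Nat.card R₁ = Nat.card R₂ := by
  obtain ⟨y, _, hy⟩ := h1.conj h2
  rw [← hy, card_cj]

theorem SylIn.exists_conj_le {N A R : Subgroup G} (hR : SylIn p N R) (hAN : A ≤ N) (hA : IsPGroup p A) :
    ∃ c ∈ N, Helper7.cj c A ≤ R := by
  obtain ⟨R', hAR', hR'⟩ := exists_sylIn_ge hAN hA
  obtain ⟨y, hy, hyR⟩ := hR'.conj hR
  exact ⟨y, hy, by rw [← hyR]; exact cj_mono y hAR'⟩

theorem SylIn.normal_le {N T R : Subgroup G} (hR : SylIn p N R) (hTN : T ≤ N)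
    (hnorm : N ≤ Subgroup.normalizer (T : Set G)) (hT : IsPGroup p T) : T ≤ R := by
  have h1 : IsPGroup p (T ⊔ R : Subgroup G) :=
    IsPGroup.to_sup_of_normal_left' hT hR.2.1 (hR.1.trans hnorm)
  have h2 := eq_of_isPGroup_of_relIndex (le_sup_right : R ≤ T ⊔ R) (sup_le hTN hR.1) h1 hR.2.2
  calc T ≤ T ⊔ R := le_sup_left
    _ = R := h2

end Cfsg.Agent.Lib.Helper4
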