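import Mathlib
import Cfsg.Agent.Lib.Helper4.AlperinTame

set_option autoImplicit false
open Pointwise

namespace Cfsg.Agent.Lib.Helper4

open Cfsg Cfsg.Agent.Lib.Helper7

variable {G : Type*} [Group G] {p : ℕ}

/-- `P ∩ Q` is a tame intersection -/
def TameInt (P Q : Sylow p G) : Prop :=
  ¬ p ∣ ((P : Subgroup G) ⊓ Subgroup.normalizer ((((P : Subgroup G) ⊓ (Q : Subgroup G)) : Subgroup G) : Set G)).relIndex
      (Subgroup.normalizer ((((P : Subgroup G) ⊓ (Q : Subgroup G)) : Subgroup G) : Set G)) ∧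
  ¬ p ∣ ((Q : Subgroup G) ⊓ Subgroup.normalizer ((((P : Subgroup G) ⊓ (Q : Subgroup G)) : Subgroup G) : Set G)).relIndex
      (Subgroup.normalizer ((((P : Subgroup G) ⊓ (Q : Subgroup G)) : Subgroup G) : Set G))

/-- the admissible steps of Alperin's theorem -/
def StepOK (P : Sylow p G) (T : Subgroup G) (x : G) : Prop :=
  ∃ Q : Sylow p G, T = (P : Subgroup G) ⊓ (Q : Subgroup G) ∧ TameInt P Q ∧
    ((Q : Subgroup G) = (P : Subgroup G) ∨ ∃ k : ℕ, orderOf x = p ^ k)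

theorem StepOK.inv {P : Sylow p G} {T : Subgroup G} {x : G} (h : StepOK P T x) : StepOK P T x⁻¹ := by
  obtain ⟨Q, h1, h2, h3⟩ := h
  refine ⟨Q, h1, h2, ?_⟩
  rcases h3 with h3 | ⟨k, hk⟩
  · exact Or.inl h3
  · exact Or.inr ⟨k, by rw [orderOf_inv, hk]⟩

variable [Finite G] [Fact p.Prime]

theorem stepOK_top (P : Sylow p G) (x : G) : StepOK P (P : Subgroup G) x := by
  refine ⟨P, (inf_idem _).symm, ?_, Or.inl rfl⟩
  have h1 : ((P : Subgroup G) ⊓ (P : Subgroup G)) = (P : Subgroup G) := inf_idem _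
  have h2 : (P : Subgroup G) ⊓ Subgroup.normalizer ((P : Subgroup G) : Set G) = (P : Subgroup G) :=
    inf_eq_left.mpr Subgroup.le_normalizer
  have h3 : ¬ p ∣ (P : Subgroup G).relIndex (Subgroup.normalizer ((P : Subgroup G) : Set G)) := by
    intro h
    exact P.not_dvd_index (h.trans (Subgroup.relIndex_dvd_index_of_le Subgroup.le_normalizer))
  unfold TameInt
  rw [h1, h2]
  exact ⟨h3, h3⟩

theorem card_lt_of_lt {A B : Subgroup G} (h : A < B) : Nat.card A < Nat.card B := by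
  by_contra hcon
  push Not at hcon
  exact h.ne (Subgroup.eq_of_le_of_card_ge h.le hcon)

/-- the key step: conjugation by an element of the normalizer of a fully normalized subgroup -/
theorem tame_step (P : Sylow p G) (T : Subgroup G) (hTP : T ≤ (P : Subgroup G))
    (hfn : ¬ p ∣ ((P : Subgroup G) ⊓ Subgroup.normalizer (T : Set G)).relIndex
      (Subgroup.normalizer (T : Set G)))
    (IH : ∀ U' : Subgroup G, U' ≤ (P : Subgroup G) → Nat.card T < Nat.card U' → ∀ g : G,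
      cs g (U' : Set G) ⊆ (P : Subgroup G) → ViaP (StepOK P) (U' : Set G) g) :
    ∀ x ∈ Subgroup.normalizer (T : Set G), ViaP (StepOK P) (T : Set G) x := by
  classical
  have hPp : IsPGroup p (P : Subgroup G) := P.isPGroup'
  by_cases hTeq : T = (P : Subgroup G)
  · intro x hx
    rw [hTeq] at hx ⊢
    exact ViaP.single (stepOK_top P x) hx le_rfl
  have hTlt : T < (P : Subgroup G) := lt_of_le_of_ne hTP hTeq
  obtain ⟨N, hNdef⟩ : ∃ N : Subgroup G, N = Subgroup.normalizer (T : Set G) := ⟨_, rfl⟩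
  obtain ⟨R, hRdef⟩ : ∃ R : Subgroup G, R = (P : Subgroup G) ⊓ N := ⟨_, rfl⟩
  have hTR : T < R := by
    rw [hRdef, hNdef]
    exact Cfsg.Agent.Lib.Lead.pgroup_normalizer_grows p _ T hPp hTlt
  have hRP : R ≤ (P : Subgroup G) := by rw [hRdef]; exact inf_le_left
  have hRN : R ≤ N := by rw [hRdef]; exact inf_le_right
  have hRsyl : SylIn p N R := by
    refine ⟨hRN, hPp.to_le hRP, ?_⟩
    rw [hRdef, hNdef]; exact hfn
  have hTN : T ≤ N := by rw [hNdef]; exact Subgroup.le_normalizer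
  have hNT : N ≤ Subgroup.normalizer (T : Set G) := by rw [hNdef]
  have hTp : IsPGroup p T := hPp.to_le hTP
  have hsym : ∀ (T' : Subgroup G) (x : G), StepOK P T' x → StepOK P T' x⁻¹ := fun _ _ h => h.inv
  -- the subgroup 𝒱
  let 𝒱 : Subgroup G :=
    { carrier := {c | c ∈ N ∧ ViaP (StepOK P) (T : Set G) c}
      one_mem' := ⟨N.one_mem, ViaP.nil _⟩
      mul_mem' := by
        rintro a b ⟨haN, ha⟩ ⟨hbN, hb⟩
        refine ⟨N.mul_mem haN hbN, ViaP.trans ha ?_⟩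
        rw [cs_eq_self_of_mem_normalizer (hNT haN)]
        exact hb
      inv_mem' := by
        rintro a ⟨haN, ha⟩
        refine ⟨N.inv_mem haN, ?_⟩
        have := ha.symm hsym
        rwa [cs_eq_self_of_mem_normalizer (hNT haN)] at this }
  have hmem𝒱 : ∀ c : G, c ∈ 𝒱 ↔ (c ∈ N ∧ ViaP (StepOK P) (T : Set G) c) := fun c => Iff.rfl
  have h𝒱N : 𝒱 ≤ N := fun c hc => ((hmem𝒱 c).mp hc).1
  -- (i)
  have hi : R ≤ 𝒱 := by
    intro r hr
    rw [hmem𝒱]
    refine ⟨hRN hr, ViaP.single (stepOK_top P r) (Subgroup.le_normalizer (hRP hr)) ?_⟩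
    exact_mod_cast hTP
  -- (ii)
  have hii : ∀ D : Subgroup G, T < D → D ≤ (P : Subgroup G) →
      N ⊓ Subgroup.normalizer (D : Set G) ≤ 𝒱 := by
    intro D hTD hDP c hc
    rw [hmem𝒱]
    refine ⟨hc.1, ?_⟩
    have h1 : cs c (D : Set G) ⊆ (P : Subgroup G) := by
      rw [cs_eq_self_of_mem_normalizer hc.2]; exact_mod_cast hDP
    exact (IH D hDP (card_lt_of_lt hTD) c h1).mono (by exact_mod_cast hTD.le)
  -- (iii)
  have hiii : ∀ R' : Subgroup G, SylIn p N R' → R ⊓ R' = T → R' ≤ 𝒱 := by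
    intro R' hR' hRR'
    obtain ⟨Q', hQ'⟩ := hR'.2.1.exists_le_sylow
    have hQN : (Q' : Subgroup G) ⊓ N = R' :=
      eq_of_isPGroup_of_relIndex (le_inf hQ' hR'.1) inf_le_right (Q'.isPGroup'.to_le inf_le_left) hR'.2.2
    have hTR' : T ≤ R' := hR'.normal_le hTN hNT hTp
    have hI : (P : Subgroup G) ⊓ (Q' : Subgroup G) = T := by
      have hTI : T ≤ (P : Subgroup G) ⊓ (Q' : Subgroup G) := le_inf hTP (hTR'.trans hQ')
      by_contra hne
      have hlt : T < (P : Subgroup G) ⊓ (Q' : Subgroup G) := lt_of_le_of_ne hTI (Ne.symm hne)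
      have hgrow := Cfsg.Agent.Lib.Lead.pgroup_normalizer_grows p _ T (hPp.to_le inf_le_left) hlt
      have hle : ((P : Subgroup G) ⊓ (Q' : Subgroup G)) ⊓ Subgroup.normalizer (T : Set G) ≤ T := by
        intro y hy
        rw [← hRR']
        have hyN : y ∈ N := by rw [hNdef]; exact hy.2
        refine Subgroup.mem_inf.mpr ⟨?_, ?_⟩
        · rw [hRdef]; exact Subgroup.mem_inf.mpr ⟨hy.1.1, hyN⟩
        · rw [← hQN]; exact Subgroup.mem_inf.mpr ⟨hy.1.2, hyN⟩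
      exact absurd (lt_of_lt_of_le hgrow hle) (lt_irrefl _)
    have htame : TameInt P Q' := by
      unfold TameInt
      rw [hI, ← hNdef]
      refine ⟨?_, ?_⟩
      · rw [← hRdef]; exact hRsyl.2.2
      · rw [hQN]; exact hR'.2.2
    intro r' hr'
    rw [hmem𝒱]
    refine ⟨hR'.1 hr', ?_⟩
    obtain ⟨k, hk⟩ := (IsPGroup.iff_orderOf.mp hR'.2.1) ⟨r', hr'⟩
    have hk' : orderOf r' = p ^ k := by rw [← hk, Subgroup.orderOf_mk]
    exact ViaP.single ⟨Q', hI.symm, htame, Or.inr ⟨k, hk'⟩⟩ (hNT (hR'.1 hr')) le_rfl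
  -- (iv)
  have hiv : ∀ d : ℕ, ∀ R' : Subgroup G, SylIn p N R' →
      Nat.card R - Nat.card (R ⊓ R' : Subgroup G) = d → R' ≤ 𝒱 := by
    intro d
    induction d using Nat.strong_induction_on with
    | _ d ih =>
    intro R' hR' hd
    obtain ⟨D, hDdef⟩ : ∃ D : Subgroup G, D = R ⊓ R' := ⟨_, rfl⟩
    have hTR' : T ≤ R' := hR'.normal_le hTN hNT hTp
    have hTD : T ≤ D := by rw [hDdef]; exact le_inf hTR.le hTR'
    have hDR : D ≤ R := by rw [hDdef]; exact inf_le_left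
    have hDR' : D ≤ R' := by rw [hDdef]; exact inf_le_right
    have hcardRR' : Nat.card R = Nat.card R' := hRsyl.card_eq hR'
    by_cases h1 : D = R
    · have hRR' : R ≤ R' := by rw [← h1]; exact hDR'
      have : R = R' := Subgroup.eq_of_le_of_card_ge hRR' hcardRR'.symm.le
      rw [← this]; exact hi
    by_cases h2 : D = T
    · exact hiii R' hR' (by rw [← hDdef]; exact h2)
    have hTDlt : T < D := lt_of_le_of_ne hTD (Ne.symm h2)
    have hDRlt : D < R := lt_of_le_of_ne hDR h1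
    have hDR'lt : D < R' := by
      refine lt_of_le_of_ne hDR' ?_
      intro heq
      apply h1
      apply Subgroup.eq_of_le_of_card_ge hDR
      rw [heq, hcardRR']
    have hDP : D ≤ (P : Subgroup G) := hDR.trans hRP
    obtain ⟨ND, hNDdef⟩ : ∃ ND : Subgroup G, ND = N ⊓ Subgroup.normalizer (D : Set G) := ⟨_, rfl⟩
    have hND𝒱 : ND ≤ 𝒱 := by rw [hNDdef]; exact hii D hTDlt hDP
    have hNDN : ND ≤ N := by rw [hNDdef]; exact inf_le_left
    obtain ⟨NRD, hNRDdef⟩ : ∃ X : Subgroup G, X = R ⊓ Subgroup.normalizer (D : Set G) := ⟨_, rfl⟩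
    obtain ⟨NR'D, hNR'Ddef⟩ : ∃ X : Subgroup G, X = R' ⊓ Subgroup.normalizer (D : Set G) := ⟨_, rfl⟩
    have hgrow1 : D < NRD := by
      rw [hNRDdef]
      exact Cfsg.Agent.Lib.Lead.pgroup_normalizer_grows p _ D hRsyl.2.1 hDRlt
    have hgrow2 : D < NR'D := by
      rw [hNR'Ddef]
      exact Cfsg.Agent.Lib.Lead.pgroup_normalizer_grows p _ D hR'.2.1 hDR'lt
    have hNRD_ND : NRD ≤ ND := by
      rw [hNRDdef, hNDdef]; exact inf_le_inf_right _ hRN
    have hNR'D_ND : NR'D ≤ ND := by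
      rw [hNR'Ddef, hNDdef]; exact inf_le_inf_right _ hR'.1
    have hNRDp : IsPGroup p NRD := by rw [hNRDdef]; exact hRsyl.2.1.to_le inf_le_left
    have hNR'Dp : IsPGroup p NR'D := by rw [hNR'Ddef]; exact hR'.2.1.to_le inf_le_left
    obtain ⟨R₁, hNRD_R₁, hR₁⟩ := exists_sylIn_ge hNRD_ND hNRDp
    obtain ⟨c, hcND, hc⟩ := hR₁.exists_conj_le hNR'D_ND hNR'Dp
    obtain ⟨R₂, hR₁R₂, hR₂⟩ := exists_sylIn_ge (hR₁.1.trans hNDN) hR₁.2.1
    have hcardD : Nat.card D < Nat.card NRD := card_lt_of_lt hgrow1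
    have hcardD2 : Nat.card D < Nat.card NR'D := card_lt_of_lt hgrow2
    have hcardDR : Nat.card D ≤ Nat.card R := Subgroup.card_le_of_le hDR
    have hR₂𝒱 : R₂ ≤ 𝒱 := by
      have hle : NRD ≤ R ⊓ R₂ := by
        refine le_inf ?_ (hNRD_R₁.trans hR₁R₂)
        rw [hNRDdef]; exact inf_le_left
      have h3 : Nat.card NRD ≤ Nat.card (R ⊓ R₂ : Subgroup G) := Subgroup.card_le_of_le hle
      have h4 : Nat.card (R ⊓ R₂ : Subgroup G) ≤ Nat.card R := Subgroup.card_le_of_le inf_le_left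
      apply ih (Nat.card R - Nat.card (R ⊓ R₂ : Subgroup G)) _ R₂ hR₂ rfl
      rw [← hd, ← hDdef]
      omega
    have hRs𝒱 : SylIn p 𝒱 R := hRsyl.mono hi h𝒱N
    have hR₂s𝒱 : SylIn p 𝒱 R₂ := hR₂.mono hR₂𝒱 h𝒱N
    obtain ⟨v, hv𝒱, hv⟩ := hR₂s𝒱.conj hRs𝒱
    have hc𝒱 : c ∈ 𝒱 := hND𝒱 hcND
    have hvc𝒱 : v * c ∈ 𝒱 := 𝒱.mul_mem hv𝒱 hc𝒱
    have hR'' : SylIn p N (Helper7.cj (v * c) R') := hR'.cj (h𝒱N hvc𝒱)
    have hR''𝒱 : Helper7.cj (v * c) R' ≤ 𝒱 := by
      have hle : Helper7.cj (v * c) NR'D ≤ R ⊓ Helper7.cj (v * c) R' := by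
        refine le_inf ?_ ?_
        · rw [cj_mul, ← hv]
          exact cj_mono v ((hc.trans hR₁R₂))
        · apply cj_mono
          rw [hNR'Ddef]; exact inf_le_left
      have h3 : Nat.card NR'D ≤ Nat.card (R ⊓ Helper7.cj (v * c) R' : Subgroup G) := by
        rw [← card_cj (v * c) NR'D]
        exact Subgroup.card_le_of_le hle
      have h4 : Nat.card (R ⊓ Helper7.cj (v * c) R' : Subgroup G) ≤ Nat.card R :=
        Subgroup.card_le_of_le inf_le_left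
      apply ih (Nat.card R - Nat.card (R ⊓ Helper7.cj (v * c) R' : Subgroup G)) _ _ hR'' rfl
      rw [← hd, ← hDdef]
      omega
    intro r' hr'
    have h5 : (v * c) * r' * (v * c)⁻¹ ∈ Helper7.cj (v * c) R' := by
      rw [mem_cj]
      have : (v * c)⁻¹ * ((v * c) * r' * (v * c)⁻¹) * (v * c) = r' := by group
      rw [this]; exact hr'
    have h6 := hR''𝒱 h5
    have h7 : r' = (v * c)⁻¹ * ((v * c) * r' * (v * c)⁻¹) * (v * c) := by group
    rw [h7]
    exact 𝒱.mul_mem (𝒱.mul_mem (𝒱.inv_mem hvc𝒱) h6) hvc𝒱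
  -- (v)
  intro x hx
  have hxN : x ∈ N := by rw [hNdef]; exact hx
  have hRx : SylIn p N (Helper7.cj x R) := hRsyl.cj hxN
  have hRx𝒱 : Helper7.cj x R ≤ 𝒱 := hiv _ _ hRx rfl
  have hRs𝒱 : SylIn p 𝒱 R := hRsyl.mono hi h𝒱N
  obtain ⟨v, hv𝒱, hv⟩ := (hRx.mono hRx𝒱 h𝒱N).conj hRs𝒱
  have hvx : v * x ∈ N ⊓ Subgroup.normalizer (R : Set G) := by
    refine Subgroup.mem_inf.mpr ⟨N.mul_mem (h𝒱N hv𝒱) hxN, ?_⟩
    rw [mem_normalizer_iff_cj, cj_mul]
    exact hv
  have hvx𝒱 : v * x ∈ 𝒱 := hii R hTR hRP hvx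
  have hx𝒱 : x ∈ 𝒱 := by
    have : x = v⁻¹ * (v * x) := by group
    rw [this]
    exact 𝒱.mul_mem (𝒱.inv_mem hv𝒱) hvx𝒱
  exact ((hmem𝒱 x).mp hx𝒱).2

end Cfsg.Agent.Lib.Helper4
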