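import Mathlib
import Cfsg.Agent.Lib.Helper4.AlperinTame2
import Cfsg.Agent.Lib.Lead.FrobNPC1

set_option autoImplicit false
open Pointwise

/-! Relative Sylow lemmas used to lift control of strong fusion from a normal subgroup. -/

namespace Cfsg.Agent.Lib.Helper4

open Cfsg Cfsg.Agent.Lib.Helper7

variable {G : Type*} [Group G] {p : ℕ}

/-- conjugating a Sylow subgroup of `N` by an element normalizing `N` -/
theorem SylIn.cj' {N R : Subgroup G} (h : SylIn p N R) {g : G}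
    (hg : g ∈ Subgroup.normalizer (N : Set G)) : SylIn p N (Helper7.cj g R) := by
  have h1 : Helper7.cj g N = N := mem_normalizer_iff_cj.mp hg
  refine ⟨?_, isPGroup_cj g h.2.1, ?_⟩
  · rw [← h1]; exact cj_mono g h.1
  · have h2 := relIndex_cj g R N
    rw [h1] at h2
    rw [h2]
    exact h.2.2

/-- elements of `T ⊔ U` when `U` normalizes `T` -/
theorem exists_mul_of_mem_sup_normalizer {T U : Subgroup G}
    (hUT : U ≤ Subgroup.normalizer (T : Set G)) {x : G} (hx : x ∈ T ⊔ U) :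
    ∃ t ∈ T, ∃ u ∈ U, x = t * u := by
  let M : Subgroup G :=
    { carrier := {x | ∃ t ∈ T, ∃ u ∈ U, x = t * u}
      one_mem' := ⟨1, T.one_mem, 1, U.one_mem, by simp⟩
      mul_mem' := by
        rintro _ _ ⟨t, ht, u, hu, rfl⟩ ⟨t', ht', u', hu', rfl⟩
        refine ⟨t * (u * t' * u⁻¹), T.mul_mem ht ?_, u * u', U.mul_mem hu hu', by group⟩
        exact (Subgroup.mem_normalizer_iff.mp (hUT hu) t').mp ht'
      inv_mem' := by
        rintro _ ⟨t, ht, u, hu, rfl⟩
        refine ⟨u⁻¹ * t⁻¹ * u⁻¹⁻¹, ?_, u⁻¹, U.inv_mem hu, by group⟩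
        exact (Subgroup.mem_normalizer_iff.mp (hUT (U.inv_mem hu)) t⁻¹).mp (T.inv_mem ht) }
  have h1 : T ≤ M := fun t ht => ⟨t, ht, 1, U.one_mem, by simp⟩
  have h2 : U ≤ M := fun u hu => ⟨1, T.one_mem, u, hu, by simp⟩
  exact (sup_le h1 h2) hx

variable [Finite G] [Fact p.Prime]

/-- the relative Frattini argument -/
theorem frattini_rel {X L R : Subgroup G} (hLX : L ≤ X) (hXL : X ≤ Subgroup.normalizer (L : Set G))
    (hR : SylIn p L R) {x : G} (hx : x ∈ X) :
    ∃ l ∈ L, ∃ y ∈ X ⊓ Subgroup.normalizer (R : Set G), x = l * y := by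
  have h1 : SylIn p L (Helper7.cj x R) := hR.cj' (hXL hx)
  obtain ⟨l, hl, hlR⟩ := hR.conj h1
  refine ⟨l, hl, l⁻¹ * x, Subgroup.mem_inf.mpr ⟨X.mul_mem (X.inv_mem (hLX hl)) hx, ?_⟩, by group⟩
  rw [mem_normalizer_iff_cj, cj_mul, ← hlR, cj_inv_cj]

/-- a Sylow subgroup meets a normal subgroup in a Sylow subgroup -/
theorem sylIn_inf_normal {X L Rp : Subgroup G} (hLX : L ≤ X)
    (hXL : X ≤ Subgroup.normalizer (L : Set G)) (hRp : SylIn p X Rp) : SylIn p L (Rp ⊓ L) := by
  have hpg : IsPGroup p (Rp ⊓ L : Subgroup G) := hRp.2.1.to_le inf_le_left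
  obtain ⟨R', hle, hR'⟩ := exists_sylIn_ge (inf_le_right : Rp ⊓ L ≤ L) hpg
  obtain ⟨c, hc, hcR⟩ := hRp.exists_conj_le (hR'.1.trans hLX) hR'.2.1
  have hcL : Helper7.cj c R' ≤ L := by
    have h1 : Helper7.cj c L = L := mem_normalizer_iff_cj.mp (hXL hc)
    rw [← h1]; exact cj_mono c hR'.1
  have h2 : Helper7.cj c R' ≤ Rp ⊓ L := le_inf hcR hcL
  have h3 : Nat.card R' ≤ Nat.card (Rp ⊓ L : Subgroup G) := by
    rw [← card_cj c R']; exact Subgroup.card_le_of_le h2
  have h4 : Rp ⊓ L = R' := Subgroup.eq_of_le_of_card_ge hle h3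
  rw [h4]; exact hR'

/-- if all `p'`-elements of `M` lie in the normal subgroup `K`, then `M = K R₀` for a Sylow subgroup `R₀` -/
theorem exists_mul_of_pPrime_le {K M R₀ : Subgroup G} (hKM : K ≤ M)
    (hMK : M ≤ Subgroup.normalizer (K : Set G)) (hR₀ : SylIn p M R₀)
    (hp' : ∀ v ∈ M, (orderOf v).Coprime p → v ∈ K) {m : G} (hm : m ∈ M) :
    ∃ k ∈ K, ∃ r ∈ R₀, m = k * r := by
  have hp : p.Prime := Fact.out
  haveI hKn : (K.subgroupOf M).Normal := Subgroup.normal_subgroupOf_of_le_normalizer hMK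
  have hT : ¬ p ∣ (R₀.subgroupOf M).index := hR₀.2.2
  have hquot : IsPGroup p (↥M ⧸ K.subgroupOf M) := by
    intro q
    induction q using QuotientGroup.induction_on with
    | H m' =>
      have hn : orderOf m' ≠ 0 := (orderOf_pos m').ne'
      obtain ⟨k, t, ht, hkt⟩ := Nat.exists_eq_pow_mul_and_not_dvd hn p hp.one_lt.ne'
      refine ⟨k, ?_⟩
      rw [← QuotientGroup.mk_pow, QuotientGroup.eq_one_iff, Subgroup.mem_subgroupOf]
      apply hp' _ (M.pow_mem m'.2 _)
      have h1 : orderOf ((m' : G) ^ p ^ k) = t := by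
        rw [orderOf_pow' _ (pow_ne_zero k hp.ne_zero), Subgroup.orderOf_coe, hkt]
        have hg : (p ^ k * t).gcd (p ^ k) = p ^ k := Nat.gcd_eq_right (dvd_mul_right _ _)
        rw [hg, Nat.mul_div_cancel_left _ (pow_pos hp.pos k)]
      rw [h1]
      exact ((Nat.Prime.coprime_iff_not_dvd hp).mpr ht).symm
  have hB : ∃ j : ℕ, (K.subgroupOf M).index = p ^ j := by
    obtain ⟨j, hj⟩ := IsPGroup.iff_card.mp hquot
    exact ⟨j, by rw [Subgroup.index_eq_card, hj]⟩
  have htop := Cfsg.Agent.Lib.Lead.sup_eq_top_of_coprime_index (R₀.subgroupOf M) (K.subgroupOf M) hT hB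
  have hmem : (⟨m, hm⟩ : M) ∈ K.subgroupOf M ⊔ R₀.subgroupOf M := by
    rw [sup_comm, htop]; trivial
  obtain ⟨k, hk, r, hr, hkr⟩ := Subgroup.mem_sup_of_normal_left.mp hmem
  refine ⟨k, Subgroup.mem_subgroupOf.mp hk, r, Subgroup.mem_subgroupOf.mp hr, ?_⟩
  have := congrArg Subtype.val hkr
  exact this.symm

/-- a `p'`-element acting on a `p`-group `U`, centralizing `B` and inducing the identity on `U/B`, centralizes `U` -/
theorem pPrime_stab_centralizes {U B : Subgroup G} (hU : IsPGroup p U) (hBU : B ≤ U) {v : G}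
    (hv : (orderOf v).Coprime p) (hvB : v ∈ Subgroup.centralizer (B : Set G))
    (hvU : ∀ u ∈ U, v * u * v⁻¹ * u⁻¹ ∈ B) : v ∈ Subgroup.centralizer (U : Set G) := by
  rw [Subgroup.mem_centralizer_iff]
  intro u hu
  set b : G := v * u * v⁻¹ * u⁻¹ with hb
  have hbB : b ∈ B := hvU u hu
  have hcomm : v * b = b * v := (Subgroup.mem_centralizer_iff.mp hvB b hbB).symm
  have hpow : ∀ j : ℕ, v ^ j * u * (v ^ j)⁻¹ = b ^ j * u := by
    intro j
    induction j with
    | zero => simp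
    | succ j ih =>
      have hcj : v * b ^ j = b ^ j * v := by
        have : Commute v b := hcomm
        exact (this.pow_right j)
      calc v ^ (j + 1) * u * (v ^ (j + 1))⁻¹ = v * (v ^ j * u * (v ^ j)⁻¹) * v⁻¹ := by
            rw [pow_succ']; group
        _ = v * (b ^ j * u) * v⁻¹ := by rw [ih]
        _ = (v * b ^ j) * u * v⁻¹ := by group
        _ = b ^ j * (v * u * v⁻¹ * u⁻¹) * u := by rw [hcj]; group
        _ = b ^ (j + 1) * u := by rw [← hb, pow_succ]
  have h1 := hpow (orderOf v)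
  rw [pow_orderOf_eq_one, one_mul, inv_one, mul_one] at h1
  have h2 : b ^ orderOf v = 1 := by
    have : b ^ orderOf v * u = 1 * u := by rw [one_mul]; exact h1.symm
    exact mul_right_cancel this
  obtain ⟨k, hk⟩ := (IsPGroup.iff_orderOf.mp hU) ⟨b, hBU hbB⟩
  have hk' : orderOf b = p ^ k := by rw [← hk, Subgroup.orderOf_mk]
  have h3 : orderOf b ∣ orderOf v := orderOf_dvd_of_pow_eq_one h2
  have h4 : orderOf b = 1 := by
    have hc : (orderOf b).Coprime (orderOf b) := by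
      apply Nat.Coprime.coprime_dvd_left h3
      rw [hk']; exact Nat.Coprime.pow_right k hv
    exact (Nat.coprime_self _).mp hc
  rw [orderOf_eq_one_iff] at h4
  have h5 : v * u * v⁻¹ * u⁻¹ = 1 := by rw [← hb]; exact h4
  calc u * v = (v * u * v⁻¹ * u⁻¹)⁻¹ * (v * u) := by group
    _ = v * u := by rw [h5, inv_one, one_mul]

end Cfsg.Agent.Lib.Helper4
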