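import Mathlib
import Cfsg.Prelude.Def_Local
import Cfsg.Agent.Lib.Helper4.FusionLift1
import Cfsg.Agent.Lib.Helper6.PPrimeCore
import Cfsg.Agent.Lib.Helper2.PConstrained
import Cfsg.Agent.Lib.Lead.Core

set_option autoImplicit false
open Pointwise

/-! `O_{p'}(N)` and `O_{p',p}(N)` of a subgroup `N`, viewed inside the big group. -/

namespace Cfsg.Agent.Lib.Helper4

open Cfsg Cfsg.Agent.Lib.Helper7

variable {G : Type*} [Group G] {p : ℕ}

/-- `O_{p'}(N)` viewed in `G` -/
def KG (p : ℕ) (N : Subgroup G) : Subgroup G := (pPrimeCore p ↥N).map N.subtype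

/-- `O_{p',p}(N)` viewed in `G` -/
def LG (p : ℕ) (N : Subgroup G) : Subgroup G := (pPrimePCore p ↥N).map N.subtype

theorem KG_def (p : ℕ) (N : Subgroup G) : KG p N = (pPrimeCore p ↥N).map N.subtype := rfl

theorem LG_def (p : ℕ) (N : Subgroup G) : LG p N = (pPrimePCore p ↥N).map N.subtype := rfl

theorem KG_le (N : Subgroup G) : KG p N ≤ N := Subgroup.map_subtype_le _

theorem LG_le (N : Subgroup G) : LG p N ≤ N := Subgroup.map_subtype_le _

/-- a normal subgroup of `↥N` maps to a subgroup normalized by `N` -/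
theorem le_normalizer_map_subtype (N : Subgroup G) (H : Subgroup ↥N) [hH : H.Normal] :
    N ≤ Subgroup.normalizer ((H.map N.subtype : Subgroup G) : Set G) := by
  have key : ∀ n ∈ N, ∀ x ∈ H.map N.subtype, n * x * n⁻¹ ∈ H.map N.subtype := by
    rintro n hn _ ⟨h, hh, rfl⟩
    exact ⟨⟨n, hn⟩ * h * ⟨n, hn⟩⁻¹, hH.conj_mem h hh ⟨n, hn⟩, rfl⟩
  intro n hn
  rw [Subgroup.mem_normalizer_iff]
  intro x
  constructor
  · exact key n hn x
  · intro hx
    have := key n⁻¹ (N.inv_mem hn) _ hx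
    have e : n⁻¹ * (n * x * n⁻¹) * n⁻¹⁻¹ = x := by group
    rwa [e] at this

theorem le_normalizer_KG (N : Subgroup G) : N ≤ Subgroup.normalizer ((KG p N : Subgroup G) : Set G) := by
  haveI : (pPrimeCore p ↥N).Normal := by
    unfold pPrimeCore
    exact Subgroup.sSup_normal _ (fun _ hH => hH.1)
  exact le_normalizer_map_subtype N _

variable [Finite G] [Fact p.Prime]

theorem le_normalizer_LG (N : Subgroup G) : N ≤ Subgroup.normalizer ((LG p N : Subgroup G) : Set G) := by
  haveI : (pPrimePCore p ↥N).Normal := Cfsg.Agent.Lib.Helper2.PConstrained.pPrimePCore_normal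
  exact le_normalizer_map_subtype N _

theorem KG_le_LG (N : Subgroup G) : KG p N ≤ LG p N :=
  Subgroup.map_mono Cfsg.Agent.Lib.Helper2.PConstrained.pPrimeCore_le_pPrimePCore

theorem KG_coprime (N : Subgroup G) : (Nat.card (KG p N)).Coprime p := by
  rw [KG_def, Subgroup.card_map_of_injective N.subtype_injective]
  exact Cfsg.Agent.Lib.Helper6.pPrimeCore_coprime p

/-- a `p'`-subgroup normalized by `N` lies in `O_{p'}(N)` -/
theorem le_KG {N X : Subgroup G} (hXN : X ≤ N) (hNX : N ≤ Subgroup.normalizer (X : Set G))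
    (hX : (Nat.card X).Coprime p) : X ≤ KG p N := by
  haveI hn : (X.subgroupOf N).Normal := Subgroup.normal_subgroupOf_of_le_normalizer hNX
  have hc : (Nat.card (X.subgroupOf N)).Coprime p := by
    rw [← Subgroup.card_map_of_injective N.subtype_injective, Subgroup.map_subgroupOf_eq_of_le hXN]
    exact hX
  have h1 := Cfsg.Agent.Lib.Helper6.le_pPrimeCore hn hc
  rw [KG_def, ← Subgroup.map_subgroupOf_eq_of_le hXN]
  exact Subgroup.map_mono h1

/-- a `p`-subgroup normalized by `N` lies in `O_{p',p}(N)` -/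
theorem le_LG {N X : Subgroup G} (hXN : X ≤ N) (hNX : N ≤ Subgroup.normalizer (X : Set G))
    (hX : IsPGroup p X) : X ≤ LG p N := by
  haveI hn : (X.subgroupOf N).Normal := Subgroup.normal_subgroupOf_of_le_normalizer hNX
  haveI hKn : (pPrimeCore p ↥N).Normal := by
    unfold pPrimeCore
    exact Subgroup.sSup_normal _ (fun _ hH => hH.1)
  have hp : IsPGroup p (X.subgroupOf N) := hX.comap_subtype
  have h1 : (X.subgroupOf N).map (QuotientGroup.mk' (pPrimeCore p ↥N)) ≤
      pCore p (↥N ⧸ pPrimeCore p ↥N) := by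
    apply Cfsg.Agent.Lib.Lead.le_pCore
    · exact Subgroup.Normal.map hn _ (QuotientGroup.mk'_surjective _)
    · exact hp.map _
  have h2 : X.subgroupOf N ≤ pPrimePCore p ↥N := by
    rw [Cfsg.Agent.Lib.Helper2.PConstrained.pPrimePCore_def]
    exact Subgroup.map_le_iff_le_comap.mp h1
  rw [LG_def, ← Subgroup.map_subgroupOf_eq_of_le hXN]
  exact Subgroup.map_mono h2

/-- a `p'`-element of `O_{p',p}(N)` lies in `O_{p'}(N)` -/
theorem mem_KG_of_mem_LG {N : Subgroup G} {v : G} (hv : v ∈ LG p N) (hc : (orderOf v).Coprime p) :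
    v ∈ KG p N := by
  haveI hKn : (pPrimeCore p ↥N).Normal := by
    unfold pPrimeCore
    exact Subgroup.sSup_normal _ (fun _ hH => hH.1)
  obtain ⟨v', hv', rfl⟩ := hv
  refine ⟨v', ?_, rfl⟩
  rw [Cfsg.Agent.Lib.Helper2.PConstrained.pPrimePCore_def, SetLike.mem_coe, Subgroup.mem_comap] at hv'
  have hc : (orderOf (v' : G)).Coprime p := hc
  have hpg := Cfsg.Agent.Lib.Lead.pCore_isPGroup (G := ↥N ⧸ pPrimeCore p ↥N) p
  obtain ⟨k, hk⟩ := (IsPGroup.iff_orderOf.mp hpg) ⟨_, hv'⟩
  rw [Subgroup.orderOf_mk] at hk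
  have hdvd : orderOf (QuotientGroup.mk' (pPrimeCore p ↥N) v') ∣ orderOf (v' : G) := by
    rw [Subgroup.orderOf_coe]
    exact orderOf_map_dvd _ v'
  have h1 : orderOf (QuotientGroup.mk' (pPrimeCore p ↥N) v') = 1 := by
    have hcc : (orderOf (QuotientGroup.mk' (pPrimeCore p ↥N) v')).Coprime
        (orderOf (QuotientGroup.mk' (pPrimeCore p ↥N) v')) := by
      apply Nat.Coprime.coprime_dvd_left hdvd
      rw [hk]
      exact Nat.Coprime.pow_right k hc
    exact (Nat.coprime_self _).mp hcc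
  rw [orderOf_eq_one_iff] at h1
  exact (QuotientGroup.eq_one_iff v').mp h1

/-- `O_{p',p}(N) = O_{p'}(N) (R ∩ O_{p',p}(N))` for a Sylow `p`-subgroup `R` of `N` -/
theorem LG_decomp {N R : Subgroup G} (hR : SylIn p N R) {l : G} (hl : l ∈ LG p N) :
    ∃ k ∈ KG p N, ∃ r ∈ R ⊓ LG p N, l = k * r := by
  have hS : SylIn p (LG p N) (R ⊓ LG p N) := sylIn_inf_normal (LG_le N) (le_normalizer_LG N) hR
  exact exists_mul_of_pPrime_le (KG_le_LG N) ((LG_le N).trans (le_normalizer_KG N)) hS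
    (fun v hv hc => mem_KG_of_mem_LG hv hc) hl

end Cfsg.Agent.Lib.Helper4
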