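import Mathlib
import Cfsg.Prelude.Def_ConjugacyFunctors

set_option autoImplicit false

namespace Cfsg.Agent.Lib.Helper4

open Cfsg

variable {P : Type*} [Group P]

theorem kLowerStarFamily_antitone {Q Q' : Subgroup P} (h : Q ≤ Q') :
    kLowerStarFamily Q' ⊆ kLowerStarFamily Q := by
  rintro B ⟨h1, h2, h3⟩
  exact ⟨h1, h.trans h2, fun A hA hAQ => h3 A hA (hAQ.trans h)⟩

theorem kUpperStarFamily_antitone {Q Q' : Subgroup P} (h : Q ≤ Q') :
    kUpperStarFamily Q' ⊆ kUpperStarFamily Q := by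
  rintro B ⟨h1, h2⟩
  exact ⟨h1, (Subgroup.commutator_mono le_rfl h).trans h2⟩

theorem kSeqOdd_succ (n : ℕ) :
    kSeqOdd P (n + 1) = sSup (kUpperStarFamily (sSup (kLowerStarFamily (kSeqOdd P n)))) := rfl

theorem kSeqOdd_succ' (n : ℕ) :
    kSeqOdd P (n + 1) = sSup (kUpperStarFamily (kSeqEven P n)) := rfl

theorem kSeqEven_def (n : ℕ) : kSeqEven P n = sSup (kLowerStarFamily (kSeqOdd P n)) := rfl

theorem kSeqOdd_succ_le (n : ℕ) : kSeqOdd P (n + 1) ≤ kSeqOdd P n := by
  induction n with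
  | zero => exact le_top
  | succ n ih =>
    rw [kSeqOdd_succ (n + 1), kSeqOdd_succ n]
    apply sSup_le_sSup
    apply kUpperStarFamily_antitone
    apply sSup_le_sSup
    exact kLowerStarFamily_antitone ih

theorem kSeqEven_le_succ (n : ℕ) : kSeqEven P n ≤ kSeqEven P (n + 1) := by
  rw [kSeqEven_def, kSeqEven_def]
  apply sSup_le_sSup
  exact kLowerStarFamily_antitone (kSeqOdd_succ_le n)

theorem kSeqOdd_antitone : Antitone (kSeqOdd P) := antitone_nat_of_succ_le kSeqOdd_succ_le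

theorem kSeqEven_monotone : Monotone (kSeqEven P) := monotone_nat_of_le_succ kSeqEven_le_succ

/-- eventual stabilisation of the K-sequence -/
theorem kSeq_stab [Finite P] : ∃ n : ℕ, ∀ m : ℕ, n ≤ m →
    kSeqEven P m = kInfLower P ∧ kSeqOdd P m = kInfUpper P := by
  obtain ⟨k1, hk1⟩ := WellFoundedGT.monotone_chain_condition
    (⟨kSeqEven P, kSeqEven_monotone⟩ : ℕ →o Subgroup P)
  obtain ⟨k2, hk2⟩ := WellFoundedLT.antitone_chain_condition (kSeqOdd_antitone (P := P))
  have hk1' : ∀ m, k1 ≤ m → kSeqEven P k1 = kSeqEven P m := hk1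
  have hL : kInfLower P = kSeqEven P k1 := by
    apply le_antisymm
    · apply iSup_le
      intro n
      rcases le_total n k1 with h | h
      · exact kSeqEven_monotone h
      · rw [hk1' n h]
    · exact le_iSup (kSeqEven P) k1
  have hU : kInfUpper P = kSeqOdd P k2 := by
    apply le_antisymm
    · exact iInf_le (kSeqOdd P) k2
    · apply le_iInf
      intro n
      rcases le_total n k2 with h | h
      · exact kSeqOdd_antitone h
      · rw [hk2 n h]
  refine ⟨max k1 k2, fun n hn => ⟨?_, ?_⟩⟩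
  · rw [hL]; exact (hk1' n ((le_max_left _ _).trans hn)).symm
  · rw [hU]; exact (hk2 n ((le_max_right _ _).trans hn)).symm

/-- an abelian normal subgroup has class at most two -/
theorem abelian_mem_classTwo (A : Subgroup P) (hA : IsMulCommutative A) :
    A ∈ classTwoSubgroups P := by
  show ⁅A, A⁆ ≤ Subgroup.centralizer (A : Set P)
  have : ⁅A, A⁆ = ⊥ := by
    rw [Subgroup.commutator_eq_bot_iff_le_centralizer]
    exact Subgroup.le_centralizer A
  rw [this]; exact bot_le

theorem inf_centralizer_of_abelian (A : Subgroup P) (hA : IsMulCommutative A) :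
    A ⊓ Subgroup.centralizer (A : Set P) = A :=
  inf_eq_left.mpr (Subgroup.le_centralizer A)

theorem abelian_normal_mem_lower (A : Subgroup P) [A.Normal] (hA : IsMulCommutative A)
    (Q : Subgroup P) : A ∈ kLowerStarFamily Q := by
  refine ⟨abelian_mem_classTwo A hA, ?_, ?_⟩
  · rw [Subgroup.normalizer_eq_top]; exact le_top
  · intro A' _ _ _ _ _
    rw [inf_centralizer_of_abelian A hA]
    exact Subgroup.commutator_le_left A A'

theorem abelian_normal_mem_upper (A : Subgroup P) [A.Normal] (hA : IsMulCommutative A)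
    (Q : Subgroup P) : A ∈ kUpperStarFamily Q := by
  refine ⟨abelian_mem_classTwo A hA, ?_⟩
  rw [inf_centralizer_of_abelian A hA]
  exact Subgroup.commutator_le_left A Q

theorem abelian_normal_le_kSeqEven (A : Subgroup P) [A.Normal] (hA : IsMulCommutative A) (n : ℕ) :
    A ≤ kSeqEven P n := le_sSup (abelian_normal_mem_lower A hA _)

theorem abelian_normal_le_kSeqOdd (A : Subgroup P) [A.Normal] (hA : IsMulCommutative A) (n : ℕ) :
    A ≤ kSeqOdd P n := by
  cases n with
  | zero => exact le_top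
  | succ n => exact le_sSup (abelian_normal_mem_upper A hA _)

end Cfsg.Agent.Lib.Helper4

namespace Cfsg.Agent.Lib.Helper4

open Cfsg

variable {P : Type*} [Group P]

open scoped commutatorElement

/-- If `Z` is central in `closure S` and `⁅s, x⁆ ∈ Z` for the generators `s`, then `⁅g, x⁆ ∈ Z` for all
`g ∈ closure S`. -/
theorem comm_mem_of_closure {S : Set P} {Z : Subgroup P}
    (hZ : Z ≤ Subgroup.centralizer ((Subgroup.closure S : Subgroup P) : Set P)) (x : P)
    (hS : ∀ s ∈ S, ⁅s, x⁆ ∈ Z) : ∀ g ∈ Subgroup.closure S, ⁅g, x⁆ ∈ Z := by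
  intro g hg
  induction hg using Subgroup.closure_induction with
  | mem s hs => exact hS s hs
  | one => rw [commutatorElement_one_left]; exact Z.one_mem
  | mul a b ha hb iha ihb =>
    have h1 : ⁅a * b, x⁆ = a * ⁅b, x⁆ * a⁻¹ * ⁅a, x⁆ := by
      simp only [commutatorElement_def]; group
    have h2 : a * ⁅b, x⁆ * a⁻¹ = ⁅b, x⁆ := by
      have h3 := hZ ihb
      rw [Subgroup.mem_centralizer_iff] at h3
      rw [h3 a ha]; group
    rw [h1, h2]; exact Z.mul_mem ihb iha
  | inv a ha iha =>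
    have h1 : ⁅a⁻¹, x⁆ = a⁻¹ * ⁅a, x⁆⁻¹ * a := by
      simp only [commutatorElement_def]; group
    have h2 : a⁻¹ * ⁅a, x⁆⁻¹ * a = ⁅a, x⁆⁻¹ := by
      have h3 := hZ (Z.inv_mem iha)
      rw [Subgroup.mem_centralizer_iff] at h3
      have h4 := h3 a ha
      calc a⁻¹ * ⁅a, x⁆⁻¹ * a = a⁻¹ * (⁅a, x⁆⁻¹ * a) := by group
        _ = a⁻¹ * (a * ⁅a, x⁆⁻¹) := by rw [h4]
        _ = ⁅a, x⁆⁻¹ := by group
    rw [h1, h2]; exact Z.inv_mem iha

theorem sup_zpowers_eq_closure (B : Subgroup P) (c : P) :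
    B ⊔ Subgroup.zpowers c = Subgroup.closure ((B : Set P) ∪ {c}) := by
  rw [Subgroup.closure_union, Subgroup.closure_eq, Subgroup.zpowers_eq_closure]

/-- the centre `X ∩ C(X)` of a subgroup, as a subgroup of the ambient group -/
def zOf (X : Subgroup P) : Subgroup P := X ⊓ Subgroup.centralizer (X : Set P)

section Extend

variable (B : Subgroup P) (c : P) (hc : c ∈ Subgroup.centralizer (B : Set P))
  (hcN : ∀ g ∈ Subgroup.normalizer (B : Set P), ⁅c, g⁆ ∈ B)

include hc in
theorem c_mem_zOf_sup : c ∈ zOf (B ⊔ Subgroup.zpowers c) := by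
  rw [zOf, Subgroup.mem_inf]
  refine ⟨le_sup_right (a := B) (Subgroup.mem_zpowers c), ?_⟩
  rw [Subgroup.mem_centralizer_iff]
  intro h hh
  have hle : B ⊔ Subgroup.zpowers c ≤ Subgroup.centralizer ({c} : Set P) := by
    apply sup_le
    · intro b hb
      rw [Subgroup.mem_centralizer_iff]
      intro y hy
      rw [Set.mem_singleton_iff] at hy
      subst hy
      rw [Subgroup.mem_centralizer_iff] at hc
      exact (hc b hb).symm
    · rw [Subgroup.zpowers_le]
      rw [Subgroup.mem_centralizer_iff]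
      intro y hy
      rw [Set.mem_singleton_iff] at hy
      subst hy
      rfl
  have := hle hh
  rw [Subgroup.mem_centralizer_iff] at this
  exact (this c rfl).symm

include hc in
theorem zOf_le_zOf_sup : zOf B ≤ zOf (B ⊔ Subgroup.zpowers c) := by
  intro z hz
  rw [zOf, Subgroup.mem_inf] at hz ⊢
  refine ⟨le_sup_left (a := B) hz.1, ?_⟩
  rw [Subgroup.mem_centralizer_iff]
  intro h hh
  have hle : B ⊔ Subgroup.zpowers c ≤ Subgroup.centralizer ({z} : Set P) := by
    apply sup_le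
    · intro b hb
      rw [Subgroup.mem_centralizer_iff]
      intro y hy
      rw [Set.mem_singleton_iff] at hy
      subst hy
      have := hz.2
      rw [Subgroup.mem_centralizer_iff] at this
      exact (this b hb).symm
    · rw [Subgroup.zpowers_le]
      rw [Subgroup.mem_centralizer_iff]
      intro y hy
      rw [Set.mem_singleton_iff] at hy
      subst hy
      rw [Subgroup.mem_centralizer_iff] at hc
      exact hc y hz.1
  have := hle hh
  rw [Subgroup.mem_centralizer_iff] at this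
  exact (this z rfl).symm

include hc hcN in
/-- `⁅c, g⁆ ∈ Z(B)` for `g` normalising `B`. -/
theorem comm_c_mem_zOf (g : P) (hg : g ∈ Subgroup.normalizer (B : Set P)) : ⁅c, g⁆ ∈ zOf B := by
  rw [zOf, Subgroup.mem_inf]
  refine ⟨hcN g hg, ?_⟩
  -- ⁅c,g⁆ = c * (g c⁻¹ g⁻¹), both centralise B
  have h1 : ⁅c, g⁆ = c * (g * c⁻¹ * g⁻¹) := by simp only [commutatorElement_def]; group
  rw [h1]
  apply Subgroup.mul_mem _ hc
  rw [Subgroup.mem_centralizer_iff]
  intro b hb
  have hb' : g⁻¹ * b * g ∈ B := by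
    have := (Subgroup.mem_normalizer_iff.mp (Subgroup.inv_mem _ hg) b).mp hb
    simpa using this
  have hc' : c⁻¹ ∈ Subgroup.centralizer (B : Set P) := Subgroup.inv_mem _ hc
  rw [Subgroup.mem_centralizer_iff] at hc'
  have h2 := hc' _ hb'
  calc b * (g * c⁻¹ * g⁻¹) = g * ((g⁻¹ * b * g) * c⁻¹) * g⁻¹ := by group
    _ = g * (c⁻¹ * (g⁻¹ * b * g)) * g⁻¹ := by rw [h2]
    _ = g * c⁻¹ * g⁻¹ * b := by group

include hc hcN in
/-- the key extension lemma -/
theorem comm_sup_mem (x : P) (hx : x ∈ Subgroup.normalizer (B : Set P))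
    (hB : ∀ b ∈ B, ⁅b, x⁆ ∈ zOf B) :
    ∀ g ∈ B ⊔ Subgroup.zpowers c, ⁅g, x⁆ ∈ zOf (B ⊔ Subgroup.zpowers c) := by
  intro g hg
  rw [sup_zpowers_eq_closure] at hg
  have hZ : zOf (B ⊔ Subgroup.zpowers c) ≤
      Subgroup.centralizer ((Subgroup.closure ((B : Set P) ∪ {c}) : Subgroup P) : Set P) := by
    rw [← sup_zpowers_eq_closure]
    exact inf_le_right
  apply comm_mem_of_closure hZ x _ g hg
  intro s hs
  rcases hs with hs | hs
  · exact zOf_le_zOf_sup B c hc (hB s hs)
  · rw [Set.mem_singleton_iff] at hs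
    subst hs
    exact zOf_le_zOf_sup B s hc (comm_c_mem_zOf B s hc hcN x hx)

include hc hcN in
theorem sup_mem_classTwo (hB : B ∈ classTwoSubgroups P) :
    B ⊔ Subgroup.zpowers c ∈ classTwoSubgroups P := by
  have hB' : ⁅B, B⁆ ≤ Subgroup.centralizer (B : Set P) := hB
  show ⁅B ⊔ Subgroup.zpowers c, B ⊔ Subgroup.zpowers c⁆ ≤
    Subgroup.centralizer ((B ⊔ Subgroup.zpowers c : Subgroup P) : Set P)
  have step1 : ∀ b ∈ B, ∀ g ∈ B ⊔ Subgroup.zpowers c, ⁅g, b⁆ ∈ zOf (B ⊔ Subgroup.zpowers c) := by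
    intro b hb
    apply comm_sup_mem B c hc hcN b (Subgroup.le_normalizer hb)
    intro b' hb'
    rw [zOf, Subgroup.mem_inf]
    refine ⟨?_, hB' (Subgroup.commutator_mem_commutator hb' hb)⟩
    rw [commutatorElement_def]
    exact B.mul_mem (B.mul_mem (B.mul_mem hb' hb) (B.inv_mem hb')) (B.inv_mem hb)
  refine le_trans ?_ (inf_le_right : zOf (B ⊔ Subgroup.zpowers c) ≤ _)
  rw [Subgroup.commutator_le]
  intro g₁ hg₁ g₂ hg₂
  rw [sup_zpowers_eq_closure] at hg₁
  have hZ : zOf (B ⊔ Subgroup.zpowers c) ≤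
      Subgroup.centralizer ((Subgroup.closure ((B : Set P) ∪ {c}) : Subgroup P) : Set P) := by
    rw [← sup_zpowers_eq_closure]
    exact inf_le_right
  apply comm_mem_of_closure hZ g₂ _ g₁ hg₁
  intro s hs
  rcases hs with hs | hs
  · have := step1 s hs g₂ hg₂
    have h2 : ⁅s, g₂⁆ = ⁅g₂, s⁆⁻¹ := (commutatorElement_inv g₂ s).symm
    rw [h2]
    exact Subgroup.inv_mem _ this
  · rw [Set.mem_singleton_iff] at hs
    subst hs
    have hcz : s ∈ Subgroup.centralizer ((B ⊔ Subgroup.zpowers s : Subgroup P) : Set P) :=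
      (Subgroup.mem_inf.mp (c_mem_zOf_sup B s hc)).2
    rw [Subgroup.mem_centralizer_iff] at hcz
    have := hcz g₂ hg₂
    have h2 : ⁅s, g₂⁆ = 1 := by
      rw [commutatorElement_eq_one_iff_commute]
      exact this.symm
    rw [h2]; exact Subgroup.one_mem _

end Extend

end Cfsg.Agent.Lib.Helper4
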