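import Mathlib
import Cfsg.Prelude.Def_ConjugacyFunctors
import Cfsg.Agent.Lib.Helper4.KInf

set_option autoImplicit false

/-! Transport of the K-sequence families along injective homomorphisms, isomorphism invariance of the K-infinity
subgroups, and the comparison of the K-sequence of a subgroup containing all terms. -/

namespace Cfsg.Agent.Lib.Helper4

open Cfsg

section Basic

variable {P : Type*} [Group P]

theorem le_normalizer_iff_forall (R B : Subgroup P) :
    R ≤ Subgroup.normalizer (B : Set P) ↔ ∀ r ∈ R, ∀ b ∈ B, r * b * r⁻¹ ∈ B := by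
  constructor
  · intro h r hr b hb
    exact ((Subgroup.mem_normalizer_iff.mp (h hr)) b).mp hb
  · intro h r hr
    rw [Subgroup.mem_normalizer_iff]
    intro b
    constructor
    · exact h r hr b
    · intro hb
      have := h r⁻¹ (R.inv_mem hr) _ hb
      simpa [mul_assoc] using this

theorem mem_classTwo_iff (B : Subgroup P) :
    B ∈ classTwoSubgroups P ↔ ⁅⁅B, B⁆, B⁆ = ⊥ := by
  rw [Subgroup.commutator_eq_bot_iff_le_centralizer]
  rfl

theorem le_zOf_iff (X B : Subgroup P) : X ≤ zOf B ↔ X ≤ B ∧ ⁅X, B⁆ = ⊥ := by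
  rw [zOf, le_inf_iff, Subgroup.commutator_eq_bot_iff_le_centralizer]

end Basic

section Transport

variable {Q P : Type*} [Group Q] [Group P] (ι : Q →* P) (hι : Function.Injective ι)

include hι

theorem map_mem_classTwo_iff (B : Subgroup Q) :
    B.map ι ∈ classTwoSubgroups P ↔ B ∈ classTwoSubgroups Q := by
  rw [mem_classTwo_iff, mem_classTwo_iff, ← Subgroup.map_commutator, ← Subgroup.map_commutator,
    (Subgroup.map_eq_bot_iff_of_injective _ hι)]

theorem map_le_zOf_map_iff (X B : Subgroup Q) : X.map ι ≤ zOf (B.map ι) ↔ X ≤ zOf B := by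
  rw [le_zOf_iff, le_zOf_iff, ← Subgroup.map_commutator,
    (Subgroup.map_eq_bot_iff_of_injective _ hι), Subgroup.map_le_map_iff_of_injective hι]

theorem map_zOf (B : Subgroup Q) : (zOf B).map ι = zOf (B.map ι) := by
  apply le_antisymm
  · exact (map_le_zOf_map_iff ι hι _ _).mpr le_rfl
  · intro x hx
    rw [zOf, Subgroup.mem_inf] at hx
    obtain ⟨⟨b, hb, rfl⟩, hxc⟩ := hx
    refine ⟨b, ?_, rfl⟩
    change b ∈ B ⊓ Subgroup.centralizer (B : Set Q)
    rw [Subgroup.mem_inf]
    refine ⟨hb, ?_⟩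
    rw [Subgroup.mem_centralizer_iff]
    intro c hc
    apply hι
    rw [map_mul, map_mul]
    exact (Subgroup.mem_centralizer_iff.mp hxc) (ι c) ⟨c, hc, rfl⟩

theorem map_le_normalizer_map_iff (R B : Subgroup Q) :
    R.map ι ≤ Subgroup.normalizer ((B.map ι : Subgroup P) : Set P) ↔
      R ≤ Subgroup.normalizer (B : Set Q) := by
  rw [le_normalizer_iff_forall, le_normalizer_iff_forall]
  constructor
  · intro h r hr b hb
    obtain ⟨c, hc, hc'⟩ := h (ι r) ⟨r, hr, rfl⟩ (ι b) ⟨b, hb, rfl⟩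
    have : c = r * b * r⁻¹ := by
      apply hι
      rw [hc', map_mul, map_mul, map_inv]
    rw [← this]
    exact hc
  · rintro h _ ⟨r, hr, rfl⟩ _ ⟨b, hb, rfl⟩
    exact ⟨r * b * r⁻¹, h r hr b hb, by rw [map_mul, map_mul, map_inv]⟩

theorem map_mem_upper_iff (R B : Subgroup Q) :
    B.map ι ∈ kUpperStarFamily (R.map ι) ↔ B ∈ kUpperStarFamily R := by
  unfold kUpperStarFamily
  simp only [Set.mem_ofPred_eq]
  rw [map_mem_classTwo_iff ι hι, ← Subgroup.map_commutator]
  change _ ∧ (⁅B, R⁆).map ι ≤ zOf (B.map ι) ↔ _ ∧ ⁅B, R⁆ ≤ zOf B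
  rw [map_le_zOf_map_iff ι hι]

theorem map_mem_lower_iff (R B : Subgroup Q) :
    B.map ι ∈ kLowerStarFamily (R.map ι) ↔ B ∈ kLowerStarFamily R := by
  unfold kLowerStarFamily
  simp only [Set.mem_ofPred_eq]
  rw [map_mem_classTwo_iff ι hι, map_le_normalizer_map_iff ι hι]
  apply and_congr Iff.rfl
  apply and_congr Iff.rfl
  constructor
  · intro h A hA hAR hBA h1 h2
    have := h (A.map ι) ((map_mem_classTwo_iff ι hι A).mpr hA) (Subgroup.map_mono hAR)
      ((map_le_normalizer_map_iff ι hι B A).mpr hBA)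
      (by rw [← Subgroup.map_commutator, ← Subgroup.map_commutator, h1, Subgroup.map_bot])
      (by
        change ⁅⁅zOf (B.map ι), A.map ι⁆, A.map ι⁆ = ⊥
        rw [← map_zOf ι hι, ← Subgroup.map_commutator, ← Subgroup.map_commutator]
        change ⁅⁅zOf B, A⁆, A⁆ = ⊥ at h2
        rw [h2, Subgroup.map_bot])
    change ⁅B.map ι, A.map ι⁆ ≤ zOf (B.map ι) at this
    rw [← Subgroup.map_commutator, map_le_zOf_map_iff ι hι] at this
    exact this
  · intro h A' hA' hA'R hBA' h1 h2
    have hrange : A' ≤ ι.range := hA'R.trans (by rw [MonoidHom.range_eq_map]; exact Subgroup.map_mono le_top)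
    obtain ⟨A, rfl⟩ : ∃ A : Subgroup Q, A.map ι = A' := ⟨A'.comap ι, Subgroup.map_comap_eq_self hrange⟩
    have hA := (map_mem_classTwo_iff ι hι A).mp hA'
    have hAR := (Subgroup.map_le_map_iff_of_injective hι).mp hA'R
    have hBA := (map_le_normalizer_map_iff ι hι B A).mp hBA'
    have h1' : ⁅B, ⁅A, A⁆⁆ = ⊥ := by
      rw [← Subgroup.map_commutator, ← Subgroup.map_commutator,
        (Subgroup.map_eq_bot_iff_of_injective _ hι)] at h1
      exact h1
    have h2' : ⁅⁅B ⊓ Subgroup.centralizer (B : Set Q), A⁆, A⁆ = ⊥ := by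
      change ⁅⁅zOf (B.map ι), A.map ι⁆, A.map ι⁆ = ⊥ at h2
      rw [← map_zOf ι hι, ← Subgroup.map_commutator, ← Subgroup.map_commutator,
        (Subgroup.map_eq_bot_iff_of_injective _ hι)] at h2
      exact h2
    have := h A hA hAR hBA h1' h2'
    change ⁅B.map ι, A.map ι⁆ ≤ zOf (B.map ι)
    rw [← Subgroup.map_commutator, map_le_zOf_map_iff ι hι]
    exact this

theorem sandwich_lower (o : Subgroup Q) (X0 X1 : Subgroup P) (h0 : o.map ι ≤ X0) (h1 : X1 ≤ o.map ι)
    (hQ : sSup (kLowerStarFamily X0) ≤ ι.range) :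
    sSup (kLowerStarFamily X0) ≤ (sSup (kLowerStarFamily o)).map ι ∧
      (sSup (kLowerStarFamily o)).map ι ≤ sSup (kLowerStarFamily X1) := by
  constructor
  · apply sSup_le
    intro B' hB'
    have hrange : B' ≤ ι.range := (le_sSup hB').trans hQ
    obtain ⟨B, rfl⟩ : ∃ B : Subgroup Q, B.map ι = B' := ⟨B'.comap ι, Subgroup.map_comap_eq_self hrange⟩
    apply Subgroup.map_mono
    apply le_sSup
    exact (map_mem_lower_iff ι hι o B).mp (kLowerStarFamily_antitone h0 hB')
  · rw [Subgroup.map_le_iff_le_comap]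
    apply sSup_le
    intro B hB
    rw [← Subgroup.map_le_iff_le_comap]
    apply le_sSup
    exact kLowerStarFamily_antitone h1 ((map_mem_lower_iff ι hι o B).mpr hB)

theorem sandwich_upper (o : Subgroup Q) (X0 X1 : Subgroup P) (h0 : o.map ι ≤ X0) (h1 : X1 ≤ o.map ι)
    (hQ : sSup (kUpperStarFamily X0) ≤ ι.range) :
    sSup (kUpperStarFamily X0) ≤ (sSup (kUpperStarFamily o)).map ι ∧
      (sSup (kUpperStarFamily o)).map ι ≤ sSup (kUpperStarFamily X1) := by
  constructor
  · apply sSup_le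
    intro B' hB'
    have hrange : B' ≤ ι.range := (le_sSup hB').trans hQ
    obtain ⟨B, rfl⟩ : ∃ B : Subgroup Q, B.map ι = B' := ⟨B'.comap ι, Subgroup.map_comap_eq_self hrange⟩
    apply Subgroup.map_mono
    apply le_sSup
    exact (map_mem_upper_iff ι hι o B).mp (kUpperStarFamily_antitone h0 hB')
  · rw [Subgroup.map_le_iff_le_comap]
    apply sSup_le
    intro B hB
    rw [← Subgroup.map_le_iff_le_comap]
    apply le_sSup
    exact kUpperStarFamily_antitone h1 ((map_mem_upper_iff ι hι o B).mpr hB)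

/-- the interleaving of the K-sequences of `Q` and `P` when (the image of) `Q` contains all K-terms of `P` -/
theorem kSeq_sandwich (hQ : ∀ n : ℕ, kSeqEven P n ≤ ι.range ∧ kSeqOdd P (n + 1) ≤ ι.range) (n : ℕ) :
    (kSeqOdd P (n + 1) ≤ (kSeqOdd Q n).map ι ∧ (kSeqOdd Q n).map ι ≤ kSeqOdd P n) ∧
      (kSeqEven P n ≤ (kSeqEven Q n).map ι ∧ (kSeqEven Q n).map ι ≤ kSeqEven P (n + 1)) := by
  induction n with
  | zero =>
    have ho : kSeqOdd P (0 + 1) ≤ (kSeqOdd Q 0).map ι ∧ (kSeqOdd Q 0).map ι ≤ kSeqOdd P 0 := by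
      refine ⟨?_, le_top⟩
      change _ ≤ (⊤ : Subgroup Q).map ι
      rw [← MonoidHom.range_eq_map]
      exact (hQ 0).2
    exact ⟨ho, sandwich_lower ι hι _ _ _ ho.2 ho.1 (hQ 0).1⟩
  | succ n ih =>
    have ho : kSeqOdd P (n + 1 + 1) ≤ (kSeqOdd Q (n + 1)).map ι ∧
        (kSeqOdd Q (n + 1)).map ι ≤ kSeqOdd P (n + 1) := by
      have := sandwich_upper ι hι (kSeqEven Q n) (kSeqEven P (n + 1)) (kSeqEven P n) ih.2.2 ih.2.1
        (hQ (n + 1)).2
      exact ⟨this.1, this.2⟩
    exact ⟨ho, sandwich_lower ι hι _ _ _ ho.2 ho.1 (hQ (n + 1)).1⟩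

/-- **K-infinity of a subgroup containing all K-terms** (general injective form). -/
theorem kInf_map_of_injective (hQ : ∀ n : ℕ, kSeqEven P n ≤ ι.range ∧ kSeqOdd P (n + 1) ≤ ι.range) :
    (kInfLower Q).map ι = kInfLower P ∧ (kInfUpper Q).map ι = kInfUpper P := by
  have key := kSeq_sandwich ι hι hQ
  constructor
  · unfold kInfLower
    rw [Subgroup.map_iSup]
    apply le_antisymm
    · apply iSup_le
      intro n
      exact (key n).2.2.trans (le_iSup (kSeqEven P) (n + 1))
    · apply iSup_le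
      intro n
      exact (key n).2.1.trans (le_iSup (fun n => (kSeqEven Q n).map ι) n)
  · unfold kInfUpper
    rw [Subgroup.map_iInf _ hι]
    apply le_antisymm
    · apply le_iInf
      intro n
      exact (iInf_le (fun n => (kSeqOdd Q n).map ι) n).trans (key n).1.2
    · apply le_iInf
      intro n
      exact (iInf_le (kSeqOdd P) (n + 1)).trans (key n).1.1

end Transport

section Iso

universe u

theorem kInfLower_map_equiv {Q R : Type*} [Group Q] [Group R] (φ : Q ≃* R) :
    (kInfLower Q).map φ.toMonoidHom = kInfLower R :=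
  (kInf_map_of_injective φ.toMonoidHom φ.injective (fun n => by
    rw [MonoidHom.range_eq_top.mpr φ.surjective]; exact ⟨le_top, le_top⟩)).1

theorem kInfUpper_map_equiv {Q R : Type*} [Group Q] [Group R] (φ : Q ≃* R) :
    (kInfUpper Q).map φ.toMonoidHom = kInfUpper R :=
  (kInf_map_of_injective φ.toMonoidHom φ.injective (fun n => by
    rw [MonoidHom.range_eq_top.mpr φ.surjective]; exact ⟨le_top, le_top⟩)).2

theorem center_le_kInfLower (P : Type*) [Group P] : Subgroup.center P ≤ kInfLower P :=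
  (abelian_normal_le_kSeqEven (Subgroup.center P) inferInstance 0).trans (le_iSup (kSeqEven P) 0)

theorem center_le_kInfUpper (P : Type*) [Group P] : Subgroup.center P ≤ kInfUpper P :=
  le_iInf fun n => abelian_normal_le_kSeqOdd (Subgroup.center P) inferInstance n

theorem isCharPFunctor_kInfLower (p : ℕ) [Fact p.Prime] : IsCharPFunctor.{u} p kInfLower := by
  refine ⟨fun Q _ _ hQ hnt h => ?_, fun Q R _ _ _ _ φ => kInfLower_map_equiv φ⟩
  have := hQ.center_nontrivial
  have h2 := center_le_kInfLower Q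
  rw [h] at h2
  exact (Subgroup.nontrivial_iff_ne_bot _).mp this (le_bot_iff.mp h2)

theorem isCharPFunctor_kInfUpper (p : ℕ) [Fact p.Prime] : IsCharPFunctor.{u} p kInfUpper := by
  refine ⟨fun Q _ _ hQ hnt h => ?_, fun Q R _ _ _ _ φ => kInfUpper_map_equiv φ⟩
  have := hQ.center_nontrivial
  have h2 := center_le_kInfUpper Q
  rw [h] at h2
  exact (Subgroup.nontrivial_iff_ne_bot _).mp this (le_bot_iff.mp h2)

end Iso

end Cfsg.Agent.Lib.Helper4
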