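import Mathlib
import Cfsg.Prelude.Def_ConjugacyFunctors
import Cfsg.Agent.Lib.Helper6.PCore

set_option autoImplicit false

/-! Sections of a group, and the transport of isomorphism-invariant `p`-group functors. -/

namespace Cfsg.Agent.Lib.Helper4

open Cfsg

universe u

/-- `X` is (isomorphic to) a section of `G` -/
def IsSectionOf (G : Type u) [Group G] (X : Type u) [Group X] : Prop :=
  ∃ (K : Subgroup G) (f : ↥K →* X), Function.Surjective f

section
variable {G : Type u} [Group G] {X Y : Type u} [Group X] [Group Y]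

theorem IsSectionOf.refl (G : Type u) [Group G] : IsSectionOf G G :=
  ⟨⊤, (⊤ : Subgroup G).subtype, fun x => ⟨⟨x, Subgroup.mem_top x⟩, rfl⟩⟩

theorem IsSectionOf.of_surjective (h : IsSectionOf G X) (f : X →* Y) (hf : Function.Surjective f) :
    IsSectionOf G Y := by
  obtain ⟨K, g, hg⟩ := h
  exact ⟨K, f.comp g, hf.comp hg⟩

theorem IsSectionOf.of_mulEquiv (h : IsSectionOf G X) (e : X ≃* Y) : IsSectionOf G Y :=
  h.of_surjective e.toMonoidHom e.surjective

theorem IsSectionOf.quotient (h : IsSectionOf G X) (N : Subgroup X) [N.Normal] :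
    IsSectionOf G (X ⧸ N) :=
  h.of_surjective (QuotientGroup.mk' N) (QuotientGroup.mk'_surjective N)

theorem IsSectionOf.subgroup (h : IsSectionOf G X) (H : Subgroup X) : IsSectionOf G ↥H := by
  obtain ⟨K, f, hf⟩ := h
  let e : ↥(H.comap f) ≃* ↥((H.comap f).map K.subtype) :=
    Subgroup.equivMapOfInjective _ K.subtype K.subtype_injective
  refine ⟨(H.comap f).map K.subtype, (f.subgroupComap H).comp e.symm.toMonoidHom, ?_⟩
  exact (f.subgroupComap_surjective_of_surjective H hf).comp e.symm.surjective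

theorem isSectionOf_quotient_subgroupOf (K R : Subgroup G) [(R.subgroupOf K).Normal] :
    IsSectionOf G (↥K ⧸ R.subgroupOf K) :=
  ⟨K, QuotientGroup.mk' _, QuotientGroup.mk'_surjective _⟩

theorem IsSectionOf.exists_equiv (h : IsSectionOf G X) :
    ∃ (K R : Subgroup G) (_ : (R.subgroupOf K).Normal), Nonempty (X ≃* ↥K ⧸ R.subgroupOf K) := by
  obtain ⟨K, f, hf⟩ := h
  have hR : (f.ker.map K.subtype).subgroupOf K = f.ker :=
    Subgroup.comap_map_eq_self_of_injective K.subtype_injective _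
  haveI hn : ((f.ker.map K.subtype).subgroupOf K).Normal := by rw [hR]; infer_instance
  refine ⟨K, f.ker.map K.subtype, hn, ⟨?_⟩⟩
  exact (QuotientGroup.quotientKerEquivOfSurjective f hf).symm.trans
    (QuotientGroup.quotientMulEquivOfEq hR.symm)

end

section
variable {p : ℕ} {W : ∀ (Q : Type u) [Group Q], Subgroup Q}
variable {X Y : Type u} [Group X] [Group Y]

/-- transport of an isomorphism-invariant functor along a homomorphism injective on `P` -/
theorem inducedFunctor_map (hW : IsCharPFunctor.{u} p W) [Finite X] (f : X →* Y) (P : Subgroup X)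
    (hP : IsPGroup p P) (hinj : ∀ x ∈ P, f x = 1 → x = 1) :
    inducedFunctor W (P.map f) = (inducedFunctor W P).map f := by
  have hbij : Function.Bijective (f.subgroupMap P) := by
    refine ⟨?_, f.subgroupMap_surjective P⟩
    rw [injective_iff_map_eq_one]
    intro x hx
    have h1 : f (x : X) = 1 := congrArg Subtype.val hx
    exact Subtype.ext (hinj x x.2 h1)
  let φ : ↥P ≃* ↥(P.map f) := MulEquiv.ofBijective (f.subgroupMap P) hbij
  have hφ := hW.2 ↥P ↥(P.map f) hP φ
  unfold inducedFunctor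
  rw [← hφ, Subgroup.map_map, Subgroup.map_map]
  rfl

theorem inducedFunctor_le (P : Subgroup X) : inducedFunctor W P ≤ P := Subgroup.map_subtype_le _

theorem isConjugacyFunctor_inducedFunctor (hW : IsCharPFunctor.{u} p W) [Finite X] :
    IsConjugacyFunctor p (inducedFunctor (G := X) W) := by
  intro P hP
  refine ⟨inducedFunctor_le P, ?_, ?_⟩
  · intro hne
    haveI : Nontrivial ↥P := (Subgroup.nontrivial_iff_ne_bot P).mpr hne
    have h1 := hW.1 ↥P hP inferInstance
    intro h
    apply h1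
    exact (Subgroup.map_eq_bot_iff_of_injective _ P.subtype_injective).mp h
  · intro g
    apply inducedFunctor_map hW _ P hP
    intro x _ hx
    have : (MulAut.conj g) x = (MulAut.conj g) 1 := by rw [map_one]; exact hx
    exact (MulAut.conj g).injective this

/-- the family of conjugacy functors induced on `X` -/
def indFam (𝓦 : Set (∀ (Q : Type u) [Group Q], Subgroup Q)) (X : Type u) [Group X] :
    Set (Subgroup X → Subgroup X) :=
  (fun W => inducedFunctor (G := X) W) '' 𝓦

theorem indFam_isConjugacyFunctor {𝓦 : Set (∀ (Q : Type u) [Group Q], Subgroup Q)}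
    (h𝓦 : ∀ W ∈ 𝓦, IsCharPFunctor.{u} p W) [Finite X] :
    ∀ W' ∈ indFam 𝓦 X, IsConjugacyFunctor p W' := by
  rintro _ ⟨W, hW, rfl⟩
  exact isConjugacyFunctor_inducedFunctor (h𝓦 W hW)

/-- control of strong fusion is transported along injective homomorphisms -/
theorem fcsf_range_of_injective {𝓦 : Set (∀ (Q : Type u) [Group Q], Subgroup Q)}
    (h𝓦 : ∀ W ∈ 𝓦, IsCharPFunctor.{u} p W) [Finite X] (f : X →* Y) (hf : Function.Injective f)
    (h : FamilyControlsStrongFusionIn p (indFam 𝓦 X) ⊤) :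
    FamilyControlsStrongFusionIn p (indFam 𝓦 Y) f.range := by
  obtain ⟨T, -, hTp, hTi, hctl⟩ := h
  refine ⟨T.map f, ?_, hTp.map f, ?_, ?_⟩
  · rintro _ ⟨t, -, rfl⟩
    exact ⟨t, rfl⟩
  · rw [MonoidHom.range_eq_map, Subgroup.relIndex_map_map_of_injective _ _ hf]
    exact hTi
  · intro A h hh hAT hhA
    obtain ⟨h', rfl⟩ := hh
    have hAsub : ∀ a ∈ A, ∃ t ∈ T, f t = a := fun a ha => hAT ha
    have hA'T : f ⁻¹' A ⊆ (T : Set X) := by
      intro a' ha'
      obtain ⟨t, ht, hta⟩ := hAsub _ ha'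
      rw [← hf hta]; exact ht
    have hA'h : (fun a => h' * a * h'⁻¹) '' (f ⁻¹' A) ⊆ (T : Set X) := by
      rintro _ ⟨a', ha', rfl⟩
      have h1 : f h' * f a' * (f h')⁻¹ ∈ T.map f := hhA ⟨f a', ha', rfl⟩
      obtain ⟨t, ht, hta⟩ := h1
      have : t = h' * a' * h'⁻¹ := by
        apply hf
        rw [hta, map_mul, map_mul, map_inv]
      show h' * a' * h'⁻¹ ∈ T
      rw [← this]; exact ht
    obtain ⟨n, c, h0, hstep, hsets, hlast⟩ := hctl (f ⁻¹' A) h' (Subgroup.mem_top _) hA'T hA'h
    refine ⟨n, fun i => f (c i), by show f (c 0) = 1; rw [h0, map_one], ?_, ?_, ?_⟩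
    · intro i
      obtain ⟨_, ⟨W, hW, rfl⟩, hmem⟩ := hstep i
      refine ⟨inducedFunctor W, ⟨W, hW, rfl⟩, ?_⟩
      refine Subgroup.mem_inf.mpr ⟨⟨c i.succ * (c i.castSucc)⁻¹, by rw [map_mul, map_inv]⟩, ?_⟩
      have hinj : ∀ x ∈ T, f x = 1 → x = 1 := by
        intro x _ hx
        apply hf
        rw [hx, map_one]
      rw [inducedFunctor_map (h𝓦 W hW) f T hTp hinj]
      apply Subgroup.le_normalizer_map f
      refine ⟨c i.succ * (c i.castSucc)⁻¹, hmem.2, ?_⟩
      rw [map_mul, map_inv]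
    · intro i
      rintro _ ⟨a, ha, rfl⟩
      obtain ⟨t, ht, rfl⟩ := hAsub a ha
      have h1 : c i * t * (c i)⁻¹ ∈ T := hsets i ⟨t, ha, rfl⟩
      exact ⟨_, h1, by rw [map_mul, map_mul, map_inv]⟩
    · intro a ha
      obtain ⟨t, ht, rfl⟩ := hAsub a ha
      have h1 := hlast t ha
      rw [← map_inv, ← map_inv, ← map_mul, ← map_mul, ← map_mul, ← map_mul, h1]

/-- control of strong fusion is isomorphism invariant -/
theorem fcsf_top_of_mulEquiv {𝓦 : Set (∀ (Q : Type u) [Group Q], Subgroup Q)}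
    (h𝓦 : ∀ W ∈ 𝓦, IsCharPFunctor.{u} p W) [Finite X] (e : X ≃* Y)
    (h : FamilyControlsStrongFusionIn p (indFam 𝓦 X) ⊤) :
    FamilyControlsStrongFusionIn p (indFam 𝓦 Y) ⊤ := by
  have h1 := fcsf_range_of_injective h𝓦 e.toMonoidHom e.injective h
  have h2 : e.toMonoidHom.range = ⊤ := MonoidHom.range_eq_top.mpr e.surjective
  rwa [h2] at h1

/-- control of strong fusion in the group `↥H` gives control in the subgroup `H` -/
theorem fcsf_of_subgroup {𝓦 : Set (∀ (Q : Type u) [Group Q], Subgroup Q)}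
    (h𝓦 : ∀ W ∈ 𝓦, IsCharPFunctor.{u} p W) [Finite X] (H : Subgroup X)
    (h : FamilyControlsStrongFusionIn p (indFam 𝓦 ↥H) ⊤) :
    FamilyControlsStrongFusionIn p (indFam 𝓦 X) H := by
  have h1 := fcsf_range_of_injective h𝓦 H.subtype H.subtype_injective h
  rwa [Subgroup.range_subtype] at h1

/-- the `p`-constraint condition is isomorphism invariant -/
theorem centralizer_pCore_le_of_mulEquiv (e : X ≃* Y)
    (h : Subgroup.centralizer ((pCore p X : Subgroup X) : Set X) ≤ pCore p X) :
    Subgroup.centralizer ((pCore p Y : Subgroup Y) : Set Y) ≤ pCore p Y := by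
  have hmap := Cfsg.Agent.Lib.Helper6.pCore_map_equiv p e
  intro y hy
  obtain ⟨x, rfl⟩ := e.surjective y
  have hx : x ∈ Subgroup.centralizer ((pCore p X : Subgroup X) : Set X) := by
    rw [Subgroup.mem_centralizer_iff]
    intro q hq
    have hq' : e q ∈ pCore p Y := by rw [← hmap]; exact ⟨q, hq, rfl⟩
    have := Subgroup.mem_centralizer_iff.mp hy (e q) hq'
    apply e.injective
    rw [map_mul, map_mul]; exact this
  rw [← hmap]
  exact ⟨x, h hx, rfl⟩

end

end Cfsg.Agent.Lib.Helper4
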