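import Mathlib
import Cfsg.Agent.Lib.Helper4.AlperinTame2

set_option autoImplicit false
open Pointwise

namespace Cfsg.Agent.Lib.Helper4

open Cfsg Cfsg.Agent.Lib.Helper7

variable {G : Type*} [Group G] {p : ℕ} [Finite G] [Fact p.Prime]

theorem isConjugacyFunctor_id : IsConjugacyFunctor (G := G) p (fun P => P) := by
  intro P _
  exact ⟨le_rfl, fun h => h, fun _ => rfl⟩

/-- Alperin's theorem with tame intersections and `p`-element factors, for subgroups -/
theorem alperin_tame_subgroup (P : Sylow p G) : ∀ d : ℕ, ∀ U : Subgroup G, U ≤ (P : Subgroup G) →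
    Nat.card (P : Subgroup G) - Nat.card U = d → ∀ g : G, cs g (U : Set G) ⊆ (P : Subgroup G) →
    ViaP (StepOK P) (U : Set G) g := by
  intro d
  induction d using Nat.strong_induction_on with
  | _ d ih =>
  intro U hUP hd g hg
  set 𝓕 : Set (Subgroup G) := {T | T ≤ (P : Subgroup G) ∧
    ¬ p ∣ ((P : Subgroup G) ⊓ Subgroup.normalizer (T : Set G)).relIndex (Subgroup.normalizer (T : Set G))}
    with h𝓕def
  have h𝓕 : ∀ T ∈ 𝓕, T ≤ (P : Subgroup G) := fun T hT => hT.1
  have hext : ∀ T : Subgroup G, T ≤ (P : Subgroup G) → ∃ U' ∈ 𝓕, (∃ g : G, Helper7.cj g T = U') ∧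
      ¬ p ∣ ((P : Subgroup G) ⊓ Subgroup.normalizer ((U' : Subgroup G) : Set G)).relIndex
        (Subgroup.normalizer ((U' : Subgroup G) : Set G)) := by
    intro T hT
    obtain ⟨c, hc⟩ := exists_wellPlaced_conj P (isConjugacyFunctor_id (G := G) (p := p)) T hT
    have h0 := hc.2 0
    exact ⟨Helper7.cj c T, ⟨hc.1, h0⟩, ⟨c, rfl⟩, h0⟩
  have hvia := alperin_subgroup P 𝓕 h𝓕 hext _ U hUP rfl g hg
  apply hvia.toViaP
  intro T hT hcard x hx
  have hcard' : Nat.card U ≤ Nat.card T := hcard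
  apply tame_step P T hT.1 hT.2 ?_ x hx
  intro U' hU'P hlt g' hg'
  have h1 : Nat.card U' ≤ Nat.card (P : Subgroup G) := Subgroup.card_le_of_le hU'P
  have h2 : Nat.card U ≤ Nat.card (P : Subgroup G) := Subgroup.card_le_of_le hUP
  apply ih (Nat.card (P : Subgroup G) - Nat.card U') ?_ U' hU'P rfl g' hg'
  omega

/-- Alperin's theorem with tame intersections and `p`-element factors, for subsets -/
theorem alperin_tame_set (P : Sylow p G) (A : Set G) (g : G) (hAS : A ⊆ (P : Subgroup G))
    (hAg : cs g A ⊆ (P : Subgroup G)) : ViaP (StepOK P) A g := by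
  set U := Subgroup.closure A with hU
  have hUP : U ≤ (P : Subgroup G) := (Subgroup.closure_le _).mpr hAS
  have hUg : cs g (U : Set G) ⊆ (P : Subgroup G) := by
    rw [cs_subgroup]
    have h1 : A ⊆ ((Helper7.cj g (P : Subgroup G) : Subgroup G) : Set G) := by
      intro a ha
      rw [SetLike.mem_coe, mem_cj]
      exact hAg ⟨a, ha, rfl⟩
    have h2 : U ≤ Helper7.cj g (P : Subgroup G) := (Subgroup.closure_le _).mpr h1
    have h3 := cj_mono g⁻¹ h2
    rw [cj_inv_cj] at h3
    exact h3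
  exact (alperin_tame_subgroup P _ U hUP rfl g hUg).mono Subgroup.subset_closure

end Cfsg.Agent.Lib.Helper4
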