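import Mathlib
import Cfsg.Prelude.Def_TwoFusion
import Cfsg.Agent.Lib.Helper4.AlperinGold1
import Cfsg.Agent.Lib.Helper4.AlperinTame3
import Cfsg.Agent.Lib.Lead.FrobNPC5
import Cfsg.Agent.Lib.Lead.PComplement
import Cfsg.Agent.Lib.Helper2.PCore
import Cfsg.Agent.Lib.Helper6.CharSub

set_option autoImplicit false
open Pointwise

/-! The Alperin–Goldschmidt conjugation theorem: conjugation up to centralizing elements, and the
centralizer of a subgroup whose centre is a Sylow subgroup of it. -/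

namespace Cfsg.Agent.Lib.Helper4

open Cfsg Cfsg.Agent.Lib.Helper7

variable {G : Type*} [Group G] {p : ℕ}

/-- conjugation through members of `𝓕`, up to an element centralizing `A` -/
def ViaC (𝓕 : Set (Subgroup G)) (A : Set G) (g : G) : Prop :=
  ∃ c g', c ∈ Subgroup.centralizer A ∧ g = c * g' ∧ Via 𝓕 A g'

variable {𝓕 : Set (Subgroup G)}

theorem ViaC.of_via {A : Set G} {g : G} (h : Via 𝓕 A g) : ViaC 𝓕 A g :=
  ⟨1, g, Subgroup.one_mem _, (one_mul _).symm, h⟩

theorem ViaC.mono {A B : Set G} {g : G} (h : ViaC 𝓕 A g) (hBA : B ⊆ A) : ViaC 𝓕 B g := by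
  obtain ⟨c, g', hc, hg, hv⟩ := h
  exact ⟨c, g', Subgroup.centralizer_le hBA hc, hg, hv.mono hBA⟩

theorem cs_eq_of_mem_centralizer {A : Set G} {c : G} (hc : c ∈ Subgroup.centralizer A) :
    cs c A = A := by
  ext x
  rw [mem_cs]
  have key : ∀ y ∈ A, c * y * c⁻¹ = y := by
    intro y hy
    have := Subgroup.mem_centralizer_iff.mp hc y hy
    calc c * y * c⁻¹ = (y * c) * c⁻¹ := by rw [this]
      _ = y := by group
  have key' : ∀ y ∈ A, c⁻¹ * y * c = y := by
    intro y hy
    have := Subgroup.mem_centralizer_iff.mp hc y hy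
    calc c⁻¹ * y * c = c⁻¹ * (y * c) := by group
      _ = c⁻¹ * (c * y) := by rw [this]
      _ = y := by group
  constructor
  · intro h
    have := key' _ h
    have e : c⁻¹ * (c * x * c⁻¹) * c = x := by group
    rw [e] at this
    rw [this]; exact h
  · intro h
    rw [key x h]; exact h

theorem ViaC.trans {A : Set G} {g h : G} (h1 : ViaC 𝓕 A g) (h2 : ViaC 𝓕 (cs g A) h) :
    ViaC 𝓕 A (g * h) := by
  obtain ⟨c, g', hc, rfl, hv⟩ := h1
  obtain ⟨c', h', hc', rfl, hv'⟩ := h2
  rw [cs_mul, cs_eq_of_mem_centralizer hc] at hc' hv'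
  refine ⟨c * (g' * c' * g'⁻¹), g' * h', Subgroup.mul_mem _ hc ?_, by group, hv.trans hv'⟩
  rw [Subgroup.mem_centralizer_iff]
  intro a ha
  have h1 : g'⁻¹ * a * g' ∈ cs g' A := ⟨a, ha, rfl⟩
  have h2 := Subgroup.mem_centralizer_iff.mp hc' _ h1
  calc a * (g' * c' * g'⁻¹) = g' * ((g'⁻¹ * a * g') * c') * g'⁻¹ := by group
    _ = g' * (c' * (g'⁻¹ * a * g')) * g'⁻¹ := by rw [h2]
    _ = g' * c' * g'⁻¹ * a := by group

theorem Via.toViaC [Finite G] {𝓖 : Set (Subgroup G)} {A : Set G} {g : G} (h : Via 𝓕 A g)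
    (hstep : ∀ T ∈ 𝓕, A.ncard ≤ Nat.card T → ∀ x ∈ Subgroup.normalizer (T : Set G),
      ViaC 𝓖 (T : Set G) x) : ViaC 𝓖 A g := by
  induction h with
  | nil A => exact ViaC.of_via (Via.nil _)
  | cons A T x g hT hx hA _ ih =>
    have h1 : A.ncard ≤ Nat.card T := by
      have := Set.ncard_le_ncard hA (Set.toFinite _)
      exact this
    have h2 : ViaC 𝓖 A x := (hstep T hT h1 x hx).mono hA
    apply ViaC.trans h2
    apply ih
    intro T' hT' hcard x' hx'
    rw [ncard_cs] at hcard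
    exact hstep T' hT' hcard x' hx'

variable [Fact p.Prime]

/-- a group with a central Sylow `p`-subgroup `Q` is `Q × Y` with `Y` a characteristic `p'`-subgroup -/
theorem exists_char_complement_of_central_sylow {C : Type*} [Group C] [Finite C] (Q : Sylow p C)
    (hQ : (Q : Subgroup C) ≤ Subgroup.center C) :
    ∃ Y : Subgroup C, Y.Characteristic ∧ (Nat.card Y).Coprime p ∧
      ∀ c : C, ∃ y ∈ Y, ∃ z ∈ (Q : Subgroup C), c = y * z := by
  have hQcen : Subgroup.normalizer ((Q : Subgroup C) : Set C) ≤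
      Subgroup.centralizer ((Q : Subgroup C) : Set C) := by
    intro c _
    rw [Subgroup.mem_centralizer_iff]
    intro q hq
    exact (Subgroup.mem_center_iff.mp (hQ hq) c).symm
  obtain ⟨Q', Y, hYn, hc⟩ := Cfsg.Agent.Lib.Lead.hasNormalPComplement_of_normalizer_le_centralizer Q hQcen
  have hidx := Cfsg.Agent.Lib.Lead.index_eq_pow_of_isComplement' Q' Y hc
  have hcop := Cfsg.Agent.Lib.Lead.card_coprime_of_isComplement' Q' Y hc
  haveI hQn : (Q : Subgroup C).Normal := by
    constructor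
    intro n hn g
    have := Subgroup.mem_center_iff.mp (hQ hn) g
    rw [this, mul_inv_cancel_right]
    exact hn
  have hQQ' : Q' = Q := by
    obtain ⟨g, hg⟩ := MulAction.exists_smul_eq C Q Q'
    rw [Sylow.smul_eq_of_normal] at hg
    exact hg.symm
  refine ⟨Y, ?_, hcop, ?_⟩
  · rw [Subgroup.characteristic_iff_map_le]
    intro φ
    rintro _ ⟨y, hy, rfl⟩
    apply Cfsg.Agent.Lib.Lead.mem_of_coprime_orderOf Y hidx
    have h1 : orderOf (φ.toMonoidHom y) = orderOf y := MulEquiv.orderOf_eq φ y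
    rw [h1]
    exact Nat.Coprime.coprime_dvd_left (Subgroup.orderOf_dvd_natCard Y hy) hcop
  · intro c
    have hc' : Subgroup.IsComplement (Y : Set C) ((Q' : Subgroup C) : Set C) := hc
    obtain ⟨⟨y, z⟩, hyz, _⟩ := (Subgroup.isComplement_iff_existsUnique.mp hc') c
    refine ⟨y, y.2, z, ?_, hyz.symm⟩
    rw [← hQQ']
    exact z.2

variable [Finite G]

/-- if `C_R(U) ≤ U` for a Sylow subgroup `R` of `N = N_G(U)`, then `C_G(U) ≤ O_{p',p}(N)` -/
theorem centralizer_le_LG {N U R : Subgroup G} (hN : N = Subgroup.normalizer (U : Set G))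
    (hR : SylIn p N R) (hUp : IsPGroup p U)
    (hZU : R ⊓ Subgroup.centralizer (U : Set G) ≤ U) :
    Subgroup.centralizer (U : Set G) ≤ LG p N := by
  obtain ⟨C, hCdef⟩ : ∃ C : Subgroup G, C = Subgroup.centralizer (U : Set G) := ⟨_, rfl⟩
  rw [← hCdef] at hZU ⊢
  have hUN : U ≤ N := by rw [hN]; exact Subgroup.le_normalizer
  have hNU : N ≤ Subgroup.normalizer (U : Set G) := by rw [hN]
  have hCN : C ≤ N := by rw [hCdef, hN]; exact Subgroup.centralizer_le_normalizer _
  have hNC : N ≤ Subgroup.normalizer (C : Set G) := by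
    rw [hCdef, hN]; exact Cfsg.Agent.Lib.Helper2.normalizer_le_normalizer_centralizer U
  have hZ : SylIn p C (R ⊓ C) := sylIn_inf_normal hCN hNC hR
  have hZcen : ∀ z ∈ R ⊓ C, ∀ c ∈ C, c * z = z * c := by
    intro z hz c hc
    rw [hCdef] at hc
    exact (Subgroup.mem_centralizer_iff.mp hc z (hZU hz)).symm
  -- a Sylow subgroup of ↥C
  have hZp : IsPGroup p ((R ⊓ C).subgroupOf C) := hZ.2.1.comap_subtype
  obtain ⟨Q, hQle⟩ := hZp.exists_le_sylow
  have hQmap : (Q : Subgroup ↥C).map C.subtype = R ⊓ C := by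
    apply eq_of_isPGroup_of_relIndex (N := C) (p := p) ?_ (Subgroup.map_subtype_le _) (Q.isPGroup'.map _) hZ.2.2
    intro z hz
    exact ⟨⟨z, hz.2⟩, hQle (Subgroup.mem_subgroupOf.mpr hz), rfl⟩
  have hQcenter : (Q : Subgroup ↥C) ≤ Subgroup.center ↥C := by
    intro q hq
    rw [Subgroup.mem_center_iff]
    intro c
    apply Subtype.ext
    have hqZ : (q : G) ∈ R ⊓ C := by rw [← hQmap]; exact ⟨q, hq, rfl⟩
    exact hZcen q hqZ c c.2
  obtain ⟨Y, hYchar, hYcop, hdec⟩ := exists_char_complement_of_central_sylow Q hQcenter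
  have hYC : Y.map C.subtype ≤ C := Subgroup.map_subtype_le _
  have hchar' : ((Y.map C.subtype).subgroupOf C).Characteristic := by
    have : (Y.map C.subtype).subgroupOf C = Y :=
      Subgroup.comap_map_eq_self_of_injective C.subtype_injective Y
    rw [this]; exact hYchar
  have hNY : N ≤ Subgroup.normalizer ((Y.map C.subtype : Subgroup G) : Set G) :=
    hNC.trans (Cfsg.Agent.Lib.Helper6.normalizer_le_normalizer_of_characteristic hYC hchar')
  have hYcard : (Nat.card (Y.map C.subtype)).Coprime p := by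
    rw [Subgroup.card_map_of_injective C.subtype_injective]; exact hYcop
  have hYK : Y.map C.subtype ≤ KG p N := le_KG (hYC.trans hCN) hNY hYcard
  have hUL : U ≤ LG p N := le_LG hUN hNU hUp
  intro c hc
  obtain ⟨y, hy, z, hz, hyz⟩ := hdec ⟨c, hc⟩
  have e : c = (y : G) * (z : G) := congrArg Subtype.val hyz
  rw [e]
  apply Subgroup.mul_mem
  · exact KG_le_LG N (hYK ⟨y, hy, rfl⟩)
  · apply hUL
    apply hZU
    rw [← hQmap]
    exact ⟨z, hz, rfl⟩

end Cfsg.Agent.Lib.Helper4
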