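import Mathlib
import Cfsg.Agent.Lib.Helper4.AlperinGold2

set_option autoImplicit false
open Pointwise

/-! The Alperin–Goldschmidt conjugation theorem. -/

namespace Cfsg.Agent.Lib.Helper4

open Cfsg Cfsg.Agent.Lib.Helper7

variable {G : Type*} [Group G] {p : ℕ}

/-- the Alperin–Goldschmidt conjugation family -/
def GoldFam (P : Sylow p G) : Set (Subgroup G) :=
  {D | D ≤ (P : Subgroup G) ∧
    Subgroup.centralizer (D : Set G) ≤ LG p (Subgroup.normalizer (D : Set G)) ∧
    IsInternalDirectProduct (KG p (Subgroup.normalizer (D : Set G))) D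
      (LG p (Subgroup.normalizer (D : Set G))) ∧
    ¬ p ∣ ((P : Subgroup G) ⊓ Subgroup.normalizer (D : Set G)).relIndex
      (Subgroup.normalizer (D : Set G))}

variable [Finite G] [Fact p.Prime]

/-- `O_{p'}(N_G(U))` centralizes the `p`-group `U` -/
theorem KG_commute {N U : Subgroup G} (hUN : U ≤ N) (hNU : N ≤ Subgroup.normalizer (U : Set G))
    (hUp : IsPGroup p U) : ∀ k ∈ KG p N, ∀ u ∈ U, k * u = u * k := by
  intro k hk u hu
  have hinf : U ⊓ KG p N = ⊥ := Cfsg.Agent.Lib.Helper6.isPGroup_inf_coprime_eq_bot (KG_coprime N) hUp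
  have h1 : k * u * k⁻¹ * u⁻¹ ∈ U := by
    apply U.mul_mem _ (U.inv_mem hu)
    exact (Subgroup.mem_normalizer_iff.mp (hNU (KG_le N hk)) u).mp hu
  have h2 : k * u * k⁻¹ * u⁻¹ ∈ KG p N := by
    have h3 : u * k⁻¹ * u⁻¹ ∈ KG p N :=
      (Subgroup.mem_normalizer_iff.mp (le_normalizer_KG N (hUN hu)) k⁻¹).mp ((KG p N).inv_mem hk)
    have e : k * u * k⁻¹ * u⁻¹ = k * (u * k⁻¹ * u⁻¹) := by group
    rw [e]
    exact (KG p N).mul_mem hk h3
  have h4 : k * u * k⁻¹ * u⁻¹ ∈ U ⊓ KG p N := Subgroup.mem_inf.mpr ⟨h1, h2⟩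
  rw [hinf, Subgroup.mem_bot] at h4
  calc k * u = (k * u * k⁻¹ * u⁻¹) * (u * k) := by group
    _ = u * k := by rw [h4, one_mul]

/-- criterion for membership in the Alperin–Goldschmidt family -/
theorem mem_goldFam_of (P : Sylow p G) (U : Subgroup G) (hUP : U ≤ (P : Subgroup G))
    (hfn : ¬ p ∣ ((P : Subgroup G) ⊓ Subgroup.normalizer (U : Set G)).relIndex
      (Subgroup.normalizer (U : Set G)))
    (hUs : (P : Subgroup G) ⊓ LG p (Subgroup.normalizer (U : Set G)) ≤ U)
    (hCU : (P : Subgroup G) ⊓ Subgroup.centralizer (U : Set G) ≤ U) : U ∈ GoldFam P := by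
  have hPp : IsPGroup p (P : Subgroup G) := P.isPGroup'
  obtain ⟨N, hNdef⟩ : ∃ N : Subgroup G, N = Subgroup.normalizer (U : Set G) := ⟨_, rfl⟩
  show U ≤ (P : Subgroup G) ∧
    Subgroup.centralizer (U : Set G) ≤ LG p (Subgroup.normalizer (U : Set G)) ∧
    IsInternalDirectProduct (KG p (Subgroup.normalizer (U : Set G))) U
      (LG p (Subgroup.normalizer (U : Set G))) ∧
    ¬ p ∣ ((P : Subgroup G) ⊓ Subgroup.normalizer (U : Set G)).relIndex
      (Subgroup.normalizer (U : Set G))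
  rw [← hNdef] at hfn hUs ⊢
  have hRsyl : SylIn p N ((P : Subgroup G) ⊓ N) := ⟨inf_le_right, hPp.to_le inf_le_left, hfn⟩
  have hUN : U ≤ N := by rw [hNdef]; exact Subgroup.le_normalizer
  have hNU : N ≤ Subgroup.normalizer (U : Set G) := by rw [hNdef]
  have hUp : IsPGroup p U := hPp.to_le hUP
  refine ⟨hUP, ?_, ?_, hfn⟩
  · apply centralizer_le_LG hNdef hRsyl hUp
    exact (inf_le_inf_right _ inf_le_left).trans hCU
  · have hUL : U ≤ LG p N := le_LG hUN hNU hUp
    have hKU := KG_commute hUN hNU hUp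
    refine ⟨KG_le_LG N, hUL, hKU, ?_, ?_⟩
    · rw [inf_comm]
      exact Cfsg.Agent.Lib.Helper6.isPGroup_inf_coprime_eq_bot (KG_coprime N) hUp
    · apply le_antisymm (sup_le (KG_le_LG N) hUL)
      intro l hl
      obtain ⟨k, hk, r, hr, rfl⟩ := LG_decomp hRsyl hl
      apply Subgroup.mul_mem _ (Subgroup.mem_sup_left hk) (Subgroup.mem_sup_right _)
      exact hUs ⟨hr.1.1, hr.2⟩

/-- the key step of the Alperin–Goldschmidt theorem -/
theorem gold_step (P : Sylow p G) (U : Subgroup G) (hUP : U ≤ (P : Subgroup G))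
    (hfn : ¬ p ∣ ((P : Subgroup G) ⊓ Subgroup.normalizer (U : Set G)).relIndex
      (Subgroup.normalizer (U : Set G)))
    (IH : ∀ U' : Subgroup G, U' ≤ (P : Subgroup G) → Nat.card U < Nat.card U' → ∀ g : G,
      cs g (U' : Set G) ⊆ (P : Subgroup G) → ViaC (GoldFam P) (U' : Set G) g) :
    ∀ x ∈ Subgroup.normalizer (U : Set G), ViaC (GoldFam P) (U : Set G) x := by
  intro x hx
  have hPp : IsPGroup p (P : Subgroup G) := P.isPGroup'
  by_cases hUs : (P : Subgroup G) ⊓ LG p (Subgroup.normalizer (U : Set G)) ≤ U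
  · by_cases hCU : (P : Subgroup G) ⊓ Subgroup.centralizer (U : Set G) ≤ U
    · exact ViaC.of_via (Via.single (mem_goldFam_of P U hUP hfn hUs hCU) hx le_rfl)
    · -- enlarge `U` by its centralizer in `P`
      obtain ⟨N, hNdef⟩ : ∃ N : Subgroup G, N = Subgroup.normalizer (U : Set G) := ⟨_, rfl⟩
      rw [← hNdef] at hfn hx
      obtain ⟨C, hCdef⟩ : ∃ C : Subgroup G, C = Subgroup.centralizer (U : Set G) := ⟨_, rfl⟩
      rw [← hCdef] at hCU
      have hRsyl : SylIn p N ((P : Subgroup G) ⊓ N) := ⟨inf_le_right, hPp.to_le inf_le_left, hfn⟩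
      have hUN : U ≤ N := by rw [hNdef]; exact Subgroup.le_normalizer
      have hNU : N ≤ Subgroup.normalizer (U : Set G) := by rw [hNdef]
      have hCN : C ≤ N := by rw [hCdef, hNdef]; exact Subgroup.centralizer_le_normalizer _
      have hNC : N ≤ Subgroup.normalizer (C : Set G) := by
        rw [hCdef, hNdef]; exact Cfsg.Agent.Lib.Helper2.normalizer_le_normalizer_centralizer U
      have hZ : SylIn p C (((P : Subgroup G) ⊓ N) ⊓ C) := sylIn_inf_normal hCN hNC hRsyl
      have hZeq : ((P : Subgroup G) ⊓ N) ⊓ C = (P : Subgroup G) ⊓ C := by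
        rw [inf_assoc, inf_eq_right.mpr hCN]
      rw [hZeq] at hZ
      obtain ⟨U₁, hU₁def⟩ : ∃ U₁ : Subgroup G, U₁ = U ⊔ ((P : Subgroup G) ⊓ C) := ⟨_, rfl⟩
      have hU₁P : U₁ ≤ (P : Subgroup G) := by rw [hU₁def]; exact sup_le hUP inf_le_left
      have hlt : U < U₁ := by
        rw [hU₁def]
        refine lt_of_le_of_ne le_sup_left ?_
        intro h
        apply hCU
        have h2 : (P : Subgroup G) ⊓ C ≤ U ⊔ ((P : Subgroup G) ⊓ C) := le_sup_right
        rwa [← h] at h2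
      obtain ⟨c, hc, y, hy, hxy⟩ := frattini_rel hCN hNC hZ hx
      have hyU₁ : y ∈ Subgroup.normalizer (U₁ : Set G) := by
        rw [mem_normalizer_iff_cj, hU₁def, cj_sup, mem_normalizer_iff_cj.mp (hNU hy.1),
          mem_normalizer_iff_cj.mp hy.2]
      have h1 := IH U₁ hU₁P (card_lt_of_lt hlt) y (by
        rw [cs_eq_self_of_mem_normalizer hyU₁]; exact_mod_cast hU₁P)
      have hsub : (U : Set G) ⊆ (U₁ : Set G) := by exact_mod_cast hlt.le
      obtain ⟨c', g', hc', hyg, hv⟩ := h1.mono hsub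
      refine ⟨c * c', g', Subgroup.mul_mem _ ?_ hc', ?_, hv⟩
      · rw [← hCdef]; exact hc
      · rw [hxy, hyg, mul_assoc]
  · -- enlarge `U` to `P ∩ O_{p',p}(N)`
    obtain ⟨N, hNdef⟩ : ∃ N : Subgroup G, N = Subgroup.normalizer (U : Set G) := ⟨_, rfl⟩
    rw [← hNdef] at hfn hx hUs
    have hRsyl : SylIn p N ((P : Subgroup G) ⊓ N) := ⟨inf_le_right, hPp.to_le inf_le_left, hfn⟩
    have hUN : U ≤ N := by rw [hNdef]; exact Subgroup.le_normalizer
    have hNU : N ≤ Subgroup.normalizer (U : Set G) := by rw [hNdef]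
    have hUp : IsPGroup p U := hPp.to_le hUP
    have hUL : U ≤ LG p N := le_LG hUN hNU hUp
    have hS : SylIn p (LG p N) (((P : Subgroup G) ⊓ N) ⊓ LG p N) :=
      sylIn_inf_normal (LG_le N) (le_normalizer_LG N) hRsyl
    have hSeq : ((P : Subgroup G) ⊓ N) ⊓ LG p N = (P : Subgroup G) ⊓ LG p N := by
      rw [inf_assoc, inf_eq_right.mpr (LG_le N)]
    obtain ⟨Us, hUsdef⟩ : ∃ Us : Subgroup G, Us = (P : Subgroup G) ⊓ LG p N := ⟨_, rfl⟩
    rw [hSeq, ← hUsdef] at hS
    rw [← hUsdef] at hUs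
    have hUsP : Us ≤ (P : Subgroup G) := by rw [hUsdef]; exact inf_le_left
    have hlt : U < Us := by
      refine lt_of_le_of_ne ?_ ?_
      · rw [hUsdef]; exact le_inf hUP hUL
      · intro h
        apply hUs
        rw [← h]
    obtain ⟨l, hl, y, hy, hxy⟩ := frattini_rel (LG_le N) (le_normalizer_LG N) hS hx
    obtain ⟨k, hk, r, hr, hlkr⟩ := LG_decomp hRsyl hl
    have hrUs : r ∈ Us := by
      rw [hUsdef]; exact ⟨hr.1.1, hr.2⟩
    have hry : r * y ∈ Subgroup.normalizer (Us : Set G) :=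
      Subgroup.mul_mem _ (Subgroup.le_normalizer hrUs) hy.2
    have h1 := IH Us hUsP (card_lt_of_lt hlt) (r * y) (by
      rw [cs_eq_self_of_mem_normalizer hry]; exact_mod_cast hUsP)
    have hsub : (U : Set G) ⊆ (Us : Set G) := by exact_mod_cast hlt.le
    obtain ⟨c', g', hc', hyg, hv⟩ := h1.mono hsub
    refine ⟨k * c', g', Subgroup.mul_mem _ ?_ hc', ?_, hv⟩
    · rw [Subgroup.mem_centralizer_iff]
      intro u hu
      exact (KG_commute hUN hNU hUp k hk u hu).symm
    · rw [hxy, hlkr, mul_assoc k r y, hyg, mul_assoc]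

/-- The Alperin–Goldschmidt conjugation theorem for subgroups -/
theorem alperin_goldschmidt_subgroup (P : Sylow p G) : ∀ d : ℕ, ∀ U : Subgroup G,
    U ≤ (P : Subgroup G) → Nat.card (P : Subgroup G) - Nat.card U = d → ∀ g : G,
    cs g (U : Set G) ⊆ (P : Subgroup G) → ViaC (GoldFam P) (U : Set G) g := by
  intro d
  induction d using Nat.strong_induction_on with
  | _ d ih =>
  intro U hUP hd g hg
  set 𝓕 : Set (Subgroup G) := {T | T ≤ (P : Subgroup G) ∧
    ¬ p ∣ ((P : Subgroup G) ⊓ Subgroup.normalizer (T : Set G)).relIndex (Subgroup.normalizer (T : Set G))}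
    with h𝓕def
  have h𝓕 : ∀ T ∈ 𝓕, T ≤ (P : Subgroup G) := fun T hT => hT.1
  have hext : ∀ T : Subgroup G, T ≤ (P : Subgroup G) → ∃ U' ∈ 𝓕, (∃ g : G, Helper7.cj g T = U') ∧
      ¬ p ∣ ((P : Subgroup G) ⊓ Subgroup.normalizer ((U' : Subgroup G) : Set G)).relIndex
        (Subgroup.normalizer ((U' : Subgroup G) : Set G)) := by
    intro T hT
    obtain ⟨c, hc⟩ := exists_wellPlaced_conj P (isConjugacyFunctor_id (G := G) (p := p)) T hT
    have h0 := hc.2 0
    exact ⟨Helper7.cj c T, ⟨hc.1, h0⟩, ⟨c, rfl⟩, h0⟩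
  have hvia := alperin_subgroup P 𝓕 h𝓕 hext _ U hUP rfl g hg
  apply hvia.toViaC
  intro T hT hcard x hx
  have hcard' : Nat.card U ≤ Nat.card T := hcard
  apply gold_step P T hT.1 hT.2 ?_ x hx
  intro U' hU'P hlt g' hg'
  have h1 : Nat.card U' ≤ Nat.card (P : Subgroup G) := Subgroup.card_le_of_le hU'P
  have h2 : Nat.card U ≤ Nat.card (P : Subgroup G) := Subgroup.card_le_of_le hUP
  apply ih (Nat.card (P : Subgroup G) - Nat.card U') ?_ U' hU'P rfl g' hg'
  omega

/-- The Alperin–Goldschmidt conjugation theorem for subsets -/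
theorem alperin_goldschmidt_set (P : Sylow p G) (A : Set G) (g : G) (hAS : A ⊆ (P : Subgroup G))
    (hAg : cs g A ⊆ (P : Subgroup G)) : ViaC (GoldFam P) A g := by
  set U := Subgroup.closure A with hU
  have hUP : U ≤ (P : Subgroup G) := (Subgroup.closure_le _).mpr hAS
  have hUg : cs g (U : Set G) ⊆ (P : Subgroup G) := by
    rw [cs_subgroup]
    have h1 : A ⊆ ((Helper7.cj g (P : Subgroup G) : Subgroup G) : Set G) := by
      intro a ha
      rw [SetLike.mem_coe, mem_cj]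
      exact hAg ⟨a, ha, rfl⟩
    have h2 : U ≤ Helper7.cj g (P : Subgroup G) := (Subgroup.closure_le _).mpr h1
    have h3 := cj_mono g⁻¹ h2
    rw [cj_inv_cj] at h3
    exact h3
  exact (alperin_goldschmidt_subgroup P _ U hUP rfl g hUg).mono Subgroup.subset_closure

/-- the Sylow subgroup itself belongs to the family -/
theorem top_mem_goldFam (P : Sylow p G) : (P : Subgroup G) ∈ GoldFam P := by
  apply mem_goldFam_of P _ le_rfl ?_ inf_le_left inf_le_left
  have h2 : (P : Subgroup G) ⊓ Subgroup.normalizer ((P : Subgroup G) : Set G) = (P : Subgroup G) :=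
    inf_eq_left.mpr Subgroup.le_normalizer
  rw [h2]
  intro h
  exact P.not_dvd_index (h.trans (Subgroup.relIndex_dvd_index_of_le Subgroup.le_normalizer))

end Cfsg.Agent.Lib.Helper4
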