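import Mathlib
import Cfsg.Prelude.Def_ConjugacyFunctors
import Cfsg.Agent.Lib.Helper4.FusionControl

set_option autoImplicit false
open Pointwise

namespace Cfsg.Agent.Lib.Helper4

open Cfsg Cfsg.Agent.Lib.Helper7

variable {G : Type*} [Group G]

/-- left conjugation of a set: `g A g⁻¹` -/
def lc (g : G) (A : Set G) : Set G := (fun a => g * a * g⁻¹) '' A

theorem mem_lc {g x : G} {A : Set G} : x ∈ lc g A ↔ g⁻¹ * x * g ∈ A := by
  constructor
  · rintro ⟨a, ha, rfl⟩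
    have : g⁻¹ * (g * a * g⁻¹) * g = a := by group
    rw [this]; exact ha
  · intro h
    exact ⟨g⁻¹ * x * g, h, by group⟩

theorem lc_one (A : Set G) : lc 1 A = A := by
  ext x; rw [mem_lc]; simp

theorem lc_mul (g h : G) (A : Set G) : lc (g * h) A = lc g (lc h A) := by
  ext x
  rw [mem_lc, mem_lc, mem_lc]
  have : (g * h)⁻¹ * x * (g * h) = h⁻¹ * (g⁻¹ * x * g) * h := by group
  rw [this]

theorem lc_mono (g : G) {A B : Set G} (h : A ⊆ B) : lc g A ⊆ lc g B := Set.image_mono h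

theorem lc_inv_lc (g : G) (A : Set G) : lc g⁻¹ (lc g A) = A := by
  rw [← lc_mul, inv_mul_cancel, lc_one]

theorem lc_lc_inv (g : G) (A : Set G) : lc g (lc g⁻¹ A) = A := by
  rw [← lc_mul, mul_inv_cancel, lc_one]

theorem lc_subgroup (g : G) (P : Subgroup G) : lc g (P : Set G) = ((cj g P : Subgroup G) : Set G) := by
  ext x
  rw [mem_lc, SetLike.mem_coe, SetLike.mem_coe, mem_cj]

theorem mem_lc_of_mem {g a : G} {A : Set G} (ha : a ∈ A) : g * a * g⁻¹ ∈ lc g A := ⟨a, ha, rfl⟩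

theorem lc_congr {g h : G} {A : Set G} (hgh : ∀ a ∈ A, g * a * g⁻¹ = h * a * h⁻¹) : lc g A = lc h A := by
  ext x
  constructor
  · rintro ⟨a, ha, rfl⟩
    exact ⟨a, ha, (hgh a ha).symm⟩
  · rintro ⟨a, ha, rfl⟩
    exact ⟨a, ha, hgh a ha⟩

/-- `FChain 𝓦 H T A c`: `c` is a product of elements of the `N_H(W T)`, `W ∈ 𝓦`, all partial products conjugating `A` into `T` -/
inductive FChain (𝓦 : Set (Subgroup G → Subgroup G)) (H T : Subgroup G) : Set G → G → Prop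
  | nil (A : Set G) : A ⊆ T → FChain 𝓦 H T A 1
  | step (A : Set G) (c y : G) : FChain 𝓦 H T A c →
      (∃ W ∈ 𝓦, y ∈ H ⊓ Subgroup.normalizer ((W T : Subgroup G) : Set G)) →
      lc (y * c) A ⊆ T → FChain 𝓦 H T A (y * c)

variable {𝓦 : Set (Subgroup G → Subgroup G)} {H T : Subgroup G}

theorem FChain.subset {A : Set G} {c : G} (h : FChain 𝓦 H T A c) : A ⊆ T := by
  induction h with
  | nil hA => exact hA
  | step c y _ _ _ ih => exact ih

theorem FChain.lc_subset {A : Set G} {c : G} (h : FChain 𝓦 H T A c) : lc c A ⊆ T := by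
  cases h with
  | nil hA => rw [lc_one]; exact hA
  | step c y _ _ h3 => exact h3

theorem FChain.mono {A B : Set G} {c : G} (h : FChain 𝓦 H T A c) (hBA : B ⊆ A) : FChain 𝓦 H T B c := by
  induction h with
  | nil hA => exact FChain.nil B (hBA.trans hA)
  | step c y _ h2 h3 ih => exact FChain.step B c y ih h2 ((lc_mono _ hBA).trans h3)

theorem FChain.trans {A : Set G} {c₁ c₂ : G} (h1 : FChain 𝓦 H T A c₁) (h2 : FChain 𝓦 H T (lc c₁ A) c₂) :
    FChain 𝓦 H T A (c₂ * c₁) := by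
  induction h2 with
  | nil hB' => rw [one_mul]; exact h1
  | step c y _ h3 h4 ih =>
    rw [mul_assoc]
    apply FChain.step A (c * c₁) y ih h3
    rw [← mul_assoc, lc_mul]; exact h4

theorem FChain.single {A : Set G} {y : G} (hA : A ⊆ T)
    (hy : ∃ W ∈ 𝓦, y ∈ H ⊓ Subgroup.normalizer ((W T : Subgroup G) : Set G)) (hyA : lc y A ⊆ T) :
    FChain 𝓦 H T A y := by
  have := FChain.step A 1 y (FChain.nil A hA) hy (by rw [mul_one]; exact hyA)
  rwa [mul_one] at this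

theorem FChain.symm {A : Set G} {c : G} (h : FChain 𝓦 H T A c) : FChain 𝓦 H T (lc c A) c⁻¹ := by
  induction h with
  | nil hA => rw [inv_one, lc_one]; exact FChain.nil A hA
  | step c y h1 h2 h3 ih =>
    rw [mul_inv_rev]
    apply FChain.trans (c₁ := y⁻¹) (c₂ := c⁻¹)
    · apply FChain.single h3
      · obtain ⟨W, hW, hy⟩ := h2
        exact ⟨W, hW, Subgroup.inv_mem _ hy⟩
      · rw [lc_mul, lc_inv_lc]; exact h1.lc_subset
    · rw [lc_mul, lc_inv_lc]; exact ih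

/-- `Reach 𝓦 H T A h`: conjugation by `h` on `A` is induced by a chain -/
def Reach (𝓦 : Set (Subgroup G → Subgroup G)) (H T : Subgroup G) (A : Set G) (h : G) : Prop :=
  ∃ c : G, FChain 𝓦 H T A c ∧ ∀ a ∈ A, c * a * c⁻¹ = h * a * h⁻¹

theorem Reach.mono {A B : Set G} {h : G} (hr : Reach 𝓦 H T A h) (hBA : B ⊆ A) : Reach 𝓦 H T B h := by
  obtain ⟨c, hc, hceq⟩ := hr
  exact ⟨c, hc.mono hBA, fun a ha => hceq a (hBA ha)⟩

theorem Reach.trans {A : Set G} {h₁ h₂ : G} (hr1 : Reach 𝓦 H T A h₁) (hr2 : Reach 𝓦 H T (lc h₁ A) h₂) :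
    Reach 𝓦 H T A (h₂ * h₁) := by
  obtain ⟨c₁, hc₁, hc₁eq⟩ := hr1
  obtain ⟨c₂, hc₂, hc₂eq⟩ := hr2
  have hlc : lc c₁ A = lc h₁ A := lc_congr hc₁eq
  refine ⟨c₂ * c₁, FChain.trans hc₁ (by rw [hlc]; exact hc₂), ?_⟩
  intro a ha
  have h1 := hc₁eq a ha
  have h2 := hc₂eq (h₁ * a * h₁⁻¹) (mem_lc_of_mem ha)
  calc c₂ * c₁ * a * (c₂ * c₁)⁻¹ = c₂ * (c₁ * a * c₁⁻¹) * c₂⁻¹ := by group
    _ = c₂ * (h₁ * a * h₁⁻¹) * c₂⁻¹ := by rw [h1]
    _ = h₂ * (h₁ * a * h₁⁻¹) * h₂⁻¹ := h2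
    _ = h₂ * h₁ * a * (h₂ * h₁)⁻¹ := by group

theorem Reach.symm {A : Set G} {h : G} (hr : Reach 𝓦 H T A h) : Reach 𝓦 H T (lc h A) h⁻¹ := by
  obtain ⟨c, hc, hceq⟩ := hr
  have hlc : lc c A = lc h A := lc_congr hceq
  refine ⟨c⁻¹, by rw [← hlc]; exact hc.symm, ?_⟩
  rintro _ ⟨a, ha, rfl⟩
  have h1 := hceq a ha
  calc c⁻¹ * (h * a * h⁻¹) * c⁻¹⁻¹ = c⁻¹ * (c * a * c⁻¹) * c⁻¹⁻¹ := by rw [h1]
    _ = a := by group
    _ = h⁻¹ * (h * a * h⁻¹) * h⁻¹⁻¹ := by group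

theorem Reach.single {A : Set G} {y : G} (hA : A ⊆ T)
    (hy : ∃ W ∈ 𝓦, y ∈ H ⊓ Subgroup.normalizer ((W T : Subgroup G) : Set G)) (hyA : lc y A ⊆ T) :
    Reach 𝓦 H T A y := ⟨y, FChain.single hA hy hyA, fun _ _ => rfl⟩

theorem Reach.congr {A : Set G} {h h' : G} (hr : Reach 𝓦 H T A h)
    (hh : ∀ a ∈ A, h * a * h⁻¹ = h' * a * h'⁻¹) : Reach 𝓦 H T A h' := by
  obtain ⟨c, hc, hceq⟩ := hr
  exact ⟨c, hc, fun a ha => (hceq a ha).trans (hh a ha)⟩

theorem Reach.of_subset_one {A : Set G} (hA : A ⊆ ({1} : Set G)) (h : G) : Reach 𝓦 H T A h := by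
  refine ⟨1, FChain.nil A ?_, ?_⟩
  · intro a ha
    rw [Set.mem_singleton_iff.mp (hA ha)]; exact T.one_mem
  · intro a ha
    rw [Set.mem_singleton_iff.mp (hA ha)]; simp

/-- from the indexed form to `FChain` -/
theorem fchain_of_fin {A : Set G} (n : ℕ) (c : Fin (n + 1) → G) (h0 : c 0 = 1)
    (hstep : ∀ i : Fin n, ∃ W ∈ 𝓦,
      c i.succ * (c i.castSucc)⁻¹ ∈ H ⊓ Subgroup.normalizer ((W T : Subgroup G) : Set G))
    (hsets : ∀ i : Fin (n + 1), (fun a => c i * a * (c i)⁻¹) '' A ⊆ T) :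
    ∀ i : Fin (n + 1), FChain 𝓦 H T A (c i) := by
  intro i
  induction i using Fin.induction with
  | zero =>
    rw [h0]
    apply FChain.nil
    have := hsets 0
    rw [h0] at this
    have h1 : lc 1 A ⊆ T := this
    rwa [lc_one] at h1
  | succ i ih =>
    have e : c i.succ = (c i.succ * (c i.castSucc)⁻¹) * c i.castSucc := by group
    rw [e]
    apply FChain.step A _ _ ih (hstep i)
    rw [← e]
    exact hsets i.succ

/-- from `FChain` to the indexed form -/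
theorem FChain.exists_fin {A : Set G} {c : G} (h : FChain 𝓦 H T A c) :
    ∃ (n : ℕ) (cf : Fin (n + 1) → G), cf 0 = 1 ∧
      (∀ i : Fin n, ∃ W ∈ 𝓦,
        cf i.succ * (cf i.castSucc)⁻¹ ∈ H ⊓ Subgroup.normalizer ((W T : Subgroup G) : Set G)) ∧
      (∀ i : Fin (n + 1), (fun a => cf i * a * (cf i)⁻¹) '' A ⊆ T) ∧
      cf (Fin.last n) = c := by
  induction h with
  | nil hA =>
    refine ⟨0, fun _ => 1, rfl, fun i => i.elim0, ?_, rfl⟩
    intro i
    have h1 : lc 1 A ⊆ T := by rw [lc_one]; exact hA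
    exact h1
  | step c y _ h2 h3 ih =>
    obtain ⟨n, cf, hcf0, hcfstep, hcfsets, hcflast⟩ := ih
    refine ⟨n + 1, Fin.snoc cf (y * c), ?_, ?_, ?_, ?_⟩
    · have : (0 : Fin (n + 2)) = Fin.castSucc (0 : Fin (n + 1)) := rfl
      rw [this, Fin.snoc_castSucc]; exact hcf0
    · intro i
      refine Fin.lastCases ?_ (fun j => ?_) i
      · have e1 : (Fin.last n).succ = Fin.last (n + 1) := rfl
        rw [e1, Fin.snoc_last, Fin.snoc_castSucc, hcflast]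
        have : y * c * c⁻¹ = y := by group
        rw [this]; exact h2
      · have e1 : j.castSucc.succ = j.succ.castSucc := rfl
        rw [e1, Fin.snoc_castSucc, Fin.snoc_castSucc]
        exact hcfstep j
    · intro i
      refine Fin.lastCases ?_ (fun j => ?_) i
      · rw [Fin.snoc_last]; exact h3
      · rw [Fin.snoc_castSucc]; exact hcfsets j
    · rw [Fin.snoc_last]

theorem Reach.exists_fin {A : Set G} {h : G} (hr : Reach 𝓦 H T A h) :
    ∃ (n : ℕ) (c : Fin (n + 1) → G), c 0 = 1 ∧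
      (∀ i : Fin n, ∃ W ∈ 𝓦,
        c i.succ * (c i.castSucc)⁻¹ ∈ H ⊓ Subgroup.normalizer ((W T : Subgroup G) : Set G)) ∧
      (∀ i : Fin (n + 1), (fun a => c i * a * (c i)⁻¹) '' A ⊆ T) ∧
      ∀ a ∈ A, c (Fin.last n) * a * (c (Fin.last n))⁻¹ = h * a * h⁻¹ := by
  obtain ⟨c, hc, hceq⟩ := hr
  obtain ⟨n, cf, h0, h1, h2, h3⟩ := hc.exists_fin
  exact ⟨n, cf, h0, h1, h2, by rw [h3]; exact hceq⟩

/-- conjugating a chain -/
theorem FChain.conj {p : ℕ} (h𝓦 : ∀ W ∈ 𝓦, IsConjugacyFunctor p W) (hTp : IsPGroup p T) {A : Set G} {c : G}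
    (h : FChain 𝓦 H T A c) {y : G} (hy : y ∈ H) : FChain 𝓦 H (cj y T) (lc y A) (y * c * y⁻¹) := by
  induction h with
  | nil hA =>
    have : y * 1 * y⁻¹ = 1 := by group
    rw [this]
    apply FChain.nil
    rw [← lc_subgroup]; exact lc_mono y hA
  | step c z _ h2 h3 ih =>
    have e : y * (z * c) * y⁻¹ = (y * z * y⁻¹) * (y * c * y⁻¹) := by group
    rw [e]
    apply FChain.step _ _ _ ih
    · obtain ⟨W, hW, hz⟩ := h2
      refine ⟨W, hW, H.mul_mem (H.mul_mem hy hz.1) (H.inv_mem hy), ?_⟩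
      have hWT : W (cj y T) = cj y (W T) := (h𝓦 W hW T hTp).2.2 y
      rw [hWT, normalizer_cj]
      apply (mem_cj _ _ _).mpr
      have e' : y⁻¹ * (y * z * y⁻¹) * y = z := by group
      rw [e']; exact hz.2
    · rw [← e, ← lc_mul]
      have e2 : y * (z * c) * y⁻¹ * y = y * (z * c) := by group
      rw [e2, lc_mul, ← lc_subgroup]
      exact lc_mono y h3

/-- the family control condition with respect to any Sylow subgroup -/
theorem reach_of_familyControls [Finite G] {p : ℕ} [Fact p.Prime]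
    (h𝓦 : ∀ W ∈ 𝓦, IsConjugacyFunctor p W) {H : Subgroup G}
    (hc : FamilyControlsStrongFusionIn p 𝓦 H)
    {R : Subgroup G} (hR : R ≤ H) (hRp : IsPGroup p R) (hRi : ¬ p ∣ R.relIndex H)
    (A : Set G) (h : G) (hh : h ∈ H) (hAR : A ⊆ R) (hAh : lc h A ⊆ R) : Reach 𝓦 H R A h := by
  obtain ⟨T, hT, hTp, hTi, hctl⟩ := hc
  obtain ⟨y, hyH, hy⟩ := sylow_conj_rel hT hTp hTi hR hRp hRi
  set A' : Set G := lc y⁻¹ A with hA'
  set h' : G := y⁻¹ * h * y with hh'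
  have hRT : lc y⁻¹ (R : Set G) = T := by
    rw [← hy, lc_subgroup, cj_inv_cj]
  have hA'T : A' ⊆ T := by
    rw [← hRT]; exact lc_mono _ hAR
  have hh'H : h' ∈ H := H.mul_mem (H.mul_mem (H.inv_mem hyH) hh) hyH
  have hA'h : lc h' A' ⊆ T := by
    rw [hA', ← lc_mul, hh']
    have e : y⁻¹ * h * y * y⁻¹ = y⁻¹ * h := by group
    rw [e, lc_mul, ← hRT]
    exact lc_mono _ hAh
  obtain ⟨n, c, h0, hstep, hsets, hlast⟩ := hctl A' h' hh'H hA'T hA'h
  have hch := fchain_of_fin n c h0 hstep hsets (Fin.last n)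
  have hch' := hch.conj h𝓦 hTp hyH
  rw [hy, hA', lc_lc_inv] at hch'
  refine ⟨_, hch', ?_⟩
  intro a ha
  have h1 := hlast (y⁻¹ * a * y⁻¹⁻¹) (mem_lc_of_mem ha)
  set cl := c (Fin.last n) with hcl
  calc y * cl * y⁻¹ * a * (y * cl * y⁻¹)⁻¹ = y * (cl * (y⁻¹ * a * y⁻¹⁻¹) * cl⁻¹) * y⁻¹ := by group
    _ = y * (h' * (y⁻¹ * a * y⁻¹⁻¹) * h'⁻¹) * y⁻¹ := by rw [h1]
    _ = h * a * h⁻¹ := by rw [hh']; group

end Cfsg.Agent.Lib.Helper4
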