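import Mathlib
import Cfsg.Agent.Lib.Helper4.Sect1
import Cfsg.Agent.Lib.Helper4.FamilyFusion
import Cfsg.Agent.Lib.Helper4.AlperinGold3
import Cfsg.Agent.Lib.Lead.CoprimeTools

set_option autoImplicit false
open Pointwise

/-! Lifting control of strong fusion modulo a normal `p'`-subgroup. -/

namespace Cfsg.Agent.Lib.Helper4

open Cfsg Cfsg.Agent.Lib.Helper7

universe u

section general
variable {X : Type*} [Group X] {p : ℕ}

theorem card_mul_relIndex {H K : Subgroup X} (h : H ≤ K) : Nat.card H * H.relIndex K = Nat.card K := by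
  have := Subgroup.relIndex_mul_relIndex (⊥ : Subgroup X) H K bot_le h
  rwa [Subgroup.relIndex_bot_left, Subgroup.relIndex_bot_left] at this

variable [Finite X] [Fact p.Prime]

/-- a `p`-subgroup `V` is a Sylow subgroup of `V K` for a normal `p'`-subgroup `K` -/
theorem sylIn_sup_pprime {V K : Subgroup X} [hKn : K.Normal] (hV : IsPGroup p V)
    (hK : (Nat.card K).Coprime p) : SylIn p (V ⊔ K) V := by
  refine ⟨le_sup_left, hV, ?_⟩
  have hVK : V ≤ Subgroup.normalizer (K : Set X) := by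
    rw [Subgroup.normalizer_eq_top_iff.mpr hKn]; exact le_top
  have hd : V ⊓ K = ⊥ := Cfsg.Agent.Lib.Helper6.isPGroup_inf_coprime_eq_bot hK hV
  have h1 := Cfsg.Agent.Lib.Lead.card_sup_of_disjoint V K hVK hd
  have h2 := card_mul_relIndex (le_sup_left : V ≤ V ⊔ K)
  rw [h1] at h2
  have h3 : V.relIndex (V ⊔ K) = Nat.card K := Nat.eq_of_mul_eq_mul_left Nat.card_pos h2
  rw [h3]
  intro hdvd
  have := Nat.Coprime.eq_one_of_dvd hK.symm hdvd
  exact (Fact.out : p.Prime).one_lt.ne' this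

/-- Frattini argument modulo a normal `p'`-subgroup -/
theorem frattini_pprime {V K : Subgroup X} [hKn : K.Normal] (hV : IsPGroup p V)
    (hK : (Nat.card K).Coprime p) {y : X} (hy : y ∈ Subgroup.normalizer ((V ⊔ K : Subgroup X) : Set X)) :
    ∃ k ∈ K, ∃ n ∈ Subgroup.normalizer (V : Set X), y = k * n := by
  have hVK : V ≤ Subgroup.normalizer (K : Set X) := by
    rw [Subgroup.normalizer_eq_top_iff.mpr hKn]; exact le_top
  obtain ⟨l, hl, n, hn, hyn⟩ := frattini_rel (X := Subgroup.normalizer ((V ⊔ K : Subgroup X) : Set X))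
    Subgroup.le_normalizer le_rfl (sylIn_sup_pprime hV hK) hy
  have hl' : l ∈ K ⊔ V := by rw [sup_comm]; exact hl
  obtain ⟨k, hk, v, hv, hlkv⟩ := exists_mul_of_mem_sup_normalizer hVK hl'
  refine ⟨k, hk, v * n, Subgroup.mul_mem _ (Subgroup.le_normalizer hv) hn.2, ?_⟩
  rw [hyn, hlkv, mul_assoc]

end general

section lifting
variable {X : Type u} [Group X] [Finite X] {p : ℕ} [Fact p.Prime]
variable {𝓦 : Set (∀ (Q : Type u) [Group Q], Subgroup Q)}

/-- from `Reach` to the family control condition -/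
theorem fcsf_top_of_reach {𝓥 : Set (Subgroup X → Subgroup X)} (S : Sylow p X)
    (h : ∀ (A : Set X) (g : X), A ⊆ (S : Subgroup X) → lc g A ⊆ (S : Subgroup X) →
      Reach 𝓥 ⊤ (S : Subgroup X) A g) : FamilyControlsStrongFusionIn p 𝓥 ⊤ := by
  refine ⟨S, le_top, S.isPGroup', ?_, ?_⟩
  · rw [Subgroup.relIndex_top_right]; exact S.not_dvd_index
  · intro A g _ hA hgA
    exact (h A g hA hgA).exists_fin

/-- the Sylow subgroup normalizes the value of a conjugacy functor on it -/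
theorem le_normalizer_functor {W' : Subgroup X → Subgroup X} (hW' : IsConjugacyFunctor p W')
    {S : Subgroup X} (hS : IsPGroup p S) : S ≤ Subgroup.normalizer ((W' S : Subgroup X) : Set X) := by
  intro s hs
  rw [mem_normalizer_iff_cj]
  have h1 := (hW' S hS).2.2 s
  have h2 : S.map (MulAut.conj s).toMonoidHom = S := cj_eq_self_of_mem hs
  rw [h2] at h1
  exact h1.symm

variable (K : Subgroup X) [hKn : K.Normal]

theorem injOn_mk_of_coprime (hK : (Nat.card K).Coprime p) {S : Subgroup X} (hS : IsPGroup p S) :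
    ∀ x ∈ S, QuotientGroup.mk' K x = 1 → x = 1 := by
  intro x hx hx1
  have hxK : x ∈ K := (QuotientGroup.eq_one_iff x).mp hx1
  have hd : S ⊓ K = ⊥ := Cfsg.Agent.Lib.Helper6.isPGroup_inf_coprime_eq_bot hK hS
  have : x ∈ S ⊓ K := Subgroup.mem_inf.mpr ⟨hx, hxK⟩
  rwa [hd, Subgroup.mem_bot] at this

omit [Finite X] [Fact p.Prime] in
theorem mk'_eq_one_of_mem {k : X} (hk : k ∈ K) : QuotientGroup.mk' K k = 1 :=
  (QuotientGroup.eq_one_iff k).mpr hk

/-- lifting one step of a chain -/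
theorem step_lift (hK : (Nat.card K).Coprime p) (S : Sylow p X)
    {W : ∀ (Q : Type u) [Group Q], Subgroup Q} (hW : IsCharPFunctor.{u} p W) (yb : X ⧸ K)
    (hyb : yb ∈ Subgroup.normalizer
      ((inducedFunctor W ((S : Subgroup X).map (QuotientGroup.mk' K)) : Subgroup (X ⧸ K)) : Set (X ⧸ K)))
    (B : Set X) (hB : B ⊆ (S : Subgroup X))
    (hBy : lc yb (QuotientGroup.mk' K '' B) ⊆ ((S : Subgroup X).map (QuotientGroup.mk' K) : Subgroup (X ⧸ K))) :
    ∃ y ∈ Subgroup.normalizer ((inducedFunctor W (S : Subgroup X) : Subgroup X) : Set X),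
      QuotientGroup.mk' K y = yb ∧ lc y B ⊆ (S : Subgroup X) := by
  have hSp : IsPGroup p (S : Subgroup X) := S.isPGroup'
  have hinj := injOn_mk_of_coprime K hK hSp
  obtain ⟨V, hVdef⟩ : ∃ V : Subgroup X, V = inducedFunctor W (S : Subgroup X) := ⟨_, rfl⟩
  have hVS : V ≤ (S : Subgroup X) := by rw [hVdef]; exact inducedFunctor_le _
  have hVp : IsPGroup p V := hSp.to_le hVS
  have hVmap : inducedFunctor W ((S : Subgroup X).map (QuotientGroup.mk' K)) = V.map (QuotientGroup.mk' K) := by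
    rw [hVdef]; exact inducedFunctor_map hW _ _ hSp hinj
  rw [hVmap] at hyb
  rw [← hVdef]
  obtain ⟨y₀, rfl⟩ := QuotientGroup.mk'_surjective K yb
  have hy₀ : y₀ ∈ Subgroup.normalizer ((V ⊔ K : Subgroup X) : Set X) := by
    have h1 : (V.map (QuotientGroup.mk' K)).comap (QuotientGroup.mk' K) = V ⊔ K := by
      rw [Subgroup.comap_map_eq, QuotientGroup.ker_mk']
    rw [← h1]
    exact Subgroup.le_normalizer_comap _ (Subgroup.mem_comap.mpr hyb)
  obtain ⟨k, hk, y₁, hy₁, hyk⟩ := frattini_pprime hVp hK hy₀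
  have hπy₁ : QuotientGroup.mk' K y₁ = QuotientGroup.mk' K y₀ := by
    rw [hyk, map_mul, mk'_eq_one_of_mem K hk, one_mul]
  obtain ⟨NW, hNWdef⟩ : ∃ NW : Subgroup X, NW = Subgroup.normalizer (V : Set X) := ⟨_, rfl⟩
  rw [← hNWdef] at hy₁ ⊢
  have hSNW : (S : Subgroup X) ≤ NW := by
    rw [hNWdef, hVdef]
    exact le_normalizer_functor (isConjugacyFunctor_inducedFunctor hW) hSp
  -- the subgroup `(K ⊓ NW) S`
  have hSK₂ : (S : Subgroup X) ≤ Subgroup.normalizer ((K ⊓ NW : Subgroup X) : Set X) := by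
    have key : ∀ s ∈ (S : Subgroup X), ∀ x ∈ K ⊓ NW, s * x * s⁻¹ ∈ K ⊓ NW := by
      intro s hs x hx
      exact Subgroup.mem_inf.mpr ⟨hKn.conj_mem x hx.1 s,
        NW.mul_mem (NW.mul_mem (hSNW hs) hx.2) (NW.inv_mem (hSNW hs))⟩
    intro s hs
    rw [Subgroup.mem_normalizer_iff]
    intro x
    constructor
    · exact key s hs x
    · intro hx
      have := key s⁻¹ (Subgroup.inv_mem _ hs) _ hx
      have e : s⁻¹ * (s * x * s⁻¹) * s⁻¹⁻¹ = x := by group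
      rwa [e] at this
  have hmemM : ∀ x ∈ lc y₁ B, x ∈ (K ⊓ NW) ⊔ (S : Subgroup X) := by
    rintro _ ⟨b, hb, rfl⟩
    show y₁ * b * y₁⁻¹ ∈ (K ⊓ NW) ⊔ (S : Subgroup X)
    have h1 : QuotientGroup.mk' K (y₁ * b * y₁⁻¹) ∈ (S : Subgroup X).map (QuotientGroup.mk' K) := by
      apply hBy
      refine ⟨QuotientGroup.mk' K b, ⟨b, hb, rfl⟩, ?_⟩
      rw [map_mul, map_mul, map_inv, hπy₁]
    obtain ⟨s, hs, hsx⟩ := h1
    have h2 : s⁻¹ * (y₁ * b * y₁⁻¹) ∈ K := by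
      rw [← QuotientGroup.eq_one_iff, ← QuotientGroup.mk'_apply, map_mul, map_inv, hsx]
      group
    have h3 : y₁ * b * y₁⁻¹ ∈ NW := NW.mul_mem (NW.mul_mem hy₁ (hSNW (hB hb))) (NW.inv_mem hy₁)
    have h4 : s⁻¹ * (y₁ * b * y₁⁻¹) ∈ K ⊓ NW :=
      Subgroup.mem_inf.mpr ⟨h2, NW.mul_mem (NW.inv_mem (hSNW hs)) h3⟩
    have e : y₁ * b * y₁⁻¹ = s * (s⁻¹ * (y₁ * b * y₁⁻¹)) := by group
    rw [e]
    -- `s * k' = (s k' s⁻¹) * s`
    have h5 : s * (s⁻¹ * (y₁ * b * y₁⁻¹)) * s⁻¹ ∈ K ⊓ NW :=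
      (Subgroup.mem_normalizer_iff.mp (hSK₂ hs) _).mp h4
    have e2 : s * (s⁻¹ * (y₁ * b * y₁⁻¹)) = (s * (s⁻¹ * (y₁ * b * y₁⁻¹)) * s⁻¹) * s := by group
    rw [e2]
    exact Subgroup.mul_mem _ (Subgroup.mem_sup_left h5) (Subgroup.mem_sup_right hs)
  obtain ⟨P₁, hP₁def⟩ : ∃ P₁ : Subgroup X, P₁ = Subgroup.closure (lc y₁ B) := ⟨_, rfl⟩
  have hP₁M : P₁ ≤ (K ⊓ NW) ⊔ (S : Subgroup X) := by
    rw [hP₁def, Subgroup.closure_le]; exact hmemM
  have hP₁p : IsPGroup p P₁ := by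
    have h1 : P₁ ≤ Helper7.cj y₁ (S : Subgroup X) := by
      rw [hP₁def, Subgroup.closure_le, ← lc_subgroup]
      exact lc_mono y₁ hB
    exact (isPGroup_cj y₁ hSp).to_le h1
  have hSM : SylIn p ((K ⊓ NW) ⊔ (S : Subgroup X)) (S : Subgroup X) := by
    refine ⟨le_sup_right, hSp, ?_⟩
    intro hdvd
    exact S.not_dvd_index (hdvd.trans (Subgroup.relIndex_dvd_index_of_le le_sup_right))
  obtain ⟨m, hm, hmP⟩ := hSM.exists_conj_le hP₁M hP₁p
  obtain ⟨t, ht, u, hu, hmtu⟩ := exists_mul_of_mem_sup_normalizer hSK₂ (Subgroup.inv_mem _ hm)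
  -- `m = u⁻¹ t⁻¹`
  have hm' : m = u⁻¹ * t⁻¹ := by
    have : m = (m⁻¹)⁻¹ := by group
    rw [this, hmtu]; group
  have hcjt : Helper7.cj t⁻¹ P₁ ≤ (S : Subgroup X) := by
    have h1 : Helper7.cj u (Helper7.cj m P₁) ≤ Helper7.cj u (S : Subgroup X) := cj_mono u hmP
    rw [cj_eq_self_of_mem hu, ← cj_mul, hm'] at h1
    have e : u * (u⁻¹ * t⁻¹) = t⁻¹ := by group
    rwa [e] at h1
  refine ⟨t⁻¹ * y₁, NW.mul_mem (NW.inv_mem ht.2) hy₁, ?_, ?_⟩
  · rw [map_mul, map_inv, mk'_eq_one_of_mem K ht.1, hπy₁]; group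
  · rw [lc_mul]
    intro x hx
    apply hcjt
    rw [← SetLike.mem_coe, ← lc_subgroup]
    refine lc_mono _ ?_ hx
    rw [hP₁def]; exact Subgroup.subset_closure

/-- lifting a chain -/
theorem chain_lift (h𝓦 : ∀ W ∈ 𝓦, IsCharPFunctor.{u} p W) (hK : (Nat.card K).Coprime p) (S : Sylow p X)
    (A : Set X) (hA : A ⊆ (S : Subgroup X)) {cb : X ⧸ K}
    (h : FChain (indFam 𝓦 (X ⧸ K)) ⊤ ((S : Subgroup X).map (QuotientGroup.mk' K))
      (QuotientGroup.mk' K '' A) cb) :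
    ∃ c, QuotientGroup.mk' K c = cb ∧ FChain (indFam 𝓦 X) ⊤ (S : Subgroup X) A c := by
  obtain ⟨Ab, hAb⟩ : ∃ Ab : Set (X ⧸ K), Ab = QuotientGroup.mk' K '' A := ⟨_, rfl⟩
  rw [← hAb] at h
  induction h with
  | nil _ => exact ⟨1, map_one _, FChain.nil A hA⟩
  | step cb yb h1 h2 h3 ih =>
    obtain ⟨c, hc, hch⟩ := ih
    obtain ⟨_, ⟨W, hW, rfl⟩, hyb⟩ := h2
    have hB : lc c A ⊆ (S : Subgroup X) := hch.lc_subset
    have hBy : lc yb (QuotientGroup.mk' K '' (lc c A)) ⊆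
        ((S : Subgroup X).map (QuotientGroup.mk' K) : Subgroup (X ⧸ K)) := by
      have e : QuotientGroup.mk' K '' (lc c A) = lc cb (QuotientGroup.mk' K '' A) := by
        ext z
        constructor
        · rintro ⟨_, ⟨a, ha, rfl⟩, rfl⟩
          exact ⟨QuotientGroup.mk' K a, ⟨a, ha, rfl⟩, by rw [map_mul, map_mul, map_inv, hc]⟩
        · rintro ⟨_, ⟨a, ha, rfl⟩, rfl⟩
          exact ⟨c * a * c⁻¹, ⟨a, ha, rfl⟩, by rw [map_mul, map_mul, map_inv, hc]⟩
      rw [e, ← lc_mul, ← hAb]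
      exact h3
    obtain ⟨y, hy, hπy, hyB⟩ := step_lift K hK S (h𝓦 W hW) yb hyb.2 (lc c A) hB hBy
    refine ⟨y * c, by rw [map_mul, hπy, hc], ?_⟩
    apply FChain.step A c y hch ⟨inducedFunctor W, ⟨W, hW, rfl⟩, ⟨Subgroup.mem_top _, hy⟩⟩
    rw [lc_mul]; exact hyB

/-- control of strong fusion lifts from the quotient by a normal `p'`-subgroup -/
theorem fcsf_top_of_quotient_pprime (h𝓦 : ∀ W ∈ 𝓦, IsCharPFunctor.{u} p W)
    (hK : (Nat.card K).Coprime p)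
    (h : FamilyControlsStrongFusionIn p (indFam 𝓦 (X ⧸ K)) ⊤) :
    FamilyControlsStrongFusionIn p (indFam 𝓦 X) ⊤ := by
  obtain ⟨S⟩ : Nonempty (Sylow p X) := inferInstance
  have hSp : IsPGroup p (S : Subgroup X) := S.isPGroup'
  have hinj := injOn_mk_of_coprime K hK hSp
  apply fcsf_top_of_reach S
  intro A g hA hgA
  have hSb : ¬ p ∣ ((S : Subgroup X).map (QuotientGroup.mk' K)).relIndex ⊤ := by
    rw [Subgroup.relIndex_top_right]
    intro hdvd
    exact S.not_dvd_index (hdvd.trans (Subgroup.index_map_dvd _ (QuotientGroup.mk'_surjective K)))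
  have hAb : QuotientGroup.mk' K '' A ⊆
      ((S : Subgroup X).map (QuotientGroup.mk' K) : Subgroup (X ⧸ K)) := by
    rintro _ ⟨a, ha, rfl⟩
    exact ⟨a, hA ha, rfl⟩
  have hgAb : lc (QuotientGroup.mk' K g) (QuotientGroup.mk' K '' A) ⊆
      ((S : Subgroup X).map (QuotientGroup.mk' K) : Subgroup (X ⧸ K)) := by
    rintro _ ⟨_, ⟨a, ha, rfl⟩, rfl⟩
    exact ⟨g * a * g⁻¹, hgA ⟨a, ha, rfl⟩, by rw [map_mul, map_mul, map_inv]⟩
  obtain ⟨cb, hcb, hcbeq⟩ := reach_of_familyControls (indFam_isConjugacyFunctor h𝓦) h le_top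
    (hSp.map _) hSb (QuotientGroup.mk' K '' A) (QuotientGroup.mk' K g) (Subgroup.mem_top _) hAb hgAb
  obtain ⟨c, hc, hch⟩ := chain_lift K h𝓦 hK S A hA hcb
  refine ⟨c, hch, ?_⟩
  intro a ha
  have h1 : c * a * c⁻¹ ∈ (S : Subgroup X) := hch.lc_subset ⟨a, ha, rfl⟩
  have h2 : g * a * g⁻¹ ∈ (S : Subgroup X) := hgA ⟨a, ha, rfl⟩
  have h3 := hcbeq (QuotientGroup.mk' K a) ⟨a, ha, rfl⟩
  rw [← hc] at h3
  have h4 : QuotientGroup.mk' K ((c * a * c⁻¹) * (g * a * g⁻¹)⁻¹) = 1 := by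
    rw [map_mul, map_inv, map_mul, map_mul, map_inv, map_mul, map_mul, map_inv, h3]
    group
  have h5 := hinj _ ((S : Subgroup X).mul_mem h1 ((S : Subgroup X).inv_mem h2)) h4
  exact mul_inv_eq_one.mp h5

end lifting

end Cfsg.Agent.Lib.Helper4
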