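import Mathlib
import Cfsg.Agent.Lib.Helper4.Sect2
import Cfsg.Agent.Lib.Lead.CoprimeSylow4

set_option autoImplicit false
open Pointwise

/-! The centralizer of a normal `p`-subgroup, the `p`-constraint of `X / O_{p'}(X)`, and the
Alperin–Goldschmidt family. -/

namespace Cfsg.Agent.Lib.Helper4

open Cfsg Cfsg.Agent.Lib.Helper7

section
variable {X : Type*} [Group X] [Finite X] {p : ℕ} [Fact p.Prime]

/-- if `C_R(U) ≤ U` for a Sylow subgroup `R` of `N ≤ N_X(U)`, then `C_X(U) = Y × C_R(U)` with `Y` an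
`N`-invariant `p'`-group -/
theorem centralizer_decomp {N U R : Subgroup X} (hNU : N ≤ Subgroup.normalizer (U : Set X))
    (hCN : Subgroup.centralizer (U : Set X) ≤ N) (hR : SylIn p N R)
    (hZU : R ⊓ Subgroup.centralizer (U : Set X) ≤ U) :
    ∃ Y : Subgroup X, Y ≤ Subgroup.centralizer (U : Set X) ∧
      N ≤ Subgroup.normalizer (Y : Set X) ∧ (Nat.card Y).Coprime p ∧
      ∀ c ∈ Subgroup.centralizer (U : Set X), ∃ y ∈ Y, ∃ z ∈ R ⊓ Subgroup.centralizer (U : Set X),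
        c = y * z := by
  obtain ⟨C, hCdef⟩ : ∃ C : Subgroup X, C = Subgroup.centralizer (U : Set X) := ⟨_, rfl⟩
  rw [← hCdef] at hZU hCN ⊢
  have hNC : N ≤ Subgroup.normalizer (C : Set X) := by
    rw [hCdef]; exact hNU.trans (Cfsg.Agent.Lib.Helper2.normalizer_le_normalizer_centralizer U)
  have hZ : SylIn p C (R ⊓ C) := sylIn_inf_normal hCN hNC hR
  have hZcen : ∀ z ∈ R ⊓ C, ∀ c ∈ C, c * z = z * c := by
    intro z hz c hc
    rw [hCdef] at hc
    exact (Subgroup.mem_centralizer_iff.mp hc z (hZU hz)).symm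
  have hZp : IsPGroup p ((R ⊓ C).subgroupOf C) := hZ.2.1.comap_subtype
  obtain ⟨Q, hQle⟩ := hZp.exists_le_sylow
  have hQmap : (Q : Subgroup ↥C).map C.subtype = R ⊓ C := by
    apply eq_of_isPGroup_of_relIndex (N := C) (p := p) ?_ (Subgroup.map_subtype_le _) (Q.isPGroup'.map _) hZ.2.2
    intro z hz
    exact ⟨⟨z, hz.2⟩, hQle (Subgroup.mem_subgroupOf.mpr hz), rfl⟩
  have hQcenter : (Q : Subgroup ↥C) ≤ Subgroup.center ↥C := by
    intro q hq
    rw [Subgroup.mem_center_iff]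
    intro c
    apply Subtype.ext
    have hqZ : (q : X) ∈ R ⊓ C := by rw [← hQmap]; exact ⟨q, hq, rfl⟩
    exact hZcen q hqZ c c.2
  obtain ⟨Y, hYchar, hYcop, hdec⟩ := exists_char_complement_of_central_sylow Q hQcenter
  have hYC : Y.map C.subtype ≤ C := Subgroup.map_subtype_le _
  have hchar' : ((Y.map C.subtype).subgroupOf C).Characteristic := by
    have : (Y.map C.subtype).subgroupOf C = Y :=
      Subgroup.comap_map_eq_self_of_injective C.subtype_injective Y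
    rw [this]; exact hYchar
  refine ⟨Y.map C.subtype, hYC,
    hNC.trans (Cfsg.Agent.Lib.Helper6.normalizer_le_normalizer_of_characteristic hYC hchar'), ?_, ?_⟩
  · rw [Subgroup.card_map_of_injective C.subtype_injective]; exact hYcop
  · intro c hc
    obtain ⟨y, hy, z, hz, hyz⟩ := hdec ⟨c, hc⟩
    refine ⟨y, ⟨y, hy, rfl⟩, z, ?_, congrArg Subtype.val hyz⟩
    rw [← hQmap]
    exact ⟨z, hz, rfl⟩

/-- if `C_S(O_p(X)) ≤ O_p(X)` then `C_X(O_p(X)) ≤ O_{p'}(X) O_p(X)` -/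
theorem centralizer_pCore_le_sup (S : Sylow p X)
    (h : (S : Subgroup X) ⊓ Subgroup.centralizer ((pCore p X : Subgroup X) : Set X) ≤ pCore p X) :
    Subgroup.centralizer ((pCore p X : Subgroup X) : Set X) ≤ pPrimeCore p X ⊔ pCore p X := by
  have hQn : (pCore p X).Normal := inferInstance
  have hNU : (⊤ : Subgroup X) ≤ Subgroup.normalizer ((pCore p X : Subgroup X) : Set X) := by
    rw [Subgroup.normalizer_eq_top_iff.mpr hQn]
  have hR : SylIn p (⊤ : Subgroup X) (S : Subgroup X) := by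
    refine ⟨le_top, S.isPGroup', ?_⟩
    rw [Subgroup.relIndex_top_right]; exact S.not_dvd_index
  obtain ⟨Y, _, hNY, hYc, hdec⟩ := centralizer_decomp hNU le_top hR h
  have hYn : Y.Normal := Subgroup.normalizer_eq_top_iff.mp (top_le_iff.mp hNY)
  have hYK : Y ≤ pPrimeCore p X := Cfsg.Agent.Lib.Helper6.le_pPrimeCore hYn hYc
  intro c hc
  obtain ⟨y, hy, z, hz, rfl⟩ := hdec c hc
  exact Subgroup.mul_mem _ (Subgroup.mem_sup_left (hYK hy)) (Subgroup.mem_sup_right (h hz))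

/-- if `C_S(O_p(X)) ≤ O_p(X)` then `X / O_{p'}(X)` satisfies `C(O_p) ≤ O_p` -/
theorem centralizer_pCore_quotient_le (S : Sylow p X)
    (h : (S : Subgroup X) ⊓ Subgroup.centralizer ((pCore p X : Subgroup X) : Set X) ≤ pCore p X) :
    Subgroup.centralizer ((pCore p (X ⧸ pPrimeCore p X) : Subgroup (X ⧸ pPrimeCore p X)) :
      Set (X ⧸ pPrimeCore p X)) ≤ pCore p (X ⧸ pPrimeCore p X) := by
  have hQn : (pCore p X).Normal := inferInstance
  have hQp : IsPGroup p (pCore p X) := Cfsg.Agent.Lib.Helper6.pCore_isPGroup p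
  have hKc : (Nat.card (pPrimeCore p X)).Coprime p := Cfsg.Agent.Lib.Helper6.pPrimeCore_coprime p
  have hQb : (pCore p X).map (QuotientGroup.mk' (pPrimeCore p X)) ≤ pCore p (X ⧸ pPrimeCore p X) := by
    apply Cfsg.Agent.Lib.Helper6.le_pCore
    · exact Subgroup.Normal.map hQn _ (QuotientGroup.mk'_surjective _)
    · exact hQp.map _
  have hd : pCore p X ⊓ pPrimeCore p X = ⊥ :=
    Cfsg.Agent.Lib.Helper6.isPGroup_inf_coprime_eq_bot hKc hQp
  intro cb hcb
  obtain ⟨c, rfl⟩ := QuotientGroup.mk'_surjective (pPrimeCore p X) cb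
  have hc : c ∈ Subgroup.centralizer ((pCore p X : Subgroup X) : Set X) := by
    rw [Subgroup.mem_centralizer_iff]
    intro q hq
    have h1 := Subgroup.mem_centralizer_iff.mp hcb _ (hQb ⟨q, hq, rfl⟩)
    have h2 : c * q * c⁻¹ * q⁻¹ ∈ pPrimeCore p X := by
      rw [← QuotientGroup.eq_one_iff, ← QuotientGroup.mk'_apply, map_mul, map_mul, map_mul, map_inv,
        map_inv, ← h1]
      group
    have h3 : c * q * c⁻¹ * q⁻¹ ∈ pCore p X :=
      (pCore p X).mul_mem (hQn.conj_mem q hq c) ((pCore p X).inv_mem hq)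
    have h4 : c * q * c⁻¹ * q⁻¹ ∈ pCore p X ⊓ pPrimeCore p X := Subgroup.mem_inf.mpr ⟨h3, h2⟩
    rw [hd, Subgroup.mem_bot] at h4
    calc q * c = (c * q * c⁻¹ * q⁻¹)⁻¹ * (c * q) := by group
      _ = c * q := by rw [h4]; group
  have h5 := centralizer_pCore_le_sup S h hc
  obtain ⟨k, hk, q, hq, rfl⟩ := Subgroup.mem_sup_of_normal_right.mp h5
  rw [map_mul, mk'_eq_one_of_mem _ hk, one_mul]
  exact hQb ⟨q, hq, rfl⟩

/-- for a member `D` of the Alperin–Goldschmidt family, `P ∩ O_{p',p}(N(D)) = D` -/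
theorem inf_LG_eq_of_mem_goldFam {P : Sylow p X} {D : Subgroup X} (hD : D ∈ GoldFam P) :
    (P : Subgroup X) ⊓ LG p (Subgroup.normalizer (D : Set X)) = D := by
  obtain ⟨hDP, _, ⟨hKL, hDL, _, hKD, hsup⟩, _⟩ := hD
  obtain ⟨N, hNdef⟩ : ∃ N : Subgroup X, N = Subgroup.normalizer (D : Set X) := ⟨_, rfl⟩
  rw [← hNdef] at hKL hDL hKD hsup ⊢
  have hDN : D ≤ N := by rw [hNdef]; exact Subgroup.le_normalizer
  symm
  apply Subgroup.eq_of_le_of_card_ge (le_inf hDP hDL)
  have hPp : IsPGroup p (P : Subgroup X) := P.isPGroup'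
  have hDsp : IsPGroup p ((P : Subgroup X) ⊓ LG p N : Subgroup X) := hPp.to_le inf_le_left
  have hDsK : ((P : Subgroup X) ⊓ LG p N) ⊓ KG p N = ⊥ :=
    Cfsg.Agent.Lib.Helper6.isPGroup_inf_coprime_eq_bot (KG_coprime N) hDsp
  have hDK : D ⊓ KG p N = ⊥ := by rw [inf_comm]; exact hKD
  have h1 := Cfsg.Agent.Lib.Lead.card_sup_of_disjoint ((P : Subgroup X) ⊓ LG p N) (KG p N)
    ((inf_le_right.trans (LG_le N)).trans (le_normalizer_KG N)) hDsK
  have h2 := Cfsg.Agent.Lib.Lead.card_sup_of_disjoint D (KG p N) (hDN.trans (le_normalizer_KG N)) hDK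
  have h3 : ((P : Subgroup X) ⊓ LG p N) ⊔ KG p N ≤ D ⊔ KG p N := by
    rw [sup_comm D, hsup]
    exact sup_le inf_le_right hKL
  have h4 := Subgroup.card_le_of_le h3
  rw [h1, h2] at h4
  exact Nat.le_of_mul_le_mul_right h4 Nat.card_pos

/-- members of the Alperin–Goldschmidt family contain `O_p(X)` -/
theorem pCore_le_of_mem_goldFam {P : Sylow p X} {D : Subgroup X} (hD : D ∈ GoldFam P) :
    pCore p X ≤ D := by
  have hinf := inf_LG_eq_of_mem_goldFam hD
  have hDP : D ≤ (P : Subgroup X) := hD.1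
  obtain ⟨N, hNdef⟩ : ∃ N : Subgroup X, N = Subgroup.normalizer (D : Set X) := ⟨_, rfl⟩
  rw [← hNdef] at hinf
  have hQn : (pCore p X).Normal := inferInstance
  have hQp : IsPGroup p (pCore p X) := Cfsg.Agent.Lib.Helper6.pCore_isPGroup p
  have hQP : pCore p X ≤ (P : Subgroup X) := Cfsg.Agent.Lib.Helper6.pCore_le_sylow P
  have hDN : D ≤ N := by rw [hNdef]; exact Subgroup.le_normalizer
  -- `Q ∩ N ≤ D`
  have hQN : pCore p X ⊓ N ≤ D := by
    rw [← hinf]
    refine le_inf (inf_le_left.trans hQP) ?_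
    apply le_LG inf_le_right ?_ (hQp.to_le inf_le_left)
    have key : ∀ n ∈ N, ∀ x ∈ pCore p X ⊓ N, n * x * n⁻¹ ∈ pCore p X ⊓ N := by
      intro n hn x hx
      exact Subgroup.mem_inf.mpr ⟨hQn.conj_mem x hx.1 n, N.mul_mem (N.mul_mem hn hx.2) (N.inv_mem hn)⟩
    intro n hn
    rw [Subgroup.mem_normalizer_iff]
    intro x
    constructor
    · exact key n hn x
    · intro hx
      have := key n⁻¹ (N.inv_mem hn) _ hx
      have e : n⁻¹ * (n * x * n⁻¹) * n⁻¹⁻¹ = x := by group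
      rwa [e] at this
  have hDQp : IsPGroup p (D ⊔ pCore p X : Subgroup X) :=
    IsPGroup.to_sup_of_normal_right (P.isPGroup'.to_le hDP) hQp
  by_contra hcon
  have hlt : D < D ⊔ pCore p X := by
    refine lt_of_le_of_ne le_sup_left ?_
    intro h
    apply hcon
    have : pCore p X ≤ D ⊔ pCore p X := le_sup_right
    rwa [← h] at this
  have hgrow := Cfsg.Agent.Lib.Lead.pgroup_normalizer_grows p _ D hDQp hlt
  have hle : (D ⊔ pCore p X) ⊓ Subgroup.normalizer (D : Set X) ≤ D := by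
    intro x hx
    obtain ⟨d, hd, q, hq, rfl⟩ := Subgroup.mem_sup_of_normal_right.mp hx.1
    have hqN : q ∈ N := by
      have h1 : d * q ∈ N := by rw [hNdef]; exact hx.2
      have : q = d⁻¹ * (d * q) := by group
      rw [this]
      exact N.mul_mem (N.inv_mem (hDN hd)) h1
    exact D.mul_mem hd (hQN ⟨hq, hqN⟩)
  exact absurd (lt_of_lt_of_le hgrow hle) (lt_irrefl _)

/-- from the Alperin–Goldschmidt decomposition to `Reach` -/
theorem reach_of_via {𝓥 : Set (Subgroup X → Subgroup X)} (S : Sylow p X)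
    (hstep : ∀ D ∈ GoldFam S, ∀ x ∈ Subgroup.normalizer (D : Set X),
      Reach 𝓥 ⊤ (S : Subgroup X) (D : Set X) x) {A : Set X} {k : X}
    (hv : Via (GoldFam S) A k) (hA : A ⊆ (S : Subgroup X)) :
    Reach 𝓥 ⊤ (S : Subgroup X) A k⁻¹ := by
  induction hv with
  | nil A =>
    rw [inv_one]
    exact ⟨1, FChain.nil A hA, fun _ _ => rfl⟩
  | cons A T x g hT hx hAT _ ih =>
    rw [mul_inv_rev]
    have h1 : Reach 𝓥 ⊤ (S : Subgroup X) A x⁻¹ :=
      (hstep T hT x⁻¹ (Subgroup.inv_mem _ hx)).mono hAT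
    have e : lc x⁻¹ A = cs x A := by
      unfold lc cs
      rw [inv_inv]
    apply Reach.trans h1
    rw [e]
    apply ih
    exact (cs_subset_of_mem_normalizer hx hAT).trans (by exact_mod_cast hT.1)

/-- it suffices to control the normalizers of the members of the Alperin–Goldschmidt family -/
theorem reach_of_goldFam {𝓥 : Set (Subgroup X → Subgroup X)} (S : Sylow p X)
    (hstep : ∀ D ∈ GoldFam S, ∀ x ∈ Subgroup.normalizer (D : Set X),
      Reach 𝓥 ⊤ (S : Subgroup X) (D : Set X) x) (A : Set X) (g : X)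
    (hA : A ⊆ (S : Subgroup X)) (hgA : lc g A ⊆ (S : Subgroup X)) :
    Reach 𝓥 ⊤ (S : Subgroup X) A g := by
  have h1 : cs g⁻¹ A ⊆ (S : Subgroup X) := by
    have e : cs g⁻¹ A = lc g A := by
      unfold lc cs
      rw [inv_inv]
    rw [e]; exact hgA
  obtain ⟨c, g', hc, hg, hv⟩ := alperin_goldschmidt_set S A g⁻¹ hA h1
  have h2 := reach_of_via S hstep hv hA
  apply h2.congr
  intro a ha
  have hca := Subgroup.mem_centralizer_iff.mp hc a ha
  have hg' : g = g'⁻¹ * c⁻¹ := by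
    have : g = (g⁻¹)⁻¹ := by group
    rw [this, hg]; group
  rw [hg']
  have e : c⁻¹ * a * c = a := by
    calc c⁻¹ * a * c = c⁻¹ * (a * c) := by group
      _ = c⁻¹ * (c * a) := by rw [hca]
      _ = a := by group
  calc g'⁻¹ * a * g'⁻¹⁻¹ = g'⁻¹ * (c⁻¹ * a * c) * g'⁻¹⁻¹ := by rw [e]
    _ = g'⁻¹ * c⁻¹ * a * (g'⁻¹ * c⁻¹)⁻¹ := by group

end

end Cfsg.Agent.Lib.Helper4
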