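import Mathlib
import Cfsg.Agent.Lib.Helper4.Sect3

set_option autoImplicit false
open Pointwise

/-! The two reductions for a group with `O_p(X) ≠ 1` that is not `p`-constrained. -/

namespace Cfsg.Agent.Lib.Helper4

open Cfsg Cfsg.Agent.Lib.Helper7

universe u

section general
variable {X : Type*} [Group X]

theorem FChain.mono_group {𝓥 : Set (Subgroup X → Subgroup X)} {H H' T : Subgroup X} {A : Set X} {c : X}
    (h : FChain 𝓥 H T A c) (hHH' : H ≤ H') : FChain 𝓥 H' T A c := by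
  induction h with
  | nil hA => exact FChain.nil A hA
  | step c y _ h2 h3 ih =>
    obtain ⟨W, hW, hy⟩ := h2
    exact FChain.step A c y ih ⟨W, hW, ⟨hHH' hy.1, hy.2⟩⟩ h3

theorem Reach.mono_group {𝓥 : Set (Subgroup X → Subgroup X)} {H H' T : Subgroup X} {A : Set X} {g : X}
    (h : Reach 𝓥 H T A g) (hHH' : H ≤ H') : Reach 𝓥 H' T A g := by
  obtain ⟨c, hc, hceq⟩ := h
  exact ⟨c, hc.mono_group hHH', hceq⟩

theorem Reach.lc_subset {𝓥 : Set (Subgroup X → Subgroup X)} {H T : Subgroup X} {A : Set X} {g : X}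
    (h : Reach 𝓥 H T A g) : lc g A ⊆ T := by
  obtain ⟨c, hc, hceq⟩ := h
  rw [← lc_congr hceq]
  exact hc.lc_subset

theorem lc_eq_of_mem_normalizer {D : Subgroup X} {x : X} (hx : x ∈ Subgroup.normalizer (D : Set X)) :
    lc x (D : Set X) = D := by
  rw [lc_subgroup, mem_normalizer_iff_cj.mp hx]

variable [Finite X] {p : ℕ} [Fact p.Prime]

/-- the Frattini-type decomposition of the normalizer of a subgroup `D ⊇ Q`, `Q` normal -/
theorem decomp_centralizer (S : Sylow p X) (Q : Subgroup X) [hQn : Q.Normal] {D : Subgroup X}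
    (hDS : D ≤ (S : Subgroup X)) {x : X} (hx : x ∈ Subgroup.normalizer (D : Set X)) :
    ∃ c ∈ Subgroup.centralizer (Q : Set X),
      ∃ n ∈ Subgroup.normalizer ((Q ⊔ ((S : Subgroup X) ⊓ Subgroup.centralizer (Q : Set X)) : Subgroup X) : Set X),
        x = c * n ∧ lc n (D : Set X) ⊆ (S : Subgroup X) := by
  have hSp : IsPGroup p (S : Subgroup X) := S.isPGroup'
  obtain ⟨C, hCdef⟩ : ∃ C : Subgroup X, C = Subgroup.centralizer (Q : Set X) := ⟨_, rfl⟩
  haveI hCn : C.Normal := by rw [hCdef]; exact Subgroup.normal_centralizer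
  rw [← hCdef]
  obtain ⟨CS, hCSdef⟩ : ∃ CS : Subgroup X, CS = (S : Subgroup X) ⊓ C := ⟨_, rfl⟩
  rw [← hCSdef]
  obtain ⟨D', hD'def⟩ : ∃ D' : Subgroup X, D' = D ⊔ CS := ⟨_, rfl⟩
  obtain ⟨M, hMdef⟩ : ∃ M : Subgroup X, M = C ⊔ D := ⟨_, rfl⟩
  have hD'S : D' ≤ (S : Subgroup X) := by
    rw [hD'def, hCSdef]; exact sup_le hDS inf_le_left
  have hD'M : D' ≤ M := by
    rw [hD'def, hMdef, hCSdef]
    exact sup_le le_sup_right (inf_le_right.trans le_sup_left)
  have hCM : C ≤ M := by rw [hMdef]; exact le_sup_left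
  have hDM : D ≤ M := by rw [hMdef]; exact le_sup_right
  have hnormC : ∀ H : Subgroup X, H ≤ Subgroup.normalizer (C : Set X) := by
    intro H
    rw [Subgroup.normalizer_eq_top_iff.mpr hCn]; exact le_top
  have hStop : SylIn p (⊤ : Subgroup X) (S : Subgroup X) := by
    refine ⟨le_top, hSp, ?_⟩
    rw [Subgroup.relIndex_top_right]; exact S.not_dvd_index
  have hCSsyl : SylIn p C CS := by
    rw [hCSdef]; exact sylIn_inf_normal le_top (hnormC _) hStop
  -- `D'` is a Sylow subgroup of `M`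
  have hD'syl : SylIn p M D' := by
    obtain ⟨SM, hle, hSM⟩ := exists_sylIn_ge hD'M (hSp.to_le hD'S)
    have h1 : SylIn p C (SM ⊓ C) := sylIn_inf_normal hCM (hnormC _) hSM
    have h2 : CS ≤ SM ⊓ C := by
      refine le_inf ?_ (by rw [hCSdef]; exact inf_le_right)
      exact le_trans (by rw [hD'def]; exact le_sup_right) hle
    have h3 : CS = SM ⊓ C := Subgroup.eq_of_le_of_card_ge h2 (h1.card_eq hCSsyl).le
    have h4 : SM ≤ D' := by
      intro s hs
      have hsM : s ∈ C ⊔ D := by rw [← hMdef]; exact hSM.1 hs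
      obtain ⟨c, hc, d, hd, hcd⟩ := Subgroup.mem_sup_of_normal_left.mp hsM
      have hdSM : d ∈ SM := hle (by rw [hD'def]; exact Subgroup.mem_sup_left hd)
      have hcSM : c ∈ SM := by
        have : c = s * d⁻¹ := by rw [← hcd]; group
        rw [this]; exact SM.mul_mem hs (SM.inv_mem hdSM)
      have hcCS : c ∈ CS := by rw [h3]; exact ⟨hcSM, hc⟩
      rw [← hcd, hD'def]
      exact Subgroup.mul_mem _ (Subgroup.mem_sup_right hcCS) (Subgroup.mem_sup_left hd)
    have : SM = D' := le_antisymm h4 hle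
    rw [← this]; exact hSM
  -- `x` normalizes `M`
  have hxM : x ∈ Subgroup.normalizer (M : Set X) := by
    rw [mem_normalizer_iff_cj, hMdef, cj_sup, mem_normalizer_iff_cj.mp hx,
      mem_normalizer_iff_cj.mp (hnormC ⊤ (Subgroup.mem_top x))]
  obtain ⟨l, hl, n₀, hn₀, hxl⟩ := frattini_rel (X := Subgroup.normalizer (M : Set X))
    Subgroup.le_normalizer le_rfl hD'syl hxM
  have hl' : l ∈ C ⊔ D := by rw [← hMdef]; exact hl
  obtain ⟨c, hc, d, hd, hcd⟩ := Subgroup.mem_sup_of_normal_left.mp hl'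
  have hdD' : d ∈ D' := by rw [hD'def]; exact Subgroup.mem_sup_left hd
  have hn : d * n₀ ∈ Subgroup.normalizer (D' : Set X) :=
    Subgroup.mul_mem _ (Subgroup.le_normalizer hdD') hn₀.2
  refine ⟨c, hc, d * n₀, ?_, by rw [hxl, ← hcd, mul_assoc], ?_⟩
  · -- normalizes `Q ⊔ CS`
    have hCSeq : CS = D' ⊓ C := by
      apply le_antisymm
      · exact le_inf (by rw [hD'def]; exact le_sup_right) (by rw [hCSdef]; exact inf_le_right)
      · rw [hCSdef]; exact inf_le_inf_right _ hD'S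
    rw [mem_normalizer_iff_cj, cj_sup]
    have h1 : Helper7.cj (d * n₀) Q = Q := by
      apply mem_normalizer_iff_cj.mp
      rw [Subgroup.normalizer_eq_top_iff.mpr hQn]; exact Subgroup.mem_top _
    have h2 : Helper7.cj (d * n₀) CS = CS := by
      rw [hCSeq, cj_inf, mem_normalizer_iff_cj.mp hn,
        mem_normalizer_iff_cj.mp (hnormC ⊤ (Subgroup.mem_top _))]
    rw [h1, h2]
  · have h1 : lc (d * n₀) (D : Set X) ⊆ lc (d * n₀) (D' : Set X) :=
      lc_mono _ (by rw [hD'def]; exact_mod_cast (le_sup_left : D ≤ D ⊔ CS))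
    rw [lc_eq_of_mem_normalizer hn] at h1
    exact h1.trans (by exact_mod_cast hD'S)

end general

section functors
variable {X : Type u} [Group X] [Finite X] {p : ℕ} [Fact p.Prime]
variable {𝓦 : Set (∀ (Q : Type u) [Group Q], Subgroup Q)}

/-- a subgroup containing the Sylow subgroup `S` in which fusion is controlled -/
theorem reach_of_overgroup (h𝓦 : ∀ W ∈ 𝓦, IsCharPFunctor.{u} p W) (S : Sylow p X) (H : Subgroup X)
    (hSH : (S : Subgroup X) ≤ H) (hH : FamilyControlsStrongFusionIn p (indFam 𝓦 ↥H) ⊤)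
    (A : Set X) (g : X) (hg : g ∈ H) (hA : A ⊆ (S : Subgroup X)) (hgA : lc g A ⊆ (S : Subgroup X)) :
    Reach (indFam 𝓦 X) ⊤ (S : Subgroup X) A g := by
  have h1 := fcsf_of_subgroup h𝓦 H hH
  have hi : ¬ p ∣ (S : Subgroup X).relIndex H := by
    intro hdvd
    exact S.not_dvd_index (hdvd.trans (Subgroup.relIndex_dvd_index_of_le hSH))
  exact (reach_of_familyControls (indFam_isConjugacyFunctor h𝓦) h1 hSH S.isPGroup' hi A g hg hA hgA).mono_group
    le_top

/-- first reduction: `S C_X(Q)` and `N_X(Q C_S(Q))` -/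
theorem reach_of_two_overgroups (h𝓦 : ∀ W ∈ 𝓦, IsCharPFunctor.{u} p W) (S : Sylow p X)
    (h1 : FamilyControlsStrongFusionIn p
      (indFam 𝓦 ↥((S : Subgroup X) ⊔ Subgroup.centralizer ((pCore p X : Subgroup X) : Set X))) ⊤)
    (h2 : FamilyControlsStrongFusionIn p
      (indFam 𝓦 ↥(Subgroup.normalizer ((pCore p X ⊔ ((S : Subgroup X) ⊓
        Subgroup.centralizer ((pCore p X : Subgroup X) : Set X)) : Subgroup X) : Set X))) ⊤) :
    ∀ D ∈ GoldFam S, ∀ x ∈ Subgroup.normalizer (D : Set X),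
      Reach (indFam 𝓦 X) ⊤ (S : Subgroup X) (D : Set X) x := by
  intro D hD x hx
  have hDS : D ≤ (S : Subgroup X) := hD.1
  obtain ⟨c, hc, n, hn, hxcn, hnD⟩ := decomp_centralizer S (pCore p X) hDS hx
  have hQS : pCore p X ≤ (S : Subgroup X) := Cfsg.Agent.Lib.Helper6.pCore_le_sylow S
  have hS2 : (S : Subgroup X) ≤ Subgroup.normalizer ((pCore p X ⊔ ((S : Subgroup X) ⊓
        Subgroup.centralizer ((pCore p X : Subgroup X) : Set X)) : Subgroup X) : Set X) := by
    intro s hs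
    rw [mem_normalizer_iff_cj, cj_sup, cj_inf]
    have e1 : Helper7.cj s (pCore p X) = pCore p X := by
      apply mem_normalizer_iff_cj.mp
      rw [Subgroup.normalizer_eq_top_iff.mpr inferInstance]; exact Subgroup.mem_top _
    have e2 : Helper7.cj s (Subgroup.centralizer ((pCore p X : Subgroup X) : Set X)) =
        Subgroup.centralizer ((pCore p X : Subgroup X) : Set X) := by
      apply mem_normalizer_iff_cj.mp
      rw [Subgroup.normalizer_eq_top_iff.mpr Subgroup.normal_centralizer]; exact Subgroup.mem_top _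
    rw [e1, e2, cj_eq_self_of_mem hs]
  have hDsub : (D : Set X) ⊆ (S : Subgroup X) := by exact_mod_cast hDS
  have r1 := reach_of_overgroup h𝓦 S _ hS2 h2 (D : Set X) n hn hDsub hnD
  have hxD : lc c (lc n (D : Set X)) ⊆ (S : Subgroup X) := by
    rw [← lc_mul, ← hxcn, lc_eq_of_mem_normalizer hx]; exact hDsub
  have r2 := reach_of_overgroup h𝓦 S _ le_sup_left h1 (lc n (D : Set X)) c
    (Subgroup.mem_sup_right hc) hnD hxD
  rw [hxcn]
  exact Reach.trans r1 r2

end functors

end Cfsg.Agent.Lib.Helper4
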