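import Mathlib
import Cfsg.Agent.Lib.Helper4.Sect4

set_option autoImplicit false
open Pointwise

/-! The second reduction: the quotient by `O_p(X)` when `X = S C_X(O_p(X))`. -/

namespace Cfsg.Agent.Lib.Helper4

open Cfsg Cfsg.Agent.Lib.Helper7

universe u

section general
variable {X : Type*} [Group X] [Finite X] {p : ℕ} [Fact p.Prime]

theorem normalizer_inf_le (A B : Subgroup X) :
    Subgroup.normalizer (A : Set X) ⊓ Subgroup.normalizer (B : Set X) ≤
      Subgroup.normalizer ((A ⊓ B : Subgroup X) : Set X) := by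
  intro n hn
  rw [mem_normalizer_iff_cj, cj_inf, mem_normalizer_iff_cj.mp hn.1, mem_normalizer_iff_cj.mp hn.2]

/-- elements of `N_X(D)` acting trivially on `D / O_p(X)` act on `D` as elements of `S ∩ N_X(D)`, when
`X = S C_X(O_p(X))` and `D` lies in the Alperin–Goldschmidt family -/
theorem exists_sylow_action (S : Sylow p X)
    (hSC : (S : Subgroup X) ⊔ Subgroup.centralizer ((pCore p X : Subgroup X) : Set X) = ⊤)
    {D : Subgroup X} (hD : D ∈ GoldFam S) {e : X} (heN : e ∈ Subgroup.normalizer (D : Set X))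
    (he : QuotientGroup.mk' (pCore p X) e ∈
      Subgroup.centralizer ((D.map (QuotientGroup.mk' (pCore p X)) : Subgroup (X ⧸ pCore p X)) : Set (X ⧸ pCore p X))) :
    ∃ r ∈ (S : Subgroup X) ⊓ Subgroup.normalizer (D : Set X), ∀ d ∈ D, e * d * e⁻¹ = r * d * r⁻¹ := by
  have hSp : IsPGroup p (S : Subgroup X) := S.isPGroup'
  have hQD : pCore p X ≤ D := pCore_le_of_mem_goldFam hD
  have hDS : D ≤ (S : Subgroup X) := hD.1
  have hDp : IsPGroup p D := hSp.to_le hDS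
  have hfn := hD.2.2.2
  obtain ⟨Q, hQdef⟩ : ∃ Q : Subgroup X, Q = pCore p X := ⟨_, rfl⟩
  haveI hQn : Q.Normal := by rw [hQdef]; infer_instance
  have hSC' : (S : Subgroup X) ⊔ Subgroup.centralizer (Q : Set X) = ⊤ := by rw [hQdef]; exact hSC
  have hQD' : Q ≤ D := by rw [hQdef]; exact hQD
  have he' : QuotientGroup.mk' Q e ∈
      Subgroup.centralizer ((D.map (QuotientGroup.mk' Q) : Subgroup (X ⧸ Q)) : Set (X ⧸ Q)) := by
    subst hQdef; exact he
  clear he hSC hQD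
  obtain ⟨N, hNdef⟩ : ∃ N : Subgroup X, N = Subgroup.normalizer (D : Set X) := ⟨_, rfl⟩
  rw [← hNdef] at heN hfn ⊢
  have hNsyl : SylIn p N ((S : Subgroup X) ⊓ N) := ⟨inf_le_right, hSp.to_le inf_le_left, hfn⟩
  have hDN : D ≤ N := by rw [hNdef]; exact Subgroup.le_normalizer
  have hND : N ≤ Subgroup.normalizer (D : Set X) := by rw [hNdef]
  obtain ⟨Db, hDbdef⟩ : ∃ Db : Subgroup (X ⧸ Q), Db = D.map (QuotientGroup.mk' Q) := ⟨_, rfl⟩
  rw [← hDbdef] at he'
  obtain ⟨E₀, hE₀def⟩ : ∃ E₀ : Subgroup X,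
      E₀ = N ⊓ (Subgroup.centralizer (Db : Set (X ⧸ Q))).comap (QuotientGroup.mk' Q) := ⟨_, rfl⟩
  have heE₀ : e ∈ E₀ := by rw [hE₀def]; exact ⟨heN, he'⟩
  have hE₀N : E₀ ≤ N := by rw [hE₀def]; exact inf_le_left
  -- the commutator condition
  have hcomm : ∀ v ∈ E₀, ∀ u ∈ D, v * u * v⁻¹ * u⁻¹ ∈ Q := by
    intro v hv u hu
    rw [hE₀def] at hv
    have h1 := Subgroup.mem_centralizer_iff.mp hv.2 (QuotientGroup.mk' Q u) (by rw [hDbdef]; exact ⟨u, hu, rfl⟩)
    rw [← QuotientGroup.eq_one_iff, ← QuotientGroup.mk'_apply, map_mul, map_mul, map_mul, map_inv,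
      map_inv, ← h1]
    group
  -- `N` normalizes `E₀`
  have hNE₀ : N ≤ Subgroup.normalizer (E₀ : Set X) := by
    intro n hn
    rw [hE₀def]
    apply normalizer_inf_le
    refine ⟨Subgroup.le_normalizer hn, ?_⟩
    apply Subgroup.le_normalizer_comap
    rw [Subgroup.mem_comap]
    apply Cfsg.Agent.Lib.Helper2.normalizer_le_normalizer_centralizer
    rw [hDbdef]
    exact Subgroup.le_normalizer_map _ ⟨n, hND hn, rfl⟩
  have hR₀ : SylIn p E₀ (((S : Subgroup X) ⊓ N) ⊓ E₀) := sylIn_inf_normal hE₀N hNE₀ hNsyl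
  -- `X / C_X(Q)` is a `p`-group
  haveI hCn : (Subgroup.centralizer (Q : Set X)).Normal := Subgroup.normal_centralizer
  have hquot : IsPGroup p (X ⧸ Subgroup.centralizer (Q : Set X)) := by
    intro xb
    obtain ⟨x, rfl⟩ := QuotientGroup.mk'_surjective _ xb
    have hx : x ∈ (S : Subgroup X) ⊔ Subgroup.centralizer (Q : Set X) := by rw [hSC']; exact Subgroup.mem_top x
    obtain ⟨s, hs, c, hc, rfl⟩ := Subgroup.mem_sup_of_normal_right.mp hx
    obtain ⟨k, hk⟩ := hSp ⟨s, hs⟩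
    refine ⟨k, ?_⟩
    have hs1 : s ^ p ^ k = 1 := by
      have := congrArg Subtype.val hk
      simpa using this
    rw [map_mul, mk'_eq_one_of_mem _ hc, mul_one, ← map_pow, hs1, map_one]
  have hp' : ∀ v ∈ E₀, (orderOf v).Coprime p → v ∈ E₀ ⊓ Subgroup.centralizer (D : Set X) := by
    intro v hv hvc
    refine ⟨hv, ?_⟩
    have hvC : v ∈ Subgroup.centralizer (Q : Set X) := by
      obtain ⟨j, hj⟩ := (IsPGroup.iff_orderOf.mp hquot) (QuotientGroup.mk' _ v)
      have hdvd : orderOf (QuotientGroup.mk' (Subgroup.centralizer (Q : Set X)) v) ∣ orderOf v :=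
        orderOf_map_dvd _ v
      have h1 : orderOf (QuotientGroup.mk' (Subgroup.centralizer (Q : Set X)) v) = 1 := by
        have hcc : (orderOf (QuotientGroup.mk' (Subgroup.centralizer (Q : Set X)) v)).Coprime
            (orderOf (QuotientGroup.mk' (Subgroup.centralizer (Q : Set X)) v)) := by
          apply Nat.Coprime.coprime_dvd_left hdvd
          rw [hj]
          exact Nat.Coprime.pow_right j hvc
        exact (Nat.coprime_self _).mp hcc
      rw [orderOf_eq_one_iff] at h1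
      exact (QuotientGroup.eq_one_iff v).mp h1
    exact pPrime_stab_centralizes hDp hQD' hvc hvC (hcomm v hv)
  have hKM : E₀ ⊓ Subgroup.centralizer (D : Set X) ≤ E₀ := inf_le_left
  have hMK : E₀ ≤ Subgroup.normalizer ((E₀ ⊓ Subgroup.centralizer (D : Set X) : Subgroup X) : Set X) := by
    intro v hv
    apply normalizer_inf_le
    refine ⟨Subgroup.le_normalizer hv, ?_⟩
    exact Cfsg.Agent.Lib.Helper2.normalizer_le_normalizer_centralizer D (hND (hE₀N hv))
  obtain ⟨k, hk, r, hr, hekr⟩ := exists_mul_of_pPrime_le hKM hMK hR₀ hp' heE₀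
  refine ⟨r, hr.1, ?_⟩
  intro d hd
  have hrd : r * d * r⁻¹ ∈ D := (Subgroup.mem_normalizer_iff.mp (hND hr.1.2) d).mp hd
  have hkc := Subgroup.mem_centralizer_iff.mp hk.2 _ hrd
  rw [hekr]
  calc k * r * d * (k * r)⁻¹ = k * (r * d * r⁻¹) * k⁻¹ := by group
    _ = (r * d * r⁻¹) * k * k⁻¹ := by rw [hkc]
    _ = r * d * r⁻¹ := by group

end general

section functors
variable {X : Type u} [Group X] [Finite X] {p : ℕ} [Fact p.Prime]
variable {𝓦 : Set (∀ (Q : Type u) [Group Q], Subgroup Q)}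

/-- lifting a chain from `X / O_p(X)` -/
theorem chain_lift_pCore (h𝓦 : ∀ W ∈ 𝓦, IsCharPFunctor.{u} p W) (S : Sylow p X)
    (hK : ∀ W ∈ 𝓦, FamilyControlsStrongFusionIn p (indFam 𝓦
      ↥((Subgroup.normalizer ((inducedFunctor W ((S : Subgroup X).map (QuotientGroup.mk' (pCore p X))) :
        Subgroup (X ⧸ pCore p X)) : Set (X ⧸ pCore p X))).comap (QuotientGroup.mk' (pCore p X)))) ⊤)
    (A : Set X) (hA : A ⊆ (S : Subgroup X)) {cb : X ⧸ pCore p X}
    (h : FChain (indFam 𝓦 (X ⧸ pCore p X)) ⊤ ((S : Subgroup X).map (QuotientGroup.mk' (pCore p X)))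
      (QuotientGroup.mk' (pCore p X) '' A) cb) :
    ∃ c, QuotientGroup.mk' (pCore p X) c = cb ∧ Reach (indFam 𝓦 X) ⊤ (S : Subgroup X) A c := by
  have hSp : IsPGroup p (S : Subgroup X) := S.isPGroup'
  have hQS : pCore p X ≤ (S : Subgroup X) := Cfsg.Agent.Lib.Helper6.pCore_le_sylow S
  have hpre : ∀ y : X, QuotientGroup.mk' (pCore p X) y ∈ (S : Subgroup X).map (QuotientGroup.mk' (pCore p X)) →
      y ∈ (S : Subgroup X) := by
    intro y hy
    obtain ⟨s, hs, hsy⟩ := hy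
    have h1 : s⁻¹ * y ∈ pCore p X := by
      rw [← QuotientGroup.eq_one_iff, ← QuotientGroup.mk'_apply, map_mul, map_inv, hsy]
      group
    have : y = s * (s⁻¹ * y) := by group
    rw [this]
    exact (S : Subgroup X).mul_mem hs (hQS h1)
  obtain ⟨Ab, hAb⟩ : ∃ Ab : Set (X ⧸ pCore p X), Ab = QuotientGroup.mk' (pCore p X) '' A := ⟨_, rfl⟩
  rw [← hAb] at h
  induction h with
  | nil _ => exact ⟨1, map_one _, ⟨1, FChain.nil A hA, fun _ _ => rfl⟩⟩
  | step cb yb h1 h2 h3 ih =>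
    obtain ⟨c, hc, hr⟩ := ih
    obtain ⟨_, ⟨W, hW, rfl⟩, hyb⟩ := h2
    obtain ⟨y, rfl⟩ := QuotientGroup.mk'_surjective (pCore p X) yb
    have hB : lc c A ⊆ (S : Subgroup X) := hr.lc_subset
    have hyB : lc y (lc c A) ⊆ (S : Subgroup X) := by
      rintro _ ⟨_, ⟨a, ha, rfl⟩, rfl⟩
      apply hpre
      apply h3
      rw [hAb]
      refine ⟨QuotientGroup.mk' (pCore p X) a, ⟨a, ha, rfl⟩, ?_⟩
      simp only [map_mul, map_inv, hc, mul_inv_rev]
      group
    have hSK : (S : Subgroup X) ≤ (Subgroup.normalizer ((inducedFunctor W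
        ((S : Subgroup X).map (QuotientGroup.mk' (pCore p X))) :
        Subgroup (X ⧸ pCore p X)) : Set (X ⧸ pCore p X))).comap (QuotientGroup.mk' (pCore p X)) := by
      intro s hs
      rw [Subgroup.mem_comap]
      exact le_normalizer_functor (isConjugacyFunctor_inducedFunctor (h𝓦 W hW)) (hSp.map _) ⟨s, hs, rfl⟩
    have r2 := reach_of_overgroup h𝓦 S _ hSK (hK W hW) (lc c A) y (Subgroup.mem_comap.mpr hyb.2) hB hyB
    exact ⟨y * c, by rw [map_mul, hc], Reach.trans hr r2⟩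

/-- second reduction: the quotient by `O_p(X)` -/
theorem reach_of_quotient_pCore (h𝓦 : ∀ W ∈ 𝓦, IsCharPFunctor.{u} p W) (S : Sylow p X)
    (hSC : (S : Subgroup X) ⊔ Subgroup.centralizer ((pCore p X : Subgroup X) : Set X) = ⊤)
    (hS : FamilyControlsStrongFusionIn p (indFam 𝓦 ↥(S : Subgroup X)) ⊤)
    (hquot : FamilyControlsStrongFusionIn p (indFam 𝓦 (X ⧸ pCore p X)) ⊤)
    (hK : ∀ W ∈ 𝓦, FamilyControlsStrongFusionIn p (indFam 𝓦
      ↥((Subgroup.normalizer ((inducedFunctor W ((S : Subgroup X).map (QuotientGroup.mk' (pCore p X))) :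
        Subgroup (X ⧸ pCore p X)) : Set (X ⧸ pCore p X))).comap (QuotientGroup.mk' (pCore p X)))) ⊤) :
    ∀ D ∈ GoldFam S, ∀ x ∈ Subgroup.normalizer (D : Set X),
      Reach (indFam 𝓦 X) ⊤ (S : Subgroup X) (D : Set X) x := by
  intro D hD x hx
  have hSp : IsPGroup p (S : Subgroup X) := S.isPGroup'
  have hDS : D ≤ (S : Subgroup X) := hD.1
  have hDsub : (D : Set X) ⊆ (S : Subgroup X) := by exact_mod_cast hDS
  have hSb : ¬ p ∣ ((S : Subgroup X).map (QuotientGroup.mk' (pCore p X))).relIndex ⊤ := by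
    rw [Subgroup.relIndex_top_right]
    intro hdvd
    exact S.not_dvd_index (hdvd.trans (Subgroup.index_map_dvd _ (QuotientGroup.mk'_surjective _)))
  have hAb : QuotientGroup.mk' (pCore p X) '' (D : Set X) ⊆
      ((S : Subgroup X).map (QuotientGroup.mk' (pCore p X)) : Subgroup (X ⧸ pCore p X)) := by
    rintro _ ⟨a, ha, rfl⟩
    exact ⟨a, hDS ha, rfl⟩
  have hxD : ∀ d ∈ D, x * d * x⁻¹ ∈ D := fun d hd => (Subgroup.mem_normalizer_iff.mp hx d).mp hd
  have hgAb : lc (QuotientGroup.mk' (pCore p X) x) (QuotientGroup.mk' (pCore p X) '' (D : Set X)) ⊆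
      ((S : Subgroup X).map (QuotientGroup.mk' (pCore p X)) : Subgroup (X ⧸ pCore p X)) := by
    rintro _ ⟨_, ⟨a, ha, rfl⟩, rfl⟩
    exact ⟨x * a * x⁻¹, hDS (hxD a ha), by rw [map_mul, map_mul, map_inv]⟩
  obtain ⟨cb, hcb, hcbeq⟩ := reach_of_familyControls (indFam_isConjugacyFunctor h𝓦) hquot le_top
    (hSp.map _) hSb _ _ (Subgroup.mem_top _) hAb hgAb
  obtain ⟨c, hc, hr⟩ := chain_lift_pCore h𝓦 S hK (D : Set X) hDsub hcb
  -- the correction `e = x⁻¹ c`
  have heC : QuotientGroup.mk' (pCore p X) (x⁻¹ * c) ∈ Subgroup.centralizer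
      ((D.map (QuotientGroup.mk' (pCore p X)) : Subgroup (X ⧸ pCore p X)) : Set (X ⧸ pCore p X)) := by
    rw [Subgroup.mem_centralizer_iff]
    rintro _ ⟨d, hd, rfl⟩
    have h1 := hcbeq (QuotientGroup.mk' (pCore p X) d) ⟨d, hd, rfl⟩
    rw [← hc] at h1
    rw [map_mul, map_inv]
    set xb := QuotientGroup.mk' (pCore p X) x
    set cb' := QuotientGroup.mk' (pCore p X) c
    set db := QuotientGroup.mk' (pCore p X) d
    calc db * (xb⁻¹ * cb') = xb⁻¹ * (xb * db * xb⁻¹) * cb' := by group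
      _ = xb⁻¹ * (cb' * db * cb'⁻¹) * cb' := by rw [h1]
      _ = xb⁻¹ * cb' * db := by group
  have hcN : c ∈ Subgroup.normalizer (D : Set X) := by
    -- `c D c⁻¹ ⊆ D` since the images agree and `D ⊇ Q`
    have hQD : pCore p X ≤ D := pCore_le_of_mem_goldFam hD
    rw [mem_normalizer_iff_cj]
    apply cj_eq_of_le
    intro z hz
    rw [mem_cj] at hz
    -- z = c d c⁻¹
    set d := c⁻¹ * z * c with hd
    have hz' : z = c * d * c⁻¹ := by rw [hd]; group
    have h1 := hcbeq (QuotientGroup.mk' (pCore p X) d) ⟨d, hz, rfl⟩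
    rw [← hc] at h1
    have h2 : (x * d * x⁻¹)⁻¹ * (c * d * c⁻¹) ∈ pCore p X := by
      rw [← QuotientGroup.eq_one_iff, ← QuotientGroup.mk'_apply]
      simp only [map_mul, map_inv]
      rw [h1]; group
    have : z = (x * d * x⁻¹) * ((x * d * x⁻¹)⁻¹ * (c * d * c⁻¹)) := by rw [hz']; group
    rw [this]
    exact D.mul_mem (hxD d hz) (hQD h2)
  have heN : x⁻¹ * c ∈ Subgroup.normalizer (D : Set X) :=
    Subgroup.mul_mem _ (Subgroup.inv_mem _ hx) hcN
  obtain ⟨r, hr', hre⟩ := exists_sylow_action S hSC hD heN heC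
  -- `x` acts on `D` as `c r⁻¹`
  have hrN : r⁻¹ ∈ Subgroup.normalizer (D : Set X) := Subgroup.inv_mem _ hr'.2
  have r1 : Reach (indFam 𝓦 X) ⊤ (S : Subgroup X) (D : Set X) r⁻¹ :=
    reach_of_overgroup h𝓦 S _ le_rfl hS (D : Set X) r⁻¹ ((S : Subgroup X).inv_mem hr'.1) hDsub
      (by rw [lc_eq_of_mem_normalizer hrN]; exact hDsub)
  have r2 : Reach (indFam 𝓦 X) ⊤ (S : Subgroup X) (lc r⁻¹ (D : Set X)) c := by
    rw [lc_eq_of_mem_normalizer hrN]; exact hr
  apply (Reach.trans r1 r2).congr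
  intro d hd
  -- `r⁻¹ d r = e⁻¹ d e`
  have hd' : r⁻¹ * d * r ∈ D := by
    have := (Subgroup.mem_normalizer_iff.mp hrN d).mp hd
    simpa using this
  have h1 := hre (r⁻¹ * d * r) hd'
  have h2 : r * (r⁻¹ * d * r) * r⁻¹ = d := by group
  rw [h2] at h1
  -- h1 : e (r⁻¹ d r) e⁻¹ = d
  have h3 : r⁻¹ * d * r = (x⁻¹ * c)⁻¹ * d * (x⁻¹ * c) := by
    calc r⁻¹ * d * r = (x⁻¹ * c)⁻¹ * (x⁻¹ * c * (r⁻¹ * d * r) * (x⁻¹ * c)⁻¹) * (x⁻¹ * c) := by group
      _ = (x⁻¹ * c)⁻¹ * d * (x⁻¹ * c) := by rw [h1]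
  calc c * r⁻¹ * d * (c * r⁻¹)⁻¹ = c * (r⁻¹ * d * r) * c⁻¹ := by group
    _ = c * ((x⁻¹ * c)⁻¹ * d * (x⁻¹ * c)) * c⁻¹ := by rw [h3]
    _ = x * d * x⁻¹ := by group

end functors

end Cfsg.Agent.Lib.Helper4
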