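import Mathlib
import Cfsg.Agent.Lib.Helper4.Sect5
import Cfsg.Agent.Lib.Helper6.PRes
import Cfsg.Agent.S1959

set_option autoImplicit false
open Pointwise

/-! Control of strong fusion in all sections follows from control in the `p`-constrained sections. -/

namespace Cfsg.Agent.Lib.Helper4

open Cfsg Cfsg.Agent.Lib.Helper7

universe u

section
variable {X : Type u} [Group X] [Finite X]

theorem card_subgroup_lt_of_ne_top {H : Subgroup X} (h : H ≠ ⊤) : Nat.card ↥H < Nat.card X := by
  have h1 : H < ⊤ := lt_top_iff_ne_top.mpr h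
  have h2 := card_lt_of_lt h1
  rwa [Subgroup.card_top] at h2

theorem card_quotient_lt_of_ne_bot {N : Subgroup X} [N.Normal] (h : N ≠ ⊥) :
    Nat.card (X ⧸ N) < Nat.card X := by
  have h1 := Subgroup.card_eq_card_quotient_mul_card_subgroup N
  have h2 : 1 < Nat.card N := by
    rw [Subgroup.one_lt_card_iff_ne_bot]; exact h
  have h3 : 0 < Nat.card (X ⧸ N) := Nat.card_pos
  rw [h1]
  nlinarith

end

variable {G : Type u} [Group G] {p : ℕ} [Fact p.Prime]
variable {𝓦 : Set (∀ (Q : Type u) [Group Q], Subgroup Q)}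

/-- the main induction -/
theorem fcsf_of_sections_aux (h𝓦 : ∀ W ∈ 𝓦, IsCharPFunctor.{u} p W)
    (hcon : ∀ (X : Type u) [Group X] [Finite X], IsSectionOf G X →
      Subgroup.centralizer ((pCore p X : Subgroup X) : Set X) ≤ pCore p X →
      FamilyControlsStrongFusionIn p (indFam 𝓦 X) ⊤) :
    ∀ n : ℕ, ∀ (X : Type u) [Group X] [Finite X], Nat.card X = n → IsSectionOf G X →
      FamilyControlsStrongFusionIn p (indFam 𝓦 X) ⊤ := by
  intro n
  induction n using Nat.strong_induction_on with
  | _ n ih =>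
  intro X _ _ hn hsec
  have IHsub : ∀ H : Subgroup X, H ≠ ⊤ → FamilyControlsStrongFusionIn p (indFam 𝓦 ↥H) ⊤ := by
    intro H hH
    exact ih (Nat.card ↥H) (by rw [← hn]; exact card_subgroup_lt_of_ne_top hH) ↥H rfl (hsec.subgroup H)
  have IHquot : ∀ (N : Subgroup X) [N.Normal], N ≠ ⊥ →
      FamilyControlsStrongFusionIn p (indFam 𝓦 (X ⧸ N)) ⊤ := by
    intro N _ hN
    exact ih (Nat.card (X ⧸ N)) (by rw [← hn]; exact card_quotient_lt_of_ne_bot hN) (X ⧸ N) rfl
      (hsec.quotient N)
  obtain ⟨S⟩ : Nonempty (Sylow p X) := inferInstance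
  have hSp : IsPGroup p (S : Subgroup X) := S.isPGroup'
  have hQn : (pCore p X).Normal := inferInstance
  have hQp : IsPGroup p (pCore p X) := Cfsg.Agent.Lib.Helper6.pCore_isPGroup p
  have hQS : pCore p X ≤ (S : Subgroup X) := Cfsg.Agent.Lib.Helper6.pCore_le_sylow S
  by_cases hQ : pCore p X = ⊥
  · -- `O_p(X) = 1`
    apply Cfsg.Agent.S1959.result S (indFam 𝓦 X) (indFam_isConjugacyFunctor h𝓦)
    intro T hTS hTne _
    apply fcsf_of_subgroup h𝓦
    apply IHsub
    intro htop
    apply hTne
    have hTn : T.Normal := Subgroup.normalizer_eq_top_iff.mp htop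
    have := Cfsg.Agent.Lib.Helper6.le_pCore hTn (hSp.to_le hTS)
    rw [hQ] at this
    exact le_bot_iff.mp this
  by_cases hA : (S : Subgroup X) ⊓ Subgroup.centralizer ((pCore p X : Subgroup X) : Set X) ≤ pCore p X
  · -- `X / O_{p'}(X)` is `p`-constrained
    have h1 := hcon (X ⧸ pPrimeCore p X) (hsec.quotient _) (centralizer_pCore_quotient_le S hA)
    exact fcsf_top_of_quotient_pprime (pPrimeCore p X) h𝓦 (Cfsg.Agent.Lib.Helper6.pPrimeCore_coprime p) h1
  -- the remaining case
  apply fcsf_top_of_reach S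
  intro A g hAS hgA
  apply reach_of_goldFam S ?_ A g hAS hgA
  by_cases hG1 : (S : Subgroup X) ⊔ Subgroup.centralizer ((pCore p X : Subgroup X) : Set X) = ⊤
  · -- quotient by `O_p(X)`
    have hSne : (S : Subgroup X) ≠ ⊤ := by
      intro htop
      apply hA
      have hSn : (S : Subgroup X).Normal := by rw [htop]; infer_instance
      have := Cfsg.Agent.Lib.Helper6.le_pCore hSn hSp
      exact inf_le_left.trans this
    have hSbne : (S : Subgroup X).map (QuotientGroup.mk' (pCore p X)) ≠ ⊥ := by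
      intro hbot
      apply hA
      have : (S : Subgroup X) ≤ pCore p X := by
        intro s hs
        have h1 : QuotientGroup.mk' (pCore p X) s ∈ (S : Subgroup X).map (QuotientGroup.mk' (pCore p X)) :=
          ⟨s, hs, rfl⟩
        rw [hbot, Subgroup.mem_bot] at h1
        exact (QuotientGroup.eq_one_iff s).mp h1
      exact inf_le_left.trans this
    have hcore : pCore p (X ⧸ pCore p X) = ⊥ := by
      rw [Cfsg.Agent.Lib.Helper6.pCore_quotient_of_isPGroup (pCore p X) hQp]
      rw [Subgroup.map_eq_bot_iff, QuotientGroup.ker_mk']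
    apply reach_of_quotient_pCore h𝓦 S hG1 (IHsub _ hSne) (IHquot _ hQ)
    intro W hW
    apply IHsub
    intro htop
    have hconj := isConjugacyFunctor_inducedFunctor (X := X ⧸ pCore p X) (h𝓦 W hW)
    have hSbp : IsPGroup p ((S : Subgroup X).map (QuotientGroup.mk' (pCore p X))) := hSp.map _
    obtain ⟨hle, hne, _⟩ := hconj _ hSbp
    apply hne hSbne
    have hnorm : (inducedFunctor W ((S : Subgroup X).map (QuotientGroup.mk' (pCore p X)))).Normal := by
      apply Subgroup.normalizer_eq_top_iff.mp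
      rw [eq_top_iff]
      intro yb _
      obtain ⟨y, rfl⟩ := QuotientGroup.mk'_surjective (pCore p X) yb
      have : y ∈ (Subgroup.normalizer ((inducedFunctor W ((S : Subgroup X).map
          (QuotientGroup.mk' (pCore p X))) : Subgroup (X ⧸ pCore p X)) : Set (X ⧸ pCore p X))).comap
          (QuotientGroup.mk' (pCore p X)) := by rw [htop]; exact Subgroup.mem_top y
      exact Subgroup.mem_comap.mp this
    have := Cfsg.Agent.Lib.Helper6.le_pCore hnorm (hSbp.to_le hle)
    rw [hcore] at this
    exact le_bot_iff.mp this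
  · -- two proper overgroups
    apply reach_of_two_overgroups h𝓦 S (IHsub _ hG1)
    apply IHsub
    intro htop
    apply hA
    have hn : (pCore p X ⊔ ((S : Subgroup X) ⊓
        Subgroup.centralizer ((pCore p X : Subgroup X) : Set X)) : Subgroup X).Normal :=
      Subgroup.normalizer_eq_top_iff.mp htop
    have hpg : IsPGroup p (pCore p X ⊔ ((S : Subgroup X) ⊓
        Subgroup.centralizer ((pCore p X : Subgroup X) : Set X)) : Subgroup X) :=
      hSp.to_le (sup_le hQS inf_le_left)
    exact le_sup_right.trans (Cfsg.Agent.Lib.Helper6.le_pCore hn hpg)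

/-- if the induced functors control strong fusion in every `p`-constrained section of `G`, they control
strong fusion in every section of `G` -/
theorem fcsf_of_sections [Finite G] (h𝓦 : ∀ W ∈ 𝓦, IsCharPFunctor.{u} p W)
    (hloc : ∀ (K R : Subgroup G) [hR : (R.subgroupOf K).Normal],
      Subgroup.centralizer ((pCore p (↥K ⧸ R.subgroupOf K) : Subgroup (↥K ⧸ R.subgroupOf K)) :
        Set (↥K ⧸ R.subgroupOf K)) ≤ pCore p (↥K ⧸ R.subgroupOf K) →
      FamilyControlsStrongFusionIn p (indFam 𝓦 (↥K ⧸ R.subgroupOf K)) ⊤)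
    (X : Type u) [Group X] [Finite X] (hX : IsSectionOf G X) :
    FamilyControlsStrongFusionIn p (indFam 𝓦 X) ⊤ := by
  apply fcsf_of_sections_aux h𝓦 ?_ _ X rfl hX
  intro Y _ _ hY hc
  obtain ⟨K, R, hR, ⟨e⟩⟩ := hY.exists_equiv
  have h1 := hloc K R (centralizer_pCore_le_of_mulEquiv e hc)
  exact fcsf_top_of_mulEquiv h𝓦 e.symm h1

end Cfsg.Agent.Lib.Helper4
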