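import Mathlib
import Cfsg.Prelude.Def_ConjugacyFunctors
import Cfsg.Agent.Lib.Helper4.FusionControl

set_option autoImplicit false
open Pointwise
open scoped commutatorElement

namespace Cfsg.Agent.Lib.Helper4

open Cfsg Cfsg.Agent.Lib.Helper7

variable {G : Type*} [Group G]

/-- the focal subgroup theorem, in the form used for control of transfer -/
theorem focal_le [Finite G] {p : ℕ} [Fact p.Prime] (S : Sylow p G) (D : Subgroup G)
    (hD : ∀ a ∈ (S : Subgroup G), ∀ u : G, u * a * u⁻¹ ∈ (S : Subgroup G) → a⁻¹ * (u * a * u⁻¹) ∈ D) :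
    (S : Subgroup G) ⊓ ⁅(⊤ : Subgroup G), ⊤⁆ ≤ D := by
  have h1 : (S : Subgroup G) ⊓ ⁅(⊤ : Subgroup G), ⊤⁆ = (S : Subgroup G).focalSubgroup := by
    rw [inf_comm, ← commutator_def]
    exact Subgroup.commutator_inf_eq_focalSubgroup S
  rw [h1, Subgroup.focalSubgroup_def, Subgroup.closure_le]
  rintro g ⟨hgS, x, hxS, u, rfl⟩
  have h2 : u * x⁻¹ * u⁻¹ ∈ (S : Subgroup G) := by
    have : u * x⁻¹ * u⁻¹ = x⁻¹ * ⁅x, u⁆ := by rw [commutatorElement_def]; group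
    rw [this]
    exact Subgroup.mul_mem _ (Subgroup.inv_mem _ hxS) hgS
  have h3 := hD x⁻¹ (Subgroup.inv_mem _ hxS) u h2
  have e : x⁻¹⁻¹ * (u * x⁻¹ * u⁻¹) = ⁅x, u⁆ := by rw [commutatorElement_def]; group
  rw [e] at h3
  exact h3

theorem cj_commutator (g : G) (H K : Subgroup G) : cj g ⁅H, K⁆ = ⁅cj g H, cj g K⁆ :=
  Subgroup.map_commutator H K _

/-- the transfer control condition relative to a specified Sylow subgroup `R` of `H` -/
def CTWith (W : Subgroup G → Subgroup G) (H R : Subgroup G) : Prop :=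
  R ⊓ ⁅H, H⁆ = R ⊓ ⁅H ⊓ Subgroup.normalizer ((W R : Subgroup G) : Set G),
    H ⊓ Subgroup.normalizer ((W R : Subgroup G) : Set G)⁆

theorem ctWith_of_controls [Finite G] {p : ℕ} [Fact p.Prime] {W : Subgroup G → Subgroup G}
    (hW : IsConjugacyFunctor p W) {H : Subgroup G} (hc : ControlsTransferIn p W H)
    {R : Subgroup G} (hR : R ≤ H) (hRp : IsPGroup p R) (hRi : ¬ p ∣ R.relIndex H) :
    CTWith W H R := by
  obtain ⟨T, hT, hTp, hTi, hctl⟩ := hc
  obtain ⟨y, hyH, hy⟩ := sylow_conj_rel hT hTp hTi hR hRp hRi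
  have hH : cj y H = H := cj_eq_self_of_mem hyH
  have hWR : W R = cj y (W T) := by rw [← hy]; exact (hW T hTp).2.2 y
  have h1 := congrArg (cj y) hctl
  rw [cj_inf, cj_inf, cj_commutator, cj_commutator, cj_inf, hH, hy, ← normalizer_cj, ← hWR] at h1
  exact h1

theorem fctWith_of_controls [Finite G] {p : ℕ} [Fact p.Prime] {𝓦 : Set (Subgroup G → Subgroup G)}
    (h𝓦 : ∀ W ∈ 𝓦, IsConjugacyFunctor p W) {H : Subgroup G} (hc : FamilyControlsTransferIn p 𝓦 H)
    {R : Subgroup G} (hR : R ≤ H) (hRp : IsPGroup p R) (hRi : ¬ p ∣ R.relIndex H) :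
    R ⊓ ⁅H, H⁆ = ⨆ W ∈ 𝓦, R ⊓ ⁅H ⊓ Subgroup.normalizer ((W R : Subgroup G) : Set G),
      H ⊓ Subgroup.normalizer ((W R : Subgroup G) : Set G)⁆ := by
  obtain ⟨T, hT, hTp, hTi, hctl⟩ := hc
  obtain ⟨y, hyH, hy⟩ := sylow_conj_rel hT hTp hTi hR hRp hRi
  have hH : cj y H = H := cj_eq_self_of_mem hyH
  have h1 := congrArg (cj y) hctl
  rw [cj_inf, cj_commutator, hH, hy] at h1
  rw [h1]
  unfold cj
  rw [Subgroup.map_iSup]
  apply iSup_congr
  intro W
  rw [Subgroup.map_iSup]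
  apply iSup_congr
  intro hW
  have hWR : W R = cj y (W T) := by rw [← hy]; exact (h𝓦 W hW T hTp).2.2 y
  change cj y (T ⊓ ⁅H ⊓ Subgroup.normalizer ((W T : Subgroup G) : Set G),
      H ⊓ Subgroup.normalizer ((W T : Subgroup G) : Set G)⁆) = _
  rw [cj_inf, cj_commutator, cj_inf, hH, hy, ← normalizer_cj, ← hWR]

end Cfsg.Agent.Lib.Helper4
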