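import Mathlib
import Cfsg.Agent.Lib.Helper4.Sect6
import Cfsg.Agent.Lib.Helper4.TransferControl
import Cfsg.Agent.Lib.Lead.PGroupChief

set_option autoImplicit false
open Pointwise
open scoped commutatorElement

/-! Control of transfer in all sections and the existence of normal subgroups of index `p`. -/

namespace Cfsg.Agent.Lib.Helper4

open Cfsg Cfsg.Agent.Lib.Helper7 Cfsg.Agent.Lib.Lead

universe u

section
variable {p : ℕ} {W : ∀ (Q : Type u) [Group Q], Subgroup Q}
variable {X Y : Type u} [Group X] [Group Y]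

/-- control of transfer in the whole group is invariant under isomorphisms -/
theorem ct_top_of_mulEquiv (hW : IsCharPFunctor.{u} p W) [Finite X] (e : X ≃* Y)
    (h : ControlsTransferIn p (inducedFunctor (G := X) W) ⊤) :
    ControlsTransferIn p (inducedFunctor (G := Y) W) ⊤ := by
  obtain ⟨T, hT, hTp, hTi, hctl⟩ := h
  have hinj : Function.Injective e.toMonoidHom := e.injective
  have hsurj : Function.Surjective e.toMonoidHom := e.surjective
  refine ⟨T.map e.toMonoidHom, le_top, ?_, ?_, ?_⟩
  · exact hTp.map _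
  · rw [Subgroup.relIndex_top_right] at hTi ⊢
    rwa [Subgroup.index_map_of_bijective e.bijective]
  · have hWT : inducedFunctor (G := Y) W (T.map e.toMonoidHom)
        = (inducedFunctor (G := X) W T).map e.toMonoidHom :=
      inducedFunctor_map hW e.toMonoidHom T hTp (fun x _ hx => by
        have : e x = e 1 := by rw [map_one]; exact hx
        exact e.injective this)
    have hN : Subgroup.normalizer
        ((inducedFunctor (G := Y) W (T.map e.toMonoidHom) : Subgroup Y) : Set Y)
        = (Subgroup.normalizer ((inducedFunctor (G := X) W T : Subgroup X) : Set X)).map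
            e.toMonoidHom := by
      rw [hWT]
      exact (Subgroup.map_equiv_normalizer_eq _ e).symm
    have htop : (⊤ : Subgroup Y) = (⊤ : Subgroup X).map e.toMonoidHom := by
      rw [← MonoidHom.range_eq_map]; exact (MonoidHom.range_eq_top.mpr hsurj).symm
    rw [hN, htop, ← Subgroup.map_inf _ _ _ hinj, ← Subgroup.map_commutator,
      ← Subgroup.map_commutator, ← Subgroup.map_inf _ _ _ hinj, ← Subgroup.map_inf _ _ _ hinj,
      hctl]

end

section
variable {G : Type*} [Group G]

/-- the decomposition of an element into its `p'`-part and its `p`-part -/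
theorem exists_pprime_mul_ppart [Finite G] (p : ℕ) [hp : Fact p.Prime] (g : G) :
    ∃ c s : G, c ∈ Subgroup.zpowers g ∧ s ∈ Subgroup.zpowers g ∧ g = c * s ∧
      (orderOf c).Coprime p ∧ ∃ k : ℕ, s ^ (p ^ k) = 1 := by
  have hn0 : orderOf g ≠ 0 := (orderOf_pos g).ne'
  obtain ⟨k, m, hm, hn⟩ := Nat.exists_eq_pow_mul_and_not_dvd hn0 p hp.out.ne_one
  have hcop : Nat.Coprime (p ^ k) m :=
    Nat.Coprime.pow_left k ((Nat.Prime.coprime_iff_not_dvd hp.out).mpr hm)
  have hbez := Int.gcd_eq_gcd_ab ((p ^ k : ℕ) : ℤ) (m : ℤ)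
  have hg1 : Int.gcd ((p ^ k : ℕ) : ℤ) (m : ℤ) = 1 := by
    rw [Int.gcd_natCast_natCast]; exact hcop
  rw [hg1] at hbez
  set A := Int.gcdA ((p ^ k : ℕ) : ℤ) (m : ℤ)
  set B := Int.gcdB ((p ^ k : ℕ) : ℤ) (m : ℤ)
  refine ⟨g ^ (((p ^ k : ℕ) : ℤ) * A), g ^ ((m : ℤ) * B), ⟨_, rfl⟩, ⟨_, rfl⟩, ?_, ?_, k, ?_⟩
  · rw [← zpow_add, ← hbez]; simp
  · have h1 : (g ^ (((p ^ k : ℕ) : ℤ) * A)) ^ m = 1 := by
      rw [← zpow_natCast, ← zpow_mul]
      have : ((p ^ k : ℕ) : ℤ) * A * (m : ℤ) = ((orderOf g : ℕ) : ℤ) * A := by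
        rw [hn]; push_cast; ring
      rw [this, zpow_mul, zpow_natCast, pow_orderOf_eq_one, one_zpow]
    have h2 := orderOf_dvd_of_pow_eq_one h1
    exact Nat.Coprime.coprime_dvd_left h2
      ((Nat.Prime.coprime_iff_not_dvd hp.out).mpr hm).symm
  · rw [← zpow_natCast, ← zpow_mul]
    have : (m : ℤ) * B * ((p ^ k : ℕ) : ℤ) = ((orderOf g : ℕ) : ℤ) * B := by
      rw [hn]; push_cast; ring
    rw [this, zpow_mul, zpow_natCast, pow_orderOf_eq_one, one_zpow]

end

section
variable {G : Type*} [Group G]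

/-- a finite nontrivial `p`-group has a normal subgroup of index `p` -/
theorem exists_normal_index_p_of_isPGroup [Finite G] {p : ℕ} [hp : Fact p.Prime] (hG : IsPGroup p G)
    [Nontrivial G] : ∃ N : Subgroup G, N.Normal ∧ N.index = p := by
  obtain ⟨n, hn⟩ := IsPGroup.iff_card.mp hG
  have hn0 : n ≠ 0 := by
    rintro rfl
    rw [pow_zero] at hn
    have := Finite.one_lt_card (α := G)
    omega
  obtain ⟨a, rfl⟩ := Nat.exists_eq_succ_of_ne_zero hn0
  obtain ⟨B, hBn, -, hB⟩ := exists_normal_index_p_below hG (⊤ : Subgroup G) a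
    (by rw [Subgroup.card_top]; exact hn)
  refine ⟨B, hBn, ?_⟩
  have h1 := B.card_mul_index
  rw [hB, hn, pow_succ] at h1
  exact Nat.eq_of_mul_eq_mul_left (pow_pos hp.out.pos a) h1

/-- a finite commutative group of order divisible by `p` has a subgroup of index `p` -/
theorem exists_index_p_of_comm {A : Type*} [CommGroup A] [Finite A] {p : ℕ} [hp : Fact p.Prime]
    (x : A) (hx1 : x ≠ 1) (k : ℕ) (hx : x ^ (p ^ k) = 1) : ∃ N : Subgroup A, N.index = p := by
  have hn0 : Nat.card A ≠ 0 := Nat.card_pos.ne'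
  obtain ⟨j, m, hm, hn⟩ := Nat.exists_eq_pow_mul_and_not_dvd hn0 p hp.out.ne_one
  have hmp : m.Coprime p := ((Nat.Prime.coprime_iff_not_dvd hp.out).mpr hm).symm
  let φ : A →* A := powMonoidHom m
  have hR : IsPGroup p ↥φ.range := by
    rintro ⟨y, a, rfl⟩
    refine ⟨j, ?_⟩
    apply Subtype.ext
    show (φ a) ^ (p ^ j) = 1
    show (a ^ m) ^ (p ^ j) = 1
    rw [← pow_mul, mul_comm, ← hn, pow_card_eq_one']
  have hxm : x ^ m ≠ 1 := by
    intro h
    have h1 := orderOf_dvd_of_pow_eq_one h
    have h2 := orderOf_dvd_of_pow_eq_one hx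
    have h3 : orderOf x ∣ Nat.gcd m (p ^ k) := Nat.dvd_gcd h1 h2
    rw [Nat.Coprime.pow_right k hmp, Nat.dvd_one, orderOf_eq_one_iff] at h3
    exact hx1 h3
  have : Nontrivial ↥φ.range := by
    refine ⟨⟨⟨x ^ m, x, rfl⟩, 1, ?_⟩⟩
    intro h
    exact hxm (congrArg Subtype.val h)
  obtain ⟨B, -, hB⟩ := exists_normal_index_p_of_isPGroup hR
  refine ⟨B.comap φ.rangeRestrict, ?_⟩
  rw [Subgroup.index_comap_of_surjective _ φ.rangeRestrict_surjective, hB]

/-- if a Sylow `p`-subgroup is not contained in the derived subgroup then there is a normal subgroup of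
index `p` -/
theorem exists_normal_index_p_of_not_le_commutator [Finite G] {p : ℕ} [hp : Fact p.Prime]
    (S : Sylow p G) (h : ¬ (S : Subgroup G) ≤ commutator G) :
    ∃ N : Subgroup G, N.Normal ∧ N.index = p := by
  obtain ⟨s, hsS, hs⟩ := SetLike.not_le_iff_exists.mp h
  obtain ⟨k, hk⟩ := (IsPGroup.iff_orderOf.mp S.2) ⟨s, hsS⟩
  have hsk : s ^ (p ^ k) = 1 := by
    have := pow_orderOf_eq_one (⟨s, hsS⟩ : ↥(S : Subgroup G))
    rw [hk] at this
    exact congrArg Subtype.val this
  let π : G →* Abelianization G := Abelianization.of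
  have hπ : Function.Surjective π := QuotientGroup.mk'_surjective _
  have h1 : π s ≠ 1 := by
    intro h1
    apply hs
    exact (QuotientGroup.eq_one_iff s).mp h1
  have h2 : (π s) ^ (p ^ k) = 1 := by rw [← map_pow, hsk, map_one]
  obtain ⟨N, hN⟩ := exists_index_p_of_comm (π s) h1 k h2
  refine ⟨N.comap π, inferInstance, ?_⟩
  rw [Subgroup.index_comap_of_surjective _ hπ, hN]

end

section
variable {G : Type*} [Group G]

/-- a `p`-element lies in a normal Sylow `p`-subgroup -/
theorem mem_sylow_of_normal_of_pow [Finite G] {p : ℕ} [hp : Fact p.Prime] (S : Sylow p G)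
    (hSn : (S : Subgroup G).Normal) (s : G) (k : ℕ) (hs : s ^ (p ^ k) = 1) :
    s ∈ (S : Subgroup G) := by
  have h1 : IsPGroup p ↥(Subgroup.zpowers s) := by
    rw [IsPGroup.iff_card]
    have h2 := orderOf_dvd_of_pow_eq_one hs
    obtain ⟨j, -, hj⟩ := (Nat.dvd_prime_pow hp.out).mp h2
    exact ⟨j, by rw [Nat.card_zpowers, hj]⟩
  obtain ⟨Q, hQ⟩ := h1.exists_le_sylow
  obtain ⟨g, hg⟩ := MulAction.exists_smul_eq G S Q
  have h3 : g • S = S := Sylow.smul_eq_of_normal
  rw [h3] at hg
  rw [hg]
  exact hQ (Subgroup.mem_zpowers s)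

/-- if the Sylow `p`-subgroup `S` is normal and nontrivial and the `p'`-elements centralize it, then `S` is not
contained in the derived subgroup -/
theorem not_le_commutator_of_normal_sylow [Finite G] {p : ℕ} [hp : Fact p.Prime] (S : Sylow p G)
    (hSn : (S : Subgroup G).Normal) (hS : (S : Subgroup G) ≠ ⊥)
    (hN : ∀ g : G, (orderOf g).Coprime p → g ∈ Subgroup.centralizer ((S : Subgroup G) : Set G)) :
    ¬ (S : Subgroup G) ≤ commutator G := by
  intro hle
  have h1 : (S : Subgroup G) ⊓ ⁅(⊤ : Subgroup G), ⊤⁆ ≤ ⁅(S : Subgroup G), (S : Subgroup G)⁆ := by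
    apply focal_le
    intro a ha u _
    obtain ⟨c, s, _, _, hu, hc, k, hs⟩ := exists_pprime_mul_ppart p u
    have hcC := hN c hc
    have hsS := mem_sylow_of_normal_of_pow S hSn s k hs
    have h2 : s * a * s⁻¹ ∈ (S : Subgroup G) :=
      Subgroup.mul_mem _ (Subgroup.mul_mem _ hsS ha) (Subgroup.inv_mem _ hsS)
    have h3 := (Subgroup.mem_centralizer_iff.mp hcC) _ h2
    have h4 : u * a * u⁻¹ = s * a * s⁻¹ := by
      rw [hu]
      have : c * s * a * (c * s)⁻¹ = c * (s * a * s⁻¹) * c⁻¹ := by group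
      rw [this, ← h3]; group
    rw [h4]
    have h5 : a⁻¹ * (s * a * s⁻¹) = ⁅a⁻¹, s⁆ := by rw [commutatorElement_def]; group
    rw [h5]
    exact Subgroup.commutator_mem_commutator (Subgroup.inv_mem _ ha) hsS
  have h6 : (S : Subgroup G) ≤ ⁅(S : Subgroup G), (S : Subgroup G)⁆ := by
    refine le_trans (le_inf le_rfl ?_) h1
    rw [← commutator_def]; exact hle
  haveI : Nontrivial ↥(S : Subgroup G) := (Subgroup.nontrivial_iff_ne_bot _).mpr hS
  haveI : Group.IsNilpotent ↥(S : Subgroup G) := S.2.isNilpotent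
  have h7 : commutator ↥(S : Subgroup G) < ⊤ := Group.IsSolvable.commutator_lt_top_of_nontrivial _
  have h8 : ⁅(S : Subgroup G), (S : Subgroup G)⁆
      = (commutator ↥(S : Subgroup G)).map (S : Subgroup G).subtype := by
    rw [commutator_def, Subgroup.map_commutator, ← MonoidHom.range_eq_map, Subgroup.range_subtype]
  rw [h8] at h6
  apply h7.ne
  rw [eq_top_iff]
  intro x _
  obtain ⟨y, hy, hyx⟩ := h6 x.2
  have : y = x := Subtype.ext hyx
  rwa [← this]

end

section
variable {p : ℕ} [hp : Fact p.Prime] {W : ∀ (Q : Type u) [Group Q], Subgroup Q}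

theorem commutator_subgroup_eq_map {X : Type*} [Group X] (N : Subgroup X) :
    ⁅N, N⁆ = (commutator ↥N).map N.subtype := by
  rw [commutator_def, Subgroup.map_commutator, ← MonoidHom.range_eq_map, Subgroup.range_subtype]

theorem sylow_not_le_commutator_of_sections {G : Type u} [Group G]
    (hW : IsCharPFunctor.{u} p W)
    (hctl : ∀ (Y : Type u) [Group Y] [Finite Y], IsSectionOf G Y →
      ControlsTransferIn p (inducedFunctor (G := Y) W) ⊤) :
    ∀ (n : ℕ) (X : Type u) [Group X] [Finite X], Nat.card X = n → IsSectionOf G X →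
      ∀ S : Sylow p X, (S : Subgroup X) ≠ ⊥ →
        (∀ g ∈ Subgroup.normalizer ((S : Subgroup X) : Set X), (orderOf g).Coprime p →
          g ∈ Subgroup.centralizer ((S : Subgroup X) : Set X)) →
        ¬ (S : Subgroup X) ≤ commutator X := by
  intro n
  induction n using Nat.strong_induction_on with
  | _ n ih =>
  intro X _ _ hcard hsec S hS hN hle
  have hWc : IsConjugacyFunctor p (inducedFunctor (G := X) W) := isConjugacyFunctor_inducedFunctor hW
  have hidx : ¬ p ∣ (S : Subgroup X).relIndex ⊤ := by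
    rw [Subgroup.relIndex_top_right]; exact S.not_dvd_index
  have hct := ctWith_of_controls hWc (hctl X hsec) (le_top : (S : Subgroup X) ≤ ⊤) S.2 hidx
  unfold CTWith at hct
  obtain ⟨Z, hZdef⟩ : ∃ Z, Z = inducedFunctor (G := X) W (S : Subgroup X) := ⟨_, rfl⟩
  rw [← hZdef] at hct
  have hZS : Z ≤ (S : Subgroup X) := by rw [hZdef]; exact inducedFunctor_le _
  have hZne : Z ≠ ⊥ := by rw [hZdef]; exact (hWc _ S.2).2.1 hS
  have hSN : (S : Subgroup X) ≤ Subgroup.normalizer (Z : Set X) := by
    rw [hZdef]; exact le_normalizer_functor hWc S.2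
  rw [top_inf_eq] at hct
  have hS1 : (S : Subgroup X) ≤ ⁅Subgroup.normalizer (Z : Set X), Subgroup.normalizer (Z : Set X)⁆ := by
    have h1 : (S : Subgroup X) ≤ (S : Subgroup X) ⊓ ⁅(⊤ : Subgroup X), ⊤⁆ := by
      refine le_inf le_rfl ?_
      rw [← commutator_def]; exact hle
    rw [hct] at h1
    exact le_trans h1 inf_le_right
  by_cases hNtop : Subgroup.normalizer (Z : Set X) = ⊤
  · -- `Z` is normal
    have hZn : Z.Normal := Subgroup.normalizer_eq_top_iff.mp hNtop
    have hπ : Function.Surjective (QuotientGroup.mk' Z) := QuotientGroup.mk'_surjective Z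
    by_cases hSZ : (S : Subgroup X) ≤ Z
    · -- `S = Z` is normal
      have hSeq : (S : Subgroup X) = Z := le_antisymm hSZ hZS
      have hSn : (S : Subgroup X).Normal := by rw [hSeq]; exact hZn
      have hNS : Subgroup.normalizer ((S : Subgroup X) : Set X) = ⊤ :=
        Subgroup.normalizer_eq_top_iff.mpr hSn
      refine not_le_commutator_of_normal_sylow S hSn hS ?_ hle
      intro g hg
      exact hN g (by rw [hNS]; exact Subgroup.mem_top g) hg
    · -- pass to the quotient by `Z`
      have hlt : Nat.card (X ⧸ Z) < n := by rw [← hcard]; exact card_quotient_lt_of_ne_bot hZne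
      have hSb : ((S.mapSurjective hπ : Sylow p (X ⧸ Z)) : Subgroup (X ⧸ Z))
          = (S : Subgroup X).map (QuotientGroup.mk' Z) := Sylow.coe_mapSurjective hπ S
      have hSbne : ((S.mapSurjective hπ : Sylow p (X ⧸ Z)) : Subgroup (X ⧸ Z)) ≠ ⊥ := by
        rw [hSb]
        intro h
        rw [Subgroup.map_eq_bot_iff, QuotientGroup.ker_mk'] at h
        exact hSZ h
      refine ih _ hlt (X ⧸ Z) rfl (hsec.quotient Z) (S.mapSurjective hπ) hSbne ?_ ?_
      · rw [hSb]
        have key : ∀ gb ∈ Subgroup.normalizer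
            (((S : Subgroup X).map (QuotientGroup.mk' Z) : Subgroup (X ⧸ Z)) : Set (X ⧸ Z)),
            ∀ g : X, QuotientGroup.mk' Z g = gb → ∀ x ∈ (S : Subgroup X),
              g * x * g⁻¹ ∈ (S : Subgroup X) := by
          intro gb hgb g hg x hx
          have h1 := (Subgroup.mem_normalizer_iff.mp hgb (QuotientGroup.mk' Z x)).mp
            (Subgroup.mem_map_of_mem _ hx)
          obtain ⟨s, hs, hs2⟩ := h1
          rw [← hg, ← map_inv, ← map_mul, ← map_mul] at hs2
          have h2 : s⁻¹ * (g * x * g⁻¹) ∈ Z := by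
            rw [← QuotientGroup.ker_mk' Z, MonoidHom.mem_ker, map_mul, map_inv, hs2]
            exact inv_mul_cancel _
          have h3 : g * x * g⁻¹ = s * (s⁻¹ * (g * x * g⁻¹)) := by group
          rw [h3]
          exact Subgroup.mul_mem _ hs (hZS h2)
        intro gb hgb hgbo
        obtain ⟨g, rfl⟩ := hπ gb
        have hgN : g ∈ Subgroup.normalizer ((S : Subgroup X) : Set X) := by
          rw [Subgroup.mem_normalizer_iff]
          intro x
          refine ⟨key _ hgb g rfl x, ?_⟩
          intro hx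
          have h1 := key _ (Subgroup.inv_mem _ hgb) g⁻¹ (map_inv _ g) _ hx
          have h2 : g⁻¹ * (g * x * g⁻¹) * g⁻¹⁻¹ = x := by group
          rwa [h2] at h1
        obtain ⟨c, s, hc, hs, hgcs, hco, k, hsk⟩ := exists_pprime_mul_ppart p g
        have hcN : c ∈ Subgroup.normalizer ((S : Subgroup X) : Set X) :=
          (Subgroup.zpowers_le.mpr hgN) hc
        have hcC := hN c hcN hco
        have hs1 : QuotientGroup.mk' Z s = 1 := by
          obtain ⟨j, rfl⟩ := hs
          have h1 : orderOf (QuotientGroup.mk' Z (g ^ j)) ∣ orderOf (QuotientGroup.mk' Z g) := by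
            rw [map_zpow]; exact orderOf_dvd_of_mem_zpowers ⟨j, rfl⟩
          have h2 : orderOf (QuotientGroup.mk' Z (g ^ j)) ∣ p ^ k := by
            apply orderOf_dvd_of_pow_eq_one
            rw [← map_pow, hsk, map_one]
          have h3 : orderOf (QuotientGroup.mk' Z (g ^ j)) ∣ Nat.gcd (orderOf (QuotientGroup.mk' Z g)) (p ^ k) :=
            Nat.dvd_gcd h1 h2
          rw [Nat.Coprime.pow_right k hgbo, Nat.dvd_one, orderOf_eq_one_iff] at h3
          exact h3
        have hgc : QuotientGroup.mk' Z g = QuotientGroup.mk' Z c := by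
          rw [hgcs, map_mul, hs1, mul_one]
        rw [hgc, Subgroup.mem_centralizer_iff]
        rintro _ ⟨y, hy, rfl⟩
        rw [← map_mul, ← map_mul, (Subgroup.mem_centralizer_iff.mp hcC) y hy]
      · rw [hSb]
        refine le_trans (Subgroup.map_mono hle) ?_
        rw [commutator_def, Subgroup.map_commutator, commutator_def]
        exact Subgroup.commutator_mono le_top le_top
  · -- the normalizer of `Z` is proper
    obtain ⟨N, hNdef⟩ : ∃ N, N = Subgroup.normalizer (Z : Set X) := ⟨_, rfl⟩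
    rw [← hNdef] at hS1 hSN hNtop
    have hlt : Nat.card ↥N < n := by rw [← hcard]; exact card_subgroup_lt_of_ne_top hNtop
    have hS' : ((S.subtype hSN : Sylow p ↥N) : Subgroup ↥N) = (S : Subgroup X).subgroupOf N :=
      Sylow.coe_subtype _ hSN
    have hS'ne : ((S.subtype hSN : Sylow p ↥N) : Subgroup ↥N) ≠ ⊥ := by
      rw [hS']
      intro h
      rw [Subgroup.subgroupOf_eq_bot, disjoint_iff, inf_eq_left.mpr hSN] at h
      exact hS h
    refine ih _ hlt ↥N rfl (hsec.subgroup N) (S.subtype hSN) hS'ne ?_ ?_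
    · rw [hS']
      intro g hg hgo
      have hgN : (g : X) ∈ Subgroup.normalizer ((S : Subgroup X) : Set X) := by
        rw [Subgroup.mem_normalizer_iff]
        intro x
        constructor
        · intro hx
          have hxN : x ∈ N := hSN hx
          have h1 := (Subgroup.mem_normalizer_iff.mp hg ⟨x, hxN⟩).mp
            (Subgroup.mem_subgroupOf.mpr hx)
          exact Subgroup.mem_subgroupOf.mp h1
        · intro hx
          have hxN : x ∈ N := by
            have h1 : x = (g : X)⁻¹ * ((g : X) * x * (g : X)⁻¹) * (g : X) := by group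
            rw [h1]
            exact N.mul_mem (N.mul_mem (N.inv_mem g.2) (hSN hx)) g.2
          have h1 := (Subgroup.mem_normalizer_iff.mp hg ⟨x, hxN⟩).mpr
            (Subgroup.mem_subgroupOf.mpr hx)
          exact Subgroup.mem_subgroupOf.mp h1
      have hgo' : (orderOf (g : X)).Coprime p := by
        rw [Subgroup.orderOf_coe]; exact hgo
      have hC := hN _ hgN hgo'
      rw [Subgroup.mem_centralizer_iff]
      intro y hy
      apply Subtype.ext
      exact (Subgroup.mem_centralizer_iff.mp hC) (y : X) (Subgroup.mem_subgroupOf.mp hy)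
    · rw [hS']
      intro x hx
      have h1 := hS1 (Subgroup.mem_subgroupOf.mp hx)
      rw [commutator_subgroup_eq_map] at h1
      obtain ⟨y, hy, hyx⟩ := h1
      have : y = x := Subtype.ext hyx
      rwa [← this]

end

end Cfsg.Agent.Lib.Helper4
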