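import Mathlib
import Cfsg.Agent.Lib.Helper4.TransferSect1

set_option autoImplicit false
open Pointwise
open scoped commutatorElement

/-! Control of transfer in sections: the target subgroup and the reduction lemmas. -/

namespace Cfsg.Agent.Lib.Helper4

open Cfsg Cfsg.Agent.Lib.Helper7 Cfsg.Agent.Lib.Lead

universe u

section
variable {G : Type*} [Group G]

/-- evaluation of the transfer at an element of `H` all of whose conjugates in `H` have the same image -/
theorem transfer_eq_pow_of_mem {H : Subgroup G} {A : Type*} [CommGroup A] (φ : H →* A)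
    [H.FiniteIndex] (g : G) (hg : g ∈ H)
    (key : ∀ (k : ℕ) (g₀ : G) (hk : g₀⁻¹ * g ^ k * g₀ ∈ H),
      φ ⟨g₀⁻¹ * g ^ k * g₀, hk⟩ = φ (⟨g, hg⟩ ^ k)) :
    MonoidHom.transfer φ g = φ (⟨g, hg⟩ ^ H.index) := by
  classical
  let _ := H.fintypeQuotientOfFiniteIndex
  rw [MonoidHom.transfer_eq_prod_quotient_orbitRel_zpowers_quot]
  have h1 : ∀ q : Quotient (MulAction.orbitRel (Subgroup.zpowers g) (G ⧸ H)),
      φ ⟨q.out.out⁻¹ * g ^ Function.minimalPeriod (g • ·) q.out * q.out.out,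
        QuotientGroup.out_conj_pow_minimalPeriod_mem H g q.out⟩
      = φ (⟨g, hg⟩ ^ Function.minimalPeriod (g • ·) q.out) := fun q => key _ _ _
  rw [Finset.prod_congr rfl (fun q _ => h1 q)]
  simp only [map_pow]
  rw [Finset.prod_pow_eq_pow_sum, ← Subgroup.index_eq_sum_minimalPeriod]

/-- if `X = S C_X(Q)` for a normal `p`-subgroup `Q`, then `Q ∩ X' ≤ S'` -/
theorem inf_commutator_le_of_sup_centralizer [Finite G] {p : ℕ} [hp : Fact p.Prime] (S : Sylow p G)
    (Q : Subgroup G) [hQn : Q.Normal] (hQS : Q ≤ (S : Subgroup G))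
    (hSC : (S : Subgroup G) ⊔ Subgroup.centralizer (Q : Set G) = ⊤) :
    Q ⊓ commutator G ≤ ⁅(S : Subgroup G), (S : Subgroup G)⁆ := by
  rintro z ⟨hzQ, hzc⟩
  have hzS : z ∈ (S : Subgroup G) := hQS hzQ
  let φ : ↥(S : Subgroup G) →* Abelianization ↥(S : Subgroup G) := Abelianization.of
  have h1 : MonoidHom.transfer φ z = 1 :=
    (Abelianization.commutator_subset_ker (MonoidHom.transfer φ)) hzc
  have : (Subgroup.centralizer (Q : Set G)).Normal := Subgroup.normal_centralizer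
  have h2 := transfer_eq_pow_of_mem φ z hzS (by
    intro k g₀ hk
    have hg₀ : g₀ ∈ (S : Subgroup G) ⊔ Subgroup.centralizer (Q : Set G) := by
      rw [hSC]; exact Subgroup.mem_top _
    obtain ⟨s, hs, c, hc, rfl⟩ := Subgroup.mem_sup_of_normal_right.mp hg₀
    have hzk : s⁻¹ * z ^ k * s ∈ Q := by
      have := hQn.conj_mem _ (Q.pow_mem hzQ k) s⁻¹
      simpa using this
    have h3 := (Subgroup.mem_centralizer_iff.mp hc) _ hzk
    have h4 : (s * c)⁻¹ * z ^ k * (s * c) = s⁻¹ * z ^ k * s := by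
      calc (s * c)⁻¹ * z ^ k * (s * c) = c⁻¹ * ((s⁻¹ * z ^ k * s) * c) := by group
        _ = c⁻¹ * (c * (s⁻¹ * z ^ k * s)) := by rw [h3]
        _ = s⁻¹ * z ^ k * s := by group
    have h5 : (⟨(s * c)⁻¹ * z ^ k * (s * c), hk⟩ : ↥(S : Subgroup G))
        = (⟨s, hs⟩ : ↥(S : Subgroup G))⁻¹ * (⟨z, hzS⟩ : ↥(S : Subgroup G)) ^ k * ⟨s, hs⟩ := by
      apply Subtype.ext
      simp only [Subgroup.coe_mul, Subgroup.coe_inv, Subgroup.coe_pow]
      exact h4
    rw [h5, map_mul, map_mul, map_inv, mul_comm, ← mul_assoc, mul_inv_cancel, one_mul])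
  rw [h2] at h1
  have h6 : (⟨z, hzS⟩ : ↥(S : Subgroup G)) ^ (S : Subgroup G).index ∈ commutator ↥(S : Subgroup G) := by
    rw [← Abelianization.ker_of, MonoidHom.mem_ker]; exact h1
  have hcop : ((S : Subgroup G).index).Coprime (orderOf (⟨z, hzS⟩ : ↥(S : Subgroup G))) := by
    obtain ⟨j, hj⟩ := (IsPGroup.iff_orderOf.mp S.2) ⟨z, hzS⟩
    rw [hj]
    apply Nat.Coprime.pow_right
    exact ((Nat.Prime.coprime_iff_not_dvd hp.out).mpr S.not_dvd_index).symm
  obtain ⟨m, hm⟩ := exists_pow_eq_self_of_coprime hcop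
  have h7 : (⟨z, hzS⟩ : ↥(S : Subgroup G)) ∈ commutator ↥(S : Subgroup G) := by
    rw [← hm]; exact Subgroup.pow_mem _ h6 m
  rw [commutator_subgroup_eq_map]
  exact ⟨⟨z, hzS⟩, h7, rfl⟩

end

section
variable {𝓦 : Set (∀ (Q : Type u) [Group Q], Subgroup Q)}
variable {X Y : Type u} [Group X] [Group Y]

/-- the target of transfer control: the subgroup generated by the `S ∩ N_X(W(S))'`, `W ∈ 𝓦` -/
def tcTarget (𝓦 : Set (∀ (Q : Type u) [Group Q], Subgroup Q)) (S : Subgroup X) : Subgroup X :=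
  ⨆ W ∈ 𝓦, S ⊓ ⁅Subgroup.normalizer ((inducedFunctor (G := X) W S : Subgroup X) : Set X),
    Subgroup.normalizer ((inducedFunctor (G := X) W S : Subgroup X) : Set X)⁆

theorem tcTarget_le (S : Subgroup X) : tcTarget 𝓦 S ≤ S :=
  iSup₂_le fun _ _ => inf_le_left

theorem tcTarget_le_commutator (S : Subgroup X) : tcTarget 𝓦 S ≤ commutator X :=
  iSup₂_le fun _ _ => inf_le_right.trans (by
    rw [commutator_def]; exact Subgroup.commutator_mono le_top le_top)

theorem le_tcTarget {W : ∀ (Q : Type u) [Group Q], Subgroup Q} (hW : W ∈ 𝓦) (S : Subgroup X) :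
    S ⊓ ⁅Subgroup.normalizer ((inducedFunctor (G := X) W S : Subgroup X) : Set X),
      Subgroup.normalizer ((inducedFunctor (G := X) W S : Subgroup X) : Set X)⁆ ≤ tcTarget 𝓦 S :=
  le_iSup₂ (f := fun W (_ : W ∈ 𝓦) => S ⊓
    ⁅Subgroup.normalizer ((inducedFunctor (G := X) W S : Subgroup X) : Set X),
      Subgroup.normalizer ((inducedFunctor (G := X) W S : Subgroup X) : Set X)⁆) W hW

variable {p : ℕ}

/-- monotonicity of the target under injective homomorphisms -/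
theorem tcTarget_map_le (h𝓦 : ∀ W ∈ 𝓦, IsCharPFunctor.{u} p W) [Finite X] (f : X →* Y)
    (hf : Function.Injective f) (S : Subgroup X) (hS : IsPGroup p S) :
    (tcTarget 𝓦 S).map f ≤ tcTarget 𝓦 (S.map f) := by
  unfold tcTarget
  rw [Subgroup.map_iSup]
  apply iSup_le
  intro W
  rw [Subgroup.map_iSup]
  apply iSup_le
  intro hW
  refine le_trans ?_ (le_tcTarget hW (S.map f))
  have hWS : inducedFunctor (G := Y) W (S.map f) = (inducedFunctor (G := X) W S).map f :=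
    inducedFunctor_map (h𝓦 W hW) f S hS (fun x _ hx => by
      have : f x = f 1 := by rw [map_one]; exact hx
      exact hf this)
  have hN : (Subgroup.normalizer ((inducedFunctor (G := X) W S : Subgroup X) : Set X)).map f ≤
      Subgroup.normalizer ((inducedFunctor (G := Y) W (S.map f) : Subgroup Y) : Set Y) := by
    rw [hWS]; exact Subgroup.le_normalizer_map f
  apply le_inf (Subgroup.map_mono inf_le_left)
  refine (Subgroup.map_mono inf_le_right).trans ?_
  rw [Subgroup.map_commutator]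
  exact Subgroup.commutator_mono hN hN

/-- transfer control in a subgroup containing `S` -/
theorem tc_of_overgroup (h𝓦 : ∀ W ∈ 𝓦, IsCharPFunctor.{u} p W) [Finite X] (S : Sylow p X)
    (H : Subgroup X) (hSH : (S : Subgroup X) ≤ H)
    (h : ∀ T : Sylow p ↥H, (T : Subgroup ↥H) ⊓ commutator ↥H ≤ tcTarget 𝓦 (T : Subgroup ↥H)) :
    (S : Subgroup X) ⊓ ⁅H, H⁆ ≤ tcTarget 𝓦 (S : Subgroup X) := by
  have h1 := h (S.subtype hSH)
  rw [Sylow.coe_subtype] at h1
  have h2 : ((S : Subgroup X).subgroupOf H).map H.subtype = (S : Subgroup X) :=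
    Subgroup.map_subgroupOf_eq_of_le hSH
  have h3 := tcTarget_map_le h𝓦 H.subtype H.subtype_injective ((S : Subgroup X).subgroupOf H)
    (S.2.comap_of_injective H.subtype H.subtype_injective)
  rw [h2] at h3
  rintro z ⟨hzS, hzH⟩
  rw [commutator_subgroup_eq_map] at hzH
  obtain ⟨y, hy, rfl⟩ := hzH
  apply h3
  exact ⟨y, h1 ⟨Subgroup.mem_subgroupOf.mpr hzS, hy⟩, rfl⟩

end

section
variable {N : Type*} [Group N]

/-- a `p`-element congruent to a `p'`-element modulo a normal subgroup lies in it -/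
theorem mem_of_mul_mem_of_coprime {p : ℕ} (H : Subgroup N) [H.Normal] {s k : N} (j : ℕ)
    (hs : s ^ (p ^ j) = 1) (hk : (orderOf k).Coprime p) (hsk : s * k ∈ H) : s ∈ H := by
  have h1 : QuotientGroup.mk' H s = (QuotientGroup.mk' H k)⁻¹ := by
    rw [eq_inv_iff_mul_eq_one, ← map_mul]
    exact (QuotientGroup.eq_one_iff _).mpr hsk
  have h2 : orderOf (QuotientGroup.mk' H s) ∣ p ^ j := by
    apply orderOf_dvd_of_pow_eq_one
    rw [← map_pow, hs, map_one]
  have h3 : orderOf (QuotientGroup.mk' H s) ∣ orderOf k := by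
    rw [h1, orderOf_inv]
    exact orderOf_map_dvd _ k
  have h4 : orderOf (QuotientGroup.mk' H s) ∣ Nat.gcd (orderOf k) (p ^ j) := Nat.dvd_gcd h3 h2
  rw [Nat.Coprime.pow_right j hk, Nat.dvd_one, orderOf_eq_one_iff] at h4
  exact (QuotientGroup.eq_one_iff _).mp h4

end

section
variable {𝓦 : Set (∀ (Q : Type u) [Group Q], Subgroup Q)}
variable {X : Type u} [Group X] [Finite X] {p : ℕ} [hp : Fact p.Prime]

/-- the target modulo a normal `p'`-subgroup is the image of the target -/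
theorem tcTarget_quotient_pprime_le (h𝓦 : ∀ W ∈ 𝓦, IsCharPFunctor.{u} p W) (K : Subgroup X)
    [hKn : K.Normal] (hK : (Nat.card K).Coprime p) (S : Sylow p X) :
    tcTarget 𝓦 ((S : Subgroup X).map (QuotientGroup.mk' K)) ≤
      (tcTarget 𝓦 (S : Subgroup X)).map (QuotientGroup.mk' K) := by
  apply iSup₂_le
  intro W hW
  refine le_trans ?_ (Subgroup.map_mono (le_tcTarget hW (S : Subgroup X)))
  have hSK : (S : Subgroup X) ⊓ K = ⊥ := Cfsg.Agent.Lib.Helper6.isPGroup_inf_coprime_eq_bot hK S.2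
  have hWc := isConjugacyFunctor_inducedFunctor (X := X) (h𝓦 W hW)
  obtain ⟨V, hVdef⟩ : ∃ V, V = inducedFunctor (G := X) W (S : Subgroup X) := ⟨_, rfl⟩
  have hWS : inducedFunctor (G := X ⧸ K) W ((S : Subgroup X).map (QuotientGroup.mk' K))
      = V.map (QuotientGroup.mk' K) := by
    rw [hVdef]
    apply inducedFunctor_map (h𝓦 W hW) _ _ S.2
    intro x hx hx1
    have : x ∈ (S : Subgroup X) ⊓ K := ⟨hx, (QuotientGroup.eq_one_iff x).mp hx1⟩
    rw [hSK] at this
    exact Subgroup.mem_bot.mp this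
  rw [hWS, ← hVdef]
  have hVS : V ≤ (S : Subgroup X) := by rw [hVdef]; exact inducedFunctor_le _
  have hVp : IsPGroup p V := S.2.to_le hVS
  have hSN : (S : Subgroup X) ≤ Subgroup.normalizer (V : Set X) := by
    rw [hVdef]; exact le_normalizer_functor hWc S.2
  have hN : Subgroup.normalizer ((V.map (QuotientGroup.mk' K) : Subgroup (X ⧸ K)) : Set (X ⧸ K)) ≤
      (Subgroup.normalizer (V : Set X)).map (QuotientGroup.mk' K) := by
    intro yb hyb
    obtain ⟨y, rfl⟩ := QuotientGroup.mk'_surjective K yb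
    have h1 : y ∈ (Subgroup.normalizer ((V.map (QuotientGroup.mk' K) : Subgroup (X ⧸ K)) :
        Set (X ⧸ K))).comap (QuotientGroup.mk' K) := hyb
    have h2 := Subgroup.le_normalizer_comap (QuotientGroup.mk' K) h1
    rw [Subgroup.comap_map_eq, QuotientGroup.ker_mk'] at h2
    obtain ⟨k, hk, n, hn, rfl⟩ := frattini_pprime hVp hK h2
    refine ⟨n, hn, ?_⟩
    rw [map_mul, mk'_eq_one_of_mem K hk, one_mul]
  obtain ⟨M, hMdef⟩ : ∃ M, M = Subgroup.normalizer (V : Set X) := ⟨_, rfl⟩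
  rw [← hMdef] at hN hSN ⊢
  rintro yb ⟨hybS, hybN⟩
  have h3 := Subgroup.commutator_mono hN hN hybN
  rw [← Subgroup.map_commutator] at h3
  obtain ⟨y, hy, rfl⟩ := h3
  obtain ⟨s, hs, hsy⟩ := hybS
  refine ⟨s, ⟨hs, ?_⟩, hsy⟩
  -- `s ∈ M'`
  have hyM : y ∈ M := Subgroup.commutator_le_self M hy
  have hsM : s ∈ M := hSN hs
  have hk : s⁻¹ * y ∈ K := by
    rw [← QuotientGroup.ker_mk' K, MonoidHom.mem_ker, map_mul, map_inv, hsy]
    exact inv_mul_cancel _
  obtain ⟨j, hj⟩ := (IsPGroup.iff_orderOf.mp S.2) ⟨s, hs⟩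
  have hsj : s ^ (p ^ j) = 1 := by
    have := pow_orderOf_eq_one (⟨s, hs⟩ : ↥(S : Subgroup X))
    rw [hj] at this
    exact congrArg Subtype.val this
  have hko : (orderOf (s⁻¹ * y)).Coprime p :=
    Nat.Coprime.coprime_dvd_left (Subgroup.orderOf_dvd_natCard K hk) hK
  have h4 : (⟨s, hsM⟩ : ↥M) ∈ commutator ↥M := by
    apply mem_of_mul_mem_of_coprime (p := p) (commutator ↥M) (k := ⟨s⁻¹ * y, M.mul_mem (M.inv_mem hsM) hyM⟩) j
    · apply Subtype.ext
      simp only [Subgroup.coe_pow, Subgroup.coe_one]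
      exact hsj
    · rw [← Subgroup.orderOf_coe]
      exact hko
    · have e : (⟨s, hsM⟩ : ↥M) * ⟨s⁻¹ * y, M.mul_mem (M.inv_mem hsM) hyM⟩ = ⟨y, hyM⟩ := by
        apply Subtype.ext
        simp only [Subgroup.coe_mul]
        group
      rw [e]
      rw [commutator_subgroup_eq_map] at hy
      obtain ⟨y', hy', hyy⟩ := hy
      have : y' = ⟨y, hyM⟩ := Subtype.ext hyy
      rwa [← this]
  rw [commutator_subgroup_eq_map]
  exact ⟨⟨s, hsM⟩, h4, rfl⟩

/-- pulling back membership in the target through a normal `p'`-subgroup -/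
theorem mem_tcTarget_of_quotient_pprime (h𝓦 : ∀ W ∈ 𝓦, IsCharPFunctor.{u} p W) (K : Subgroup X)
    [hKn : K.Normal] (hK : (Nat.card K).Coprime p) (S : Sylow p X) {s : X}
    (hs : s ∈ (S : Subgroup X))
    (h : QuotientGroup.mk' K s ∈ tcTarget 𝓦 ((S : Subgroup X).map (QuotientGroup.mk' K))) :
    s ∈ tcTarget 𝓦 (S : Subgroup X) := by
  obtain ⟨f, hf, hfs⟩ := tcTarget_quotient_pprime_le h𝓦 K hK S h
  have hSK : (S : Subgroup X) ⊓ K = ⊥ := Cfsg.Agent.Lib.Helper6.isPGroup_inf_coprime_eq_bot hK S.2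
  have h1 : f⁻¹ * s ∈ (S : Subgroup X) ⊓ K := by
    refine ⟨Subgroup.mul_mem _ (Subgroup.inv_mem _ (tcTarget_le _ hf)) hs, ?_⟩
    show f⁻¹ * s ∈ K
    rw [← QuotientGroup.ker_mk' K, MonoidHom.mem_ker, map_mul, map_inv, hfs]
    exact inv_mul_cancel _
  rw [hSK, Subgroup.mem_bot] at h1
  have : s = f := by
    have := congrArg (fun t => f * t) h1
    simpa using this
  rw [this]; exact hf

end

section
variable {𝓦 : Set (∀ (Q : Type u) [Group Q], Subgroup Q)}
variable {X : Type u} [Group X] [Finite X] {p : ℕ} [hp : Fact p.Prime]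

omit [Finite X] hp in
/-- the quotient by a normal `p`-subgroup `Q`: `S ∩ X'` is contained in the target times `Q ∩ X'` -/
theorem tc_quotient_step (S : Sylow p X) (Q : Subgroup X) [hQn : Q.Normal]
    (hQS : Q ≤ (S : Subgroup X))
    (h1 : (S : Subgroup X).map (QuotientGroup.mk' Q) ⊓ commutator (X ⧸ Q) ≤
      tcTarget 𝓦 ((S : Subgroup X).map (QuotientGroup.mk' Q)))
    (h2 : ∀ W ∈ 𝓦, (S : Subgroup X) ⊓
      ⁅(Subgroup.normalizer ((inducedFunctor (G := X ⧸ Q) W ((S : Subgroup X).map (QuotientGroup.mk' Q)) :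
          Subgroup (X ⧸ Q)) : Set (X ⧸ Q))).comap (QuotientGroup.mk' Q),
        (Subgroup.normalizer ((inducedFunctor (G := X ⧸ Q) W ((S : Subgroup X).map (QuotientGroup.mk' Q)) :
          Subgroup (X ⧸ Q)) : Set (X ⧸ Q))).comap (QuotientGroup.mk' Q)⁆ ≤ tcTarget 𝓦 (S : Subgroup X)) :
    (S : Subgroup X) ⊓ commutator X ≤ tcTarget 𝓦 (S : Subgroup X) ⊔ (Q ⊓ commutator X) := by
  have hπ : Function.Surjective (QuotientGroup.mk' Q) := QuotientGroup.mk'_surjective Q
  have h3 : tcTarget 𝓦 ((S : Subgroup X).map (QuotientGroup.mk' Q)) ≤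
      (tcTarget 𝓦 (S : Subgroup X)).map (QuotientGroup.mk' Q) := by
    apply iSup₂_le
    intro W hW
    refine le_trans ?_ (Subgroup.map_mono (h2 W hW))
    obtain ⟨Nb, hNbdef⟩ : ∃ Nb, Nb = Subgroup.normalizer ((inducedFunctor (G := X ⧸ Q) W
      ((S : Subgroup X).map (QuotientGroup.mk' Q)) : Subgroup (X ⧸ Q)) : Set (X ⧸ Q)) := ⟨_, rfl⟩
    rw [← hNbdef]
    have h4 : (Nb.comap (QuotientGroup.mk' Q)).map (QuotientGroup.mk' Q) = Nb :=
      Subgroup.map_comap_eq_self_of_surjective hπ Nb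
    rintro yb ⟨hybS, hybN⟩
    rw [← h4, ← Subgroup.map_commutator] at hybN
    obtain ⟨y, hy, rfl⟩ := hybN
    obtain ⟨s, hs, hsy⟩ := hybS
    have hk : s⁻¹ * y ∈ Q := by
      rw [← QuotientGroup.ker_mk' Q, MonoidHom.mem_ker, map_mul, map_inv, hsy]
      exact inv_mul_cancel _
    have hyS : y ∈ (S : Subgroup X) := by
      have : y = s * (s⁻¹ * y) := by group
      rw [this]
      exact Subgroup.mul_mem _ hs (hQS hk)
    exact ⟨y, ⟨hyS, hy⟩, rfl⟩
  rintro z ⟨hzS, hzc⟩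
  have h5 : QuotientGroup.mk' Q z ∈ (S : Subgroup X).map (QuotientGroup.mk' Q) ⊓ commutator (X ⧸ Q) := by
    refine ⟨⟨z, hzS, rfl⟩, ?_⟩
    have : (commutator X).map (QuotientGroup.mk' Q) ≤ commutator (X ⧸ Q) := by
      rw [commutator_def, Subgroup.map_commutator, commutator_def]
      exact Subgroup.commutator_mono le_top le_top
    exact this ⟨z, hzc, rfl⟩
  obtain ⟨f, hf, hfz⟩ := h3 (h1 h5)
  have hk : f⁻¹ * z ∈ Q := by
    rw [← QuotientGroup.ker_mk' Q, MonoidHom.mem_ker, map_mul, map_inv, hfz]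
    exact inv_mul_cancel _
  have hk2 : f⁻¹ * z ∈ commutator X :=
    Subgroup.mul_mem _ (Subgroup.inv_mem _ (tcTarget_le_commutator _ hf)) hzc
  have : z = f * (f⁻¹ * z) := by group
  rw [this]
  exact Subgroup.mul_mem _ (Subgroup.mem_sup_left hf) (Subgroup.mem_sup_right ⟨hk, hk2⟩)

/-- the focal subgroup via the Alperin–Goldschmidt conjugation family -/
theorem focal_goldFam (S : Sylow p X) (D : Subgroup X)
    (h : ∀ T ∈ GoldFam S, ∀ x ∈ Subgroup.normalizer (T : Set X), ∀ a ∈ T,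
      a⁻¹ * (x * a * x⁻¹) ∈ D) :
    (S : Subgroup X) ⊓ ⁅(⊤ : Subgroup X), ⊤⁆ ≤ D := by
  have hvia : ∀ (A : Set X) (g : X), Via (GoldFam S) A g → ∀ a ∈ A, a⁻¹ * (g⁻¹ * a * g) ∈ D := by
    intro A g hv
    induction hv with
    | nil A =>
      intro a _
      simp
    | cons A T x g hT hx hA _ ih =>
      intro a ha
      have h1 := h T hT x⁻¹ (Subgroup.inv_mem _ hx) a (hA ha)
      rw [inv_inv] at h1
      have h2 := ih (x⁻¹ * a * x) ⟨a, ha, rfl⟩
      have e : a⁻¹ * ((x * g)⁻¹ * a * (x * g))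
          = (a⁻¹ * (x⁻¹ * a * x)) * ((x⁻¹ * a * x)⁻¹ * (g⁻¹ * (x⁻¹ * a * x) * g)) := by group
      rw [e]
      exact D.mul_mem h1 h2
  apply focal_le S
  intro a ha u hu
  have hA : ({a} : Set X) ⊆ (S : Subgroup X) := by
    intro x hx
    rw [Set.mem_singleton_iff.mp hx]; exact ha
  have hAg : cs u⁻¹ ({a} : Set X) ⊆ (S : Subgroup X) := by
    rintro _ ⟨x, hx, rfl⟩
    rw [Set.mem_singleton_iff.mp hx, inv_inv]
    exact hu
  obtain ⟨c, g', hc, hg, hv⟩ := alperin_goldschmidt_set S {a} u⁻¹ hA hAg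
  have h1 := hvia _ _ hv a rfl
  have h2 : c * a = a * c := ((Subgroup.mem_centralizer_iff.mp hc) a rfl).symm
  have h3 : u * a * u⁻¹ = g'⁻¹ * a * g' := by
    have hu' : u = g'⁻¹ * c⁻¹ := by
      have := congrArg (fun t => t⁻¹) hg
      simpa using this
    rw [hu']
    calc g'⁻¹ * c⁻¹ * a * (g'⁻¹ * c⁻¹)⁻¹ = g'⁻¹ * (c⁻¹ * (a * c)) * g' := by group
      _ = g'⁻¹ * (c⁻¹ * (c * a)) * g' := by rw [h2]
      _ = g'⁻¹ * a * g' := by group
  rw [h3]
  exact h1

end

end Cfsg.Agent.Lib.Helper4
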