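import Mathlib
import Cfsg.Prelude
import Cfsg.Agent.Lib.Helper4.TransferSect2
import Cfsg.Agent.Lib.Lead.Frattini

set_option autoImplicit false
open scoped commutatorElement

/-! General lemmas for the structure of a minimal failure of transfer control: evaluation of the transfer at an
element of a normal subgroup, products over orbits of a `p`-group, the norm lemma, chief factors. -/

namespace Cfsg.Agent.Lib.Helper4

open Cfsg Cfsg.Agent.Lib.Helper7 Cfsg.Agent.Lib.Lead

universe u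

section
variable {G : Type*} [Group G]

open Subgroup in
/-- the transfer evaluated at an element all of whose conjugates lie in `H` (so that it fixes every coset) -/
theorem transfer_eq_prod_of_fixes {H : Subgroup G} [H.FiniteIndex] {A : Type*} [CommGroup A]
    (φ : H →* A) (z : G) (hz : ∀ t : G, t⁻¹ * z * t ∈ H) :
    letI := H.fintypeQuotientOfFiniteIndex
    MonoidHom.transfer φ z = ∏ q : G ⧸ H, φ ⟨q.out⁻¹ * z * q.out, hz _⟩ := by
  classical
  letI := H.fintypeQuotientOfFiniteIndex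
  have hout : ∀ q : G ⧸ H, ((Quotient.out q : G) : G ⧸ H) = q := fun q => Quotient.out_eq' q
  let T₀ : H.LeftTransversal := ⟨Set.range Quotient.out, isComplement_range_left hout⟩
  have hT₀ : ∀ q : G ⧸ H, (T₀.2.leftQuotientEquiv q : G) = q.out :=
    fun q => IsComplement.leftQuotientEquiv_apply hout q
  have hfix : ∀ q : G ⧸ H, z⁻¹ • q = q := by
    intro q
    induction q using QuotientGroup.induction_on with
    | H t =>
      show ((z⁻¹ * t : G) : G ⧸ H) = (t : G ⧸ H)
      rw [QuotientGroup.eq]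
      have : (z⁻¹ * t)⁻¹ * t = t⁻¹ * z * t := by group
      rw [this]; exact hz t
  rw [MonoidHom.transfer_def φ T₀ z]
  unfold leftTransversals.diff
  apply Finset.prod_congr rfl
  intro q _
  congr 1
  apply Subtype.ext
  show (T₀.2.leftQuotientEquiv q : G)⁻¹ * ((z • T₀).2.leftQuotientEquiv q : G) = q.out⁻¹ * z * q.out
  rw [smul_apply_eq_smul_apply_inv_smul, hfix q, hT₀ q, smul_eq_mul, mul_assoc]

end

section
variable {P : Type*} [Group P]

/-- in a finite `p`-group every proper subgroup lies in a normal subgroup of index `p` -/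
theorem exists_normal_index_p_above [Finite P] {p : ℕ} [hp : Fact p.Prime] (hP : IsPGroup p P)
    (D : Subgroup P) (hD : D ≠ ⊤) : ∃ D' : Subgroup P, D'.Normal ∧ D ≤ D' ∧ D'.index = p := by
  obtain h | ⟨C, hC, hDC⟩ := IsCoatomic.eq_top_or_exists_le_coatom D
  · exact absurd h hD
  have : Group.IsNilpotent P := hP.isNilpotent
  have hCn : C.Normal := Subgroup.NormalizerCondition.normal_of_coatom C Group.normalizerCondition_of_isNilpotent hC
  refine ⟨C, hCn, hDC, ?_⟩
  have hQp : IsPGroup p (P ⧸ C) := hP.to_quotient C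
  have : Nontrivial (P ⧸ C) := by
    rw [← Finite.one_lt_card_iff_nontrivial]
    have h1 : C.index ≠ 1 := fun h => hC.1 (Subgroup.index_eq_one.mp h)
    have h2 : C.index ≠ 0 := Subgroup.index_ne_zero_of_finite
    rw [← Subgroup.index_eq_card]
    omega
  obtain ⟨n, hn0, hn⟩ : ∃ n : ℕ, n ≠ 0 ∧ Nat.card (P ⧸ C) = p ^ n := by
    obtain ⟨n, hn⟩ := IsPGroup.iff_card.mp hQp
    refine ⟨n, ?_, hn⟩
    rintro rfl
    have := Finite.one_lt_card (α := P ⧸ C)
    rw [hn] at this; simp at this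
  -- a subgroup of index p in the quotient
  obtain ⟨N, hN⟩ : ∃ N : Subgroup (P ⧸ C), N.index = p := by
    obtain ⟨m, rfl⟩ := Nat.exists_eq_succ_of_ne_zero hn0
    obtain ⟨N, hN⟩ := Sylow.exists_subgroup_card_pow_prime (G := P ⧸ C) p (n := m)
      (by rw [hn]; exact pow_dvd_pow p (Nat.le_succ m))
    refine ⟨N, ?_⟩
    have h1 := N.card_mul_index
    rw [hN, hn, pow_succ] at h1
    exact Nat.eq_of_mul_eq_mul_left (pow_pos hp.out.pos m) h1
  have h1 : (N.comap (QuotientGroup.mk' C)).index = p := by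
    rw [Subgroup.index_comap_of_surjective _ (QuotientGroup.mk'_surjective C), hN]
  have h2 : C ≤ N.comap (QuotientGroup.mk' C) := by
    intro c hc
    rw [Subgroup.mem_comap]
    have : QuotientGroup.mk' C c = 1 := (QuotientGroup.eq_one_iff c).mpr hc
    rw [this]; exact N.one_mem
  have h3 : N.comap (QuotientGroup.mk' C) ≠ ⊤ := by
    intro h
    rw [h, Subgroup.index_top] at h1
    exact hp.out.one_lt.ne h1
  have h4 : C = N.comap (QuotientGroup.mk' C) := by
    by_contra hne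
    exact h3 (hC.2 _ (lt_of_le_of_ne h2 hne))
  rw [h4]; exact h1

/-- the product over the cosets of a proper subgroup of a `p`-group of a function whose products over the
`⟨u⟩`-strings of length `p` are trivial, for `u` in a generating set -/
theorem prod_quotient_eq_one [Finite P] {p : ℕ} [hp : Fact p.Prime] (hP : IsPGroup p P)
    (D : Subgroup P) (hD : D ≠ ⊤) {A : Type*} [CommGroup A] (h : P ⧸ D → A) (𝒰 : Set P)
    (hgen : Subgroup.closure 𝒰 = ⊤)
    (hh : ∀ u ∈ 𝒰, ∀ q : P ⧸ D, ∏ j ∈ Finset.range p, h (u ^ j • q) = 1) [Fintype (P ⧸ D)] :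
    ∏ q : P ⧸ D, h q = 1 := by
  classical
  obtain ⟨D', hD'n, hDD', hD'idx⟩ := exists_normal_index_p_above hP D hD
  obtain ⟨u, hu𝒰, huD'⟩ : ∃ u ∈ 𝒰, u ∉ D' := by
    by_contra hcon
    push Not at hcon
    have h1 : Subgroup.closure 𝒰 ≤ D' := (Subgroup.closure_le _).mpr hcon
    rw [hgen, top_le_iff] at h1
    rw [h1, Subgroup.index_top] at hD'idx
    exact hp.out.one_lt.ne hD'idx
  letI : Fintype (P ⧸ D') := Fintype.ofFinite _
  have hcard : Nat.card (P ⧸ D') = p := by rw [← Subgroup.index_eq_card]; exact hD'idx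
  have hu1 : (QuotientGroup.mk' D' u) ≠ 1 := by
    intro h1
    exact huD' ((QuotientGroup.eq_one_iff u).mp h1)
  have hord : orderOf (QuotientGroup.mk' D' u) = p := by
    have h1 : orderOf (QuotientGroup.mk' D' u) ∣ p := by
      rw [← hcard]; exact orderOf_dvd_natCard _
    rcases (Nat.dvd_prime hp.out).mp h1 with h2 | h2
    · exact absurd (orderOf_eq_one_iff.mp h2) hu1
    · exact h2
  let π : P ⧸ D → P ⧸ D' := Subgroup.quotientMapOfLE hDD'
  have hπ : ∀ (g : P) (q : P ⧸ D), π (g • q) = g • π q := by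
    intro g q
    induction q using QuotientGroup.induction_on with
    | H t => rfl
  rw [← Finset.prod_fiberwise Finset.univ π h]
  -- the cosets of `D'` are the `u ^ j D'`
  have hinj : Set.InjOn (fun j : ℕ => ((u ^ j : P) : P ⧸ D')) (Finset.range p : Set ℕ) := by
    intro i hi j hj hij
    have h1 := pow_injOn_Iio_orderOf (x := QuotientGroup.mk' D' u)
    rw [hord] at h1
    apply h1 (by simpa using hi) (by simpa using hj)
    show (QuotientGroup.mk' D' u) ^ i = (QuotientGroup.mk' D' u) ^ j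
    rw [← map_pow, ← map_pow]
    exact hij
  have himg : (Finset.univ : Finset (P ⧸ D')) =
      (Finset.range p).image (fun j : ℕ => ((u ^ j : P) : P ⧸ D')) := by
    symm
    apply Finset.eq_univ_of_card
    rw [Finset.card_image_of_injOn hinj, Finset.card_range, ← Nat.card_eq_fintype_card, hcard]
  rw [himg, Finset.prod_image hinj]
  have hfib : ∀ j : ℕ, (Finset.univ.filter (fun q : P ⧸ D => π q = ((u ^ j : P) : P ⧸ D')))
      = (Finset.univ.filter (fun q : P ⧸ D => π q = ((1 : P) : P ⧸ D'))).image (fun q => u ^ j • q) := by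
    intro j
    ext q
    simp only [Finset.mem_filter, Finset.mem_univ, true_and, Finset.mem_image]
    constructor
    · intro hq
      refine ⟨(u ^ j)⁻¹ • q, ?_, by rw [smul_inv_smul]⟩
      rw [hπ, hq]
      show (((u ^ j)⁻¹ * u ^ j : P) : P ⧸ D') = _
      rw [inv_mul_cancel]
    · rintro ⟨q', hq', rfl⟩
      rw [hπ, hq']
      show (((u ^ j) * 1 : P) : P ⧸ D') = _
      rw [mul_one]
  have hsm : ∀ j : ℕ, Set.InjOn (fun q : P ⧸ D => u ^ j • q)
      (Finset.univ.filter (fun q : P ⧸ D => π q = ((1 : P) : P ⧸ D')) : Set (P ⧸ D)) := by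
    intro j a _ b _ hab
    exact MulAction.injective (u ^ j) hab
  have h2 : ∀ j ∈ Finset.range p, ∏ q ∈ Finset.univ.filter (fun q : P ⧸ D => π q = ((u ^ j : P) : P ⧸ D')), h q
      = ∏ q ∈ Finset.univ.filter (fun q : P ⧸ D => π q = ((1 : P) : P ⧸ D')), h (u ^ j • q) := by
    intro j _
    rw [hfib j, Finset.prod_image (hsm j)]
  rw [Finset.prod_congr rfl h2, Finset.prod_comm]
  apply Finset.prod_eq_one
  intro q _
  exact hh u hu𝒰 q

/-- a `p`-group `P` generated by `𝒰` acts on a finite set; if `f` is trivial at the fixed points and has trivial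
products over the `⟨u⟩`-strings of length `p`, `u ∈ 𝒰`, then the product of all values of `f` is trivial -/
theorem prod_eq_one_of_pgroup_action [Finite P] {p : ℕ} [hp : Fact p.Prime] (hP : IsPGroup p P)
    {Ω : Type*} [MulAction P Ω] [Fintype Ω] {A : Type*} [CommGroup A] (f : Ω → A) (𝒰 : Set P)
    (hgen : Subgroup.closure 𝒰 = ⊤)
    (hf : ∀ u ∈ 𝒰, ∀ ω : Ω, ∏ j ∈ Finset.range p, f (u ^ j • ω) = 1)
    (hfix : ∀ ω : Ω, (∀ u ∈ 𝒰, u • ω = ω) → f ω = 1) : ∏ ω : Ω, f ω = 1 := by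
  classical
  have key : ∀ n : ℕ, ∀ Ω' : Finset Ω, Ω'.card = n → (∀ (g : P), ∀ ω ∈ Ω', g • ω ∈ Ω') →
      ∏ ω ∈ Ω', f ω = 1 := by
    intro n
    induction n using Nat.strong_induction_on with
    | _ n ih =>
    intro Ω' hn hst
    rcases Finset.eq_empty_or_nonempty Ω' with rfl | ⟨ω₀, hω₀⟩
    · simp
    obtain ⟨O, hOdef⟩ : ∃ O : Finset Ω, O = Finset.univ.filter (fun ω => ω ∈ MulAction.orbit P ω₀) :=
      ⟨_, rfl⟩
    have hmemO : ∀ ω, ω ∈ O ↔ ω ∈ MulAction.orbit P ω₀ := by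
      intro ω; rw [hOdef]; simp
    have hOsub : O ⊆ Ω' := by
      intro ω hω
      obtain ⟨g, rfl⟩ := (hmemO ω).mp hω
      exact hst g ω₀ hω₀
    have hω₀O : ω₀ ∈ O := (hmemO ω₀).mpr (MulAction.mem_orbit_self ω₀)
    rw [← Finset.prod_sdiff hOsub]
    have h1 : ∏ ω ∈ Ω' \ O, f ω = 1 := by
      apply ih (Ω' \ O).card _ _ rfl
      · intro g ω hω
        rw [Finset.mem_sdiff] at hω ⊢
        refine ⟨hst g ω hω.1, ?_⟩
        intro hgO
        apply hω.2
        rw [hmemO] at hgO ⊢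
        have : ω = g⁻¹ • (g • ω) := by rw [inv_smul_smul]
        rw [this]
        exact MulAction.mem_orbit_of_mem_orbit g⁻¹ hgO
      · rw [← hn]
        apply Finset.card_lt_card
        refine ⟨Finset.sdiff_subset, ?_⟩
        intro hsub
        have := hsub hω₀
        rw [Finset.mem_sdiff] at this
        exact this.2 hω₀O
    rw [h1, one_mul]
    rw [Finset.prod_subtype O hmemO f]
    letI : Fintype (P ⧸ MulAction.stabilizer P ω₀) := Fintype.ofFinite _
    have h2 : ∏ x : ↥(MulAction.orbit P ω₀), f x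
        = ∏ q : P ⧸ MulAction.stabilizer P ω₀, f (MulAction.ofQuotientStabilizer P ω₀ q) := by
      symm
      apply Fintype.prod_equiv (MulAction.orbitEquivQuotientStabilizer P ω₀).symm
      intro q
      induction q using QuotientGroup.induction_on with
      | H g =>
        rw [MulAction.orbitEquivQuotientStabilizer_symm_apply]
        rfl
    rw [h2]
    by_cases hD : MulAction.stabilizer P ω₀ = ⊤
    · apply Finset.prod_eq_one
      intro q _
      induction q using QuotientGroup.induction_on with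
      | H g =>
        have hg : ∀ g : P, g • ω₀ = ω₀ := by
          intro g
          have : g ∈ MulAction.stabilizer P ω₀ := by rw [hD]; exact Subgroup.mem_top g
          exact MulAction.mem_stabilizer_iff.mp this
        show f (g • ω₀) = 1
        rw [hg g]
        exact hfix ω₀ (fun u _ => hg u)
    · apply prod_quotient_eq_one hP _ hD _ 𝒰 hgen
      intro u hu q
      have : ∀ j : ℕ, MulAction.ofQuotientStabilizer P ω₀ (u ^ j • q)
          = u ^ j • MulAction.ofQuotientStabilizer P ω₀ q := fun j =>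
        MulAction.ofQuotientStabilizer_smul P ω₀ (u ^ j) q
      simp only [this]
      exact hf u hu _
  have := key _ Finset.univ rfl (fun g ω _ => Finset.mem_univ _)
  exact this

/-- the same with the `p`-group given as the subgroup generated by a subset of an acting group -/
theorem prod_eq_one_of_pgroup_action' {X : Type*} [Group X] {p : ℕ} [hp : Fact p.Prime]
    {Ω : Type*} [MulAction X Ω] [Fintype Ω] {A : Type*} [CommGroup A] (f : Ω → A) (𝒰 : Set X)
    [Finite ↥(Subgroup.closure 𝒰)] (hP : IsPGroup p ↥(Subgroup.closure 𝒰))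
    (hf : ∀ u ∈ 𝒰, ∀ ω : Ω, ∏ j ∈ Finset.range p, f (u ^ j • ω) = 1)
    (hfix : ∀ ω : Ω, (∀ u ∈ 𝒰, u • ω = ω) → f ω = 1) : ∏ ω : Ω, f ω = 1 := by
  apply prod_eq_one_of_pgroup_action hP f (((↑) : ↥(Subgroup.closure 𝒰) → X) ⁻¹' 𝒰)
    Subgroup.closure_closure_coe_preimage
  · intro u hu ω
    have := hf (u : X) hu ω
    simpa [Subgroup.smul_def] using this
  · intro ω h
    apply hfix
    intro u hu
    exact h ⟨u, Subgroup.subset_closure hu⟩ hu

end

/-- in characteristic `p`, `1 + T + ⋯ + T ^ (p - 1) = (T - 1) ^ (p - 1)` -/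
theorem geom_sum_eq_sub_one_pow {p : ℕ} [hp : Fact p.Prime] {R : Type*} [Ring R] [Algebra (ZMod p) R]
    (T : R) : ∑ j ∈ Finset.range p, T ^ j = (T - 1) ^ (p - 1) := by
  have hpoly : ∑ j ∈ Finset.range p, (Polynomial.X : Polynomial (ZMod p)) ^ j
      = (Polynomial.X - 1) ^ (p - 1) := by
    have hne : (Polynomial.X - 1 : Polynomial (ZMod p)) ≠ 0 := by
      have := Polynomial.X_sub_C_ne_zero (1 : ZMod p)
      simpa using this
    apply mul_left_cancel₀ hne
    rw [mul_geom_sum, ← pow_succ', Nat.sub_add_cancel hp.out.one_le, sub_pow_char, one_pow]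
  have := congrArg (Polynomial.aeval T) hpoly
  simpa using this

/-- the norm lemma: if `u` acts on the elementary abelian section `X₁ / Y₁` with `[X₁, u; p - 1] ≤ Y₁`, then
the product of `p` successive `u`-conjugates of an element of `X₁` lies in `Y₁`; stated through a homomorphism
into a commutative group which is trivial on `Y₁` -/
theorem prod_conj_eq_one {X : Type*} [Group X] {p : ℕ} [hp : Fact p.Prime] (X₁ Y₁ : Subgroup X)
    [hX₁ : X₁.Normal] [hY₁ : Y₁.Normal]
    (hpow : ∀ x ∈ X₁, x ^ p ∈ Y₁) (u : X) (hE : iterCommutator X₁ (Subgroup.zpowers u) (p - 1) ≤ Y₁)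
    {A : Type*} [CommGroup A] (θ : ↥X₁ →* A) (hθ : ∀ y : ↥X₁, (y : X) ∈ Y₁ → θ y = 1) (z : ↥X₁) :
    ∏ j ∈ Finset.range p, θ (((MulAut.conjNormal u⁻¹ : MulAut ↥X₁) ^ j) z) = 1 := by
  classical
  obtain ⟨τ, hτdef⟩ : ∃ τ : MulAut ↥X₁, τ = MulAut.conjNormal u⁻¹ := ⟨_, rfl⟩
  rw [← hτdef]
  let θ' : ↥X₁ →* ↥θ.range := θ.rangeRestrict
  have hθ' : ∀ y : ↥X₁, (y : X) ∈ Y₁ → θ' y = 1 := by
    intro y hy
    apply Subtype.ext
    exact hθ y hy
  have hexp : ∀ b : Additive ↥θ.range, p • b = 0 := by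
    intro b
    obtain ⟨x, hx⟩ := θ.rangeRestrict_surjective (Additive.toMul b)
    have h1 : θ' (x ^ p) = 1 := hθ' _ (by
      rw [Subgroup.coe_pow]; exact hpow _ x.2)
    rw [map_pow] at h1
    have h2 : (Additive.toMul b) ^ p = 1 := by rw [← hx]; exact h1
    have h3 : Additive.toMul (p • b) = 1 := by rw [toMul_nsmul]; exact h2
    exact Additive.toMul.injective h3
  letI : Module (ZMod p) (Additive ↥θ.range) := AddCommGroup.zmodModule hexp
  let E : Module.End (ZMod p) (ℕ → Additive ↥θ.range) :=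
    LinearMap.funLeft (ZMod p) (Additive ↥θ.range) Nat.succ
  have hE_apply : ∀ (m : ℕ → Additive ↥θ.range) (i : ℕ), E m i = m (i + 1) := fun m i => rfl
  have hτpow : ∀ (i : ℕ) (y : ↥X₁), (((τ ^ i) y : ↥X₁) : X) = (u⁻¹) ^ i * y * ((u⁻¹) ^ i)⁻¹ := by
    intro i y
    rw [hτdef, ← map_pow, MulAut.conjNormal_apply]
  let a : ↥X₁ → (ℕ → Additive ↥θ.range) := fun x i => Additive.ofMul (θ' ((τ ^ i) x))
  let δ : ↥X₁ → ↥X₁ := fun x => x⁻¹ * τ x
  have claim1 : ∀ x : ↥X₁, (E - 1) (a x) = a (δ x) := by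
    intro x
    funext i
    show E (a x) i - a x i = a (δ x) i
    rw [hE_apply]
    show Additive.ofMul (θ' ((τ ^ (i + 1)) x)) - Additive.ofMul (θ' ((τ ^ i) x))
      = Additive.ofMul (θ' ((τ ^ i) (x⁻¹ * τ x)))
    rw [map_mul, map_mul, map_inv, map_inv, pow_succ, MulAut.mul_apply, ← ofMul_div]
    congr 1
    rw [div_eq_mul_inv, mul_comm]
  have claim2 : ∀ (k : ℕ) (x : ↥X₁), ((E - 1) ^ k) (a x) = a (δ^[k] x) := by
    intro k
    induction k with
    | zero => intro x; simp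
    | succ k ih =>
      intro x
      rw [pow_succ, Module.End.mul_apply, claim1, ih, Function.iterate_succ_apply]
  have claim3 : ∀ (k : ℕ) (x : ↥X₁), ((δ^[k] x : ↥X₁) : X) ∈ iterCommutator X₁ (Subgroup.zpowers u) k := by
    intro k
    induction k with
    | zero => intro x; exact x.2
    | succ k ih =>
      intro x
      rw [Function.iterate_succ_apply']
      show (((δ^[k] x)⁻¹ * τ (δ^[k] x) : ↥X₁) : X) ∈ ⁅iterCommutator X₁ (Subgroup.zpowers u) k, Subgroup.zpowers u⁆
      have h1 := hτpow 1 (δ^[k] x)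
      rw [pow_one, pow_one] at h1
      rw [Subgroup.coe_mul, h1, Subgroup.coe_inv]
      have h2 : ((δ^[k] x : ↥X₁) : X)⁻¹ * (u⁻¹ * ((δ^[k] x : ↥X₁) : X) * u⁻¹⁻¹)
          = ⁅((δ^[k] x : ↥X₁) : X)⁻¹, u⁻¹⁆ := by
        rw [commutatorElement_def]; group
      rw [h2]
      exact Subgroup.commutator_mem_commutator (Subgroup.inv_mem _ (ih x))
        (Subgroup.inv_mem _ (Subgroup.mem_zpowers u))
  have claim4 : ∀ y : ↥X₁, (y : X) ∈ Y₁ → a y = 0 := by
    intro y hy
    funext i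
    show Additive.ofMul (θ' ((τ ^ i) y)) = 0
    rw [hθ' _ (by rw [hτpow]; exact hY₁.conj_mem _ hy _)]
    rfl
  have claim5 : ∀ (j : ℕ) (m : ℕ → Additive ↥θ.range) (i : ℕ), (E ^ j) m i = m (i + j) := by
    intro j
    induction j with
    | zero => intro m i; simp
    | succ j ih =>
      intro m i
      rw [pow_succ, Module.End.mul_apply, ih, hE_apply, add_assoc]
  have h1 : ((E - 1) ^ (p - 1)) (a z) = 0 := by
    rw [claim2]
    exact claim4 _ (hE (claim3 _ z))
  rw [← geom_sum_eq_sub_one_pow] at h1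
  have h2 := congrFun h1 0
  rw [LinearMap.sum_apply, Finset.sum_apply] at h2
  simp only [claim5, zero_add, Pi.zero_apply] at h2
  have h3 : ∏ j ∈ Finset.range p, θ' ((τ ^ j) z) = 1 := by
    apply Additive.ofMul.injective
    rw [ofMul_prod]
    exact h2
  have h4 := congrArg (Subtype.val : ↥θ.range → A) h3
  rw [← Subgroup.coe_subtype, map_prod] at h4
  exact h4

section
variable {G : Type u} [Group G]

/-- a homomorphism from `S` into a commutative group with kernel `F ≥ S'` -/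
theorem exists_hom_ker_eq (S F : Subgroup G) (hSF : ⁅S, S⁆ ≤ F) :
    ∃ (A : Type u) (_ : CommGroup A) (φ : ↥S →* A), ∀ s : ↥S, φ s = 1 ↔ (s : G) ∈ F := by
  refine ⟨Abelianization ↥S ⧸ (F.subgroupOf S).map Abelianization.of, inferInstance,
    (QuotientGroup.mk' _).comp Abelianization.of, ?_⟩
  intro s
  rw [MonoidHom.comp_apply, QuotientGroup.mk'_apply, QuotientGroup.eq_one_iff]
  constructor
  · rintro ⟨f, hf, hfs⟩
    have h1 : f⁻¹ * s ∈ commutator ↥S := by
      rw [← Abelianization.ker_of, MonoidHom.mem_ker, map_mul, map_inv, hfs, inv_mul_cancel]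
    have h2 : ((f⁻¹ * s : ↥S) : G) ∈ ⁅S, S⁆ := by
      rw [commutator_subgroup_eq_map]
      exact ⟨_, h1, rfl⟩
    have h3 := F.mul_mem (Subgroup.mem_subgroupOf.mp hf) (hSF h2)
    have h4 : (f : G) * ((f⁻¹ * s : ↥S) : G) = (s : G) := by
      rw [Subgroup.coe_mul, Subgroup.coe_inv]; group
    rw [h4] at h3
    exact h3
  · intro hs
    exact ⟨s, Subgroup.mem_subgroupOf.mpr hs, rfl⟩

/-- a generalisation of the transfer lemma: if `F ≥ S'` and all commutators `[z, g]`, `z ∈ Q`, lie in `F`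
then `Q ∩ G' ≤ F` -/
theorem inf_commutator_le_of_forall_mem [Finite G] {p : ℕ} [hp : Fact p.Prime] (S : Sylow p G)
    (Q : Subgroup G) [hQn : Q.Normal] (hQS : Q ≤ (S : Subgroup G)) (F : Subgroup G)
    (hSF : ⁅(S : Subgroup G), (S : Subgroup G)⁆ ≤ F)
    (hF : ∀ z ∈ Q, ∀ g : G, z⁻¹ * (g⁻¹ * z * g) ∈ F) :
    Q ⊓ commutator G ≤ F := by
  rintro z ⟨hzQ, hzc⟩
  have hzS : z ∈ (S : Subgroup G) := hQS hzQ
  obtain ⟨A, _, φ, hφ⟩ := exists_hom_ker_eq (S : Subgroup G) F hSF
  have h1 : MonoidHom.transfer φ z = 1 :=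
    (Abelianization.commutator_subset_ker (MonoidHom.transfer φ)) hzc
  have h2 := transfer_eq_pow_of_mem φ z hzS (by
    intro k g₀ hk
    have hzk : z ^ k ∈ Q := Q.pow_mem hzQ k
    have h3 := hF _ hzk g₀
    have h4 : (⟨g₀⁻¹ * z ^ k * g₀, hk⟩ : ↥(S : Subgroup G))
        = (⟨z, hzS⟩ : ↥(S : Subgroup G)) ^ k *
          ((⟨z, hzS⟩ : ↥(S : Subgroup G)) ^ k)⁻¹ * ⟨g₀⁻¹ * z ^ k * g₀, hk⟩ := by
      rw [mul_inv_cancel, one_mul]
    have h5 : φ (((⟨z, hzS⟩ : ↥(S : Subgroup G)) ^ k)⁻¹ * ⟨g₀⁻¹ * z ^ k * g₀, hk⟩) = 1 := by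
      rw [hφ]
      simpa using h3
    rw [h4, mul_assoc, map_mul, h5, mul_one])
  rw [h2] at h1
  have h6 : ((⟨z, hzS⟩ : ↥(S : Subgroup G)) ^ (S : Subgroup G).index : ↥(S : Subgroup G)).1 ∈ F :=
    (hφ _).mp h1
  rw [Subgroup.coe_pow] at h6
  have hcop : ((S : Subgroup G).index).Coprime (orderOf z) := by
    obtain ⟨j, hj⟩ := (IsPGroup.iff_orderOf.mp S.2) ⟨z, hzS⟩
    have hj' : orderOf z = p ^ j := by
      rw [← hj]; exact (Subgroup.orderOf_mk z hzS).symm
    rw [hj']
    apply Nat.Coprime.pow_right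
    exact ((Nat.Prime.coprime_iff_not_dvd hp.out).mpr S.not_dvd_index).symm
  obtain ⟨m, hm⟩ := exists_pow_eq_self_of_coprime hcop
  rw [← hm]
  exact F.pow_mem h6 m

end

section
variable {X : Type*} [Group X]

theorem iterCommutator_cj (g : X) (U A : Subgroup X) (n : ℕ) :
    iterCommutator (cj g U) (cj g A) n = cj g (iterCommutator U A n) := by
  induction n with
  | zero => rfl
  | succ n ih =>
    show ⁅iterCommutator (cj g U) (cj g A) n, cj g A⁆ = cj g ⁅iterCommutator U A n, A⁆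
    rw [ih, cj_commutator]

theorem iterCommutator_conj_le {U V : Subgroup X} [hU : U.Normal] [hV : V.Normal] (u g : X) (n : ℕ)
    (h : iterCommutator U (Subgroup.zpowers u) n ≤ V) :
    iterCommutator U (Subgroup.zpowers (g * u * g⁻¹)) n ≤ V := by
  have e1 : cj g U = U := by
    apply mem_normalizer_iff_cj.mp
    rw [Subgroup.normalizer_eq_top_iff.mpr hU]; exact Subgroup.mem_top _
  have e2 : cj g V = V := by
    apply mem_normalizer_iff_cj.mp
    rw [Subgroup.normalizer_eq_top_iff.mpr hV]; exact Subgroup.mem_top _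
  have e3 : cj g (Subgroup.zpowers u) = Subgroup.zpowers (g * u * g⁻¹) := by
    show (Subgroup.zpowers u).map (MulAut.conj g).toMonoidHom = _
    rw [MonoidHom.map_zpowers]
    rfl
  rw [← e1, ← e3, iterCommutator_cj, ← e2]
  exact cj_mono g h

end

section
variable {X : Type*} [Group X] [Finite X]

/-- a chief factor `X₁ / Y₁` below a normal subgroup `Q'`, with `X₁ ≰ T` and `Y₁ ≤ T` -/
theorem exists_chief_not_le (Q' T : Subgroup X) [hQ' : Q'.Normal] (h : ¬ Q' ≤ T) :
    ∃ X₁ Y₁ : Subgroup X, IsChiefFactor X₁ Y₁ ∧ X₁ ≤ Q' ∧ ¬ X₁ ≤ T ∧ Y₁ ≤ T := by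
  classical
  let 𝒮 := {N : Subgroup X // N.Normal ∧ N ≤ Q' ∧ ¬ N ≤ T}
  haveI : Nonempty 𝒮 := ⟨⟨Q', hQ', le_rfl, h⟩⟩
  obtain ⟨⟨X₁, hX₁n, hX₁Q, hX₁T⟩, hmin⟩ := Finite.exists_min (fun N : 𝒮 => Nat.card N.1)
  have hX₁ne : X₁ ≠ ⊥ := by
    rintro rfl
    exact hX₁T bot_le
  let 𝒴 := {N : Subgroup X // N.Normal ∧ N < X₁}
  haveI : Nonempty 𝒴 := ⟨⟨⊥, Subgroup.normal_bot, bot_lt_iff_ne_bot.mpr hX₁ne⟩⟩
  obtain ⟨⟨Y₁, hY₁n, hY₁X⟩, hmax⟩ := Finite.exists_max (fun N : 𝒴 => Nat.card N.1)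
  have hcardlt : ∀ {A B : Subgroup X}, A < B → Nat.card A < Nat.card B := by
    intro A B hAB
    by_contra hle
    push Not at hle
    have h1 := Subgroup.card_le_of_le hAB.le
    have h2 : Nat.card A = Nat.card B := le_antisymm h1 hle
    exact hAB.ne (Subgroup.eq_of_le_of_card_ge hAB.le h2.ge)
  refine ⟨X₁, Y₁, ⟨hY₁X, hX₁n, hY₁n, ?_⟩, hX₁Q, hX₁T, ?_⟩
  · intro N hNn hYN hNX
    by_cases hNX' : N = X₁
    · exact Or.inr hNX'
    · left
      have hlt : N < X₁ := lt_of_le_of_ne hNX hNX'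
      have h1 := hmax ⟨N, hNn, hlt⟩
      simp only at h1
      exact (Subgroup.eq_of_le_of_card_ge hYN h1).symm
  · by_contra hYT
    have h1 := hmin ⟨Y₁, hY₁n, hY₁X.le.trans hX₁Q, hYT⟩
    simp only at h1
    exact absurd (hcardlt hY₁X) (not_lt.mpr h1)

/-- a `p`-chief factor has exponent `p` -/
theorem pow_mem_of_isChiefFactor {p : ℕ} [hp : Fact p.Prime] {X₁ Y₁ : Subgroup X}
    (hch : IsChiefFactor X₁ Y₁) (hX₁p : IsPGroup p X₁) : ∀ x ∈ X₁, x ^ p ∈ Y₁ := by
  obtain ⟨hlt, hX₁n, hY₁n, hmin⟩ := hch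
  haveI := hX₁n
  haveI := hY₁n
  obtain ⟨Φ, hΦdef⟩ : ∃ Φ : Subgroup X, Φ = (frattini ↥X₁).map X₁.subtype := ⟨_, rfl⟩
  have hΦn : Φ.Normal := by rw [hΦdef]; infer_instance
  have hΦX : Φ ≤ X₁ := by rw [hΦdef]; exact Subgroup.map_subtype_le _
  have hNn : (Y₁ ⊔ Φ).Normal := inferInstance
  rcases hmin (Y₁ ⊔ Φ) hNn le_sup_left (sup_le hlt.le hΦX) with h1 | h1
  · intro x hx
    have h2 := pow_mem_frattini_of_isPGroup hX₁p (⟨x, hx⟩ : ↥X₁)
    have h3 : x ^ p ∈ Φ := by
      rw [hΦdef]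
      exact ⟨_, h2, by simp⟩
    rw [← h1]
    exact Subgroup.mem_sup_right h3
  · exfalso
    have h2 : (Y₁ ⊔ Φ).subgroupOf X₁ = ⊤ := by rw [h1]; exact Subgroup.subgroupOf_self _
    rw [Subgroup.subgroupOf_sup hlt.le hΦX] at h2
    have h3 : Φ.subgroupOf X₁ = frattini ↥X₁ := by
      rw [hΦdef]
      exact Subgroup.comap_map_eq_self_of_injective X₁.subtype_injective _
    rw [h3] at h2
    have h4 := frattini_nongenerating h2
    rw [Subgroup.subgroupOf_eq_top] at h4
    exact (not_le_of_gt hlt) h4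

end

end Cfsg.Agent.Lib.Helper4
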