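import Mathlib
import Cfsg.Agent.Lib.Helper4.TransferSect2
import Cfsg.Agent.S1960

set_option autoImplicit false
open Pointwise
open scoped commutatorElement

/-! Control of transfer in all sections follows from the condition on `O_p` in the `p`-constrained sections. -/

namespace Cfsg.Agent.Lib.Helper4

open Cfsg Cfsg.Agent.Lib.Helper7 Cfsg.Agent.Lib.Lead

universe u

section
variable {𝓦 : Set (∀ (Q : Type u) [Group Q], Subgroup Q)}
variable {X : Type u} [Group X] [Finite X] {p : ℕ} [hp : Fact p.Prime]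

omit [Finite X] hp in
theorem iSup_indFam (S : Subgroup X) (H : Subgroup X) :
    (⨆ W' ∈ indFam 𝓦 X, S ⊓ ⁅H ⊓ Subgroup.normalizer ((W' S : Subgroup X) : Set X),
      H ⊓ Subgroup.normalizer ((W' S : Subgroup X) : Set X)⁆)
    = ⨆ W ∈ 𝓦, S ⊓ ⁅H ⊓ Subgroup.normalizer ((inducedFunctor (G := X) W S : Subgroup X) : Set X),
      H ⊓ Subgroup.normalizer ((inducedFunctor (G := X) W S : Subgroup X) : Set X)⁆ := by
  unfold indFam
  rw [iSup_image]

omit [Finite X] hp in
theorem tcTarget_eq_iSup_indFam (S : Subgroup X) :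
    tcTarget 𝓦 S = ⨆ W' ∈ indFam 𝓦 X, S ⊓ ⁅⊤ ⊓ Subgroup.normalizer ((W' S : Subgroup X) : Set X),
      ⊤ ⊓ Subgroup.normalizer ((W' S : Subgroup X) : Set X)⁆ := by
  rw [iSup_indFam]
  simp only [top_inf_eq]
  rfl

/-- transfer control in the group `↥H` gives transfer control in the subgroup `H` -/
theorem fct_of_subgroup_tc (h𝓦 : ∀ W ∈ 𝓦, IsCharPFunctor.{u} p W) (H : Subgroup X)
    (h : ∀ T : Sylow p ↥H, (T : Subgroup ↥H) ⊓ commutator ↥H ≤ tcTarget 𝓦 (T : Subgroup ↥H)) :
    FamilyControlsTransferIn p (indFam 𝓦 X) H := by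
  obtain ⟨T⟩ : Nonempty (Sylow p ↥H) := inferInstance
  obtain ⟨T', hT'def⟩ : ∃ T', T' = (T : Subgroup ↥H).map H.subtype := ⟨_, rfl⟩
  have hT'H : T' ≤ H := by rw [hT'def]; exact Subgroup.map_subtype_le _
  have hT'p : IsPGroup p T' := by rw [hT'def]; exact T.2.map _
  refine ⟨T', hT'H, hT'p, ?_, ?_⟩
  · have h1 : T'.relIndex H = (T : Subgroup ↥H).index := by
      rw [hT'def, Subgroup.relIndex, Subgroup.subgroupOf,
        Subgroup.comap_map_eq_self_of_injective H.subtype_injective]
    rw [h1]; exact T.not_dvd_index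
  · rw [iSup_indFam]
    apply le_antisymm
    · rintro z ⟨hzT, hzH⟩
      rw [commutator_subgroup_eq_map] at hzH
      obtain ⟨y, hy, rfl⟩ := hzH
      have hyT : y ∈ (T : Subgroup ↥H) := by
        rw [hT'def] at hzT
        obtain ⟨y', hy', hyy⟩ := hzT
        have : y' = y := Subtype.ext hyy
        rwa [← this]
      have h2 := h T ⟨hyT, hy⟩
      have h3 : (tcTarget 𝓦 (T : Subgroup ↥H)).map H.subtype ≤
          ⨆ W ∈ 𝓦, T' ⊓ ⁅H ⊓ Subgroup.normalizer ((inducedFunctor (G := X) W T' : Subgroup X) : Set X),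
            H ⊓ Subgroup.normalizer ((inducedFunctor (G := X) W T' : Subgroup X) : Set X)⁆ := by
        unfold tcTarget
        rw [Subgroup.map_iSup]
        apply iSup_le
        intro W
        rw [Subgroup.map_iSup]
        apply iSup_le
        intro hW
        refine le_trans ?_ (le_iSup₂ (f := fun W (_ : W ∈ 𝓦) => T' ⊓
          ⁅H ⊓ Subgroup.normalizer ((inducedFunctor (G := X) W T' : Subgroup X) : Set X),
            H ⊓ Subgroup.normalizer ((inducedFunctor (G := X) W T' : Subgroup X) : Set X)⁆) W hW)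
        have hWS : inducedFunctor (G := X) W T'
            = (inducedFunctor (G := ↥H) W (T : Subgroup ↥H)).map H.subtype := by
          rw [hT'def]
          exact inducedFunctor_map (h𝓦 W hW) H.subtype _ T.2 (fun x _ hx => by
            have : H.subtype x = H.subtype 1 := by rw [map_one]; exact hx
            exact H.subtype_injective this)
        have hN : (Subgroup.normalizer ((inducedFunctor (G := ↥H) W (T : Subgroup ↥H) : Subgroup ↥H) :
            Set ↥H)).map H.subtype ≤
            H ⊓ Subgroup.normalizer ((inducedFunctor (G := X) W T' : Subgroup X) : Set X) := by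
          apply le_inf (Subgroup.map_subtype_le _)
          rw [hWS]; exact Subgroup.le_normalizer_map _
        apply le_inf
        · rw [hT'def]; exact Subgroup.map_mono inf_le_left
        · refine (Subgroup.map_mono inf_le_right).trans ?_
          rw [Subgroup.map_commutator]
          exact Subgroup.commutator_mono hN hN
      exact h3 ⟨y, h2, rfl⟩
    · apply iSup₂_le
      intro W _
      exact inf_le_inf_left _ (Subgroup.commutator_mono inf_le_left inf_le_left)

end

variable {G : Type u} [Group G] {p : ℕ} [hp : Fact p.Prime]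
variable {𝓦 : Set (∀ (Q : Type u) [Group Q], Subgroup Q)}

/-- the main induction -/
theorem tc_of_sections_aux (h𝓦 : ∀ W ∈ 𝓦, IsCharPFunctor.{u} p W)
    (hcon : ∀ (Y : Type u) [Group Y] [Finite Y], IsSectionOf G Y →
      Subgroup.centralizer ((pCore p Y : Subgroup Y) : Set Y) ≤ pCore p Y →
      ∀ T : Sylow p Y, pCore p Y ⊓ commutator Y ≤ tcTarget 𝓦 (T : Subgroup Y)) :
    ∀ n : ℕ, ∀ (X : Type u) [Group X] [Finite X], Nat.card X = n → IsSectionOf G X →
      ∀ S : Sylow p X, (S : Subgroup X) ⊓ commutator X ≤ tcTarget 𝓦 (S : Subgroup X) := by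
  intro n
  induction n using Nat.strong_induction_on with
  | _ n ih =>
  intro X _ _ hn hsec S
  have IHsub : ∀ H : Subgroup X, H ≠ ⊤ → ∀ T : Sylow p ↥H,
      (T : Subgroup ↥H) ⊓ commutator ↥H ≤ tcTarget 𝓦 (T : Subgroup ↥H) := by
    intro H hH
    exact ih (Nat.card ↥H) (by rw [← hn]; exact card_subgroup_lt_of_ne_top hH) ↥H rfl (hsec.subgroup H)
  have IHquot : ∀ (N : Subgroup X) [N.Normal], N ≠ ⊥ → ∀ T : Sylow p (X ⧸ N),
      (T : Subgroup (X ⧸ N)) ⊓ commutator (X ⧸ N) ≤ tcTarget 𝓦 (T : Subgroup (X ⧸ N)) := by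
    intro N _ hN
    exact ih (Nat.card (X ⧸ N)) (by rw [← hn]; exact card_quotient_lt_of_ne_bot hN) (X ⧸ N) rfl
      (hsec.quotient N)
  have IHover : ∀ H : Subgroup X, H ≠ ⊤ → (S : Subgroup X) ≤ H →
      (S : Subgroup X) ⊓ ⁅H, H⁆ ≤ tcTarget 𝓦 (S : Subgroup X) := by
    intro H hH hSH
    exact tc_of_overgroup h𝓦 S H hSH (IHsub H hH)
  have hSp : IsPGroup p (S : Subgroup X) := S.isPGroup'
  have hQn : (pCore p X).Normal := inferInstance
  have hQp : IsPGroup p (pCore p X) := Cfsg.Agent.Lib.Helper6.pCore_isPGroup p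
  have hQS : pCore p X ≤ (S : Subgroup X) := Cfsg.Agent.Lib.Helper6.pCore_le_sylow S
  by_cases hQ : pCore p X = ⊥
  · -- `O_p(X) = 1`
    have h1 : FamilyControlsTransferIn p (indFam 𝓦 X) ⊤ := by
      apply Cfsg.Agent.S1960.result S (indFam 𝓦 X) (indFam_isConjugacyFunctor h𝓦)
      intro T hTS hTne _
      apply fct_of_subgroup_tc h𝓦
      apply IHsub
      intro htop
      apply hTne
      have hTn : T.Normal := Subgroup.normalizer_eq_top_iff.mp htop
      have := Cfsg.Agent.Lib.Helper6.le_pCore hTn (hSp.to_le hTS)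
      rw [hQ] at this
      exact le_bot_iff.mp this
    have hidx : ¬ p ∣ (S : Subgroup X).relIndex ⊤ := by
      rw [Subgroup.relIndex_top_right]; exact S.not_dvd_index
    have h2 := fctWith_of_controls (indFam_isConjugacyFunctor h𝓦) h1 (le_top : (S : Subgroup X) ≤ ⊤)
      hSp hidx
    rw [tcTarget_eq_iSup_indFam, ← h2, commutator_def]
  -- the key reduction: it suffices to treat `O_p(X) ∩ X'`
  have hkey : pCore p X ⊓ commutator X ≤ tcTarget 𝓦 (S : Subgroup X) →
      (S : Subgroup X) ⊓ commutator X ≤ tcTarget 𝓦 (S : Subgroup X) := by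
    intro hQc
    by_cases hSQ : (S : Subgroup X) ≤ pCore p X
    · exact (inf_le_inf_right _ hSQ).trans hQc
    · have hπ : Function.Surjective (QuotientGroup.mk' (pCore p X)) := QuotientGroup.mk'_surjective _
      have hcore : pCore p (X ⧸ pCore p X) = ⊥ := by
        rw [Cfsg.Agent.Lib.Helper6.pCore_quotient_of_isPGroup (pCore p X) hQp]
        rw [Subgroup.map_eq_bot_iff, QuotientGroup.ker_mk']
      have hSbp : IsPGroup p ((S : Subgroup X).map (QuotientGroup.mk' (pCore p X))) := hSp.map _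
      have hSbne : (S : Subgroup X).map (QuotientGroup.mk' (pCore p X)) ≠ ⊥ := by
        intro hbot
        apply hSQ
        rw [Subgroup.map_eq_bot_iff, QuotientGroup.ker_mk'] at hbot
        exact hbot
      have h1 := IHquot (pCore p X) hQ (S.mapSurjective hπ)
      rw [Sylow.coe_mapSurjective] at h1
      refine (tc_quotient_step S (pCore p X) hQS h1 ?_).trans (sup_le le_rfl hQc)
      intro W hW
      have hconj := isConjugacyFunctor_inducedFunctor (X := X ⧸ pCore p X) (h𝓦 W hW)
      obtain ⟨hle, hne, _⟩ := hconj _ hSbp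
      apply IHover
      · intro htop
        apply hne hSbne
        have hnorm : (inducedFunctor W ((S : Subgroup X).map (QuotientGroup.mk' (pCore p X)))).Normal := by
          apply Subgroup.normalizer_eq_top_iff.mp
          rw [eq_top_iff]
          intro yb _
          obtain ⟨y, rfl⟩ := hπ yb
          have : y ∈ (Subgroup.normalizer ((inducedFunctor W ((S : Subgroup X).map
              (QuotientGroup.mk' (pCore p X))) : Subgroup (X ⧸ pCore p X)) : Set (X ⧸ pCore p X))).comap
              (QuotientGroup.mk' (pCore p X)) := by rw [htop]; exact Subgroup.mem_top y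
          exact Subgroup.mem_comap.mp this
        have := Cfsg.Agent.Lib.Helper6.le_pCore hnorm (hSbp.to_le hle)
        rw [hcore] at this
        exact le_bot_iff.mp this
      · intro s hs
        rw [Subgroup.mem_comap]
        exact le_normalizer_functor hconj hSbp ⟨s, hs, rfl⟩
  by_cases hA : (S : Subgroup X) ⊓ Subgroup.centralizer ((pCore p X : Subgroup X) : Set X) ≤ pCore p X
  · -- `X / O_{p'}(X)` is `p`-constrained
    apply hkey
    have hKc : (Nat.card (pPrimeCore p X)).Coprime p := Cfsg.Agent.Lib.Helper6.pPrimeCore_coprime p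
    have hπ : Function.Surjective (QuotientGroup.mk' (pPrimeCore p X)) := QuotientGroup.mk'_surjective _
    have h1 := hcon (X ⧸ pPrimeCore p X) (hsec.quotient _) (centralizer_pCore_quotient_le S hA)
      (S.mapSurjective hπ)
    rw [Sylow.coe_mapSurjective] at h1
    have hQb : (pCore p X).map (QuotientGroup.mk' (pPrimeCore p X)) ≤ pCore p (X ⧸ pPrimeCore p X) := by
      apply Cfsg.Agent.Lib.Helper6.le_pCore
      · exact Subgroup.Normal.map hQn _ hπ
      · exact hQp.map _
    rintro z ⟨hzQ, hzc⟩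
    apply mem_tcTarget_of_quotient_pprime h𝓦 (pPrimeCore p X) hKc S (hQS hzQ)
    apply h1
    refine ⟨hQb ⟨z, hzQ, rfl⟩, ?_⟩
    have : (commutator X).map (QuotientGroup.mk' (pPrimeCore p X)) ≤ commutator (X ⧸ pPrimeCore p X) := by
      rw [commutator_def, Subgroup.map_commutator, commutator_def]
      exact Subgroup.commutator_mono le_top le_top
    exact this ⟨z, hzc, rfl⟩
  by_cases hG1 : (S : Subgroup X) ⊔ Subgroup.centralizer ((pCore p X : Subgroup X) : Set X) = ⊤
  · -- `X = S C_X(O_p(X))`: the transfer argument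
    apply hkey
    have hSne : (S : Subgroup X) ≠ ⊤ := by
      intro htop
      apply hA
      have hSn : (S : Subgroup X).Normal := by rw [htop]; infer_instance
      have := Cfsg.Agent.Lib.Helper6.le_pCore hSn hSp
      exact inf_le_left.trans this
    have h1 := inf_commutator_le_of_sup_centralizer S (pCore p X) hQS hG1
    have h2 := IHover (S : Subgroup X) hSne le_rfl
    exact h1.trans ((le_inf (Subgroup.commutator_le_self _) le_rfl).trans h2)
  · -- two proper overgroups
    obtain ⟨L₁, hL₁def⟩ : ∃ L₁, L₁ = (S : Subgroup X) ⊔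
      Subgroup.centralizer ((pCore p X : Subgroup X) : Set X) := ⟨_, rfl⟩
    obtain ⟨L₂, hL₂def⟩ : ∃ L₂, L₂ = Subgroup.normalizer ((pCore p X ⊔ ((S : Subgroup X) ⊓
        Subgroup.centralizer ((pCore p X : Subgroup X) : Set X)) : Subgroup X) : Set X) := ⟨_, rfl⟩
    have hL₁ne : L₁ ≠ ⊤ := by rw [hL₁def]; exact hG1
    have hL₂ne : L₂ ≠ ⊤ := by
      rw [hL₂def]
      intro htop
      apply hA
      have hn : (pCore p X ⊔ ((S : Subgroup X) ⊓
          Subgroup.centralizer ((pCore p X : Subgroup X) : Set X)) : Subgroup X).Normal :=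
        Subgroup.normalizer_eq_top_iff.mp htop
      have hpg : IsPGroup p (pCore p X ⊔ ((S : Subgroup X) ⊓
          Subgroup.centralizer ((pCore p X : Subgroup X) : Set X)) : Subgroup X) :=
        hSp.to_le (sup_le hQS inf_le_left)
      exact le_sup_right.trans (Cfsg.Agent.Lib.Helper6.le_pCore hn hpg)
    have hSL₁ : (S : Subgroup X) ≤ L₁ := by rw [hL₁def]; exact le_sup_left
    have hSL₂ : (S : Subgroup X) ≤ L₂ := by
      rw [hL₂def]
      intro s hs
      rw [mem_normalizer_iff_cj, cj_sup, cj_inf]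
      have e1 : Helper7.cj s (pCore p X) = pCore p X := by
        apply mem_normalizer_iff_cj.mp
        rw [Subgroup.normalizer_eq_top_iff.mpr inferInstance]; exact Subgroup.mem_top _
      have e2 : Helper7.cj s (Subgroup.centralizer ((pCore p X : Subgroup X) : Set X)) =
          Subgroup.centralizer ((pCore p X : Subgroup X) : Set X) := by
        apply mem_normalizer_iff_cj.mp
        rw [Subgroup.normalizer_eq_top_iff.mpr Subgroup.normal_centralizer]; exact Subgroup.mem_top _
      rw [e1, e2, cj_eq_self_of_mem hs]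
    have hT₁ := IHover L₁ hL₁ne hSL₁
    have hT₂ := IHover L₂ hL₂ne hSL₂
    rw [commutator_def]
    apply focal_goldFam S
    intro D hD x hx a ha
    have hDS : D ≤ (S : Subgroup X) := hD.1
    obtain ⟨c, hc, n, hn, hxcn, hnD⟩ := decomp_centralizer S (pCore p X) hDS hx
    rw [← hL₂def] at hn
    have haS : a ∈ (S : Subgroup X) := hDS ha
    have ha'S : n * a * n⁻¹ ∈ (S : Subgroup X) := hnD ⟨a, ha, rfl⟩
    have hxaS : x * a * x⁻¹ ∈ (S : Subgroup X) :=
      hDS ((Subgroup.mem_normalizer_iff.mp hx a).mp ha)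
    have hcL₁ : c ∈ L₁ := by rw [hL₁def]; exact Subgroup.mem_sup_right hc
    have e1 : a⁻¹ * (n * a * n⁻¹) = ⁅a⁻¹, n⁆ := by rw [commutatorElement_def]; group
    have e2 : (n * a * n⁻¹)⁻¹ * (x * a * x⁻¹) = ⁅(n * a * n⁻¹)⁻¹, c⁆ := by
      rw [commutatorElement_def, hxcn]; group
    have t1 : a⁻¹ * (n * a * n⁻¹) ∈ tcTarget 𝓦 (S : Subgroup X) := by
      apply hT₂
      refine ⟨Subgroup.mul_mem _ (Subgroup.inv_mem _ haS) ha'S, ?_⟩
      rw [e1]
      exact Subgroup.commutator_mem_commutator (Subgroup.inv_mem _ (hSL₂ haS)) hn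
    have t2 : (n * a * n⁻¹)⁻¹ * (x * a * x⁻¹) ∈ tcTarget 𝓦 (S : Subgroup X) := by
      apply hT₁
      refine ⟨Subgroup.mul_mem _ (Subgroup.inv_mem _ ha'S) hxaS, ?_⟩
      rw [e2]
      exact Subgroup.commutator_mem_commutator (Subgroup.inv_mem _ (hSL₁ ha'S)) hcL₁
    have e3 : a⁻¹ * (x * a * x⁻¹) = (a⁻¹ * (n * a * n⁻¹)) * ((n * a * n⁻¹)⁻¹ * (x * a * x⁻¹)) := by
      group
    rw [e3]
    exact Subgroup.mul_mem _ t1 t2

/-- the local condition is isomorphism invariant -/
theorem tc_local_of_mulEquiv (h𝓦 : ∀ W ∈ 𝓦, IsCharPFunctor.{u} p W) {Y Z : Type u} [Group Y] [Group Z]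
    [Finite Y] [Finite Z] (e : Y ≃* Z)
    (hZ : ∀ T : Sylow p Z, pCore p Z ⊓ commutator Z ≤ tcTarget 𝓦 (T : Subgroup Z)) :
    ∀ T : Sylow p Y, pCore p Y ⊓ commutator Y ≤ tcTarget 𝓦 (T : Subgroup Y) := by
  intro T
  have hsurj : Function.Surjective e.toMonoidHom := e.surjective
  have h1 := hZ (T.mapSurjective hsurj)
  rw [Sylow.coe_mapSurjective] at h1
  have h2 := tcTarget_map_le h𝓦 e.symm.toMonoidHom e.symm.injective
    ((T : Subgroup Y).map e.toMonoidHom) (T.2.map _)
  have h3 : ((T : Subgroup Y).map e.toMonoidHom).map e.symm.toMonoidHom = (T : Subgroup Y) := by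
    rw [Subgroup.map_map]
    have : e.symm.toMonoidHom.comp e.toMonoidHom = MonoidHom.id Y := by
      ext x; simp
    rw [this, Subgroup.map_id]
  rw [h3] at h2
  rintro z ⟨hzQ, hzc⟩
  have h4 : e.toMonoidHom z ∈ pCore p Z ⊓ commutator Z := by
    refine ⟨?_, ?_⟩
    · rw [← Cfsg.Agent.Lib.Helper6.pCore_map_equiv p e]; exact ⟨z, hzQ, rfl⟩
    · have : (commutator Y).map e.toMonoidHom ≤ commutator Z := by
        rw [commutator_def, Subgroup.map_commutator, commutator_def]
        exact Subgroup.commutator_mono le_top le_top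
      exact this ⟨z, hzc, rfl⟩
  have h5 := h2 ⟨_, h1 h4, rfl⟩
  simpa using h5

/-- if `O_p ∩ X' ≤` the target in every `p`-constrained section of `G`, then the induced functors control
transfer in every section of `G` -/
theorem tc_of_sections [Finite G] (h𝓦 : ∀ W ∈ 𝓦, IsCharPFunctor.{u} p W)
    (hloc : ∀ (K R : Subgroup G) [(R.subgroupOf K).Normal],
      Subgroup.centralizer ((pCore p (↥K ⧸ R.subgroupOf K) : Subgroup (↥K ⧸ R.subgroupOf K)) :
        Set (↥K ⧸ R.subgroupOf K)) ≤ pCore p (↥K ⧸ R.subgroupOf K) →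
      ∀ T : Sylow p (↥K ⧸ R.subgroupOf K),
        pCore p (↥K ⧸ R.subgroupOf K) ⊓ commutator (↥K ⧸ R.subgroupOf K) ≤
          tcTarget 𝓦 (T : Subgroup (↥K ⧸ R.subgroupOf K)))
    (X : Type u) [Group X] [Finite X] (hX : IsSectionOf G X) (S : Sylow p X) :
    (S : Subgroup X) ⊓ commutator X ≤ tcTarget 𝓦 (S : Subgroup X) := by
  apply tc_of_sections_aux h𝓦 ?_ _ X rfl hX
  intro Y _ _ hY hc
  obtain ⟨K, R, hR, ⟨e⟩⟩ := hY.exists_equiv
  have h1 := hloc K R (centralizer_pCore_le_of_mulEquiv e hc)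
  exact tc_local_of_mulEquiv h𝓦 e h1

omit hp in
theorem tcTarget_singleton {X : Type u} [Group X] (W : ∀ (Q : Type u) [Group Q], Subgroup Q)
    (S : Subgroup X) :
    tcTarget {W} S = S ⊓ ⁅Subgroup.normalizer ((inducedFunctor (G := X) W S : Subgroup X) : Set X),
      Subgroup.normalizer ((inducedFunctor (G := X) W S : Subgroup X) : Set X)⁆ := by
  unfold tcTarget
  simp

end Cfsg.Agent.Lib.Helper4
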