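import Mathlib
import Cfsg.Agent.Lib.Helper4.TransferSect3
import Cfsg.Agent.Lib.Helper4.TransferCore1

set_option autoImplicit false
open Pointwise
open scoped commutatorElement

/-! The structure of a minimal failure of transfer control, first part: `O_p`, the unique maximal subgroup
over a Sylow `p`-subgroup. -/

namespace Cfsg.Agent.Lib.Helper4

open Cfsg Cfsg.Agent.Lib.Helper7 Cfsg.Agent.Lib.Lead

universe u

section
variable {X : Type*} [Group X] {p : ℕ}

/-- the normalizer of a `p`-subgroup normalizes the value of a conjugacy functor on it -/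
theorem normalizer_le_normalizer_functor {W' : Subgroup X → Subgroup X} (hW' : IsConjugacyFunctor p W')
    {P : Subgroup X} (hP : IsPGroup p P) :
    Subgroup.normalizer (P : Set X) ≤ Subgroup.normalizer ((W' P : Subgroup X) : Set X) := by
  intro g hg
  rw [mem_normalizer_iff_cj] at hg ⊢
  have h1 := (hW' P hP).2.2 g
  have h2 : P.map (MulAut.conj g).toMonoidHom = P := hg
  rw [h2] at h1
  exact h1.symm

/-- the centralizer in `X` of the section `Q / R` -/
def centSection (Q R : Subgroup X) [hQ : Q.Normal] [hR : R.Normal] : Subgroup X where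
  carrier := {g | ∀ z ∈ Q, z⁻¹ * g⁻¹ * z * g ∈ R}
  one_mem' := by
    intro z _
    have : z⁻¹ * (1 : X)⁻¹ * z * 1 = 1 := by group
    rw [this]; exact R.one_mem
  mul_mem' := by
    intro g h hg hh z hz
    have e : z⁻¹ * (g * h)⁻¹ * z * (g * h) = (z⁻¹ * h⁻¹ * z * h) * (h⁻¹ * (z⁻¹ * g⁻¹ * z * g) * h⁻¹⁻¹) := by
      group
    rw [e]
    exact R.mul_mem (hh z hz) (hR.conj_mem _ (hg z hz) _)
  inv_mem' := by
    intro g hg z hz
    have hz' : g * z * g⁻¹ ∈ Q := hQ.conj_mem _ hz _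
    have h1 := hg _ hz'
    have e : z⁻¹ * g⁻¹⁻¹ * z * g⁻¹ = ((g * z * g⁻¹)⁻¹ * g⁻¹ * (g * z * g⁻¹) * g)⁻¹ := by group
    rw [e]
    exact R.inv_mem h1

theorem mem_centSection {Q R : Subgroup X} [hQ : Q.Normal] [hR : R.Normal] {g : X} :
    g ∈ centSection Q R ↔ ∀ z ∈ Q, z⁻¹ * g⁻¹ * z * g ∈ R := Iff.rfl

instance centSection_normal (Q R : Subgroup X) [hQ : Q.Normal] [hR : R.Normal] :
    (centSection Q R).Normal := by
  constructor
  intro g hg x z hz
  have hz' : x⁻¹ * z * x⁻¹⁻¹ ∈ Q := hQ.conj_mem _ hz _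
  have h1 := hg _ hz'
  have e : z⁻¹ * (x * g * x⁻¹)⁻¹ * z * (x * g * x⁻¹)
      = x * ((x⁻¹ * z * x⁻¹⁻¹)⁻¹ * g⁻¹ * (x⁻¹ * z * x⁻¹⁻¹) * g) * x⁻¹ := by group
  rw [e]
  exact hR.conj_mem _ h1 _

end

section
variable {𝓦 : Set (∀ (Q : Type u) [Group Q], Subgroup Q)}
variable {X : Type u} [Group X] [Finite X] {p : ℕ} [hp : Fact p.Prime]

/-- the hypotheses on a minimal failure of transfer control: control in the proper subgroups and in the proper
quotients -/
structure MinFail (𝓦 : Set (∀ (Q : Type u) [Group Q], Subgroup Q)) (S : Sylow p X) : Prop where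
  h𝓦 : ∀ W ∈ 𝓦, IsCharPFunctor.{u} p W
  hne : 𝓦.Nonempty
  sub : ∀ H : Subgroup X, H ≠ ⊤ → ∀ T : Sylow p ↥H,
      (T : Subgroup ↥H) ⊓ commutator ↥H ≤ tcTarget 𝓦 (T : Subgroup ↥H)
  quot : ∀ (N : Subgroup X) [N.Normal], N ≠ ⊥ → ∀ T : Sylow p (X ⧸ N),
      (T : Subgroup (X ⧸ N)) ⊓ commutator (X ⧸ N) ≤ tcTarget 𝓦 (T : Subgroup (X ⧸ N))
  fail : ¬ (S : Subgroup X) ⊓ commutator X ≤ tcTarget 𝓦 (S : Subgroup X)

namespace MinFail

variable {S : Sylow p X} (h : MinFail 𝓦 S)
include h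

theorem overgroup (H : Subgroup X) (hH : H ≠ ⊤) (hSH : (S : Subgroup X) ≤ H) :
    (S : Subgroup X) ⊓ ⁅H, H⁆ ≤ tcTarget 𝓦 (S : Subgroup X) :=
  tc_of_overgroup h.h𝓦 S H hSH (h.sub H hH)

theorem pCore_ne_bot : pCore p X ≠ ⊥ := by
  intro hQ
  apply h.fail
  have hSp : IsPGroup p (S : Subgroup X) := S.isPGroup'
  have h1 : FamilyControlsTransferIn p (indFam 𝓦 X) ⊤ := by
    apply Cfsg.Agent.S1960.result S (indFam 𝓦 X) (indFam_isConjugacyFunctor h.h𝓦)
    intro T hTS hTne _
    apply fct_of_subgroup_tc h.h𝓦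
    apply h.sub
    intro htop
    apply hTne
    have hTn : T.Normal := Subgroup.normalizer_eq_top_iff.mp htop
    have := Cfsg.Agent.Lib.Helper6.le_pCore hTn (hSp.to_le hTS)
    rw [hQ] at this
    exact le_bot_iff.mp this
  have hidx : ¬ p ∣ (S : Subgroup X).relIndex ⊤ := by
    rw [Subgroup.relIndex_top_right]; exact S.not_dvd_index
  have h2 := fctWith_of_controls (indFam_isConjugacyFunctor h.h𝓦) h1 (le_top : (S : Subgroup X) ≤ ⊤)
    hSp hidx
  rw [tcTarget_eq_iSup_indFam, ← h2, commutator_def]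

/-- the Sylow subgroup is not normal -/
theorem not_le_pCore : ¬ (S : Subgroup X) ≤ pCore p X := by
  intro hSQ
  apply h.fail
  have hSp : IsPGroup p (S : Subgroup X) := S.isPGroup'
  have hQS : pCore p X ≤ (S : Subgroup X) := Cfsg.Agent.Lib.Helper6.pCore_le_sylow S
  have hSn : (S : Subgroup X).Normal := by
    have : (S : Subgroup X) = pCore p X := le_antisymm hSQ hQS
    rw [this]; infer_instance
  obtain ⟨W, hW⟩ := h.hne
  refine le_trans ?_ (le_tcTarget hW (S : Subgroup X))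
  have hconj := isConjugacyFunctor_inducedFunctor (X := X) (h.h𝓦 W hW)
  have h1 := normalizer_le_normalizer_functor hconj hSp
  rw [Subgroup.normalizer_eq_top_iff.mpr hSn, top_le_iff] at h1
  rw [h1, commutator_def]

theorem sylow_ne_top : (S : Subgroup X) ≠ ⊤ := by
  intro htop
  apply h.not_le_pCore
  have hSn : (S : Subgroup X).Normal := by rw [htop]; infer_instance
  exact Cfsg.Agent.Lib.Helper6.le_pCore hSn S.isPGroup'

theorem commutator_sylow_le :
    ⁅(S : Subgroup X), (S : Subgroup X)⁆ ≤ tcTarget 𝓦 (S : Subgroup X) :=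
  (le_inf (Subgroup.commutator_le_self _) le_rfl).trans (h.overgroup _ h.sylow_ne_top le_rfl)

/-- the reduction to `O_p(X) ∩ X'` -/
theorem pCore_inf_commutator_not_le :
    ¬ pCore p X ⊓ commutator X ≤ tcTarget 𝓦 (S : Subgroup X) := by
  intro hQc
  apply h.fail
  have hSp : IsPGroup p (S : Subgroup X) := S.isPGroup'
  have hQp : IsPGroup p (pCore p X) := Cfsg.Agent.Lib.Helper6.pCore_isPGroup p
  have hQS : pCore p X ≤ (S : Subgroup X) := Cfsg.Agent.Lib.Helper6.pCore_le_sylow S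
  have hSQ := h.not_le_pCore
  have hπ : Function.Surjective (QuotientGroup.mk' (pCore p X)) := QuotientGroup.mk'_surjective _
  have hcore : pCore p (X ⧸ pCore p X) = ⊥ := by
    rw [Cfsg.Agent.Lib.Helper6.pCore_quotient_of_isPGroup (pCore p X) hQp]
    rw [Subgroup.map_eq_bot_iff, QuotientGroup.ker_mk']
  have hSbp : IsPGroup p ((S : Subgroup X).map (QuotientGroup.mk' (pCore p X))) := hSp.map _
  have hSbne : (S : Subgroup X).map (QuotientGroup.mk' (pCore p X)) ≠ ⊥ := by
    intro hbot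
    apply hSQ
    rw [Subgroup.map_eq_bot_iff, QuotientGroup.ker_mk'] at hbot
    exact hbot
  have h1 := h.quot (pCore p X) h.pCore_ne_bot (S.mapSurjective hπ)
  rw [Sylow.coe_mapSurjective] at h1
  refine (tc_quotient_step S (pCore p X) hQS h1 ?_).trans (sup_le le_rfl hQc)
  intro W hW
  have hconj := isConjugacyFunctor_inducedFunctor (X := X ⧸ pCore p X) (h.h𝓦 W hW)
  obtain ⟨hle, hne, _⟩ := hconj _ hSbp
  apply h.overgroup
  · intro htop
    apply hne hSbne
    have hnorm : (inducedFunctor W ((S : Subgroup X).map (QuotientGroup.mk' (pCore p X)))).Normal := by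
      apply Subgroup.normalizer_eq_top_iff.mp
      rw [eq_top_iff]
      intro yb _
      obtain ⟨y, rfl⟩ := hπ yb
      have : y ∈ (Subgroup.normalizer ((inducedFunctor W ((S : Subgroup X).map
          (QuotientGroup.mk' (pCore p X))) : Subgroup (X ⧸ pCore p X)) : Set (X ⧸ pCore p X))).comap
          (QuotientGroup.mk' (pCore p X)) := by rw [htop]; exact Subgroup.mem_top y
      exact Subgroup.mem_comap.mp this
    have := Cfsg.Agent.Lib.Helper6.le_pCore hnorm (hSbp.to_le hle)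
    rw [hcore] at this
    exact le_bot_iff.mp this
  · intro s hs
    rw [Subgroup.mem_comap]
    exact le_normalizer_functor hconj hSbp ⟨s, hs, rfl⟩

/-- `C_S(O_p(X)) ≤ O_p(X)` -/
theorem inf_centralizer_le :
    (S : Subgroup X) ⊓ Subgroup.centralizer ((pCore p X : Subgroup X) : Set X) ≤ pCore p X := by
  by_contra hA
  have hSp : IsPGroup p (S : Subgroup X) := S.isPGroup'
  have hQS : pCore p X ≤ (S : Subgroup X) := Cfsg.Agent.Lib.Helper6.pCore_le_sylow S
  by_cases hG1 : (S : Subgroup X) ⊔ Subgroup.centralizer ((pCore p X : Subgroup X) : Set X) = ⊤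
  · apply h.pCore_inf_commutator_not_le
    have h1 := inf_commutator_le_of_sup_centralizer S (pCore p X) hQS hG1
    exact h1.trans h.commutator_sylow_le
  · apply h.fail
    obtain ⟨L₁, hL₁def⟩ : ∃ L₁, L₁ = (S : Subgroup X) ⊔
      Subgroup.centralizer ((pCore p X : Subgroup X) : Set X) := ⟨_, rfl⟩
    obtain ⟨L₂, hL₂def⟩ : ∃ L₂, L₂ = Subgroup.normalizer ((pCore p X ⊔ ((S : Subgroup X) ⊓
        Subgroup.centralizer ((pCore p X : Subgroup X) : Set X)) : Subgroup X) : Set X) := ⟨_, rfl⟩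
    have hL₁ne : L₁ ≠ ⊤ := by rw [hL₁def]; exact hG1
    have hL₂ne : L₂ ≠ ⊤ := by
      rw [hL₂def]
      intro htop
      apply hA
      have hn : (pCore p X ⊔ ((S : Subgroup X) ⊓
          Subgroup.centralizer ((pCore p X : Subgroup X) : Set X)) : Subgroup X).Normal :=
        Subgroup.normalizer_eq_top_iff.mp htop
      have hpg : IsPGroup p (pCore p X ⊔ ((S : Subgroup X) ⊓
          Subgroup.centralizer ((pCore p X : Subgroup X) : Set X)) : Subgroup X) :=
        hSp.to_le (sup_le hQS inf_le_left)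
      exact le_sup_right.trans (Cfsg.Agent.Lib.Helper6.le_pCore hn hpg)
    have hSL₁ : (S : Subgroup X) ≤ L₁ := by rw [hL₁def]; exact le_sup_left
    have hSL₂ : (S : Subgroup X) ≤ L₂ := by
      rw [hL₂def]
      intro s hs
      rw [mem_normalizer_iff_cj, cj_sup, cj_inf]
      have e1 : Helper7.cj s (pCore p X) = pCore p X := by
        apply mem_normalizer_iff_cj.mp
        rw [Subgroup.normalizer_eq_top_iff.mpr inferInstance]; exact Subgroup.mem_top _
      have e2 : Helper7.cj s (Subgroup.centralizer ((pCore p X : Subgroup X) : Set X)) =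
          Subgroup.centralizer ((pCore p X : Subgroup X) : Set X) := by
        apply mem_normalizer_iff_cj.mp
        rw [Subgroup.normalizer_eq_top_iff.mpr Subgroup.normal_centralizer]; exact Subgroup.mem_top _
      rw [e1, e2, cj_eq_self_of_mem hs]
    have hT₁ := h.overgroup L₁ hL₁ne hSL₁
    have hT₂ := h.overgroup L₂ hL₂ne hSL₂
    rw [commutator_def]
    apply focal_goldFam S
    intro D hD x hx a ha
    have hDS : D ≤ (S : Subgroup X) := hD.1
    obtain ⟨c, hc, n, hn, hxcn, hnD⟩ := decomp_centralizer S (pCore p X) hDS hx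
    rw [← hL₂def] at hn
    have haS : a ∈ (S : Subgroup X) := hDS ha
    have ha'S : n * a * n⁻¹ ∈ (S : Subgroup X) := hnD ⟨a, ha, rfl⟩
    have hxaS : x * a * x⁻¹ ∈ (S : Subgroup X) :=
      hDS ((Subgroup.mem_normalizer_iff.mp hx a).mp ha)
    have hcL₁ : c ∈ L₁ := by rw [hL₁def]; exact Subgroup.mem_sup_right hc
    have e1 : a⁻¹ * (n * a * n⁻¹) = ⁅a⁻¹, n⁆ := by rw [commutatorElement_def]; group
    have e2 : (n * a * n⁻¹)⁻¹ * (x * a * x⁻¹) = ⁅(n * a * n⁻¹)⁻¹, c⁆ := by
      rw [commutatorElement_def, hxcn]; group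
    have t1 : a⁻¹ * (n * a * n⁻¹) ∈ tcTarget 𝓦 (S : Subgroup X) := by
      apply hT₂
      refine ⟨Subgroup.mul_mem _ (Subgroup.inv_mem _ haS) ha'S, ?_⟩
      rw [e1]
      exact Subgroup.commutator_mem_commutator (Subgroup.inv_mem _ (hSL₂ haS)) hn
    have t2 : (n * a * n⁻¹)⁻¹ * (x * a * x⁻¹) ∈ tcTarget 𝓦 (S : Subgroup X) := by
      apply hT₁
      refine ⟨Subgroup.mul_mem _ (Subgroup.inv_mem _ ha'S) hxaS, ?_⟩
      rw [e2]
      exact Subgroup.commutator_mem_commutator (Subgroup.inv_mem _ (hSL₁ ha'S)) hcL₁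
    have e3 : a⁻¹ * (x * a * x⁻¹) = (a⁻¹ * (n * a * n⁻¹)) * ((n * a * n⁻¹)⁻¹ * (x * a * x⁻¹)) := by
      group
    rw [e3]
    exact Subgroup.mul_mem _ t1 t2

/-- `O_{p'}(X) = 1` -/
theorem pPrimeCore_eq_bot : pPrimeCore p X = ⊥ := by
  by_contra hK
  apply h.fail
  have hKc : (Nat.card (pPrimeCore p X)).Coprime p := Cfsg.Agent.Lib.Helper6.pPrimeCore_coprime p
  have hπ : Function.Surjective (QuotientGroup.mk' (pPrimeCore p X)) := QuotientGroup.mk'_surjective _
  have h1 := h.quot (pPrimeCore p X) hK (S.mapSurjective hπ)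
  rw [Sylow.coe_mapSurjective] at h1
  rintro z ⟨hzS, hzc⟩
  apply mem_tcTarget_of_quotient_pprime h.h𝓦 (pPrimeCore p X) hKc S hzS
  apply h1
  refine ⟨⟨z, hzS, rfl⟩, ?_⟩
  have : (commutator X).map (QuotientGroup.mk' (pPrimeCore p X)) ≤ commutator (X ⧸ pPrimeCore p X) := by
    rw [commutator_def, Subgroup.map_commutator, commutator_def]
    exact Subgroup.commutator_mono le_top le_top
  exact this ⟨z, hzc, rfl⟩

/-- `X` is `p`-constrained with `O_{p'}(X) = 1` -/
theorem centralizer_pCore_le :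
    Subgroup.centralizer ((pCore p X : Subgroup X) : Set X) ≤ pCore p X := by
  have h1 := centralizer_pCore_le_sup S h.inf_centralizer_le
  rw [h.pPrimeCore_eq_bot, bot_sup_eq] at h1
  exact h1

/-- every proper subgroup containing `S` normalizes `T ∩ O_p(X)` -/
theorem le_normalizer_of_ne_top (H : Subgroup X) (hSH : (S : Subgroup X) ≤ H) (hH : H ≠ ⊤) :
    H ≤ Subgroup.normalizer ((tcTarget 𝓦 (S : Subgroup X) ⊓ pCore p X : Subgroup X) : Set X) := by
  have hQS : pCore p X ≤ (S : Subgroup X) := Cfsg.Agent.Lib.Helper6.pCore_le_sylow S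
  have hQn : (pCore p X).Normal := inferInstance
  intro x hx
  rw [mem_normalizer_iff_cj]
  apply cj_eq_of_le
  intro y hy
  rw [mem_cj] at hy
  obtain ⟨hyT, hyQ⟩ := hy
  have hyQ' : y ∈ pCore p X := by
    have := hQn.conj_mem _ hyQ x
    have e : x * (x⁻¹ * y * x) * x⁻¹ = y := by group
    rwa [e] at this
  refine ⟨?_, hyQ'⟩
  have e : y = ⁅x, x⁻¹ * y * x⁆ * (x⁻¹ * y * x) := by
    rw [commutatorElement_def]; group
  rw [e]
  apply Subgroup.mul_mem _ _ hyT
  apply h.overgroup H hH hSH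
  refine ⟨?_, Subgroup.commutator_mem_commutator hx (hSH (hQS hyQ))⟩
  apply hQS
  have e2 : ⁅x, x⁻¹ * y * x⁆ = y * (x⁻¹ * y * x)⁻¹ := by
    rw [commutatorElement_def]; group
  rw [e2]
  exact Subgroup.mul_mem _ hyQ' (Subgroup.inv_mem _ hyQ)

/-- `T ∩ O_p(X)` is not normal -/
theorem normalizer_ne_top :
    Subgroup.normalizer ((tcTarget 𝓦 (S : Subgroup X) ⊓ pCore p X : Subgroup X) : Set X) ≠ ⊤ := by
  intro htop
  have hQS : pCore p X ≤ (S : Subgroup X) := Cfsg.Agent.Lib.Helper6.pCore_le_sylow S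
  have hQn : (pCore p X).Normal := inferInstance
  haveI hRn : (tcTarget 𝓦 (S : Subgroup X) ⊓ pCore p X : Subgroup X).Normal :=
    Subgroup.normalizer_eq_top_iff.mp htop
  obtain ⟨C, hCdef⟩ : ∃ C, C = centSection (pCore p X)
      (tcTarget 𝓦 (S : Subgroup X) ⊓ pCore p X : Subgroup X) := ⟨_, rfl⟩
  haveI hCn : C.Normal := by rw [hCdef]; infer_instance
  -- the normalizer of `S` is proper
  have hNne : Subgroup.normalizer ((S : Subgroup X) : Set X) ≠ ⊤ := by
    intro hN
    apply h.not_le_pCore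
    exact Cfsg.Agent.Lib.Helper6.le_pCore (Subgroup.normalizer_eq_top_iff.mp hN) S.isPGroup'
  have hSN : (S : Subgroup X) ≤ Subgroup.normalizer ((S : Subgroup X) : Set X) := Subgroup.le_normalizer
  have hNC : Subgroup.normalizer ((S : Subgroup X) : Set X) ≤ C := by
    intro n hn
    rw [hCdef, mem_centSection]
    intro z hz
    have hzn : n⁻¹ * z * n⁻¹⁻¹ ∈ pCore p X := hQn.conj_mem _ hz _
    have hQm : z⁻¹ * n⁻¹ * z * n ∈ pCore p X := by
      have := Subgroup.mul_mem _ (Subgroup.inv_mem _ hz) hzn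
      have e : z⁻¹ * (n⁻¹ * z * n⁻¹⁻¹) = z⁻¹ * n⁻¹ * z * n := by group
      rwa [e] at this
    refine ⟨?_, hQm⟩
    apply h.overgroup _ hNne hSN
    refine ⟨hQS hQm, ?_⟩
    have e : z⁻¹ * n⁻¹ * z * n = ⁅z⁻¹, n⁻¹⁆ := by rw [commutatorElement_def]; group
    rw [e]
    exact Subgroup.commutator_mem_commutator (Subgroup.inv_mem _ (hSN (hQS hz))) (Subgroup.inv_mem _ hn)
  have hSC : (S : Subgroup X) ≤ C := hSN.trans hNC
  have hCtop : C = ⊤ := by
    have h1 := Sylow.normalizer_sup_eq_top (S.subtype hSC)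
    rw [Sylow.coe_subtype, Subgroup.map_subgroupOf_eq_of_le hSC] at h1
    rw [← h1]
    exact ((sup_le hNC le_rfl).antisymm le_sup_right).symm
  apply h.pCore_inf_commutator_not_le
  apply inf_commutator_le_of_forall_mem S (pCore p X) hQS _ h.commutator_sylow_le
  intro z hz g
  have hg : g ∈ C := by rw [hCtop]; exact Subgroup.mem_top g
  rw [hCdef, mem_centSection] at hg
  have := (hg z hz).1
  have e : z⁻¹ * (g⁻¹ * z * g) = z⁻¹ * g⁻¹ * z * g := by group
  rw [e]; exact this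

end MinFail

end

end Cfsg.Agent.Lib.Helper4
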