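import Mathlib
import Cfsg.Prelude.Def_ConjugacyFunctors
import Cfsg.Prelude.Def_PLocal
import Cfsg.Agent.Lib.Helper4.KInf
import Cfsg.Agent.Lib.Helper4.KInf3
import Cfsg.Agent.Lib.Helper4.Sect1
import Cfsg.Agent.Lib.Helper4.TransferCore2
import Cfsg.Agent.Lib.Helper6.PCore

set_option autoImplicit false

/-! The K-sequence of a `p`-group `P` stays inside a subgroup `T` as soon as `T` contains a normal class-two subgroup `A`
with `[T, A] ≤ Z(A)` and every element acting on `A` cubically (and on `Z(A)` quadratically) lies in `T`. -/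

namespace Cfsg.Agent.Lib.Helper4

open Cfsg

section PLevel

variable {P : Type*} [Group P]

theorem commutator_le_of_le_normalizer {H K : Subgroup P} (h : H ≤ Subgroup.normalizer (K : Set P)) :
    ⁅H, K⁆ ≤ K := by
  rw [Subgroup.commutator_le]
  intro a ha b hb
  have h1 : a * b * a⁻¹ ∈ K := ((le_normalizer_iff_forall H K).mp h) a ha b hb
  rw [commutatorElement_def]
  exact K.mul_mem h1 (K.inv_mem hb)

theorem commutator_le_of_le_normalizer' {H K : Subgroup P} (h : H ≤ Subgroup.normalizer (K : Set P)) :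
    ⁅K, H⁆ ≤ K := by
  rw [Subgroup.commutator_comm]; exact commutator_le_of_le_normalizer h

instance zOf_normal (A : Subgroup P) [hA : A.Normal] : (zOf A).Normal := by
  constructor
  intro z hz g
  rw [zOf, Subgroup.mem_inf] at hz ⊢
  refine ⟨hA.conj_mem z hz.1 g, ?_⟩
  rw [Subgroup.mem_centralizer_iff]
  intro a ha
  have ha' : g⁻¹ * a * g ∈ A := by simpa using hA.conj_mem a ha g⁻¹
  have := (Subgroup.mem_centralizer_iff.mp hz.2) _ ha'
  calc a * (g * z * g⁻¹) = g * ((g⁻¹ * a * g) * z) * g⁻¹ := by group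
    _ = g * (z * (g⁻¹ * a * g)) * g⁻¹ := by rw [this]
    _ = g * z * g⁻¹ * a := by group

theorem zOf_commutator_eq_bot (B : Subgroup P) : ⁅zOf B, B⁆ = ⊥ := by
  rw [Subgroup.commutator_eq_bot_iff_le_centralizer]
  exact inf_le_right

theorem zOf_le (B : Subgroup P) : zOf B ≤ B := inf_le_left

theorem zOf_isMulCommutative (B : Subgroup P) : IsMulCommutative ↥(zOf B) := by
  refine ⟨⟨?_⟩⟩
  rintro ⟨a, ha⟩ ⟨b, hb⟩
  apply Subtype.ext
  have := (Subgroup.mem_centralizer_iff.mp (Subgroup.mem_inf.mp hb).2) a (Subgroup.mem_inf.mp ha).1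
  exact this

theorem zOf_comm_eq_bot (B : Subgroup P) : ⁅zOf B, zOf B⁆ = ⊥ := by
  rw [eq_bot_iff]
  exact (Subgroup.commutator_mono le_rfl (zOf_le B)).trans (zOf_commutator_eq_bot B).le

theorem iterCommutator_mono {N N' K K' : Subgroup P} (hN : N ≤ N') (hK : K ≤ K') (i : ℕ) :
    iterCommutator N K i ≤ iterCommutator N' K' i := by
  induction i with
  | zero => exact hN
  | succ i ih => exact Subgroup.commutator_mono ih hK

theorem iterCommutator_three (N K : Subgroup P) : iterCommutator N K 3 = ⁅⁅⁅N, K⁆, K⁆, K⁆ := rfl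

variable (T A : Subgroup P)

/-- the hypothesis: elements acting cubically on `A` and quadratically on `Z(A)` lie in `T` -/
def NoCubic : Prop :=
  ∀ g : P, iterCommutator A (Subgroup.zpowers g) 3 ≤ zOf A →
    ⁅⁅zOf A, Subgroup.zpowers g⁆, Subgroup.zpowers g⁆ = ⊥ → g ∈ T

variable {T A}

/-- a subgroup all of whose cyclic subgroups satisfy the two conditions lies in `T` -/
theorem NoCubic.le (H : NoCubic T A) (B : Subgroup P) (h1 : ⁅⁅⁅A, B⁆, B⁆, B⁆ ≤ zOf A)
    (h2 : ⁅⁅zOf A, B⁆, B⁆ = ⊥) : B ≤ T := by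
  intro b hb
  have hz : Subgroup.zpowers b ≤ B := (Subgroup.zpowers_le).mpr hb
  apply H b
  · exact (iterCommutator_mono le_rfl hz 3).trans h1
  · rw [eq_bot_iff, ← h2]
    exact Subgroup.commutator_mono (Subgroup.commutator_mono le_rfl hz) hz

section Nrm

variable [hAn : A.Normal]

/-- Lemma 1': `A` lies in every lower-star family -/
theorem NoCubic.mem_lower (H : NoCubic T A) (hA2 : A ∈ classTwoSubgroups P) (hTA : ⁅T, A⁆ ≤ zOf A)
    (R : Subgroup P) : A ∈ kLowerStarFamily R := by
  refine ⟨hA2, ?_, ?_⟩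
  · rw [Subgroup.normalizer_eq_top]; exact le_top
  · intro A₁ hA₁ _ hAA₁ _ h2
    have hA₁T : A₁ ≤ T := by
      apply H.le
      · have e1 : ⁅A, A₁⁆ ≤ A₁ := commutator_le_of_le_normalizer hAA₁
        have e2 : ⁅⁅⁅A, A₁⁆, A₁⁆, A₁⁆ ≤ ⁅⁅A₁, A₁⁆, A₁⁆ :=
          Subgroup.commutator_mono (Subgroup.commutator_mono e1 le_rfl) le_rfl
        rw [(mem_classTwo_iff A₁).mp hA₁] at e2
        exact e2.trans bot_le
      · exact h2
    change ⁅A, A₁⁆ ≤ zOf A
    rw [Subgroup.commutator_comm]
    exact (Subgroup.commutator_mono hA₁T le_rfl).trans hTA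

end Nrm

/-- odd stages -/
theorem NoCubic.upper_le (H : NoCubic T A) {E B : Subgroup P} (hAE : A ≤ E)
    (hB : B ∈ kUpperStarFamily E) : B ≤ T := by
  obtain ⟨_, hBE⟩ := hB
  have h1 : ⁅A, B⁆ ≤ zOf B := by
    rw [Subgroup.commutator_comm]
    exact (Subgroup.commutator_mono le_rfl hAE).trans hBE
  have h2 : ⁅⁅A, B⁆, B⁆ = ⊥ := by
    rw [eq_bot_iff, ← zOf_commutator_eq_bot B]
    exact Subgroup.commutator_mono h1 le_rfl
  apply H.le
  · rw [h2]
    have : ⁅(⊥ : Subgroup P), B⁆ = ⊥ := Subgroup.commutator_bot_left B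
    rw [this]; exact bot_le
  · rw [eq_bot_iff, ← h2]
    exact Subgroup.commutator_mono (Subgroup.commutator_mono (zOf_le A) le_rfl) le_rfl

section Nrm2

variable [hAn : A.Normal]

/-- even stages -/
theorem NoCubic.lower_le (H : NoCubic T A) {O B : Subgroup P} (hAO : A ≤ O)
    (hB : B ∈ kLowerStarFamily O) : B ≤ T := by
  obtain ⟨hB2, hOB, hBt⟩ := hB
  have hAB : ⁅A, B⁆ ≤ B := commutator_le_of_le_normalizer (hAO.trans hOB)
  apply H.le
  · have e2 : ⁅⁅⁅A, B⁆, B⁆, B⁆ ≤ ⁅⁅B, B⁆, B⁆ :=
      Subgroup.commutator_mono (Subgroup.commutator_mono hAB le_rfl) le_rfl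
    rw [(mem_classTwo_iff B).mp hB2] at e2
    exact e2.trans bot_le
  · have key := hBt (zOf A) (abelian_mem_classTwo _ (zOf_isMulCommutative A)) ((zOf_le A).trans hAO)
      (by rw [Subgroup.normalizer_eq_top]; exact le_top)
      (by rw [zOf_comm_eq_bot]; exact Subgroup.commutator_bot_right B)
      (by
        have e1 : ⁅B ⊓ Subgroup.centralizer (B : Set P), zOf A⁆ ≤ zOf A := Subgroup.commutator_le_right _ _
        rw [eq_bot_iff, ← zOf_comm_eq_bot A]
        exact Subgroup.commutator_mono e1 le_rfl)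
    change ⁅B, zOf A⁆ ≤ zOf B at key
    rw [eq_bot_iff, ← zOf_commutator_eq_bot B]
    apply Subgroup.commutator_mono _ le_rfl
    rw [Subgroup.commutator_comm]
    exact key

/-- **the K-sequence stays inside `T`** -/
theorem NoCubic.kSeq_le (H : NoCubic T A) (hA2 : A ∈ classTwoSubgroups P)
    (hTA : ⁅T, A⁆ ≤ zOf A) (n : ℕ) :
    A ≤ kSeqOdd P n ∧ kSeqEven P n ≤ T ∧ kSeqOdd P (n + 1) ≤ T := by
  have hE : ∀ n, A ≤ kSeqEven P n := fun n => le_sSup (H.mem_lower hA2 hTA _)
  have step : ∀ n, A ≤ kSeqOdd P n → kSeqEven P n ≤ T ∧ kSeqOdd P (n + 1) ≤ T := by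
    intro n hAn'
    refine ⟨sSup_le fun B hB => H.lower_le hAn' hB, sSup_le fun B hB => ?_⟩
    exact H.upper_le (hE n) hB
  induction n with
  | zero => exact ⟨le_top, step 0 le_top⟩
  | succ n ih =>
    have hA' : A ≤ kSeqOdd P (n + 1) := by
      apply le_sSup
      refine ⟨hA2, ?_⟩
      change ⁅A, kSeqEven P n⁆ ≤ zOf A
      rw [Subgroup.commutator_comm]
      exact (Subgroup.commutator_mono ih.2.1 le_rfl).trans hTA
    exact ⟨hA', step (n + 1) hA'⟩

end Nrm2

end PLevel

section GLevel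

universe u

theorem iterCommutator_map {X Y : Type*} [Group X] [Group Y] (f : X →* Y) (N K : Subgroup X) (i : ℕ) :
    (iterCommutator N K i).map f = iterCommutator (N.map f) (K.map f) i := by
  induction i with
  | zero => rfl
  | succ i ih =>
    change (⁅iterCommutator N K i, K⁆).map f = ⁅iterCommutator (N.map f) (K.map f) i, K.map f⁆
    rw [Subgroup.map_commutator, ih]

/-- transport of the K-infinity subgroups from a subgroup `T ≤ S` containing all K-terms of `S` -/
theorem inducedFunctor_kInf_eq_of_kSeq_le {G : Type u} [Group G] (S T : Subgroup G) (hTS : T ≤ S)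
    (h : ∀ n : ℕ, kSeqEven ↥S n ≤ T.subgroupOf S ∧ kSeqOdd ↥S (n + 1) ≤ T.subgroupOf S) :
    inducedFunctor kInfLower S = inducedFunctor kInfLower T ∧
      inducedFunctor kInfUpper S = inducedFunctor kInfUpper T := by
  have key := kInf_map_of_injective (T.subgroupOf S).subtype (T.subgroupOf S).subtype_injective
    (by intro n; rw [Subgroup.range_subtype]; exact h n)
  let e : ↥(T.subgroupOf S) ≃* ↥T := Subgroup.subgroupOfEquivOfLe hTS
  have hcomp : S.subtype.comp (T.subgroupOf S).subtype = T.subtype.comp e.toMonoidHom := by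
    ext x; rfl
  constructor
  · unfold inducedFunctor
    rw [← key.1, ← kInfLower_map_equiv e, Subgroup.map_map, Subgroup.map_map, hcomp]
  · unfold inducedFunctor
    rw [← key.2, ← kInfUpper_map_equiv e, Subgroup.map_map, Subgroup.map_map, hcomp]

variable {G : Type u} [Group G] [Finite G] {p : ℕ} [Fact p.Prime]

/-- **Theorem K-semi**: if no element of `S` outside `O_p(G)` acts cubically on `A` and quadratically on `Z(A)`, the K-infinity
subgroups of `S` coincide with those of `O_p(G)`. -/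
theorem kInf_eq_of_noCubic (S : Sylow p G) (A : Subgroup G) (hAT : A ≤ pCore p G)
    (hAS : (S : Subgroup G) ≤ Subgroup.normalizer (A : Set G))
    (hA2 : ⁅A, A⁆ ≤ Subgroup.centralizer (A : Set G))
    (hTA : ⁅pCore p G, A⁆ ≤ A ⊓ Subgroup.centralizer (A : Set G))
    (H : ∀ g ∈ (S : Subgroup G), iterCommutator A (Subgroup.zpowers g) 3 ≤ A ⊓ Subgroup.centralizer (A : Set G) →
      ⁅⁅A ⊓ Subgroup.centralizer (A : Set G), Subgroup.zpowers g⁆, Subgroup.zpowers g⁆ = ⊥ → g ∈ pCore p G) :
    inducedFunctor kInfLower (S : Subgroup G) = inducedFunctor kInfLower (pCore p G) ∧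
      inducedFunctor kInfUpper (S : Subgroup G) = inducedFunctor kInfUpper (pCore p G) := by
  have hTS : pCore p G ≤ (S : Subgroup G) := Cfsg.Agent.Lib.Helper6.pCore_le_sylow S
  have hA_S : A ≤ (S : Subgroup G) := hAT.trans hTS
  apply inducedFunctor_kInf_eq_of_kSeq_le _ _ hTS
  set ι := (S : Subgroup G).subtype with hι
  have hinj : Function.Injective ι := Subgroup.subtype_injective _
  have hmapA : (A.subgroupOf (S : Subgroup G)).map ι = A := Subgroup.map_subgroupOf_eq_of_le hA_S
  have hmapT : ((pCore p G).subgroupOf (S : Subgroup G)).map ι = pCore p G :=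
    Subgroup.map_subgroupOf_eq_of_le hTS
  haveI hAn : (A.subgroupOf (S : Subgroup G)).Normal := by
    rw [← Subgroup.normalizer_eq_top_iff, eq_top_iff]
    rw [← map_le_normalizer_map_iff ι hinj, hmapA]
    rintro _ ⟨x, -, rfl⟩
    exact hAS x.2
  have hA2' : A.subgroupOf (S : Subgroup G) ∈ classTwoSubgroups ↥(S : Subgroup G) := by
    rw [← map_mem_classTwo_iff ι hinj, hmapA]
    exact hA2
  have hTA' : ⁅(pCore p G).subgroupOf (S : Subgroup G), A.subgroupOf (S : Subgroup G)⁆ ≤
      zOf (A.subgroupOf (S : Subgroup G)) := by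
    rw [← map_le_zOf_map_iff ι hinj, Subgroup.map_commutator, hmapA, hmapT]
    exact hTA
  have HN : NoCubic ((pCore p G).subgroupOf (S : Subgroup G)) (A.subgroupOf (S : Subgroup G)) := by
    intro g h1 h2
    rw [Subgroup.mem_subgroupOf]
    apply H (g : G) g.2
    · have := (map_le_zOf_map_iff ι hinj _ _).mpr h1
      rw [iterCommutator_map, hmapA, MonoidHom.map_zpowers] at this
      exact this
    · have := congrArg (Subgroup.map ι) h2
      rw [Subgroup.map_commutator, Subgroup.map_commutator, map_zOf ι hinj, hmapA, MonoidHom.map_zpowers,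
        Subgroup.map_bot] at this
      exact this
  intro n
  exact (HN.kSeq_le hA2' hTA' n).2

/-- the value of a conjugacy functor at `O_p(G)` is normal -/
theorem inducedFunctor_pCore_normal {W : ∀ (Q : Type u) [Group Q], Subgroup Q} (hW : IsCharPFunctor.{u} p W) :
    (inducedFunctor (G := G) W (pCore p G)).Normal := by
  rw [← Subgroup.normalizer_eq_top_iff, eq_top_iff]
  have hn : (pCore p G).Normal := Cfsg.pCore_normal p G
  have h := normalizer_le_normalizer_functor (isConjugacyFunctor_inducedFunctor (X := G) hW)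
    (Cfsg.Agent.Lib.Helper6.pCore_isPGroup (G := G) p)
  rw [Subgroup.normalizer_eq_top_iff.mpr hn] at h
  exact h

end GLevel

end Cfsg.Agent.Lib.Helper4
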