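import Mathlib

set_option autoImplicit false

namespace Cfsg.Agent.Lib.Helper4

section OpNil

variable {H : Type*} [AddCommGroup H]

/-- two commuting operators, one unipotent of degree `t` and the other of degree `s` at `φ`: their product is
unipotent of degree `s + t - 1` at `φ` -/
theorem opNil (L R : Module.End ℤ H) (hLR : Commute L R) :
    ∀ (k s t : ℕ) (φ : H), ((R - 1) ^ s) φ = 0 → ((L - 1) ^ t) φ = 0 → s + t ≤ k + 1 →
      ((L * R - 1) ^ k) φ = 0 := by
  have c1 : Commute (L - 1) R := (hLR.sub_left (Commute.one_left R))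
  have c2 : Commute (L - 1) (R - 1) := c1.sub_right (Commute.one_right _)
  have c3 : Commute R (R - 1) := (Commute.refl R).sub_right (Commute.one_right _)
  intro k
  induction k with
  | zero =>
    intro s t φ hs ht hst
    have : s = 0 ∨ t = 0 := by omega
    rcases this with rfl | rfl
    · simpa using hs
    · simpa using ht
  | succ k ih =>
    intro s t φ hs ht hst
    rcases Nat.eq_zero_or_pos s with rfl | hs0
    · have : φ = 0 := by simpa using hs
      rw [this, map_zero]
    rcases Nat.eq_zero_or_pos t with rfl | ht0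
    · have : φ = 0 := by simpa using ht
      rw [this, map_zero]
    obtain ⟨s', rfl⟩ : ∃ s', s = s' + 1 := ⟨s - 1, by omega⟩
    obtain ⟨t', rfl⟩ : ∃ t', t = t' + 1 := ⟨t - 1, by omega⟩
    have e : L * R - 1 = (L - 1) * R + (R - 1) := by noncomm_ring
    have e' : (L * R - 1) φ = ((L - 1) * R) φ + (R - 1) φ := by rw [e, LinearMap.add_apply]
    rw [pow_succ, Module.End.mul_apply, e', map_add]
    have h1 : ((L * R - 1) ^ k) (((L - 1) * R) φ) = 0 := by
      apply ih (s' + 1) t'
      · have : (R - 1) ^ (s' + 1) * ((L - 1) * R) = ((L - 1) * R) * (R - 1) ^ (s' + 1) := by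
          have := ((c2.symm.mul_right c3.symm).pow_left (s' + 1))
          exact this.eq
        rw [← Module.End.mul_apply, this, Module.End.mul_apply, hs, map_zero]
      · have : (L - 1) ^ t' * ((L - 1) * R) = R * (L - 1) ^ (t' + 1) := by
          rw [← mul_assoc, ← pow_succ]
          exact ((c1.pow_left (t' + 1))).eq
        rw [← Module.End.mul_apply, this, Module.End.mul_apply, ht, map_zero]
      · omega
    have h2 : ((L * R - 1) ^ k) ((R - 1) φ) = 0 := by
      apply ih s' (t' + 1)
      · rw [← Module.End.mul_apply, ← pow_succ, hs]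
      · rw [← Module.End.mul_apply, (c2.pow_left (t' + 1)).eq, Module.End.mul_apply, ht, map_zero]
      · omega
    rw [h1, h2, add_zero]

end OpNil

end Cfsg.Agent.Lib.Helper4
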