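import Mathlib
import Cfsg.Prelude.Def_PLocal
import Cfsg.Prelude.Def_LocalEven
import Cfsg.Agent.Lib.Helper4.OpNil
import Cfsg.Agent.Lib.Helper4.KInf3
import Cfsg.Agent.Lib.Helper4.KSemi
import Cfsg.Agent.Lib.Helper4.TransferCore2

set_option autoImplicit false
open scoped commutatorElement

/-! The Engel degree of an element on the chief factors of a normal `p`-subgroup, through those of a critical subgroup. -/

namespace Cfsg.Agent.Lib.Helper4

open Cfsg

section Pairing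

variable {G : Type*} [Group G]

/-- iterating `x ↦ x⁻¹ * (u x u⁻¹)` on a normal subgroup lands in the iterated commutators -/
theorem iterate_comm_mem (N : Subgroup G) [hN : N.Normal] (u : G) (k : ℕ) (x : ↥N) :
    (((fun y : ↥N => y⁻¹ * (MulAut.conjNormal u : MulAut ↥N) y)^[k] x : ↥N) : G) ∈
      iterCommutator N (Subgroup.zpowers u) k := by
  induction k with
  | zero => exact x.2
  | succ k ih =>
    rw [Function.iterate_succ_apply']
    set y := (fun y : ↥N => y⁻¹ * (MulAut.conjNormal u : MulAut ↥N) y)^[k] x with hy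
    show ((y⁻¹ * (MulAut.conjNormal u : MulAut ↥N) y : ↥N) : G) ∈
      ⁅iterCommutator N (Subgroup.zpowers u) k, Subgroup.zpowers u⁆
    rw [Subgroup.coe_mul, MulAut.conjNormal_apply, Subgroup.coe_inv]
    have h2 : (y : G)⁻¹ * (u * (y : G) * u⁻¹) = ⁅(y : G)⁻¹, u⁆ := by
      rw [commutatorElement_def]; group
    rw [h2]
    exact Subgroup.commutator_mem_commutator (Subgroup.inv_mem _ ih) (Subgroup.mem_zpowers u)

/-- **the pairing lemma**: a commutator pairing `X₁/X₀ × M₁ → Y₁/Y₀` on which `g` acts with degree `i` on `X₁/X₀` and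
degree `j` on `Y₁/Y₀` forces `[X₁, [M₁, g; i+j-1]] ≤ Y₀`. -/
theorem pairing_engel (g : G) (hg : IsOfFinOrder g) (X₁ X₀ M₁ Y₁ Y₀ : Subgroup G)
    [hX₁ : X₁.Normal] [hM₁ : M₁.Normal] [hY₁ : Y₁.Normal] [hY₀ : Y₀.Normal]
    (h1 : ⁅X₁, M₁⁆ ≤ Y₁) (h2 : ⁅X₀, M₁⁆ ≤ Y₀) (h3 : ⁅Y₁, X₁⁆ ≤ Y₀) (h4 : ⁅Y₁, M₁⁆ ≤ Y₀)
    (h5 : ⁅Y₁, Y₁⁆ ≤ Y₀)
    (i j : ℕ) (hi : iterCommutator X₁ (Subgroup.zpowers g) i ≤ X₀)
    (hj : iterCommutator Y₁ (Subgroup.zpowers g) j ≤ Y₀) :
    ⁅X₁, iterCommutator M₁ (Subgroup.zpowers g) (i + j - 1)⁆ ≤ Y₀ := by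
  classical
  -- the quotient
  let π : G →* G ⧸ Y₀ := QuotientGroup.mk' Y₀
  have hπ1 : ∀ y : G, π y = 1 ↔ y ∈ Y₀ := fun y => QuotientGroup.eq_one_iff y
  obtain ⟨Yb, hYb⟩ : ∃ Yb : Subgroup (G ⧸ Y₀), Yb = Y₁.map π := ⟨_, rfl⟩
  have hYbn : Yb.Normal := by
    rw [hYb]; exact Subgroup.Normal.map hY₁ π (QuotientGroup.mk'_surjective Y₀)
  have hcomm : ∀ a b : ↥Yb, a * b = b * a := by
    rintro ⟨a, ha⟩ ⟨b, hb⟩
    rw [hYb] at ha hb
    obtain ⟨y₁, hy₁, rfl⟩ := ha
    obtain ⟨y₂, hy₂, rfl⟩ := hb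
    apply Subtype.ext
    show π y₁ * π y₂ = π y₂ * π y₁
    rw [← map_mul, ← map_mul, ← mul_inv_eq_one, ← map_inv, ← map_mul, hπ1]
    have : y₁ * y₂ * (y₂ * y₁)⁻¹ = ⁅y₁, y₂⁆ := by rw [commutatorElement_def]; group
    rw [this]
    exact h5 (Subgroup.commutator_mem_commutator hy₁ hy₂)
  letI : CommGroup ↥Yb := { (inferInstance : Group ↥Yb) with mul_comm := hcomm }
  let θ : ↥Y₁ →* ↥Yb :=
    { toFun := fun y => ⟨π y, by rw [hYb]; exact Subgroup.mem_map_of_mem π y.2⟩
      map_one' := by apply Subtype.ext; simp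
      map_mul' := by intro a b; apply Subtype.ext; simp }
  have hθ1 : ∀ y : ↥Y₁, θ y = 1 ↔ (y : G) ∈ Y₀ := by
    intro y
    rw [← hπ1]
    constructor
    · intro h; exact congrArg Subtype.val h
    · intro h; exact Subtype.ext h
  have hθsurj : Function.Surjective θ := by
    rintro ⟨a, ha⟩
    rw [hYb] at ha
    obtain ⟨y, hy, rfl⟩ := ha
    exact ⟨⟨y, hy⟩, rfl⟩
  -- invariance of θ under conjugation by elements centralizing `Y₁ / Y₀`
  have hθconj : ∀ (t : G), (∀ y ∈ Y₁, ⁅t, y⁆ ∈ Y₀) → ∀ y : ↥Y₁,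
      θ ((MulAut.conjNormal t : MulAut ↥Y₁) y) = θ y := by
    intro t ht y
    rw [← mul_inv_eq_one, ← map_inv, ← map_mul, hθ1, Subgroup.coe_mul, Subgroup.coe_inv,
      MulAut.conjNormal_apply]
    have := ht y y.2
    rwa [commutatorElement_def] at this
  have hθX : ∀ (t : G), t ∈ X₁ → ∀ y : ↥Y₁, θ ((MulAut.conjNormal t : MulAut ↥Y₁) y) = θ y := by
    intro t ht
    apply hθconj
    intro y hy
    have : ⁅t, y⁆ ∈ ⁅X₁, Y₁⁆ := Subgroup.commutator_mem_commutator ht hy
    rw [Subgroup.commutator_comm] at this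
    exact h3 this
  have hθM : ∀ (t : G), t ∈ M₁ → ∀ y : ↥Y₁, θ ((MulAut.conjNormal t : MulAut ↥Y₁) y) = θ y := by
    intro t ht
    apply hθconj
    intro y hy
    have : ⁅t, y⁆ ∈ ⁅M₁, Y₁⁆ := Subgroup.commutator_mem_commutator ht hy
    rw [Subgroup.commutator_comm] at this
    exact h4 this
  -- the action of `g` on the quotient
  let cM : ↥Yb →* ↥Yb := (MulAut.conjNormal (π g) : MulAut ↥Yb).toMonoidHom
  have hθg : ∀ y : ↥Y₁, θ ((MulAut.conjNormal g : MulAut ↥Y₁) y) = cM (θ y) := by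
    intro y
    apply Subtype.ext
    show π (((MulAut.conjNormal g : MulAut ↥Y₁) y : ↥Y₁) : G) = (((MulAut.conjNormal (π g) : MulAut ↥Yb) (θ y) : ↥Yb) : G ⧸ Y₀)
    rw [MulAut.conjNormal_apply, MulAut.conjNormal_apply, map_mul, map_mul, map_inv]
    rfl
  let c : Module.End ℤ (Additive ↥Yb) := (MonoidHom.toAdditive cM).toIntLinearMap
  have hc_apply : ∀ a : ↥Yb, c (Additive.ofMul a) = Additive.ofMul (cM a) := fun a => rfl
  -- the pairing
  let κ : ↥X₁ → ↥M₁ → ↥Y₁ := fun x m =>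
    ⟨⁅(x : G), (m : G)⁆, h1 (Subgroup.commutator_mem_commutator x.2 m.2)⟩
  let φ : ↥M₁ → (↥X₁ → Additive ↥Yb) := fun m x => Additive.ofMul (θ (κ x m))
  have hφ_apply : ∀ m x, φ m x = Additive.ofMul (θ (κ x m)) := fun m x => rfl
  -- additivity in x
  have hφx : ∀ (m : ↥M₁) (x y : ↥X₁), φ m (x * y) = φ m x + φ m y := by
    intro m x y
    have e : κ (x * y) m = (MulAut.conjNormal (x : G) : MulAut ↥Y₁) (κ y m) * κ x m := by
      apply Subtype.ext
      rw [Subgroup.coe_mul, MulAut.conjNormal_apply]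
      show ⁅((x * y : ↥X₁) : G), (m : G)⁆ = (x : G) * ⁅(y : G), (m : G)⁆ * (x : G)⁻¹ * ⁅(x : G), (m : G)⁆
      rw [Subgroup.coe_mul, commutatorElement_def, commutatorElement_def, commutatorElement_def]
      group
    rw [hφ_apply, e, map_mul, hθX _ x.2, mul_comm, ofMul_mul]
  -- additivity in m
  have hφm : ∀ (m n : ↥M₁), φ (m * n) = φ m + φ n := by
    intro m n
    funext x
    have e : κ x (m * n) = κ x m * (MulAut.conjNormal (m : G) : MulAut ↥Y₁) (κ x n) := by
      apply Subtype.ext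
      rw [Subgroup.coe_mul, MulAut.conjNormal_apply]
      show ⁅(x : G), ((m * n : ↥M₁) : G)⁆ = ⁅(x : G), (m : G)⁆ * ((m : G) * ⁅(x : G), (n : G)⁆ * (m : G)⁻¹)
      rw [Subgroup.coe_mul, commutatorElement_def, commutatorElement_def, commutatorElement_def]
      group
    rw [Pi.add_apply, hφ_apply, e, map_mul, hθM _ m.2, ofMul_mul]
  have hφ1 : φ 1 = 0 := by
    have := hφm 1 1
    rw [mul_one] at this
    exact (add_eq_left.mp this.symm)
  have hφinv : ∀ m : ↥M₁, φ m⁻¹ = - φ m := by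
    intro m
    have := hφm m m⁻¹
    rw [mul_inv_cancel, hφ1] at this
    exact (neg_eq_of_add_eq_zero_right this.symm).symm
  -- vanishing on X₀
  have hφX₀ : ∀ (m : ↥M₁) (x : ↥X₁), (x : G) ∈ X₀ → φ m x = 0 := by
    intro m x hx
    rw [hφ_apply]
    have : θ (κ x m) = 1 := by
      rw [hθ1]
      exact h2 (Subgroup.commutator_mem_commutator hx m.2)
    rw [this]; rfl
  -- the operators
  let τX : ↥X₁ → ↥X₁ := fun x => (MulAut.conjNormal g⁻¹ : MulAut ↥X₁) x
  let R : Module.End ℤ (↥X₁ → Additive ↥Yb) := LinearMap.funLeft ℤ (Additive ↥Yb) τX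
  let L : Module.End ℤ (↥X₁ → Additive ↥Yb) := c.compLeft ↥X₁
  have hR_apply : ∀ (ψ : ↥X₁ → Additive ↥Yb) (x : ↥X₁), R ψ x = ψ (τX x) := fun ψ x => rfl
  have hL_apply : ∀ (ψ : ↥X₁ → Additive ↥Yb) (x : ↥X₁), L ψ x = c (ψ x) := fun ψ x => rfl
  have hLR : Commute L R := by
    apply LinearMap.ext
    intro ψ
    funext x
    rfl
  -- (R - 1)^k on homomorphisms
  let εX : ↥X₁ → ↥X₁ := fun y => y⁻¹ * (MulAut.conjNormal g⁻¹ : MulAut ↥X₁) y
  have hRpow : ∀ (k : ℕ) (ψ : ↥X₁ → Additive ↥Yb), (∀ x y, ψ (x * y) = ψ x + ψ y) →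
      ∀ x, ((R - 1) ^ k) ψ x = ψ (εX^[k] x) := by
    intro k
    induction k with
    | zero => intro ψ _ x; simp
    | succ k ih =>
      intro ψ hψ x
      have hψ1 : ψ 1 = 0 := by
        have := hψ 1 1
        rw [mul_one] at this
        exact add_eq_left.mp this.symm
      have hψinv : ∀ y, ψ y⁻¹ = - ψ y := by
        intro y
        have := hψ y y⁻¹
        rw [mul_inv_cancel, hψ1] at this
        exact (neg_eq_of_add_eq_zero_right this.symm).symm
      have hψ' : ∀ x y, ((R - 1) ψ) (x * y) = ((R - 1) ψ) x + ((R - 1) ψ) y := by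
        intro x y
        show R ψ (x * y) - ψ (x * y) = (R ψ x - ψ x) + (R ψ y - ψ y)
        rw [hR_apply, hR_apply, hR_apply]
        have : τX (x * y) = τX x * τX y := map_mul _ _ _
        rw [this, hψ, hψ]
        abel
      rw [pow_succ, Module.End.mul_apply, ih _ hψ', Function.iterate_succ_apply']
      show R ψ (εX^[k] x) - ψ (εX^[k] x) = ψ (εX (εX^[k] x))
      rw [hR_apply]
      show _ = ψ ((εX^[k] x)⁻¹ * τX (εX^[k] x))
      rw [hψ, hψinv]
      abel
  have hR0 : ∀ m : ↥M₁, ((R - 1) ^ i) (φ m) = 0 := by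
    intro m
    funext x
    rw [hRpow i (φ m) (hφx m) x]
    apply hφX₀
    apply hi
    have h := iterate_comm_mem X₁ g⁻¹ i x
    have e : Subgroup.zpowers g⁻¹ = Subgroup.zpowers g := Subgroup.zpowers_inv
    rw [e] at h
    exact h
  -- (L - 1)^k
  have hLpow : ∀ (k : ℕ) (ψ : ↥X₁ → Additive ↥Yb) (x : ↥X₁), ((L - 1) ^ k) ψ x = ((c - 1) ^ k) (ψ x) := by
    intro k
    induction k with
    | zero => intro ψ x; simp
    | succ k ih =>
      intro ψ x
      rw [pow_succ, Module.End.mul_apply, ih, pow_succ, Module.End.mul_apply]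
      rfl
  let εY : ↥Y₁ → ↥Y₁ := fun y => y⁻¹ * (MulAut.conjNormal g : MulAut ↥Y₁) y
  have hcpow : ∀ (k : ℕ) (y : ↥Y₁), ((c - 1) ^ k) (Additive.ofMul (θ y)) = Additive.ofMul (θ (εY^[k] y)) := by
    intro k
    induction k with
    | zero => intro y; simp
    | succ k ih =>
      intro y
      rw [pow_succ', Module.End.mul_apply, ih, Function.iterate_succ_apply']
      show c (Additive.ofMul (θ (εY^[k] y))) - Additive.ofMul (θ (εY^[k] y)) = _
      rw [hc_apply, ← hθg]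
      show _ = Additive.ofMul (θ ((εY^[k] y)⁻¹ * (MulAut.conjNormal g : MulAut ↥Y₁) (εY^[k] y)))
      rw [map_mul, map_inv, ofMul_mul, ofMul_inv]
      abel
  have hc0 : ∀ a : Additive ↥Yb, ((c - 1) ^ j) a = 0 := by
    intro a
    obtain ⟨y, hy⟩ := hθsurj (Additive.toMul a)
    have : a = Additive.ofMul (θ y) := by rw [hy]; rfl
    rw [this, hcpow]
    have h : θ (εY^[j] y) = 1 := by
      rw [hθ1]
      exact hj (iterate_comm_mem Y₁ g j y)
    rw [h]; rfl
  have hL0 : ∀ ψ : ↥X₁ → Additive ↥Yb, ((L - 1) ^ j) ψ = 0 := by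
    intro ψ
    funext x
    rw [hLpow, hc0]
    rfl
  -- the main vanishing
  have main : ∀ m : ↥M₁, ((L * R - 1) ^ (i + j - 1)) (φ m) = 0 := by
    intro m
    exact opNil L R hLR (i + j - 1) i j (φ m) (hR0 m) (hL0 _) (by omega)
  -- the action on M₁
  have hLRφ : ∀ m : ↥M₁, (L * R) (φ m) = φ ((MulAut.conjNormal g : MulAut ↥M₁) m) := by
    intro m
    funext x
    rw [Module.End.mul_apply, hL_apply, hR_apply, hφ_apply, hφ_apply, hc_apply, ← hθg]
    congr 2
    apply Subtype.ext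
    rw [MulAut.conjNormal_apply]
    show g * ⁅((τX x : ↥X₁) : G), (m : G)⁆ * g⁻¹ = ⁅(x : G), (((MulAut.conjNormal g : MulAut ↥M₁) m : ↥M₁) : G)⁆
    have e1 : ((τX x : ↥X₁) : G) = g⁻¹ * (x : G) * g⁻¹⁻¹ := MulAut.conjNormal_apply _ _
    rw [e1, MulAut.conjNormal_apply, commutatorElement_def, commutatorElement_def]
    group
  have hLRpow : ∀ (n : ℕ) (m : ↥M₁), ((L * R) ^ n) (φ m) = φ (((MulAut.conjNormal g : MulAut ↥M₁) ^ n) m) := by
    intro n
    induction n with
    | zero => intro m; simp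
    | succ n ih =>
      intro m
      rw [pow_succ, Module.End.mul_apply, hLRφ, ih, pow_succ, MulAut.mul_apply]
  -- the subgroups S_k
  obtain ⟨d, hd⟩ : ∃ d, d = i + j - 1 := ⟨_, rfl⟩
  rw [← hd] at main ⊢
  let Sk : ℕ → Subgroup G := fun k =>
    { carrier := {w | ∃ h : w ∈ M₁, ((L * R - 1) ^ (d - k)) (φ ⟨w, h⟩) = 0}
      one_mem' := ⟨M₁.one_mem, by
        have : (⟨1, M₁.one_mem⟩ : ↥M₁) = 1 := rfl
        rw [this, hφ1, map_zero]⟩
      mul_mem' := by
        rintro a b ⟨ha, ha'⟩ ⟨hb, hb'⟩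
        refine ⟨M₁.mul_mem ha hb, ?_⟩
        have : (⟨a * b, M₁.mul_mem ha hb⟩ : ↥M₁) = ⟨a, ha⟩ * ⟨b, hb⟩ := rfl
        rw [this, hφm, map_add, ha', hb', add_zero]
      inv_mem' := by
        rintro a ⟨ha, ha'⟩
        refine ⟨M₁.inv_mem ha, ?_⟩
        have : (⟨a⁻¹, M₁.inv_mem ha⟩ : ↥M₁) = ⟨a, ha⟩⁻¹ := rfl
        rw [this, hφinv, map_neg, ha', neg_zero] }
  have hSk : ∀ k, iterCommutator M₁ (Subgroup.zpowers g) k ≤ Sk k := by
    intro k
    induction k with
    | zero =>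
      intro w hw
      exact ⟨hw, by rw [Nat.sub_zero]; exact main _⟩
    | succ k ih =>
      show ⁅iterCommutator M₁ (Subgroup.zpowers g) k, Subgroup.zpowers g⁆ ≤ Sk (k + 1)
      rw [Subgroup.commutator_le]
      intro w hw u hu
      obtain ⟨hwM, hw0⟩ := ih hw
      rw [← hg.mem_powers_iff_mem_zpowers] at hu
      obtain ⟨n, rfl⟩ := hu
      have hmem : ⁅w, g ^ n⁆ ∈ M₁ := by
        rw [commutatorElement_def]
        have := hM₁.conj_mem _ (M₁.inv_mem hwM) (g ^ n)
        rw [mul_assoc, mul_assoc]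
        rw [← mul_assoc (g ^ n)]
        exact M₁.mul_mem hwM this
      refine ⟨hmem, ?_⟩
      have e : (⟨⁅w, g ^ n⁆, hmem⟩ : ↥M₁) =
          ⟨w, hwM⟩ * (((MulAut.conjNormal g : MulAut ↥M₁) ^ n) (⟨w, hwM⟩⁻¹)) := by
        apply Subtype.ext
        show ⁅w, g ^ n⁆ = w * ((((MulAut.conjNormal g : MulAut ↥M₁) ^ n) (⟨w, hwM⟩⁻¹) : ↥M₁) : G)
        rw [← map_pow, MulAut.conjNormal_apply, commutatorElement_def, Subgroup.coe_inv]
        group
      rw [e, hφm, ← hLRpow, hφinv, map_neg]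
      have e2 : φ ⟨w, hwM⟩ + -(((L * R) ^ n) (φ ⟨w, hwM⟩)) = -(((L * R) ^ n - 1) (φ ⟨w, hwM⟩)) := by
        rw [LinearMap.sub_apply, Module.End.one_apply]; abel
      rw [e2, map_neg, neg_eq_zero, ← geom_sum_mul, Module.End.mul_apply, ← Module.End.mul_apply,
        ← Module.End.mul_apply]
      have hcm : Commute ((L * R - 1) ^ (d - (k + 1))) (∑ l ∈ Finset.range n, (L * R) ^ l) := by
        apply Commute.pow_left
        apply Commute.sum_right
        intro l _
        apply Commute.pow_right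
        exact (Commute.refl (L * R)).sub_left (Commute.one_left _)
      rw [mul_assoc, ← mul_assoc, hcm.eq, mul_assoc, Module.End.mul_apply]
      rcases Nat.lt_or_ge k d with hkd | hkd
      · have : (L * R - 1) ^ (d - (k + 1)) * (L * R - 1) = (L * R - 1) ^ (d - k) := by
          rw [← pow_succ]; congr 1; omega
        rw [this, hw0, map_zero]
      · have h0 : d - k = 0 := by omega
        rw [h0, pow_zero, Module.End.one_apply] at hw0
        rw [Module.End.mul_apply, hw0, map_zero, map_zero, map_zero]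
  -- conclusion
  rw [Subgroup.commutator_le]
  intro x hx w hw
  obtain ⟨hwM, hw0⟩ := hSk d hw
  rw [Nat.sub_self, pow_zero, Module.End.one_apply] at hw0
  have := congrFun hw0 ⟨x, hx⟩
  rw [hφ_apply] at this
  have h' : θ (κ ⟨x, hx⟩ ⟨w, hwM⟩) = 1 := this
  rw [hθ1] at h'
  exact h'

end Pairing


section Chief

variable {G : Type*} [Group G]

theorem le_normalizer_commutator_right (A K : Subgroup G) :
    K ≤ Subgroup.normalizer ((⁅A, K⁆ : Subgroup G) : Set G) := by
  rw [le_normalizer_iff_forall]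
  intro k' hk' z hz
  rw [Subgroup.commutator_def] at hz
  induction hz using Subgroup.closure_induction with
  | mem z hz =>
    obtain ⟨a, ha, k, hk, rfl⟩ := hz
    have e : k' * ⁅a, k⁆ * k'⁻¹ = ⁅a, k'⁆⁻¹ * ⁅a, k' * k⁆ := by
      rw [commutatorElement_def, commutatorElement_def, commutatorElement_def]; group
    rw [e]
    exact Subgroup.mul_mem _ (Subgroup.inv_mem _ (Subgroup.commutator_mem_commutator ha hk'))
      (Subgroup.commutator_mem_commutator ha (K.mul_mem hk' hk))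
  | one => simp
  | mul x y _ _ hx hy =>
    have e : k' * (x * y) * k'⁻¹ = (k' * x * k'⁻¹) * (k' * y * k'⁻¹) := by group
    rw [e]; exact Subgroup.mul_mem _ hx hy
  | inv x _ hx =>
    have e : k' * x⁻¹ * k'⁻¹ = (k' * x * k'⁻¹)⁻¹ := by group
    rw [e]; exact Subgroup.inv_mem _ hx

theorem iterCommutator_le_of_normal (U K : Subgroup G) [hU : U.Normal] (k : ℕ) :
    iterCommutator U K k ≤ U := by
  induction k with
  | zero => exact le_rfl
  | succ k ih => exact (Subgroup.commutator_mono ih le_rfl).trans (Subgroup.commutator_le_left U K)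

theorem le_normalizer_iterCommutator (U K : Subgroup G) [hU : U.Normal] (k : ℕ) :
    K ≤ Subgroup.normalizer ((iterCommutator U K k : Subgroup G) : Set G) := by
  cases k with
  | zero =>
    show K ≤ Subgroup.normalizer ((U : Subgroup G) : Set G)
    rw [Subgroup.normalizer_eq_top]; exact le_top
  | succ k => exact le_normalizer_commutator_right _ K

theorem iterCommutator_succ_le (U K : Subgroup G) [hU : U.Normal] (k : ℕ) :
    iterCommutator U K (k + 1) ≤ iterCommutator U K k :=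
  commutator_le_of_le_normalizer' (le_normalizer_iterCommutator U K k)

theorem iterCommutator_antitone (U K : Subgroup G) [hU : U.Normal] : Antitone (iterCommutator U K) :=
  antitone_nat_of_succ_le (iterCommutator_succ_le U K)

theorem commutator_sup_normal_le (B V K : Subgroup G) [hV : V.Normal] : ⁅B ⊔ V, K⁆ ≤ ⁅B, K⁆ ⊔ V := by
  rw [Subgroup.commutator_le]
  intro x hx k hk
  obtain ⟨b, hb, v, hv, rfl⟩ := (Subgroup.mem_sup_of_normal_right).mp hx
  have e : ⁅b * v, k⁆ = (b * (v * (k * v⁻¹ * k⁻¹)) * b⁻¹) * ⁅b, k⁆ := by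
    rw [commutatorElement_def, commutatorElement_def]; group
  rw [e]
  apply Subgroup.mul_mem
  · apply Subgroup.mem_sup_right
    exact hV.conj_mem _ (V.mul_mem hv (hV.conj_mem _ (V.inv_mem hv) _)) _
  · exact Subgroup.mem_sup_left (Subgroup.commutator_mem_commutator hb hk)

theorem iterCommutator_sup_le (A V K : Subgroup G) [hV : V.Normal] (k : ℕ) :
    iterCommutator (A ⊔ V) K k ≤ iterCommutator A K k ⊔ V := by
  induction k with
  | zero => exact le_rfl
  | succ k ih =>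
    exact (Subgroup.commutator_mono ih le_rfl).trans (commutator_sup_normal_le _ V K)

theorem chief_inf_of_not_le {U V N : Subgroup G} (h : IsChiefFactor U V) [hN : N.Normal]
    (hNV : ¬ U ⊓ N ≤ V) : IsChiefFactor (U ⊓ N) (V ⊓ N) ∧ (U ⊓ N) ⊔ V = U := by
  obtain ⟨hlt, hUn, hVn, hmin⟩ := h
  haveI := hUn
  haveI := hVn
  have hsup : (U ⊓ N) ⊔ V = U := by
    rcases hmin ((U ⊓ N) ⊔ V) inferInstance le_sup_right (sup_le inf_le_left hlt.le) with h1 | h1
    · exfalso; apply hNV; rw [← h1]; exact le_sup_left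
    · exact h1
  refine ⟨⟨?_, inferInstance, inferInstance, ?_⟩, hsup⟩
  · refine lt_of_le_of_ne (inf_le_inf_right N hlt.le) ?_
    intro he
    apply hNV
    rw [← he]; exact inf_le_left
  · intro M hMn hVM hMU
    haveI := hMn
    rcases hmin (M ⊔ V) inferInstance le_sup_right (sup_le (hMU.trans inf_le_left) hlt.le) with h1 | h1
    · left
      apply le_antisymm _ hVM
      apply le_inf
      · rw [← h1]; exact le_sup_left
      · exact hMU.trans inf_le_right
    · right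
      apply le_antisymm hMU
      intro x hx
      have hxU : x ∈ M ⊔ V := by rw [h1]; exact hx.1
      obtain ⟨m, hm, v, hv, rfl⟩ := (Subgroup.mem_sup_of_normal_right).mp hxU
      have hmN : m ∈ N := (hMU hm).2
      have hvN : v ∈ N := by
        have := N.mul_mem (N.inv_mem hmN) hx.2
        simpa using this
      exact M.mul_mem hm (hVM ⟨hv, hvN⟩)

theorem chief_deg_of_inf {U V N K : Subgroup G} (h : IsChiefFactor U V) [hN : N.Normal]
    (hNV : ¬ U ⊓ N ≤ V) (d : ℕ) (hd : iterCommutator (U ⊓ N) K d ≤ V ⊓ N) :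
    iterCommutator U K d ≤ V := by
  haveI := h.2.2.1
  have h1 := (chief_inf_of_not_le h hNV).2
  calc iterCommutator U K d = iterCommutator ((U ⊓ N) ⊔ V) K d := by rw [h1]
    _ ≤ iterCommutator (U ⊓ N) K d ⊔ V := iterCommutator_sup_le _ _ _ _
    _ ≤ V := sup_le (hd.trans inf_le_left) le_rfl

theorem exists_chief_min [Finite G] (Pr : Subgroup G → Prop) (N : Subgroup G) [hNn : N.Normal] (hN : Pr N)
    (hbot : ¬ Pr ⊥) :
    ∃ N₁ N₀ : Subgroup G, IsChiefFactor N₁ N₀ ∧ N₁ ≤ N ∧ Pr N₁ ∧ ¬ Pr N₀ := by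
  classical
  let 𝒮 := {M : Subgroup G // M.Normal ∧ M ≤ N ∧ Pr M}
  haveI : Nonempty 𝒮 := ⟨⟨N, hNn, le_rfl, hN⟩⟩
  obtain ⟨⟨X₁, hX₁n, hX₁Q, hX₁T⟩, hmin⟩ := Finite.exists_min (fun M : 𝒮 => Nat.card M.1)
  have hX₁ne : X₁ ≠ ⊥ := by
    rintro rfl
    exact hbot hX₁T
  let 𝒴 := {M : Subgroup G // M.Normal ∧ M < X₁}
  haveI : Nonempty 𝒴 := ⟨⟨⊥, Subgroup.normal_bot, bot_lt_iff_ne_bot.mpr hX₁ne⟩⟩
  obtain ⟨⟨Y₁, hY₁n, hY₁X⟩, hmax⟩ := Finite.exists_max (fun M : 𝒴 => Nat.card M.1)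
  have hcardlt : ∀ {A B : Subgroup G}, A < B → Nat.card A < Nat.card B := by
    intro A B hAB
    by_contra hle
    push Not at hle
    have h1 := Subgroup.card_le_of_le hAB.le
    have h2 : Nat.card A = Nat.card B := le_antisymm h1 hle
    exact hAB.ne (Subgroup.eq_of_le_of_card_ge hAB.le h2.ge)
  refine ⟨X₁, Y₁, ⟨hY₁X, hX₁n, hY₁n, ?_⟩, hX₁Q, hX₁T, ?_⟩
  · intro M hMn hYM hMX
    by_cases hMX' : M = X₁
    · exact Or.inr hMX'
    · left
      have hlt : M < X₁ := lt_of_le_of_ne hMX hMX'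
      have h1 := hmax ⟨M, hMn, hlt⟩
      simp only at h1
      exact (Subgroup.eq_of_le_of_card_ge hYM h1).symm
  · intro hYT
    have h1 := hmin ⟨Y₁, hY₁n, hY₁X.le.trans hX₁Q, hYT⟩
    simp only at h1
    exact absurd (hcardlt hY₁X) (not_lt.mpr h1)

theorem iterCommutator_le_lowerCentralSeries (P U : Subgroup G) (hUP : U ≤ P) (n : ℕ) :
    iterCommutator U P n ≤ P.lowerCentralSeries n := by
  induction n with
  | zero => exact hUP
  | succ n ih => exact Subgroup.commutator_mono ih le_rfl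

/-- a normal `p`-subgroup centralizes the chief factors inside it -/
theorem chief_commutator_le_of_isPGroup [Finite G] {p : ℕ} [Fact p.Prime] {U V : Subgroup G}
    (h : IsChiefFactor U V) (P : Subgroup G) [hPn : P.Normal] (hP : IsPGroup p P) (hUP : U ≤ P) :
    ⁅U, P⁆ ≤ V := by
  obtain ⟨hlt, hUn, hVn, hmin⟩ := h
  haveI := hUn
  haveI := hVn
  rcases hmin (V ⊔ ⁅U, P⁆) inferInstance le_sup_left
    (sup_le hlt.le (Subgroup.commutator_le_left U P)) with h1 | h1
  · rw [← h1]; exact le_sup_right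
  · exfalso
    have key : ∀ n, U ≤ V ⊔ iterCommutator U P n := by
      intro n
      induction n with
      | zero => exact le_sup_right
      | succ n ih =>
        calc U = V ⊔ ⁅U, P⁆ := h1.symm
          _ ≤ V ⊔ ⁅iterCommutator U P n ⊔ V, P⁆ := by
            apply sup_le_sup_left
            apply Subgroup.commutator_mono _ le_rfl
            rw [sup_comm]; exact ih
          _ ≤ V ⊔ (⁅iterCommutator U P n, P⁆ ⊔ V) := sup_le_sup_left (commutator_sup_normal_le _ V P) _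
          _ = V ⊔ iterCommutator U P (n + 1) := by
            rw [sup_comm (⁅iterCommutator U P n, P⁆), ← sup_assoc, sup_idem]; rfl
    haveI : Group.IsNilpotent ↥P := hP.isNilpotent
    obtain ⟨n, hn⟩ := (Subgroup.isNilpotent_iff_lowerCentralSeries (S := P)).mp inferInstance
    have h2 := (key n).trans (sup_le_sup_left (iterCommutator_le_lowerCentralSeries P U hUP n) V)
    rw [hn, sup_bot_eq] at h2
    exact (not_le_of_gt hlt) h2

theorem mem_centSection_iff_comm {N Z' : Subgroup G} [hN : N.Normal] [hZ : Z'.Normal] {u : G} :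
    u ∈ centSection N Z' ↔ ∀ x ∈ N, ⁅x, u⁆ ∈ Z' := by
  constructor
  · intro hu x hx
    have h1 : u⁻¹ ∈ centSection N Z' := Subgroup.inv_mem _ hu
    have h2 := (mem_centSection.mp h1) x⁻¹ (N.inv_mem hx)
    have e : x⁻¹⁻¹ * u⁻¹⁻¹ * x⁻¹ * u⁻¹ = ⁅x, u⁆ := by rw [commutatorElement_def]; group
    rwa [e] at h2
  · intro h
    have h1 : u⁻¹ ∈ centSection N Z' := by
      rw [mem_centSection]
      intro z hz
      have := h z⁻¹ (N.inv_mem hz)
      have e : z⁻¹ * u⁻¹⁻¹ * z * u⁻¹ = ⁅z⁻¹, u⁆ := by rw [commutatorElement_def]; group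
      rwa [e]
    have := Subgroup.inv_mem _ h1
    rwa [inv_inv] at this

end Chief

section Critical

variable {G : Type*} [Group G] [Finite G] {p : ℕ} [Fact p.Prime]

/-- **Engel degrees on the chief factors of a normal `p`-subgroup through a critical subgroup** -/
theorem chief_engel_of_critical (P : Subgroup G) [hPn : P.Normal] (hP : IsPGroup p P)
    (Q : Subgroup G) [hQn : Q.Normal] (hQP : Q ≤ P)
    (hQ3 : ⁅P, Q⁆ ≤ zOf Q) (hQ4 : P ⊓ Subgroup.centralizer (Q : Set G) ≤ zOf Q)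
    (g : G) (i j : ℕ) (hi : 1 ≤ i)
    (hQi : ∀ U V : Subgroup G, IsChiefFactor U V → U ≤ Q →
      iterCommutator U (Subgroup.zpowers g) i ≤ V)
    (hZj : ∀ U V : Subgroup G, IsChiefFactor U V → U ≤ zOf Q →
      iterCommutator U (Subgroup.zpowers g) j ≤ V) :
    ∀ U V : Subgroup G, IsChiefFactor U V → U ≤ P →
      iterCommutator U (Subgroup.zpowers g) (i + j - 1) ≤ V := by
  intro U V hch hUP
  haveI hUn : U.Normal := hch.2.1
  haveI hVn : V.Normal := hch.2.2.1
  obtain ⟨K, hK⟩ : ∃ K, K = Subgroup.zpowers g := ⟨_, rfl⟩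
  obtain ⟨d, hd⟩ : ∃ d, d = i + j - 1 := ⟨_, rfl⟩
  rw [← hK, ← hd]
  rw [← hK] at hQi hZj
  by_cases hc1 : U ⊓ zOf Q ≤ V
  · -- the chief factor lies above `Z(Q)`
    have hUC : U ⊓ Subgroup.centralizer (Q : Set G) ≤ V := by
      refine le_trans ?_ hc1
      apply le_inf inf_le_left
      refine le_trans ?_ hQ4
      exact le_inf (inf_le_left.trans hUP) inf_le_right
    obtain ⟨N₁, N₀, hchN, hN₁Q, hN₁V, hN₀V⟩ := exists_chief_min
      (fun N => U ⊓ Subgroup.centralizer (N : Set G) ≤ V) Q hUC (by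
        intro h
        have : U ≤ V := by
          refine le_trans ?_ h
          apply le_inf le_rfl
          intro u _
          rw [Subgroup.mem_centralizer_iff]
          intro x hx
          rw [Subgroup.coe_bot, Set.mem_singleton_iff] at hx
          rw [hx, one_mul, mul_one]
        exact (not_le_of_gt hch.1) this)
    haveI hN₁n : N₁.Normal := hchN.2.1
    haveI hN₀n : N₀.Normal := hchN.2.2.1
    have hch₁ := (chief_inf_of_not_le hch (N := Subgroup.centralizer (N₀ : Set G)) hN₀V).1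
    apply chief_deg_of_inf hch (N := Subgroup.centralizer (N₀ : Set G)) hN₀V
    obtain ⟨U₁, hU₁⟩ : ∃ U₁, U₁ = U ⊓ Subgroup.centralizer (N₀ : Set G) := ⟨_, rfl⟩
    obtain ⟨V₁, hV₁⟩ : ∃ V₁, V₁ = V ⊓ Subgroup.centralizer (N₀ : Set G) := ⟨_, rfl⟩
    rw [← hU₁, ← hV₁] at hch₁ ⊢
    haveI hU₁n : U₁.Normal := hch₁.2.1
    haveI hV₁n : V₁.Normal := hch₁.2.2.1
    have hU₁U : U₁ ≤ U := by rw [hU₁]; exact inf_le_left
    have hU₁C : U₁ ≤ Subgroup.centralizer (N₀ : Set G) := by rw [hU₁]; exact inf_le_right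
    have hZn : (zOf Q).Normal := inferInstance
    obtain ⟨Z₁, Z₀, hchZ, hZ₁Z, hZ₁V, hZ₀V⟩ := exists_chief_min
      (fun Z' => ∃ u ∈ U₁, (∀ x ∈ N₁, ⁅x, u⁆ ∈ Z') ∧ u ∉ V₁) (zOf Q) (by
        obtain ⟨u, hu, huV⟩ := SetLike.exists_of_lt hch₁.1
        refine ⟨u, hu, ?_, huV⟩
        intro x hx
        apply hQ3
        rw [Subgroup.commutator_comm]
        exact Subgroup.commutator_mem_commutator (hN₁Q hx) (hUP (hU₁U hu))) (by
        rintro ⟨u, hu, hcomm, huV⟩
        apply huV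
        rw [hV₁]
        have hcen : u ∈ Subgroup.centralizer (N₁ : Set G) := by
          rw [Subgroup.mem_centralizer_iff]
          intro x hx
          have := hcomm x hx
          rw [Subgroup.mem_bot, commutatorElement_eq_one_iff_mul_comm] at this
          exact this
        exact ⟨hN₁V ⟨hU₁U hu, hcen⟩, hU₁C hu⟩)
    haveI hZ₁n : Z₁.Normal := hchZ.2.1
    haveI hZ₀n : Z₀.Normal := hchZ.2.2.1
    have hnot : ¬ U₁ ⊓ centSection N₁ Z₁ ≤ V₁ := by
      obtain ⟨u, hu, hcomm, huV⟩ := hZ₁V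
      intro h
      exact huV (h ⟨hu, mem_centSection_iff_comm.mpr hcomm⟩)
    apply chief_deg_of_inf hch₁ (N := centSection N₁ Z₁) hnot
    obtain ⟨U₂, hU₂⟩ : ∃ U₂, U₂ = U₁ ⊓ centSection N₁ Z₁ := ⟨_, rfl⟩
    rw [← hU₂]
    haveI hU₂n : U₂.Normal := by rw [hU₂]; infer_instance
    have hU₂U₁ : U₂ ≤ U₁ := by rw [hU₂]; exact inf_le_left
    have hU₂P : U₂ ≤ P := hU₂U₁.trans (hU₁U.trans hUP)
    have hZ₁P : Z₁ ≤ P := hZ₁Z.trans ((zOf_le Q).trans hQP)
    have hZP : ⁅Z₁, P⁆ ≤ Z₀ := chief_commutator_le_of_isPGroup hchZ P hP hZ₁P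
    have key := pairing_engel g (isOfFinOrder_of_finite g) N₁ N₀ U₂ Z₁ Z₀
      (by
        rw [Subgroup.commutator_le]
        intro x hx u hu
        rw [hU₂] at hu
        exact mem_centSection_iff_comm.mp hu.2 x hx)
      (by
        rw [Subgroup.commutator_le]
        intro x hx u hu
        have h1 := (Subgroup.mem_centralizer_iff.mp (hU₁C (hU₂U₁ hu))) x hx
        have : ⁅x, u⁆ = 1 := by
          rw [commutatorElement_eq_one_iff_mul_comm]; exact h1
        rw [this]; exact Z₀.one_mem)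
      (by
        have : ⁅Z₁, N₁⁆ ≤ ⁅zOf Q, Q⁆ := Subgroup.commutator_mono hZ₁Z hN₁Q
        rw [zOf_commutator_eq_bot] at this
        exact this.trans bot_le)
      ((Subgroup.commutator_mono le_rfl hU₂P).trans hZP)
      ((Subgroup.commutator_mono le_rfl hZ₁P).trans hZP)
      i j (by rw [← hK]; exact hQi N₁ N₀ hchN hN₁Q) (by rw [← hK]; exact hZj Z₁ Z₀ hchZ hZ₁Z)
    rw [← hK, ← hd] at key
    have hle : iterCommutator U₂ K d ≤ U₂ := iterCommutator_le_of_normal U₂ K d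
    apply le_inf
    · intro w hw
      by_contra hwV
      apply hZ₀V
      refine ⟨w, hU₂U₁ (hle hw), ?_, hwV⟩
      intro x hx
      exact key (Subgroup.commutator_mem_commutator hx hw)
    · exact hle.trans (by rw [hU₂]; exact inf_le_right)
  · -- the chief factor is covered by `Z(Q)`
    apply chief_deg_of_inf hch (N := zOf Q) hc1
    have hch' := (chief_inf_of_not_le hch (N := zOf Q) hc1).1
    haveI : (U ⊓ zOf Q).Normal := hch'.2.1
    have h1 := hZj _ _ hch' inf_le_right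
    refine le_trans (iterCommutator_antitone _ K ?_) h1
    omega

end Critical

end Cfsg.Agent.Lib.Helper4
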