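import Mathlib
import Cfsg.Prelude.Def_ConjugacyFunctors
import Cfsg.Prelude.Def_PLocal
import Cfsg.Prelude.Def_LocalEven
import Cfsg.Agent.Lib.Helper4.KSemi
import Cfsg.Agent.Lib.Helper4.ChiefEngel
import Cfsg.Agent.Lib.Lead.Critical2
import Cfsg.Agent.Lib.Lead.Frattini

set_option autoImplicit false
open scoped commutatorElement

/-! The element of `S - O_p(X)` acting with small Engel degree on the chief factors below `O_p(X)` when a K-infinity
subgroup of `S` is not normal in `X`. -/

namespace Cfsg.Agent.Lib.Helper4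

open Cfsg

universe u

section

variable {X : Type u} [Group X] [Finite X] {p : ℕ} [hp : Fact p.Prime]

/-- a critical subgroup of `O_p(X)`, seen inside `X` -/
theorem exists_critical_pCore (X : Type u) [Group X] [Finite X] (p : ℕ) [hp : Fact p.Prime] :
    ∃ A : Subgroup X, A ≤ pCore p X ∧ A.Normal ∧ A ∈ classTwoSubgroups X ∧
      ⁅pCore p X, A⁆ ≤ zOf A ∧ pCore p X ⊓ Subgroup.centralizer (A : Set X) ≤ zOf A := by
  obtain ⟨P, hPdef⟩ : ∃ P, P = pCore p X := ⟨_, rfl⟩
  have hPn : P.Normal := by rw [hPdef]; infer_instance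
  have hPp : IsPGroup p P := by rw [hPdef]; exact Cfsg.Agent.Lib.Helper6.pCore_isPGroup p
  rw [← hPdef]
  obtain ⟨H, hHc, hHF, hHP, hHC⟩ := Cfsg.Agent.Lib.Lead.exists_critical hPp
  haveI := hHc
  have hinj : Function.Injective P.subtype := P.subtype_injective
  refine ⟨H.map P.subtype, Subgroup.map_subtype_le _, inferInstance, ?_, ?_, ?_⟩
  · rw [map_mem_classTwo_iff P.subtype hinj]
    have hHp : IsPGroup p H := hPp.to_subgroup H
    have h1 : commutator ↥H ≤ frattini ↥H := Cfsg.Agent.Lib.Lead.commutator_le_frattini_of_isPGroup hHp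
    have h2 : ⁅H, H⁆ ≤ (frattini ↥H).map H.subtype := by
      have : ⁅H, H⁆ = (commutator ↥H).map H.subtype := by
        rw [commutator_def, Subgroup.map_commutator, ← MonoidHom.range_eq_map, Subgroup.range_subtype]
      rw [this]
      exact Subgroup.map_mono h1
    exact h2.trans hHF
  · have h1 : ⁅P, H.map P.subtype⁆ = (⁅(⊤ : Subgroup ↥P), H⁆).map P.subtype := by
      rw [Subgroup.map_commutator, ← MonoidHom.range_eq_map, Subgroup.range_subtype]
    rw [h1, map_le_zOf_map_iff P.subtype hinj, Subgroup.commutator_comm]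
    exact hHP
  · intro x hx
    have hxP : x ∈ P := hx.1
    have hxc : (⟨x, hxP⟩ : ↥P) ∈ Subgroup.centralizer (H : Set ↥P) := by
      rw [Subgroup.mem_centralizer_iff]
      intro h hh
      apply Subtype.ext
      exact (Subgroup.mem_centralizer_iff.mp hx.2) (h : X) ⟨h, hh, rfl⟩
    exact ⟨⟨⟨x, hxP⟩, hHC hxc, rfl⟩, hx.2⟩

/-- the cubic element -/
theorem exists_cubic_of_not_normal (S : Sylow p X) (A : Subgroup X) (hAT : A ≤ pCore p X)
    (hAS : (S : Subgroup X) ≤ Subgroup.normalizer (A : Set X))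
    (hA2 : ⁅A, A⁆ ≤ Subgroup.centralizer (A : Set X))
    (hTA : ⁅pCore p X, A⁆ ≤ A ⊓ Subgroup.centralizer (A : Set X))
    (hK : ¬ (inducedFunctor kInfLower (S : Subgroup X)).Normal ∨
      ¬ (inducedFunctor kInfUpper (S : Subgroup X)).Normal) :
    ∃ g : X, g ∈ (S : Subgroup X) ∧ g ∉ pCore p X ∧
      iterCommutator A (Subgroup.zpowers g) 3 ≤ A ⊓ Subgroup.centralizer (A : Set X) ∧
      ⁅⁅A ⊓ Subgroup.centralizer (A : Set X), Subgroup.zpowers g⁆, Subgroup.zpowers g⁆ = ⊥ := by
  by_contra hno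
  push Not at hno
  have H : ∀ g ∈ (S : Subgroup X), iterCommutator A (Subgroup.zpowers g) 3 ≤ A ⊓ Subgroup.centralizer (A : Set X) →
      ⁅⁅A ⊓ Subgroup.centralizer (A : Set X), Subgroup.zpowers g⁆, Subgroup.zpowers g⁆ = ⊥ → g ∈ pCore p X := by
    intro g hg h1 h2
    by_contra hgT
    exact hno g hg hgT h1 h2
  obtain ⟨e1, e2⟩ := kInf_eq_of_noCubic S A hAT hAS hA2 hTA H
  rcases hK with hK | hK
  · apply hK
    rw [e1]
    exact inducedFunctor_pCore_normal (isCharPFunctor_kInfLower p)
  · apply hK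
    rw [e2]
    exact inducedFunctor_pCore_normal (isCharPFunctor_kInfUpper p)

omit [Finite X] hp in
/-- from a global Engel condition on `N` over `Z` to the chief factors inside `N` -/
theorem chief_engel_of_global (N Z K : Subgroup X) [hZn : Z.Normal] (a b : ℕ) (hba : b ≤ a)
    (h1 : iterCommutator N K a ≤ Z) (h2 : iterCommutator Z K b = ⊥) :
    ∀ U V : Subgroup X, IsChiefFactor U V → U ≤ N → iterCommutator U K a ≤ V := by
  intro U V hch hUN
  haveI hUn : U.Normal := hch.2.1
  by_cases hc : U ⊓ Z ≤ V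
  · refine le_trans (le_inf (iterCommutator_le_of_normal U K a) ?_) hc
    exact (iterCommutator_mono hUN le_rfl a).trans h1
  · apply chief_deg_of_inf hch (N := Z) hc
    haveI : (U ⊓ Z).Normal := inferInstance
    refine le_trans (iterCommutator_antitone _ K hba) ?_
    refine le_trans (iterCommutator_mono inf_le_right le_rfl b) ?_
    rw [h2]; exact bot_le

/-- **the local condition for the K-infinity functors**: when a K-infinity subgroup of `S` is not normal, some element of
`S - O_p(X)` acts with Engel degree four on all the chief factors below `O_p(X)` -/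
theorem exists_quartic_of_not_normal (S : Sylow p X)
    (hK : ¬ (inducedFunctor kInfLower (S : Subgroup X)).Normal ∨
      ¬ (inducedFunctor kInfUpper (S : Subgroup X)).Normal) :
    ∃ g : X, g ∈ (S : Subgroup X) ∧ g ∉ pCore p X ∧
      (∀ U V : Subgroup X, IsChiefFactor U V → U ≤ pCore p X →
        iterCommutator U (Subgroup.zpowers g) 4 ≤ V) ∧
      ⁅⁅zOf (pCore p X), Subgroup.zpowers g⁆, Subgroup.zpowers g⁆ = ⊥ := by
  obtain ⟨A, hAT, hAn, hA2, hTA, hCA⟩ := exists_critical_pCore X p
  haveI := hAn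
  have hAS : (S : Subgroup X) ≤ Subgroup.normalizer (A : Set X) := by
    rw [Subgroup.normalizer_eq_top]; exact le_top
  obtain ⟨g, hgS, hgT, hα, hβ⟩ := exists_cubic_of_not_normal S A hAT hAS hA2 hTA hK
  change iterCommutator A (Subgroup.zpowers g) 3 ≤ zOf A at hα
  change ⁅⁅zOf A, Subgroup.zpowers g⁆, Subgroup.zpowers g⁆ = ⊥ at hβ
  refine ⟨g, hgS, hgT, ?_, ?_⟩
  · have hP : IsPGroup p (pCore p X) := Cfsg.Agent.Lib.Helper6.pCore_isPGroup p
    have h := chief_engel_of_critical (pCore p X) hP A hAT hTA hCA g 3 2 (by norm_num)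
      (chief_engel_of_global A (zOf A) (Subgroup.zpowers g) 3 2 (by norm_num) hα hβ)
      (by
        intro U V _ hUZ
        refine le_trans (iterCommutator_mono hUZ le_rfl 2) ?_
        change ⁅⁅zOf A, Subgroup.zpowers g⁆, Subgroup.zpowers g⁆ ≤ V
        rw [hβ]; exact bot_le)
    exact h
  · -- `Z(O_p(X)) ≤ Z(A)`
    have hZ : zOf (pCore p X) ≤ zOf A := by
      refine le_trans ?_ hCA
      apply le_inf inf_le_left
      intro z hz
      rw [Subgroup.mem_centralizer_iff]
      intro a ha
      exact (Subgroup.mem_centralizer_iff.mp hz.2) a (hAT ha)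
    rw [eq_bot_iff, ← hβ]
    exact Subgroup.commutator_mono (Subgroup.commutator_mono hZ le_rfl) le_rfl

end

end Cfsg.Agent.Lib.Helper4
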