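import Mathlib
import Cfsg.Agent.Lib.Helper4.TransferCore2
import Cfsg.Agent.Lib.Helper4.ChiefEngel
import Cfsg.Agent.Lib.Helper4.AlperinTame

set_option autoImplicit false
open Pointwise
open scoped commutatorElement

/-! The core of the weak-closure-of-elements theorem: in a group with a unique maximal subgroup `M` over a Sylow
`p`-subgroup and an Engel element outside `O_p`, the elements of `Z(O_p)` centralized by `M` are central. -/

namespace Cfsg.Agent.Lib.Helper4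

open Cfsg Cfsg.Agent.Lib.Helper7

universe u

section
variable {X : Type u} [Group X] [Finite X] {p : ℕ} [hp : Fact p.Prime]

theorem central_of_max_of_engel (T : Sylow p X) (M : Subgroup X) (hTM : (T : Subgroup X) ≤ M)
    (hmax : ∀ L : Subgroup X, (T : Subgroup X) ≤ L → L ≠ ⊤ → L ≤ M)
    (g : X) (hgT : g ∈ (T : Subgroup X)) (hgQ : g ∉ pCore p X)
    (hE : ∀ U V : Subgroup X, IsChiefFactor U V → U ≤ zOf (pCore p X) →
      iterCommutator U (Subgroup.zpowers g) (p - 1) ≤ V)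
    (x : X) (hxV : x ∈ zOf (pCore p X)) (hxM : ∀ m ∈ M, m * x = x * m) : x ∈ Subgroup.center X := by
  classical
  by_contra hxc
  have hTp : IsPGroup p (T : Subgroup X) := T.isPGroup'
  have hQp : IsPGroup p (pCore p X) := Cfsg.Agent.Lib.Helper6.pCore_isPGroup p
  obtain ⟨V, hVdef⟩ : ∃ V, V = zOf (pCore p X) := ⟨_, rfl⟩
  rw [← hVdef] at hxV hE
  haveI hVn : V.Normal := by rw [hVdef]; infer_instance
  have hVQ : V ≤ pCore p X := by rw [hVdef]; exact zOf_le _
  have hVab : ⁅V, V⁆ = ⊥ := by rw [hVdef]; exact zOf_comm_eq_bot _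
  -- the chief factor
  obtain ⟨X₁, Y₁, hch, hX₁V, hPrX, hPrY⟩ := exists_chief_min
    (fun N => ∃ z ∈ N, z ∈ V ∧ (∀ m ∈ M, m * z = z * m) ∧ z ∉ Subgroup.center X) V
    ⟨x, hxV, hxV, hxM, hxc⟩ (by
      rintro ⟨z, hz, -, -, hzc⟩
      rw [Subgroup.mem_bot] at hz
      rw [hz] at hzc
      exact hzc (Subgroup.one_mem _))
  obtain ⟨z, hz, hzV, hzM, hzc⟩ := hPrX
  haveI hX₁n : X₁.Normal := hch.2.1
  haveI hY₁n : Y₁.Normal := hch.2.2.1
  have hYX : Y₁ ≤ X₁ := hch.1.le
  have hX₁p : IsPGroup p X₁ := hQp.to_le (hX₁V.trans hVQ)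
  have hpow := pow_mem_of_isChiefFactor hch hX₁p
  have hX₁ab : ⁅X₁, X₁⁆ = ⊥ := by
    rw [eq_bot_iff, ← hVab]; exact Subgroup.commutator_mono hX₁V hX₁V
  have hcomm : ∀ a b : ↥X₁, a * b = b * a := by
    rintro ⟨a, ha⟩ ⟨b, hb⟩
    apply Subtype.ext
    have h1 : ⁅a, b⁆ ∈ ⁅X₁, X₁⁆ := Subgroup.commutator_mem_commutator ha hb
    rw [hX₁ab, Subgroup.mem_bot, commutatorElement_eq_one_iff_mul_comm] at h1
    exact h1
  letI : CommGroup ↥X₁ := { (inferInstance : Group ↥X₁) with mul_comm := hcomm }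
  obtain ⟨A, _, φ, hφ⟩ := exists_hom_ker_eq X₁ Y₁ (by rw [hX₁ab]; exact bot_le)
  -- the conjugates of `z`
  have hzt : ∀ t : X, t * z * t⁻¹ ∈ X₁ := fun t => hX₁n.conj_mem z hz t
  obtain ⟨F, hFdef⟩ : ∃ F : X ⧸ M → ↥X₁, F = fun q => ⟨q.out * z * q.out⁻¹, hzt _⟩ := ⟨_, rfl⟩
  have hF_mk : ∀ t : X, F (t : X ⧸ M) = ⟨t * z * t⁻¹, hzt t⟩ := by
    intro t
    obtain ⟨s, hs⟩ := QuotientGroup.mk_out_eq_mul M t
    rw [hFdef]
    apply Subtype.ext
    show (t : X ⧸ M).out * z * (t : X ⧸ M).out⁻¹ = t * z * t⁻¹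
    rw [hs]
    have := hzM s s.2
    calc t * (s : X) * z * (t * (s : X))⁻¹ = t * ((s : X) * z) * (s : X)⁻¹ * t⁻¹ := by group
      _ = t * (z * (s : X)) * (s : X)⁻¹ * t⁻¹ := by rw [this]
      _ = t * z * t⁻¹ := by group
  letI : Fintype (X ⧸ M) := Fintype.ofFinite _
  obtain ⟨Tr, hTrdef⟩ : ∃ Tr : ↥X₁, Tr = ∏ q : X ⧸ M, F q := ⟨_, rfl⟩
  -- the trace is central
  have hTrc : (Tr : X) ∈ Subgroup.center X := by
    rw [Subgroup.mem_center_iff]
    intro y
    have h1 : (MulAut.conjNormal y : MulAut ↥X₁) Tr = Tr := by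
      rw [hTrdef, map_prod]
      have h2 : ∀ q : X ⧸ M, (MulAut.conjNormal y : MulAut ↥X₁) (F q) = F (y • q) := by
        intro q
        induction q using QuotientGroup.induction_on with
        | H t =>
          have : y • (t : X ⧸ M) = ((y * t : X) : X ⧸ M) := rfl
          rw [this, hF_mk, hF_mk]
          apply Subtype.ext
          rw [MulAut.conjNormal_apply]
          show y * (t * z * t⁻¹) * y⁻¹ = y * t * z * (y * t)⁻¹
          group
      simp only [h2]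
      exact Equiv.prod_comp (MulAction.toPerm y) F
    have h3 := congrArg (Subtype.val) h1
    rw [MulAut.conjNormal_apply] at h3
    calc y * (Tr : X) = (y * (Tr : X) * y⁻¹) * y := by group
      _ = (Tr : X) * y := by rw [h3]
  -- the conjugates of `g` in `T`
  obtain ⟨𝒰, h𝒰def⟩ : ∃ 𝒰 : Set X, 𝒰 = {u' | u' ∈ (T : Subgroup X) ∧ ∃ y : X, u' = y * g * y⁻¹} :=
    ⟨_, rfl⟩
  have hg𝒰 : g ∈ 𝒰 := by
    rw [h𝒰def]; exact ⟨hgT, 1, by group⟩
  have h𝒰T : 𝒰 ⊆ (T : Subgroup X) := by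
    intro u' hu'; rw [h𝒰def] at hu'; exact hu'.1
  have hPT : Subgroup.closure 𝒰 ≤ (T : Subgroup X) := (Subgroup.closure_le _).mpr h𝒰T
  have hPp : IsPGroup p ↥(Subgroup.closure 𝒰) := hTp.to_le hPT
  have hconj𝒰 : ∀ (y u' : X), u' ∈ 𝒰 → y * u' * y⁻¹ ∈ (T : Subgroup X) → y * u' * y⁻¹ ∈ 𝒰 := by
    intro y u' hu' hy
    rw [h𝒰def] at hu' ⊢
    obtain ⟨_, y', rfl⟩ := hu'
    exact ⟨hy, y * y', by group⟩
  have hcjP : ∀ y : X, (∀ u' ∈ 𝒰, y * u' * y⁻¹ ∈ (T : Subgroup X)) →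
      y ∈ Subgroup.normalizer ((Subgroup.closure 𝒰 : Subgroup X) : Set X) := by
    intro y hy
    rw [mem_normalizer_iff_cj]
    apply cj_eq_of_le
    show (Subgroup.closure 𝒰).map (MulAut.conj y).toMonoidHom ≤ Subgroup.closure 𝒰
    rw [Subgroup.map_le_iff_le_comap, Subgroup.closure_le]
    intro u' hu'
    show (MulAut.conj y) u' ∈ Subgroup.closure 𝒰
    rw [MulAut.conj_apply]
    exact Subgroup.subset_closure (hconj𝒰 y u' hu' (hy u' hu'))
  have hNPne : Subgroup.normalizer ((Subgroup.closure 𝒰 : Subgroup X) : Set X) ≠ ⊤ := by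
    intro htop
    apply hgQ
    have hPn : (Subgroup.closure 𝒰).Normal := Subgroup.normalizer_eq_top_iff.mp htop
    exact Cfsg.Agent.Lib.Helper6.le_pCore hPn hPp (Subgroup.subset_closure hg𝒰)
  have hTNP : (T : Subgroup X) ≤ Subgroup.normalizer ((Subgroup.closure 𝒰 : Subgroup X) : Set X) := by
    intro s hs
    apply hcjP
    intro u' hu'
    exact Subgroup.mul_mem _ (Subgroup.mul_mem _ hs (h𝒰T hu')) (Subgroup.inv_mem _ hs)
  have hNPM : Subgroup.normalizer ((Subgroup.closure 𝒰 : Subgroup X) : Set X) ≤ M := hmax _ hTNP hNPne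
  have hSylM : SylIn p M (T : Subgroup X) := by
    refine ⟨hTM, hTp, ?_⟩
    intro hdvd
    apply T.not_dvd_index
    rw [← Subgroup.relIndex_mul_index hTM]
    exact Dvd.dvd.mul_right hdvd _
  -- the only coset fixed by `𝒰` is `M`
  have hfixM : ∀ t : X, (∀ u' ∈ 𝒰, u' • (t : X ⧸ M) = (t : X ⧸ M)) → t ∈ M := by
    intro t ht
    have h1 : cj t⁻¹ (Subgroup.closure 𝒰) ≤ M := by
      show (Subgroup.closure 𝒰).map (MulAut.conj t⁻¹).toMonoidHom ≤ M
      rw [Subgroup.map_le_iff_le_comap, Subgroup.closure_le]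
      intro u' hu'
      show (MulAut.conj t⁻¹) u' ∈ M
      rw [MulAut.conj_apply]
      have h2 : ((u' * t : X) : X ⧸ M) = (t : X ⧸ M) := ht u' hu'
      rw [QuotientGroup.eq] at h2
      have h3 := M.inv_mem h2
      have e : ((u' * t)⁻¹ * t)⁻¹ = t⁻¹ * u' * t⁻¹⁻¹ := by group
      rwa [e] at h3
    obtain ⟨c, hcM, hc⟩ := hSylM.exists_conj_le h1 (isPGroup_cj _ hPp)
    have h4 : c * t⁻¹ ∈ Subgroup.normalizer ((Subgroup.closure 𝒰 : Subgroup X) : Set X) := by
      apply hcjP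
      intro u' hu'
      apply hc
      refine ⟨t⁻¹ * u' * t⁻¹⁻¹, ⟨u', Subgroup.subset_closure hu', rfl⟩, ?_⟩
      show c * (t⁻¹ * u' * t⁻¹⁻¹) * c⁻¹ = c * t⁻¹ * u' * (c * t⁻¹)⁻¹
      group
    have h5 := hNPM h4
    have h6 : t⁻¹ ∈ M := by
      have := M.mul_mem (M.inv_mem hcM) h5
      simpa [mul_assoc] using this
    have := M.inv_mem h6
    rwa [inv_inv] at this
  -- the product over the cosets other than `M`
  obtain ⟨q₀, hq₀⟩ : ∃ q₀ : X ⧸ M, q₀ = ((1 : X) : X ⧸ M) := ⟨_, rfl⟩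
  have hprod : ∏ q : X ⧸ M, (if q = q₀ then (1 : A) else φ (F q)) = 1 := by
    apply prod_eq_one_of_pgroup_action' (fun q => if q = q₀ then (1 : A) else φ (F q)) 𝒰 hPp
    · intro u' hu' q
      by_cases hq : q = q₀
      · have hfix : ∀ j : ℕ, u' ^ j • q = q₀ := by
          intro j
          rw [hq, hq₀]
          show (((u' ^ j * 1 : X)) : X ⧸ M) = ((1 : X) : X ⧸ M)
          rw [QuotientGroup.eq]
          have : u' ^ j ∈ M := M.pow_mem (hTM (h𝒰T hu')) j
          simpa using M.inv_mem this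
        apply Finset.prod_eq_one
        intro j _
        rw [if_pos (hfix j)]
      · have hne : ∀ j : ℕ, u' ^ j • q ≠ q₀ := by
          intro j h
          apply hq
          have h1 : q = (u' ^ j)⁻¹ • q₀ := by rw [← h, inv_smul_smul]
          rw [h1, hq₀]
          show ((((u' ^ j)⁻¹ * 1 : X)) : X ⧸ M) = ((1 : X) : X ⧸ M)
          rw [QuotientGroup.eq]
          have : u' ^ j ∈ M := M.pow_mem (hTM (h𝒰T hu')) j
          simpa using this
        simp only [hne, if_false]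
        induction q using QuotientGroup.induction_on with
        | H t =>
          have hu'' := hu'
          rw [h𝒰def] at hu''
          obtain ⟨_, y, hy⟩ := hu''
          have hEng : iterCommutator X₁ (Subgroup.zpowers u'⁻¹) (p - 1) ≤ Y₁ := by
            rw [Subgroup.zpowers_inv, hy]
            exact iterCommutator_conj_le g y _ (hE X₁ Y₁ hch hX₁V)
          have h1 := prod_conj_eq_one X₁ Y₁ hpow u'⁻¹ hEng φ (fun y hy => (hφ y).mpr hy)
            ⟨t * z * t⁻¹, hzt t⟩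
          rw [← h1]
          apply Finset.prod_congr rfl
          intro j _
          have : u' ^ j • (t : X ⧸ M) = ((u' ^ j * t : X) : X ⧸ M) := rfl
          rw [this, hF_mk]
          congr 1
          apply Subtype.ext
          rw [inv_inv, ← map_pow, MulAut.conjNormal_apply]
          show u' ^ j * t * z * (u' ^ j * t)⁻¹ = u' ^ j * (t * z * t⁻¹) * (u' ^ j)⁻¹
          group
    · intro q hq
      induction q using QuotientGroup.induction_on with
      | H t =>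
        have ht : t ∈ M := hfixM t hq
        have : (t : X ⧸ M) = q₀ := by
          rw [hq₀, QuotientGroup.eq]
          simpa using M.inv_mem ht
        simp only [this, if_true]
  -- conclusion
  have hφTr : φ Tr = φ ⟨z, hz⟩ := by
    rw [hTrdef, map_prod]
    have h1 : ∀ q : X ⧸ M, φ (F q) = (if q = q₀ then φ (F q₀) else 1) *
        (if q = q₀ then (1 : A) else φ (F q)) := by
      intro q
      by_cases hq : q = q₀
      · rw [if_pos hq, if_pos hq, mul_one, hq]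
      · rw [if_neg hq, if_neg hq, one_mul]
    rw [Finset.prod_congr rfl (fun q _ => h1 q), Finset.prod_mul_distrib, hprod, mul_one,
      Finset.prod_ite_eq' Finset.univ q₀]
    simp only [Finset.mem_univ, if_true]
    rw [hq₀, hF_mk]
    congr 1
    apply Subtype.ext
    show (1 : X) * z * (1 : X)⁻¹ = z
    group
  have hw : ((⟨z, hz⟩ : ↥X₁)⁻¹ * Tr : ↥X₁).1 ∈ Y₁ := by
    rw [← hφ, map_mul, map_inv, hφTr, inv_mul_cancel]
  rw [Subgroup.coe_mul, Subgroup.coe_inv] at hw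
  have hwc : z⁻¹ * (Tr : X) ∈ Subgroup.center X := by
    by_contra hwc
    apply hPrY
    refine ⟨z⁻¹ * (Tr : X), hw, hX₁V (hYX hw), ?_, hwc⟩
    intro m hm
    have h1 := hzM m hm
    have h2 := (Subgroup.mem_center_iff.mp hTrc) m
    have h1' : m * z⁻¹ = z⁻¹ * m := by
      calc m * z⁻¹ = z⁻¹ * (z * m) * z⁻¹ := by group
        _ = z⁻¹ * (m * z) * z⁻¹ := by rw [h1]
        _ = z⁻¹ * m := by group
    calc m * (z⁻¹ * (Tr : X)) = (m * z⁻¹) * (Tr : X) := by group
      _ = z⁻¹ * (m * (Tr : X)) := by rw [h1']; group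
      _ = z⁻¹ * ((Tr : X) * m) := by rw [h2]
      _ = z⁻¹ * (Tr : X) * m := by group
  apply hzc
  have : z = (Tr : X) * (z⁻¹ * (Tr : X))⁻¹ := by group
  rw [this]
  exact Subgroup.mul_mem _ hTrc (Subgroup.inv_mem _ hwc)

end

end Cfsg.Agent.Lib.Helper4
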