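import Mathlib
import Cfsg.Agent.S1961
import Cfsg.Agent.S1968
import Cfsg.Agent.Lib.Helper4.Alperin
import Cfsg.Agent.Lib.Helper4.WeakClosure1

set_option autoImplicit false

/-! The element version of the well-placed reduction for weak closure, and the restriction of a conjugacy functor to a
subgroup. -/

namespace Cfsg.Agent.Lib.Helper4

open Cfsg Cfsg.Agent.Lib.Helper7

section Fusion

variable {G : Type*} [Group G] [Finite G] {p : ℕ} [Fact p.Prime]

/-- element version of the well-placed reduction: an element of `Z(S)` centralized by `N(W(S))` and fused to another element of `S`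
is already moved by the normalizer of a well-placed subgroup `T ∋ x` with `N(W(N_S(T)))` centralizing `x` -/
theorem exists_wellPlaced_fusion (S : Sylow p G) (W : Subgroup G → Subgroup G) (hW : IsConjugacyFunctor p W)
    (hWZ : ∀ P : Subgroup G, IsPGroup p ↥P → P ⊓ Subgroup.centralizer (P : Set G) ≤ W P)
    (x : G) (hxZ : x ∈ (S : Subgroup G) ⊓ Subgroup.centralizer ((S : Subgroup G) : Set G))
    (hxN : ∀ n ∈ Subgroup.normalizer ((W (S : Subgroup G) : Subgroup G) : Set G), n * x * n⁻¹ = x)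
    (g : G) (hgS : g * x * g⁻¹ ∈ (S : Subgroup G)) (hgx : g * x * g⁻¹ ≠ x) :
    ∃ T : Subgroup G, IsWellPlaced p W (S : Subgroup G) T ∧ x ∈ T ∧
      (∀ n ∈ Subgroup.normalizer ((W ((S : Subgroup G) ⊓ Subgroup.normalizer ((T : Subgroup G) : Set G)) :
        Subgroup G) : Set G), n * x * n⁻¹ = x) ∧
      ¬ p ∣ ((S : Subgroup G) ⊓ Subgroup.normalizer ((T : Subgroup G) : Set G)).relIndex
        (Subgroup.normalizer ((T : Subgroup G) : Set G)) ∧
      ∃ g ∈ Subgroup.normalizer ((T : Subgroup G) : Set G), g * x * g⁻¹ ≠ x := by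
  classical
  have hSp : IsPGroup p (S : Subgroup G) := S.isPGroup'
  have hxS : x ∈ (S : Subgroup G) := hxZ.1
  let 𝒯 : Set (Subgroup G) := {T | IsWellPlaced p W (S : Subgroup G) T ∧ x ∈ T ∧
    ∃ g ∈ Subgroup.normalizer (T : Set G), g * x * g⁻¹ ≠ x}
  have hne : 𝒯.Nonempty := by
    have hcs : cs g⁻¹ ({x} : Set G) ⊆ (S : Subgroup G) := by
      intro y hy
      rw [mem_cs, Set.mem_singleton_iff] at hy
      have : y = g * x * g⁻¹ := by rw [← hy]; group
      rw [this]; exact hgS
    have hvia := Cfsg.Agent.Lib.Helper4.alperin_wellPlaced S hW ({x} : Set G) g⁻¹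
      (by intro y hy; rw [Set.mem_singleton_iff] at hy; rw [hy]; exact hxS) hcs
    have hne' : cs g⁻¹ ({x} : Set G) ≠ {x} := by
      intro h
      apply hgx
      have h1 : g * x * g⁻¹ ∈ cs g⁻¹ ({x} : Set G) := by
        rw [mem_cs, Set.mem_singleton_iff]; group
      rw [h, Set.mem_singleton_iff] at h1
      exact h1
    obtain ⟨T, hT, y, hy, hAT, hyA⟩ := Cfsg.Agent.S1968.first_move hvia hne'
    refine ⟨T, hT, hAT (Set.mem_singleton x), y⁻¹, Subgroup.inv_mem _ hy, ?_⟩
    intro h
    apply hyA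
    ext w
    rw [mem_cs, Set.mem_singleton_iff, Set.mem_singleton_iff]
    constructor
    · intro hw
      rw [← h, ← hw]; group
    · intro hw
      rw [hw]
      calc y * x * y⁻¹ = y * (y⁻¹ * x * y⁻¹⁻¹) * y⁻¹ := by rw [h]
        _ = x := by group
  haveI : Nonempty 𝒯 := hne.to_subtype
  obtain ⟨⟨T, hT⟩, hmax⟩ := Finite.exists_max (fun T : 𝒯 => Nat.card (nS W (S : Subgroup G) (T : Subgroup G) 0))
  obtain ⟨hwp, hxT, g', hg'N, hg'x⟩ := hT
  have hTR : T ≤ nS W (S : Subgroup G) T 0 := le_inf hwp.1 Subgroup.le_normalizer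
  refine ⟨T, hwp, hxT, ?_, hwp.2 0, g', hg'N, hg'x⟩
  set R := nS W (S : Subgroup G) T 0 with hR
  change ∀ n ∈ Subgroup.normalizer ((W R : Subgroup G) : Set G), n * x * n⁻¹ = x
  by_cases hRS : R = (S : Subgroup G)
  · rw [hRS]; exact hxN
  · by_contra hcon
    push Not at hcon
    obtain ⟨n, hn, hnx⟩ := hcon
    set U := functorTower W (S : Subgroup G) T 1 with hU
    have hUeq : U = W R := rfl
    have hUwp : IsWellPlaced p W (S : Subgroup G) U := Cfsg.Agent.S1961.wellPlaced_shift hW hSp hwp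
    have hRp : IsPGroup p R := hSp.to_le (nS_le W _ T 0)
    have hxU : x ∈ U := by
      rw [hUeq]
      apply hWZ R hRp
      refine ⟨hTR hxT, ?_⟩
      exact Subgroup.centralizer_le (by exact_mod_cast nS_le W (S : Subgroup G) T 0) hxZ.2
    have hUmem : U ∈ 𝒯 := ⟨hUwp, hxU, n, hn, hnx⟩
    have hlt : R < nS W (S : Subgroup G) T 1 := nS_lt_succ hW hSp T 0 hRS
    have hNU : nS W (S : Subgroup G) U 0 = nS W (S : Subgroup G) T 1 := rfl
    have h1 := hmax ⟨U, hUmem⟩
    simp only at h1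
    rw [hNU] at h1
    have h2 : Nat.card R < Nat.card (nS W (S : Subgroup G) T 1) := by
      by_contra hc
      push Not at hc
      exact hlt.ne (Subgroup.eq_of_le_of_card_ge hlt.le hc)
    omega

end Fusion

section Res

variable {G : Type*} [Group G] {p : ℕ}

/-- the restriction of a conjugacy functor to a subgroup -/
def resFunctor (W : Subgroup G → Subgroup G) (H : Subgroup G) : Subgroup ↥H → Subgroup ↥H :=
  fun P => (W (P.map H.subtype)).subgroupOf H

theorem resFunctor_map {W : Subgroup G → Subgroup G} (hW : IsConjugacyFunctor p W) (H : Subgroup G)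
    (P : Subgroup ↥H) (hP : IsPGroup p P) :
    (resFunctor W H P).map H.subtype = W (P.map H.subtype) := by
  unfold resFunctor
  apply Subgroup.map_subgroupOf_eq_of_le
  exact ((hW _ (hP.map _)).1).trans (Subgroup.map_subtype_le _)

theorem isConjugacyFunctor_resFunctor {W : Subgroup G → Subgroup G} (hW : IsConjugacyFunctor p W)
    (H : Subgroup G) : IsConjugacyFunctor p (resFunctor W H) := by
  intro P hP
  have hP' : IsPGroup p (P.map H.subtype) := hP.map _
  obtain ⟨h1, h2, h3⟩ := hW _ hP'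
  have hinj := H.subtype_injective
  refine ⟨?_, ?_, ?_⟩
  · rw [← Subgroup.map_le_map_iff_of_injective hinj, resFunctor_map hW H P hP]
    exact h1
  · intro hne h
    apply h2
    · intro hb
      exact hne ((Subgroup.map_eq_bot_iff_of_injective _ hinj).mp hb)
    · rw [← resFunctor_map hW H P hP, h, Subgroup.map_bot]
  · intro g
    apply Subgroup.map_injective hinj
    have hcomp : H.subtype.comp (MulAut.conj g).toMonoidHom =
        (MulAut.conj (g : G)).toMonoidHom.comp H.subtype := by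
      ext y; simp
    have hPg : IsPGroup p (P.map (MulAut.conj g).toMonoidHom) := hP.map _
    rw [resFunctor_map hW H _ hPg, Subgroup.map_map, hcomp, ← Subgroup.map_map, h3,
      Subgroup.map_map, hcomp, ← Subgroup.map_map, resFunctor_map hW H P hP]

end Res

section Main

variable {G : Type*} [Group G] [Finite G] {p : ℕ} [Fact p.Prime]

/-- **control of weak closure of elements** (the induction) -/
theorem wc_of_engel (W : Subgroup G → Subgroup G) (hW : IsConjugacyFunctor p W)
    (hWZ : ∀ P : Subgroup G, IsPGroup p ↥P → P ⊓ Subgroup.centralizer ((P : Subgroup G) : Set G) ≤ W P)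
    (hloc : ∀ (H T : Subgroup G), T ≤ H → IsPGroup p ↥T → ¬ p ∣ (T).relIndex (H) →
      ¬ H ≤ Subgroup.normalizer ((W T : Subgroup G) : Set G) →
      ∃ g : G, g ∈ T ∧ g ∉ pCoreOf p H ∧ ∀ U V : Subgroup ↥H, IsChiefFactor U V →
        U.map H.subtype ≤ pCoreOf p H ⊓ Subgroup.centralizer ((pCoreOf p H : Subgroup G) : Set G) →
        iterCommutator (U.map H.subtype) (Subgroup.zpowers g) (p - 1) ≤ V.map H.subtype) :
    ∀ (n : ℕ) (H : Subgroup G), Nat.card H = n → ∀ T : Subgroup G, T ≤ H → IsPGroup p ↥T →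
      ¬ p ∣ T.relIndex H →
      ∀ x ∈ T ⊓ Subgroup.centralizer ((H ⊓ Subgroup.normalizer ((W T : Subgroup G) : Set G) : Subgroup G) : Set G),
        ∀ h ∈ H, h * x * h⁻¹ ∈ T → h * x * h⁻¹ = x := by
  intro n
  induction n using Nat.strong_induction_on with
  | _ n ih =>
  intro H hcard T hTH hTp hTi x hx h hh hhT
  by_contra hne
  have hinj := H.subtype_injective
  have hxT : x ∈ T := hx.1
  have hxH : x ∈ H := hTH hxT
  have hxc : ∀ l ∈ H, l ∈ Subgroup.normalizer ((W T : Subgroup G) : Set G) → l * x = x * l := by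
    intro l hl hlN
    exact (Subgroup.mem_centralizer_iff.mp hx.2) l ⟨hl, hlN⟩
  have hTNW : T ≤ Subgroup.normalizer ((W T : Subgroup G) : Set G) := le_normalizer_functor hW hTp
  -- the Sylow subgroup of `↥H`
  have hT' : IsPGroup p (T.subgroupOf H) := hTp.comap_subtype
  obtain ⟨S', hS'⟩ : ∃ S' : Sylow p ↥H, (S' : Subgroup ↥H) = T.subgroupOf H :=
    ⟨hT'.toSylow hTi, rfl⟩
  have hS'map : (S' : Subgroup ↥H).map H.subtype = T := by
    rw [hS']; exact Subgroup.map_subgroupOf_eq_of_le hTH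
  have hW' := isConjugacyFunctor_resFunctor hW H
  have hW'Z : ∀ P : Subgroup ↥H, IsPGroup p ↥P →
      P ⊓ Subgroup.centralizer ((P : Subgroup ↥H) : Set ↥H) ≤ resFunctor W H P := by
    intro P hP y hy
    show (y : G) ∈ W (P.map H.subtype)
    apply hWZ _ (hP.map _)
    rw [Subgroup.mem_inf]
    refine ⟨⟨y, hy.1, rfl⟩, ?_⟩
    rw [Subgroup.mem_centralizer_iff]
    rintro _ ⟨z, hz, rfl⟩
    have := (Subgroup.mem_centralizer_iff.mp hy.2) z hz
    exact congrArg Subtype.val this
  have hW'S : resFunctor W H (S' : Subgroup ↥H) = (W T).subgroupOf H := by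
    unfold resFunctor; rw [hS'map]
  obtain ⟨x', hx'⟩ : ∃ x' : ↥H, x' = ⟨x, hxH⟩ := ⟨_, rfl⟩
  obtain ⟨h', hh'⟩ : ∃ h' : ↥H, h' = ⟨h, hh⟩ := ⟨_, rfl⟩
  have hx'S : x' ∈ (S' : Subgroup ↥H) := by
    rw [hS', hx']; exact Subgroup.mem_subgroupOf.mpr hxT
  have hx'Z : x' ∈ (S' : Subgroup ↥H) ⊓ Subgroup.centralizer (((S' : Subgroup ↥H) : Subgroup ↥H) : Set ↥H) := by
    rw [Subgroup.mem_inf]
    refine ⟨hx'S, ?_⟩
    rw [Subgroup.mem_centralizer_iff]
    intro y hy
    rw [hS'] at hy
    have hyT : (y : G) ∈ T := Subgroup.mem_subgroupOf.mp hy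
    apply Subtype.ext
    rw [hx']
    exact hxc y y.2 (hTNW hyT)
  -- normalizers in `↥H` and in `G`
  have hnorm : ∀ (D : Subgroup G) (l : ↥H), D ≤ H →
      (l ∈ Subgroup.normalizer ((D.subgroupOf H : Subgroup ↥H) : Set ↥H) ↔
        (l : G) ∈ Subgroup.normalizer ((D : Subgroup G) : Set G)) := by
    intro D l hDH
    have h1 := map_le_normalizer_map_iff H.subtype hinj (Subgroup.zpowers l) (D.subgroupOf H)
    rw [Subgroup.map_subgroupOf_eq_of_le hDH, MonoidHom.map_zpowers, Subgroup.zpowers_le,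
      Subgroup.zpowers_le] at h1
    exact h1.symm
  have hx'N : ∀ n ∈ Subgroup.normalizer ((resFunctor W H (S' : Subgroup ↥H) : Subgroup ↥H) : Set ↥H),
      n * x' * n⁻¹ = x' := by
    intro l hl
    rw [hW'S, hnorm _ l ((hW T hTp).1.trans hTH)] at hl
    have := hxc l l.2 hl
    apply Subtype.ext
    rw [hx']
    show (l : G) * x * (l : G)⁻¹ = x
    rw [this]; group
  have hh'S : h' * x' * h'⁻¹ ∈ (S' : Subgroup ↥H) := by
    rw [hS', hx', hh']; exact Subgroup.mem_subgroupOf.mpr hhT
  have hh'x : h' * x' * h'⁻¹ ≠ x' := by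
    intro he
    apply hne
    have := congrArg Subtype.val he
    rw [hx', hh'] at this
    exact this
  obtain ⟨U', hwp, hxU, hN, hidx, g', hg'N, hg'x⟩ :=
    exists_wellPlaced_fusion S' (resFunctor W H) hW' hW'Z x' hx'Z hx'N h' hh'S hh'x
  -- the subgroup `L = N_H(U')`
  obtain ⟨L, hLdef⟩ : ∃ L, L = (Subgroup.normalizer ((U' : Subgroup ↥H) : Set ↥H)).map H.subtype := ⟨_, rfl⟩
  obtain ⟨R', hR'def⟩ : ∃ R', R' = (S' : Subgroup ↥H) ⊓ Subgroup.normalizer ((U' : Subgroup ↥H) : Set ↥H) :=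
    ⟨_, rfl⟩
  obtain ⟨R, hRdef⟩ : ∃ R, R = R'.map H.subtype := ⟨_, rfl⟩
  rw [← hR'def] at hN hidx
  have hLH : L ≤ H := by rw [hLdef]; exact Subgroup.map_subtype_le _
  have hR'p : IsPGroup p R' := S'.2.to_le (by rw [hR'def]; exact inf_le_left)
  have hU'S : U' ≤ (S' : Subgroup ↥H) := hwp.1
  have hgx'U : g' * x' * g'⁻¹ ∈ U' :=
    ((Subgroup.mem_normalizer_iff.mp hg'N) x').mp hxU
  by_cases hcL : Nat.card L < n
  · -- induction in `L`
    have hRL : R ≤ L := by
      rw [hRdef, hLdef, hR'def]; exact Subgroup.map_mono inf_le_right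
    have hRp : IsPGroup p R := by rw [hRdef]; exact hR'p.map _
    have hRi : ¬ p ∣ R.relIndex L := by
      rw [hRdef, hLdef, Subgroup.relIndex_map_map_of_injective _ _ hinj]
      exact hidx
    have hWR : resFunctor W H R' = (W R).subgroupOf H := by
      unfold resFunctor; rw [hRdef]
    have hRH : R ≤ H := hRL.trans hLH
    have hxR : x ∈ R ⊓ Subgroup.centralizer
        ((L ⊓ Subgroup.normalizer ((W R : Subgroup G) : Set G) : Subgroup G) : Set G) := by
      rw [Subgroup.mem_inf]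
      refine ⟨?_, ?_⟩
      · rw [hRdef]
        refine ⟨x', ?_, by rw [hx']; rfl⟩
        rw [hR'def]
        exact ⟨hx'S, Subgroup.le_normalizer hxU⟩
      · rw [Subgroup.mem_centralizer_iff]
        rintro l ⟨hlL, hlN⟩
        rw [hLdef] at hlL
        obtain ⟨l', _, rfl⟩ := hlL
        have hl'N : l' ∈ Subgroup.normalizer ((resFunctor W H R' : Subgroup ↥H) : Set ↥H) := by
          rw [hWR, hnorm _ l' ((hW R hRp).1.trans hRH)]
          exact hlN
        have h1 := hN l' hl'N
        have h2 := congrArg Subtype.val h1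
        rw [hx'] at h2
        have h3 : (l' : G) * x * (l' : G)⁻¹ = x := h2
        calc (l' : G) * x = ((l' : G) * x * (l' : G)⁻¹) * (l' : G) := by group
          _ = x * (l' : G) := by rw [h3]
    have hgL : (g' : G) ∈ L := by rw [hLdef]; exact ⟨g', hg'N, rfl⟩
    have hgR : (g' : G) * x * (g' : G)⁻¹ ∈ R := by
      rw [hRdef]
      refine ⟨g' * x' * g'⁻¹, ?_, by rw [hx']; rfl⟩
      rw [hR'def]
      exact ⟨hU'S hgx'U, Subgroup.le_normalizer hgx'U⟩
    have h1 := ih (Nat.card L) hcL L rfl R hRL hRp hRi x hxR (g' : G) hgL hgR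
    apply hg'x
    apply Subtype.ext
    rw [hx']
    exact h1
  · -- `U'` is normal in `↥H`
    have hLeq : L = H := by
      apply Subgroup.eq_of_le_of_card_ge hLH
      rw [hcard]; exact not_lt.mp hcL
    have hU'n : U'.Normal := by
      rw [← Subgroup.normalizer_eq_top_iff]
      apply Subgroup.map_injective hinj
      rw [← hLdef, hLeq, ← MonoidHom.range_eq_map, Subgroup.range_subtype]
    have hU'p : IsPGroup p U' := S'.2.to_le hU'S
    have hU'Q : U' ≤ pCore p ↥H := Cfsg.Agent.Lib.Helper6.le_pCore hU'n hU'p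
    have hQS : pCore p ↥H ≤ (S' : Subgroup ↥H) := Cfsg.Agent.Lib.Helper6.pCore_le_sylow S'
    have hx'V : x' ∈ zOf (pCore p ↥H) := by
      refine ⟨hU'Q hxU, ?_⟩
      exact Subgroup.centralizer_le (by exact_mod_cast hQS) hx'Z.2
    -- the maximal subgroup
    obtain ⟨M', hM'def⟩ : ∃ M' : Subgroup ↥H, M' = Subgroup.centralizer ({x'} : Set ↥H) := ⟨_, rfl⟩
    have hM'mem : ∀ m : ↥H, m ∈ M' ↔ m * x' = x' * m := by
      intro m
      rw [hM'def, Subgroup.mem_centralizer_iff]
      constructor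
      · intro hm; exact (hm x' (Set.mem_singleton x')).symm
      · intro hm y hy
        rw [Set.mem_singleton_iff] at hy
        rw [hy]; exact hm.symm
    have hS'M : (S' : Subgroup ↥H) ≤ M' := by
      intro y hy
      rw [hM'mem]
      exact (Subgroup.mem_centralizer_iff.mp hx'Z.2) y hy
    have hmax : ∀ L' : Subgroup ↥H, (S' : Subgroup ↥H) ≤ L' → L' ≠ ⊤ → L' ≤ M' := by
      intro L' hSL hLtop l' hl'
      rw [hM'mem]
      obtain ⟨L₂, hL₂def⟩ : ∃ L₂, L₂ = L'.map H.subtype := ⟨_, rfl⟩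
      have hL₂H : L₂ ≤ H := by rw [hL₂def]; exact Subgroup.map_subtype_le _
      have hcL₂ : Nat.card L₂ < n := by
        rw [← hcard]
        have h1 : L₂ ≠ H := by
          intro he
          apply hLtop
          apply Subgroup.map_injective hinj
          rw [← hL₂def, he, ← MonoidHom.range_eq_map, Subgroup.range_subtype]
        by_contra hc
        push Not at hc
        exact h1 (Subgroup.eq_of_le_of_card_ge hL₂H hc)
      have hTL₂ : T ≤ L₂ := by
        rw [hL₂def, ← hS'map]; exact Subgroup.map_mono hSL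
      have hTi₂ : ¬ p ∣ T.relIndex L₂ := by
        intro hdvd
        apply hTi
        rw [← Subgroup.relIndex_mul_relIndex T L₂ H hTL₂ hL₂H]
        exact Dvd.dvd.mul_right hdvd _
      have hx₂ : x ∈ T ⊓ Subgroup.centralizer
          ((L₂ ⊓ Subgroup.normalizer ((W T : Subgroup G) : Set G) : Subgroup G) : Set G) := by
        rw [Subgroup.mem_inf]
        refine ⟨hxT, ?_⟩
        rw [Subgroup.mem_centralizer_iff]
        rintro l ⟨hl, hlN⟩
        exact hxc l (hL₂H hl) hlN
      have hlL₂ : (l' : G) ∈ L₂ := by rw [hL₂def]; exact ⟨l', hl', rfl⟩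
      have hlT : (l' : G) * x * (l' : G)⁻¹ ∈ T := by
        have h1 : l' * x' * l'⁻¹ ∈ pCore p ↥H := (inferInstance : (pCore p ↥H).Normal).conj_mem _ (hU'Q hxU) _
        have h2 := hQS h1
        rw [hS', Subgroup.mem_subgroupOf, hx'] at h2
        exact h2
      have h3 := ih (Nat.card L₂) hcL₂ L₂ rfl T hTL₂ hTp hTi₂ x hx₂ (l' : G) hlL₂ hlT
      apply Subtype.ext
      rw [hx']
      show (l' : G) * x = x * (l' : G)
      calc (l' : G) * x = ((l' : G) * x * (l' : G)⁻¹) * (l' : G) := by group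
        _ = x * (l' : G) := by rw [h3]
    -- `W(T)` is not normal in `H`
    have hnot : ¬ H ≤ Subgroup.normalizer ((W T : Subgroup G) : Set G) := by
      intro hHN
      apply hne
      have := hxc h hh (hHN hh)
      rw [this]; group
    obtain ⟨g, hgT, hgQ, hE⟩ := hloc H T hTH hTp hTi hnot
    obtain ⟨g₁, hg₁⟩ : ∃ g₁ : ↥H, g₁ = ⟨g, hTH hgT⟩ := ⟨_, rfl⟩
    have hg₁S : g₁ ∈ (S' : Subgroup ↥H) := by
      rw [hS', hg₁]; exact Subgroup.mem_subgroupOf.mpr hgT
    have hg₁Q : g₁ ∉ pCore p ↥H := by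
      intro hq
      apply hgQ
      exact ⟨g₁, hq, by rw [hg₁]; rfl⟩
    have hE' : ∀ U V : Subgroup ↥H, IsChiefFactor U V → U ≤ zOf (pCore p ↥H) →
        iterCommutator U (Subgroup.zpowers g₁) (p - 1) ≤ V := by
      intro U V hch hU
      have h1 : U.map H.subtype ≤ pCoreOf p H ⊓ Subgroup.centralizer ((pCoreOf p H : Subgroup G) : Set G) := by
        have := (map_le_zOf_map_iff H.subtype hinj U (pCore p ↥H)).mpr hU
        exact this
      have h2 := hE U V hch h1
      rw [← Subgroup.map_le_map_iff_of_injective hinj, iterCommutator_map, MonoidHom.map_zpowers]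
      have : H.subtype g₁ = g := by rw [hg₁]; rfl
      rw [this]
      exact h2
    have hcen := central_of_max_of_engel S' M' hS'M hmax g₁ hg₁S hg₁Q hE' x' hx'V
      (fun m hm => (hM'mem m).mp hm)
    apply hh'x
    have := (Subgroup.mem_center_iff.mp hcen) h'
    rw [this]; group

end Main

end Cfsg.Agent.Lib.Helper4
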