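import Mathlib
import Cfsg.Agent.Lib.Helper4.KCritical
import Cfsg.Agent.Lib.Helper4.WeakClosure2

set_option autoImplicit false

/-! The local conditions of the weak closure theorems for the K-infinity functors. -/

namespace Cfsg.Agent.Lib.Helper4

open Cfsg

universe u

variable {G : Type u} [Group G] [Finite G] {p : ℕ} [Fact p.Prime]

theorem zOf_le_inducedFunctor_kInfLower (P : Subgroup G) :
    P ⊓ Subgroup.centralizer ((P : Subgroup G) : Set G) ≤ inducedFunctor kInfLower P := by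
  intro z hz
  refine ⟨⟨z, hz.1⟩, center_le_kInfLower ↥P ?_, rfl⟩
  rw [Subgroup.mem_center_iff]
  intro y
  apply Subtype.ext
  exact (Subgroup.mem_centralizer_iff.mp hz.2) y y.2

theorem zOf_le_inducedFunctor_kInfUpper (P : Subgroup G) :
    P ⊓ Subgroup.centralizer ((P : Subgroup G) : Set G) ≤ inducedFunctor kInfUpper P := by
  intro z hz
  refine ⟨⟨z, hz.1⟩, center_le_kInfUpper ↥P ?_, rfl⟩
  rw [Subgroup.mem_center_iff]
  intro y
  apply Subtype.ext
  exact (Subgroup.mem_centralizer_iff.mp hz.2) y y.2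

/-- the quadratic element in a subgroup `H` where a K-infinity subgroup of a Sylow subgroup is not normal -/
theorem exists_quadratic_in_subgroup {W : ∀ (Q : Type u) [Group Q], Subgroup Q}
    (hWc : IsCharPFunctor.{u} p W)
    (hWK : W = kInfLower ∨ W = kInfUpper)
    (H T : Subgroup G) (hTH : T ≤ H) (hTp : IsPGroup p ↥T) (hTi : ¬ p ∣ T.relIndex H)
    (hnot : ¬ H ≤ Subgroup.normalizer ((inducedFunctor W T : Subgroup G) : Set G)) :
    ∃ g : G, g ∈ T ∧ g ∉ pCoreOf p H ∧
      ⁅⁅pCoreOf p H ⊓ Subgroup.centralizer ((pCoreOf p H : Subgroup G) : Set G), Subgroup.zpowers g⁆,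
        Subgroup.zpowers g⁆ = ⊥ := by
  have hinj := H.subtype_injective
  have hT' : IsPGroup p (T.subgroupOf H) := hTp.comap_subtype
  obtain ⟨S', hS'⟩ : ∃ S' : Sylow p ↥H, (S' : Subgroup ↥H) = T.subgroupOf H :=
    ⟨hT'.toSylow hTi, rfl⟩
  have hS'map : (S' : Subgroup ↥H).map H.subtype = T := by
    rw [hS']; exact Subgroup.map_subgroupOf_eq_of_le hTH
  have hval : (inducedFunctor W (S' : Subgroup ↥H)).map H.subtype = inducedFunctor W T := by
    rw [← hS'map]
    exact (inducedFunctor_map hWc H.subtype (S' : Subgroup ↥H) S'.2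
      (fun y _ hy => hinj (by rw [hy, map_one]))).symm
  have hnn : ¬ (inducedFunctor W (S' : Subgroup ↥H)).Normal := by
    intro hn
    apply hnot
    intro h hh
    rw [← hval, Subgroup.mem_normalizer_iff]
    intro y
    constructor
    · rintro ⟨y', hy', rfl⟩
      exact ⟨⟨h, hh⟩ * y' * ⟨h, hh⟩⁻¹, hn.conj_mem _ hy' _, rfl⟩
    · rintro ⟨y', hy', hyy⟩
      have h1 := hn.conj_mem _ hy' ⟨h, hh⟩⁻¹
      refine ⟨⟨h, hh⟩⁻¹ * y' * ⟨h, hh⟩⁻¹⁻¹, h1, ?_⟩
      show h⁻¹ * (y' : G) * h⁻¹⁻¹ = y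
      have : (y' : G) = h * y * h⁻¹ := hyy
      rw [this]; group
  have hK : ¬ (inducedFunctor kInfLower (S' : Subgroup ↥H)).Normal ∨
      ¬ (inducedFunctor kInfUpper (S' : Subgroup ↥H)).Normal := by
    rcases hWK with rfl | rfl
    · exact Or.inl hnn
    · exact Or.inr hnn
  obtain ⟨g', hg'S, hg'Q, -, hquad⟩ := exists_quartic_of_not_normal S' hK
  refine ⟨(g' : G), ?_, ?_, ?_⟩
  · rw [← hS'map]; exact ⟨g', hg'S, rfl⟩
  · rintro ⟨y, hy, hyg⟩
    have : y = g' := Subtype.ext hyg
    rw [this] at hy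
    exact hg'Q hy
  · have h1 := congrArg (Subgroup.map H.subtype) hquad
    rw [Subgroup.map_commutator, Subgroup.map_commutator, map_zOf H.subtype hinj, MonoidHom.map_zpowers,
      Subgroup.map_bot] at h1
    exact h1

section

variable {X : Type*} [Group X]

theorem iterCommutator_add (N K : Subgroup X) (a b : ℕ) :
    iterCommutator N K (a + b) = iterCommutator (iterCommutator N K a) K b := by
  induction b with
  | zero => rfl
  | succ b ih =>
    show ⁅iterCommutator N K (a + b), K⁆ = ⁅iterCommutator (iterCommutator N K a) K b, K⁆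
    rw [ih]

theorem iterCommutator_bot (K : Subgroup X) (b : ℕ) : iterCommutator (⊥ : Subgroup X) K b = ⊥ := by
  induction b with
  | zero => rfl
  | succ b ih =>
    show ⁅iterCommutator (⊥ : Subgroup X) K b, K⁆ = ⊥
    rw [ih]; exact Subgroup.commutator_bot_left K

/-- a quadratic action gives every higher Engel condition -/
theorem iterCommutator_le_of_quadratic {Z U K V : Subgroup X} (hUZ : U ≤ Z) (hq : ⁅⁅Z, K⁆, K⁆ = ⊥)
    (n : ℕ) (hn : 2 ≤ n) : iterCommutator U K n ≤ V := by
  obtain ⟨m, rfl⟩ : ∃ m, n = 2 + m := ⟨n - 2, by omega⟩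
  rw [iterCommutator_add]
  have h1 : iterCommutator U K 2 = ⊥ := by
    rw [eq_bot_iff, ← hq]
    exact Subgroup.commutator_mono (Subgroup.commutator_mono hUZ le_rfl) le_rfl
  rw [h1, iterCommutator_bot]
  exact bot_le

end

end Cfsg.Agent.Lib.Helper4
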