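import Mathlib
import Cfsg.Prelude.Def_LocalEven
import Cfsg.Prelude.Def_CaseTheorems
import Cfsg.Agent.Lib.Helper4.ChiefEngel
import Cfsg.Agent.Lib.Helper4.KSemi
import Cfsg.Agent.Lib.Helper6.PCore
import Cfsg.Agent.Lib.Lead.CoprimeAction2
import Cfsg.Agent.Lib.Lead.ThompsonPQ

set_option autoImplicit false
open scoped commutatorElement

/-! Internal forms of `p`-stability in the normalizer form: minimal invariant subgroups on which a quadratic element of a
normal subgroup acts, and the elements centralizing all chief factors below `O_p`. -/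

namespace Cfsg.Agent.Lib.Helper4

open Cfsg

section Internal

variable {Γ : Type*} [Group Γ] [Finite Γ] {p : ℕ} [hp : Fact p.Prime]

/-- internal form of `p`-stability: a quadratic element lies in a subgroup, normal in `N(P)`, acting on `P` as a
`p`-group -/
theorem ps_exists_core (hst : IsNormalizerPStable p Γ) (P : Subgroup Γ) (hP : IsPGroup p P) (g : Γ)
    (hg : g ∈ Subgroup.normalizer (P : Set Γ))
    (hq : ⁅⁅P, Subgroup.zpowers g⁆, Subgroup.zpowers g⁆ = ⊥) :
    ∃ D : Subgroup Γ, g ∈ D ∧ D ≤ Subgroup.normalizer (P : Set Γ) ∧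
      (∀ n ∈ Subgroup.normalizer (P : Set Γ), ∀ d ∈ D, n * d * n⁻¹ ∈ D) ∧
      (∀ d ∈ D, ∃ k : ℕ, d ^ p ^ k ∈ Subgroup.centralizer (P : Set Γ)) := by
  obtain ⟨N, hNdef⟩ : ∃ N, N = Subgroup.normalizer (P : Set Γ) := ⟨_, rfl⟩
  have h := hst P hP g hg hq
  obtain ⟨D₀, hD₀def⟩ : ∃ D₀ : Subgroup ↥(Subgroup.normalizer (P : Set Γ)),
      D₀ = (pCore p (↥(Subgroup.normalizer (P : Set Γ)) ⧸
        (Subgroup.centralizer (P : Set Γ)).subgroupOf (Subgroup.normalizer (P : Set Γ)))).comap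
        (QuotientGroup.mk' ((Subgroup.centralizer (P : Set Γ)).subgroupOf
          (Subgroup.normalizer (P : Set Γ)))) := ⟨_, rfl⟩
  have hD₀n : D₀.Normal := by
    rw [hD₀def]
    exact Subgroup.Normal.comap (Cfsg.pCore_normal p _) _
  have hmemD₀ : ∀ d : ↥(Subgroup.normalizer (P : Set Γ)), d ∈ D₀ ↔
      (QuotientGroup.mk' ((Subgroup.centralizer (P : Set Γ)).subgroupOf
        (Subgroup.normalizer (P : Set Γ)))) d ∈ pCore p (↥(Subgroup.normalizer (P : Set Γ)) ⧸
        (Subgroup.centralizer (P : Set Γ)).subgroupOf (Subgroup.normalizer (P : Set Γ))) := by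
    intro d; rw [hD₀def]; exact Subgroup.mem_comap
  refine ⟨D₀.map (Subgroup.normalizer (P : Set Γ)).subtype, ⟨⟨g, hg⟩, ?_, rfl⟩,
    Subgroup.map_subtype_le _, ?_, ?_⟩
  · rw [SetLike.mem_coe, hmemD₀]
    exact h
  · rintro n hn _ ⟨d, hd, rfl⟩
    exact ⟨⟨n, hn⟩ * d * ⟨n, hn⟩⁻¹, hD₀n.conj_mem d hd _, rfl⟩
  · rintro _ ⟨d, hd, rfl⟩
    rw [SetLike.mem_coe, hmemD₀] at hd
    have hpg : IsPGroup p (pCore p (↥(Subgroup.normalizer (P : Set Γ)) ⧸
        (Subgroup.centralizer (P : Set Γ)).subgroupOf (Subgroup.normalizer (P : Set Γ)))) :=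
      Cfsg.Agent.Lib.Helper6.pCore_isPGroup p
    obtain ⟨k, hk⟩ := hpg ⟨_, hd⟩
    refine ⟨k, ?_⟩
    have h1 : (QuotientGroup.mk' ((Subgroup.centralizer (P : Set Γ)).subgroupOf
        (Subgroup.normalizer (P : Set Γ)))) (d ^ p ^ k) = 1 := by
      rw [map_pow]
      exact congrArg Subtype.val hk
    rw [QuotientGroup.mk'_apply, QuotientGroup.eq_one_iff, Subgroup.mem_subgroupOf] at h1
    simpa using h1

/-- a subgroup of `N(P)` acting on the nontrivial `p`-group `P` through a `p`-group has a nontrivial fixed point -/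
theorem exists_fixed_of_pact (P : Subgroup Γ) (hP : IsPGroup p P) (hPne : P ≠ ⊥) (D : Subgroup Γ)
    (hDN : D ≤ Subgroup.normalizer (P : Set Γ))
    (hDp : ∀ d ∈ D, ∃ k : ℕ, d ^ p ^ k ∈ Subgroup.centralizer (P : Set Γ)) :
    ∃ x ∈ P, x ≠ 1 ∧ ∀ d ∈ D, d * x * d⁻¹ = x := by
  classical
  let φ : ↥D →* MulAut ↥P := P.normalizerMonoidHom.comp (Subgroup.inclusion hDN)
  have hφ : ∀ (d : ↥D) (x : ↥P), ((φ d) x : Γ) = (d : Γ) * x * (d : Γ)⁻¹ := by
    intro d x; rfl
  have hΔ : IsPGroup p φ.range := by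
    rintro ⟨_, d, rfl⟩
    obtain ⟨k, hk⟩ := hDp d d.2
    refine ⟨k, ?_⟩
    apply Subtype.ext
    show (φ d) ^ p ^ k = 1
    rw [← map_pow]
    apply MulEquiv.ext
    intro x
    apply Subtype.ext
    rw [hφ]
    have h1 := (Subgroup.mem_centralizer_iff.mp hk) (x : Γ) x.2
    rw [Subgroup.coe_pow]
    show (d : Γ) ^ p ^ k * (x : Γ) * ((d : Γ) ^ p ^ k)⁻¹ = ((1 : MulAut ↥P) x : Γ)
    rw [← h1]
    simp
  have : Nontrivial ↥P := (Subgroup.nontrivial_iff_ne_bot P).mpr hPne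
  have hdvd : p ∣ Nat.card ↥P := by
    obtain ⟨n, hn0, hn⟩ := hP.nontrivial_iff_card.mp inferInstance
    rw [hn]; exact dvd_pow_self _ (ne_of_gt hn0)
  have h1 : (1 : ↥P) ∈ MulAction.fixedPoints ↥φ.range ↥P := by
    intro δ
    show (δ : MulAut ↥P) • (1 : ↥P) = 1
    exact smul_one _
  obtain ⟨b, hb, hb1⟩ := hΔ.exists_fixed_point_of_prime_dvd_card_of_fixed_point ↥P hdvd h1
  refine ⟨(b : Γ), b.2, ?_, ?_⟩
  · intro h
    apply hb1
    apply Subtype.ext
    exact h.symm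
  · intro d hd
    have h2 := hb ⟨φ ⟨d, hd⟩, ⟨d, hd⟩, rfl⟩
    have h3 : (φ ⟨d, hd⟩) b = b := h2
    have h4 := congrArg Subtype.val h3
    rw [hφ] at h4
    exact h4

/-- **quadratic elements of a normal subgroup centralize its minimal invariant `p`-subgroups** -/
theorem ps_min_invariant_top (hst : IsNormalizerPStable p Γ) (R : Subgroup Γ) [hRn : R.Normal]
    (P : Subgroup Γ) (hP : IsPGroup p P) (hRP : R ≤ Subgroup.normalizer (P : Set Γ))
    (hmin : ∀ P' : Subgroup Γ, P' ≤ P → R ≤ Subgroup.normalizer (P' : Set Γ) → P' = ⊥ ∨ P' = P)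
    (g : Γ) (hgR : g ∈ R) (hq : ⁅⁅P, Subgroup.zpowers g⁆, Subgroup.zpowers g⁆ = ⊥) :
    ⁅P, Subgroup.zpowers g⁆ = ⊥ := by
  by_cases hPne : P = ⊥
  · rw [hPne]; exact Subgroup.commutator_bot_left _
  obtain ⟨D, hgD, hDN, hDn, hDp⟩ := ps_exists_core hst P hP g (hRP hgR) hq
  obtain ⟨R', hR'def⟩ : ∃ R', R' = R ⊓ D := ⟨_, rfl⟩
  have hR'N : R' ≤ Subgroup.normalizer (P : Set Γ) := by rw [hR'def]; exact inf_le_right.trans hDN
  have hR'p : ∀ d ∈ R', ∃ k : ℕ, d ^ p ^ k ∈ Subgroup.centralizer (P : Set Γ) := by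
    intro d hd; rw [hR'def] at hd; exact hDp d hd.2
  have hR'conj : ∀ r ∈ R, ∀ d ∈ R', r * d * r⁻¹ ∈ R' := by
    intro r hr d hd
    rw [hR'def] at hd ⊢
    exact ⟨hRn.conj_mem d hd.1 r, hDn r (hRP hr) d hd.2⟩
  obtain ⟨F, hFdef⟩ : ∃ F, F = P ⊓ Subgroup.centralizer (R' : Set Γ) := ⟨_, rfl⟩
  have hFP : F ≤ P := by rw [hFdef]; exact inf_le_left
  have hRF : R ≤ Subgroup.normalizer (F : Set Γ) := by
    rw [le_normalizer_iff_forall]
    intro r hr x hx
    rw [hFdef, Subgroup.mem_inf] at hx ⊢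
    refine ⟨((le_normalizer_iff_forall R P).mp hRP) r hr x hx.1, ?_⟩
    rw [Subgroup.mem_centralizer_iff]
    intro d hd
    have hd' : r⁻¹ * d * r⁻¹⁻¹ ∈ R' := hR'conj r⁻¹ (R.inv_mem hr) d hd
    have h1 := (Subgroup.mem_centralizer_iff.mp hx.2) _ hd'
    calc d * (r * x * r⁻¹) = r * ((r⁻¹ * d * r⁻¹⁻¹) * x) * r⁻¹ := by group
      _ = r * (x * (r⁻¹ * d * r⁻¹⁻¹)) * r⁻¹ := by rw [h1]
      _ = r * x * r⁻¹ * d := by group
  obtain ⟨x, hxP, hx1, hxfix⟩ := exists_fixed_of_pact P hP hPne R' hR'N hR'p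
  have hFne : F ≠ ⊥ := by
    intro hF
    apply hx1
    have : x ∈ F := by
      rw [hFdef, Subgroup.mem_inf]
      refine ⟨hxP, ?_⟩
      rw [Subgroup.mem_centralizer_iff]
      intro d hd
      have := hxfix d hd
      calc d * x = (d * x * d⁻¹) * d := by group
        _ = x * d := by rw [this]
    rw [hF, Subgroup.mem_bot] at this
    exact this
  have hFeq : F = P := (hmin F hFP hRF).resolve_left hFne
  rw [eq_bot_iff, Subgroup.commutator_le]
  intro x hx y hy
  rw [Subgroup.mem_bot, commutatorElement_eq_one_iff_mul_comm]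
  have hx' : x ∈ F := by rw [hFeq]; exact hx
  rw [hFdef, Subgroup.mem_inf] at hx'
  have hgR' : g ∈ R' := by rw [hR'def]; exact ⟨hgR, hgD⟩
  have hyR' : y ∈ R' := (Subgroup.zpowers_le.mpr hgR') hy
  exact ((Subgroup.mem_centralizer_iff.mp hx'.2) y hyR').symm

end Internal

section Quot

variable {G : Type*} [Group G] [Finite G] {p : ℕ} [hp : Fact p.Prime]

/-- the relative form: `M / Y` a minimal `R`-invariant `p`-section with `Y` normal in `G` -/
theorem ps_min_invariant (Y : Subgroup G) [hYn : Y.Normal] (hst : IsNormalizerPStable p (G ⧸ Y))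
    (R : Subgroup G) [hRn : R.Normal] (M : Subgroup G) (hYM : Y ≤ M) (hM : IsPGroup p M)
    (hRM : R ≤ Subgroup.normalizer (M : Set G))
    (hmin : ∀ M' : Subgroup G, Y ≤ M' → M' ≤ M → R ≤ Subgroup.normalizer (M' : Set G) → M' = Y ∨ M' = M)
    (g : G) (hgR : g ∈ R) (hq : ⁅⁅M, Subgroup.zpowers g⁆, Subgroup.zpowers g⁆ ≤ Y) :
    ⁅M, Subgroup.zpowers g⁆ ≤ Y := by
  obtain ⟨π, hπdef⟩ : ∃ π : G →* G ⧸ Y, π = QuotientGroup.mk' Y := ⟨_, rfl⟩
  have hπs : Function.Surjective π := by rw [hπdef]; exact QuotientGroup.mk'_surjective Y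
  have hker : π.ker = Y := by rw [hπdef]; exact QuotientGroup.ker_mk' Y
  haveI hRbn : (R.map π).Normal := hRn.map π hπs
  have hRP : R.map π ≤ Subgroup.normalizer ((M.map π : Subgroup (G ⧸ Y)) : Set (G ⧸ Y)) :=
    (Subgroup.map_mono hRM).trans (Subgroup.le_normalizer_map π)
  have hminb : ∀ P' : Subgroup (G ⧸ Y), P' ≤ M.map π →
      R.map π ≤ Subgroup.normalizer ((P' : Subgroup (G ⧸ Y)) : Set (G ⧸ Y)) → P' = ⊥ ∨ P' = M.map π := by
    intro P' hP'M hRP'
    obtain ⟨M', hM'def⟩ : ∃ M', M' = M ⊓ P'.comap π := ⟨_, rfl⟩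
    have hYM' : Y ≤ M' := by
      rw [hM'def]
      refine le_inf hYM ?_
      exact hker.ge.trans (Subgroup.ker_le_comap π P')
    have hM'M : M' ≤ M := by rw [hM'def]; exact inf_le_left
    have hRM' : R ≤ Subgroup.normalizer (M' : Set G) := by
      rw [hM'def]
      refine le_trans (le_inf hRM ?_) Subgroup.inf_normalizer_le_normalizer_inf
      refine le_trans ?_ (Subgroup.le_normalizer_comap π)
      intro r hr
      rw [Subgroup.mem_comap]
      exact hRP' ⟨r, hr, rfl⟩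
    have hmap : M'.map π = P' := by
      apply le_antisymm
      · rintro _ ⟨m, hm, rfl⟩
        rw [hM'def] at hm
        exact hm.2
      · intro x hx
        obtain ⟨m, hm, rfl⟩ := hP'M hx
        exact ⟨m, by rw [hM'def]; exact ⟨hm, hx⟩, rfl⟩
    rcases hmin M' hYM' hM'M hRM' with h | h
    · left
      rw [← hmap]
      apply (Subgroup.map_eq_bot_iff _).mpr
      rw [h]
      exact hker.ge
    · right
      rw [← hmap, h]
  have hqb : ⁅⁅M.map π, Subgroup.zpowers (π g)⁆, Subgroup.zpowers (π g)⁆ = ⊥ := by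
    rw [← MonoidHom.map_zpowers, ← Subgroup.map_commutator, ← Subgroup.map_commutator,
      Subgroup.map_eq_bot_iff, hker]
    exact hq
  have hst' : IsNormalizerPStable p (G ⧸ Y) := hst
  have key := ps_min_invariant_top hst' (R.map π) (M.map π) (hM.map π) hRP hminb (π g) ⟨g, hgR, rfl⟩ hqb
  rw [← MonoidHom.map_zpowers, ← Subgroup.map_commutator, Subgroup.map_eq_bot_iff, hker] at key
  exact key

/-- a quadratic element centralizes a chief factor (in a group whose quotient by the bottom is `p`-stable) -/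
theorem ps_chief {U V : Subgroup G} (hch : IsChiefFactor U V) (hU : IsPGroup p U)
    (hst : ∀ (N : Subgroup G) (hN : N.Normal), IsNormalizerPStable p (G ⧸ N))
    (g : G) (hq : ⁅⁅U, Subgroup.zpowers g⁆, Subgroup.zpowers g⁆ ≤ V) :
    ⁅U, Subgroup.zpowers g⁆ ≤ V := by
  haveI hVn : V.Normal := hch.2.2.1
  haveI hUn : U.Normal := hch.2.1
  apply ps_min_invariant V (hst V hVn) ⊤ U hch.1.le hU
    (by rw [Subgroup.normalizer_eq_top_iff.mpr hUn]) ?_ g (Subgroup.mem_top g) hq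
  intro M' hVM' hM'U hn
  have hM'n : M'.Normal := by
    rw [← Subgroup.normalizer_eq_top_iff, eq_top_iff]; exact hn
  exact hch.2.2.2 M' hM'n hVM' hM'U

/-- an element centralizing all the chief factors below `O_p(G)` of a `p`-constrained group lies in `O_p(G)` -/
theorem mem_pCore_of_central_chief (hc : Subgroup.centralizer ((pCore p G : Subgroup G) : Set G) ≤ pCore p G)
    (g : G) (h : ∀ U V : Subgroup G, IsChiefFactor U V → U ≤ pCore p G → ⁅U, Subgroup.zpowers g⁆ ≤ V) :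
    g ∈ pCore p G := by
  have hp' : p.Prime := hp.out
  have hTp : IsPGroup p (pCore p G) := Cfsg.Agent.Lib.Helper6.pCore_isPGroup p
  obtain ⟨D, hDdef⟩ : ∃ D, D = Subgroup.normalClosure ({g} : Set G) := ⟨_, rfl⟩
  have hgD : g ∈ D := by rw [hDdef]; exact Subgroup.subset_normalClosure (Set.mem_singleton g)
  have hDn : D.Normal := by rw [hDdef]; exact Subgroup.normalClosure_normal
  -- every element of `D` centralizes the chief factors
  have hD : ∀ d ∈ D, ∀ U V : Subgroup G, IsChiefFactor U V → U ≤ pCore p G →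
      ⁅U, Subgroup.zpowers d⁆ ≤ V := by
    intro d hd U V hch hUT
    haveI hVn : V.Normal := hch.2.2.1
    haveI hUn : U.Normal := hch.2.1
    have h1 : D ≤ centSection U V := by
      rw [hDdef]
      apply Subgroup.normalClosure_le_normal
      intro x hx
      rw [Set.mem_singleton_iff] at hx
      rw [hx, SetLike.mem_coe, mem_centSection_iff_comm]
      intro u hu
      exact h U V hch hUT (Subgroup.commutator_mem_commutator hu (Subgroup.mem_zpowers g))
    rw [Subgroup.commutator_le]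
    intro u hu y hy
    have hy' : y ∈ centSection U V := h1 ((Subgroup.zpowers_le.mpr hd) hy)
    exact (mem_centSection_iff_comm.mp hy') u hu
  have hDp : IsPGroup p D := by
    rintro ⟨d, hd⟩
    have hn : orderOf d ≠ 0 := (orderOf_pos d).ne'
    obtain ⟨a, m, hm, ham⟩ := Nat.exists_eq_pow_mul_and_not_dvd hn p hp'.one_lt.ne'
    refine ⟨a, ?_⟩
    apply Subtype.ext
    rw [Subgroup.coe_pow, Subgroup.coe_one]
    obtain ⟨y, hydef⟩ : ∃ y, y = d ^ p ^ a := ⟨_, rfl⟩
    rw [← hydef]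
    have hyD : y ∈ D := by rw [hydef]; exact D.pow_mem hd _
    have hyord : orderOf y = m := by
      rw [hydef, orderOf_pow' _ (pow_ne_zero a hp'.ne_zero), ham]
      have hg' : (p ^ a * m).gcd (p ^ a) = p ^ a := Nat.gcd_eq_right (dvd_mul_right _ _)
      rw [hg', Nat.mul_div_cancel_left _ (pow_pos hp'.pos a)]
    have hycop : (orderOf y).Coprime p := by
      rw [hyord]; exact ((Nat.Prime.coprime_iff_not_dvd hp').mpr hm).symm
    -- `y` centralizes `O_p(G)`
    have hyc : ⁅pCore p G, Subgroup.zpowers y⁆ = ⊥ := by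
      by_contra hne
      obtain ⟨N₁, N₀, hch, hN₁T, hN₁, hN₀⟩ := exists_chief_min
        (fun N => ¬ ⁅N, Subgroup.zpowers y⁆ = ⊥) (pCore p G) hne (by
          intro h; exact h (Subgroup.commutator_bot_left _))
      push Not at hN₀
      haveI hN₁n : N₁.Normal := hch.2.1
      have h1 : ⁅N₁, Subgroup.zpowers y⁆ ≤ N₀ := hD y hyD N₁ N₀ hch hN₁T
      have h2 : ⁅⁅N₁, Subgroup.zpowers y⁆, Subgroup.zpowers y⁆ = ⊥ := by
        rw [eq_bot_iff, ← hN₀]
        exact Subgroup.commutator_mono h1 le_rfl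
      have hN₁p : IsPGroup p N₁ := hTp.to_le hN₁T
      have hcop : (Nat.card (Subgroup.zpowers y)).Coprime (Nat.card N₁) := by
        rw [Nat.card_zpowers]
        obtain ⟨k, hk⟩ := IsPGroup.iff_card.mp hN₁p
        rw [hk]
        exact Nat.Coprime.pow_right k hycop
      have h3 := Cfsg.Agent.Lib.Lead.coprime_commutator_stable (Subgroup.zpowers y) N₁
        (by rw [Subgroup.normalizer_eq_top_iff.mpr hN₁n]; exact le_top) hcop
        (Or.inr (Cfsg.Agent.Lib.Lead.isSolvable_of_isPGroup p N₁ hN₁p))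
      rw [h2] at h3
      exact hN₁ h3.symm
    have hyT : y ∈ pCore p G := by
      apply hc
      rw [Subgroup.mem_centralizer_iff]
      intro t ht
      have h1 : ⁅t, y⁆ ∈ ⁅pCore p G, Subgroup.zpowers y⁆ :=
        Subgroup.commutator_mem_commutator ht (Subgroup.mem_zpowers y)
      rw [hyc, Subgroup.mem_bot, commutatorElement_eq_one_iff_mul_comm] at h1
      exact h1
    obtain ⟨b, hb⟩ := hTp ⟨y, hyT⟩
    have hb' : y ^ p ^ b = 1 := by
      have := congrArg Subtype.val hb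
      simpa using this
    have h4 : orderOf y ∣ p ^ b := orderOf_dvd_of_pow_eq_one hb'
    have h5 : orderOf y = 1 := by
      have h6 : (orderOf y).Coprime (p ^ b) := Nat.Coprime.pow_right b hycop
      exact Nat.Coprime.eq_one_of_dvd h6 h4
    exact orderOf_eq_one_iff.mp h5
  exact Cfsg.Agent.Lib.Helper6.le_pCore hDn hDp hgD

end Quot

end Cfsg.Agent.Lib.Helper4
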