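import Mathlib
import Cfsg.Agent.Lib.Helper4.PStab1
import Cfsg.Agent.Lib.Helper4.KCritical

set_option autoImplicit false
open scoped commutatorElement

/-! Subgroups acting quadratically on the chief factors inside a critical subgroup of `O_p(G)` lie in `O_p(G)`, when all
quotients of the `p`-constrained group `G` are `p`-stable. -/

namespace Cfsg.Agent.Lib.Helper4

open Cfsg

variable {G : Type*} [Group G] [Finite G] {p : ℕ} [hp : Fact p.Prime]

/-- an element acting quadratically on all chief factors inside the critical subgroup `A` lies in `O_p(G)` -/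
theorem mem_pCore_of_quadratic_chief
    (hps : ∀ (N : Subgroup G) (hN : N.Normal), IsNormalizerPStable p (G ⧸ N))
    (hc : Subgroup.centralizer ((pCore p G : Subgroup G) : Set G) ≤ pCore p G)
    (A : Subgroup G) [hAn : A.Normal] (hAT : A ≤ pCore p G)
    (hTA : ⁅pCore p G, A⁆ ≤ zOf A) (hCA : pCore p G ⊓ Subgroup.centralizer (A : Set G) ≤ zOf A)
    (g : G) (hq : ∀ U V : Subgroup G, IsChiefFactor U V → U ≤ A →
      ⁅⁅U, Subgroup.zpowers g⁆, Subgroup.zpowers g⁆ ≤ V) : g ∈ pCore p G := by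
  have hTp : IsPGroup p (pCore p G) := Cfsg.Agent.Lib.Helper6.pCore_isPGroup p
  have h1 : ∀ U V : Subgroup G, IsChiefFactor U V → U ≤ A →
      iterCommutator U (Subgroup.zpowers g) 1 ≤ V := fun U V hch hUA =>
    ps_chief hch (hTp.to_le (hUA.trans hAT)) hps g (hq U V hch hUA)
  have h2 := chief_engel_of_critical (pCore p G) hTp A hAT hTA hCA g 1 1 le_rfl h1
    (fun U V hch hUZ => h1 U V hch (hUZ.trans (zOf_le A)))
  exact mem_pCore_of_central_chief hc g (fun U V hch hUT => h2 U V hch hUT)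

/-- the same for subgroups -/
theorem le_pCore_of_quadratic_chief
    (hps : ∀ (N : Subgroup G) (hN : N.Normal), IsNormalizerPStable p (G ⧸ N))
    (hc : Subgroup.centralizer ((pCore p G : Subgroup G) : Set G) ≤ pCore p G)
    (A : Subgroup G) [hAn : A.Normal] (hAT : A ≤ pCore p G)
    (hTA : ⁅pCore p G, A⁆ ≤ zOf A) (hCA : pCore p G ⊓ Subgroup.centralizer (A : Set G) ≤ zOf A)
    (B : Subgroup G) (hq : ∀ U V : Subgroup G, IsChiefFactor U V → U ≤ A → ⁅⁅U, B⁆, B⁆ ≤ V) :
    B ≤ pCore p G := by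
  intro b hb
  apply mem_pCore_of_quadratic_chief hps hc A hAT hTA hCA b
  intro U V hch hUA
  have hz : Subgroup.zpowers b ≤ B := Subgroup.zpowers_le.mpr hb
  exact (Subgroup.commutator_mono (Subgroup.commutator_mono le_rfl hz) hz).trans (hq U V hch hUA)

/-- subgroups acting quadratically on `A` -/
theorem le_pCore_of_quadratic
    (hps : ∀ (N : Subgroup G) (hN : N.Normal), IsNormalizerPStable p (G ⧸ N))
    (hc : Subgroup.centralizer ((pCore p G : Subgroup G) : Set G) ≤ pCore p G)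
    (A : Subgroup G) [hAn : A.Normal] (hAT : A ≤ pCore p G)
    (hTA : ⁅pCore p G, A⁆ ≤ zOf A) (hCA : pCore p G ⊓ Subgroup.centralizer (A : Set G) ≤ zOf A)
    (B : Subgroup G) (hq : ⁅⁅A, B⁆, B⁆ = ⊥) : B ≤ pCore p G := by
  apply le_pCore_of_quadratic_chief hps hc A hAT hTA hCA B
  intro U V _ hUA
  refine le_trans ?_ (bot_le : (⊥ : Subgroup G) ≤ V)
  rw [← hq]
  exact Subgroup.commutator_mono (Subgroup.commutator_mono hUA le_rfl) le_rfl

/-- subgroups acting quadratically on `A / Z(A)` and on `Z(A)` -/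
theorem le_pCore_of_quadratic_two_step
    (hps : ∀ (N : Subgroup G) (hN : N.Normal), IsNormalizerPStable p (G ⧸ N))
    (hc : Subgroup.centralizer ((pCore p G : Subgroup G) : Set G) ≤ pCore p G)
    (A : Subgroup G) [hAn : A.Normal] (hAT : A ≤ pCore p G)
    (hTA : ⁅pCore p G, A⁆ ≤ zOf A) (hCA : pCore p G ⊓ Subgroup.centralizer (A : Set G) ≤ zOf A)
    (B : Subgroup G) (h1 : ⁅⁅A, B⁆, B⁆ ≤ zOf A) (h2 : ⁅⁅zOf A, B⁆, B⁆ = ⊥) : B ≤ pCore p G := by
  apply le_pCore_of_quadratic_chief hps hc A hAT hTA hCA B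
  exact chief_engel_of_global A (zOf A) B 2 2 le_rfl h1 h2

/-- the test subgroups of the lower-star condition for `A` lie in `O_p(G)` -/
theorem le_pCore_of_lower_test
    (hps : ∀ (N : Subgroup G) (hN : N.Normal), IsNormalizerPStable p (G ⧸ N))
    (hc : Subgroup.centralizer ((pCore p G : Subgroup G) : Set G) ≤ pCore p G)
    (A : Subgroup G) [hAn : A.Normal] (hAT : A ≤ pCore p G)
    (hTA : ⁅pCore p G, A⁆ ≤ zOf A) (hCA : pCore p G ⊓ Subgroup.centralizer (A : Set G) ≤ zOf A)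
    (A₁ : Subgroup G) (hAA₁ : A ≤ Subgroup.normalizer (A₁ : Set G))
    (h1 : ⁅A, ⁅A₁, A₁⁆⁆ = ⊥) (h2 : ⁅⁅zOf A, A₁⁆, A₁⁆ = ⊥) : A₁ ≤ pCore p G := by
  apply le_pCore_of_quadratic_two_step hps hc A hAT hTA hCA A₁ ?_ h2
  have e1 : ⁅A, A₁⁆ ≤ A ⊓ A₁ :=
    le_inf (Subgroup.commutator_le_left A A₁) (commutator_le_of_le_normalizer hAA₁)
  have e2 : ⁅A ⊓ A₁, A₁⁆ ≤ A ⊓ ⁅A₁, A₁⁆ :=
    le_inf ((Subgroup.commutator_mono inf_le_left le_rfl).trans (Subgroup.commutator_le_left A A₁))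
      (Subgroup.commutator_mono inf_le_right le_rfl)
  refine (Subgroup.commutator_mono e1 le_rfl).trans (e2.trans ?_)
  refine le_inf inf_le_left (inf_le_right.trans ?_)
  rw [Subgroup.commutator_comm, Subgroup.commutator_eq_bot_iff_le_centralizer] at h1
  exact h1

end Cfsg.Agent.Lib.Helper4
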