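import Mathlib
import Cfsg.Agent.Lib.Helper4.PStab2
import Cfsg.Agent.Lib.Helper4.KWeak

set_option autoImplicit false
open scoped commutatorElement

/-! General lemmas on unipotent actions of normal subgroups, used for the lower-star members of the K-sequence. -/

namespace Cfsg.Agent.Lib.Helper4

open Cfsg

section

variable {G : Type*} [Group G]

/-- three subgroups lemma modulo a normal subgroup -/
theorem three_subgroups_le (H₁ H₂ H₃ N : Subgroup G) [hN : N.Normal] (h1 : ⁅⁅H₂, H₃⁆, H₁⁆ ≤ N)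
    (h2 : ⁅⁅H₃, H₁⁆, H₂⁆ ≤ N) : ⁅⁅H₁, H₂⁆, H₃⁆ ≤ N := by
  have hker : (QuotientGroup.mk' N).ker = N := QuotientGroup.ker_mk' N
  have e1 : ⁅⁅H₂.map (QuotientGroup.mk' N), H₃.map (QuotientGroup.mk' N)⁆, H₁.map (QuotientGroup.mk' N)⁆ = ⊥ := by
    rw [← Subgroup.map_commutator, ← Subgroup.map_commutator, Subgroup.map_eq_bot_iff, hker]
    exact h1
  have e2 : ⁅⁅H₃.map (QuotientGroup.mk' N), H₁.map (QuotientGroup.mk' N)⁆, H₂.map (QuotientGroup.mk' N)⁆ = ⊥ := by
    rw [← Subgroup.map_commutator, ← Subgroup.map_commutator, Subgroup.map_eq_bot_iff, hker]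
    exact h2
  have e3 := Subgroup.commutator_commutator_eq_bot_of_rotate e1 e2
  rw [← Subgroup.map_commutator, ← Subgroup.map_commutator, Subgroup.map_eq_bot_iff, hker] at e3
  exact e3

instance iterCommutator_normal (U K : Subgroup G) [hU : U.Normal] [hK : K.Normal] (k : ℕ) :
    (iterCommutator U K k).Normal := by
  induction k with
  | zero => exact hU
  | succ k ih =>
    haveI := ih
    show (⁅iterCommutator U K k, K⁆).Normal
    infer_instance

/-- a normal subgroup acting unipotently on the top of a chief factor centralizes the chief factor -/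
theorem chief_comm_le_of_unip {U V K : Subgroup G} [hK : K.Normal] (hch : IsChiefFactor U V) (k : ℕ)
    (hk : iterCommutator U K k ≤ V) : ⁅U, K⁆ ≤ V := by
  obtain ⟨hlt, hUn, hVn, hmin⟩ := hch
  haveI := hUn
  haveI := hVn
  by_contra hne
  have hsup : ⁅U, K⁆ ⊔ V = U := by
    rcases hmin (⁅U, K⁆ ⊔ V) inferInstance le_sup_right
      (sup_le (Subgroup.commutator_le_left U K) hlt.le) with h1 | h1
    · exfalso; apply hne; rw [← h1]; exact le_sup_left
    · exact h1
  have key : ∀ j : ℕ, U ≤ iterCommutator U K j ⊔ V := by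
    intro j
    induction j with
    | zero => exact le_sup_left
    | succ j ih =>
      calc U = ⁅U, K⁆ ⊔ V := hsup.symm
        _ ≤ ⁅iterCommutator U K j ⊔ V, K⁆ ⊔ V := sup_le_sup_right (Subgroup.commutator_mono ih le_rfl) V
        _ ≤ (⁅iterCommutator U K j, K⁆ ⊔ V) ⊔ V := sup_le_sup_right (commutator_sup_normal_le _ V K) V
        _ = iterCommutator U K (j + 1) ⊔ V := by rw [sup_assoc, sup_idem]; rfl
  have := (key k).trans (sup_le hk le_rfl)
  exact (not_le_of_gt hlt) this

/-- unipotent action on two normal subgroups gives unipotent action on their join -/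
theorem unip_sup {Y₁ Y₂ K : Subgroup G} [hY₁ : Y₁.Normal] [hY₂ : Y₂.Normal] {k₁ k₂ : ℕ}
    (h1 : iterCommutator Y₁ K k₁ = ⊥) (h2 : iterCommutator Y₂ K k₂ = ⊥) :
    iterCommutator (Y₁ ⊔ Y₂) K (k₁ + k₂) = ⊥ := by
  rw [iterCommutator_add, eq_bot_iff, ← h2]
  apply iterCommutator_mono _ le_rfl
  have := iterCommutator_sup_le Y₁ Y₂ K k₁
  rw [h1, bot_sup_eq] at this
  exact this

/-- if `X = [X, R]` and `R` acts unipotently on `Y` then `X` centralizes `Y` -/
theorem comm_eq_bot_of_unip (X Y R : Subgroup G) [hX : X.Normal] [hY : Y.Normal] [hR : R.Normal]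
    (hXR : ⁅X, R⁆ = X) (k : ℕ) (hk : iterCommutator Y R k = ⊥) : ⁅X, Y⁆ = ⊥ := by
  have key : ∀ i : ℕ, i ≤ k → ⁅X, iterCommutator Y R (k - i)⁆ = ⊥ := by
    intro i
    induction i with
    | zero =>
      intro _
      rw [Nat.sub_zero, hk]; exact Subgroup.commutator_bot_right X
    | succ i ih =>
      intro hi
      have ih' := ih (Nat.le_of_succ_le hi)
      obtain ⟨j, hj⟩ : ∃ j, j = k - (i + 1) := ⟨_, rfl⟩
      have hj1 : k - i = j + 1 := by omega
      rw [← hj]
      rw [hj1] at ih'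
      obtain ⟨Yj, hYj⟩ : ∃ Yj, Yj = iterCommutator Y R j := ⟨_, rfl⟩
      have hYjn : Yj.Normal := by rw [hYj]; infer_instance
      have ih'' : ⁅X, ⁅Yj, R⁆⁆ = ⊥ := by rw [hYj]; exact ih'
      rw [← hYj]
      obtain ⟨C, hC⟩ : ∃ C, C = ⁅X, Yj⁆ := ⟨_, rfl⟩
      have hCn : C.Normal := by rw [hC]; infer_instance
      have hCY : C ≤ Y := by
        rw [hC]
        exact (Subgroup.commutator_le_right X Yj).trans (by rw [hYj]; exact iterCommutator_le_of_normal Y R j)
      have h3 : ⁅⁅X, R⁆, Yj⁆ ≤ ⁅C, R⁆ := by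
        apply three_subgroups_le X R Yj ⁅C, R⁆
        · rw [Subgroup.commutator_comm R Yj, Subgroup.commutator_comm, ih'']; exact bot_le
        · rw [Subgroup.commutator_comm Yj X, ← hC]
      rw [hXR, ← hC] at h3
      have h4 : ∀ m : ℕ, C ≤ iterCommutator C R m := by
        intro m
        induction m with
        | zero => exact le_rfl
        | succ m ihm => exact h3.trans (Subgroup.commutator_mono ihm le_rfl)
      rw [← hC, eq_bot_iff, ← hk]
      exact (h4 k).trans (iterCommutator_mono hCY le_rfl k)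
  have := key k le_rfl
  rw [Nat.sub_self] at this
  exact this

/-- the normalizer of `B` normalizes `Z(B)` -/
theorem normalizer_le_normalizer_zOf (B : Subgroup G) :
    Subgroup.normalizer (B : Set G) ≤ Subgroup.normalizer ((zOf B : Subgroup G) : Set G) := by
  rw [le_normalizer_iff_forall]
  intro n hn z hz
  rw [zOf, Subgroup.mem_inf] at hz ⊢
  have hnB := (le_normalizer_iff_forall _ B).mp le_rfl
  refine ⟨hnB n hn z hz.1, ?_⟩
  rw [Subgroup.mem_centralizer_iff]
  intro a ha
  have ha' : n⁻¹ * a * n⁻¹⁻¹ ∈ B := hnB n⁻¹ (Subgroup.inv_mem _ hn) a ha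
  have := (Subgroup.mem_centralizer_iff.mp hz.2) _ ha'
  calc a * (n * z * n⁻¹) = n * ((n⁻¹ * a * n⁻¹⁻¹) * z) * n⁻¹ := by group
    _ = n * (z * (n⁻¹ * a * n⁻¹⁻¹)) * n⁻¹ := by rw [this]
    _ = n * z * n⁻¹ * a := by group

end

end Cfsg.Agent.Lib.Helper4
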