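import Mathlib
import Cfsg.Agent.Lib.Helper1.LW.Defs2

/-!
# Livingstone–Wagner, second statement (S0745): package COMM-core

The classical "commutator of small support" argument.
-/

set_option autoImplicit false

namespace Cfsg.Agent.Lib.Helper1.LW

variable {α : Type*} [Fintype α] [DecidableEq α] {G : Subgroup (Equiv.Perm α)} {k : ℕ}

omit [Fintype α] [DecidableEq α] in
/-- Lemma (L): if `g` fixes `Γ0` pointwise and `x` fixes every point outside `Γ0 ∪ R`, then the
commutator `g⁻¹ * (x * g * x⁻¹)` fixes every `y` with `y ∉ R`, `g y ∉ R`, `x⁻¹ y ∉ R`. -/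
theorem comm_fix_of_notMem {g x : Equiv.Perm α} {Γ0 R : Finset α} (hg : FixOn g Γ0)
    (hx : ∀ y, y ∉ Γ0 → y ∉ R → x y = y) {y : α} (h1 : y ∉ R) (h2 : g y ∉ R)
    (h3 : x⁻¹ y ∉ R) : (g⁻¹ * (x * g * x⁻¹)) y = y := by
  have hgS : ∀ z, z ∉ Γ0 → g z ∉ Γ0 := by
    intro z hz hgz
    apply hz
    have h4 : g (g z) = g z := hg (g z) hgz
    have h5 : g z = z := g.injective h4
    rw [← h5]; exact hgz
  have key : x (g (x⁻¹ y)) = g y := by
    by_cases hy : y ∈ Γ0
    · have hgy := hg y hy
      by_cases hz : x⁻¹ y ∈ Γ0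
      · rw [hg _ hz, hgy]; simp
      · exfalso
        have hxz := hx _ hz h3
        have h6 : x (x⁻¹ y) = y := by simp
        rw [h6] at hxz
        rw [← hxz] at hz
        exact hz hy
    · have hxy : x y = y := hx y hy h1
      have hxiy : x⁻¹ y = y := by rw [Equiv.Perm.inv_eq_iff_eq]; exact hxy.symm
      rw [hxiy]
      exact hx _ (hgS y hy) h2
  simp only [Equiv.Perm.mul_apply]
  rw [key]; simp

/-- the core estimate: `R` a nonempty set of points outside `Γ0` with at most `k-3` points of the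
complement of `Γ0` outside it, `A ⊇ R ∪ g⁻¹ R`; then `n + 2 - k ≤ |A| + |R|`. -/
theorem comm_core (h : Cfg2 G k) (w : WK G k) {g : Equiv.Perm α} (hgG : g ∈ G)
    {Γ0 : Finset α} (hΓ0 : Γ0.card + 2 = k) (hfix : FixOn g Γ0)
    (hmove : ∀ y, y ∉ Γ0 → g y ≠ y) {R A : Finset α} (hRne : R.Nonempty)
    (hRS : ∀ y ∈ R, y ∉ Γ0) (hRA : R ⊆ A) (hgA : ∀ y, g y ∈ R → y ∈ A)
    (hcard : Fintype.card α + 5 ≤ R.card + 2 * k) :
    Fintype.card α + 2 ≤ A.card + R.card + k := by
  classical
  have hk := h.hk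
  have hkn := h.hkn
  obtain ⟨q, hqR⟩ := hRne
  have hΓne : Γ0.Nonempty := by
    rw [← Finset.card_pos]; omega
  obtain ⟨q', hq'⟩ := hΓne
  have hqΓ : q ∉ Γ0 := hRS q hqR
  have hqq' : q ≠ q' := fun e => hqΓ (e ▸ hq')
  -- the set T of points outside Γ0 and outside R
  set T : Finset α := (Finset.univ \ Γ0) \ R with hT
  have hRsub : R ⊆ Finset.univ \ Γ0 := by
    intro y hy
    exact Finset.mem_sdiff.mpr ⟨Finset.mem_univ y, hRS y hy⟩
  have hTcard : T.card + R.card + Γ0.card = Fintype.card α := by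
    rw [hT, Finset.card_sdiff_of_subset hRsub, Finset.card_sdiff_of_subset (Finset.subset_univ _),
      Finset.card_univ]
    have h1 : R.card ≤ (Finset.univ \ Γ0).card := Finset.card_le_card hRsub
    rw [Finset.card_sdiff_of_subset (Finset.subset_univ _), Finset.card_univ] at h1
    have h2 : Γ0.card ≤ Fintype.card α := Finset.card_le_univ _
    omega
  -- extend T to Λ of size k - 3 avoiding q and q'
  have hTsub : T ⊆ Finset.univ \ {q, q'} := by
    intro y hy
    rw [hT] at hy
    have h1 := Finset.mem_sdiff.mp hy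
    have h2 := Finset.mem_sdiff.mp h1.1
    refine Finset.mem_sdiff.mpr ⟨Finset.mem_univ y, ?_⟩
    intro hmem
    rcases Finset.mem_insert.mp hmem with e | e
    · exact h1.2 (e ▸ hqR)
    · rw [Finset.mem_singleton] at e
      exact h2.2 (e ▸ hq')
  have hqq'card : (Finset.univ \ ({q, q'} : Finset α)).card = Fintype.card α - 2 := by
    rw [Finset.card_sdiff_of_subset (Finset.subset_univ _), Finset.card_univ,
      Finset.card_pair hqq']
  obtain ⟨Λ, hTΛ, hΛsub, hΛcard⟩ := Finset.exists_subsuperset_card_eq (n := k - 3) hTsub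
    (by omega) (by rw [hqq'card]; omega)
  have hqΛ : q ∉ Λ := by
    intro hmem
    have := Finset.mem_sdiff.mp (hΛsub hmem)
    exact this.2 (Finset.mem_insert_self _ _)
  have hq'Λ : q' ∉ Λ := by
    intro hmem
    have := Finset.mem_sdiff.mp (hΛsub hmem)
    exact this.2 (Finset.mem_insert_of_mem (Finset.mem_singleton_self _))
  obtain ⟨x, hxG, hxfix, hxq⟩ := w.tr1 Λ (by omega) q q' hqΛ hq'Λ
  have hx : ∀ y, y ∉ Γ0 → y ∉ R → x y = y := by
    intro y hy1 hy2
    apply hxfix y
    apply hTΛ
    rw [hT]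
    exact Finset.mem_sdiff.mpr ⟨Finset.mem_sdiff.mpr ⟨Finset.mem_univ y, hy1⟩, hy2⟩
  set c : Equiv.Perm α := g⁻¹ * (x * g * x⁻¹) with hc
  have hcG : c ∈ G := G.mul_mem (G.inv_mem hgG) (G.mul_mem (G.mul_mem hxG hgG) (G.inv_mem hxG))
  have hc1 : c ≠ 1 := by
    intro e
    have h1 : c q' = q' := by rw [e]; rfl
    rw [hc] at h1
    simp only [Equiv.Perm.mul_apply] at h1
    have h2 : x⁻¹ q' = q := by rw [Equiv.Perm.inv_eq_iff_eq]; exact hxq.symm
    rw [h2, Equiv.Perm.inv_eq_iff_eq, hfix q' hq', ← hxq] at h1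
    exact hmove q hqΓ (x.injective h1)
  have hnfix := h.nfix_le hcG hc1
  -- fixed points of c include the complement of A ∪ x(R)
  have hsub : (Finset.univ \ (A ∪ R.image x)) ⊆ Finset.univ.filter (fun y => c y = y) := by
    intro y hy
    have h1 := (Finset.mem_sdiff.mp hy).2
    refine Finset.mem_filter.mpr ⟨Finset.mem_univ y, ?_⟩
    apply comm_fix_of_notMem hfix hx
    · intro hyR
      exact h1 (Finset.mem_union_left _ (hRA hyR))
    · intro hgy
      exact h1 (Finset.mem_union_left _ (hgA y hgy))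
    · intro hxy
      apply h1
      apply Finset.mem_union_right
      refine Finset.mem_image.mpr ⟨x⁻¹ y, hxy, ?_⟩
      simp
  have h3 := Finset.card_le_card hsub
  have h4 : (A ∪ R.image x).card ≤ A.card + R.card :=
    le_trans (Finset.card_union_le _ _) (Nat.add_le_add_left Finset.card_image_le _)
  rw [Finset.card_sdiff_of_subset (Finset.subset_univ _), Finset.card_univ] at h3
  unfold nfix at hnfix
  omega

/-- the cycle of an element of prime order `p` through a moved point has `p` points -/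
theorem card_support_cycleOf_of_prime {g : Equiv.Perm α} {p : ℕ} (hp : p.Prime)
    (hord : orderOf g = p) {q : α} (hq : g q ≠ q) : (g.cycleOf q).support.card = p := by
  have hc : (g.cycleOf q).IsCycle := Equiv.Perm.isCycle_cycleOf g hq
  have h1 : orderOf (g.cycleOf q) ∣ orderOf g := Equiv.Perm.orderOf_cycleOf_dvd_orderOf g q
  rw [hc.orderOf, hord] at h1
  have h2 := hc.two_le_card_support
  rcases (Nat.dvd_prime hp).mp h1 with e | e
  · omega
  · exact e

/-- `g⁻¹`-invariance of the support of a cycle of `g` -/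
theorem mem_support_cycleOf_of_apply_mem {g : Equiv.Perm α} {q y : α}
    (hy : g y ∈ (g.cycleOf q).support) : y ∈ (g.cycleOf q).support := by
  rw [Equiv.Perm.mem_support_cycleOf_iff] at hy ⊢
  exact ⟨Equiv.Perm.sameCycle_apply_right.mp hy.1, hy.2⟩

/-- the generic form of the estimate: `U` a `g⁻¹`-invariant set of points outside `Γ0` with at
least `j` points, where `j + k = (n + 2 - k) + 3`. -/
theorem comm_gen (h : Cfg2 G k) (w : WK G k) {g : Equiv.Perm α} (hgG : g ∈ G)
    {Γ0 : Finset α} (hΓ0 : Γ0.card + 2 = k) (hfix : FixOn g Γ0)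
    (hmove : ∀ y, y ∉ Γ0 → g y ≠ y) {U : Finset α} (hUS : ∀ y ∈ U, y ∉ Γ0)
    (hgU : ∀ y, g y ∈ U → y ∈ U) {j : ℕ} (hj1 : 1 ≤ j) (hjU : j ≤ U.card)
    (hjk : j + 2 * k = Fintype.card α + 5) :
    Fintype.card α + 2 ≤ U.card + j + k := by
  obtain ⟨R, hRU, hRcard⟩ := Finset.exists_subset_card_eq hjU
  have hRne : R.Nonempty := by rw [← Finset.card_pos]; omega
  have := comm_core h w hgG hΓ0 hfix hmove hRne (fun y hy => hUS y (hRU hy)) hRU
    (fun y hy => hgU y (hRU hy)) (by omega)
  omega

/-- COMM (core): the commutator argument. `p` a prime dividing `s`, `M = r * s ≤ k + 1`. -/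
theorem comm_bound {r s : ℕ} (h : Cfg2 G k) (w : WK G k) (nk : NK2 G k r s) (p : ℕ)
    (hp : p.Prime) (hps : p ∣ s) (hM : r * s ≤ k + 1) :
    (r * s + 2 ≤ k → r * s ≤ 3) ∧
    (∀ j, j + k = r * s + 3 → 1 ≤ j → j ≤ p → r * s ≤ j + p) ∧
    (∀ j, j + k = r * s + 3 → p < j → j ≤ 2 * p → r * s ≤ j + 2 * p) := by
  classical
  have _ := hM
  have hk := h.hk
  have hkn := h.hkn
  have hrs := nk.hrs
  have hrs' : r * s = s * r := Nat.mul_comm r s
  -- a (k-2)-set
  obtain ⟨Γ0, -, hΓ0c⟩ := Finset.exists_subset_card_eq (s := (Finset.univ : Finset α))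
    (n := k - 2) (by rw [Finset.card_univ]; omega)
  have hΓ0 : Γ0.card + 2 = k := by omega
  -- an element of order p in its pointwise stabiliser
  have hcardH := nk.hs Γ0 hΓ0
  have : Fact p.Prime := ⟨hp⟩
  obtain ⟨h0, hh0⟩ := exists_prime_orderOf_dvd_card' (G := fixingSubgroup G (Γ0 : Set α)) p
    (by rw [hcardH]; exact hps)
  set g : Equiv.Perm α := ((h0 : G) : Equiv.Perm α) with hg
  have hgG : g ∈ G := (h0 : G).2
  have hord : orderOf g = p := by
    rw [hg, Subgroup.orderOf_coe, Subgroup.orderOf_coe]; exact hh0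
  have hfix : FixOn g Γ0 := by
    intro y hy
    have := (mem_fixingSubgroup_iff G).mp h0.2 y (Finset.mem_coe.mpr hy)
    exact this
  have hg1 : g ≠ 1 := by
    intro e
    rw [e, orderOf_one] at hord
    exact hp.one_lt.ne hord
  have hmove : ∀ y, y ∉ Γ0 → g y ≠ y := by
    intro y hy hgy
    apply hg1
    apply h.eq_one_of_fixOn hgG (S := insert y Γ0)
    · rw [Finset.card_insert_of_notMem hy]; omega
    · exact hfix.insert hgy
  have hScard : (Finset.univ \ Γ0).card + k = Fintype.card α + 2 := by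
    rw [Finset.card_sdiff_of_subset (Finset.subset_univ _), Finset.card_univ]
    have : Γ0.card ≤ Fintype.card α := Finset.card_le_univ _
    omega
  have hSne : (Finset.univ \ Γ0).Nonempty := by
    rw [← Finset.card_pos]; omega
  obtain ⟨q, hqS⟩ := hSne
  have hqΓ : q ∉ Γ0 := (Finset.mem_sdiff.mp hqS).2
  have hU1card := card_support_cycleOf_of_prime hp hord (hmove q hqΓ)
  have hUS : ∀ q : α, ∀ y ∈ (g.cycleOf q).support, y ∉ Γ0 := by
    intro q y hy hyΓ
    have h1 := Equiv.Perm.support_cycleOf_le g q hy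
    exact (Equiv.Perm.mem_support.mp h1) (hfix y hyΓ)
  refine ⟨?_, ?_, ?_⟩
  · intro hle
    have h1 := comm_core h w hgG hΓ0 hfix hmove (R := {q}) (A := {q, g⁻¹ q})
      (Finset.singleton_nonempty q)
      (fun y hy => by rw [Finset.mem_singleton] at hy; rw [hy]; exact hqΓ)
      (by intro y hy; rw [Finset.mem_singleton] at hy; rw [hy]; exact Finset.mem_insert_self _ _)
      (by
        intro y hy
        rw [Finset.mem_singleton] at hy
        apply Finset.mem_insert_of_mem
        rw [Finset.mem_singleton, ← hy]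
        simp)
      (by rw [Finset.card_singleton]; omega)
    have h2 : ({q, g⁻¹ q} : Finset α).card ≤ 2 := Finset.card_le_two
    rw [Finset.card_singleton] at h1
    omega
  · intro j hjk hj1 hjp
    have h1 := comm_gen h w hgG hΓ0 hfix hmove (U := (g.cycleOf q).support) (hUS q)
      (fun y hy => mem_support_cycleOf_of_apply_mem hy) hj1 (by rw [hU1card]; exact hjp)
      (by omega)
    rw [hU1card] at h1
    omega
  · intro j hjk hpj hj2p
    -- a second cycle
    obtain ⟨q₂, hq₂S, hq₂U⟩ := Finset.exists_mem_notMem_of_card_lt_card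
      (s := (g.cycleOf q).support) (t := Finset.univ \ Γ0) (by rw [hU1card]; omega)
    have hq₂Γ : q₂ ∉ Γ0 := (Finset.mem_sdiff.mp hq₂S).2
    have hU2card := card_support_cycleOf_of_prime hp hord (hmove q₂ hq₂Γ)
    have hdisj : Disjoint (g.cycleOf q).support (g.cycleOf q₂).support := by
      rw [Finset.disjoint_left]
      intro y hy1 hy2
      rw [Equiv.Perm.mem_support_cycleOf_iff] at hy1 hy2
      apply hq₂U
      rw [Equiv.Perm.mem_support_cycleOf_iff]
      exact ⟨hy1.1.trans hy2.1.symm, hy1.2⟩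
    have hUcard : ((g.cycleOf q).support ∪ (g.cycleOf q₂).support).card = 2 * p := by
      rw [Finset.card_union_of_disjoint hdisj, hU1card, hU2card]; ring
    have h1 := comm_gen h w hgG hΓ0 hfix hmove
      (U := (g.cycleOf q).support ∪ (g.cycleOf q₂).support)
      (by
        intro y hy
        rcases Finset.mem_union.mp hy with hy | hy
        · exact hUS q y hy
        · exact hUS q₂ y hy)
      (by
        intro y hy
        rcases Finset.mem_union.mp hy with hy | hy
        · exact Finset.mem_union_left _ (mem_support_cycleOf_of_apply_mem hy)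
        · exact Finset.mem_union_right _ (mem_support_cycleOf_of_apply_mem hy))
      (j := j) (by omega) (by rw [hUcard]; exact hj2p) (by omega)
    rw [hUcard] at h1
    omega

end Cfsg.Agent.Lib.Helper1.LW
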