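import Mathlib
import Cfsg.Agent.Lib.Helper9.Elus14

set_option autoImplicit false
set_option linter.unusedSectionVars false

/-! Generic tools for decompositions of a vector space into equidimensional summands permuted by a
linear map (used for the Burness--Giudici rows on imprimitive subgroups). -/

namespace Cfsg.Agent.Lib.Helper4.EqDec

open Module
open Cfsg.Agent.H9SemiInv

variable {F : Type*} [Field F] {V : Type*} [AddCommGroup V] [Module F V]

theorem iSup_cons {t : ℕ} (W : Submodule F V) (D : Fin t → Submodule F V) :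
    iSup (Fin.cons W D : Fin (t + 1) → Submodule F V) = W ⊔ iSup D := by
  apply le_antisymm
  · refine iSup_le fun j => ?_
    refine Fin.cases ?_ (fun k => ?_) j
    · simp
    · simp only [Fin.cons_succ]
      exact le_sup_of_le_right (le_iSup D k)
  · refine sup_le ?_ (iSup_le fun k => ?_)
    · have := le_iSup (Fin.cons W D : Fin (t + 1) → Submodule F V) 0
      simpa using this
    · have := le_iSup (Fin.cons W D : Fin (t + 1) → Submodule F V) k.succ
      simpa using this

theorem iSupIndep_cons {t : ℕ} (W : Submodule F V) (D : Fin t → Submodule F V)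
    (hD : iSupIndep D) (hW : Disjoint W (iSup D)) :
    iSupIndep (Fin.cons W D : Fin (t + 1) → Submodule F V) := by
  rw [iSupIndep_def]
  intro i
  refine Fin.cases ?_ (fun k => ?_) i
  · have hle : (⨆ (j : Fin (t + 1)) (_ : j ≠ 0),
        (Fin.cons W D : Fin (t + 1) → Submodule F V) j) ≤ iSup D := by
      refine iSup_le fun j => iSup_le fun hj => ?_
      obtain ⟨k, rfl⟩ := Fin.exists_succ_eq.mpr hj
      simp only [Fin.cons_succ]
      exact le_iSup D k
    simpa using hW.mono_right hle
  · simp only [Fin.cons_succ]
    have hle : (⨆ (j : Fin (t + 1)) (_ : j ≠ k.succ),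
        (Fin.cons W D : Fin (t + 1) → Submodule F V) j) ≤ (⨆ (k') (_ : k' ≠ k), D k') ⊔ W := by
      refine iSup_le fun j => ?_
      refine Fin.cases ?_ (fun k' => ?_) j
      · refine iSup_le fun _ => ?_
        simp
      · refine iSup_le fun hj => ?_
        simp only [Fin.cons_succ]
        have hk : k' ≠ k := fun h => hj (by rw [h])
        exact le_sup_of_le_left (le_iSup₂_of_le k' hk le_rfl)
    refine Disjoint.mono_right hle ?_
    have h1 : Disjoint (D k) (⨆ (k') (_ : k' ≠ k), D k') := (iSupIndep_def.mp hD) k
    have h2 : Disjoint (D k ⊔ ⨆ (k') (_ : k' ≠ k), D k') W := by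
      refine hW.symm.mono_left ?_
      exact sup_le (le_iSup D k) (iSup_le fun k' => iSup_le fun _ => le_iSup D k')
    exact h1.disjoint_sup_right_of_disjoint_sup_left h2

variable [FiniteDimensional F V]

/-- The peeling induction: if every invariant subspace of dimension `a (s+1)` with property `P`
splits off an invariant summand of dimension `a` whose invariant complement has `P`, then every
invariant subspace of dimension `a t` with `P` is a direct sum of `t` invariant subspaces of dimension
`a`. -/
theorem peel (X : V →ₗ[F] V) (a : ℕ) (P : Submodule F V → ℕ → Prop)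
    (step : ∀ (C : Submodule F V) (s : ℕ), Inv X C → finrank F C = a * (s + 1) → P C (s + 1) →
      ∃ W C' : Submodule F V, W ≤ C ∧ C' ≤ C ∧ Inv X W ∧ Inv X C' ∧ finrank F W = a ∧
        Disjoint W C' ∧ W ⊔ C' = C ∧ P C' s) :
    ∀ (t : ℕ) (C : Submodule F V), Inv X C → finrank F C = a * t → P C t →
      ∃ D : Fin t → Submodule F V, (∀ j, Inv X (D j) ∧ finrank F (D j) = a) ∧ iSupIndep D ∧
        iSup D = C := by
  intro t
  induction t with
  | zero =>
    intro C _ hfr _
    rw [mul_zero] at hfr
    have hC : C = ⊥ := Submodule.finrank_eq_zero.mp hfr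
    refine ⟨Fin.elim0, fun j => j.elim0, ?_, ?_⟩
    · rw [iSupIndep_def]
      intro i
      exact i.elim0
    · rw [hC, iSup_eq_bot]
      intro i
      exact i.elim0
  | succ s ih =>
    intro C hC hfr hP
    obtain ⟨W, C', hWC, hC'C, hW, hC', hWa, hdisj, hsup, hP'⟩ := step C s hC hfr hP
    have hfr' : finrank F C' = a * s := by
      have h := finrank_sup_of_disjoint hdisj
      rw [hsup, hfr, hWa] at h
      rw [Nat.mul_succ] at h
      omega
    obtain ⟨D, hD, hind, hDsup⟩ := ih C' hC' hfr' hP'
    refine ⟨Fin.cons W D, ?_, ?_, ?_⟩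
    · intro j
      refine Fin.cases ?_ (fun k => ?_) j
      · have h : (Fin.cons W D : Fin (s + 1) → Submodule F V) 0 = W := Fin.cons_zero _ _
        rw [h]
        exact ⟨hW, hWa⟩
      · have h : (Fin.cons W D : Fin (s + 1) → Submodule F V) k.succ = D k := Fin.cons_succ _ _ _
        rw [h]
        exact hD k
    · apply iSupIndep_cons W D hind
      rw [hDsup]
      exact hdisj
    · rw [iSup_cons, hDsup, hsup]

/-- Transport of a decomposition along an equivalence of the index type with `Fin t`. -/
theorem transport_fin {ι : Type*} [Fintype ι] (t : ℕ) (hcard : Fintype.card ι = t)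
    (X : V →ₗ[F] V) (a : ℕ) (D : ι → Submodule F V) (hfin : ∀ i, finrank F (D i) = a)
    (hind : iSupIndep D) (htop : iSup D = ⊤) (π : Equiv.Perm ι)
    (hmap : ∀ i, (D i).map X = D (π i)) :
    ∃ D' : Fin t → Submodule F V, (∀ j, finrank F (D' j) = a) ∧ iSupIndep D' ∧ iSup D' = ⊤ ∧
      ∃ σ : Equiv.Perm (Fin t), ∀ j, (D' j).map X = D' (σ j) := by
  classical
  have e : ι ≃ Fin t := (Fintype.equivFin ι).trans (finCongr hcard)
  refine ⟨fun j => D (e.symm j), fun j => hfin _, ?_, ?_, ?_⟩
  · exact hind.comp e.symm.injective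
  · rw [← htop]
    exact e.symm.iSup_comp (g := D)
  · refine ⟨(e.symm.trans π).trans e, fun j => ?_⟩
    simp only [Equiv.trans_apply, Equiv.symm_apply_apply]
    exact hmap _

end Cfsg.Agent.Lib.Helper4.EqDec
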