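import Mathlib
import Cfsg.Agent.Lib.Helper4.EqDec1

set_option autoImplicit false
set_option linter.unusedSectionVars false

/-! Decompositions coming from a basis that is cut into blocks. -/

namespace Cfsg.Agent.Lib.Helper4.EqDec

open Module
open Cfsg.Agent.H9SemiInv

variable {F : Type*} [Field F] {V : Type*} [AddCommGroup V] [Module F V] [FiniteDimensional F V]

/-- A basis `v` indexed by `ι`, cut into blocks by `β : ι → κ` with all fibres of size `a`, gives a
decomposition into the spans of the blocks; a map sending each basis vector into the block prescribed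
by a permutation `σ` of the blocks permutes the summands. -/
theorem basis_blocks {ι κ : Type*} [Fintype ι] [DecidableEq ι] [Fintype κ] [DecidableEq κ]
    (v : ι → V) (hv : LinearIndependent F v) (hspan : Submodule.span F (Set.range v) = ⊤)
    (β : ι → κ) (a : ℕ) (hfib : ∀ j : κ, Fintype.card {i // β i = j} = a)
    (X : V →ₗ[F] V) (hXinj : Function.Injective X) (σ : Equiv.Perm κ)
    (hX : ∀ i, X (v i) ∈ Submodule.span F (v '' {i' | β i' = σ (β i)})) :
    ∃ D : κ → Submodule F V, (∀ j, finrank F (D j) = a) ∧ iSupIndep D ∧ iSup D = ⊤ ∧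
      ∀ j, (D j).map X = D (σ j) := by
  classical
  set D : κ → Submodule F V := fun j => Submodule.span F (v '' {i | β i = j}) with hD
  have hfin : ∀ j, finrank F (D j) = a := by
    intro j
    have hli : LinearIndependent F (fun i : {i // β i = j} => v i) :=
      hv.comp _ Subtype.val_injective
    have hr : Set.range (fun i : {i // β i = j} => v i) = v '' {i | β i = j} := by
      have : (fun i : {i // β i = j} => v i) = v ∘ Subtype.val := rfl
      rw [this, Set.range_comp]
      congr 1
      exact Subtype.range_coe
    have h1 := finrank_span_eq_card hli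
    rw [hr] at h1
    rw [hD]
    simp only
    rw [h1]
    exact hfib j
  have hindep : iSupIndep D := by
    rw [iSupIndep_def]
    intro j
    have hle : (⨆ k, ⨆ (_ : k ≠ j), D k) ≤ Submodule.span F (v '' {i | β i ≠ j}) := by
      refine iSup_le fun k => iSup_le fun hk => ?_
      apply Submodule.span_mono
      apply Set.image_mono
      intro i hi
      simp only [Set.mem_setOf_eq] at hi ⊢
      rw [hi]
      exact hk
    refine Disjoint.mono_right hle ?_
    apply hv.disjoint_span_image
    rw [Set.disjoint_left]
    intro i h1 h2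
    exact h2 h1
  have htop : iSup D = ⊤ := by
    rw [eq_top_iff, ← hspan, Submodule.span_le]
    rintro _ ⟨i, rfl⟩
    apply Submodule.mem_iSup_of_mem (β i)
    exact Submodule.subset_span ⟨i, rfl, rfl⟩
  refine ⟨D, hfin, hindep, htop, fun j => ?_⟩
  have hle : (D j).map X ≤ D (σ j) := by
    rw [hD]
    simp only
    rw [Submodule.map_span, Submodule.span_le]
    rintro _ ⟨_, ⟨i, hi, rfl⟩, rfl⟩
    simp only [Set.mem_setOf_eq] at hi
    have := hX i
    rw [hi] at this
    exact this
  apply Submodule.eq_of_le_of_finrank_eq hle
  rw [hfin, ← (Submodule.equivMapOfInjective X hXinj (D j)).finrank_eq, hfin]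

/-- A spanning family of the right cardinality is a basis. -/
theorem linearIndependent_of_span_card {ι : Type*} [Fintype ι] (v : ι → V)
    (hspan : Submodule.span F (Set.range v) = ⊤) (hcard : Fintype.card ι = finrank F V) :
    LinearIndependent F v :=
  linearIndependent_of_top_le_span_of_card_eq_finrank hspan.ge hcard

/-- Final packaging: a decomposition indexed by a type of cardinality `t` gives one indexed by
`Fin t`. -/
theorem blocks_fin {ι κ : Type*} [Fintype ι] [DecidableEq ι] [Fintype κ] [DecidableEq κ]
    (v : ι → V) (hspan : Submodule.span F (Set.range v) = ⊤)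
    (hcardι : Fintype.card ι = finrank F V)
    (β : ι → κ) (a t : ℕ) (hκ : Fintype.card κ = t)
    (hfib : ∀ j : κ, Fintype.card {i // β i = j} = a)
    (X : V →ₗ[F] V) (hXinj : Function.Injective X) (σ : Equiv.Perm κ)
    (hX : ∀ i, X (v i) ∈ Submodule.span F (v '' {i' | β i' = σ (β i)})) :
    ∃ D' : Fin t → Submodule F V, (∀ j, finrank F (D' j) = a) ∧ iSupIndep D' ∧ iSup D' = ⊤ ∧
      ∃ σ' : Equiv.Perm (Fin t), ∀ j, (D' j).map X = D' (σ' j) := by
  obtain ⟨D, hfin, hind, htop, hmap⟩ := basis_blocks v
    (linearIndependent_of_span_card v hspan hcardι) hspan β a hfib X hXinj σ hX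
  exact transport_fin t hκ X a D hfin hind htop σ hmap

end Cfsg.Agent.Lib.Helper4.EqDec
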