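import Mathlib
import Cfsg.Agent.Lib.Helper4.EqDec2

set_option autoImplicit false
set_option linter.unusedSectionVars false

/-! Elements `y` with `y ^ r = 1` over a finite field of characteristic `p ≠ r`: fixed space, cyclotomic
kernel, and decompositions into invariant subspaces of equal dimension. -/

namespace Cfsg.Agent.Lib.Helper4.EqDec

open Module Polynomial
open Cfsg.Agent.H9SemiInv Cfsg.Agent.Lib.Helper9.H9Elus

section general
variable {F : Type*} [Field F] {V : Type*} [AddCommGroup V] [Module F V]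

/-- Kernel of a map respecting a direct sum of two invariant subspaces. -/
theorem ker_inf_sup_of_disjoint (g : V →ₗ[F] V) (W C' : Submodule F V) (hW : Inv g W)
    (hC' : Inv g C') (hd : Disjoint W C') :
    (W ⊔ C') ⊓ LinearMap.ker g = (W ⊓ LinearMap.ker g) ⊔ (C' ⊓ LinearMap.ker g) := by
  apply le_antisymm
  · rintro v ⟨hv1, hv2⟩
    obtain ⟨w, hw, c, hc, rfl⟩ := Submodule.mem_sup.mp hv1
    have hv2' : g (w + c) = 0 := LinearMap.mem_ker.mp hv2
    rw [map_add] at hv2'
    have h1 : g w ∈ W ⊓ C' := by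
      refine ⟨hW w hw, ?_⟩
      have : g w = -g c := eq_neg_of_add_eq_zero_left hv2'
      rw [this]
      exact C'.neg_mem (hC' c hc)
    rw [hd.eq_bot, Submodule.mem_bot] at h1
    have h2 : g c = 0 := by rwa [h1, zero_add] at hv2'
    exact Submodule.add_mem_sup ⟨hw, LinearMap.mem_ker.mpr h1⟩ ⟨hc, LinearMap.mem_ker.mpr h2⟩
  · exact sup_le (inf_le_inf_right _ le_sup_left) (inf_le_inf_right _ le_sup_right)

theorem finrank_ker_inf_sup_of_disjoint [FiniteDimensional F V] (g : V →ₗ[F] V)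
    (W C' : Submodule F V) (hW : Inv g W) (hC' : Inv g C') (hd : Disjoint W C') :
    finrank F ↥((W ⊔ C') ⊓ LinearMap.ker g) =
      finrank F ↥(W ⊓ LinearMap.ker g) + finrank F ↥(C' ⊓ LinearMap.ker g) := by
  rw [ker_inf_sup_of_disjoint g W C' hW hC' hd]
  exact finrank_sup_of_disjoint (hd.mono inf_le_left inf_le_left)

end general

section
variable {F V : Type*} [Field F] [Fintype F] {p : ℕ} [Fact p.Prime] [CharP F p]
  [AddCommGroup V] [Module F V] [FiniteDimensional F V]

/-- The fixed space of `y`. -/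
noncomputable abbrev fixE (y : V →ₗ[F] V) : Submodule F V := LinearMap.ker (aeval y (X - 1 : F[X]))

/-- The cyclotomic kernel of `y`. -/
noncomputable abbrev cycK (r : ℕ) (y : V →ₗ[F] V) : Submodule F V :=
  LinearMap.ker (aeval y (cyclotomic r F))

theorem mem_fixE (y : V →ₗ[F] V) (v : V) : v ∈ fixE y ↔ y v = v := by
  rw [fixE, LinearMap.mem_ker, map_sub, aeval_X, map_one, LinearMap.sub_apply,
    Module.End.one_apply, sub_eq_zero]

theorem inv_of_le_fixE (y : V →ₗ[F] V) (E₁ : Submodule F V) (h : E₁ ≤ fixE y) : Inv y E₁ := by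
  intro v hv
  rw [(mem_fixE y v).mp (h hv)]
  exact hv

/-- An invariant subspace is the direct sum of its fixed part and its cyclotomic part. -/
theorem inv_split (r : ℕ) [Fact r.Prime] (hrp : r ≠ p) (y : V →ₗ[F] V) (hy : y ^ r = 1)
    (C : Submodule F V) (hC : Inv y C) :
    (C ⊓ fixE y) ⊔ (C ⊓ cycK r y) = C := by
  apply le_antisymm (sup_le inf_le_left inf_le_left)
  intro v hv
  obtain ⟨u, w, huw⟩ := isCoprime_X_sub_one_cyclotomic (F := F) r hrp
  have hzero : aeval y ((X - 1 : F[X]) * cyclotomic r F) = 0 := by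
    rw [mul_comm, cyclotomic_prime_mul_X_sub_one, map_sub, map_pow, aeval_X, map_one, hy, sub_self]
  have hv' : v = aeval y (w * cyclotomic r F) v + aeval y (u * (X - 1)) v := by
    have := congrArg (fun s : F[X] => aeval y s v) huw
    simp only [map_add, map_one, LinearMap.add_apply, Module.End.one_apply] at this
    rw [add_comm]
    exact this.symm
  have h1 : aeval y (X - 1 : F[X]) (aeval y (w * cyclotomic r F) v) = 0 := by
    rw [← Module.End.mul_apply, ← map_mul]
    have : (X - 1 : F[X]) * (w * cyclotomic r F) = w * ((X - 1) * cyclotomic r F) := by ring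
    rw [this, map_mul, hzero, mul_zero, LinearMap.zero_apply]
  have h2 : aeval y (cyclotomic r F) (aeval y (u * (X - 1)) v) = 0 := by
    rw [← Module.End.mul_apply, ← map_mul]
    have : cyclotomic r F * (u * (X - 1)) = u * ((X - 1) * cyclotomic r F) := by ring
    rw [this, map_mul, hzero, mul_zero, LinearMap.zero_apply]
  rw [hv']
  exact Submodule.add_mem_sup ⟨(Inv.aeval hC _) _ hv, LinearMap.mem_ker.mpr h1⟩
    ⟨(Inv.aeval hC _) _ hv, LinearMap.mem_ker.mpr h2⟩

theorem disjoint_fixE_cycK (r : ℕ) [Fact r.Prime] (hrp : r ≠ p) (y : V →ₗ[F] V) (hy : y ^ r = 1) :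
    Disjoint (fixE y) (cycK r y) := (isCompl_ker r hrp y hy).disjoint

theorem finrank_inv_split (r : ℕ) [Fact r.Prime] (hrp : r ≠ p) (y : V →ₗ[F] V) (hy : y ^ r = 1)
    (C : Submodule F V) (hC : Inv y C) :
    finrank F ↥(C ⊓ fixE y) + finrank F ↥(C ⊓ cycK r y) = finrank F C := by
  have hd : Disjoint (C ⊓ fixE y) (C ⊓ cycK r y) :=
    (disjoint_fixE_cycK r hrp y hy).mono inf_le_right inf_le_right
  rw [← finrank_sup_of_disjoint hd, inv_split r hrp y hy C hC]

/-- The order `c` of `q` modulo `r` divides the dimension of the cyclotomic part. -/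
theorem order_dvd_finrank_inf_cycK (r : ℕ) [Fact r.Prime] (hrp : r ≠ p) (y : V →ₗ[F] V)
    (hy : y ^ r = 1) (C : Submodule F V) (hC : Inv y C) :
    orderOf ((Fintype.card F : ℕ) : ZMod r) ∣ finrank F ↥(C ⊓ cycK r y) :=
  (exists_inv_mul y (isSemisimple_of_pow_eq_one r hrp y hy) _ (order_pos r hrp) (C ⊓ cycK r y)
    (hC.inf (inv_ker_aeval y _))
    (fun Z hZ hZinv hZne => hmin_cyclotomic r hrp y Z (hZ.trans inf_le_right) hZinv hZne)).1

/-- Invariant subspaces with prescribed fixed and cyclotomic dimensions inside an invariant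
subspace. -/
theorem exists_inv_shape (r : ℕ) [Fact r.Prime] (hrp : r ≠ p) (y : V →ₗ[F] V) (hy : y ^ r = 1)
    (C : Submodule F V) (hC : Inv y C) (b d₀ : ℕ)
    (hd₀ : d₀ ≤ finrank F ↥(C ⊓ fixE y))
    (hb : orderOf ((Fintype.card F : ℕ) : ZMod r) * b ≤ finrank F ↥(C ⊓ cycK r y)) :
    ∃ W : Submodule F V, W ≤ C ∧ Inv y W ∧
      finrank F W = orderOf ((Fintype.card F : ℕ) : ZMod r) * b + d₀ ∧
      finrank F ↥(W ⊓ fixE y) = d₀ := by
  set i := orderOf ((Fintype.card F : ℕ) : ZMod r) with hi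
  have hss := isSemisimple_of_pow_eq_one r hrp y hy
  obtain ⟨W₁, hW₁, hW₁inv, hW₁d⟩ := (exists_inv_mul y hss i (order_pos r hrp) (C ⊓ cycK r y)
    (hC.inf (inv_ker_aeval y _))
    (fun Z hZ hZinv hZne => hmin_cyclotomic r hrp y Z (hZ.trans inf_le_right) hZinv hZne)).2 b hb
  obtain ⟨E₁, hE₁, hE₁d⟩ := exists_sub_finrank (C ⊓ fixE y) d₀ hd₀
  have hE₁inv : Inv y E₁ := inv_of_le_fixE y E₁ (hE₁.trans inf_le_right)
  have hdisj : Disjoint W₁ E₁ :=
    ((disjoint_fixE_cycK r hrp y hy).mono (hE₁.trans inf_le_right) (hW₁.trans inf_le_right)).symm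
  refine ⟨W₁ ⊔ E₁, sup_le (hW₁.trans inf_le_left) (hE₁.trans inf_le_left), hW₁inv.sup hE₁inv,
    by rw [finrank_sup_of_disjoint hdisj, hW₁d, hE₁d], ?_⟩
  have hg : ∀ W' : Submodule F V, Inv y W' → Inv (aeval y (X - 1 : F[X])) W' :=
    fun W' h => Inv.aeval h _
  have h1 := finrank_ker_inf_sup_of_disjoint (aeval y (X - 1 : F[X])) W₁ E₁ (hg _ hW₁inv)
    (hg _ hE₁inv) hdisj
  have h2 : W₁ ⊓ fixE y = ⊥ := by
    rw [eq_bot_iff]
    exact ((disjoint_fixE_cycK r hrp y hy).symm.mono_left (hW₁.trans inf_le_right)).le_bot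
  have h3 : E₁ ⊓ fixE y = E₁ := inf_eq_left.mpr (hE₁.trans inf_le_right)
  rw [fixE] at h2 h3 ⊢
  rw [h1, h2, h3, finrank_bot, zero_add, hE₁d]

end

end Cfsg.Agent.Lib.Helper4.EqDec
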