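import Mathlib
import Cfsg.Agent.Lib.Helper4.EqDec3

set_option autoImplicit false
set_option linter.unusedSectionVars false

/-! Decomposition into invariant subspaces of equal dimension for an element of prime order `r`. -/

namespace Cfsg.Agent.Lib.Helper4.EqDec

open Module Polynomial
open Cfsg.Agent.H9SemiInv Cfsg.Agent.Lib.Helper9.H9Elus

section
variable {F V : Type*} [Field F] [Fintype F] {p : ℕ} [Fact p.Prime] [CharP F p]
  [AddCommGroup V] [Module F V] [FiniteDimensional F V]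

theorem inv_decomp_step (r : ℕ) [Fact r.Prime] (hrp : r ≠ p) (y : V →ₗ[F] V) (hy : y ^ r = 1)
    (a : ℕ) (C : Submodule F V) (s : ℕ) (hC : Inv y C) (hfr : finrank F C = a * (s + 1))
    (hP : (s + 1) * (a % orderOf ((Fintype.card F : ℕ) : ZMod r)) ≤ finrank F ↥(C ⊓ fixE y)) :
    ∃ W C' : Submodule F V, W ≤ C ∧ C' ≤ C ∧ Inv y W ∧ Inv y C' ∧ finrank F W = a ∧
      Disjoint W C' ∧ W ⊔ C' = C ∧
      s * (a % orderOf ((Fintype.card F : ℕ) : ZMod r)) ≤ finrank F ↥(C' ⊓ fixE y) := by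
  set i := orderOf ((Fintype.card F : ℕ) : ZMod r) with hi
  have hi1 : 1 ≤ i := order_pos r hrp
  have hss := isSemisimple_of_pow_eq_one r hrp y hy
  obtain ⟨B, hB⟩ := order_dvd_finrank_inf_cycK r hrp y hy C hC
  rw [← hi] at hB
  have hsplit := finrank_inv_split r hrp y hy C hC
  rw [hB, hfr] at hsplit
  have hdm := Nat.div_add_mod a i
  have hml : a % i ≤ a := Nat.mod_le a i
  by_cases hcase : a / i ≤ B
  · -- use `a / i` blocks and `a % i` fixed vectors
    have hd₀ : a % i ≤ finrank F ↥(C ⊓ fixE y) := by nlinarith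
    have hb : i * (a / i) ≤ finrank F ↥(C ⊓ cycK r y) := by
      rw [hB]; exact Nat.mul_le_mul_left i hcase
    obtain ⟨W, hWC, hWinv, hWd, hWE⟩ := exists_inv_shape r hrp y hy C hC (a / i) (a % i) hd₀ hb
    rw [← hi, hdm] at hWd
    obtain ⟨C', hC'C, hC'inv, hdisj, hsum⟩ := exists_rel_compl y hss C hC W hWC hWinv
    have hsup : W ⊔ C' = C := by
      apply Submodule.eq_of_le_of_finrank_eq (sup_le hWC hC'C)
      rw [finrank_sup_of_disjoint hdisj, hsum]
    refine ⟨W, C', hWC, hC'C, hWinv, hC'inv, hWd, hdisj, hsup, ?_⟩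
    have h1 := finrank_ker_inf_sup_of_disjoint (aeval y (X - 1 : F[X])) W C'
      (Inv.aeval hWinv _) (Inv.aeval hC'inv _) hdisj
    rw [hsup] at h1
    change finrank F ↥(C ⊓ fixE y) = finrank F ↥(W ⊓ fixE y) + finrank F ↥(C' ⊓ fixE y) at h1
    rw [hWE] at h1
    have : (s + 1) * (a % i) = s * (a % i) + a % i := by ring
    omega
  · -- use all `B` blocks
    have hBlt : B < a / i := not_le.mp hcase
    have hiB : i * B ≤ a := by
      have : i * B ≤ i * (a / i) := Nat.mul_le_mul_left i hBlt.le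
      omega
    have hd₀ : a - i * B ≤ finrank F ↥(C ⊓ fixE y) := by
      have : a ≤ a * (s + 1) := Nat.le_mul_of_pos_right a (Nat.succ_pos s)
      omega
    have hb : i * B ≤ finrank F ↥(C ⊓ cycK r y) := by rw [hB]
    obtain ⟨W, hWC, hWinv, hWd, hWE⟩ := exists_inv_shape r hrp y hy C hC B (a - i * B) hd₀ hb
    rw [← hi] at hWd
    have hWd' : finrank F W = a := by omega
    obtain ⟨C', hC'C, hC'inv, hdisj, hsum⟩ := exists_rel_compl y hss C hC W hWC hWinv
    have hsup : W ⊔ C' = C := by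
      apply Submodule.eq_of_le_of_finrank_eq (sup_le hWC hC'C)
      rw [finrank_sup_of_disjoint hdisj, hsum]
    refine ⟨W, C', hWC, hC'C, hWinv, hC'inv, hWd', hdisj, hsup, ?_⟩
    have h1 := finrank_ker_inf_sup_of_disjoint (aeval y (X - 1 : F[X])) W C'
      (Inv.aeval hWinv _) (Inv.aeval hC'inv _) hdisj
    rw [hsup] at h1
    change finrank F ↥(C ⊓ fixE y) = finrank F ↥(W ⊓ fixE y) + finrank F ↥(C' ⊓ fixE y) at h1
    rw [hWE] at h1
    have h2 : a * (s + 1) = a * s + a := by ring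
    have h3 : s * (a % i) ≤ s * a := Nat.mul_le_mul_left s hml
    have h4 : s * a = a * s := Nat.mul_comm s a
    omega

/-- If the fixed space of `y` has dimension at least `t (a mod c)`, then the space is a direct sum of
`t` invariant subspaces of dimension `a`. -/
theorem exists_inv_decomp (r : ℕ) [Fact r.Prime] (hrp : r ≠ p) (y : V →ₗ[F] V) (hy : y ^ r = 1)
    (a t : ℕ) (hfr : finrank F V = a * t)
    (hE : t * (a % orderOf ((Fintype.card F : ℕ) : ZMod r)) ≤ finrank F ↥(fixE y)) :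
    ∃ D : Fin t → Submodule F V, (∀ j, Inv y (D j) ∧ finrank F (D j) = a) ∧ iSupIndep D ∧
      iSup D = ⊤ := by
  have htop : Inv y (⊤ : Submodule F V) := fun x _ => Submodule.mem_top
  refine peel y a
    (fun C s => s * (a % orderOf ((Fintype.card F : ℕ) : ZMod r)) ≤ finrank F ↥(C ⊓ fixE y))
    (fun C s hC hfr hP => inv_decomp_step r hrp y hy a C s hC hfr hP) t ⊤ htop ?_ ?_
  · rw [finrank_top, hfr]
  · show t * _ ≤ finrank F ↥(⊤ ⊓ fixE y)
    rw [top_inf_eq]
    exact hE

end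

end Cfsg.Agent.Lib.Helper4.EqDec
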