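import Mathlib
import Cfsg.Agent.Lib.Helper4.EqDec4

set_option autoImplicit false
set_option linter.unusedSectionVars false

/-! Splitting an invariant subspace into minimal invariant subspaces, and cyclic vectors. -/

namespace Cfsg.Agent.Lib.Helper4.EqDec

open Module Polynomial
open Cfsg.Agent.H9SemiInv Cfsg.Agent.Lib.Helper9.H9Elus

section
variable {F : Type*} [Field F] {V : Type*} [AddCommGroup V] [Module F V] [FiniteDimensional F V]

/-- An invariant subspace all of whose minimal invariant subspaces have dimension `d` is a direct sum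
of invariant subspaces of dimension `d`. -/
theorem peel_min (X : V →ₗ[F] V) (hss : Module.End.IsSemisimple X) (d : ℕ) (hd : 1 ≤ d)
    (C₀ : Submodule F V) (hC₀ : Inv X C₀)
    (hmin : ∀ W : Submodule F V, W ≤ C₀ → Inv X W → W ≠ ⊥ →
      ∃ Z : Submodule F V, Z ≤ W ∧ Inv X Z ∧ finrank F Z = d)
    (m : ℕ) (hfr : finrank F C₀ = d * m) :
    ∃ Z : Fin m → Submodule F V, (∀ j, Inv X (Z j) ∧ finrank F (Z j) = d) ∧ iSupIndep Z ∧
      iSup Z = C₀ := by
  refine peel X d (fun C _ => C ≤ C₀) ?_ m C₀ hC₀ hfr le_rfl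
  intro C s hC hfrC hCC₀
  have hne : C ≠ ⊥ := by
    intro h
    rw [h, finrank_bot] at hfrC
    have : 0 < d * (s + 1) := Nat.mul_pos hd (Nat.succ_pos s)
    omega
  obtain ⟨W, hWC, hWinv, hWd⟩ := hmin C hCC₀ hC hne
  obtain ⟨C', hC'C, hC'inv, hdisj, hsum⟩ := exists_rel_compl X hss C hC W hWC hWinv
  have hsup : W ⊔ C' = C := by
    apply Submodule.eq_of_le_of_finrank_eq (sup_le hWC hC'C)
    rw [finrank_sup_of_disjoint hdisj, hsum]
  exact ⟨W, C', hWC, hC'C, hWinv, hC'inv, hWd, hdisj, hsup, hC'C.trans hCC₀⟩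

/-- The span of the iterates `v, X v, …, X^(r-1) v` when `X ^ r` is a scalar. -/
theorem inv_span_iterates (X : V →ₗ[F] V) (r : ℕ) (hr : 1 ≤ r) (z : F) (hX : X ^ r = z • 1)
    (u : V) : Inv X (Submodule.span F (Set.range fun k : Fin r => (X ^ (k : ℕ)) u)) := by
  rw [inv_iff, Submodule.map_span, Submodule.span_le]
  rintro _ ⟨_, ⟨k, rfl⟩, rfl⟩
  by_cases hk : (k : ℕ) + 1 < r
  · apply Submodule.subset_span
    refine ⟨⟨(k : ℕ) + 1, hk⟩, ?_⟩
    simp only
    rw [pow_succ', Module.End.mul_apply]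
  · have hk' : (k : ℕ) + 1 = r := by have := k.2; omega
    have h1 : X ((X ^ (k : ℕ)) u) = z • u := by
      rw [← Module.End.mul_apply, ← pow_succ', hk', hX]
      simp
    rw [h1]
    apply Submodule.smul_mem
    apply Submodule.subset_span
    exact ⟨⟨0, by omega⟩, by simp⟩

/-- In a minimal invariant subspace every nonzero vector is cyclic. -/
theorem span_iterates_eq (X : V →ₗ[F] V) (r : ℕ) (hr : 1 ≤ r) (z : F) (hX : X ^ r = z • 1)
    (Z : Submodule F V) (hZmin : ∀ W : Submodule F V, W ≤ Z → Inv X W → W ≠ ⊥ → W = Z)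
    (hZ : Inv X Z) (u : V) (hu : u ∈ Z) (hu0 : u ≠ 0) :
    Submodule.span F (Set.range fun k : Fin r => (X ^ (k : ℕ)) u) = Z := by
  apply hZmin _ ?_ (inv_span_iterates X r hr z hX u)
  · intro h
    have : u ∈ Submodule.span F (Set.range fun k : Fin r => (X ^ (k : ℕ)) u) :=
      Submodule.subset_span ⟨⟨0, by omega⟩, by simp⟩
    rw [h, Submodule.mem_bot] at this
    exact hu0 this
  · rw [Submodule.span_le]
    rintro _ ⟨k, rfl⟩
    have : ∀ m : ℕ, (X ^ m) u ∈ Z := by
      intro m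
      induction m with
      | zero => simpa using hu
      | succ m ih =>
        rw [pow_succ', Module.End.mul_apply]
        exact hZ _ ih
    exact this _

theorem pow_mod_of_pow_eq_one (y : V →ₗ[F] V) (r : ℕ) (hy : y ^ r = 1) (m : ℕ) :
    y ^ (m % r) = y ^ m := by
  conv_rhs => rw [← Nat.div_add_mod m r, pow_add, pow_mul, hy, one_pow, one_mul]

end

end Cfsg.Agent.Lib.Helper4.EqDec
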