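import Mathlib
import Cfsg.Agent.Lib.Helper5.PSLCoset5

set_option autoImplicit false
set_option linter.unusedSectionVars false
set_option linter.style.haveILetI false

/-! Hermitian forms over finite fields: kernels of adjoint maps have the same dimension, and the
consequences for similitudes (`H (t u) (t v) = μ * H u v`). -/

namespace Cfsg.Agent.Lib.Helper4.SimU

open Module Polynomial
open Cfsg.Agent.Lib.Helper5.PSLCoset

section adjoint
variable {F : Type*} [Field F] {σ : F ≃+* F} {V : Type*} [AddCommGroup V] [Module F V]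
  {H : V → V → F}

/-- Nondegeneracy (in the first variable; for Hermitian forms this is two-sided). -/
def Nondeg (H : V → V → F) : Prop := ∀ v, v ≠ 0 → ∃ w, H v w ≠ 0

theorem Nondeg.right (h : IsHerm σ H) (hnd : Nondeg H) (v : V) (hv : v ≠ 0) : ∃ u, H u v ≠ 0 := by
  obtain ⟨w, hw⟩ := hnd v hv
  refine ⟨w, ?_⟩
  rw [h.symm v w]
  intro h0
  exact hw ((map_eq_zero_iff σ σ.injective).mp h0)

theorem Nondeg.exists_ne (hnd : Nondeg H) (hV : ∃ v : V, v ≠ 0) : ∃ u v, H u v ≠ 0 := by
  obtain ⟨v, hv⟩ := hV
  obtain ⟨w, hw⟩ := hnd v hv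
  exact ⟨v, w, hw⟩

/-- The additive map `v ↦ H(·, v)` into the dual. -/
def toDualAdd (h : IsHerm σ H) : V →+ Module.Dual F V where
  toFun v := h.toDual v
  map_zero' := by
    apply LinearMap.ext
    intro u
    rw [IsHerm.toDual_apply, h.zero_right, LinearMap.zero_apply]
  map_add' v w := by
    apply LinearMap.ext
    intro u
    rw [IsHerm.toDual_apply, LinearMap.add_apply, IsHerm.toDual_apply, IsHerm.toDual_apply,
      h.add_right]

theorem toDualAdd_apply (h : IsHerm σ H) (v u : V) : toDualAdd h v u = H u v := rfl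

theorem toDualAdd_injective (h : IsHerm σ H) (hnd : Nondeg H) :
    Function.Injective (toDualAdd h) := by
  rw [injective_iff_map_eq_zero]
  intro v hv
  by_contra hv0
  obtain ⟨u, hu⟩ := hnd.right h v hv0
  apply hu
  rw [← toDualAdd_apply h v u, hv, LinearMap.zero_apply]

theorem toDualAdd_bijective [Finite F] [FiniteDimensional F V] (h : IsHerm σ H)
    (hnd : Nondeg H) : Function.Bijective (toDualAdd h) := by
  haveI : Finite V := Module.finite_of_finite F
  haveI : Finite (Module.Dual F V) := Module.finite_of_finite F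
  apply Function.Injective.bijective_of_nat_card_le (toDualAdd_injective h hnd)
  exact le_of_eq (Nat.card_congr ((Module.finBasis F V).toDualEquiv).toEquiv).symm

/-- Kernels of adjoint maps have the same dimension. -/
theorem finrank_ker_eq_of_adjoint [Finite F] [FiniteDimensional F V] (h : IsHerm σ H)
    (hnd : Nondeg H) (A B : V →ₗ[F] V) (hAB : ∀ u v, H (A u) v = H u (B v)) :
    finrank F (LinearMap.ker A) = finrank F (LinearMap.ker B) := by
  haveI : Finite V := Module.finite_of_finite F
  haveI : Finite (Module.Dual F V) := Module.finite_of_finite F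
  set e : V ≃ Module.Dual F V := Equiv.ofBijective _ (toDualAdd_bijective h hnd) with he
  have hJ : ∀ v, A.dualMap (toDualAdd h v) = toDualAdd h (B v) := by
    intro v
    apply LinearMap.ext
    intro u
    rw [LinearMap.dualMap_apply, toDualAdd_apply, toDualAdd_apply, hAB]
  have hiff : ∀ v, v ∈ LinearMap.ker B ↔ e v ∈ LinearMap.ker A.dualMap := by
    intro v
    rw [LinearMap.mem_ker, LinearMap.mem_ker]
    show _ ↔ A.dualMap (toDualAdd h v) = 0
    rw [hJ]
    constructor
    · intro hv
      rw [hv, map_zero]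
    · intro hv
      exact (injective_iff_map_eq_zero (toDualAdd h)).mp (toDualAdd_injective h hnd) _ hv
  have hcard : Nat.card (LinearMap.ker B) = Nat.card (LinearMap.ker A.dualMap) :=
    Nat.card_congr (e.subtypeEquiv hiff)
  have h1 : finrank F (LinearMap.ker A.dualMap) = finrank F (LinearMap.ker A) := by
    have e1 := LinearMap.finrank_range_add_finrank_ker A
    have e2 := LinearMap.finrank_range_add_finrank_ker A.dualMap
    rw [LinearMap.finrank_range_dualMap_eq_finrank_range, Subspace.dual_finrank_eq] at e2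
    omega
  rw [Module.natCard_eq_pow_finrank (K := F) (V := LinearMap.ker B),
    Module.natCard_eq_pow_finrank (K := F) (V := LinearMap.ker A.dualMap)] at hcard
  have h2 := Nat.pow_right_injective (Finite.one_lt_card (α := F)) hcard
  rw [← h1, h2]

end adjoint

section sim
variable {F : Type*} [Field F] {σ : F ≃+* F} {V : Type*} [AddCommGroup V] [Module F V]
  {H : V → V → F}

/-- `t` is a similitude of `H` with multiplier `μ`. -/
def IsSim (H : V → V → F) (t : V →ₗ[F] V) (μ : F) : Prop := ∀ u v, H (t u) (t v) = μ * H u v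

theorem IsSim.mul {t s : V →ₗ[F] V} {μ ν : F} (ht : IsSim H t μ) (hs : IsSim H s ν) :
    IsSim H (t * s) (μ * ν) := by
  intro u v
  rw [Module.End.mul_apply, Module.End.mul_apply, ht, hs, mul_assoc]

theorem isSim_one : IsSim H (1 : V →ₗ[F] V) 1 := by
  intro u v
  rw [Module.End.one_apply, Module.End.one_apply, one_mul]

theorem IsSim.pow {t : V →ₗ[F] V} {μ : F} (ht : IsSim H t μ) (k : ℕ) :
    IsSim H (t ^ k) (μ ^ k) := by
  induction k with
  | zero => rw [pow_zero, pow_zero]; exact isSim_one
  | succ k ih => rw [pow_succ, pow_succ]; exact ih.mul ht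

theorem isSim_smul_one (h : IsHerm σ H) (z : F) :
    IsSim H (z • (1 : V →ₗ[F] V)) (z * σ z) := by
  intro u v
  rw [LinearMap.smul_apply, LinearMap.smul_apply, Module.End.one_apply, Module.End.one_apply,
    h.smul_left, h.smul_right]
  ring

theorem IsSim.smul (h : IsHerm σ H) {t : V →ₗ[F] V} {μ : F} (ht : IsSim H t μ) (z : F) :
    IsSim H (z • t) (z * σ z * μ) := by
  intro u v
  rw [LinearMap.smul_apply, LinearMap.smul_apply, h.smul_left, h.smul_right, ht]
  ring

theorem IsSim.unique (hne : ∃ u v, H u v ≠ 0) {t : V →ₗ[F] V} {μ ν : F} (ht : IsSim H t μ)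
    (ht' : IsSim H t ν) : μ = ν := by
  obtain ⟨u, v, huv⟩ := hne
  have := (ht u v).symm.trans (ht' u v)
  exact mul_right_cancel₀ huv this

/-- The multiplier of a similitude is fixed by `σ`. -/
theorem IsSim.sigma_mul (h : IsHerm σ H) (hne : ∃ u v, H u v ≠ 0) {t : V →ₗ[F] V} {μ : F}
    (ht : IsSim H t μ) : σ μ = μ := by
  obtain ⟨u, v, huv⟩ := hne
  have h1 : H (t v) (t u) = σ μ * H v u := by
    rw [h.symm (t u) (t v), ht, map_mul, ← h.symm]
  have h2 := h1.symm.trans (ht v u)
  have hvu : H v u ≠ 0 := by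
    rw [h.symm u v]
    intro h0
    exact huv ((map_eq_zero_iff σ σ.injective).mp h0)
  exact mul_right_cancel₀ hvu h2

/-- If `t ^ r = z • 1` then the multiplier satisfies `μ ^ r = z * σ z`. -/
theorem IsSim.pow_eq (h : IsHerm σ H) (hne : ∃ u v, H u v ≠ 0) {t : V →ₗ[F] V} {μ : F}
    (ht : IsSim H t μ) (r : ℕ) (z : F) (hz : t ^ r = z • 1) : μ ^ r = z * σ z := by
  have h1 := ht.pow r
  rw [hz] at h1
  exact IsSim.unique hne h1 (isSim_smul_one h z)

theorem IsSim.ne_zero (hne : ∃ u v, H u v ≠ 0) {t t' : V →ₗ[F] V} {μ : F} (ht : IsSim H t μ)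
    (htt' : ∀ v, t (t' v) = v) : μ ≠ 0 := by
  obtain ⟨u, v, huv⟩ := hne
  intro h0
  have := ht (t' u) (t' v)
  rw [htt', htt', h0, zero_mul] at this
  exact huv this

variable (hσ2 : ∀ a : F, σ (σ a) = a)
include hσ2

/-- The adjoint of a similitude. -/
theorem IsSim.adjoint (h : IsHerm σ H) {t t' : V →ₗ[F] V} {μ : F} (ht : IsSim H t μ)
    (htt' : ∀ v, t (t' v) = v) (u v : V) : H (t u) v = H u ((σ μ • t') v) := by
  rw [LinearMap.smul_apply, h.smul_right, hσ2, ← ht, htt']

theorem adjoint_pow (_h : IsHerm σ H) {A B : V →ₗ[F] V} (hAB : ∀ u v, H (A u) v = H u (B v))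
    (k : ℕ) (u v : V) : H ((A ^ k) u) v = H u ((B ^ k) v) := by
  induction k generalizing u v with
  | zero => rw [pow_zero, pow_zero, Module.End.one_apply, Module.End.one_apply]
  | succ k ih =>
    rw [pow_succ, pow_succ', Module.End.mul_apply, Module.End.mul_apply, ih, hAB]

/-- The adjoint of a polynomial in `A` is the conjugate polynomial in the adjoint of `A`. -/
theorem adjoint_aeval (h : IsHerm σ H) {A B : V →ₗ[F] V} (hAB : ∀ u v, H (A u) v = H u (B v))
    (P : F[X]) (u v : V) :
    H (aeval A P u) v = H u (aeval B (P.map (σ : F →+* F)) v) := by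
  induction P using Polynomial.induction_on' with
  | add P Q hP hQ =>
    rw [map_add, LinearMap.add_apply, h.add_left, hP, hQ, Polynomial.map_add, map_add,
      LinearMap.add_apply, h.add_right]
  | monomial k a =>
    rw [Polynomial.map_monomial, aeval_monomial, aeval_monomial, Module.algebraMap_end_eq_smul_id,
      Module.algebraMap_end_eq_smul_id]
    simp only [Module.End.mul_apply, LinearMap.smul_apply, LinearMap.id_coe, id_eq]
    rw [h.smul_left, h.smul_right, adjoint_pow hσ2 h hAB]
    simp only [RingEquiv.coe_toRingHom, hσ2]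

end sim

end Cfsg.Agent.Lib.Helper4.SimU
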