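import Mathlib
import Cfsg.Prelude.Def_GeometricClasses
import Cfsg.Agent.Lib.Helper4.SimU1

set_option autoImplicit false
set_option linter.unusedSectionVars false
set_option linter.style.haveILetI false

/-! Hermitian forms given by a basis and an involution of the index set; equivalence of
nondegenerate Hermitian forms over finite fields; the two bridges between
`Cfsg.Geo.similarityGroup` and similitudes of abstract Hermitian forms. -/

namespace Cfsg.Agent.Lib.Helper4.SimU

open Module Polynomial
open Cfsg.Agent.Lib.Helper5.PSLCoset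

section expand
variable {F : Type*} [Field F] {σ : F ≃+* F} {V : Type*} [AddCommGroup V] [Module F V]
  {H : V → V → F}

theorem herm_sum_left (h : IsHerm σ H) {ι : Type*} (s : Finset ι) (a : ι → F) (x : ι → V)
    (w : V) : H (∑ k ∈ s, a k • x k) w = ∑ k ∈ s, a k * H (x k) w := by
  classical
  induction s using Finset.induction_on with
  | empty => rw [Finset.sum_empty, Finset.sum_empty, h.zero_left]
  | insert k s hk ih =>
    rw [Finset.sum_insert hk, Finset.sum_insert hk, h.add_left, h.smul_left, ih]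

theorem herm_sum_right (h : IsHerm σ H) {ι : Type*} (s : Finset ι) (c : ι → F) (y : ι → V)
    (w : V) : H w (∑ l ∈ s, c l • y l) = ∑ l ∈ s, σ (c l) * H w (y l) := by
  classical
  induction s using Finset.induction_on with
  | empty => rw [Finset.sum_empty, Finset.sum_empty, h.zero_right]
  | insert k s hk ih =>
    rw [Finset.sum_insert hk, Finset.sum_insert hk, h.add_right, h.smul_right, ih]

theorem herm_sum_sum (h : IsHerm σ H) {ι : Type*} [Fintype ι] (a c : ι → F) (x y : ι → V) :
    H (∑ k, a k • x k) (∑ l, c l • y l) = ∑ k, ∑ l, a k * σ (c l) * H (x k) (y l) := by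
  rw [herm_sum_left h]
  apply Finset.sum_congr rfl
  intro k _
  rw [herm_sum_right h, Finset.mul_sum]
  apply Finset.sum_congr rfl
  intro l _
  ring

/-- A similitude relation can be checked on a basis. -/
theorem isSim_of_basis (h : IsHerm σ H) {ι : Type*} [Fintype ι] (b : Basis ι F V)
    (t : V →ₗ[F] V) (μ : F) (hb : ∀ k l, H (t (b k)) (t (b l)) = μ * H (b k) (b l)) :
    IsSim H t μ := by
  intro u v
  have hu : t u = ∑ k, b.repr u k • t (b k) := by
    conv_lhs => rw [← b.sum_repr u]
    simp only [map_sum, map_smul]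
  have hv : t v = ∑ k, b.repr v k • t (b k) := by
    conv_lhs => rw [← b.sum_repr v]
    simp only [map_sum, map_smul]
  have h1 : H u v = ∑ k, ∑ l, b.repr u k * σ (b.repr v l) * H (b k) (b l) := by
    conv_lhs => rw [← b.sum_repr u, ← b.sum_repr v]
    exact herm_sum_sum h _ _ _ _
  rw [hu, hv, herm_sum_sum h, h1, Finset.mul_sum]
  apply Finset.sum_congr rfl
  intro k _
  rw [Finset.mul_sum]
  apply Finset.sum_congr rfl
  intro l _
  rw [hb]
  ring

end expand

section std
variable {F : Type*} [Field F] [Finite F] {σ : F ≃+* F} {V : Type*} [AddCommGroup V] [Module F V]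
  {H : V → V → F}

/-- Every nondegenerate Hermitian space over a finite field is isometric to the standard one. -/
theorem exists_std_equiv (hσ : orderOf σ = 2) (h : IsHerm σ H) (hnd : Nondeg H)
    [FiniteDimensional F V] (n : ℕ) (hn : finrank F V = n) :
    ∃ g : (Fin n → F) ≃ₗ[F] V, ∀ u v, H (g u) (g v) = ∑ i, u i * σ (v i) := by
  classical
  obtain ⟨e, he⟩ := exists_orthonormal hσ n V H h hnd hn
  set g₀ : (Fin n → F) →ₗ[F] V := Fintype.linearCombination F e with hg₀
  have hform : ∀ u v, H (g₀ u) (g₀ v) = ∑ i, u i * σ (v i) := by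
    intro u v
    rw [hg₀, Fintype.linearCombination_apply, Fintype.linearCombination_apply, herm_sum_sum h]
    apply Finset.sum_congr rfl
    intro k _
    rw [Finset.sum_eq_single k]
    · rw [he, if_pos rfl, mul_one]
    · intro l _ hl
      rw [he, if_neg (Ne.symm hl), mul_zero]
    · intro hk
      exact absurd (Finset.mem_univ k) hk
  have hinj : Function.Injective g₀ := by
    rw [injective_iff_map_eq_zero]
    intro u hu
    funext j
    have h1 := hform u (Pi.single j 1)
    rw [hu, h.zero_left] at h1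
    rw [Finset.sum_eq_single j] at h1
    · rw [Pi.single_eq_same, map_one, mul_one] at h1
      rw [Pi.zero_apply, ← h1]
    · intro l _ hl
      rw [Pi.single_eq_of_ne hl, map_zero, mul_zero]
    · intro hj
      exact absurd (Finset.mem_univ j) hj
  refine ⟨LinearMap.linearEquivOfInjective g₀ hinj (by rw [Module.finrank_fin_fun, hn]), ?_⟩
  intro u v
  exact hform u v

end std

section piForm
variable {F : Type*} [Field F] {σ : F ≃+* F} {V : Type*} [AddCommGroup V] [Module F V]
  {ι : Type*} [Fintype ι]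

/-- The Hermitian form with Gram matrix the permutation matrix of `π` in the basis `b`. -/
noncomputable def piForm (σ : F ≃+* F) (b : Basis ι F V) (π : ι → ι) (u v : V) : F :=
  ∑ k, b.repr u k * σ (b.repr v (π k))

theorem isHerm_piForm (hσ2 : ∀ a : F, σ (σ a) = a) (b : Basis ι F V) (π : ι → ι)
    (hπ : Function.Involutive π) : IsHerm σ (piForm σ b π) := by
  refine ⟨?_, ?_, ?_⟩
  · intro u v w
    unfold piForm
    rw [← Finset.sum_add_distrib]
    apply Finset.sum_congr rfl
    intro k _
    rw [map_add, Finsupp.add_apply]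
    ring
  · intro a v w
    unfold piForm
    rw [Finset.mul_sum]
    apply Finset.sum_congr rfl
    intro k _
    rw [map_smul, Finsupp.smul_apply, smul_eq_mul]
    ring
  · intro v w
    unfold piForm
    rw [map_sum]
    rw [← Equiv.sum_comp (hπ.toPerm π)]
    apply Finset.sum_congr rfl
    intro k _
    rw [map_mul, hσ2]
    simp only [Function.Involutive.coe_toPerm]
    rw [hπ k]
    ring

theorem piForm_basis [DecidableEq ι] (b : Basis ι F V) (π : ι → ι) (k l : ι) :
    piForm σ b π (b k) (b l) = if l = π k then 1 else 0 := by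
  unfold piForm
  rw [Finset.sum_eq_single k]
  · rw [b.repr_self, b.repr_self, Finsupp.single_eq_same, one_mul, Finsupp.single_apply]
    split_ifs
    · exact map_one σ
    · exact map_zero σ
  · intro j _ hj
    rw [b.repr_self, Finsupp.single_eq_of_ne hj, zero_mul]
  · intro hk
    exact absurd (Finset.mem_univ k) hk

theorem nondeg_piForm (b : Basis ι F V) (π : ι → ι) (hπ : Function.Involutive π) :
    Nondeg (piForm σ b π) := by
  classical
  intro v hv
  have hex : ∃ k, b.repr v k ≠ 0 := by
    by_contra hcon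
    push Not at hcon
    apply hv
    apply b.repr.injective
    ext k
    rw [hcon k, map_zero, Finsupp.zero_apply]
  obtain ⟨k, hk⟩ := hex
  refine ⟨b (π k), ?_⟩
  unfold piForm
  rw [Finset.sum_eq_single k]
  · rw [b.repr_self, Finsupp.single_eq_same, map_one, mul_one]
    exact hk
  · intro j _ hj
    have : π j ≠ π k := fun h => hj (hπ.injective h)
    rw [b.repr_self, Finsupp.single_eq_of_ne this, map_zero, mul_zero]
  · intro hk'
    exact absurd (Finset.mem_univ k) hk'

/-- Eigenbasis criterion: if `t (b k) = l k • b k` and `l k * σ (l (π k)) = μ` for all `k` then `t`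
is a similitude of `piForm σ b π` with multiplier `μ`. -/
theorem isSim_piForm_of_eigen (hσ2 : ∀ a : F, σ (σ a) = a) (b : Basis ι F V) (π : ι → ι)
    (hπ : Function.Involutive π) (t : V →ₗ[F] V) (l : ι → F) (hl : ∀ k, t (b k) = l k • b k)
    (μ : F) (hμ : ∀ k, l k * σ (l (π k)) = μ) : IsSim (piForm σ b π) t μ := by
  classical
  have h := isHerm_piForm hσ2 b π hπ
  apply isSim_of_basis h b
  intro k j
  rw [hl, hl, h.smul_left, h.smul_right, piForm_basis]
  split_ifs with hj
  · rw [hj, mul_one, mul_one, hμ]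
  · simp

end piForm

section bridge
variable {F : Type*} [Field F] [Fintype F] {n : ℕ} {σ : F ≃+* F}

theorem isHerm_of_unitary {Q : ℕ} (hσQ : ∀ a : F, σ a = a ^ Q)
    (f : (Fin n → F) → (Fin n → F) → F) (hf : Cfsg.Geo.IsUnitaryFormPow Q f) : IsHerm σ f :=
  ⟨hf.add_left, hf.smul_left, fun v w => by rw [hσQ]; exact hf.herm w v⟩

theorem nondeg_of_unitary {Q : ℕ} (f : (Fin n → F) → (Fin n → F) → F)
    (hf : Cfsg.Geo.IsUnitaryFormPow Q f) : Nondeg f :=
  fun v hv => (hf.nondegenerate v hv).2

/-- From a conjugate in the similarity group to a similitude of a Hermitian form. -/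
theorem isSim_of_conj_mem {Q : ℕ} (hσQ : ∀ a : F, σ a = a ^ Q)
    (f : (Fin n → F) → (Fin n → F) → F) (hf : Cfsg.Geo.IsUnitaryFormPow Q f)
    (x g : GL (Fin n) F) (hmem : g⁻¹ * x * g ∈ Cfsg.Geo.similarityGroup f) :
    ∃ (H : (Fin n → F) → (Fin n → F) → F) (μ : F), IsHerm σ H ∧ Nondeg H ∧
      IsSim H (Matrix.toLin' (x : Matrix (Fin n) (Fin n) F)) μ := by
  have hf' := isHerm_of_unitary hσQ f hf
  set gi : Matrix (Fin n) (Fin n) F := ((g⁻¹ : GL (Fin n) F) : Matrix (Fin n) (Fin n) F) with hgi
  have hggi : (g : Matrix (Fin n) (Fin n) F) * gi = 1 := by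
    rw [hgi, ← Units.val_mul, mul_inv_cancel, Units.val_one]
  have hgig : gi * (g : Matrix (Fin n) (Fin n) F) = 1 := by
    rw [hgi, ← Units.val_mul, inv_mul_cancel, Units.val_one]
  obtain ⟨c, hc⟩ := hmem
  refine ⟨fun u v => f (gi.mulVec u) (gi.mulVec v), (c : F), ⟨?_, ?_, ?_⟩, ?_, ?_⟩
  · intro u v w
    show f (gi.mulVec (u + v)) _ = _
    rw [Matrix.mulVec_add, hf.add_left]
  · intro a v w
    show f (gi.mulVec (a • v)) _ = _
    rw [Matrix.mulVec_smul, hf.smul_left]
  · intro v w
    exact hf'.symm _ _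
  · intro v hv
    have hv' : gi.mulVec v ≠ 0 := by
      intro h0
      apply hv
      have := congrArg (fun w => (g : Matrix (Fin n) (Fin n) F).mulVec w) h0
      simp only [Matrix.mulVec_mulVec, hggi, Matrix.one_mulVec, Matrix.mulVec_zero] at this
      exact this
    obtain ⟨w', hw'⟩ := (hf.nondegenerate _ hv').2
    refine ⟨(g : Matrix (Fin n) (Fin n) F).mulVec w', ?_⟩
    show f (gi.mulVec v) (gi.mulVec ((g : Matrix (Fin n) (Fin n) F).mulVec w')) ≠ 0
    rw [Matrix.mulVec_mulVec, hgig, Matrix.one_mulVec]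
    exact hw'
  · intro u v
    show f (gi.mulVec (Matrix.toLin' (x : Matrix (Fin n) (Fin n) F) u))
      (gi.mulVec (Matrix.toLin' (x : Matrix (Fin n) (Fin n) F) v)) = _
    have key : ∀ w : Fin n → F, gi.mulVec (Matrix.toLin' (x : Matrix (Fin n) (Fin n) F) w) =
        ((g⁻¹ * x * g : GL (Fin n) F) : Matrix (Fin n) (Fin n) F).mulVec (gi.mulVec w) := by
      intro w
      rw [Units.val_mul, Units.val_mul, ← hgi, Matrix.toLin'_apply, Matrix.mulVec_mulVec,
        Matrix.mulVec_mulVec, Matrix.mul_assoc, hggi, Matrix.mul_one]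
    rw [key, key, hc]

/-- From a similitude of some Hermitian form (plus centraliser elements of every determinant)
to a conjugate by a matrix of determinant one in the similarity group of `f`. -/
theorem conj_mem_of_isSim {Q : ℕ} (hσ : orderOf σ = 2) (hσQ : ∀ a : F, σ a = a ^ Q)
    (f : (Fin n → F) → (Fin n → F) → F) (hf : Cfsg.Geo.IsUnitaryFormPow Q f)
    (x : GL (Fin n) F) (H : (Fin n → F) → (Fin n → F) → F) (μ : F) (hμ : μ ≠ 0)
    (hH : IsHerm σ H) (hnd : Nondeg H)
    (hs : IsSim H (Matrix.toLin' (x : Matrix (Fin n) (Fin n) F)) μ)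
    (hcent : ∀ δ : F, δ ≠ 0 → ∃ c : (Fin n → F) →ₗ[F] (Fin n → F), LinearMap.det c = δ ∧
      ∀ v, c (Matrix.toLin' (x : Matrix (Fin n) (Fin n) F) v)
        = Matrix.toLin' (x : Matrix (Fin n) (Fin n) F) (c v)) :
    ∃ g ∈ Cfsg.Geo.specialLinear (Fin n) F, g⁻¹ * x * g ∈ Cfsg.Geo.similarityGroup f := by
  have hf' := isHerm_of_unitary hσQ f hf
  obtain ⟨g₁, hg₁⟩ := exists_std_equiv hσ hH hnd n (Module.finrank_fin_fun F)
  obtain ⟨g₂, hg₂⟩ := exists_std_equiv hσ hf' (nondeg_of_unitary f hf) n (Module.finrank_fin_fun F)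
  set k : (Fin n → F) ≃ₗ[F] (Fin n → F) := g₂.symm ≪≫ₗ g₁ with hk
  have hkf : ∀ u v, H (k u) (k v) = f u v := by
    intro u v
    rw [hk, LinearEquiv.trans_apply, LinearEquiv.trans_apply, hg₁, ← hg₂,
      LinearEquiv.apply_symm_apply, LinearEquiv.apply_symm_apply]
  have hdk : LinearMap.det (k : (Fin n → F) →ₗ[F] (Fin n → F)) ≠ 0 :=
    (LinearEquiv.isUnit_det' k).ne_zero
  obtain ⟨c, hcdet, hcc⟩ := hcent _ (inv_ne_zero hdk)
  set Q' : (Fin n → F) →ₗ[F] (Fin n → F) := c ∘ₗ (k : (Fin n → F) →ₗ[F] (Fin n → F)) with hQ'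
  have hQdet : LinearMap.det Q' = 1 := by
    rw [hQ', LinearMap.det_comp, hcdet, inv_mul_cancel₀ hdk]
  have hQne : (LinearMap.toMatrix' Q').det ≠ 0 := by
    rw [LinearMap.det_toMatrix', hQdet]; exact one_ne_zero
  set G : GL (Fin n) F := Matrix.GeneralLinearGroup.mkOfDetNeZero (LinearMap.toMatrix' Q') hQne
    with hG
  have hGc : (G : Matrix (Fin n) (Fin n) F) = LinearMap.toMatrix' Q' := rfl
  have hcinj : Function.Injective c := by
    have hne : LinearMap.det c ≠ 0 := by
      rw [hcdet]; exact inv_ne_zero hdk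
    have hker : LinearMap.ker c = ⊥ := by
      by_contra hker
      exact hne (LinearMap.det_eq_zero_iff_ker_ne_bot.mpr hker)
    exact LinearMap.ker_eq_bot.mp hker
  refine ⟨G, ?_, ?_⟩
  · change Matrix.GeneralLinearGroup.det G = 1
    apply Units.ext
    rw [Matrix.GeneralLinearGroup.val_det_apply, hGc, LinearMap.det_toMatrix', hQdet, Units.val_one]
  · refine ⟨Units.mk0 μ hμ, ?_⟩
    set y : Matrix (Fin n) (Fin n) F := ((G⁻¹ * x * G : GL (Fin n) F) : Matrix (Fin n) (Fin n) F)
      with hy
    have hGy : (G : Matrix (Fin n) (Fin n) F) * y =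
        (x : Matrix (Fin n) (Fin n) F) * (G : Matrix (Fin n) (Fin n) F) := by
      rw [hy, ← Units.val_mul, ← Units.val_mul]
      congr 1
      group
    have hky : ∀ u, k (y.mulVec u) = Matrix.toLin' (x : Matrix (Fin n) (Fin n) F) (k u) := by
      intro u
      apply hcinj
      rw [hcc]
      have h0 : ∀ w, c (k w) = (G : Matrix (Fin n) (Fin n) F).mulVec w := by
        intro w
        rw [hGc, ← Matrix.toLin'_apply (LinearMap.toMatrix' Q'), Matrix.toLin'_toMatrix', hQ']
        rfl
      have h1 := h0 (y.mulVec u)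
      have h2 := h0 u
      rw [h1, h2, Matrix.mulVec_mulVec, hGy, Matrix.toLin'_apply, Matrix.mulVec_mulVec]
    intro u v
    rw [← hkf, hky, hky, hs, hkf]
    rfl

end bridge

end Cfsg.Agent.Lib.Helper4.SimU
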