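import Mathlib
import Cfsg.Prelude.Def_Classical
import Cfsg.Agent.Lib.Helper4.SimU2
import Cfsg.Agent.Lib.Helper2.HermFrames
import Cfsg.Agent.Lib.Helper1.SpBlk3
import Cfsg.Agent.Lib.Helper5.UniO1

set_option autoImplicit false
set_option linter.unusedSectionVars false

/-! S5954 hub: nondegenerate subspaces of a Hermitian space (ambient formulation), invariant
nondegenerate subspaces of a similitude, block decompositions. -/

namespace Cfsg.Agent.Lib.Helper4.NDU

open Module Polynomial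
open Cfsg.Agent.Lib.Helper5.PSLCoset Cfsg.Agent.H9SemiInv Cfsg.Agent.Lib.Helper4.SimU
open Cfsg.Agent.Lib.Helper2.HermDecomp

section defs
variable {F : Type*} [Field F] {V : Type*} [AddCommGroup V] [Module F V]

/-- `H` is nondegenerate on the subspace `M`. -/
def Nd (H : V → V → F) (M : Submodule F V) : Prop := ∀ u ∈ M, (∀ v ∈ M, H u v = 0) → u = 0

/-- `T` fixes a nondegenerate `m`-subspace (the shape used in the frozen statement S5954). -/
def FixND (H : V → V → F) (T : V →ₗ[F] V) (m : ℕ) : Prop :=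
  ∃ W : Submodule F V, finrank F W = m ∧ (∀ u ∈ W, u ≠ 0 → ∃ v ∈ W, H u v ≠ 0) ∧ W.map T ≤ W

theorem fixND_iff [FiniteDimensional F V] (H : V → V → F) (T : V →ₗ[F] V) (m : ℕ) :
    FixND H T m ↔ ∃ W : Submodule F V, finrank F W = m ∧ Nd H W ∧ Inv T W := by
  constructor
  · rintro ⟨W, hW, hnd, hinv⟩
    refine ⟨W, hW, ?_, (inv_iff T W).mpr hinv⟩
    intro u hu hu'
    by_contra hu0
    obtain ⟨v, hv, hne⟩ := hnd u hu hu0
    exact hne (hu' v hv)
  · rintro ⟨W, hW, hnd, hinv⟩
    refine ⟨W, hW, ?_, (inv_iff T W).mp hinv⟩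
    intro u hu hu0
    by_contra hcon
    push Not at hcon
    exact hu0 (hnd u hu hcon)

/-- the dimension of the minimal nondegenerate blocks of an element of odd prime order `r` of a
unitary group over `F_{q²}`, `i` the order of `q` modulo `r`: the order of `-q` modulo `r`. -/
def cDim (i : ℕ) : ℕ := if i % 4 = 0 then i else if i % 4 = 2 then i / 2 else 2 * i

end defs

section ndcalc
variable {F : Type*} [Field F] {σ : F ≃+* F} {V : Type*} [AddCommGroup V] [Module F V]
  {H : V → V → F}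

theorem nd_bot : Nd H (⊥ : Submodule F V) := fun _ hu _ => (Submodule.mem_bot F).1 hu

theorem herm_swap_zero (h : IsHerm σ H) {x y : V} (hxy : H x y = 0) : H y x = 0 := by
  rw [h.symm x y, hxy, map_zero]

theorem Nd.disjoint (h : IsHerm σ H) {M : Submodule F V} (hM : Nd H M) :
    Disjoint M (orthoCompl h M) := by
  rw [Submodule.disjoint_def]
  intro x hx hx'
  apply hM x hx
  intro v hv
  exact herm_swap_zero h (hx' v hv)

theorem Nd.sup_orthoCompl [Finite F] [FiniteDimensional F V] (h : IsHerm σ H)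
    {M : Submodule F V} (hM : Nd H M) : M ⊔ orthoCompl h M = ⊤ := by
  rw [eq_top_iff]
  intro v _
  have h' := isHerm_restrict h M
  have hnd' : Nondeg (fun x y : M => H (x : V) (y : V)) := by
    intro x hx
    by_contra hcon
    push Not at hcon
    apply hx
    apply Subtype.ext
    apply hM x x.2
    intro w hw
    exact hcon ⟨w, hw⟩
  let φ : Module.Dual F M :=
    { toFun := fun u => H (u : V) v
      map_add' := fun a b => h.add_left _ _ _
      map_smul' := fun a b => h.smul_left _ _ _ }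
  obtain ⟨d, hd⟩ := (toDualAdd_bijective h' hnd').2 φ
  have hd' : ∀ u : M, H (u : V) (d : V) = H (u : V) v := by
    intro u
    have := LinearMap.congr_fun hd u
    exact this
  have hmem : v - d ∈ orthoCompl h M := by
    intro w hw
    rw [h.sub_right, sub_eq_zero]
    exact (hd' ⟨w, hw⟩).symm
  have : v = (d : V) + (v - d) := by abel
  rw [this]
  exact Submodule.add_mem_sup d.2 hmem

theorem Nd.isCompl [Finite F] [FiniteDimensional F V] (h : IsHerm σ H)
    {M : Submodule F V} (hM : Nd H M) : IsCompl M (orthoCompl h M) :=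
  ⟨hM.disjoint h, codisjoint_iff.mpr (hM.sup_orthoCompl h)⟩

theorem Nd.sup_inf_orth [Finite F] [FiniteDimensional F V] (h : IsHerm σ H)
    {M N : Submodule F V} (hN : Nd H N) (hNM : N ≤ M) : N ⊔ (M ⊓ orthoCompl h N) = M := by
  have h1 : (N ⊔ orthoCompl h N) ⊓ M = N ⊔ (orthoCompl h N ⊓ M) := sup_inf_assoc_of_le _ hNM
  rw [hN.sup_orthoCompl h, top_inf_eq] at h1
  rw [inf_comm, ← h1]

theorem Nd.disjoint_inf_orth (h : IsHerm σ H) {N : Submodule F V} (M : Submodule F V)
    (hN : Nd H N) : Disjoint N (M ⊓ orthoCompl h N) :=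
  (hN.disjoint h).mono_right inf_le_right

theorem Nd.finrank_add [Finite F] [FiniteDimensional F V] (h : IsHerm σ H)
    {M N : Submodule F V} (hN : Nd H N) (hNM : N ≤ M) :
    finrank F N + finrank F ↥(M ⊓ orthoCompl h N) = finrank F M := by
  rw [← finrank_sup_of_disjoint (hN.disjoint_inf_orth h M), hN.sup_inf_orth h hNM]

theorem Nd.inf_orth [Finite F] [FiniteDimensional F V] (h : IsHerm σ H)
    {M N : Submodule F V} (hM : Nd H M) (hN : Nd H N) (hNM : N ≤ M) :
    Nd H (M ⊓ orthoCompl h N) := by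
  intro u hu hu'
  apply hM u hu.1
  intro w hw
  have hw' : w ∈ N ⊔ (M ⊓ orthoCompl h N) := by
    rw [hN.sup_inf_orth h hNM]; exact hw
  obtain ⟨n, hn, v, hv, rfl⟩ := Submodule.mem_sup.1 hw'
  rw [h.add_right, hu' v hv, add_zero]
  exact herm_swap_zero h (hu.2 n hn)

theorem Nd.sup (h : IsHerm σ H) {N₁ N₂ : Submodule F V} (h₁ : Nd H N₁) (h₂ : Nd H N₂)
    (horth : N₂ ≤ orthoCompl h N₁) : Nd H (N₁ ⊔ N₂) := by
  intro w hw hw'
  obtain ⟨n₁, hn₁, n₂, hn₂, rfl⟩ := Submodule.mem_sup.1 hw
  have e1 : n₁ = 0 := by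
    apply h₁ n₁ hn₁
    intro v hv
    have h3 := hw' v (Submodule.mem_sup_left hv)
    rw [h.add_left, herm_swap_zero h (horth hn₂ v hv), add_zero] at h3
    exact h3
  have e2 : n₂ = 0 := by
    apply h₂ n₂ hn₂
    intro v hv
    have h3 := hw' v (Submodule.mem_sup_right hv)
    rw [h.add_left, horth hv n₁ hn₁, zero_add] at h3
    exact h3
  rw [e1, e2, add_zero]

/-- an orthogonal direct summand of a nondegenerate subspace is nondegenerate -/
theorem Nd.of_sup (h : IsHerm σ H) {N₁ N₂ : Submodule F V} (h12 : Nd H (N₁ ⊔ N₂))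
    (horth : N₂ ≤ orthoCompl h N₁) : Nd H N₁ := by
  intro u hu hu'
  apply h12 u (Submodule.mem_sup_left hu)
  intro w hw
  obtain ⟨n₁, hn₁, n₂, hn₂, rfl⟩ := Submodule.mem_sup.1 hw
  rw [h.add_right, hu' n₁ hn₁, zero_add]
  exact horth hn₂ u hu

theorem Nd.of_sup_right (h : IsHerm σ H) {N₁ N₂ : Submodule F V} (h12 : Nd H (N₁ ⊔ N₂))
    (horth : N₂ ≤ orthoCompl h N₁) : Nd H N₂ := by
  intro u hu hu'
  apply h12 u (Submodule.mem_sup_right hu)
  intro w hw
  obtain ⟨n₁, hn₁, n₂, hn₂, rfl⟩ := Submodule.mem_sup.1 hw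
  rw [h.add_right, hu' n₂ hn₂, add_zero]
  exact herm_swap_zero h (horth hu n₁ hn₁)

/-- a nonzero nondegenerate subspace of a Hermitian space contains an anisotropic vector -/
theorem Nd.exists_aniso [Finite F] (hσ1 : σ ≠ 1) (h : IsHerm σ H) {M : Submodule F V} (hM : Nd H M)
    (hne : M ≠ ⊥) : ∃ u ∈ M, H u u ≠ 0 := by
  obtain ⟨x, hxM, hx0⟩ := Submodule.exists_mem_ne_zero_of_ne_bot hne
  have hex : ∃ w ∈ M, H x w ≠ 0 := by
    by_contra hcon
    push Not at hcon
    exact hx0 (hM x hxM hcon)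
  obtain ⟨w, hwM, hxw⟩ := hex
  have h' := isHerm_restrict h M
  obtain ⟨u, hu⟩ := exists_norm_ne_zero hσ1 h' (v := ⟨x, hxM⟩) (w := ⟨w, hwM⟩) hxw
  exact ⟨u, u.2, hu⟩

/-- the image of an invariant subspace under an injective map is the subspace -/
theorem map_eq_of_inv_injective [FiniteDimensional F V] (T : V →ₗ[F] V)
    (hinj : Function.Injective T) {N : Submodule F V} (hN : Inv T N) : N.map T = N := by
  apply Submodule.eq_of_le_of_finrank_eq ((inv_iff T N).mp hN)
  exact (Submodule.equivMapOfInjective T hinj N).symm.finrank_eq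

/-- the orthogonal complement of an invariant subspace of an injective similitude is invariant -/
theorem inv_orthoCompl [FiniteDimensional F V] (h : IsHerm σ H) (T : V →ₗ[F] V) {μ₀ : F}
    (hT : IsSim H T μ₀) (hinj : Function.Injective T) {N : Submodule F V} (hN : Inv T N) :
    Inv T (orthoCompl h N) := by
  intro v hv w hw
  have hw' : w ∈ N.map T := by rw [map_eq_of_inv_injective T hinj hN]; exact hw
  obtain ⟨w', hw'N, rfl⟩ := hw'
  rw [hT w' v, hv w' hw'N, mul_zero]

end ndcalc

end Cfsg.Agent.Lib.Helper4.NDU
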