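import Mathlib
import Cfsg.Agent.Lib.Helper2.NSub0
import Cfsg.Agent.Lib.Helper2.NSubA
import Cfsg.Agent.Lib.Helper5.AltTwoMax1

set_option autoImplicit false
set_option linter.style.haveILetI false
set_option linter.unusedSectionVars false

/-! S5121, packages B1 and B2: `S ⊓ H₂ = T · (C ⊓ N₁)` and `H = T ⊔ O^p(H₁ ⊓ N₁)` is normal. -/

namespace Cfsg.Agent.Lib.Helper4.NSubB1

open Cfsg Cfsg.Agent.Lib.Helper2.NSub
open scoped Pointwise

variable {p : ℕ} [Fact p.Prime] {G : Type*} [Group G]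

section aux

variable (D : Setting p G) (H₁ : Subgroup G) [H₁.Normal]

/-- `H₂ = H₁ ⊓ N₁` -/
def H₂ : Subgroup G := H₁ ⊓ D.N₁

instance H₂_normal : (H₂ D H₁).Normal := by unfold H₂; infer_instance

theorem mem_H₂ (g : G) : g ∈ H₂ D H₁ ↔ g ∈ H₁ ∧ g ∈ D.N₁set := Iff.rfl

theorem pPrimeElts_subset : D.pPrimeElts H₁ ⊆ (H₂ D H₁ : Set G) := fun _ hx => ⟨hx.1, hx.2.1⟩

theorem X_le_H₂ : D.X H₁ ≤ H₂ D H₁ := by
  unfold Setting.X
  rw [Subgroup.closure_le]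
  exact pPrimeElts_subset D H₁

theorem pPrimeElts_conj (g x : G) (hx : x ∈ D.pPrimeElts H₁) : g * x * g⁻¹ ∈ D.pPrimeElts H₁ := by
  obtain ⟨h1, h2, h3⟩ := hx
  refine ⟨‹H₁.Normal›.conj_mem x h1 g, D.N₁_conj g x h2, ?_⟩
  have : g * x * g⁻¹ = MulAut.conj g x := by simp
  rw [this, MulEquiv.orderOf_eq]
  exact h3

instance X_normal : (D.X H₁).Normal := by
  constructor
  intro x hx g
  unfold Setting.X at hx ⊢
  induction hx using Subgroup.closure_induction with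
  | mem y hy => exact Subgroup.subset_closure (pPrimeElts_conj D H₁ g y hy)
  | one => simp
  | mul y z _ _ hy hz =>
    have : g * (y * z) * g⁻¹ = (g * y * g⁻¹) * (g * z * g⁻¹) := by group
    rw [this]; exact Subgroup.mul_mem _ hy hz
  | inv y _ hy =>
    have : g * y⁻¹ * g⁻¹ = (g * y * g⁻¹)⁻¹ := by group
    rw [this]; exact Subgroup.inv_mem _ hy

/-- an element of `H₂` of order prime to `p` lies in `X` -/
theorem mem_X_of_coprime (x : G) (hx : x ∈ H₂ D H₁) (hxp : (orderOf x).Coprime p) : x ∈ D.X H₁ :=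
  Subgroup.subset_closure ⟨hx.1, hx.2, hxp⟩

variable [Finite G]

/-- `H₂ = X · (S ⊓ H₂)` -/
theorem exists_mul_of_mem_H₂ (h : G) (hh : h ∈ H₂ D H₁) :
    ∃ x ∈ D.X H₁, ∃ s ∈ (D.S : Subgroup G) ⊓ H₂ D H₁, h = x * s := by
  classical
  have hp : p.Prime := Fact.out
  set K := H₂ D H₁ with hK
  obtain ⟨P₂, hP₂⟩ := Cfsg.Agent.Lib.Helper5.AltTwoMax.exists_sylow_inf_normal D.S K
  set X' : Subgroup ↥K := (D.X H₁).subgroupOf K with hX'
  haveI hX'n : X'.Normal := (X_normal D H₁).subgroupOf K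
  -- the quotient is a `p`-group
  have hq : IsPGroup p (↥K ⧸ X') := by
    intro y
    induction y using QuotientGroup.induction_on with
    | H k =>
      obtain ⟨a, m, hm, hkm⟩ := Nat.exists_eq_pow_mul_and_not_dvd (orderOf_pos k).ne' p hp.ne_one
      refine ⟨a, ?_⟩
      rw [← QuotientGroup.mk_pow, QuotientGroup.eq_one_iff, hX', Subgroup.mem_subgroupOf]
      apply mem_X_of_coprime D H₁ _ (K.pow_mem k.2 _)
      have h1 : orderOf ((k : G) ^ p ^ a) = m := by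
        have h2 : orderOf (k : G) = p ^ a * m := by rw [Subgroup.orderOf_coe, hkm]
        rw [orderOf_pow' _ (pow_ne_zero a hp.ne_zero), h2, Nat.gcd_eq_right (Dvd.intro _ rfl),
          Nat.mul_div_cancel_left _ (pow_pos hp.pos a)]
      rw [h1]
      exact ((Nat.Prime.coprime_iff_not_dvd hp).mpr hm).symm
  -- index argument
  set K' : Subgroup ↥K := X' ⊔ (P₂ : Subgroup ↥K) with hK'
  have h1 : K'.index ∣ X'.index := Subgroup.index_dvd_of_le le_sup_left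
  have h2 : K'.index ∣ (P₂ : Subgroup ↥K).index := Subgroup.index_dvd_of_le le_sup_right
  obtain ⟨n, hn⟩ := (IsPGroup.iff_card.mp hq)
  have h3 : X'.index = p ^ n := by rw [Subgroup.index_eq_card, hn]
  have h4 : Nat.Coprime (p ^ n) (P₂ : Subgroup ↥K).index :=
    Nat.Coprime.pow_left n ((Nat.Prime.coprime_iff_not_dvd hp).mpr P₂.not_dvd_index)
  have h5 : K'.index = 1 := Nat.eq_one_of_dvd_coprimes h4 (h3 ▸ h1) h2
  have h6 : K' = ⊤ := Subgroup.index_eq_one.mp h5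
  have h7 : (⟨h, hh⟩ : ↥K) ∈ K' := by rw [h6]; trivial
  rw [hK', ← SetLike.mem_coe, Subgroup.normal_mul, Set.mem_mul] at h7
  obtain ⟨x, hx, s, hs, hxs⟩ := h7
  rw [SetLike.mem_coe] at hx hs
  rw [hX', Subgroup.mem_subgroupOf] at hx
  have hs' : s ∈ ((D.S : Subgroup G) ⊓ K).subgroupOf K := by rw [← hP₂]; exact hs
  rw [Subgroup.mem_subgroupOf] at hs'
  refine ⟨x, hx, s, hs', ?_⟩
  have := congrArg (fun z : ↥K => (z : G)) hxs
  simpa using this.symm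

end aux

section sylowaux

variable [Finite G]

/-- a `p`-element of a normal subgroup `K` can be conjugated into `S ⊓ K` inside `K` -/
theorem exists_conj_mem_sylow_inf (S : Sylow p G) (K : Subgroup G) [K.Normal] (y : G) (hy : y ∈ K)
    (k : ℕ) (hk : y ^ p ^ k = 1) :
    ∃ c ∈ K, c * y * c⁻¹ ∈ (S : Subgroup G) ⊓ K := by
  classical
  have hp : p.Prime := Fact.out
  obtain ⟨P₂, hP₂⟩ := Cfsg.Agent.Lib.Helper5.AltTwoMax.exists_sylow_inf_normal S K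
  set y' : ↥K := ⟨y, hy⟩ with hy'
  have h1 : y' ^ p ^ k = 1 := Subtype.ext (by simpa using hk)
  obtain ⟨j, -, hj⟩ := (Nat.dvd_prime_pow hp).mp (orderOf_dvd_of_pow_eq_one h1)
  have hyp : IsPGroup p (Subgroup.zpowers y') := IsPGroup.of_card (n := j) (by rw [Nat.card_zpowers, hj])
  obtain ⟨P, hP⟩ := hyp.exists_le_sylow
  obtain ⟨c, hc⟩ := MulAction.exists_smul_eq ↥K P P₂
  have h2 : MulAut.conj c • y' ∈ MulAut.conj c • (P : Subgroup ↥K) :=
    Subgroup.smul_mem_pointwise_smul y' (MulAut.conj c) _ (hP (Subgroup.mem_zpowers y'))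
  rw [← Sylow.pointwise_smul_def, ← Sylow.smul_def, hc, hP₂, Subgroup.mem_subgroupOf] at h2
  refine ⟨c, c.2, ?_⟩
  simpa [MulAut.smul_def] using h2

end sylowaux

section B

variable [Finite G] (D : Setting p G) (H₁ : Subgroup G) [H₁.Normal] (hC : D.C ≤ H₁) (hT : D.T ≤ H₁)
  (hsyl : (D.S : Subgroup G) ⊓ H₁ ≤ D.T ⊔ D.C)
include hC hT hsyl

/-- B1 -/
theorem sylow_inf_H₂ (s : G) (hs : s ∈ (D.S : Subgroup G)) (hs1 : s ∈ H₁) (hs2 : s ∈ D.N₁set) :
    ∃ t ∈ D.T, ∃ z ∈ D.C, z ∈ D.N₁set ∧ s = t * z := by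
  have h1 : s ∈ D.T ⊔ D.C := hsyl ⟨hs, hs1⟩
  rw [← SetLike.mem_coe, Subgroup.mul_normal, Set.mem_mul] at h1
  obtain ⟨t, ht, z, hz, htz⟩ := h1
  rw [SetLike.mem_coe] at ht hz
  refine ⟨t, ht, z, hz, ?_, htz.symm⟩
  have h2 : z = t⁻¹ * s := by rw [← htz]; group
  rw [h2]
  exact D.N₁_mul _ _ (D.N₁_inv t (D.T_le_N₁ t ht)) hs2

/-- B2 -/
theorem H_normal : (D.H H₁).Normal := by
  have hp : p.Prime := Fact.out
  have hTH₂ : D.T ≤ H₂ D H₁ := fun t ht => ⟨hT ht, D.T_le_N₁ t ht⟩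
  have hXH : D.X H₁ ≤ D.H H₁ := le_sup_right
  have hTH : D.T ≤ D.H H₁ := le_sup_left
  -- conjugates of elements of `T` lie in `H`
  have key : ∀ (g t : G), t ∈ D.T → g * t * g⁻¹ ∈ D.H H₁ := by
    intro g t ht
    have hyK : g * t * g⁻¹ ∈ H₂ D H₁ := (H₂_normal D H₁).conj_mem t (hTH₂ ht) g
    obtain ⟨k, hk⟩ := (D.S.isPGroup') ⟨t, D.hTS ht⟩
    have hk' : t ^ p ^ k = 1 := by simpa using congrArg (fun z : ↥(D.S : Subgroup G) => (z : G)) hk
    have hyk : (g * t * g⁻¹) ^ p ^ k = 1 := by rw [conj_pow, hk']; group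
    obtain ⟨c, hc, hcy⟩ := exists_conj_mem_sylow_inf D.S (H₂ D H₁) _ hyK k hyk
    have h1 : (c * g) * t * (c * g)⁻¹ ∈ D.T := by
      apply D.hsc _ _ ht
      have : (c * g) * t * (c * g)⁻¹ = c * (g * t * g⁻¹) * c⁻¹ := by group
      rw [this]; exact hcy.1
    obtain ⟨x, hx, s, hs, hxs⟩ := exists_mul_of_mem_H₂ D H₁ c⁻¹ ((H₂ D H₁).inv_mem hc)
    have h2 : s * ((c * g) * t * (c * g)⁻¹) * s⁻¹ ∈ D.T := D.T_conj_mem_of_mem_S _ _ hs.1 h1
    have h3 : g * t * g⁻¹ = x * (s * ((c * g) * t * (c * g)⁻¹) * s⁻¹) * x⁻¹ := by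
      have h4 : x * s = c⁻¹ := hxs.symm
      have h5 : s⁻¹ * x⁻¹ = c := by rw [← mul_inv_rev, h4, inv_inv]
      calc g * t * g⁻¹ = c⁻¹ * ((c * g) * t * (c * g)⁻¹) * c := by group
        _ = (x * s) * ((c * g) * t * (c * g)⁻¹) * (s⁻¹ * x⁻¹) := by rw [h4, h5]
        _ = _ := by group
    rw [h3]
    exact (D.H H₁).mul_mem ((D.H H₁).mul_mem (hXH hx) (hTH h2)) ((D.H H₁).inv_mem (hXH hx))
  constructor
  intro h hh g
  have hh' : h ∈ ((D.T ⊔ D.X H₁ : Subgroup G) : Set G) := hh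
  rw [Subgroup.mul_normal, Set.mem_mul] at hh'
  obtain ⟨t, ht, x, hx, rfl⟩ := hh'
  have : g * (t * x) * g⁻¹ = (g * t * g⁻¹) * (g * x * g⁻¹) := by group
  rw [this]
  exact (D.H H₁).mul_mem (key g t ht) (hXH ((X_normal D H₁).conj_mem x hx g))

end B

end Cfsg.Agent.Lib.Helper4.NSubB1
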