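import Mathlib
import Cfsg.Agent.Lib.Helper2.NSub0
import Cfsg.Agent.Lib.Helper2.NSubA
import Cfsg.Agent.Lib.Helper5.AltTwoMax1
import Cfsg.Agent.Lib.Helper4.NSubB1

set_option autoImplicit false
set_option linter.style.haveILetI false
set_option linter.unusedSectionVars false

/-! S5121, packages B3 and B3': `S ⊓ H = T` and `T` is a Sylow `p`-subgroup of `H`. -/

namespace Cfsg.Agent.Lib.Helper4.NSubB3

open Cfsg Cfsg.Agent.Lib.Helper2.NSub Cfsg.Agent.Lib.Helper4.NSubB1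
open scoped Pointwise commutatorElement

variable {p : ℕ} [Fact p.Prime] {G : Type*} [Group G]

/-- a closure of a subset of `K` lies in a subgroup `N` of `↥K` as soon as the generators do -/
theorem closure_subgroupOf_mem (K : Subgroup G) (W : Set G) (hW : W ⊆ (K : Set G))
    (N : Subgroup ↥K) (hN : ∀ y (hy : y ∈ W), (⟨y, hW hy⟩ : ↥K) ∈ N) :
    ∀ x ∈ Subgroup.closure W, ∃ hx : x ∈ K, (⟨x, hx⟩ : ↥K) ∈ N := by
  intro x hx
  induction hx using Subgroup.closure_induction with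
  | mem y hy => exact ⟨hW hy, hN y hy⟩
  | one => exact ⟨K.one_mem, N.one_mem⟩
  | mul y z _ _ hy hz =>
    obtain ⟨hy1, hy2⟩ := hy
    obtain ⟨hz1, hz2⟩ := hz
    exact ⟨K.mul_mem hy1 hz1, N.mul_mem hy2 hz2⟩
  | inv y _ hy =>
    obtain ⟨hy1, hy2⟩ := hy
    exact ⟨K.inv_mem hy1, N.inv_mem hy2⟩

section transfer

variable [Finite G]

/-- an element of order prime to `p` lies in the kernel of the transfer into `P ⧸ P*` -/
theorem mem_ker_transferFocal_of_coprime (P : Sylow p G) (x : G) (hx : (orderOf x).Coprime p) :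
    x ∈ (P : Subgroup G).transferFocal.ker := by
  have hp : p.Prime := Fact.out
  rw [MonoidHom.mem_ker]
  set φ := (P : Subgroup G).transferFocal with hφ
  have hQ : IsPGroup p (↥(P : Subgroup G) ⧸ (P : Subgroup G).focalSubgroupOf) :=
    P.2.to_quotient _
  obtain ⟨k, hk⟩ := hQ (φ x)
  have h1 : orderOf (φ x) ∣ p ^ k := orderOf_dvd_of_pow_eq_one hk
  have h2 : orderOf (φ x) ∣ orderOf x := orderOf_map_dvd φ x
  have h3 : Nat.Coprime (orderOf x) (p ^ k) := Nat.Coprime.pow_right k hx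
  have h4 : orderOf (φ x) = 1 := Nat.eq_one_of_dvd_coprimes h3 h2 h1
  exact orderOf_eq_one_iff.mp h4

end transfer

section B

variable [Finite G] (D : Setting p G) (H₁ : Subgroup G) [H₁.Normal] (hC : D.C ≤ H₁) (hT : D.T ≤ H₁)
  (hsyl : (D.S : Subgroup G) ⊓ H₁ ≤ D.T ⊔ D.C)
include hC hT hsyl

/-- the generators of the focal subgroup of `S ⊓ H₂` in `H₂` lie in `T` -/
theorem focal_gen_mem (x u : G) (hx : x ∈ (D.S : Subgroup G) ⊓ H₂ D H₁) (hu : u ∈ H₂ D H₁)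
    (hg : x * u * x⁻¹ * u⁻¹ ∈ (D.S : Subgroup G)) : x * u * x⁻¹ * u⁻¹ ∈ D.T := by
  set g := x * u * x⁻¹ * u⁻¹ with hgdef
  -- `w = x⁻¹ = t_w z_w`
  have hw : x⁻¹ ∈ (D.S : Subgroup G) ⊓ H₂ D H₁ := Subgroup.inv_mem _ hx
  obtain ⟨tw, htw, zw, hzwC, hzwN, hwz⟩ :=
    sylow_inf_H₂ D H₁ hC hT hsyl x⁻¹ hw.1 hw.2.1 hw.2.2
  have hzwQ : zw ∈ D.Q := D.stab_le zw hzwN hzwC
  have hzwS : zw ∈ (D.S : Subgroup G) := D.Q_le_S hzwQ
  have htwS : tw ∈ (D.S : Subgroup G) := D.hTS htw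
  -- `z' = [u, z_w] ∈ R`
  have hz' : u * zw * u⁻¹ * zw⁻¹ ∈ D.R := hu.2 zw hzwQ
  have hz'S : u * zw * u⁻¹ * zw⁻¹ ∈ (D.S : Subgroup G) := D.hTS (D.R_le_T hz')
  have hx' : x = zw⁻¹ * tw⁻¹ := by
    have : x = (x⁻¹)⁻¹ := (inv_inv x).symm
    rw [this, hwz, mul_inv_rev]
  -- `u t_w u⁻¹ ∈ S`
  have h1 : u * tw * u⁻¹ = tw * (zw * g * zw⁻¹) * (u * zw * u⁻¹ * zw⁻¹)⁻¹ := by
    rw [hgdef, hx']; group
  have h2 : u * tw * u⁻¹ ∈ (D.S : Subgroup G) := by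
    rw [h1]
    exact Subgroup.mul_mem _ (Subgroup.mul_mem _ htwS
      (Subgroup.mul_mem _ (Subgroup.mul_mem _ hzwS hg) (Subgroup.inv_mem _ hzwS)))
      (Subgroup.inv_mem _ hz'S)
  have h3 : u * tw * u⁻¹ ∈ D.T := D.hsc u tw htw h2
  have h4 : g = zw⁻¹ * (tw⁻¹ * (u * tw * u⁻¹) * (u * zw * u⁻¹ * zw⁻¹)) * (zw⁻¹)⁻¹ := by
    rw [hgdef, hx']; group
  rw [h4]
  apply D.T_conj_mem_of_mem_S _ _ (Subgroup.inv_mem _ hzwS)
  exact Subgroup.mul_mem _ (Subgroup.mul_mem _ (Subgroup.inv_mem _ htw) h3) (D.R_le_T hz')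

/-- `S ⊓ X ≤ T` -/
theorem sylow_inf_X_le : (D.S : Subgroup G) ⊓ D.X H₁ ≤ D.T := by
  classical
  set K := H₂ D H₁ with hK
  obtain ⟨P₂, hP₂⟩ := Cfsg.Agent.Lib.Helper5.AltTwoMax.exists_sylow_inf_normal D.S K
  -- `X ≤ ker`
  have hker : ∀ x ∈ D.X H₁, ∃ hx : x ∈ K, (⟨x, hx⟩ : ↥K) ∈ (P₂ : Subgroup ↥K).transferFocal.ker := by
    apply closure_subgroupOf_mem K (D.pPrimeElts H₁) (pPrimeElts_subset D H₁)
    intro y hy
    apply mem_ker_transferFocal_of_coprime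
    have : orderOf (⟨y, pPrimeElts_subset D H₁ hy⟩ : ↥K) = orderOf y := by
      rw [← Subgroup.orderOf_coe]
    rw [this]; exact hy.2.2
  -- the focal subgroup lies in `T`
  have hfoc : ∀ y ∈ (P₂ : Subgroup ↥K).focalSubgroup, (y : G) ∈ D.T := by
    intro y hy
    rw [Subgroup.focalSubgroup_def] at hy
    induction hy using Subgroup.closure_induction with
    | mem z hz =>
      obtain ⟨hz1, x, hx, u, rfl⟩ := hz
      rw [hP₂, Subgroup.mem_subgroupOf] at hz1 hx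
      have h0 := hz1.1
      simp only [commutatorElement_def, Subgroup.coe_mul, Subgroup.coe_inv] at h0
      have := focal_gen_mem D H₁ hC hT hsyl (x : G) (u : G) hx u.2 h0
      simp only [commutatorElement_def, Subgroup.coe_mul, Subgroup.coe_inv]
      exact this
    | one => simp
    | mul y z _ _ hy hz => simpa using D.T.mul_mem hy hz
    | inv y _ hy => simpa using D.T.inv_mem hy
  intro x hx
  obtain ⟨hxK, hxker⟩ := hker x hx.2
  have hxP : (⟨x, hxK⟩ : ↥K) ∈ (P₂ : Subgroup ↥K) := by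
    rw [hP₂, Subgroup.mem_subgroupOf]; exact ⟨hx.1, hxK⟩
  have h1 : (⟨x, hxK⟩ : ↥K) ∈ (P₂ : Subgroup ↥K).transferFocal.ker ⊓ (P₂ : Subgroup ↥K) :=
    ⟨hxker, hxP⟩
  rw [Subgroup.ker_transferFocal_inf_eq_focalSubgroup] at h1
  exact hfoc _ h1

/-- B3 -/
theorem sylow_inf_H : (D.S : Subgroup G) ⊓ D.H H₁ = D.T := by
  apply le_antisymm
  · intro h hh
    have hh' : h ∈ ((D.T ⊔ D.X H₁ : Subgroup G) : Set G) := hh.2
    rw [Subgroup.mul_normal, Set.mem_mul] at hh'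
    obtain ⟨t, ht, x, hx, rfl⟩ := hh'
    have hxS : x ∈ (D.S : Subgroup G) := by
      have : x = t⁻¹ * (t * x) := by group
      rw [this]; exact Subgroup.mul_mem _ (Subgroup.inv_mem _ (D.hTS ht)) hh.1
    exact D.T.mul_mem ht (sylow_inf_X_le D H₁ hC hT hsyl ⟨hxS, hx⟩)
  · exact le_inf D.hTS le_sup_left

/-- B3' -/
theorem exists_sylow_H :
    ∃ R : Sylow p (D.H H₁), (R : Subgroup (D.H H₁)) = D.T.subgroupOf (D.H H₁) := by
  haveI : (D.H H₁).Normal := H_normal D H₁ hC hT hsyl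
  obtain ⟨R, hR⟩ := Cfsg.Agent.Lib.Helper5.AltTwoMax.exists_sylow_inf_normal D.S (D.H H₁)
  exact ⟨R, by rw [hR, sylow_inf_H D H₁ hC hT hsyl]⟩

end B

end Cfsg.Agent.Lib.Helper4.NSubB3
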