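import Mathlib
import Cfsg.Prelude.Def_FusionSystem
import Cfsg.Agent.Lib.Helper2.NSub0
import Cfsg.Agent.Lib.Helper2.NSubA
import Cfsg.Agent.Lib.Helper6.NSubF
import Cfsg.Agent.Lib.Helper9.FusionNormal3
import Cfsg.Agent.Lib.Helper9.FusionAG3
import Cfsg.Agent.Lib.Helper9.FusionAut2

set_option autoImplicit false
set_option linter.style.haveILetI false
set_option linter.unusedSectionVars false

/-! S5121, package C2: `R = T ∩ O_p(G)` is normal and centric in the normal subsystem `E`. -/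

namespace Cfsg.Agent.Lib.Helper4.NSubC2

open Cfsg Cfsg.FusionSystem Cfsg.Agent.Lib.Helper2.NSub Cfsg.Agent.Lib.Helper9
  Cfsg.Agent.Lib.Helper6.NSubF

variable {p : ℕ} [Fact p.Prime] {G : Type*} [Group G] [Finite G]

section C'

variable (D : Setting p G) (E : Cfsg.FusionSystem D.T)
  (hE : E.IsNormalIn (Cfsg.groupFusionSystem (D.S : Subgroup G)) p)
include hE

/-- `R` lies in every `E`-centric `E`-radical subgroup -/
theorem R_le_of_centric_radical {P : Subgroup G} (hPc : E.IsCentric P) (hPr : E.IsRadical p P) :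
    D.R ≤ P := by
  have hS : IsPGroup p D.T := D.S.isPGroup'.to_le D.hTS
  haveI : Finite D.T := Finite.of_injective (fun y : D.T => (y : G)) Subtype.val_injective
  have hPS : P ≤ D.T := hPc.1
  have hQS : D.R ≤ D.T := D.R_le_T
  have hKS : P ⊔ D.R ≤ D.T := sup_le hPS hQS
  have hCle : centralizerIn D.T P ≤ P := hPc.2 P (fs_isConj_refl E hPS)
  haveI : Finite P := fs_finite_of_le hPS
  haveI hfinK : Finite ↥(P ⊔ D.R) := fs_finite_of_le hKS
  have hNK : normalizerIn (P ⊔ D.R) P ≤ P ⊔ D.R := inf_le_left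
  have hNS : normalizerIn (P ⊔ D.R) P ≤ D.T := hNK.trans hKS
  have hBle : autInducedBy (normalizerIn (P ⊔ D.R) P) P ≤ E.autGroup P :=
    (autInducedBy_mono hNS P).trans (autInducedBy_le_autGroup E hPS)
  have hBp : IsPGroup p (autInducedBy (normalizerIn (P ⊔ D.R) P) P) :=
    isPGroup_autInducedBy p (hS.to_le hNS) P
  have hnormal : ((autInducedBy (normalizerIn (P ⊔ D.R) P) P).subgroupOf (E.autGroup P)).Normal := by
    constructor
    intro β hβ α
    rw [Subgroup.mem_subgroupOf, mem_autInducedBy_iff] at hβ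
    obtain ⟨g, hgN, Hg⟩ := hβ
    rw [Subgroup.mem_subgroupOf, mem_autInducedBy_iff]
    have hα := α.2
    rw [mem_autGroup_iff E hPS] at hα
    obtain ⟨k, hk⟩ := exists_conj hE hα
    have hαk : ∀ x : P, (((α : MulAut P) x : P) : G) = k * x * k⁻¹ := fun x => hk x
    have hαinv : ∀ x : P, ((((α : MulAut P)⁻¹ x : P)) : G) = k⁻¹ * x * k := by
      intro x
      have h4 := hαk ((α : MulAut P)⁻¹ x)
      rw [MulAut.apply_inv_self] at h4
      rw [h4]; group
    have hgK : g ∈ P ⊔ D.R := hNK hgN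
    have hkK : k * g * k⁻¹ ∈ P ⊔ D.R := by
      have hg' : g ∈ ((P ⊔ D.R : Subgroup G) : Set G) := hgK
      rw [Subgroup.mul_normal, Set.mem_mul] at hg'
      obtain ⟨x, hx, r, hr, rfl⟩ := hg'
      have : k * (x * r) * k⁻¹ = (k * x * k⁻¹) * (k * r * k⁻¹) := by group
      rw [this]
      refine Subgroup.mul_mem _ ((le_sup_left : P ≤ P ⊔ D.R) ?_)
        ((le_sup_right : D.R ≤ P ⊔ D.R) (D.R_conj_mem k r hr))
      rw [← hαk ⟨x, hx⟩]; exact ((α : MulAut P) ⟨x, hx⟩).2
    have hind : ∀ x : P, ((((α * β * α⁻¹ : E.autGroup P) : MulAut P) x : P) : G)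
        = (k * g * k⁻¹) * x * (k * g * k⁻¹)⁻¹ := by
      intro x
      have h1 : ((α * β * α⁻¹ : E.autGroup P) : MulAut P) x
          = (α : MulAut P) ((β : MulAut P) ((α : MulAut P)⁻¹ x)) := by
        simp only [Subgroup.coe_mul, Subgroup.coe_inv, MulAut.mul_apply]
      rw [h1, hαk, Hg, hαinv]; group
    refine ⟨k * g * k⁻¹, ⟨hkK, ?_⟩, hind⟩
    exact mem_normalizer_of_induces _ _ hind
  have hBcore : (autInducedBy (normalizerIn (P ⊔ D.R) P) P).subgroupOf (E.autGroup P) ≤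
      Cfsg.pCore p (E.autGroup P) := by
    apply le_pCore hnormal
    exact hBp.comap_of_injective _ (Subgroup.subtype_injective _)
  have hNP : normalizerIn (P ⊔ D.R) P ≤ P := by
    intro g hg
    obtain ⟨c, hc'⟩ : ∃ c : MulAut P, c = P.normalizerMonoidHom ⟨g, hg.2⟩ := ⟨_, rfl⟩
    have hcg : ∀ x : P, ((c x : P) : G) = g * x * g⁻¹ := by
      intro x; rw [hc']; rfl
    have hcB : c ∈ autInducedBy (normalizerIn (P ⊔ D.R) P) P := by
      rw [mem_autInducedBy_iff]
      exact ⟨g, hg, hcg⟩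
    have hcI : c ∈ Inn P := by
      rw [← hPr.2]
      refine ⟨⟨c, hBle hcB⟩, hBcore ?_, rfl⟩
      rw [Subgroup.mem_subgroupOf]
      exact hcB
    exact mem_of_induces_inner hCle hcI (hNS hg) hPS hcg
  have hKP : P ⊔ D.R = P := by
    by_contra hne
    have hlt : P < P ⊔ D.R := lt_of_le_of_ne le_sup_left (fun h => hne h.symm)
    have h1 := fs_lt_normalizerIn (S := P ⊔ D.R) p (hS.to_le hKS) hlt
    exact absurd (lt_of_lt_of_le h1 hNP) (lt_irrefl _)
  rw [← hKP]
  exact le_sup_right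

/-- C2 -/
theorem R_isNormal_isCentric : E.IsNormal D.R ∧ E.IsCentric D.R := by
  have hS : IsPGroup p D.T := D.S.isPGroup'.to_le D.hTS
  haveI : Finite D.T := Finite.of_injective (fun y : D.T => (y : G)) Subtype.val_injective
  constructor
  · rw [fs_isNormal_iff_centric_radical p hS E (isSaturated hE) D.R]
    exact ⟨R_stronglyClosed D E hE, fun P hPc hPr => R_le_of_centric_radical D E hE hPc hPr⟩
  · refine ⟨D.R_le_T, ?_⟩
    rintro Q' ⟨φ, hφ, hφr⟩
    have h1 : φ.range = D.R := (R_weaklyClosed D E hE).2 φ hφ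
    have h2 : Q' = D.R := by rw [← hφr, h1]
    rw [h2]
    intro t ht
    exact D.cent_T_le t ht.1 ht.2

end C'

end Cfsg.Agent.Lib.Helper4.NSubC2
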