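import Mathlib
import Cfsg.Prelude.Def_FusionSystem
import Cfsg.Agent.Lib.Helper2.NSub0
import Cfsg.Agent.Lib.Helper2.NSubA
import Cfsg.Agent.Lib.Helper2.NSubC3
import Cfsg.Agent.Lib.Helper6.NSubF
import Cfsg.Agent.Lib.Helper6.NSubC4
import Cfsg.Agent.Lib.Helper1.NSubB4
import Cfsg.Agent.Lib.Helper4.NSubC2
import Cfsg.Agent.Lib.Helper9.FusionCentric2

set_option autoImplicit false
set_option linter.style.haveILetI false
set_option linter.unusedSectionVars false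

/-! S5121, package C5: `E ≤ F_T(H)`. -/

namespace Cfsg.Agent.Lib.Helper4.NSubC5

open Cfsg Cfsg.FusionSystem Cfsg.Agent.Lib.Helper2.NSub Cfsg.Agent.Lib.Helper9
  Cfsg.Agent.Lib.Helper6.NSubF

variable {p : ℕ} [Fact p.Prime] {G : Type*} [Group G] [Finite G]

section C'

variable (D : Setting p G) (E : Cfsg.FusionSystem D.T)
  (hE : E.IsNormalIn (Cfsg.groupFusionSystem (D.S : Subgroup G)) p)
include hE

/-- C5 -/
theorem le_fsos (H₁ : Subgroup G) [H₁.Normal] (hH₁ : ∀ g : G, g ∈ H₁ ↔ conjHom D.R g ∈ E.Hom D.R)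
    (hC : D.C ≤ H₁) (hT : D.T ≤ H₁) (hsyl : (D.S : Subgroup G) ⊓ H₁ ≤ D.T ⊔ D.C)
    (hTH : D.T ≤ D.H H₁) :
    ∀ P : Subgroup G, E.Hom P ⊆ (Cfsg.fusionSystemOfSubgroup (D.H H₁) D.T hTH).Hom P := by
  intro P φ hφ
  have hS : IsPGroup p D.T := D.S.isPGroup'.to_le D.hTS
  haveI : Finite D.T := Finite.of_injective (fun y : D.T => (y : G)) Subtype.val_injective
  have hPT : P ≤ D.T := (E.le_of_mem hφ).1
  obtain ⟨hRn, hRc⟩ := Cfsg.Agent.Lib.Helper4.NSubC2.R_isNormal_isCentric D E hE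
  -- extend to `P ⊔ R`
  obtain ⟨ψ, hψ, hψφ, -⟩ := hRn.2 P φ hφ
  obtain ⟨g', hg'⟩ := exists_conj hE hψ
  have hP'T : P ⊔ D.R ≤ D.T := (E.le_of_mem hψ).1
  have hψT : ∀ y (hy : y ∈ P ⊔ D.R), g' * y * g'⁻¹ ∈ D.T := by
    intro y hy
    rw [← hg' ⟨y, hy⟩]; exact (E.le_of_mem hψ).2 _
  -- `g' ∈ H₁`
  have hg'R : InE E D.R g' := inE_restrict E (inE_of_hom E hψ hg') le_sup_right
  have hg'H₁ : g' ∈ H₁ := (hH₁ g').mpr hg'R
  -- B5 + C3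
  obtain ⟨h, hhH, hc⟩ := Cfsg.Agent.Lib.Helper1.NSubB4.H₁_eq D H₁ hC hT hsyl
    (Cfsg.Agent.Lib.Helper2.NSubC3.lift_normalizer D E hE H₁ hH₁ hsyl) g' hg'H₁
  obtain ⟨c, hcdef⟩ : ∃ c : G, c = h⁻¹ * g' := ⟨_, rfl⟩
  have hcC : c ∈ D.C := by rw [hcdef]; exact hc
  have hheq : h = g' * c⁻¹ := by rw [hcdef]; group
  -- `c⁻¹` normalizes `P ⊔ R`
  have hcP' : ∀ y ∈ P ⊔ D.R, c⁻¹ * y * c ∈ P ⊔ D.R := by
    intro y hy
    obtain ⟨z, hzR, -, hz⟩ := D.conj_C_T c⁻¹ y (D.C.inv_mem hcC) (hP'T hy)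
    rw [inv_inv] at hz
    rw [hz]
    exact Subgroup.mul_mem _ ((le_sup_right : D.R ≤ P ⊔ D.R) hzR) hy
  -- `c_h` on `P ⊔ R` is a map of `F_T(H)`, hence of `E`
  have hhT : ∀ x : ↥(P ⊔ D.R), h * (x : G) * h⁻¹ ∈ D.T := by
    intro x
    have e : h * (x : G) * h⁻¹ = g' * (c⁻¹ * x * c) * g'⁻¹ := by rw [hheq]; group
    rw [e]
    exact hψT _ (hcP' x x.2)
  have hψ' : conjHom (P ⊔ D.R) h ∈ (Cfsg.fusionSystemOfSubgroup (D.H H₁) D.T hTH).Hom (P ⊔ D.R) :=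
    ⟨hP'T, hhT, h, hhH, fun x => rfl⟩
  have hψ'E : conjHom (P ⊔ D.R) h ∈ E.Hom (P ⊔ D.R) :=
    Cfsg.Agent.Lib.Helper6.NSubC4.fsos_le D E hE H₁ hH₁ hC hT hsyl hTH (P ⊔ D.R) hψ'
  -- the two maps agree on `R`
  have hagree : ∀ x : ↥(P ⊔ D.R), (x : G) ∈ D.R → conjHom (P ⊔ D.R) h x = ψ x := by
    intro x hx
    rw [hg' x]
    show h * (x : G) * h⁻¹ = _
    have h1 : (x : G) * c = c * (x : G) := (D.mem_C_iff c).mp hcC x hx
    have h2 : c⁻¹ * (x : G) * c = x := by rw [mul_assoc, h1]; group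
    have e : h * (x : G) * h⁻¹ = g' * (c⁻¹ * x * c) * g'⁻¹ := by rw [hheq]; group
    rw [e, h2]
  have hPN : P ⊔ D.R ≤ Subgroup.normalizer (D.R : Set G) := by
    rw [Subgroup.normalizer_eq_top]; exact le_top
  obtain ⟨z, hzR, -, hz⟩ := fs_maps_agree_centric_normal p hS E (isSaturated hE)
    (le_sup_right : D.R ≤ P ⊔ D.R) hPN hRc hψ'E hψ hagree
  refine ⟨hPT, fun x => (E.le_of_mem hφ).2 x, h * (z : G),
    (D.H H₁).mul_mem hhH (hTH (D.R_le_T hzR)), fun x => ?_⟩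
  rw [← hψφ x, hz]
  show h * ((z : G) * (x : G) * (z : G)⁻¹) * h⁻¹ = _
  group

end C'

end Cfsg.Agent.Lib.Helper4.NSubC5
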