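import Mathlib
import Cfsg.Agent.Lib.Helper8.SmTwoB

set_option autoImplicit false

/-! S1904 (nonabelian `2`-groups without normal `E8`, with a group of odd-order automorphisms `A`,
`[X, A] = X`): definitions and basic lemmas. Everything lives inside one ambient group `G`
(in the application `G = X ⋊ A`). -/

namespace Cfsg.Agent.Lib.Helper4.Ngp

open Cfsg.Agent.Lib.Helper8.SmTwo

universe u

variable {G : Type u} [Group G]

/-- (N): every elementary abelian subgroup of `X` normalized by `X` has order at most `4` -/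
def NoNormalE8 (X : Subgroup G) : Prop :=
  ∀ E : Subgroup G, E ≤ X → X ≤ Subgroup.normalizer (E : Set G) → (∀ e ∈ E, e ^ 2 = 1) →
    Nat.card E ≤ 4

/-- the standing hypotheses of S1904, internal form -/
structure Hyp (X A : Subgroup G) : Prop where
  hX : IsPGroup 2 X
  hodd : Odd (Nat.card A)
  hAX : A ≤ Subgroup.normalizer (X : Set G)
  hfaith : A ⊓ Subgroup.centralizer (X : Set G) = ⊥
  hcomm : ⁅X, A⁆ = X
  hN : NoNormalE8 X
  hna : ¬ IsAb X

/-- `K` is a subgroup of `X` normalized by `X` and by `A` -/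
def Inv (X A K : Subgroup G) : Prop :=
  K ≤ X ∧ X ≤ Subgroup.normalizer (K : Set G) ∧ A ≤ Subgroup.normalizer (K : Set G)

/-- `U` is maximal among the abelian subgroups of `X` normalized by `X` and `A` -/
def IsMaxInvAb (X A U : Subgroup G) : Prop :=
  Inv X A U ∧ IsAb U ∧ ∀ K : Subgroup G, Inv X A K → IsAb K → U ≤ K → K = U

/-- `Ω_j(U)`: generated by the elements of `U` of order dividing `2 ^ j` -/
def om (U : Subgroup G) (j : ℕ) : Subgroup G :=
  Subgroup.closure {u : G | u ∈ U ∧ u ^ (2 ^ j) = 1}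

/-- `℧^j(U)`: generated by the `2 ^ j`-th powers of the elements of `U` -/
def pw (U : Subgroup G) (j : ℕ) : Subgroup G :=
  Subgroup.closure {g : G | ∃ u ∈ U, g = u ^ (2 ^ j)}

theorem om_le (U : Subgroup G) (j : ℕ) : om U j ≤ U := by
  rw [om, Subgroup.closure_le]
  intro u hu
  exact hu.1

theorem pw_le (U : Subgroup G) (j : ℕ) : pw U j ≤ U := by
  rw [pw, Subgroup.closure_le]
  rintro _ ⟨u, hu, rfl⟩
  exact U.pow_mem hu _

theorem IsAb.mono {U K : Subgroup G} (h : IsAb U) (hK : K ≤ U) : IsAb K :=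
  fun a ha b hb => h a (hK ha) b (hK hb)

theorem mem_om {U : Subgroup G} (hab : IsAb U) (j : ℕ) (g : G) :
    g ∈ om U j ↔ g ∈ U ∧ g ^ (2 ^ j) = 1 := by
  constructor
  · intro hg
    refine ⟨om_le U j hg, ?_⟩
    have hgU := om_le U j hg
    rw [om] at hg
    induction hg using Subgroup.closure_induction with
    | mem x hx => exact hx.2
    | one => exact one_pow _
    | mul x y hx hy ihx ihy =>
      have hxU : x ∈ U := om_le U j hx
      have hyU : y ∈ U := om_le U j hy
      have hc : Commute x y := hab x hxU y hyU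
      rw [hc.mul_pow, ihx hxU, ihy hyU, one_mul]
    | inv x hx ihx =>
      rw [inv_pow, ihx (om_le U j hx), inv_one]
  · intro hg
    exact Subgroup.subset_closure hg

theorem mem_pw {U : Subgroup G} (hab : IsAb U) (j : ℕ) (g : G) :
    g ∈ pw U j ↔ ∃ u ∈ U, g = u ^ (2 ^ j) := by
  constructor
  · intro hg
    rw [pw] at hg
    induction hg using Subgroup.closure_induction with
    | mem x hx => exact hx
    | one => exact ⟨1, U.one_mem, (one_pow _).symm⟩
    | mul x y _ _ ihx ihy =>
      obtain ⟨u, hu, rfl⟩ := ihx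
      obtain ⟨v, hv, rfl⟩ := ihy
      have hc : Commute u v := hab u hu v hv
      exact ⟨u * v, U.mul_mem hu hv, (hc.mul_pow _).symm⟩
    | inv x _ ihx =>
      obtain ⟨u, hu, rfl⟩ := ihx
      exact ⟨u⁻¹, U.inv_mem hu, (inv_pow _ _).symm⟩
  · rintro ⟨u, hu, rfl⟩
    exact Subgroup.subset_closure ⟨u, hu, rfl⟩

/-- conjugation by an element normalizing `U` preserves `U` -/
theorem conj_mem_of_mem_normalizer {U : Subgroup G} {g : G}
    (hg : g ∈ Subgroup.normalizer (U : Set G)) {u : G} (hu : u ∈ U) : g * u * g⁻¹ ∈ U :=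
  (Subgroup.mem_normalizer_iff.mp hg u).mp hu

theorem conj_inv_mem_of_mem_normalizer {U : Subgroup G} {g : G}
    (hg : g ∈ Subgroup.normalizer (U : Set G)) {u : G} (hu : u ∈ U) : g⁻¹ * u * g ∈ U := by
  have := conj_mem_of_mem_normalizer (Subgroup.inv_mem _ hg) hu
  simpa using this

/-- a criterion for membership in the normalizer -/
theorem mem_normalizer_of_conj_mem {K : Subgroup G} {g : G}
    (h1 : ∀ k ∈ K, g * k * g⁻¹ ∈ K) (h2 : ∀ k ∈ K, g⁻¹ * k * g ∈ K) :
    g ∈ Subgroup.normalizer (K : Set G) := by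
  rw [Subgroup.mem_normalizer_iff]
  intro k
  refine ⟨h1 k, fun hk => ?_⟩
  have := h2 _ hk
  have e : g⁻¹ * (g * k * g⁻¹) * g = k := by group
  rwa [e] at this

theorem normalizer_le_normalizer_om (U : Subgroup G) (j : ℕ) :
    Subgroup.normalizer (U : Set G) ≤ Subgroup.normalizer (om U j : Set G) := by
  intro g hg
  have key : ∀ g : G, g ∈ Subgroup.normalizer (U : Set G) → ∀ k ∈ om U j, g * k * g⁻¹ ∈ om U j := by
    intro g hg k hk
    rw [om] at hk ⊢
    induction hk using Subgroup.closure_induction with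
    | mem x hx =>
      refine Subgroup.subset_closure ⟨conj_mem_of_mem_normalizer hg hx.1, ?_⟩
      rw [conj_pow, hx.2, mul_one, mul_inv_cancel]
    | one => simp
    | mul x y _ _ ihx ihy =>
      have e : g * (x * y) * g⁻¹ = (g * x * g⁻¹) * (g * y * g⁻¹) := by group
      rw [e]; exact Subgroup.mul_mem _ ihx ihy
    | inv x _ ihx =>
      have e : g * x⁻¹ * g⁻¹ = (g * x * g⁻¹)⁻¹ := by group
      rw [e]; exact Subgroup.inv_mem _ ihx
  refine mem_normalizer_of_conj_mem (key g hg) (fun k hk => ?_)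
  have := key g⁻¹ (Subgroup.inv_mem _ hg) k hk
  simpa using this

theorem normalizer_le_normalizer_pw (U : Subgroup G) (j : ℕ) :
    Subgroup.normalizer (U : Set G) ≤ Subgroup.normalizer (pw U j : Set G) := by
  intro g hg
  have key : ∀ g : G, g ∈ Subgroup.normalizer (U : Set G) → ∀ k ∈ pw U j, g * k * g⁻¹ ∈ pw U j := by
    intro g hg k hk
    rw [pw] at hk ⊢
    induction hk using Subgroup.closure_induction with
    | mem x hx =>
      obtain ⟨u, hu, rfl⟩ := hx
      refine Subgroup.subset_closure ⟨g * u * g⁻¹, conj_mem_of_mem_normalizer hg hu, ?_⟩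
      rw [conj_pow]
    | one => simp
    | mul x y _ _ ihx ihy =>
      have e : g * (x * y) * g⁻¹ = (g * x * g⁻¹) * (g * y * g⁻¹) := by group
      rw [e]; exact Subgroup.mul_mem _ ihx ihy
    | inv x _ ihx =>
      have e : g * x⁻¹ * g⁻¹ = (g * x * g⁻¹)⁻¹ := by group
      rw [e]; exact Subgroup.inv_mem _ ihx
  refine mem_normalizer_of_conj_mem (key g hg) (fun k hk => ?_)
  have := key g⁻¹ (Subgroup.inv_mem _ hg) k hk
  simpa using this

theorem Inv.om {X A U : Subgroup G} (h : Inv X A U) (j : ℕ) : Inv X A (om U j) :=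
  ⟨(om_le U j).trans h.1, h.2.1.trans (normalizer_le_normalizer_om U j),
    h.2.2.trans (normalizer_le_normalizer_om U j)⟩

theorem Inv.pw {X A U : Subgroup G} (h : Inv X A U) (j : ℕ) : Inv X A (pw U j) :=
  ⟨(pw_le U j).trans h.1, h.2.1.trans (normalizer_le_normalizer_pw U j),
    h.2.2.trans (normalizer_le_normalizer_pw U j)⟩

/-- `|Ω_j(U)| · |℧^j(U)| = |U|` for abelian `U` -/
theorem card_om_mul_card_pw [Finite G] {U : Subgroup G} (hab : IsAb U) (j : ℕ) :
    Nat.card (om U j) * Nat.card (pw U j) = Nat.card U := by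
  have : IsMulCommutative U := ⟨⟨fun a b => Subtype.ext (hab a a.2 b b.2)⟩⟩
  let _ : CommGroup U := { (inferInstance : Group U) with mul_comm := fun a b => Subtype.ext (hab a a.2 b b.2) }
  let f : U →* U := powMonoidHom (2 ^ j)
  have h1 := Subgroup.card_eq_card_quotient_mul_card_subgroup f.ker
  have h2 : Nat.card (U ⧸ f.ker) = Nat.card f.range :=
    Nat.card_congr (QuotientGroup.quotientKerEquivRange f).toEquiv
  have h3 : Nat.card f.ker = Nat.card (om U j) := by
    have : f.ker.map U.subtype = om U j := by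
      ext g
      rw [mem_om hab]
      constructor
      · rintro ⟨u, hu, rfl⟩
        refine ⟨u.2, ?_⟩
        have : u ^ (2 ^ j) = 1 := hu
        simpa using congrArg Subtype.val this
      · rintro ⟨hgU, hg⟩
        refine ⟨⟨g, hgU⟩, ?_, rfl⟩
        show (⟨g, hgU⟩ : U) ^ (2 ^ j) = 1
        exact Subtype.ext (by simpa using hg)
    rw [← this, Subgroup.card_map_of_injective U.subtype_injective]
  have h4 : Nat.card f.range = Nat.card (pw U j) := by
    have : f.range.map U.subtype = pw U j := by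
      ext g
      rw [mem_pw hab]
      constructor
      · rintro ⟨_, ⟨u, rfl⟩, rfl⟩
        exact ⟨u, u.2, by simp [f]⟩
      · rintro ⟨u, hu, rfl⟩
        exact ⟨f ⟨u, hu⟩, ⟨⟨u, hu⟩, rfl⟩, by simp [f]⟩
    rw [← this, Subgroup.card_map_of_injective U.subtype_injective]
  rw [h1, h2, h3, h4, mul_comm]

/-- the conclusions of Lemma L (package NL) for an invariant abelian subgroup `U` on which `A`
acts nontrivially -/
structure LData (X A U : Subgroup G) : Prop where
  v4 : IsV4 (om U 1)
  fix : U ⊓ Subgroup.centralizer (A : Set G) = ⊥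
  min : ∀ K : Subgroup G, K ≤ U → A ≤ Subgroup.normalizer (K : Set G) → K ≠ ⊥ → om U 1 ≤ K
  cent : X ≤ Subgroup.centralizer (om U 1 : Set G)
  faith : ∀ a ∈ A, a ∈ Subgroup.centralizer (om U 1 : Set G) →
    a ∈ Subgroup.centralizer (U : Set G)

end Cfsg.Agent.Lib.Helper4.Ngp
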