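import Mathlib

set_option autoImplicit false

/-! Weight spaces of a normal subgroup whose image under a representation is commutative. -/

namespace Cfsg.Agent.Lib.Helper4.FM

open Module

section wt

variable {K : Type*} [Field K] {G : Type*} [Group G] {V : Type*} [AddCommGroup V] [Module K V]
  (ρ : Representation K G V) (M : Subgroup G)

/-- the simultaneous eigenspace of the elements of `M` for the family of eigenvalues `χ`. -/
def wt (χ : M → K) : Submodule K V := ⨅ m : M, Module.End.eigenspace (ρ (m : G)) (χ m)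

theorem mem_wt (χ : M → K) (v : V) : v ∈ wt ρ M χ ↔ ∀ m : M, ρ (m : G) v = χ m • v := by
  unfold wt
  rw [Submodule.mem_iInf]
  constructor
  · intro h m
    exact Module.End.mem_eigenspace_iff.1 (h m)
  · intro h m
    exact Module.End.mem_eigenspace_iff.2 (h m)

/-- conjugate of a family of eigenvalues. -/
def conjWt [hn : M.Normal] (g : G) (χ : M → K) : M → K :=
  fun m => χ ⟨g⁻¹ * (m : G) * g, by
    have := hn.conj_mem (m : G) m.2 g⁻¹
    rwa [inv_inv] at this⟩

theorem conjWt_apply [hn : M.Normal] (g : G) (χ : M → K) (m : M) (h : g⁻¹ * (m : G) * g ∈ M) :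
    conjWt M g χ m = χ ⟨g⁻¹ * (m : G) * g, h⟩ := rfl

theorem conjWt_one [M.Normal] (χ : M → K) : conjWt M (1 : G) χ = χ := by
  funext m
  unfold conjWt
  congr 1
  apply Subtype.ext
  simp

theorem conjWt_mul [M.Normal] (g h : G) (χ : M → K) :
    conjWt M (g * h) χ = conjWt M g (conjWt M h χ) := by
  funext m
  unfold conjWt
  congr 1
  apply Subtype.ext
  simp only [mul_inv_rev]
  group

theorem conjWt_injective [M.Normal] (g : G) : Function.Injective (conjWt (K := K) M g) := by
  intro χ ψ h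
  have := congrArg (conjWt M g⁻¹) h
  rwa [← conjWt_mul, ← conjWt_mul, inv_mul_cancel, conjWt_one, conjWt_one] at this

theorem map_mem_wt [M.Normal] (g : G) (χ : M → K) (v : V) (hv : v ∈ wt ρ M χ) :
    ρ g v ∈ wt ρ M (conjWt M g χ) := by
  rw [mem_wt] at hv ⊢
  intro m
  have h1 : ρ (m : G) (ρ g v) = ρ g (ρ (g⁻¹ * (m : G) * g) v) := by
    rw [← Module.End.mul_apply, ← Module.End.mul_apply, ← map_mul, ← map_mul]
    congr 2
    group
  rw [h1]
  have hmem : g⁻¹ * (m : G) * g ∈ M := by
    have := ‹M.Normal›.conj_mem (m : G) m.2 g⁻¹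
    rwa [inv_inv] at this
  have h2 := hv ⟨g⁻¹ * (m : G) * g, hmem⟩
  rw [h2, map_smul]
  rfl

theorem mem_wt_of_map_mem [M.Normal] (g : G) (χ : M → K) (v : V)
    (hv : ρ g v ∈ wt ρ M (conjWt M g χ)) : v ∈ wt ρ M χ := by
  have h := map_mem_wt ρ M g⁻¹ _ _ hv
  rw [← conjWt_mul, inv_mul_cancel, conjWt_one, ← Module.End.mul_apply, ← map_mul,
    inv_mul_cancel, map_one, Module.End.one_apply] at h
  exact h

theorem wt_ne_bot_conj [M.Normal] (g : G) (χ : M → K) (h : wt ρ M χ ≠ ⊥) :
    wt ρ M (conjWt M g χ) ≠ ⊥ := by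
  rw [Ne, Submodule.eq_bot_iff] at h ⊢
  push Not at h ⊢
  obtain ⟨v, hv, hv0⟩ := h
  refine ⟨ρ g v, map_mem_wt ρ M g χ v hv, ?_⟩
  intro h0
  apply hv0
  have : ρ g⁻¹ (ρ g v) = 0 := by rw [h0, map_zero]
  rwa [← Module.End.mul_apply, ← map_mul, inv_mul_cancel, map_one, Module.End.one_apply] at this

end wt

section span

variable {K : Type*} [Field K] {G : Type*} [Group G] {V : Type*} [AddCommGroup V] [Module K V]
  (ρ : Representation K G V) (M : Subgroup G)

theorem wt_le_maxGen (χ : M → K) :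
    wt ρ M χ ≤ ⨅ m : M, Module.End.maxGenEigenspace (ρ (m : G)) (χ m) := by
  unfold wt
  apply iInf_mono
  intro m
  exact Module.End.eigenspace_le_maxGenEigenspace

theorem iSupIndep_wt (hcomm : ∀ a b : M, Commute (ρ (a : G)) (ρ (b : G))) :
    iSupIndep (wt ρ M) := by
  have h := Module.End.independent_iInf_maxGenEigenspace_of_forall_mapsTo
    (fun m : M => ρ (m : G))
    (fun i j φ => Module.End.mapsTo_maxGenEigenspace_of_comm (hcomm j i) φ)
  exact h.mono (fun χ => wt_le_maxGen ρ M χ)

theorem isSemisimple_of_pow [FiniteDimensional K V] (g : G) (n : ℕ) (hn : (n : K) ≠ 0)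
    (hg : g ^ n = 1) : Module.End.IsSemisimple (ρ g) := by
  apply Module.End.isSemisimple_of_squarefree_aeval_eq_zero
    (p := Polynomial.X ^ n - Polynomial.C (1 : K))
  · exact (Polynomial.separable_X_pow_sub_C (1 : K) hn one_ne_zero).squarefree
  · rw [map_sub, map_pow, Polynomial.aeval_X, Polynomial.aeval_C, ← map_pow, hg, map_one, map_one,
      sub_self]

theorem iSup_wt_eq_top [IsAlgClosed K] [FiniteDimensional K V] [Finite M]
    (hcomm : ∀ a b : M, Commute (ρ (a : G)) (ρ (b : G))) (hM : (Nat.card M : K) ≠ 0) :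
    ⨆ χ : M → K, wt ρ M χ = ⊤ := by
  have h := Module.End.iSup_iInf_maxGenEigenspace_eq_top_of_iSup_maxGenEigenspace_eq_top_of_commute
    (fun m : M => ρ (m : G)) (fun i j _ => hcomm i j)
    (fun m => Module.End.iSup_maxGenEigenspace_eq_top _)
  have hss : ∀ m : M, Module.End.IsFinitelySemisimple (ρ (m : G)) := by
    intro m
    apply Module.End.IsSemisimple.isFinitelySemisimple
    apply isSemisimple_of_pow ρ (m : G) (Nat.card M) hM
    have : m ^ Nat.card M = 1 := pow_card_eq_one'
    have h2 := congrArg (Subtype.val) this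
    rwa [Subgroup.coe_pow] at h2
  rw [← h]
  congr 1
  funext χ
  unfold wt
  congr 1
  funext m
  rw [(hss m).maxGenEigenspace_eq_eigenspace]

end span

end Cfsg.Agent.Lib.Helper4.FM
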