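import Mathlib
import Cfsg.Agent.Lib.Helper4.FM1

set_option autoImplicit false

/-! Free permutation of weight spaces by a subgroup: dimension count. -/

namespace Cfsg.Agent.Lib.Helper4.FM

open Module

section inv

variable {K : Type*} [Field K] {G : Type*} [Group G] {V : Type*} [AddCommGroup V] [Module K V]
  (ρ : Representation K G V)

/-- the fixed points of a subgroup. -/
def inv (S : Subgroup G) : Submodule K V where
  carrier := {v | ∀ s ∈ S, ρ s v = v}
  add_mem' := by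
    intro a b ha hb s hs
    rw [map_add, ha s hs, hb s hs]
  zero_mem' := by
    intro s _
    rw [map_zero]
  smul_mem' := by
    intro c a ha s hs
    rw [map_smul, ha s hs]

theorem mem_inv (S : Subgroup G) (v : V) : v ∈ inv ρ S ↔ ∀ s ∈ S, ρ s v = v := Iff.rfl

theorem inv_anti {S T : Subgroup G} (h : S ≤ T) : inv ρ T ≤ inv ρ S := fun _ hv s hs => hv s (h hs)

theorem rho_inv_cancel (g : G) (v : V) : ρ g (ρ g⁻¹ v) = v := by
  rw [← Module.End.mul_apply, ← map_mul, mul_inv_cancel, map_one, Module.End.one_apply]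

theorem rho_inv_cancel' (g : G) (v : V) : ρ g⁻¹ (ρ g v) = v := by
  rw [← Module.End.mul_apply, ← map_mul, inv_mul_cancel, map_one, Module.End.one_apply]

theorem rho_mul_apply (g h : G) (v : V) : ρ (g * h) v = ρ g (ρ h v) := by
  rw [map_mul, Module.End.mul_apply]

end inv

section abstract

variable {K : Type*} [Field K] {G : Type*} [Group G] {V : Type*} [AddCommGroup V] [Module K V]
  (ρ : Representation K G V) (E : Subgroup G) [Fintype E] (W : Submodule K V) (P : V →ₗ[K] V)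

theorem proj_sum (hP1 : ∀ w ∈ W, P w = w)
    (hP3 : ∀ e ∈ E, e ≠ 1 → ∀ w ∈ W, P (ρ e w) = 0) (w : E → W) (f : E) :
    P (ρ (f : G)⁻¹ (∑ e : E, ρ (e : G) (w e : V))) = (w f : V) := by
  rw [map_sum, map_sum]
  rw [Finset.sum_eq_single f]
  · rw [rho_inv_cancel']
    exact hP1 _ (w f).2
  · intro e _ hef
    rw [← rho_mul_apply]
    apply hP3 _ (E.mul_mem (E.inv_mem f.2) e.2) _ _ (w e).2
    intro h
    apply hef
    apply Subtype.ext
    have := eq_of_inv_mul_eq_one h
    exact this.symm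
  · intro h
    exact absurd (Finset.mem_univ f) h

/-- the linear equivalence `(E → W) ≃ V`. -/
noncomputable def sumEquiv (hP1 : ∀ w ∈ W, P w = w) (hP2 : ∀ v, P v ∈ W)
    (hP3 : ∀ e ∈ E, e ≠ 1 → ∀ w ∈ W, P (ρ e w) = 0)
    (hP4 : ∀ v, ∑ e : E, ρ (e : G) (P (ρ (e : G)⁻¹ v)) = v) : (E → W) ≃ₗ[K] V where
  toFun w := ∑ e : E, ρ (e : G) (w e : V)
  map_add' := by
    intro a b
    rw [← Finset.sum_add_distrib]
    apply Finset.sum_congr rfl
    intro e _
    rw [Pi.add_apply, Submodule.coe_add, map_add]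
  map_smul' := by
    intro c a
    rw [RingHom.id_apply, Finset.smul_sum]
    apply Finset.sum_congr rfl
    intro e _
    rw [Pi.smul_apply, Submodule.coe_smul, map_smul]
  invFun v := fun e => ⟨P (ρ (e : G)⁻¹ v), hP2 _⟩
  left_inv := by
    intro w
    funext f
    apply Subtype.ext
    exact proj_sum ρ E W P hP1 hP3 w f
  right_inv := by
    intro v
    exact hP4 v

theorem finrank_eq_of_proj [FiniteDimensional K V] (hP1 : ∀ w ∈ W, P w = w) (hP2 : ∀ v, P v ∈ W)
    (hP3 : ∀ e ∈ E, e ≠ 1 → ∀ w ∈ W, P (ρ e w) = 0)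
    (hP4 : ∀ v, ∑ e : E, ρ (e : G) (P (ρ (e : G)⁻¹ v)) = v) :
    finrank K V = Nat.card E * finrank K W := by
  rw [← (sumEquiv ρ E W P hP1 hP2 hP3 hP4).finrank_eq, Module.finrank_pi_fintype,
    Finset.sum_const, Finset.card_univ, smul_eq_mul, Nat.card_eq_fintype_card]

/-- the linear equivalence `inv E ≃ W`. -/
noncomputable def invEquiv (hP1 : ∀ w ∈ W, P w = w) (hP2 : ∀ v, P v ∈ W)
    (hP3 : ∀ e ∈ E, e ≠ 1 → ∀ w ∈ W, P (ρ e w) = 0)
    (hP4 : ∀ v, ∑ e : E, ρ (e : G) (P (ρ (e : G)⁻¹ v)) = v) : inv ρ E ≃ₗ[K] W where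
  toFun v := ⟨P (v : V), hP2 _⟩
  map_add' := by
    intro a b
    apply Subtype.ext
    simp
  map_smul' := by
    intro c a
    apply Subtype.ext
    simp
  invFun w := ⟨∑ e : E, ρ (e : G) (w : V), by
    intro s hs
    rw [map_sum]
    apply Fintype.sum_equiv (Equiv.mulLeft (⟨s, hs⟩ : E))
    intro e
    rw [← rho_mul_apply]
    rfl⟩
  left_inv := by
    intro v
    apply Subtype.ext
    show ∑ e : E, ρ (e : G) (P (v : V)) = v
    conv_rhs => rw [← hP4 (v : V)]
    apply Finset.sum_congr rfl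
    intro e _
    rw [v.2 _ (E.inv_mem e.2)]
  right_inv := by
    intro w
    apply Subtype.ext
    show P (∑ e : E, ρ (e : G) (w : V)) = w
    have h := proj_sum ρ E W P hP1 hP3 (fun _ => w) ⟨1, E.one_mem⟩
    simpa using h

theorem finrank_inv_of_proj [FiniteDimensional K V] (hP1 : ∀ w ∈ W, P w = w) (hP2 : ∀ v, P v ∈ W)
    (hP3 : ∀ e ∈ E, e ≠ 1 → ∀ w ∈ W, P (ρ e w) = 0)
    (hP4 : ∀ v, ∑ e : E, ρ (e : G) (P (ρ (e : G)⁻¹ v)) = v) :
    finrank K (inv ρ E) = finrank K W :=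
  (invEquiv ρ E W P hP1 hP2 hP3 hP4).finrank_eq

end abstract

end Cfsg.Agent.Lib.Helper4.FM
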