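import Mathlib
import Cfsg.Agent.Lib.Helper4.FM2

set_option autoImplicit false

/-! Free permutation of weight spaces: transversal and projection. -/

namespace Cfsg.Agent.Lib.Helper4.FM

open Module

section trans

variable {K : Type*} [Field K] {G : Type*} [Group G]
  (M : Subgroup G) [M.Normal] (E : Subgroup G)

/-- the orbit relation on families of eigenvalues. -/
def wrel : Setoid (M → K) where
  r χ ψ := ∃ e ∈ E, conjWt M e χ = ψ
  iseqv := ⟨fun χ => ⟨1, E.one_mem, conjWt_one M χ⟩,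
    fun ⟨e, he, h⟩ => ⟨e⁻¹, E.inv_mem he, by rw [← h, ← conjWt_mul, inv_mul_cancel, conjWt_one]⟩,
    fun ⟨e, he, h⟩ ⟨f, hf, h'⟩ => ⟨f * e, E.mul_mem hf he, by rw [conjWt_mul, h, h']⟩⟩

/-- a transversal of the orbits. -/
def wtrans : Set (M → K) := {χ | (Quotient.mk (wrel (K := K) M E) χ).out = χ}

theorem exists_wtrans (χ : M → K) : ∃ τ ∈ wtrans (K := K) M E, ∃ e ∈ E, conjWt M e τ = χ := by
  refine ⟨(Quotient.mk (wrel (K := K) M E) χ).out, ?_, ?_⟩
  · show (Quotient.mk (wrel (K := K) M E) (Quotient.mk (wrel (K := K) M E) χ).out).out = _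
    rw [Quotient.out_eq]
  · exact Quotient.exact (Quotient.out_eq (Quotient.mk (wrel (K := K) M E) χ))

theorem wtrans_unique (τ : M → K) (hτ : τ ∈ wtrans (K := K) M E) (e : G) (he : e ∈ E)
    (h : conjWt M e τ ∈ wtrans (K := K) M E) : conjWt M e τ = τ := by
  have h1 : Quotient.mk (wrel (K := K) M E) τ = Quotient.mk (wrel (K := K) M E) (conjWt M e τ) :=
    Quotient.sound ⟨e, he, rfl⟩
  have h2 : (Quotient.mk (wrel (K := K) M E) (conjWt M e τ)).out = conjWt M e τ := h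
  have h3 : (Quotient.mk (wrel (K := K) M E) τ).out = τ := hτ
  rw [← h2, ← h1, h3]

end trans

section proj

variable {K : Type*} [Field K] {G : Type*} [Group G] {V : Type*} [AddCommGroup V] [Module K V]
  (ρ : Representation K G V) (M : Subgroup G) [M.Normal] (E : Subgroup G)

/-- the sum of the weight spaces in the transversal. -/
def wsum : Submodule K V := ⨆ τ ∈ wtrans (K := K) M E, wt ρ M τ

/-- the sum of the weight spaces not in the transversal. -/
def wsumc : Submodule K V := ⨆ τ ∈ (wtrans (K := K) M E)ᶜ, wt ρ M τ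

theorem isCompl_wsum (hindep : iSupIndep (wt ρ M)) (hspan : ⨆ χ : M → K, wt ρ M χ = ⊤) :
    IsCompl (wsum ρ M E) (wsumc ρ M E) := by
  constructor
  · exact hindep.disjoint_biSup_biSup disjoint_compl_right
  · rw [codisjoint_iff, ← hspan]
    exact (iSup_split (wt ρ M) (fun χ => χ ∈ wtrans (K := K) M E)).symm

theorem wt_le_wsum (τ : M → K) (hτ : τ ∈ wtrans (K := K) M E) : wt ρ M τ ≤ wsum ρ M E :=
  le_biSup (wt ρ M) hτ

theorem wt_le_wsumc (τ : M → K) (hτ : τ ∉ wtrans (K := K) M E) : wt ρ M τ ≤ wsumc ρ M E :=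
  le_biSup (wt ρ M) (show τ ∈ (wtrans (K := K) M E)ᶜ from hτ)

theorem map_wsum_le (hfree : ∀ e ∈ E, e ≠ 1 → ∀ χ : M → K, wt ρ M χ ≠ ⊥ → conjWt M e χ ≠ χ)
    (e : G) (he : e ∈ E) (he1 : e ≠ 1) : wsum ρ M E ≤ (wsumc ρ M E).comap (ρ e) := by
  unfold wsum
  apply iSup₂_le
  intro τ hτ
  by_cases hb : wt ρ M τ = ⊥
  · rw [hb]
    exact bot_le
  · intro v hv
    rw [Submodule.mem_comap]
    apply wt_le_wsumc ρ M E (conjWt M e τ) _ (map_mem_wt ρ M e τ v hv)
    intro hmem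
    exact hfree e he he1 τ hb (wtrans_unique M E τ hτ e he hmem)

/-- the projection onto `wsum` along `wsumc`. -/
noncomputable def wproj (hindep : iSupIndep (wt ρ M)) (hspan : ⨆ χ : M → K, wt ρ M χ = ⊤) :
    V →ₗ[K] V :=
  (wsum ρ M E).subtype ∘ₗ ((wsum ρ M E).projectionOnto (wsumc ρ M E)
    (isCompl_wsum ρ M E hindep hspan))

theorem wproj_mem (hindep : iSupIndep (wt ρ M)) (hspan : ⨆ χ : M → K, wt ρ M χ = ⊤) (v : V) :
    wproj ρ M E hindep hspan v ∈ wsum ρ M E := by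
  unfold wproj
  rw [LinearMap.comp_apply]
  exact Submodule.coe_mem _

theorem wproj_of_mem (hindep : iSupIndep (wt ρ M)) (hspan : ⨆ χ : M → K, wt ρ M χ = ⊤) (v : V)
    (hv : v ∈ wsum ρ M E) : wproj ρ M E hindep hspan v = v := by
  unfold wproj
  rw [LinearMap.comp_apply]
  rw [Submodule.projectionOnto_apply_of_mem_left (isCompl_wsum ρ M E hindep hspan) hv]
  rfl

theorem wproj_of_mem_c (hindep : iSupIndep (wt ρ M)) (hspan : ⨆ χ : M → K, wt ρ M χ = ⊤) (v : V)
    (hv : v ∈ wsumc ρ M E) : wproj ρ M E hindep hspan v = 0 := by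
  unfold wproj
  rw [LinearMap.comp_apply]
  rw [Submodule.projectionOnto_apply_of_mem_right (isCompl_wsum ρ M E hindep hspan) hv]
  rfl

theorem wproj_map (hindep : iSupIndep (wt ρ M)) (hspan : ⨆ χ : M → K, wt ρ M χ = ⊤)
    (hfree : ∀ e ∈ E, e ≠ 1 → ∀ χ : M → K, wt ρ M χ ≠ ⊥ → conjWt M e χ ≠ χ)
    (e : G) (he : e ∈ E) (he1 : e ≠ 1) (w : V) (hw : w ∈ wsum ρ M E) :
    wproj ρ M E hindep hspan (ρ e w) = 0 :=
  wproj_of_mem_c ρ M E hindep hspan _ (map_wsum_le ρ M E hfree e he he1 hw)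

theorem wproj_sum [Fintype E] (hindep : iSupIndep (wt ρ M)) (hspan : ⨆ χ : M → K, wt ρ M χ = ⊤)
    (hfree : ∀ e ∈ E, e ≠ 1 → ∀ χ : M → K, wt ρ M χ ≠ ⊥ → conjWt M e χ ≠ χ) (v : V) :
    ∑ e : E, ρ (e : G) (wproj ρ M E hindep hspan (ρ (e : G)⁻¹ v)) = v := by
  have hv : v ∈ ⨆ χ : M → K, wt ρ M χ := by
    rw [hspan]
    exact Submodule.mem_top
  induction hv using Submodule.iSup_induction' with
  | mem ψ x hx =>
    obtain ⟨τ, hτ, e₀, he₀, hψ⟩ := exists_wtrans (K := K) M E ψ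
    rw [Finset.sum_eq_single (⟨e₀, he₀⟩ : E)]
    · have h1 : ρ e₀⁻¹ x ∈ wt ρ M τ := by
        have := map_mem_wt ρ M e₀⁻¹ ψ x hx
        rwa [← hψ, ← conjWt_mul, inv_mul_cancel, conjWt_one] at this
      rw [wproj_of_mem ρ M E hindep hspan _ (wt_le_wsum ρ M E τ hτ h1), rho_inv_cancel]
    · intro e _ hne
      have h1 : ρ (e : G)⁻¹ x ∈ wt ρ M (conjWt M ((e : G)⁻¹ * e₀) τ) := by
        have := map_mem_wt ρ M (e : G)⁻¹ ψ x hx
        rwa [← hψ, ← conjWt_mul] at this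
      have hmem : (e : G)⁻¹ * e₀ ∈ E := E.mul_mem (E.inv_mem e.2) he₀
      have hne1 : (e : G)⁻¹ * e₀ ≠ 1 := by
        intro h
        apply hne
        apply Subtype.ext
        exact (eq_of_inv_mul_eq_one h)
      by_cases hb : wt ρ M (conjWt M ((e : G)⁻¹ * e₀) τ) = ⊥
      · rw [hb, Submodule.mem_bot] at h1
        rw [h1, map_zero, map_zero]
      · have hnt : conjWt M ((e : G)⁻¹ * e₀) τ ∉ wtrans (K := K) M E := by
          intro hmem'
          have heq := wtrans_unique M E τ hτ _ hmem hmem'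
          rw [heq] at hb
          exact hfree _ hmem hne1 τ hb heq
        rw [wproj_of_mem_c ρ M E hindep hspan _ (wt_le_wsumc ρ M E _ hnt h1), map_zero]
    · intro h
      exact absurd (Finset.mem_univ _) h
  | zero => simp
  | add x y _ _ hx hy =>
    simp only [map_add, Finset.sum_add_distrib]
    rw [hx, hy]

theorem finrank_eq_of_free [FiniteDimensional K V] [Finite E] (hindep : iSupIndep (wt ρ M))
    (hspan : ⨆ χ : M → K, wt ρ M χ = ⊤)
    (hfree : ∀ e ∈ E, e ≠ 1 → ∀ χ : M → K, wt ρ M χ ≠ ⊥ → conjWt M e χ ≠ χ) :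
    finrank K V = Nat.card E * finrank K (wsum ρ M E) ∧
      finrank K (inv ρ E) = finrank K (wsum ρ M E) := by
  letI : Fintype E := Fintype.ofFinite E
  exact ⟨finrank_eq_of_proj ρ E (wsum ρ M E) (wproj ρ M E hindep hspan)
      (wproj_of_mem ρ M E hindep hspan) (wproj_mem ρ M E hindep hspan)
      (wproj_map ρ M E hindep hspan hfree) (wproj_sum ρ M E hindep hspan hfree),
    finrank_inv_of_proj ρ E (wsum ρ M E) (wproj ρ M E hindep hspan)
      (wproj_of_mem ρ M E hindep hspan) (wproj_mem ρ M E hindep hspan)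
      (wproj_map ρ M E hindep hspan hfree) (wproj_sum ρ M E hindep hspan hfree)⟩

end proj

end Cfsg.Agent.Lib.Helper4.FM
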