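import Mathlib
import Cfsg.Agent.Lib.Helper4.FM3

set_option autoImplicit false

/-! The core case: a normal subgroup with commuting images and no fixed points, permuted by a
subgroup acting without fixed points. -/

namespace Cfsg.Agent.Lib.Helper4.FM

open Module

section core

variable {K : Type*} [Field K] {G : Type*} [Group G] {V : Type*} [AddCommGroup V] [Module K V]
  (ρ : Representation K G V) (M : Subgroup G) [hMn : M.Normal] (E : Subgroup G)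

theorem free_of_comm
    (hc : ∀ e ∈ E, e ≠ 1 → ∀ m ∈ M, ∃ m' ∈ M, m = m'⁻¹ * e⁻¹ * m' * e)
    (hinv : inv ρ M = ⊥) :
    ∀ e ∈ E, e ≠ 1 → ∀ χ : M → K, wt ρ M χ ≠ ⊥ → conjWt M e χ ≠ χ := by
  intro e he he1 χ hχ heq
  apply hχ
  rw [Submodule.eq_bot_iff]
  intro v hv
  have hvi : v ∈ inv ρ M := by
    intro m hm
    obtain ⟨m', hm', h⟩ := hc e he he1 m hm
    have hmem : e⁻¹ * m' * e ∈ M := by
      have := hMn.conj_mem m' hm' e⁻¹
      rwa [inv_inv] at this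
    have h1 : ρ (e⁻¹ * m' * e) v = ρ m' v := by
      have h4 := (mem_wt ρ M χ v).1 hv ⟨e⁻¹ * m' * e, hmem⟩
      have h2 := (mem_wt ρ M χ v).1 hv ⟨m', hm'⟩
      have h3 : conjWt M e χ ⟨m', hm'⟩ = χ ⟨e⁻¹ * m' * e, hmem⟩ := rfl
      rw [h4, h2, ← h3, heq]
    rw [h, show m'⁻¹ * e⁻¹ * m' * e = m'⁻¹ * (e⁻¹ * m' * e) by group, rho_mul_apply, h1,
      rho_inv_cancel']
  rw [hinv] at hvi
  exact (Submodule.mem_bot K).1 hvi

theorem core [IsAlgClosed K] [FiniteDimensional K V] [Finite M] [Finite E]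
    (hcomm : ∀ a b : M, Commute (ρ (a : G)) (ρ (b : G))) (hM : (Nat.card M : K) ≠ 0)
    (hc : ∀ e ∈ E, e ≠ 1 → ∀ m ∈ M, ∃ m' ∈ M, m = m'⁻¹ * e⁻¹ * m' * e)
    (hinv : inv ρ M = ⊥) :
    finrank K V = Nat.card E * finrank K (inv ρ E) := by
  have hindep := iSupIndep_wt ρ M hcomm
  have hspan := iSup_wt_eq_top ρ M hcomm hM
  obtain ⟨h1, h2⟩ := finrank_eq_of_free ρ M E hindep hspan (free_of_comm ρ M E hc hinv)
  rw [h1, h2]

theorem wt_stable (u : G) (hu : ∀ m : M, ρ (u⁻¹ * (m : G) * u) = ρ (m : G)) (χ : M → K) :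
    wt ρ M χ ≤ (wt ρ M χ).comap (ρ u) := by
  intro v hv
  rw [Submodule.mem_comap, mem_wt]
  intro m
  have h1 : ρ (m : G) (ρ u v) = ρ u (ρ (u⁻¹ * (m : G) * u) v) := by
    rw [← rho_mul_apply, ← rho_mul_apply]
    congr 2
    group
  rw [h1, hu m, (mem_wt ρ M χ v).1 hv m, map_smul]

theorem wsum_stable (u : G) (hu : ∀ m : M, ρ (u⁻¹ * (m : G) * u) = ρ (m : G)) :
    wsum ρ M E ≤ (wsum ρ M E).comap (ρ u) := by
  unfold wsum
  apply iSup₂_le
  intro τ hτ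
  refine le_trans (wt_stable ρ M u hu τ) ?_
  apply Submodule.comap_mono
  exact le_biSup (wt ρ M) hτ

theorem core_ab [IsAlgClosed K] [FiniteDimensional K V] [Finite M] [Finite E]
    (hcomm : ∀ a b : M, Commute (ρ (a : G)) (ρ (b : G))) (hM : (Nat.card M : K) ≠ 0)
    (hc : ∀ e ∈ E, e ≠ 1 → ∀ m ∈ M, ∃ m' ∈ M, m = m'⁻¹ * e⁻¹ * m' * e)
    (hinv : inv ρ M = ⊥) (U : Subgroup G)
    (hUE : ∀ e ∈ E, ∀ u ∈ U, e⁻¹ * u * e ∈ U)
    (hst : ∀ u ∈ U, ∀ m : M, ρ (u⁻¹ * (m : G) * u) = ρ (m : G))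
    (hone : finrank K (inv ρ E) ≤ 1) :
    ∀ a ∈ U, ∀ b ∈ U, Commute (ρ a) (ρ b) := by
  have hindep := iSupIndep_wt ρ M hcomm
  have hspan := iSup_wt_eq_top ρ M hcomm hM
  have hfree := free_of_comm ρ M E hc hinv
  obtain ⟨-, h2⟩ := finrank_eq_of_free ρ M E hindep hspan hfree
  rw [h2] at hone
  letI : Fintype E := Fintype.ofFinite E
  -- scalars
  obtain ⟨w₀, hw₀⟩ := finrank_le_one_iff.1 hone
  have hsc : ∀ u ∈ U, ∃ c : K, ∀ w ∈ wsum ρ M E, ρ u w = c • w := by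
    intro u hu
    have hmem : ρ u (w₀ : V) ∈ wsum ρ M E := wsum_stable ρ M E u (hst u hu) w₀.2
    obtain ⟨c, hc'⟩ := hw₀ ⟨ρ u (w₀ : V), hmem⟩
    have hc'' : c • (w₀ : V) = ρ u (w₀ : V) := congrArg Subtype.val hc'
    refine ⟨c, ?_⟩
    intro w hw
    obtain ⟨d, hd⟩ := hw₀ ⟨w, hw⟩
    have hd' : d • (w₀ : V) = w := congrArg Subtype.val hd
    rw [← hd', map_smul, ← hc'', smul_comm]
  intro a ha b hb
  apply LinearMap.ext
  intro x
  rw [Module.End.mul_apply, Module.End.mul_apply]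
  have hx := wproj_sum ρ M E hindep hspan hfree x
  have key : ∀ e : E, ∀ w ∈ wsum ρ M E,
      ρ a (ρ b (ρ (e : G) w)) = ρ b (ρ a (ρ (e : G) w)) := by
    intro e w hw
    have h1 : ∀ u : G, ρ u (ρ (e : G) w) = ρ (e : G) (ρ ((e : G)⁻¹ * u * e) w) := by
      intro u
      rw [← rho_mul_apply, ← rho_mul_apply]
      congr 2
      group
    obtain ⟨ca, hca⟩ := hsc _ (hUE e e.2 a ha)
    obtain ⟨cb, hcb⟩ := hsc _ (hUE e e.2 b hb)
    have hA : ρ a (ρ (e : G) w) = ca • ρ (e : G) w := by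
      rw [h1 a, hca w hw, map_smul]
    have hB : ρ b (ρ (e : G) w) = cb • ρ (e : G) w := by
      rw [h1 b, hcb w hw, map_smul]
    rw [hB, map_smul, hA, map_smul, hB, smul_comm]
  rw [← hx]
  simp only [map_sum]
  apply Finset.sum_congr rfl
  intro e _
  exact key e _ (wproj_mem ρ M E hindep hspan _)

end core

end Cfsg.Agent.Lib.Helper4.FM
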