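import Mathlib
import Cfsg.Agent.Lib.Helper4.FM4

set_option autoImplicit false

/-! Averaging over a normal subgroup, invariant complements, and additivity of fixed points. -/

namespace Cfsg.Agent.Lib.Helper4.FM

open Module

section avg

variable {K : Type*} [Field K] {G : Type*} [Group G] {V : Type*} [AddCommGroup V] [Module K V]
  (ρ : Representation K G V) (M : Subgroup G) [Fintype M]

/-- the sum of the operators of a subgroup. -/
noncomputable def avg : V →ₗ[K] V := ∑ m : M, ρ (m : G)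

theorem avg_apply (v : V) : avg ρ M v = ∑ m : M, ρ (m : G) v := by
  unfold avg
  rw [LinearMap.sum_apply]

theorem rho_avg [hMn : M.Normal] (g : G) (v : V) : ρ g (avg ρ M v) = avg ρ M (ρ g v) := by
  rw [avg_apply, avg_apply, map_sum]
  refine Fintype.sum_equiv (MulAut.conjNormal g : M ≃* M).toEquiv _ _ ?_
  intro m
  rw [← rho_mul_apply, ← rho_mul_apply]
  congr 2
  simp

theorem rho_avg_mem (m : G) (hm : m ∈ M) (v : V) : ρ m (avg ρ M v) = avg ρ M v := by
  rw [avg_apply, map_sum]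
  refine Fintype.sum_equiv (Equiv.mulLeft (⟨m, hm⟩ : M)) _ _ ?_
  intro x
  rw [← rho_mul_apply]
  rfl

theorem avg_mem_inv (v : V) : avg ρ M v ∈ inv ρ M := fun m hm => rho_avg_mem ρ M m hm v

theorem avg_of_inv (v : V) (hv : v ∈ inv ρ M) : avg ρ M v = (Nat.card M : K) • v := by
  rw [avg_apply]
  have h1 : ∀ m ∈ (Finset.univ : Finset M), ρ (m : G) v = v := fun m _ => hv (m : G) m.2
  rw [Finset.sum_congr rfl h1, Finset.sum_const, Finset.card_univ, Nat.card_eq_fintype_card,
    Nat.cast_smul_eq_nsmul]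

/-- the kernel of the averaging operator. -/
noncomputable def ycomp : Submodule K V := LinearMap.ker (avg ρ M)

omit [Fintype M] in
theorem inv_invariant [hMn : M.Normal] (g : G) : inv ρ M ≤ (inv ρ M).comap (ρ g) := by
  intro v hv
  rw [Submodule.mem_comap]
  intro m hm
  have h1 : ρ m (ρ g v) = ρ g (ρ (g⁻¹ * m * g) v) := by
    rw [← rho_mul_apply, ← rho_mul_apply]
    congr 2
    group
  have hmem : g⁻¹ * m * g ∈ M := by
    have := hMn.conj_mem m hm g⁻¹
    rwa [inv_inv] at this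
  rw [h1, hv _ hmem]

theorem ycomp_invariant [hMn : M.Normal] (g : G) : ycomp ρ M ≤ (ycomp ρ M).comap (ρ g) := by
  intro v hv
  rw [Submodule.mem_comap]
  unfold ycomp at hv ⊢
  rw [LinearMap.mem_ker] at hv ⊢
  rw [← rho_avg, hv, map_zero]

theorem isCompl_inv_ycomp (hM : (Nat.card M : K) ≠ 0) : IsCompl (inv ρ M) (ycomp ρ M) := by
  constructor
  · rw [Submodule.disjoint_def]
    intro v hv hv'
    unfold ycomp at hv'
    rw [LinearMap.mem_ker, avg_of_inv ρ M v hv] at hv'
    rcases smul_eq_zero.1 hv' with h | h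
    · exact absurd h hM
    · exact h
  · rw [codisjoint_iff, eq_top_iff]
    intro v _
    rw [Submodule.mem_sup]
    refine ⟨(Nat.card M : K)⁻¹ • avg ρ M v, Submodule.smul_mem _ _ (avg_mem_inv ρ M v),
      v - (Nat.card M : K)⁻¹ • avg ρ M v, ?_, by abel⟩
    unfold ycomp
    rw [LinearMap.mem_ker, map_sub, map_smul, avg_of_inv ρ M _ (avg_mem_inv ρ M v), smul_smul,
      inv_mul_cancel₀ hM, one_smul, sub_self]

end avg

section add

variable {K : Type*} [Field K] {G : Type*} [Group G] {V : Type*} [AddCommGroup V] [Module K V]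
  (ρ : Representation K G V)

theorem map_inv_sub (Z : Submodule K V) (hZ : ∀ g, Z ≤ Z.comap (ρ g)) (S : Subgroup G) :
    (inv (ρ.subrepresentation Z hZ) S).map Z.subtype = inv ρ S ⊓ Z := by
  ext v
  rw [Submodule.mem_map, Submodule.mem_inf]
  constructor
  · rintro ⟨z, hz, rfl⟩
    refine ⟨?_, z.2⟩
    intro s hs
    have := hz s hs
    exact congrArg Subtype.val this
  · rintro ⟨hv, hvZ⟩
    refine ⟨⟨v, hvZ⟩, ?_, rfl⟩
    intro s hs
    apply Subtype.ext
    exact hv s hs

theorem finrank_inv_sub [FiniteDimensional K V] (Z : Submodule K V) (hZ : ∀ g, Z ≤ Z.comap (ρ g))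
    (S : Subgroup G) :
    finrank K (inv (ρ.subrepresentation Z hZ) S) = finrank K ↥(inv ρ S ⊓ Z) := by
  rw [← map_inv_sub ρ Z hZ S, Submodule.finrank_map_subtype_eq]

theorem inv_eq_sup (Z Y : Submodule K V) (hZ : ∀ g, Z ≤ Z.comap (ρ g))
    (hY : ∀ g, Y ≤ Y.comap (ρ g)) (hc : IsCompl Z Y) (S : Subgroup G) :
    inv ρ S = (inv ρ S ⊓ Z) ⊔ (inv ρ S ⊓ Y) := by
  apply le_antisymm
  · intro v hv
    have hv' : v ∈ Z ⊔ Y := by
      rw [hc.sup_eq_top]
      exact Submodule.mem_top
    obtain ⟨z, hz, y, hy, rfl⟩ := Submodule.mem_sup.1 hv'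
    rw [Submodule.mem_sup]
    have key : ∀ s ∈ S, ρ s z = z ∧ ρ s y = y := by
      intro s hs
      have h1 := hv s hs
      rw [map_add] at h1
      have h2 : ρ s z - z = y - ρ s y := by
        rw [sub_eq_sub_iff_add_eq_add, h1, add_comm]
      have h3 : ρ s z - z ∈ Z ⊓ Y := by
        refine ⟨Z.sub_mem (hZ s hz) hz, ?_⟩
        rw [h2]
        exact Y.sub_mem hy (hY s hy)
      rw [hc.inf_eq_bot, Submodule.mem_bot] at h3
      refine ⟨sub_eq_zero.1 h3, ?_⟩
      rw [h3] at h2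
      exact (sub_eq_zero.1 h2.symm).symm
    exact ⟨z, ⟨fun s hs => (key s hs).1, hz⟩, y, ⟨fun s hs => (key s hs).2, hy⟩, rfl⟩
  · exact sup_le inf_le_left inf_le_left

theorem finrank_inv_add [FiniteDimensional K V] (Z Y : Submodule K V)
    (hZ : ∀ g, Z ≤ Z.comap (ρ g)) (hY : ∀ g, Y ≤ Y.comap (ρ g)) (hc : IsCompl Z Y)
    (S : Subgroup G) :
    finrank K (inv ρ S) = finrank K (inv (ρ.subrepresentation Z hZ) S) +
      finrank K (inv (ρ.subrepresentation Y hY) S) := by
  rw [finrank_inv_sub, finrank_inv_sub]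
  have h1 := Submodule.finrank_sup_add_finrank_inf_eq (inv ρ S ⊓ Z) (inv ρ S ⊓ Y)
  have h2 : (inv ρ S ⊓ Z) ⊓ (inv ρ S ⊓ Y) = ⊥ := by
    rw [eq_bot_iff, ← hc.inf_eq_bot]
    exact inf_le_inf inf_le_right inf_le_right
  rw [h2, finrank_bot, add_zero, ← inv_eq_sup ρ Z Y hZ hY hc S] at h1
  exact h1

theorem finrank_add_of_isCompl [FiniteDimensional K V] (Z Y : Submodule K V) (hc : IsCompl Z Y) :
    finrank K V = finrank K Z + finrank K Y := by
  have h1 := Submodule.finrank_sup_add_finrank_inf_eq Z Y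
  rw [hc.inf_eq_bot, hc.sup_eq_top, finrank_bot, add_zero, finrank_top] at h1
  exact h1

/-- the stabiliser of a vector. -/
def fixer (v : V) : Subgroup G where
  carrier := {g | ρ g v = v}
  mul_mem' := by
    intro x y hx hy
    simp only [Set.mem_setOf_eq] at hx hy ⊢
    rw [rho_mul_apply, hy, hx]
  one_mem' := by simp
  inv_mem' := by
    intro x hx
    simp only [Set.mem_setOf_eq] at hx ⊢
    have := rho_inv_cancel' ρ x v
    rwa [hx] at this

theorem inv_sup (S T : Subgroup G) : inv ρ (S ⊔ T) = inv ρ S ⊓ inv ρ T := by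
  apply le_antisymm
  · exact le_inf (inv_anti ρ le_sup_left) (inv_anti ρ le_sup_right)
  · intro v hv x hx
    have h1 : S ⊔ T ≤ fixer ρ v := sup_le (fun s hs => hv.1 s hs) (fun t ht => hv.2 t ht)
    exact h1 hx

end add

end Cfsg.Agent.Lib.Helper4.FM
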