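import Mathlib
import Cfsg.Agent.Lib.Helper4.FM5

set_option autoImplicit false

/-! The preimage of the centre of the image of a normal subgroup under a representation. -/

namespace Cfsg.Agent.Lib.Helper4.FM

open Module

section zker

variable {K : Type*} [Field K] {G : Type*} [Group G] {V : Type*} [AddCommGroup V] [Module K V]
  (ρ : Representation K G V) (U : Subgroup G)

/-- the elements of `U` whose images commute with all images of `U`. -/
def zker : Subgroup G where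
  carrier := {m | m ∈ U ∧ ∀ u ∈ U, Commute (ρ m) (ρ u)}
  mul_mem' := by
    rintro a b ⟨ha, ha'⟩ ⟨hb, hb'⟩
    refine ⟨U.mul_mem ha hb, fun u hu => ?_⟩
    rw [map_mul]
    exact (ha' u hu).mul_left (hb' u hu)
  one_mem' := ⟨U.one_mem, fun u _ => by rw [map_one]; exact Commute.one_left _⟩
  inv_mem' := by
    rintro x ⟨hx, hx'⟩
    refine ⟨U.inv_mem hx, fun u hu => ?_⟩
    have h := hx' u hu
    rw [← ρ.asGroupHom_apply x] at h
    have h2 := h.units_inv_left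
    rwa [← map_inv, Representation.asGroupHom_apply] at h2

theorem mem_zker (m : G) : m ∈ zker ρ U ↔ m ∈ U ∧ ∀ u ∈ U, Commute (ρ m) (ρ u) := Iff.rfl

theorem zker_le : zker ρ U ≤ U := fun _ h => h.1

theorem zker_comm (a b : zker ρ U) : Commute (ρ (a : G)) (ρ (b : G)) := a.2.2 _ b.2.1

theorem zker_stable (u : G) (hu : u ∈ U) (m : zker ρ U) : ρ (u⁻¹ * (m : G) * u) = ρ (m : G) := by
  have h := (m.2.2 u hu).eq
  rw [map_mul, map_mul, mul_assoc, h, ← mul_assoc, ← map_mul, inv_mul_cancel, map_one, one_mul]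

instance zker_normal [hUn : U.Normal] : (zker ρ U).Normal := by
  constructor
  rintro n ⟨hn, hn'⟩ g
  refine ⟨hUn.conj_mem n hn g, fun u hu => ?_⟩
  have hu' : g⁻¹ * u * g ∈ U := by
    have := hUn.conj_mem u hu g⁻¹
    rwa [inv_inv] at this
  have h := (hn' _ hu').eq
  show ρ (g * n * g⁻¹) * ρ u = ρ u * ρ (g * n * g⁻¹)
  calc ρ (g * n * g⁻¹) * ρ u = ρ g * (ρ n * ρ (g⁻¹ * u * g)) * ρ g⁻¹ := by
        rw [← map_mul, ← map_mul, ← map_mul, ← map_mul]
        congr 1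
        group
    _ = ρ g * (ρ (g⁻¹ * u * g) * ρ n) * ρ g⁻¹ := by rw [h]
    _ = ρ u * ρ (g * n * g⁻¹) := by
        rw [← map_mul, ← map_mul, ← map_mul, ← map_mul]
        congr 1
        group

theorem exists_zker_ne_one (hnil : Group.IsNilpotent U) (h : ∃ u ∈ U, ρ u ≠ 1) :
    ∃ m ∈ zker ρ U, ρ m ≠ 1 := by
  obtain ⟨u₀, hu₀, hne⟩ := h
  let φ : U →* (V →ₗ[K] V)ˣ := ρ.asGroupHom.comp U.subtype
  haveI : Group.IsNilpotent φ.range :=
    nilpotent_of_surjective φ.rangeRestrict φ.rangeRestrict_surjective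
  haveI : Nontrivial φ.range := by
    refine ⟨⟨φ ⟨u₀, hu₀⟩, ⟨_, rfl⟩⟩, 1, ?_⟩
    intro h1
    apply hne
    have h2 : φ ⟨u₀, hu₀⟩ = 1 := congrArg Subtype.val h1
    have h3 : ((φ ⟨u₀, hu₀⟩ : (V →ₗ[K] V)ˣ) : V →ₗ[K] V) = 1 := by rw [h2]; rfl
    exact h3
  have hc := Group.IsNilpotent.center_ne_bot (G := φ.range)
  obtain ⟨z, hz1⟩ := (Subgroup.ne_bot_iff_exists_ne_one).1 hc
  obtain ⟨m, hm⟩ := z.1.2
  refine ⟨(m : G), ⟨m.2, fun u hu => ?_⟩, ?_⟩
  · have hz := Subgroup.mem_center_iff.1 z.2 ⟨φ ⟨u, hu⟩, ⟨_, rfl⟩⟩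
    have h1 : φ ⟨u, hu⟩ * φ m = φ m * φ ⟨u, hu⟩ := by
      have := congrArg Subtype.val hz
      rw [Subgroup.coe_mul, Subgroup.coe_mul, ← hm] at this
      exact this
    have h2 := congrArg (fun x : (V →ₗ[K] V)ˣ => (x : V →ₗ[K] V)) h1
    exact h2.symm
  · intro h1
    apply hz1
    apply Subtype.ext
    apply Subtype.ext
    rw [← hm]
    apply Units.ext
    exact h1

end zker

section comm

variable {G : Type*} [Group G] (U E M : Subgroup G) [hMn : M.Normal] [Finite M]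

theorem comm_surj (hMU : M ≤ U)
    (hfpf : ∀ e ∈ E, e ≠ 1 → ∀ u ∈ U, e * u = u * e → u = 1) :
    ∀ e ∈ E, e ≠ 1 → ∀ m ∈ M, ∃ m' ∈ M, m = m'⁻¹ * e⁻¹ * m' * e := by
  intro e he he1 m hm
  have hconj : ∀ x : M, e⁻¹ * (x : G) * e ∈ M := by
    intro x
    have := hMn.conj_mem x x.2 e⁻¹
    rwa [inv_inv] at this
  let f : M → M := fun x => ⟨(x : G)⁻¹ * (e⁻¹ * (x : G) * e), M.mul_mem (M.inv_mem x.2) (hconj x)⟩
  have hinj : Function.Injective f := by
    intro a b hab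
    have h1 : (a : G)⁻¹ * (e⁻¹ * (a : G) * e) = (b : G)⁻¹ * (e⁻¹ * (b : G) * e) :=
      congrArg Subtype.val hab
    have h2 : e * ((b : G) * (a : G)⁻¹) = ((b : G) * (a : G)⁻¹) * e := by
      have h3 : (b : G) * (a : G)⁻¹ = e⁻¹ * ((b : G) * (a : G)⁻¹) * e := by
        calc (b : G) * (a : G)⁻¹ = (b : G) * ((a : G)⁻¹ * (e⁻¹ * (a : G) * e)) *
              (e⁻¹ * (a : G) * e)⁻¹ := by group
          _ = (b : G) * ((b : G)⁻¹ * (e⁻¹ * (b : G) * e)) * (e⁻¹ * (a : G) * e)⁻¹ := by rw [h1]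
          _ = e⁻¹ * ((b : G) * (a : G)⁻¹) * e := by group
      calc e * ((b : G) * (a : G)⁻¹) = e * (e⁻¹ * ((b : G) * (a : G)⁻¹) * e) := by rw [← h3]
        _ = ((b : G) * (a : G)⁻¹) * e := by group
    have h4 := hfpf e he he1 _ (hMU (M.mul_mem b.2 (M.inv_mem a.2))) h2
    apply Subtype.ext
    exact (mul_inv_eq_one.1 h4).symm
  obtain ⟨m', hm'⟩ := Finite.surjective_of_injective hinj ⟨m, hm⟩
  refine ⟨m', m'.2, ?_⟩
  have h5 : (m' : G)⁻¹ * (e⁻¹ * (m' : G) * e) = m := congrArg Subtype.val hm'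
  rw [← h5]
  group

end comm

end Cfsg.Agent.Lib.Helper4.FM
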