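import Mathlib
import Cfsg.Agent.Lib.Helper4.FM6

set_option autoImplicit false

/-! The fixed point formula for a Frobenius-like action on a module over an algebraically closed
field. -/

namespace Cfsg.Agent.Lib.Helper4.FM

open Module

universe u v w

section sub

variable {K : Type*} [Field K] {G : Type*} [Group G] {V : Type*} [AddCommGroup V] [Module K V]
  (ρ : Representation K G V)

theorem sub_eq_of_eq (Z : Submodule K V) (hZ : ∀ g, Z ≤ Z.comap (ρ g)) (g h : G)
    (hgh : ρ g = ρ h) : ρ.subrepresentation Z hZ g = ρ.subrepresentation Z hZ h := by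
  apply LinearMap.ext
  intro z
  apply Subtype.ext
  exact LinearMap.congr_fun hgh (z : V)

theorem sub_commute (Z : Submodule K V) (hZ : ∀ g, Z ≤ Z.comap (ρ g)) (g h : G)
    (hgh : Commute (ρ g) (ρ h)) :
    Commute (ρ.subrepresentation Z hZ g) (ρ.subrepresentation Z hZ h) := by
  apply LinearMap.ext
  intro z
  apply Subtype.ext
  exact LinearMap.congr_fun hgh.eq (z : V)

theorem inv_sub_eq_bot (Z : Submodule K V) (hZ : ∀ g, Z ≤ Z.comap (ρ g)) (S : Subgroup G)
    (h : inv ρ S ⊓ Z = ⊥) : inv (ρ.subrepresentation Z hZ) S = ⊥ := by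
  rw [Submodule.eq_bot_iff]
  intro z hz
  have h1 : (z : V) ∈ inv ρ S ⊓ Z := by
    rw [← map_inv_sub ρ Z hZ S]
    exact Submodule.mem_map_of_mem hz
  rw [h, Submodule.mem_bot] at h1
  exact Subtype.ext h1

theorem cast_card_ne_zero_of_le {M U : Subgroup G} [Finite U] (hMU : M ≤ U)
    (hU : (Nat.card U : K) ≠ 0) : (Nat.card M : K) ≠ 0 := by
  intro h
  apply hU
  obtain ⟨c, hc⟩ := Subgroup.card_dvd_of_le hMU
  rw [hc, Nat.cast_mul, h, zero_mul]

end sub

section main

variable {K : Type u} [Field K] [IsAlgClosed K] {G : Type w} [Group G] (U E : Subgroup G)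
  [hUn : U.Normal] [Finite U] [Finite E]

theorem main (hnil : Group.IsNilpotent U)
    (hfpf : ∀ e ∈ E, e ≠ 1 → ∀ u ∈ U, e * u = u * e → u = 1)
    (hU : (Nat.card U : K) ≠ 0) :
    ∀ (n : ℕ) (V : Type v) [AddCommGroup V] [Module K V] [FiniteDimensional K V]
      (ρ : Representation K G V), finrank K V = n →
      finrank K V + Nat.card E * finrank K (inv ρ (U ⊔ E)) =
        finrank K (inv ρ U) + Nat.card E * finrank K (inv ρ E) := by
  intro n
  induction n using Nat.strong_induction_on with
  | _ n ih =>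
    intro V _ _ _ ρ hn
    by_cases hker : ∀ u ∈ U, ρ u = 1
    · have h1 : inv ρ U = ⊤ := by
        rw [eq_top_iff]
        intro v _ u hu
        rw [hker u hu, Module.End.one_apply]
      rw [inv_sup, h1, top_inf_eq, finrank_top]
    · push Not at hker
      obtain ⟨m₀, hm₀, hm₀1⟩ := exists_zker_ne_one ρ U hnil hker
      haveI : Finite (zker ρ U) := Finite.of_injective _ (Subgroup.inclusion_injective (zker_le ρ U))
      letI : Fintype (zker ρ U) := Fintype.ofFinite _
      have hM : (Nat.card (zker ρ U) : K) ≠ 0 := cast_card_ne_zero_of_le (zker_le ρ U) hU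
      have hZ := inv_invariant ρ (zker ρ U)
      have hY := ycomp_invariant ρ (zker ρ U)
      have hc := isCompl_inv_ycomp ρ (zker ρ U) hM
      have hZtop : inv ρ (zker ρ U) ≠ ⊤ := by
        intro h
        apply hm₀1
        apply LinearMap.ext
        intro v
        have : v ∈ inv ρ (zker ρ U) := by rw [h]; exact Submodule.mem_top
        exact this m₀ hm₀
      have hlt : finrank K (inv ρ (zker ρ U)) < n := by
        rw [← hn]
        exact Submodule.finrank_lt hZtop
      have hIH := ih _ hlt (inv ρ (zker ρ U)) (ρ.subrepresentation _ hZ) rfl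
      have hinvY : inv (ρ.subrepresentation _ hY) (zker ρ U) = ⊥ :=
        inv_sub_eq_bot ρ _ hY _ hc.inf_eq_bot
      have hcore := core (ρ.subrepresentation _ hY) (zker ρ U) E
        (fun a b => sub_commute ρ _ hY _ _ (zker_comm ρ U a b)) hM
        (comm_surj U E (zker ρ U) (zker_le ρ U) hfpf) hinvY
      have hinvYU : inv (ρ.subrepresentation _ hY) U = ⊥ := by
        rw [eq_bot_iff, ← hinvY]
        exact inv_anti _ (zker_le ρ U)
      have hinvYUE : inv (ρ.subrepresentation _ hY) (U ⊔ E) = ⊥ := by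
        rw [eq_bot_iff, ← hinvYU]
        exact inv_anti _ le_sup_left
      rw [finrank_inv_add ρ _ _ hZ hY hc (U ⊔ E), finrank_inv_add ρ _ _ hZ hY hc U,
        finrank_inv_add ρ _ _ hZ hY hc E, finrank_add_of_isCompl _ _ hc, hinvYU, hinvYUE,
        finrank_bot, add_zero, add_zero]
      rw [mul_add, ← hcore]
      omega

theorem main_ab (hnil : Group.IsNilpotent U)
    (hfpf : ∀ e ∈ E, e ≠ 1 → ∀ u ∈ U, e * u = u * e → u = 1)
    (hU : (Nat.card U : K) ≠ 0) {V : Type v} [AddCommGroup V] [Module K V]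
    [FiniteDimensional K V] (ρ : Representation K G V) (hone : finrank K (inv ρ E) ≤ 1) :
    ∀ a ∈ U, ∀ b ∈ U, Commute (ρ a) (ρ b) := by
  by_cases hker : ∀ u ∈ U, ρ u = 1
  · intro a ha b hb
    rw [hker a ha, hker b hb]
  · push Not at hker
    obtain ⟨m₀, hm₀, hm₀1⟩ := exists_zker_ne_one ρ U hnil hker
    haveI : Finite (zker ρ U) := Finite.of_injective _ (Subgroup.inclusion_injective (zker_le ρ U))
    letI : Fintype (zker ρ U) := Fintype.ofFinite _
    have hM : (Nat.card (zker ρ U) : K) ≠ 0 := cast_card_ne_zero_of_le (zker_le ρ U) hU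
    have hZ := inv_invariant ρ (zker ρ U)
    have hY := ycomp_invariant ρ (zker ρ U)
    have hc := isCompl_inv_ycomp ρ (zker ρ U) hM
    have hZtop : inv ρ (zker ρ U) ≠ ⊤ := by
      intro h
      apply hm₀1
      apply LinearMap.ext
      intro v
      have : v ∈ inv ρ (zker ρ U) := by rw [h]; exact Submodule.mem_top
      exact this m₀ hm₀
    have hlt : finrank K (inv ρ (zker ρ U)) < finrank K V := Submodule.finrank_lt hZtop
    have hmain := main U E hnil hfpf hU _ (inv ρ (zker ρ U)) (ρ.subrepresentation _ hZ) rfl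
    have hinvY : inv (ρ.subrepresentation _ hY) (zker ρ U) = ⊥ :=
      inv_sub_eq_bot ρ _ hY _ hc.inf_eq_bot
    have hcs := comm_surj U E (zker ρ U) (zker_le ρ U) hfpf
    have hcommY : ∀ a b : zker ρ U, Commute (ρ.subrepresentation _ hY (a : G))
        (ρ.subrepresentation _ hY (b : G)) :=
      fun a b => sub_commute ρ _ hY _ _ (zker_comm ρ U a b)
    have hcore := core (ρ.subrepresentation _ hY) (zker ρ U) E hcommY hM hcs hinvY
    have hadd := finrank_inv_add ρ _ _ hZ hY hc E
    have hV := finrank_add_of_isCompl _ _ hc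
    have hYpos : 0 < finrank K (ycomp ρ (zker ρ U)) := by omega
    have hEY : 0 < finrank K (inv (ρ.subrepresentation _ hY) E) := by
      rcases Nat.eq_zero_or_pos (finrank K (inv (ρ.subrepresentation _ hY) E)) with h | h
      · rw [h, mul_zero] at hcore
        omega
      · exact h
    have hEZ : finrank K (inv (ρ.subrepresentation _ hZ) E) = 0 := by omega
    have hEY1 : finrank K (inv (ρ.subrepresentation _ hY) E) ≤ 1 := by omega
    have hUEZ : finrank K (inv (ρ.subrepresentation _ hZ) (U ⊔ E)) = 0 := by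
      have := Submodule.finrank_mono (inv_anti (ρ.subrepresentation _ hZ)
        (le_sup_right : E ≤ U ⊔ E))
      omega
    rw [hEZ, hUEZ, mul_zero, add_zero, add_zero] at hmain
    have hUZ : inv (ρ.subrepresentation _ hZ) U = ⊤ :=
      Submodule.eq_top_of_finrank_eq hmain.symm
    have hfixZ : ∀ u ∈ U, ∀ z ∈ inv ρ (zker ρ U), ρ u z = z := by
      intro u hu z hz
      have h1 : (⟨z, hz⟩ : inv ρ (zker ρ U)) ∈ inv (ρ.subrepresentation _ hZ) U := by
        rw [hUZ]
        exact Submodule.mem_top
      exact congrArg Subtype.val (h1 u hu)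
    have hUE : ∀ e ∈ E, ∀ u ∈ U, e⁻¹ * u * e ∈ U := by
      intro e _ u hu
      have := hUn.conj_mem u hu e⁻¹
      rwa [inv_inv] at this
    have habY := core_ab (ρ.subrepresentation _ hY) (zker ρ U) E hcommY hM hcs hinvY U hUE
      (fun u hu m => sub_eq_of_eq ρ _ hY _ _ (zker_stable ρ U u hu m)) hEY1
    intro a ha b hb
    apply LinearMap.ext
    intro v
    have hv : v ∈ inv ρ (zker ρ U) ⊔ ycomp ρ (zker ρ U) := by
      rw [hc.sup_eq_top]
      exact Submodule.mem_top
    obtain ⟨z, hz, y, hy, rfl⟩ := Submodule.mem_sup.1 hv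
    rw [Module.End.mul_apply, Module.End.mul_apply, map_add, map_add, map_add, map_add,
      hfixZ b hb z hz, hfixZ a ha z hz, hfixZ b hb z hz]
    congr 1
    have h1 := LinearMap.congr_fun (habY a ha b hb).eq ⟨y, hy⟩
    exact congrArg Subtype.val h1

end main

end Cfsg.Agent.Lib.Helper4.FM
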