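import Mathlib
import Cfsg.Agent.Lib.Helper4.FM7

set_option autoImplicit false

/-! Extension of scalars of a representation, and fixed points. -/

namespace Cfsg.Agent.Lib.Helper4.FM

open Module TensorProduct

section bc

variable {k : Type*} [Field k] (K : Type*) [Field K] [Algebra k K] {G : Type*} [Group G]
  {V₀ : Type*} [AddCommGroup V₀] [Module k V₀] (ρ₀ : Representation k G V₀)

/-- extension of scalars of a representation. -/
noncomputable def bc : Representation K G (K ⊗[k] V₀) where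
  toFun g := (ρ₀ g).baseChange K
  map_one' := by
    rw [map_one]
    exact LinearMap.baseChange_one k V₀
  map_mul' g h := by
    rw [map_mul]
    exact LinearMap.baseChange_mul _ _

theorem bc_apply (g : G) : bc K ρ₀ g = (ρ₀ g).baseChange K := rfl

theorem bc_tmul (g : G) (a : K) (v : V₀) : bc K ρ₀ g (a ⊗ₜ[k] v) = a ⊗ₜ[k] ρ₀ g v := rfl

theorem commute_of_bc (a b : G) (h : Commute (bc K ρ₀ a) (bc K ρ₀ b)) :
    Commute (ρ₀ a) (ρ₀ b) := by
  have h1 : (ρ₀ a * ρ₀ b).baseChange K = (ρ₀ b * ρ₀ a).baseChange K := by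
    rw [LinearMap.baseChange_mul, LinearMap.baseChange_mul]
    exact h.eq
  exact LinearMap.baseChangeHom_injective k V₀ K h1

theorem baseChange_le_inv_bc (S : Subgroup G) :
    (inv ρ₀ S).baseChange K ≤ inv (bc K ρ₀) S := by
  rw [Submodule.baseChange_eq_span, Submodule.span_le]
  rintro _ ⟨m, hm, rfl⟩
  intro s hs
  show bc K ρ₀ s ((1 : K) ⊗ₜ[k] m) = (1 : K) ⊗ₜ[k] m
  rw [bc_tmul, hm s hs]

theorem avg_bc_mem (S : Subgroup G) [Fintype S] (x : K ⊗[k] V₀) :
    avg (bc K ρ₀) S x ∈ (inv ρ₀ S).baseChange K := by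
  induction x using TensorProduct.induction_on with
  | zero =>
    rw [map_zero]
    exact Submodule.zero_mem _
  | tmul a v =>
    have h1 : avg (bc K ρ₀) S (a ⊗ₜ[k] v) = a ⊗ₜ[k] avg ρ₀ S v := by
      rw [avg_apply, avg_apply, TensorProduct.tmul_sum]
      rfl
    rw [h1]
    exact Submodule.tmul_mem_baseChange_of_mem a (avg_mem_inv ρ₀ S v)
  | add x y hx hy =>
    rw [map_add]
    exact Submodule.add_mem _ hx hy

theorem cast_card_ne_zero_bc (n : ℕ) (hn : (n : k) ≠ 0) : (n : K) ≠ 0 := by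
  intro h
  apply hn
  have h1 : algebraMap k K (n : k) = 0 := by
    rw [map_natCast]
    exact h
  exact (map_eq_zero (algebraMap k K)).1 h1

theorem inv_bc (S : Subgroup G) [Finite S] (hS : (Nat.card S : k) ≠ 0) :
    inv (bc K ρ₀) S = (inv ρ₀ S).baseChange K := by
  letI : Fintype S := Fintype.ofFinite S
  apply le_antisymm
  · intro x hx
    have h1 := avg_of_inv (bc K ρ₀) S x hx
    have h2 : x = (Nat.card S : K)⁻¹ • avg (bc K ρ₀) S x := by
      rw [h1, smul_smul, inv_mul_cancel₀ (cast_card_ne_zero_bc K _ hS), one_smul]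
    rw [h2]
    exact Submodule.smul_mem _ _ (avg_bc_mem K ρ₀ S x)
  · exact baseChange_le_inv_bc K ρ₀ S

theorem finrank_inv_bc (S : Subgroup G) [Finite S] (hS : (Nat.card S : k) ≠ 0) :
    finrank K (inv (bc K ρ₀) S) = finrank k (inv ρ₀ S) := by
  rw [inv_bc K ρ₀ S hS, ← (Submodule.toBaseChange.toLinearEquiv K (inv ρ₀ S)).finrank_eq,
    Module.finrank_baseChange]

theorem finrank_bc : finrank K (K ⊗[k] V₀) = finrank k V₀ := Module.finrank_baseChange

end bc

section descend

universe u v w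

variable {k : Type u} [Field k] {G : Type w} [Group G] (U E : Subgroup G)
  [hUn : U.Normal] [Finite U] [Finite E] {V₀ : Type v} [AddCommGroup V₀] [Module k V₀]
  [FiniteDimensional k V₀] (ρ₀ : Representation k G V₀)

/-- the fixed point formula over an arbitrary field in which the orders are invertible. -/
theorem main_field (hnil : Group.IsNilpotent U)
    (hfpf : ∀ e ∈ E, e ≠ 1 → ∀ u ∈ U, e * u = u * e → u = 1)
    (hU : (Nat.card U : k) ≠ 0) (hE : (Nat.card E : k) ≠ 0)
    (hUE : (Nat.card ↥(U ⊔ E) : k) ≠ 0) :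
    finrank k V₀ + Nat.card E * finrank k (inv ρ₀ (U ⊔ E)) =
      finrank k (inv ρ₀ U) + Nat.card E * finrank k (inv ρ₀ E) := by
  have h := main (K := AlgebraicClosure k) U E hnil hfpf
    (cast_card_ne_zero_bc (AlgebraicClosure k) _ hU) _ _ (bc (AlgebraicClosure k) ρ₀) rfl
  haveI : Finite ↥(U ⊔ E) := by
    apply Nat.finite_of_card_ne_zero
    intro h0
    rw [h0] at hUE
    exact hUE Nat.cast_zero
  rw [finrank_inv_bc _ ρ₀ _ hUE, finrank_inv_bc _ ρ₀ _ hU, finrank_inv_bc _ ρ₀ _ hE,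
    finrank_bc] at h
  exact h

/-- the commutativity statement over an arbitrary field. -/
theorem main_ab_field (hnil : Group.IsNilpotent U)
    (hfpf : ∀ e ∈ E, e ≠ 1 → ∀ u ∈ U, e * u = u * e → u = 1)
    (hU : (Nat.card U : k) ≠ 0) (hE : (Nat.card E : k) ≠ 0)
    (hone : finrank k (inv ρ₀ E) ≤ 1) :
    ∀ a ∈ U, ∀ b ∈ U, Commute (ρ₀ a) (ρ₀ b) := by
  intro a ha b hb
  apply commute_of_bc (AlgebraicClosure k) ρ₀
  apply main_ab (K := AlgebraicClosure k) U E hnil hfpf
    (cast_card_ne_zero_bc (AlgebraicClosure k) _ hU) (bc (AlgebraicClosure k) ρ₀) _ a ha b hb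
  rw [finrank_inv_bc _ ρ₀ _ hE]
  exact hone

end descend

end Cfsg.Agent.Lib.Helper4.FM
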