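import Mathlib
import Cfsg.Agent.Lib.Helper4.FM8
import Cfsg.Agent.Lib.Lead.ExtAct2

set_option autoImplicit false

/-! The fixed point formula for a Frobenius-like group acting on an elementary abelian group. -/

namespace Cfsg.Agent.Lib.Helper4.FM

open Module

section fix

variable {A : Type*} [Group A] {V : Type*} [Group V] [MulDistribMulAction A V]

/-- the fixed points of a subgroup of the acting group. -/
def fixS (S : Subgroup A) : Subgroup V where
  carrier := {v | ∀ s ∈ S, s • v = v}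
  mul_mem' := by
    intro a b ha hb s hs
    rw [smul_mul', ha s hs, hb s hs]
  one_mem' := by
    intro s _
    exact smul_one s
  inv_mem' := by
    intro a ha s hs
    rw [smul_inv', ha s hs]

theorem mem_fixS (S : Subgroup A) (v : V) : v ∈ fixS (V := V) S ↔ ∀ s ∈ S, s • v = v := Iff.rfl

end fix

section elaux

universe u v

variable {A : Type u} [Group A] (U E : Subgroup A) [hUn : U.Normal] [Finite U] [Finite E]
  {V : Type v} [CommGroup V] [Finite V] [MulDistribMulAction A V] (ℓ : ℕ) [hℓ : Fact ℓ.Prime]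
  [Module (ZMod ℓ) (Additive V)]

open Cfsg.Agent.Lib.Lead in
theorem card_inv_addRep (S : Subgroup A) :
    Nat.card (fixS (V := V) S) = ℓ ^ finrank (ZMod ℓ) (inv (ExtAct.addRep (A := A) (V := V) ℓ) S) := by
  have h1 := Module.natCard_eq_pow_finrank (K := ZMod ℓ)
    (V := inv (ExtAct.addRep (A := A) (V := V) ℓ) S)
  rw [Nat.card_zmod] at h1
  rw [← h1]
  apply Nat.card_congr
  refine (Equiv.subtypeEquiv Additive.ofMul ?_)
  intro v
  constructor
  · intro hv s hs
    rw [ExtAct.addRep_apply]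
    exact congrArg Additive.ofMul (hv s hs)
  · intro hv s hs
    have := hv s hs
    rw [ExtAct.addRep_apply] at this
    exact congrArg Additive.toMul this

theorem cast_ne_zero_of_not_dvd (n : ℕ) (h : ¬ ℓ ∣ n) : (n : ZMod ℓ) ≠ 0 := by
  rw [Ne, ZMod.natCast_eq_zero_iff]
  exact h

open Cfsg.Agent.Lib.Lead in
theorem card_fix_formula_aux (hnil : Group.IsNilpotent U)
    (hfpf : ∀ e ∈ E, e ≠ 1 → ∀ u ∈ U, e * u = u * e → u = 1)
    (hU : ¬ ℓ ∣ Nat.card U) (hE : ¬ ℓ ∣ Nat.card E) (hUE : ¬ ℓ ∣ Nat.card ↥(U ⊔ E)) :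
    Nat.card (fixS (V := V) (U ⊔ E)) ^ Nat.card E * Nat.card V =
      Nat.card (fixS (V := V) E) ^ Nat.card E * Nat.card (fixS (V := V) U) := by
  have hmain := main_field U E (ExtAct.addRep (A := A) (V := V) ℓ) hnil hfpf
    (cast_ne_zero_of_not_dvd ℓ _ hU) (cast_ne_zero_of_not_dvd ℓ _ hE)
    (cast_ne_zero_of_not_dvd ℓ _ hUE)
  have hV : Nat.card V = ℓ ^ finrank (ZMod ℓ) (Additive V) := by
    have h1 := Module.natCard_eq_pow_finrank (K := ZMod ℓ) (V := Additive V)
    rw [Nat.card_zmod] at h1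
    exact h1
  rw [card_inv_addRep ℓ (U ⊔ E), card_inv_addRep ℓ E, card_inv_addRep ℓ U, hV, ← pow_mul,
    ← pow_mul, ← pow_add, ← pow_add]
  congr 1
  rw [mul_comm _ (Nat.card E), mul_comm _ (Nat.card E)]
  omega

open Cfsg.Agent.Lib.Lead in
theorem fix_ab_aux (hnil : Group.IsNilpotent U)
    (hfpf : ∀ e ∈ E, e ≠ 1 → ∀ u ∈ U, e * u = u * e → u = 1)
    (hU : ¬ ℓ ∣ Nat.card U) (hE : ¬ ℓ ∣ Nat.card E)
    (hone : Nat.card (fixS (V := V) E) ≤ ℓ) :
    ∀ a ∈ U, ∀ b ∈ U, ∀ v : V, a • b • v = b • a • v := by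
  have h1 : finrank (ZMod ℓ) (inv (ExtAct.addRep (A := A) (V := V) ℓ) E) ≤ 1 := by
    rw [card_inv_addRep ℓ E] at hone
    by_contra hlt
    push Not at hlt
    have h2 : ℓ ^ 2 ≤ ℓ ^ finrank (ZMod ℓ) (inv (ExtAct.addRep (A := A) (V := V) ℓ) E) :=
      Nat.pow_le_pow_right hℓ.out.pos hlt
    have h3 : ℓ < ℓ ^ 2 := by
      have := hℓ.out.one_lt
      nlinarith
    omega
  have hab := main_ab_field U E (ExtAct.addRep (A := A) (V := V) ℓ) hnil hfpf
    (cast_ne_zero_of_not_dvd ℓ _ hU) (cast_ne_zero_of_not_dvd ℓ _ hE) h1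
  intro a ha b hb v
  have h2 := LinearMap.congr_fun (hab a ha b hb).eq (Additive.ofMul v)
  rw [Module.End.mul_apply, Module.End.mul_apply, ExtAct.addRep_apply, ExtAct.addRep_apply,
    ExtAct.addRep_apply, ExtAct.addRep_apply] at h2
  exact congrArg Additive.toMul h2

end elaux

section elgrp

universe u v

variable {A : Type u} [Group A] (U E : Subgroup A) [hUn : U.Normal] [Finite U] [Finite E]
  {V : Type v} [Group V] [Finite V] [MulDistribMulAction A V] (ℓ : ℕ) [hℓ : Fact ℓ.Prime]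

/-- the fixed point formula for an elementary abelian group. -/
theorem card_fix_formula (hnil : Group.IsNilpotent U)
    (hfpf : ∀ e ∈ E, e ≠ 1 → ∀ u ∈ U, e * u = u * e → u = 1)
    (hcomm : ∀ x y : V, x * y = y * x) (hexp : ∀ x : V, x ^ ℓ = 1)
    (hU : ¬ ℓ ∣ Nat.card U) (hE : ¬ ℓ ∣ Nat.card E) (hUE : ¬ ℓ ∣ Nat.card ↥(U ⊔ E)) :
    Nat.card (fixS (V := V) (U ⊔ E)) ^ Nat.card E * Nat.card V =
      Nat.card (fixS (V := V) E) ^ Nat.card E * Nat.card (fixS (V := V) U) := by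
  let iC : CommGroup V := { (inferInstance : Group V) with mul_comm := hcomm }
  let iM : Module (ZMod ℓ) (Additive V) := @AddCommGroup.zmodModule ℓ (Additive V) _ (by
    intro x
    show Additive.ofMul (Additive.toMul x ^ ℓ) = 0
    rw [hexp]; rfl)
  exact @card_fix_formula_aux A _ U E hUn _ _ V iC _ _ ℓ hℓ iM hnil hfpf hU hE hUE

/-- commutativity of the action of `U` when `E` has at most `ℓ` fixed points. -/
theorem fix_ab (hnil : Group.IsNilpotent U)
    (hfpf : ∀ e ∈ E, e ≠ 1 → ∀ u ∈ U, e * u = u * e → u = 1)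
    (hcomm : ∀ x y : V, x * y = y * x) (hexp : ∀ x : V, x ^ ℓ = 1)
    (hU : ¬ ℓ ∣ Nat.card U) (hE : ¬ ℓ ∣ Nat.card E)
    (hone : Nat.card (fixS (V := V) E) ≤ ℓ) :
    ∀ a ∈ U, ∀ b ∈ U, ∀ v : V, a • b • v = b • a • v := by
  let iC : CommGroup V := { (inferInstance : Group V) with mul_comm := hcomm }
  let iM : Module (ZMod ℓ) (Additive V) := @AddCommGroup.zmodModule ℓ (Additive V) _ (by
    intro x
    show Additive.ofMul (Additive.toMul x ^ ℓ) = 0
    rw [hexp]; rfl)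
  exact @fix_ab_aux A _ U E hUn _ _ V iC _ _ ℓ hℓ iM hnil hfpf hU hE hone

end elgrp

end Cfsg.Agent.Lib.Helper4.FM
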