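import Mathlib
import Cfsg.Agent.Lib.Helper4.FM9
import Cfsg.Agent.Lib.Lead.ExtAct3
import Cfsg.Agent.Lib.Lead.CoprimeAction

set_option autoImplicit false

/-! Conjugation action of a subgroup on a normalised subgroup and on a quotient of it;
fixed points on the quotient under coprime action. -/

namespace Cfsg.Agent.Lib.Helper4.FM

open Cfsg.Agent.Lib.Lead

universe u

section conj

variable {X : Type u} [Group X] (F H : Subgroup X)

theorem le_normalizer_of_forall (h : ∀ f ∈ F, ∀ x ∈ H, f * x * f⁻¹ ∈ H) :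
    F ≤ Subgroup.normalizer (H : Set X) := by
  intro f hf
  rw [Subgroup.mem_normalizer_iff]
  intro x
  constructor
  · exact h f hf x
  · intro hx
    have := h f⁻¹ (F.inv_mem hf) _ hx
    rw [inv_inv] at this
    have h2 : f⁻¹ * (f * x * f⁻¹) * f = x := by group
    rwa [h2] at this

/-- the conjugation action. -/
@[reducible] def conjAct (hFH : ∀ f ∈ F, ∀ x ∈ H, f * x * f⁻¹ ∈ H) :
    MulDistribMulAction ↥F ↥H where
  smul f h := ⟨(f : X) * (h : X) * (f : X)⁻¹, hFH f f.2 h h.2⟩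
  one_smul h := by
    apply Subtype.ext
    show ((1 : F) : X) * (h : X) * ((1 : F) : X)⁻¹ = h
    simp
  mul_smul f g h := by
    apply Subtype.ext
    show ((f * g : F) : X) * (h : X) * ((f * g : F) : X)⁻¹ =
      (f : X) * ((g : X) * (h : X) * (g : X)⁻¹) * (f : X)⁻¹
    rw [Subgroup.coe_mul]
    group
  smul_mul f a b := by
    apply Subtype.ext
    show (f : X) * ((a * b : H) : X) * (f : X)⁻¹ =
      ((f : X) * (a : X) * (f : X)⁻¹) * ((f : X) * (b : X) * (f : X)⁻¹)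
    rw [Subgroup.coe_mul]
    group
  smul_one f := by
    apply Subtype.ext
    show (f : X) * ((1 : H) : X) * (f : X)⁻¹ = ((1 : H) : X)
    simp

theorem conjAct_coe (hFH : ∀ f ∈ F, ∀ x ∈ H, f * x * f⁻¹ ∈ H) (f : F) (h : H) :
    (((conjAct F H hFH).toMulAction.toSMul.smul f h : H) : X) = (f : X) * (h : X) * (f : X)⁻¹ :=
  rfl

variable (K₁ : Subgroup X)

theorem normal_subgroupOf_of_forall (hHK : ∀ h ∈ H, ∀ k ∈ K₁, h * k * h⁻¹ ∈ K₁) :
    (K₁.subgroupOf H).Normal := by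
  constructor
  intro n hn g
  rw [Subgroup.mem_subgroupOf] at hn ⊢
  exact hHK g g.2 n hn

theorem inv_subgroupOf (hFH : ∀ f ∈ F, ∀ x ∈ H, f * x * f⁻¹ ∈ H)
    (hFK : ∀ f ∈ F, ∀ k ∈ K₁, f * k * f⁻¹ ∈ K₁) :
    @ExtAct.Inv ↥F ↥H _ _ (conjAct F H hFH) (K₁.subgroupOf H) := by
  intro a x hx
  rw [Subgroup.mem_subgroupOf] at hx ⊢
  exact hFK a a.2 x hx

/-- the action on the quotient. -/
@[reducible] def qAct (hFH : ∀ f ∈ F, ∀ x ∈ H, f * x * f⁻¹ ∈ H)
    [(K₁.subgroupOf H).Normal] (hFK : ∀ f ∈ F, ∀ k ∈ K₁, f * k * f⁻¹ ∈ K₁) :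
    MulDistribMulAction ↥F (↥H ⧸ K₁.subgroupOf H) :=
  @ExtAct.quotAction ↥F ↥H _ _ (conjAct F H hFH) (K₁.subgroupOf H) _
    (inv_subgroupOf F H K₁ hFH hFK)

theorem qAct_mk (hFH : ∀ f ∈ F, ∀ x ∈ H, f * x * f⁻¹ ∈ H)
    [(K₁.subgroupOf H).Normal] (hFK : ∀ f ∈ F, ∀ k ∈ K₁, f * k * f⁻¹ ∈ K₁) (f : F) (h : H) :
    (qAct F H K₁ hFH hFK).toMulAction.toSMul.smul f (h : ↥H ⧸ K₁.subgroupOf H) =
      ((⟨(f : X) * (h : X) * (f : X)⁻¹, hFH f f.2 h h.2⟩ : H) : ↥H ⧸ K₁.subgroupOf H) := rfl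

end conj

section fixq

variable {X : Type u} [Group X] [Finite X] (F H K₁ : Subgroup X)

theorem card_centralizer_eq (hFH : ∀ f ∈ F, ∀ x ∈ H, f * x * f⁻¹ ∈ H) (hK₁H : K₁ ≤ H)
    (hHK : ∀ h ∈ H, ∀ k ∈ K₁, h * k * h⁻¹ ∈ K₁)
    [hN : (K₁.subgroupOf H).Normal] (hFK : ∀ f ∈ F, ∀ k ∈ K₁, f * k * f⁻¹ ∈ K₁)
    (hcop : (Nat.card F).Coprime (Nat.card H)) (hsolv : Group.IsSolvable H)
    (S : Subgroup X) (hSF : S ≤ F) :
    Nat.card ↥(H ⊓ Subgroup.centralizer (S : Set X)) =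
      Nat.card ↥(K₁ ⊓ Subgroup.centralizer (S : Set X)) *
        Nat.card (@fixS ↥F _ (↥H ⧸ K₁.subgroupOf H) _ (qAct F H K₁ hFH hFK)
          (S.subgroupOf F)) := by
  letI := qAct F H K₁ hFH hFK
  let φ : ↥(H ⊓ Subgroup.centralizer (S : Set X)) →* ↥H ⧸ K₁.subgroupOf H :=
    (QuotientGroup.mk' (K₁.subgroupOf H)).comp (Subgroup.inclusion inf_le_left)
  have hφ : ∀ c : ↥(H ⊓ Subgroup.centralizer (S : Set X)),
      φ c = ((⟨(c : X), c.2.1⟩ : H) : ↥H ⧸ K₁.subgroupOf H) := fun c => rfl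
  have hker : φ.ker.map (H ⊓ Subgroup.centralizer (S : Set X)).subtype =
      K₁ ⊓ Subgroup.centralizer (S : Set X) := by
    ext x
    rw [Subgroup.mem_map]
    constructor
    · rintro ⟨c, hc, rfl⟩
      rw [MonoidHom.mem_ker, hφ, QuotientGroup.eq_one_iff, Subgroup.mem_subgroupOf] at hc
      exact ⟨hc, c.2.2⟩
    · rintro ⟨hx1, hx2⟩
      refine ⟨⟨x, hK₁H hx1, hx2⟩, ?_, rfl⟩
      rw [MonoidHom.mem_ker, hφ, QuotientGroup.eq_one_iff, Subgroup.mem_subgroupOf]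
      exact hx1
  have hrange : φ.range = fixS (V := ↥H ⧸ K₁.subgroupOf H) (S.subgroupOf F) := by
    ext q
    constructor
    · rintro ⟨c, rfl⟩
      intro s hs
      rw [hφ]
      show (qAct F H K₁ hFH hFK).toMulAction.toSMul.smul s _ = _
      rw [qAct_mk]
      congr 1
      apply Subtype.ext
      show (s : X) * (c : X) * (s : X)⁻¹ = (c : X)
      have h1 := Subgroup.mem_centralizer_iff.1 c.2.2 (s : X) (Subgroup.mem_subgroupOf.1 hs)
      rw [h1, mul_assoc, mul_inv_cancel, mul_one]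
    · intro hq
      induction q using QuotientGroup.induction_on with
      | H k =>
        have hfix : ∀ a ∈ S, a * (k : X) * a⁻¹ * (k : X)⁻¹ ∈ K₁ := by
          intro a ha
          have h1 := hq ⟨a, hSF ha⟩ (Subgroup.mem_subgroupOf.2 ha)
          have h2 : ((⟨a * (k : X) * a⁻¹, hFH a (hSF ha) k k.2⟩ : H) : ↥H ⧸ K₁.subgroupOf H) =
              (k : ↥H ⧸ K₁.subgroupOf H) := h1
          rw [QuotientGroup.eq, Subgroup.mem_subgroupOf] at h2
          have h3 : ((⟨a * (k : X) * a⁻¹, hFH a (hSF ha) k k.2⟩ : H)⁻¹ * k : H) =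
              (a * (k : X) * a⁻¹)⁻¹ * (k : X) := rfl
          rw [h3] at h2
          have h4 := hHK _ (hFH a (hSF ha) k k.2) _ h2
          have h5 := K₁.inv_mem h4
          have h6 : (a * (k : X) * a⁻¹ * ((a * (k : X) * a⁻¹)⁻¹ * (k : X)) *
              (a * (k : X) * a⁻¹)⁻¹)⁻¹ = a * (k : X) * a⁻¹ * (k : X)⁻¹ := by group
          rwa [h6] at h5
        have hSH : S ≤ Subgroup.normalizer (H : Set X) :=
          hSF.trans (le_normalizer_of_forall F H hFH)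
        have hcopS : (Nat.card S).Coprime (Nat.card H) :=
          Nat.Coprime.coprime_dvd_left (Subgroup.card_dvd_of_le hSF) hcop
        obtain ⟨c, hc, hkc⟩ := coprime_fixed_coset S H hSH hcopS (Or.inr hsolv) K₁ hK₁H
          (le_normalizer_of_forall H K₁ hHK)
          (hSF.trans (le_normalizer_of_forall F K₁ hFK)) (k : X) k.2 hfix
        refine ⟨⟨c, hc⟩, ?_⟩
        rw [hφ]
        symm
        rw [QuotientGroup.eq, Subgroup.mem_subgroupOf]
        exact hkc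
  rw [← hrange, ← hker, Subgroup.card_map_of_injective (Subgroup.subtype_injective _),
    ← Subgroup.index_ker, Subgroup.card_mul_index]

end fixq

end Cfsg.Agent.Lib.Helper4.FM
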