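import Mathlib
import Cfsg.Agent.Lib.Helper4.FM10

set_option autoImplicit false

/-! General lemmas for the nonabelian case. -/

namespace Cfsg.Agent.Lib.Helper4.ZP

open Cfsg
open scoped commutatorElement

universe u

section g0

variable {G : Type u} [Group G]

theorem mem_centralizer_sup {A B : Subgroup G} {y : G}
    (hA : y ∈ Subgroup.centralizer (A : Set G)) (hB : y ∈ Subgroup.centralizer (B : Set G)) :
    y ∈ Subgroup.centralizer ((A ⊔ B : Subgroup G) : Set G) := by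
  have h1 : A ⊔ B ≤ Subgroup.centralizer ({y} : Set G) := by
    apply sup_le
    · intro a ha
      rw [Subgroup.mem_centralizer_singleton_iff]
      exact Subgroup.mem_centralizer_iff.mp hA a ha
    · intro a ha
      rw [Subgroup.mem_centralizer_singleton_iff]
      exact Subgroup.mem_centralizer_iff.mp hB a ha
  rw [Subgroup.mem_centralizer_iff]
  intro g hg
  exact Subgroup.mem_centralizer_singleton_iff.mp (h1 hg)

theorem comm_mul_of_central (c a v : G) (h : ⁅c, v⁆ * a = a * ⁅c, v⁆) :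
    ⁅c, a * v⁆ = ⁅c, a⁆ * ⁅c, v⁆ := by
  have e1 : ⁅c, a * v⁆ = ⁅c, a⁆ * (a * ⁅c, v⁆ * a⁻¹) := by
    simp only [commutatorElement_def]; group
  have e2 : a * ⁅c, v⁆ * a⁻¹ = ⁅c, v⁆ := by
    rw [← h]; group
  rw [e1, e2]

/-- the commutator homomorphism `a ↦ [c, a]` of a class two group. -/
noncomputable def commHom (X : Subgroup G) (c : G)
    (hcl : ∀ v ∈ X, ∀ d ∈ X, ⁅c, v⁆ * d = d * ⁅c, v⁆) : ↥X →* G :=
  MonoidHom.mk' (fun a => ⁅c, (a : G)⁆) (by
    intro a v
    show ⁅c, ((a * v : ↥X) : G)⁆ = ⁅c, (a : G)⁆ * ⁅c, (v : G)⁆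
    rw [Subgroup.coe_mul]
    exact comm_mul_of_central c a v (hcl v v.2 a a.2))

theorem commHom_apply (X : Subgroup G) (c : G)
    (hcl : ∀ v ∈ X, ∀ d ∈ X, ⁅c, v⁆ * d = d * ⁅c, v⁆) (a : ↥X) :
    commHom X c hcl a = ⁅c, (a : G)⁆ := rfl

theorem commHom_eq_one_iff (X : Subgroup G) (c : G)
    (hcl : ∀ v ∈ X, ∀ d ∈ X, ⁅c, v⁆ * d = d * ⁅c, v⁆) (a : ↥X) :
    commHom X c hcl a = 1 ↔ c * (a : G) = (a : G) * c := by
  rw [commHom_apply, commutatorElement_eq_one_iff_mul_comm]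

end g0

section g1

variable {G : Type u} [Group G] [Finite G]

theorem zpowers_eq_of_prime_card (R : Subgroup G) (hRp : (Nat.card R).Prime) (y : G) (hy : y ∈ R)
    (hy1 : y ≠ 1) : Subgroup.zpowers y = R := by
  have hle : Subgroup.zpowers y ≤ R := Subgroup.zpowers_le.mpr hy
  apply Subgroup.eq_of_le_of_card_ge hle
  have h1 : Nat.card (Subgroup.zpowers y) ∣ Nat.card R := Subgroup.card_dvd_of_le hle
  rcases (Nat.dvd_prime hRp).mp h1 with h | h
  · exfalso
    apply hy1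
    have := Subgroup.card_eq_one.mp h
    rw [Subgroup.zpowers_eq_bot] at this
    exact this
  · rw [h]

/-- a `p`-group acting on a nontrivial `p`-group has nontrivial fixed points. -/
theorem pgroup_fixed_ne_bot (p : ℕ) [hp : Fact p.Prime] (M T : Subgroup G) (hM : IsPGroup p M)
    (hT : IsPGroup p T) (hTM : T ≤ Subgroup.normalizer (M : Set G)) (hM1 : M ≠ ⊥) :
    M ⊓ Subgroup.centralizer (T : Set G) ≠ ⊥ := by
  have hTM' : ∀ f ∈ T, ∀ m ∈ M, f * m * f⁻¹ ∈ M := by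
    intro f hf m hm
    exact (Subgroup.mem_normalizer_iff.mp (hTM hf) m).mp hm
  letI := Cfsg.Agent.Lib.Helper4.FM.conjAct T M hTM'
  have hsmul : ∀ (t : T) (m : M), ((t • m : M) : G) = (t : G) * (m : G) * (t : G)⁻¹ :=
    fun t m => rfl
  have h1 := hT.card_modEq_card_fixedPoints (α := ↥M)
  obtain ⟨k, hk⟩ := (IsPGroup.iff_card).mp hM
  have hk0 : k ≠ 0 := by
    intro h0
    rw [h0, pow_zero] at hk
    exact hM1 (Subgroup.card_eq_one.mp hk)
  have h2 : p ∣ Nat.card ↥M := by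
    rw [hk]; exact dvd_pow_self p hk0
  have h3 : p ∣ Nat.card (MulAction.fixedPoints ↥T ↥M) := by
    rw [← Nat.modEq_zero_iff_dvd]
    exact h1.symm.trans (Nat.modEq_zero_iff_dvd.mpr h2)
  have hone : (1 : ↥M) ∈ MulAction.fixedPoints ↥T ↥M := by
    intro t
    exact smul_one t
  have h4 : 1 < Nat.card (MulAction.fixedPoints ↥T ↥M) := by
    haveI : Nonempty (MulAction.fixedPoints ↥T ↥M) := ⟨⟨1, hone⟩⟩
    have hpos : 0 < Nat.card (MulAction.fixedPoints ↥T ↥M) := Nat.card_pos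
    have := Nat.le_of_dvd hpos h3
    exact lt_of_lt_of_le hp.out.one_lt this
  rw [Finite.one_lt_card_iff_nontrivial] at h4
  obtain ⟨m, hm⟩ := exists_ne (⟨1, hone⟩ : MulAction.fixedPoints ↥T ↥M)
  intro hbot
  apply hm
  have h5 : ((m : ↥M) : G) ∈ M ⊓ Subgroup.centralizer (T : Set G) := by
    refine Subgroup.mem_inf.mpr ⟨(m : ↥M).2, ?_⟩
    rw [Subgroup.mem_centralizer_iff]
    intro t ht
    have h6 := m.2 ⟨t, ht⟩
    have h7 := congrArg Subtype.val h6
    rw [hsmul] at h7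
    have h8 : t * ((m : ↥M) : G) * t⁻¹ = ((m : ↥M) : G) := h7
    calc t * ((m : ↥M) : G) = (t * ((m : ↥M) : G) * t⁻¹) * t := by group
      _ = ((m : ↥M) : G) * t := by rw [h8]
  rw [hbot, Subgroup.mem_bot] at h5
  apply Subtype.ext
  apply Subtype.ext
  exact h5

end g1

end Cfsg.Agent.Lib.Helper4.ZP
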