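import Mathlib
import Cfsg.Agent.Lib.Helper4.ZP19

set_option autoImplicit false

/-! S1904, package NCS: an element of order two of `C/N ∩ Z(X/N)`. -/

namespace Cfsg.Agent.Lib.Helper4.Ngp

open scoped commutatorElement

universe u

variable {G : Type u} [Group G]

/-- `N < C` both normalized by the `2`-group `X ≥ C`: some `c ∈ C ∖ N` has `c² ∈ N` and
`⁅c, X⁆ ⊆ N` (an element of order two of `C/N ∩ Z(X/N)`) -/
theorem exists_central_section_elt [Finite G] (X N C : Subgroup G) (hX : IsPGroup 2 X)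
    (hNC : N ≤ C) (hCX : C ≤ X) (hXN : X ≤ Subgroup.normalizer (N : Set G))
    (hXC : X ≤ Subgroup.normalizer (C : Set G)) (hne : N ≠ C) :
    ∃ c ∈ C, c ∉ N ∧ c ^ 2 ∈ N ∧ ∀ x ∈ X, ⁅c, x⁆ ∈ N := by
  classical
  have : Fact (Nat.Prime 2) := ⟨Nat.prime_two⟩
  have hNX : N ≤ X := hNC.trans hCX
  haveI hN'n : (N.subgroupOf X).Normal :=
    (Subgroup.normal_subgroupOf_iff_le_normalizer hNX).mpr hXN
  haveI hC'n : (C.subgroupOf X).Normal :=
    (Subgroup.normal_subgroupOf_iff_le_normalizer hCX).mpr hXC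
  obtain ⟨π, hπdef⟩ : ∃ π : ↥X →* ↥X ⧸ N.subgroupOf X, π = QuotientGroup.mk' (N.subgroupOf X) :=
    ⟨_, rfl⟩
  have hπker : ∀ y : ↥X, π y = 1 ↔ (y : G) ∈ N := by
    intro y
    rw [hπdef, QuotientGroup.mk'_apply, QuotientGroup.eq_one_iff, Subgroup.mem_subgroupOf]
  have hπsurj : Function.Surjective π := by rw [hπdef]; exact QuotientGroup.mk'_surjective _
  obtain ⟨M, hMdef⟩ : ∃ M : Subgroup (↥X ⧸ N.subgroupOf X), M = (C.subgroupOf X).map π :=
    ⟨_, rfl⟩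
  have hQ : IsPGroup 2 (↥X ⧸ N.subgroupOf X) := hX.to_quotient _
  have hM : IsPGroup 2 M := hQ.to_subgroup M
  have hT : IsPGroup 2 (⊤ : Subgroup (↥X ⧸ N.subgroupOf X)) := hQ.to_subgroup ⊤
  haveI hMn : M.Normal := by
    rw [hMdef]; exact Subgroup.Normal.map hC'n π hπsurj
  have hTM : (⊤ : Subgroup (↥X ⧸ N.subgroupOf X)) ≤ Subgroup.normalizer (M : Set _) := by
    rw [Subgroup.normalizer_eq_top]
  have hM1 : M ≠ ⊥ := by
    intro hbot
    apply hne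
    apply le_antisymm hNC
    intro c hc
    have h1 : π ⟨c, hCX hc⟩ ∈ M := by
      rw [hMdef]
      exact Subgroup.mem_map_of_mem π (by rw [Subgroup.mem_subgroupOf]; exact hc)
    rw [hbot, Subgroup.mem_bot, hπker] at h1
    exact h1
  have hfix := Cfsg.Agent.Lib.Helper4.ZP.pgroup_fixed_ne_bot 2 M ⊤ hM hT hTM hM1
  obtain ⟨⟨m, hm⟩, hm1⟩ := (Subgroup.ne_bot_iff_exists_ne_one).mp hfix
  have hm1' : m ≠ 1 := fun h => hm1 (Subtype.ext h)
  obtain ⟨hmM, hmC⟩ := Subgroup.mem_inf.mp hm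
  have hmcent : ∀ q : ↥X ⧸ N.subgroupOf X, q * m = m * q := fun q =>
    Subgroup.mem_centralizer_iff.mp hmC q (Subgroup.mem_top q)
  -- an element of order two in `⟨m⟩`
  obtain ⟨k, hk⟩ := (IsPGroup.iff_orderOf.mp hQ) m
  have hk0 : k ≠ 0 := by
    intro h0
    rw [h0, pow_zero, orderOf_eq_one_iff] at hk
    exact hm1' hk
  obtain ⟨k', rfl⟩ := Nat.exists_eq_succ_of_ne_zero hk0
  rw [hMdef] at hmM
  obtain ⟨c₀, hc₀C, hc₀m⟩ := Subgroup.mem_map.mp hmM
  rw [Subgroup.mem_subgroupOf] at hc₀C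
  have hm'1 : m ^ (2 ^ k') ≠ 1 := by
    apply pow_ne_one_of_lt_orderOf (by positivity)
    rw [hk, Nat.succ_eq_add_one, pow_succ]
    have : 0 < 2 ^ k' := by positivity
    omega
  have hm'2 : (m ^ (2 ^ k')) ^ 2 = 1 := by
    rw [← pow_mul, ← pow_succ, ← Nat.succ_eq_add_one, ← hk]
    exact pow_orderOf_eq_one m
  have hπc : π (c₀ ^ (2 ^ k')) = m ^ (2 ^ k') := by rw [map_pow, hc₀m]
  refine ⟨((c₀ ^ (2 ^ k') : ↥X) : G), ?_, ?_, ?_, ?_⟩
  · rw [Subgroup.coe_pow]; exact C.pow_mem hc₀C _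
  · intro h
    apply hm'1
    rw [← hπc, hπker]
    exact h
  · have h : π ((c₀ ^ (2 ^ k')) ^ 2) = 1 := by rw [map_pow, hπc, hm'2]
    rw [hπker] at h
    simpa using h
  · intro x hx
    have h : π ⁅c₀ ^ (2 ^ k'), (⟨x, hx⟩ : ↥X)⁆ = 1 := by
      rw [map_commutatorElement, hπc, commutatorElement_eq_one_iff_commute]
      have hc : Commute m (π ⟨x, hx⟩) := (hmcent _).symm
      exact hc.pow_left _
    rw [hπker] at h
    simpa [commutatorElement_def] using h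

end Cfsg.Agent.Lib.Helper4.Ngp
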