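import Mathlib
import Cfsg.Prelude.Def_Characters
import Cfsg.Agent.Lib.Helper1.SUMin.Defs
import Cfsg.Agent.Lib.Helper4.Characters
import Cfsg.Agent.Lib.Helper1.CharFound6
import Cfsg.Agent.Lib.Helper8.GL5

set_option autoImplicit false
set_option linter.unusedSectionVars false
set_option linter.style.haveILetI false

/-! PK-A1 of S2334/S2335 (helper1): the isotypic part of a character along a central parametrised
subgroup is a character; the Heisenberg bound. -/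

namespace Cfsg.Agent.Lib.Helper1.SUMin

open Cfsg
open scoped ComplexConjugate

universe u

section A1
variable {L : Type u} [Group L] [Fintype L] {S : Type u} [AddCommGroup S] [Fintype S]

theorem isoAvg_sum {ι : Type*} (ζ : S → L) (ψ : S → ℂ) (s : Finset ι) (f : ι → L → ℂ) :
    isoAvg ζ ψ (∑ i ∈ s, f i) = ∑ i ∈ s, isoAvg ζ ψ (f i) := by
  funext g
  simp only [isoAvg_apply, Finset.sum_apply, Finset.mul_sum]
  rw [Finset.sum_comm]

theorem isoAvg_smul (ζ : S → L) (ψ : S → ℂ) (c : ℂ) (f : L → ℂ) :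
    isoAvg ζ ψ (c • f) = c • isoAvg ζ ψ f := by
  funext g
  simp only [isoAvg_apply, Pi.smul_apply, smul_eq_mul, Finset.mul_sum]
  refine Finset.sum_congr rfl fun x _ => ?_
  ring

theorem zeta_zero (ζ : S → L) (hζ : ∀ a b, ζ (a + b) = ζ a * ζ b) : ζ 0 = 1 := by
  have h := hζ 0 0
  rw [add_zero] at h
  exact (mul_eq_left (a := ζ 0)).1 h.symm

/-- translation by `ζ a` multiplies the isotypic part by `ψ a` -/
theorem isoAvg_zeta_mul (ζ : S → L) (hζ : ∀ a b, ζ (a + b) = ζ a * ζ b) (ψ : AddChar S ℂ)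
    (θ : L → ℂ) (a : S) (g : L) :
    isoAvg ζ ψ θ (ζ a * g) = ψ a * isoAvg ζ ψ θ g := by
  simp only [isoAvg_apply]
  have h1 : ψ a * conj (ψ a) = 1 := by
    rw [← AddChar.map_neg_eq_conj, ← AddChar.map_add_eq_mul, add_neg_cancel,
      AddChar.map_zero_eq_one]
  have h : ∑ c : S, conj (ψ c) * θ (ζ c * (ζ a * g)) =
      ψ a * ∑ c : S, conj (ψ c) * θ (ζ c * g) := by
    rw [Finset.mul_sum]
    refine Fintype.sum_equiv (Equiv.addRight a) _ _ (fun c => ?_)
    simp only [Equiv.coe_addRight]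
    rw [hζ, mul_assoc, AddChar.map_add_eq_mul, map_mul]
    calc conj (ψ c) * θ (ζ c * (ζ a * g))
        = (ψ a * conj (ψ a)) * (conj (ψ c) * θ (ζ c * (ζ a * g))) := by rw [h1, one_mul]
      _ = ψ a * (conj (ψ c) * conj (ψ a) * θ (ζ c * (ζ a * g))) := by ring
  rw [h]
  ring

/-- the isotypic part of an irreducible character is `0` or the character itself -/
theorem isoAvg_irr {χ : L → ℂ} (hχ : IsIrrCharacter L χ) (ζ : S → L)
    (hζ : ∀ a b, ζ (a + b) = ζ a * ζ b) (hc : ∀ a g, ζ a * g = g * ζ a) (ψ : AddChar S ℂ) :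
    isoAvg ζ ψ χ = 0 ∨ isoAvg ζ ψ χ = χ := by
  classical
  let ι : Multiplicative S →* L :=
    { toFun := fun a => ζ (Multiplicative.toAdd a)
      map_one' := zeta_zero ζ hζ
      map_mul' := fun a b => hζ _ _ }
  have hι : ∀ a, ι a ∈ Subgroup.center L := by
    intro a
    rw [Subgroup.mem_center_iff]
    intro g
    exact (hc _ g).symm
  obtain ⟨μ, hμ⟩ := Cfsg.Agent.Lib.Helper8.exists_hom_central ι hι hχ
  let μ' : AddChar S ℂ := AddChar.toMonoidHomEquiv.symm ((Units.coeHom ℂ).comp μ)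
  have hμ' : ∀ a : S, μ' a = ((μ (Multiplicative.ofAdd a) : ℂˣ) : ℂ) := fun a => rfl
  have hχμ : ∀ (g : L) (c : S), χ (ζ c * g) = χ g * μ' c := by
    intro g c
    rw [hc, hμ']
    exact hμ g (Multiplicative.ofAdd c)
  have hkey : ∀ g, isoAvg ζ ψ χ g =
      ((Fintype.card S : ℂ)⁻¹ * ∑ c : S, (ψ⁻¹ * μ') c) * χ g := by
    intro g
    rw [isoAvg_apply, mul_assoc, Finset.sum_mul]
    congr 1
    refine Finset.sum_congr rfl fun c _ => ?_
    rw [hχμ, AddChar.mul_apply, AddChar.inv_apply, AddChar.map_neg_eq_conj]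
    ring
  have hS : (Fintype.card S : ℂ) ≠ 0 := Nat.cast_ne_zero.2 Fintype.card_ne_zero
  by_cases h0 : ψ⁻¹ * μ' = 0
  · right
    funext g
    rw [hkey, AddChar.sum_eq_ite, if_pos h0, inv_mul_cancel₀ hS, one_mul]
  · left
    funext g
    rw [hkey, AddChar.sum_eq_ite, if_neg h0, mul_zero, zero_mul]
    rfl

/-- the `ψ`-isotypic part of a character along a central parametrised subgroup is a character -/
theorem isCharacter_isoAvg {θ : L → ℂ} (hθ : IsCharacter L θ) (ζ : S → L)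
    (hζ : ∀ a b, ζ (a + b) = ζ a * ζ b) (hc : ∀ a g, ζ a * g = g * ζ a) (ψ : AddChar S ℂ) :
    IsCharacter L (isoAvg ζ ψ θ) := by
  classical
  haveI : Fintype (Cfsg.IrrCharacter L) := Fintype.ofFinite _
  have hcf := Cfsg.Agent.Lib.Helper4.isClassFunction_of_isCharacter hθ
  rw [Cfsg.Agent.Lib.Helper1.class_function_expansion θ hcf, isoAvg_sum]
  apply Cfsg.Agent.Lib.Helper1.isCharacter_sum
  intro χ _
  obtain ⟨m, hm⟩ := Cfsg.Agent.Lib.Helper1.classInner_char_irr_nat hθ χ.2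
  rw [isoAvg_smul, hm]
  rcases isoAvg_irr χ.2 ζ hζ hc ψ with h | h
  · rw [h, smul_zero]
    exact Cfsg.Agent.Lib.Helper1.isCharacter_zero
  · rw [h]
    exact Cfsg.Agent.Lib.Helper1.isCharacter_nsmul
      (Cfsg.Agent.Lib.Helper4.isCharacter_of_irr χ.2) m

/-- Heisenberg bound: if every element outside `ζ S` is conjugate to a translate of itself by some
`ζ c` with `ψ c ≠ 1`, the multiplicity `n` of `ψ` is `0` or satisfies `|L| ≤ |S| n²` -/
theorem heis_bound {θ : L → ℂ} (hθ : IsCharacter L θ) (ζ : S → L)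
    (hζ : ∀ a b, ζ (a + b) = ζ a * ζ b) (hc : ∀ a g, ζ a * g = g * ζ a) (ψ : AddChar S ℂ)
    (hnd : ∀ g : L, (∀ c, g ≠ ζ c) → ∃ (x : L) (c : S), x⁻¹ * g * x = g * ζ c ∧ ψ c ≠ 1) :
    ∃ n : ℕ, isoAvg ζ ψ θ 1 = n ∧ (n ≠ 0 → Fintype.card L ≤ Fintype.card S * n ^ 2) := by
  classical
  have hΘ : IsCharacter L (isoAvg ζ ψ θ) := isCharacter_isoAvg hθ ζ hζ hc ψ
  obtain ⟨n, hn⟩ := Cfsg.Agent.Lib.Helper4.isCharacter_apply_one hΘ
  refine ⟨n, hn, fun hn0 => ?_⟩
  have hcf := Cfsg.Agent.Lib.Helper4.isClassFunction_of_isCharacter hΘ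
  have hvan : ∀ g, (∀ c, g ≠ ζ c) → isoAvg ζ ψ θ g = 0 := by
    intro g hg
    obtain ⟨x, c, hx, hψc⟩ := hnd g hg
    have h1 : isoAvg ζ ψ θ (x⁻¹ * g * x) = isoAvg ζ ψ θ g := by
      have := hcf g x⁻¹
      rwa [inv_inv] at this
    rw [hx, ← hc c g, isoAvg_zeta_mul ζ hζ ψ θ c g] at h1
    have h2 : (ψ c - 1) * isoAvg ζ ψ θ g = 0 := by rw [sub_mul, one_mul, h1, sub_self]
    exact (mul_eq_zero.1 h2).resolve_left (sub_ne_zero.2 hψc)
  have hval : ∀ c, isoAvg ζ ψ θ (ζ c) = ψ c * n := by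
    intro c
    have := isoAvg_zeta_mul ζ hζ ψ θ c 1
    rw [mul_one] at this
    rw [this, hn]
  have hsq : ∀ g, isoAvg ζ ψ θ g * conj (isoAvg ζ ψ θ g) =
      if (∃ c, g = ζ c) then (n : ℂ) ^ 2 else 0 := by
    intro g
    split_ifs with h
    · obtain ⟨c, rfl⟩ := h
      have h1 : ψ c * conj (ψ c) = 1 := by
        rw [← AddChar.map_neg_eq_conj, ← AddChar.map_add_eq_mul, add_neg_cancel,
          AddChar.map_zero_eq_one]
      rw [hval, map_mul, Complex.conj_natCast]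
      calc ψ c * (n : ℂ) * (conj (ψ c) * (n : ℂ)) = (ψ c * conj (ψ c)) * (n : ℂ) ^ 2 := by ring
        _ = (n : ℂ) ^ 2 := by rw [h1, one_mul]
    · push Not at h
      rw [hvan g h, zero_mul]
  obtain ⟨k, hk⟩ := Cfsg.Agent.Lib.Helper1.classInner_char_nat hΘ hΘ
  set T : Finset L := Finset.univ.filter (fun g => ∃ c, g = ζ c) with hT
  have hinner : classInner (isoAvg ζ ψ θ) (isoAvg ζ ψ θ) =
      (Nat.card L : ℂ)⁻¹ * ((T.card : ℂ) * (n : ℂ) ^ 2) := by
    rw [Cfsg.Agent.Lib.Helper4.classInner_def]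
    congr 1
    rw [Finset.sum_congr rfl (fun g _ => hsq g), Finset.sum_ite, Finset.sum_const,
      Finset.sum_const_zero, add_zero, nsmul_eq_mul]
  have hL0 : (Nat.card L : ℂ) ≠ 0 := Nat.cast_ne_zero.2 Nat.card_pos.ne'
  have heq : k * Nat.card L = T.card * n ^ 2 := by
    have h1 : (k : ℂ) * (Nat.card L : ℂ) = (T.card : ℂ) * (n : ℂ) ^ 2 := by
      rw [← hk, hinner]
      field_simp
    exact_mod_cast h1
  have hTle : T.card ≤ Fintype.card S := by
    have hsub : T ⊆ Finset.univ.image ζ := by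
      intro g hg
      obtain ⟨c, rfl⟩ := (Finset.mem_filter.1 hg).2
      exact Finset.mem_image_of_mem ζ (Finset.mem_univ c)
    exact le_trans (Finset.card_le_card hsub) (le_trans Finset.card_image_le (le_of_eq rfl))
  have hTpos : 0 < T.card := by
    apply Finset.card_pos.2
    exact ⟨1, Finset.mem_filter.2 ⟨Finset.mem_univ _, 0, (zeta_zero ζ hζ).symm⟩⟩
  have hk1 : 1 ≤ k := by
    rcases Nat.eq_zero_or_pos k with h0 | h0
    · exfalso
      rw [h0, zero_mul] at heq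
      have : 0 < T.card * n ^ 2 := Nat.mul_pos hTpos (pow_pos (Nat.pos_of_ne_zero hn0) 2)
      omega
    · exact h0
  rw [Nat.card_eq_fintype_card] at heq
  calc Fintype.card L ≤ k * Fintype.card L := Nat.le_mul_of_pos_left _ hk1
    _ = T.card * n ^ 2 := heq
    _ ≤ Fintype.card S * n ^ 2 := Nat.mul_le_mul_right _ hTle

end A1

end Cfsg.Agent.Lib.Helper1.SUMin
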