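import Mathlib
import Cfsg.Agent.Lib.Helper4.FM6

set_option autoImplicit false

/-! Shared definitions for the Shult–Gross theorem (fixed-point-free automorphism of odd
prime-power order on a solvable group): the internal setting, the interface statements of the
module theorem and of the key theorem, and the relative commuting kernel `zkerOn`. -/

namespace Cfsg.Agent.Lib.Helper4.PP

open Cfsg.Agent.Lib.Helper4.FM

universe u

section setting

variable {Γ : Type u} [Group Γ]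

/-- the internal setting: `G ⊴ Γ` solvable, `x` a `p`-element (`p` odd) of `Γ` with no
non-identity fixed point on `G`. -/
structure PPS (G : Subgroup Γ) (x : Γ) (p : ℕ) : Prop where
  hGn : G.Normal
  hsolv : Group.IsSolvable G
  hp : p.Prime
  hp2 : p ≠ 2
  hxp : ∃ N : ℕ, x ^ (p ^ N) = 1
  hfpf : ∀ g ∈ G, x * g = g * x → g = 1

end setting

/-- the module theorem (prime-power Hall–Higman with a fixed-point-free action on `Q`), as an
interface statement. -/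
def MTStatement : Prop :=
  ∀ {A : Type u} [Group A] [Finite A] {M : Type u} [AddCommGroup M] [Finite M]
    [DistribMulAction A M] (ℓ p q n : ℕ), ℓ.Prime → p.Prime → p ≠ 2 → q.Prime → q ≠ p → q ≠ ℓ →
    p ≠ ℓ → (∀ m : M, ℓ • m = 0) →
    ∀ x : A, (∃ N : ℕ, x ^ (p ^ N) = 1) → (∀ m : M, x ^ (p ^ (n + 1)) • m = m) →
    (∀ m : M, x • m = m → m = 0) →
    ∀ Q : Subgroup A, IsPGroup q Q → (∀ u ∈ Q, x * u * x⁻¹ ∈ Q) →
    (∀ u ∈ Q, x * u = u * x → u = 1) →
    ∀ u ∈ Q, ∀ m : M, x ^ (p ^ n) • u • m = u • x ^ (p ^ n) • m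

/-- the key theorem: the element of order `p` of `⟨x⟩` (modulo the kernel) centralises `G` modulo
a nilpotent normal subgroup. -/
def KTStatement : Prop :=
  ∀ {Γ : Type u} [Group Γ] [Finite Γ] (G : Subgroup Γ) (x : Γ) (p n : ℕ), PPS G x p →
    (∀ g ∈ G, x ^ (p ^ (n + 1)) * g = g * x ^ (p ^ (n + 1))) →
    ∃ D : Subgroup Γ, D ≤ G ∧ D.Normal ∧ Group.IsNilpotent D ∧
      ∀ g ∈ G, g⁻¹ * x ^ (p ^ n) * g * (x ^ (p ^ n))⁻¹ ∈ D

section zkerOn

variable {K : Type*} [Field K] {G : Type*} [Group G] {W : Type*} [AddCommGroup W] [Module K W]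
  (σ : Representation K G W) (Q : Subgroup G) (Y : Submodule K W)

/-- the elements of `Q` commuting with all of `Q` on the submodule `Y` (`Y` is `Q`-stable). -/
def zkerOn (hY : ∀ m ∈ Q, Y ≤ Y.comap (σ m)) : Subgroup G where
  carrier := {m | m ∈ Q ∧ ∀ u ∈ Q, ∀ y ∈ Y, σ (u * m) y = σ (m * u) y}
  mul_mem' := by
    rintro a b ⟨ha, ha'⟩ ⟨hb, hb'⟩
    refine ⟨Q.mul_mem ha hb, fun u hu y hy => ?_⟩
    have hby : σ b y ∈ Y := hY b hb hy
    calc σ (u * (a * b)) y = σ (u * a) (σ b y) := by rw [← mul_assoc, rho_mul_apply]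
      _ = σ (a * u) (σ b y) := ha' u hu _ hby
      _ = σ a (σ (u * b) y) := by simp only [rho_mul_apply]
      _ = σ a (σ (b * u) y) := by rw [hb' u hu y hy]
      _ = σ (a * b * u) y := by simp only [rho_mul_apply]
  one_mem' := ⟨Q.one_mem, fun u _ y _ => by rw [mul_one, one_mul]⟩
  inv_mem' := by
    rintro a ⟨ha, ha'⟩
    refine ⟨Q.inv_mem ha, fun u hu y hy => ?_⟩
    have hy' : σ a⁻¹ y ∈ Y := hY a⁻¹ (Q.inv_mem ha) hy
    have h1 := ha' u hu _ hy'
    rw [rho_mul_apply, rho_inv_cancel, rho_mul_apply] at h1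
    -- h1 : σ u y = σ a (σ u (σ a⁻¹ y))
    calc σ (u * a⁻¹) y = σ a⁻¹ (σ a (σ u (σ a⁻¹ y))) := by
          rw [rho_inv_cancel', rho_mul_apply]
      _ = σ a⁻¹ (σ u y) := by rw [← h1]
      _ = σ (a⁻¹ * u) y := by rw [rho_mul_apply]

theorem mem_zkerOn (hY : ∀ m ∈ Q, Y ≤ Y.comap (σ m)) (m : G) :
    m ∈ zkerOn σ Q Y hY ↔ m ∈ Q ∧ ∀ u ∈ Q, ∀ y ∈ Y, σ (u * m) y = σ (m * u) y := Iff.rfl

theorem zkerOn_le (hY : ∀ m ∈ Q, Y ≤ Y.comap (σ m)) : zkerOn σ Q Y hY ≤ Q := fun _ h => h.1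

end zkerOn

end Cfsg.Agent.Lib.Helper4.PP
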