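import Mathlib
import Cfsg.Agent.Lib.Helper5.GLClass.Defs
import Cfsg.Agent.Lib.Helper5.SemisimpleExists

set_option autoImplicit false
set_option linter.style.haveILetI false

/-! PK-PAR of S2478 (helper5): counting the parameter sets `PolyD F d` and `Par F m n`. -/

namespace Cfsg.Agent.Lib.Helper5.GLClass

open Polynomial

section
variable {F : Type*} [Field F]

theorem polyD_zero : PolyD F 0 = {1} := by
  ext f
  simp only [PolyD, Set.mem_ofPred_eq, Set.mem_singleton_iff]
  constructor
  · rintro ⟨hm, hd, -⟩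
    exact Polynomial.eq_one_of_monic_natDegree_zero hm hd
  · rintro rfl
    exact ⟨monic_one, natDegree_one, by simp⟩

/-- coefficients with nonzero constant term ↦ polynomial -/
noncomputable def polyDMap (k : ℕ) (c : {c : Fin (k + 1) → F // c 0 ≠ 0}) : PolyD F (k + 1) :=
  ⟨Cfsg.Agent.Lib.Helper5.polyOf c.1, Cfsg.Agent.Lib.Helper5.polyOf_monic _,
    Cfsg.Agent.Lib.Helper5.polyOf_natDegree _, by
      have := Cfsg.Agent.Lib.Helper5.polyOf_coeff c.1 0
      rw [Fin.val_zero] at this
      rw [this]
      exact c.2⟩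

theorem polyDMap_bijective (k : ℕ) : Function.Bijective (polyDMap (F := F) k) := by
  constructor
  · intro c c' h
    apply Subtype.ext
    apply Cfsg.Agent.Lib.Helper5.polyOf_injective
    exact congrArg Subtype.val h
  · rintro ⟨f, hm, hd, h0⟩
    refine ⟨⟨fun i => f.coeff i, by simpa using h0⟩, ?_⟩
    apply Subtype.ext
    exact Cfsg.Agent.Lib.Helper5.polyOf_coeff_eq f hm hd

theorem mem_Par_succ_iff (m n : ℕ) (f : Fin (m + 1) → F[X]) :
    f ∈ Par F (m + 1) n ↔
      ((f (Fin.last m)).Monic ∧ (f (Fin.last m)).coeff 0 ≠ 0) ∧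
        (m + 1) * (f (Fin.last m)).natDegree ≤ n ∧
        (fun j : Fin m => f j.castSucc) ∈ Par F m (n - (m + 1) * (f (Fin.last m)).natDegree) := by
  simp only [Par, Set.mem_ofPred_eq]
  rw [Fin.sum_univ_castSucc, Fin.forall_fin_succ']
  simp only [Fin.val_castSucc, Fin.val_last]
  constructor
  · rintro ⟨⟨h1, h2⟩, h3⟩
    refine ⟨h2, by omega, h1, by omega⟩
  · rintro ⟨h2, h4, h1, h3⟩
    refine ⟨⟨h1, h2⟩, by omega⟩

end

section
variable {F : Type*} [Field F] [Fintype F]

theorem finite_PolyD (d : ℕ) : (PolyD F d).Finite := by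
  rcases d with _ | k
  · rw [polyD_zero]
    exact Set.finite_singleton _
  · haveI : Finite (PolyD F (k + 1)) := Finite.of_surjective _ (polyDMap_bijective k).2
    exact Set.toFinite _

theorem card_PolyD (d : ℕ) : Nat.card (PolyD F d) = cN (Fintype.card F) d := by
  rcases d with _ | k
  · rw [polyD_zero]
    simp [cN]
  · rw [← Nat.card_congr (Equiv.ofBijective _ (polyDMap_bijective (F := F) k)),
      Cfsg.Agent.Lib.Helper5.card_ne_zero_at]
    simp only [cN, Nat.add_sub_cancel, if_neg (Nat.succ_ne_zero k)]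
    rw [Nat.sub_mul, one_mul, pow_succ, mul_comm]

theorem finite_Par (m n : ℕ) : (Par F m n).Finite := by
  have hsub : Par F m n ⊆ Set.pi Set.univ (fun _ : Fin m => ⋃ d ∈ Set.Iic n, PolyD F d) := by
    intro f hf j _
    simp only [Set.mem_iUnion, Set.mem_Iic, exists_prop]
    have h1 : (j.val + 1) * (f j).natDegree ≤ n := by
      rw [← hf.2]
      exact Finset.single_le_sum (f := fun j : Fin m => (j.val + 1) * (f j).natDegree)
        (fun _ _ => Nat.zero_le _) (Finset.mem_univ j)
    refine ⟨(f j).natDegree, ?_, (hf.1 j).1, rfl, (hf.1 j).2⟩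
    nlinarith
  refine Set.Finite.subset (Set.Finite.pi (fun _ => ?_)) hsub
  exact Set.Finite.biUnion (Set.finite_Iic n) (fun d _ => finite_PolyD d)

/-- the fibre of `Par F (m+1) n` over `deg f_last = d` -/
noncomputable def parFiberEquiv (m n d : ℕ) (hd : (m + 1) * d ≤ n) :
    {f : Par F (m + 1) n // (f.1 (Fin.last m)).natDegree = d} ≃
      (PolyD F d) × (Par F m (n - (m + 1) * d)) where
  toFun f := (⟨f.1.1 (Fin.last m), by
      have h := (mem_Par_succ_iff m n f.1.1).1 f.1.2
      exact ⟨h.1.1, f.2, h.1.2⟩⟩,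
    ⟨fun j => f.1.1 j.castSucc, by
      have h := (mem_Par_succ_iff m n f.1.1).1 f.1.2
      have h2 := h.2.2
      rw [f.2] at h2
      exact h2⟩)
  invFun pg := ⟨⟨Fin.snoc (α := fun _ => F[X]) pg.2.1 pg.1.1, by
      rw [mem_Par_succ_iff]
      simp only [Fin.snoc_last, Fin.snoc_castSucc]
      obtain ⟨hm, hdeg, h0⟩ := pg.1.2
      rw [hdeg]
      exact ⟨⟨hm, h0⟩, hd, pg.2.2⟩⟩, by
      simp only [Fin.snoc_last]
      exact pg.1.2.2.1⟩
  left_inv f := by
    apply Subtype.ext
    apply Subtype.ext
    funext j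
    refine Fin.lastCases ?_ (fun i => ?_) j
    · simp only [Fin.snoc_last]
    · simp only [Fin.snoc_castSucc]
  right_inv pg := by
    apply Prod.ext
    · apply Subtype.ext
      simp only [Fin.snoc_last]
    · apply Subtype.ext
      funext j
      simp only [Fin.snoc_castSucc]

theorem card_Par (m n : ℕ) : Nat.card (Par F m n) = TN (Fintype.card F) m n := by
  induction m generalizing n with
  | zero =>
    by_cases hn : n = 0
    · subst hn
      have h1 : Par F 0 0 = Set.univ := by
        ext f
        simp [Par]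
      rw [h1]
      simp [TN]
    · have h1 : Par F 0 n = ∅ := by
        ext f
        simp only [Par, Set.mem_ofPred_eq, Set.mem_empty_iff_false, iff_false, not_and]
        intro _
        simp only [Finset.univ_eq_empty, Finset.sum_empty]
        exact fun h => hn h.symm
      rw [h1]
      simp [TN, hn]
  | succ m ih =>
    haveI : Finite (Par F (m + 1) n) := (finite_Par (m + 1) n).to_subtype
    have hb : ∀ f : Par F (m + 1) n, (f.1 (Fin.last m)).natDegree < n / (m + 1) + 1 := by
      intro f
      have h := ((mem_Par_succ_iff m n f.1).1 f.2).2.1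
      have h1 : (f.1 (Fin.last m)).natDegree ≤ n / (m + 1) := by
        calc (f.1 (Fin.last m)).natDegree
            = (m + 1) * (f.1 (Fin.last m)).natDegree / (m + 1) :=
              (Nat.mul_div_cancel_left _ (Nat.succ_pos m)).symm
          _ ≤ n / (m + 1) := Nat.div_le_div_right h
      omega
    let g : Par F (m + 1) n → Fin (n / (m + 1) + 1) :=
      fun f => ⟨(f.1 (Fin.last m)).natDegree, hb f⟩
    rw [← Nat.card_congr (Equiv.sigmaFiberEquiv g), Nat.card_sigma]
    rw [TN, ← Fin.sum_univ_eq_sum_range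
      (fun d => cN (Fintype.card F) d * TN (Fintype.card F) m (n - (m + 1) * d)) (n / (m + 1) + 1)]
    apply Finset.sum_congr rfl
    intro y _
    have hy : (m + 1) * y.val ≤ n := by
      exact le_trans (Nat.mul_le_mul_left _ (Nat.lt_succ_iff.1 y.2)) (Nat.mul_div_le n (m + 1))
    rw [← card_PolyD, ← ih, ← Nat.card_prod]
    refine Nat.card_congr ((Equiv.subtypeEquivRight (fun f => ?_)).trans
      (parFiberEquiv (F := F) m n y.val hy))
    exact Fin.ext_iff

end

end Cfsg.Agent.Lib.Helper5.GLClass
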