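import Mathlib
import Cfsg.Prelude
import Cfsg.Agent.Lib.Helper1.SUR.Defs
import Cfsg.Agent.Lib.Helper2.UT13

set_option autoImplicit false

/-! PK-W for S2282: the Weyl-type element `sgel`. -/

namespace Cfsg.Agent.Lib.Helper1.SUR

open Module Cfsg.Agent.Lib.Helper2 Cfsg.Agent.Lib.Helper2.IsomDecomp Cfsg.Agent.Lib.Helper2.UT
  Cfsg.Agent.Lib.Helper5.PSLCoset

variable {F : Type*} [Field F] {σ : F ≃+* F} {V : Type*} [AddCommGroup V] [Module F V]
  {H : V → V → F}

theorem herm_neg_right (h : IsHerm σ H) (u w : V) : H u (-w) = - H u w := by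
  rw [h.symm (-w) u, h.neg_left, map_neg, ← h.symm]

section PKW
variable (h : IsHerm σ H) {m : ℕ} {e f : ℕ → V} {d : V} (fr : Frame H m e f d)

include fr in
theorem w0_mem_isom (hm : 2 ≤ m) : w0 h fr hm ∈ isom H := by
  unfold w0
  refine (isom H).mul_mem ((isom H).mul_mem ?_ ?_) ?_
  · apply eich_mem_isom
    rw [h.neg_left, herm_neg_right h, fr.ff 1 1 (by omega) (by omega)]
    simp
  · apply eich_mem_isom
    rw [fr.ff 0 0 (by omega) (by omega)]
    simp
  · apply eich_mem_isom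
    rw [h.neg_left, herm_neg_right h, fr.ff 1 1 (by omega) (by omega)]
    simp

include fr in
theorem w1_mem_isom (hm : 2 ≤ m) {μ : F} (hμ : σ μ = -μ) : w1 h fr hm μ ∈ isom H := by
  unfold w1
  refine (isom H).mul_mem ((isom H).mul_mem ?_ ?_) ?_
  · exact tv_mem_isom h _ _ _ hμ
  · apply tv_mem_isom
    rw [map_neg, map_inv₀, hμ, inv_neg]
  · exact tv_mem_isom h _ _ _ hμ

theorem sgel_mem_isom (hm : 2 ≤ m) {μ : F} (hμ : σ μ = -μ) (hμ0 : μ ≠ 0) :
    sgel h fr hm μ ∈ isom H := by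
  unfold sgel
  exact (isom H).mul_mem (w1_mem_isom h fr hm hμ) (w0_mem_isom h fr hm)

theorem det_sgel (hm : 2 ≤ m) (μ : F) : LinearEquiv.det (sgel h fr hm μ) = 1 := by
  unfold sgel w1 w0
  simp only [map_mul, det_eich, det_tv, mul_one]

/-- vectors orthogonal to `e 0, e 1, f 0, f 1` are fixed. -/
theorem sgel_fix (hm : 2 ≤ m) (μ : F) (x : V) (h0 : H x (e 0) = 0) (h1 : H x (e 1) = 0)
    (h2 : H x (f 0) = 0) (h3 : H x (f 1) = 0) : sgel h fr hm μ x = x := by
  have h3' : H x (-(f 1)) = 0 := by rw [herm_neg_right h, h3, neg_zero]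
  unfold sgel w1 w0
  simp only [LinearEquiv.mul_apply]
  have tfix : ∀ (v : V) (c : F) (hv : H v v = 0), H x v = 0 → tv h v c hv x = x := by
    intro v c hv hxv
    rw [tv_apply, hxv, mul_zero, zero_smul, add_zero]
  rw [eich_apply_of_orth h _ _ _ _ _ x h0 h3', eich_apply_of_orth h _ _ _ _ _ x h1 h2,
    eich_apply_of_orth h _ _ _ _ _ x h0 h3', tfix _ _ _ h1, tfix _ _ _ h3, tfix _ _ _ h1]

theorem sgel_e_ge (hm : 2 ≤ m) (μ : F) (j : ℕ) (hj : 2 ≤ j) (hjm : j < m) :
    sgel h fr hm μ (e j) = e j := by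
  apply sgel_fix
  · exact fr.ee j 0 hjm (by omega)
  · exact fr.ee j 1 hjm (by omega)
  · rw [fr.ef j 0 hjm (by omega), if_neg (by omega)]
  · rw [fr.ef j 1 hjm (by omega), if_neg (by omega)]

theorem sgel_d (hm : 2 ≤ m) (μ : F) : sgel h fr hm μ d = d := by
  apply sgel_fix
  · exact fr.de 0 (by omega)
  · exact fr.de 1 (by omega)
  · exact fr.df 0 (by omega)
  · exact fr.df 1 (by omega)


theorem E1_apply (hp : H (e 0) (e 0) = 0) (hz : H (-(f 1)) (e 0) = 0) (x : V) :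
    eich h (e 0) (-(f 1)) 0 hp hz x = x - H x (e 0) • f 1 + H x (f 1) • e 0 := by
  rw [eich_apply, herm_neg_right h]
  module

theorem E2_apply (hp : H (e 1) (e 1) = 0) (hz : H (f 0) (e 1) = 0) (x : V) :
    eich h (e 1) (f 0) 0 hp hz x = x + H x (e 1) • f 0 - H x (f 0) • e 1 := by
  rw [eich_apply]
  module

theorem w0_e_one (hm : 2 ≤ m) : w0 h fr hm (e 1) = e 0 := by
  have ee00 := fr.ee 0 0 (by omega) (by omega)
  have ee01 := fr.ee 0 1 (by omega) (by omega)
  have ee10 := fr.ee 1 0 (by omega) (by omega)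
  have ee11 := fr.ee 1 1 (by omega) (by omega)
  have ef00 := fr.ef 0 0 (by omega) (by omega)
  have ef01 := fr.ef 0 1 (by omega) (by omega)
  have ef10 := fr.ef 1 0 (by omega) (by omega)
  have ef11 := fr.ef 1 1 (by omega) (by omega)
  simp only [if_true, if_false, Nat.zero_ne_one, Nat.one_ne_zero] at ef00 ef01 ef10 ef11
  unfold w0
  simp only [LinearEquiv.mul_apply]
  have s1 : eich h (e 0) (-(f 1)) 0 (fr.ee 0 0 (by omega) (by omega))
      (by rw [h.neg_left, fr.fe 1 0 (by omega) (by omega), if_neg (by omega), neg_zero]) (e 1)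
      = e 1 + e 0 := by
    rw [E1_apply, ee10, ef11]; module
  have s2 : eich h (e 1) (f 0) 0 (fr.ee 1 1 (by omega) (by omega))
      (by rw [fr.fe 0 1 (by omega) (by omega), if_neg (by omega)]) (e 1 + e 0) = e 0 := by
    rw [E2_apply, h.add_left, h.add_left, ee11, ee01, ef10, ef00]; module
  have s3 : eich h (e 0) (-(f 1)) 0 (fr.ee 0 0 (by omega) (by omega))
      (by rw [h.neg_left, fr.fe 1 0 (by omega) (by omega), if_neg (by omega), neg_zero]) (e 0)
      = e 0 := by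
    rw [E1_apply, ee00, ef01]; module
  rw [s1, s2, s3]

theorem w0_e_zero (hm : 2 ≤ m) : w0 h fr hm (e 0) = -(e 1) := by
  have ee00 := fr.ee 0 0 (by omega) (by omega)
  have ee01 := fr.ee 0 1 (by omega) (by omega)
  have ee10 := fr.ee 1 0 (by omega) (by omega)
  have ee11 := fr.ee 1 1 (by omega) (by omega)
  have ef00 := fr.ef 0 0 (by omega) (by omega)
  have ef01 := fr.ef 0 1 (by omega) (by omega)
  have ef10 := fr.ef 1 0 (by omega) (by omega)
  have ef11 := fr.ef 1 1 (by omega) (by omega)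
  simp only [if_true, if_false, Nat.zero_ne_one, Nat.one_ne_zero] at ef00 ef01 ef10 ef11
  unfold w0
  simp only [LinearEquiv.mul_apply]
  have s1 : eich h (e 0) (-(f 1)) 0 (fr.ee 0 0 (by omega) (by omega))
      (by rw [h.neg_left, fr.fe 1 0 (by omega) (by omega), if_neg (by omega), neg_zero]) (e 0)
      = e 0 := by
    rw [E1_apply, ee00, ef01]; module
  have s2 : eich h (e 1) (f 0) 0 (fr.ee 1 1 (by omega) (by omega))
      (by rw [fr.fe 0 1 (by omega) (by omega), if_neg (by omega)]) (e 0) = e 0 - e 1 := by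
    rw [E2_apply, ee01, ef00]; module
  have s3 : eich h (e 0) (-(f 1)) 0 (fr.ee 0 0 (by omega) (by omega))
      (by rw [h.neg_left, fr.fe 1 0 (by omega) (by omega), if_neg (by omega), neg_zero])
      (e 0 - e 1) = -(e 1) := by
    rw [E1_apply, h.sub_left, h.sub_left, ee00, ee10, ef01, ef11]; module
  rw [s1, s2, s3]

theorem w1_e_zero (hm : 2 ≤ m) (μ : F) : w1 h fr hm μ (e 0) = e 0 := by
  have ee01 := fr.ee 0 1 (by omega) (by omega)
  have ef01 := fr.ef 0 1 (by omega) (by omega)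
  simp only [if_false, Nat.zero_ne_one] at ef01
  unfold w1
  simp only [LinearEquiv.mul_apply]
  rw [tv_apply h (e 1) μ _ (e 0), ee01, mul_zero, zero_smul, add_zero,
    tv_apply h (f 1) (-μ⁻¹) _ (e 0), ef01, mul_zero, zero_smul, add_zero,
    tv_apply h (e 1) μ _ (e 0), ee01, mul_zero, zero_smul, add_zero]

theorem w1_e_one (hm : 2 ≤ m) {μ : F} (hμ0 : μ ≠ 0) : w1 h fr hm μ (e 1) = -(μ⁻¹ • f 1) := by
  have ee11 := fr.ee 1 1 (by omega) (by omega)
  have ef11 := fr.ef 1 1 (by omega) (by omega)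
  have fe11 := fr.fe 1 1 (by omega) (by omega)
  simp only [if_true] at ef11 fe11
  unfold w1
  simp only [LinearEquiv.mul_apply]
  rw [tv_apply h (e 1) μ _ (e 1), ee11, mul_zero, zero_smul, add_zero,
    tv_apply h (f 1) (-μ⁻¹) _ (e 1), ef11, mul_one, map_add, map_smul,
    tv_apply h (e 1) μ _ (e 1), ee11, mul_zero, zero_smul, add_zero,
    tv_apply h (e 1) μ _ (f 1), fe11, mul_one, smul_add, smul_smul, neg_mul,
    inv_mul_cancel₀ hμ0]
  module

theorem sgel_e_one (hm : 2 ≤ m) {μ : F} (hμ0 : μ ≠ 0) : sgel h fr hm μ (e 1) = e 0 := by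
  unfold sgel
  rw [LinearEquiv.mul_apply, w0_e_one, w1_e_zero]

theorem sgel_e_zero (hm : 2 ≤ m) {μ : F} (hμ0 : μ ≠ 0) : sgel h fr hm μ (e 0) = μ⁻¹ • f 1 := by
  unfold sgel
  rw [LinearEquiv.mul_apply, w0_e_zero, map_neg, w1_e_one h fr hm hμ0, neg_neg]

end PKW

end Cfsg.Agent.Lib.Helper1.SUR
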