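import Mathlib
import Cfsg.Agent.Lib.Helper1.SUMin.GeoDefs

set_option autoImplicit false

/-! PK-G2abc of S2334/S2335 (helper1): elementary facts about the Heisenberg groups `Qc i`. -/

namespace Cfsg.Agent.Lib.Helper1.SUMin

open Module Cfsg.Agent.Lib.Helper2 Cfsg.Agent.Lib.Helper2.IsomDecomp Cfsg.Agent.Lib.Helper2.UT
  Cfsg.Agent.Lib.Helper5.PSLCoset Cfsg.Agent.Lib.Helper1.SUR Cfsg.Agent.Lib.Helper1.SUT

section G2
variable {F : Type*} [Field F] {σ : F ≃+* F} {V : Type*} [AddCommGroup V] [Module F V]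
  {H : V → V → F} (h : IsHerm σ H) {m : ℕ} {e f : ℕ → V} (hp : HPairs H m e f)
  (hee : ∀ i j, H (e i) (e j) = 0)

/-- `Q_i` centralises the root groups `zc j`, `j ≤ i` -/
theorem Qc_comm_zc_le (i j : ℕ) (hj : j ≤ i) {g : V ≃ₗ[F] V} (hg : g ∈ Qc h hee f i) (a : F) :
    g * zc h hee j a = zc h hee j a * g := by
  obtain ⟨z, c, hz, hpz, -, rfl⟩ := (mem_Qc h hee).1 hg
  have hzj : H z (e j) = 0 := (hpz j hj).1
  have hjz : H (e j) z = 0 := by rw [h.symm z (e j), hzj, map_zero]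
  apply LinearEquiv.ext
  intro x
  simp only [LinearEquiv.mul_apply, zc, tv_apply, eich_apply, h.add_left, h.sub_left,
    h.smul_left, hee, hzj, hjz, mul_zero, add_zero, sub_zero]
  module

/-- `Q_i` centralises the earlier root groups (`g e_j = e_j`, then `conj_tv`) -/
theorem Qc_comm_zc (i j : ℕ) (hj : j < i) {g : V ≃ₗ[F] V} (hg : g ∈ Qc h hee f i) (a : F) :
    g * zc h hee j a = zc h hee j a * g :=
  Qc_comm_zc_le h hee i j hj.le hg a

/-- `tv(e_i, c) = E_{e_i}(0, c)` -/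
theorem zc_mem_Qc (i : ℕ) {c : F} (hc : σ c = -c) : zc h hee i c ∈ Qc h hee f i := by
  rw [mem_Qc]
  refine ⟨0, c, h.zero_left _, perpC_zero h f i, ?_, ?_⟩
  · rw [hc, h.zero_left, add_neg_cancel, add_zero]
  · exact (eich_zero_eq_tv h (e i) c (hee i i)).symm

theorem Qc_central (i : ℕ) {g : V ≃ₗ[F] V} (hg : g ∈ Qc h hee f i) (c : F) :
    g * zc h hee i c = zc h hee i c * g :=
  Qc_comm_zc_le h hee i i le_rfl hg c

end G2

end Cfsg.Agent.Lib.Helper1.SUMin
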