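import Mathlib

/-! Field lemmas for S2283 (package PKG-D of helper2): an element of order `q+1` in a field with
`q²` elements, and the subring generated by its cube. -/

namespace Cfsg.Agent.Lib.SU3Fld

theorem exists_rho {F : Type*} [Field F] [Fintype F] {q : ℕ} (hF : Fintype.card F = q ^ 2) :
    ∃ ρ : F, orderOf ρ = q + 1 := by
  classical
  have hq2 : 2 ≤ q := by
    by_contra h
    have h1 : 1 < Fintype.card F := Fintype.one_lt_card
    interval_cases q <;> omega
  obtain ⟨g, hg⟩ := IsCyclic.exists_ofOrder_eq_natCard (α := Fˣ)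
  have hcard : Nat.card Fˣ = q ^ 2 - 1 := by
    rw [Nat.card_eq_fintype_card, Fintype.card_units, hF]
  have hfac : q ^ 2 - 1 = (q - 1) * (q + 1) := by
    obtain ⟨m, rfl⟩ : ∃ m, q = m + 2 := ⟨q - 2, by omega⟩
    have : (m + 2) ^ 2 = (m + 1) * (m + 3) + 1 := by ring
    rw [this]
    simp
  refine ⟨((g ^ (q - 1) : Fˣ) : F), ?_⟩
  rw [orderOf_units, orderOf_pow' g (by omega : q - 1 ≠ 0), hg, hcard, hfac,
    Nat.gcd_mul_right_left]
  exact Nat.mul_div_cancel_left _ (by omega)


/-- the numeric core of `closure_cube`. -/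
theorem closure_cube_num (q k r : ℕ) (hq : 3 ≤ q) (h5 : q ≠ 5) (h8 : q ≠ 8) (hk : 2 ≤ k)
    (hkr : k ^ r = q ^ 2) (hr : 2 ≤ r) (hdiv : (q + 1) / Nat.gcd (q + 1) 3 ∣ k - 1) : False := by
  have hk1 : 0 < k - 1 := by omega
  rcases Nat.coprime_or_dvd_of_prime Nat.prime_three (q + 1) with hc | hd
  · -- gcd = 1
    have hg : Nat.gcd (q + 1) 3 = 1 := Nat.Coprime.symm hc
    rw [hg, Nat.div_one] at hdiv
    have hle : q + 1 ≤ k - 1 := Nat.le_of_dvd hk1 hdiv
    have hk2 : q + 2 ≤ k := by omega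
    have h1 : k ^ 2 ≤ k ^ r := Nat.pow_le_pow_right (by omega) hr
    have h2 : (q + 2) ^ 2 ≤ k ^ 2 := Nat.pow_le_pow_left hk2 2
    nlinarith
  · obtain ⟨m, hm⟩ := hd
    have hg : Nat.gcd (q + 1) 3 = 3 := Nat.gcd_eq_right ⟨m, by rw [hm]⟩
    rw [hg, hm, Nat.mul_div_cancel_left m (by norm_num : 0 < 3)] at hdiv
    have hm2 : 2 ≤ m := by omega
    have hmle : m ≤ k - 1 := Nat.le_of_dvd hk1 hdiv
    rcases Nat.lt_or_ge r 3 with hr3 | hr3
    · -- r = 2
      have hr2 : r = 2 := by omega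
      rw [hr2] at hkr
      have hkq : k = q := Nat.pow_left_injective (by norm_num : 2 ≠ 0) hkr
      rw [hkq] at hdiv
      have hq1 : q - 1 = 3 * m - 2 := by omega
      rw [hq1] at hdiv
      have hd2 : m ∣ 2 := by
        have h3 : m ∣ 3 * m := Dvd.intro_left 3 rfl
        have h4 : 3 * m - (3 * m - 2) = 2 := by omega
        rw [← h4]
        exact Nat.dvd_sub h3 hdiv
      have hm_le : m ≤ 2 := Nat.le_of_dvd (by norm_num) hd2
      have hm_eq : m = 2 := by omega
      omega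
    · -- r ≥ 3
      have h1 : k ^ 3 ≤ k ^ r := Nat.pow_le_pow_right (by omega) hr3
      have hk3 : m + 1 ≤ k := by omega
      have h2 : (m + 1) ^ 3 ≤ k ^ 3 := Nat.pow_le_pow_left hk3 3
      have hq' : q = 3 * m - 1 := by omega
      have h3 : (m + 1) ^ 3 ≤ q ^ 2 := by rw [← hkr]; exact le_trans h2 h1
      have hm3 : m ≠ 3 := by
        intro h
        apply h8
        omega
      -- m (m-3)^2 ≤ 0
      obtain ⟨qq, rfl⟩ : ∃ qq, q = qq := ⟨q, rfl⟩
      have hq3 : (q : ℤ) = 3 * m - 1 := by omega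
      have h3' : ((m : ℤ) + 1) ^ 3 ≤ (q : ℤ) ^ 2 := by exact_mod_cast h3
      rw [hq3] at h3'
      have h4 : (m : ℤ) * ((m : ℤ) - 3) ^ 2 ≤ 0 := by nlinarith
      have hm3' : ((m : ℤ) - 3) ^ 2 ≥ 1 := by
        have : (m : ℤ) ≠ 3 := by exact_mod_cast hm3
        rcases lt_or_gt_of_ne this with h | h
        · nlinarith
        · nlinarith
      have hmpos : (m : ℤ) ≥ 2 := by exact_mod_cast hm2
      nlinarith


theorem closure_cube {F : Type*} [Field F] [Fintype F] {q : ℕ} (hF : Fintype.card F = q ^ 2)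
    (hq : 3 ≤ q) (h5 : q ≠ 5) (h8 : q ≠ 8) {ρ : F} (hρ : orderOf ρ = q + 1) (S : Subring F)
    (hS : ρ ^ 3 ∈ S) : S = ⊤ := by
  classical
  have hN : 9 ≤ Fintype.card F := by rw [hF]; nlinarith
  have hinv : ∀ x ∈ S, x⁻¹ ∈ S := by
    intro x hx
    by_cases hx0 : x = 0
    · rw [hx0, inv_zero]; exact S.zero_mem
    · have h1 : x ^ (Fintype.card F - 1) = 1 := FiniteField.pow_card_sub_one_eq_one x hx0
      have h2 : x⁻¹ = x ^ (Fintype.card F - 2) := by
        apply inv_eq_of_mul_eq_one_right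
        rw [← pow_succ', show Fintype.card F - 2 + 1 = Fintype.card F - 1 by omega, h1]
      rw [h2]
      exact pow_mem hx _
  let K : Subfield F := { S with inv_mem' := hinv }
  have hKS : ∀ x, x ∈ K ↔ x ∈ S := fun x => Iff.rfl
  haveI : Fintype K := Fintype.ofFinite K
  have hkr : Fintype.card K ^ Module.finrank K F = q ^ 2 := by
    rw [← hF]
    exact (Module.card_eq_pow_finrank (K := K) (V := F)).symm
  have hk2 : 2 ≤ Fintype.card K := Fintype.one_lt_card
  have hρ0 : ρ ≠ 0 := by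
    intro h
    rw [h, orderOf_zero] at hρ
    omega
  -- the order of ρ^3 divides card K - 1
  have hdiv : (q + 1) / Nat.gcd (q + 1) 3 ∣ Fintype.card K - 1 := by
    rw [← hρ, ← orderOf_pow' ρ (by norm_num : 3 ≠ 0)]
    apply orderOf_dvd_of_pow_eq_one
    have hy0 : (⟨ρ ^ 3, hS⟩ : K) ≠ 0 := by
      intro h
      have := congrArg (fun z : K => (z : F)) h
      simp only [ZeroMemClass.coe_zero] at this
      exact hρ0 (pow_eq_zero_iff (by norm_num) |>.mp this)
    have h1 := FiniteField.pow_card_sub_one_eq_one (⟨ρ ^ 3, hS⟩ : K) hy0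
    have := congrArg (fun z : K => (z : F)) h1
    simpa using this
  have hrpos : 0 < Module.finrank K F := Module.finrank_pos
  rcases Nat.lt_or_ge (Module.finrank K F) 2 with hr | hr
  · have hr1 : Module.finrank K F = 1 := by omega
    rw [hr1, pow_one, ← hF] at hkr
    -- card K = card F, so K = ⊤
    rw [Subring.eq_top_iff']
    intro x
    have hbij : Function.Bijective (fun z : K => (z : F)) := by
      rw [Fintype.bijective_iff_injective_and_card]
      exact ⟨Subtype.val_injective, hkr⟩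
    obtain ⟨z, hz⟩ := hbij.2 x
    rw [← hz]
    exact (hKS _).mp z.2
  · exact (closure_cube_num q (Fintype.card K) (Module.finrank K F) hq h5 h8 hk2 hkr hr hdiv).elim

end Cfsg.Agent.Lib.SU3Fld
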