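import Mathlib
import Cfsg.Prelude
import Cfsg.Agent.Lib.Helper1.SUR.Defs
import Cfsg.Agent.Lib.Helper2.UT13

set_option autoImplicit false

/-! PK-END for S2282: a subgroup containing the full unipotent radical `Q_{e0}` and an isometry
moving `e0` off its orthogonal contains all unitary transvections. -/

namespace Cfsg.Agent.Lib.Helper1.SUR

open Module Cfsg.Agent.Lib.Helper2 Cfsg.Agent.Lib.Helper2.IsomDecomp Cfsg.Agent.Lib.Helper2.UT
  Cfsg.Agent.Lib.Helper5.PSLCoset

variable {F : Type*} [Field F] {σ : F ≃+* F} {V : Type*} [AddCommGroup V] [Module F V]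
  {H : V → V → F}

theorem tv_smul_eq (h : IsHerm σ H) (v : V) (l a : F) (hv : H v v = 0) (hv' : H (l • v) (l • v) = 0) :
    tv h (l • v) a hv' = tv h v (a * l * σ l) hv := by
  apply LinearEquiv.ext
  intro x
  rw [tv_apply, tv_apply, h.smul_right, smul_smul]
  congr 1
  ring

theorem tv_congr' (h : IsHerm σ H) {v v' : V} {a a' : F} (hv : H v v = 0) (hvv : v = v')
    (haa : a = a') : tv h v a hv = tv h v' a' (by rw [← hvv]; exact hv) := by
  subst hvv haa
  rfl

theorem tv_zero_vec (h : IsHerm σ H) (a : F) (hv : H (0 : V) 0 = 0) : tv h (0 : V) a hv = 1 := by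
  apply LinearEquiv.ext
  intro x
  rw [tv_apply]
  simp

theorem tv_zero_coef (h : IsHerm σ H) (v : V) (hv : H v v = 0) : tv h v 0 hv = 1 := by
  apply LinearEquiv.ext
  intro x
  rw [tv_apply]
  simp

theorem endgame (hσ : ∀ a : F, σ (σ a) = a) (h : IsHerm σ H)
    (hnd : ∀ v, (∀ w, H v w = 0) → v = 0) (htr : ∀ b : F, σ b = b → ∃ c : F, c + σ c = b)
    (K : Subgroup (V ≃ₗ[F] V)) (e0 : V) (he0 : H e0 e0 = 0)
    (hQ : ∀ (z : V) (c : F) (hz : H z e0 = 0), c + σ c + H z z = 0 → eich h e0 z c he0 hz ∈ K)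
    (g : V ≃ₗ[F] V) (hgK : g ∈ K) (hg : g ∈ isom H) (hge : H (g e0) e0 ≠ 0) :
    T h ≤ K := by
  set p0 := g e0 with hp0
  set η := H p0 e0 with hη
  have hp0iso : H p0 p0 = 0 := by rw [hp0, hg, he0]
  have hHH : ∀ v : V, σ (H v v) = H v v := fun v => (h.symm v v).symm
  -- (a),(b): transvections at e0 and p0
  have hA : ∀ a : F, σ a = -a → tv h e0 a he0 ∈ K := by
    intro a ha
    rw [← eich_zero_eq_tv]
    apply hQ
    rw [h.zero_left, ha]
    ring
  have hB : ∀ a : F, σ a = -a → tv h p0 a hp0iso ∈ K := by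
    intro a ha
    have h1 : g * tv h e0 a he0 * g⁻¹ ∈ K := K.mul_mem (K.mul_mem hgK (hA a ha)) (K.inv_mem hgK)
    rw [conj_tv h hg] at h1
    exact h1
  -- (c): isotropic vectors not orthogonal to e0
  have hC : ∀ (r : V) (hr : H r r = 0), H r e0 ≠ 0 → ∀ a : F, σ a = -a → tv h r a hr ∈ K := by
    intro r hr hre a ha
    set l := η / H r e0 with hl
    have hl0 : l ≠ 0 := div_ne_zero hge hre
    have hr' : H (l • r) (l • r) = 0 := by rw [h.smul_left, h.smul_right, hr, mul_zero, mul_zero]
    have hr'e : H (l • r) e0 = η := by rw [h.smul_left, hl, div_mul_cancel₀ _ hre]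
    -- it suffices to treat r' = l • r
    suffices hs : ∀ a' : F, σ a' = -a' → tv h (l • r) a' hr' ∈ K by
      have hls : σ (l * σ l) = l * σ l := by rw [map_mul, hσ, mul_comm]
      have hσl0 : σ l ≠ 0 := by
        intro h0
        apply hl0
        have := congrArg σ h0
        rwa [hσ, map_zero] at this
      have hls0 : l * σ l ≠ 0 := mul_ne_zero hl0 hσl0
      have := hs (a / (l * σ l)) (by rw [map_div₀, hls, ha, neg_div])
      rw [tv_smul_eq h r l _ hr] at this
      have e : a / (l * σ l) * l * σ l = a := by field_simp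
      rwa [tv_congr' h hr rfl e] at this
    intro a' ha'
    -- the Eichler transformation moving p0 to r'
    set z := η⁻¹ • (l • r - p0) with hz
    have hze : H z e0 = 0 := by
      rw [hz, h.smul_left, h.sub_left, hr'e, ← hη, sub_self, mul_zero]
    set c := H p0 z / η with hc
    have hcond : c + σ c + H z z = 0 := by
      have hση : σ η ≠ 0 := by
        intro h0
        apply hge
        have := congrArg σ h0
        rwa [hσ, map_zero] at this
      have e1 : H p0 z = (σ η)⁻¹ * H p0 (l • r) := by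
        rw [hz, h.smul_right, h.sub_right, hp0iso, sub_zero, map_inv₀]
      have e2 : H z z = (η * σ η)⁻¹ * (-(H (l • r) p0) - H p0 (l • r)) := by
        rw [hz, h.smul_left, h.smul_right, h.sub_left, h.sub_right, h.sub_right, hr', hp0iso,
          map_inv₀, mul_inv]
        ring
      have e3 : σ (H p0 (l • r)) = H (l • r) p0 := (h.symm _ _).symm
      rw [hc, e2, map_div₀, e1, map_mul, map_inv₀, hσ, e3]
      field_simp
      ring
    have hE : eich h e0 z c he0 hze ∈ K := hQ z c hze hcond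
    have hEi : eich h e0 z c he0 hze ∈ isom H := eich_mem_isom h e0 z c he0 hze hcond
    have hEp : eich h e0 z c he0 hze p0 = l • r := by
      rw [eich_apply, ← hη, hz, smul_smul, mul_inv_cancel₀ hge, one_smul, hc, div_mul_cancel₀ _ hge]
      rw [← hz]
      module
    have h1 : eich h e0 z c he0 hze * tv h p0 a' hp0iso * (eich h e0 z c he0 hze)⁻¹ ∈ K :=
      K.mul_mem (K.mul_mem hE (hB a' ha')) (K.inv_mem hE)
    rw [conj_tv h hEi] at h1
    rwa [tv_congr' h _ hEp rfl] at h1
  -- the generators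
  unfold T
  rw [Subgroup.closure_le]
  rintro t ⟨v, a, hv, ha, rfl⟩
  by_cases hve : H v e0 ≠ 0
  · exact hC v hv hve a ha
  push Not at hve
  by_cases hv0 : v = 0
  · subst hv0
    rw [tv_zero_vec]
    exact K.one_mem
  by_cases ha0 : a = 0
  · subst ha0
    rw [tv_zero_coef]
    exact K.one_mem
  -- (d): v ⟂ e0, v ≠ 0; find w
  have hev : H e0 v = 0 := by rw [h.symm v e0, hve, map_zero]
  obtain ⟨w, hw, hwe, hwv⟩ : ∃ w : V, H w w = 0 ∧ H w e0 ≠ 0 ∧ H w v ≠ 0 := by
    by_cases hpv : H p0 v ≠ 0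
    · exact ⟨p0, hp0iso, hge, hpv⟩
    push Not at hpv
    obtain ⟨y, hy⟩ : ∃ y, H y v ≠ 0 := by
      by_contra hcon
      push Not at hcon
      apply hv0
      apply hnd
      intro w
      rw [h.symm w v, hcon w, map_zero]
    set y' := y - (H y e0 / η) • p0 with hy'
    have hy'e : H y' e0 = 0 := by
      rw [hy', h.sub_left, h.smul_left, ← hη, div_mul_cancel₀ _ hge, sub_self]
    have hy'v : H y' v ≠ 0 := by
      rw [hy', h.sub_left, h.smul_left, hpv, mul_zero, sub_zero]
      exact hy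
    obtain ⟨c, hc⟩ := htr (-(H y' y')) (by rw [map_neg, hHH])
    have hcond : c + σ c + H y' y' = 0 := by rw [hc]; ring
    have hEi : eich h e0 y' c he0 hy'e ∈ isom H := eich_mem_isom h e0 y' c he0 hy'e hcond
    have hEe : eich h e0 y' c he0 hy'e e0 = e0 := by
      apply eich_apply_of_orth h e0 y' c he0 hy'e e0 he0
      rw [h.symm y' e0, hy'e, map_zero]
    refine ⟨eich h e0 y' c he0 hy'e p0, by rw [hEi, hp0iso], ?_, ?_⟩
    · have := hEi p0 e0
      rw [hEe] at this
      rw [this]
      exact hge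
    · rw [eich_apply, ← hη]
      simp only [h.add_left, h.sub_left, h.smul_left, hpv, hev, mul_zero, zero_add, sub_zero,
        add_zero]
      exact mul_ne_zero hge hy'v
  -- move v by tv w a
  have hW : tv h w a hw ∈ K := hC w hw hwe a ha
  have hWi : tv h w a hw ∈ isom H := tv_mem_isom h w a hw ha
  have hv'' : H (tv h w a hw v) (tv h w a hw v) = 0 := by rw [hWi, hv]
  have hv''e : H (tv h w a hw v) e0 ≠ 0 := by
    rw [tv_apply, h.add_left, h.smul_left, hve, zero_add]
    have hvw : H v w ≠ 0 := by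
      rw [h.symm w v]
      intro h0
      apply hwv
      have := congrArg σ h0
      rwa [hσ, map_zero] at this
    exact mul_ne_zero (mul_ne_zero ha0 hvw) hwe
  have h2 := hC _ hv'' hv''e a ha
  have h3 : (tv h w a hw)⁻¹ * tv h (tv h w a hw v) a hv'' * ((tv h w a hw)⁻¹)⁻¹ ∈ K :=
    K.mul_mem (K.mul_mem (K.inv_mem hW) h2) (K.inv_mem (K.inv_mem hW))
  rw [conj_tv h ((isom H).inv_mem hWi)] at h3
  have e : (tv h w a hw)⁻¹ (tv h w a hw v) = v := by
    rw [← LinearEquiv.mul_apply, inv_mul_cancel]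
    rfl
  rwa [tv_congr' h _ e rfl] at h3

end Cfsg.Agent.Lib.Helper1.SUR
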