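import Mathlib
import Cfsg.Agent.Lib.Lead.SUTN

set_option autoImplicit false

/-!
PK-TOR of S2412: the torus element `tor β = nW 0 β * (nW 0 1)⁻¹`.
-/

namespace Cfsg.Agent.Lib.Helper1.SUT

open Module Cfsg.Agent.Lib.Helper2 Cfsg.Agent.Lib.Helper2.IsomDecomp Cfsg.Agent.Lib.Helper2.UT
  Cfsg.Agent.Lib.Helper5.PSLCoset Cfsg.Agent.Lib.Helper1.SUR

variable {F : Type*} [Field F] {σ : F ≃+* F} {V : Type*} [AddCommGroup V] [Module F V]
  {H : V → V → F}

section PKTOR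
variable (h : IsHerm σ H) {m : ℕ} {e f : ℕ → V} (hp : HPairs H m e f)

theorem tor_mem_isom (β : F) : tor h hp β ∈ isom H :=
  mul_mem (nW_mem_isom h hp 0 β) (inv_mem (nW_mem_isom h hp 0 1))

theorem det_tor (β : F) : LinearEquiv.det (tor h hp β) = 1 := by
  unfold tor
  rw [map_mul, map_inv, det_nW, det_nW, inv_one, one_mul]

theorem tor_apply (β : F) (x : V) :
    tor h hp β x = nW h hp 0 β ((nW h hp 0 1)⁻¹ x) := rfl

theorem nW_inv_apply_of_eq {k : ℕ} {β : F} {x y : V} (hxy : nW h hp k β x = y) :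
    (nW h hp k β)⁻¹ y = x := by
  rw [← hxy]
  exact (nW h hp k β).symm_apply_apply x

theorem tor_e_zero (hm : 2 ≤ m) {β : F} (hβ : β ≠ 0) : tor h hp β (e 0) = σ β • e 0 := by
  have h1 : nW h hp 0 1 (e (0 + 1)) = e 0 := by
    rw [nW_e_succ h hp 0 (by omega) one_ne_zero, map_one, one_smul]
  rw [tor_apply, nW_inv_apply_of_eq h hp h1, nW_e_succ h hp 0 (by omega) hβ]

theorem tor_e_one (hm : 2 ≤ m) {β : F} (hβ : β ≠ 0) : tor h hp β (e 1) = (σ β)⁻¹ • e 1 := by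
  have h1 : nW h hp 0 1 (-e 0) = e 1 := by
    rw [map_neg, nW_e h hp 0 (by omega) one_ne_zero, map_one, inv_one, neg_smul, one_smul,
      neg_neg]
  rw [tor_apply, nW_inv_apply_of_eq h hp h1, map_neg, nW_e h hp 0 (by omega) hβ, neg_smul,
    neg_neg]

theorem tor_f_zero (hm : 2 ≤ m) {β : F} (hβ : β ≠ 0) : tor h hp β (f 0) = β⁻¹ • f 0 := by
  have h1 : nW h hp 0 1 (f (0 + 1)) = f 0 := by
    rw [nW_f_succ h hp 0 (by omega) one_ne_zero, inv_one, one_smul]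
  rw [tor_apply, nW_inv_apply_of_eq h hp h1, nW_f_succ h hp 0 (by omega) hβ]

theorem tor_f_one (hm : 2 ≤ m) {β : F} (hβ : β ≠ 0) : tor h hp β (f 1) = β • f 1 := by
  have h1 : nW h hp 0 1 (-f 0) = f 1 := by
    rw [map_neg, nW_f h hp 0 (by omega) one_ne_zero, neg_smul, one_smul, neg_neg]
  rw [tor_apply, nW_inv_apply_of_eq h hp h1, map_neg, nW_f h hp 0 (by omega) hβ, neg_smul,
    neg_neg]

theorem tor_fix (β : F) (x : V) (h1 : H x (e 0) = 0) (h2 : H x (e 1) = 0)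
    (h3 : H x (f 0) = 0) (h4 : H x (f 1) = 0) : tor h hp β x = x := by
  have hx : nW h hp 0 1 x = x := nW_fix h hp 0 1 x h1 h2 h3 h4
  rw [tor_apply, nW_inv_apply_of_eq h hp hx]
  exact nW_fix h hp 0 β x h1 h2 h3 h4

end PKTOR

end Cfsg.Agent.Lib.Helper1.SUT
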