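import Mathlib

/-!
# Abelian sections of a group as honest modules

`Sec X U L` : `U ≤ X` are subgroups of `T` with `X/U` abelian, both normalized by the subgroup `L`.
Then `h.M := Additive (X ⧸ U)` is an additive commutative group with a `DistribMulAction` of `↥L`
(by conjugation), `h.cls x hx : h.M` is the class of `x ∈ X`, and `h.pre B` is the preimage in `X` of
an additive subgroup `B` of `h.M`.
-/

set_option autoImplicit false
set_option linter.unusedSectionVars false
set_option linter.unusedVariables false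
set_option linter.style.haveILetI false

namespace Cfsg.Agent.Lib.Helper4.SecMod

universe w

variable {T : Type w} [Group T]

/-- `X/U` is an abelian section of `T` normalized by the subgroup `L`. -/
structure Sec (X U L : Subgroup T) : Prop where
  le : U ≤ X
  comm : ∀ x ∈ X, ∀ y ∈ X, x * y * x⁻¹ * y⁻¹ ∈ U
  normX : ∀ g ∈ L, ∀ x ∈ X, g * x * g⁻¹ ∈ X
  normU : ∀ g ∈ L, ∀ x ∈ U, g * x * g⁻¹ ∈ U

variable {X U L : Subgroup T}

namespace Sec

theorem normal (h : Sec X U L) : (U.subgroupOf X).Normal := by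
  constructor
  intro n hn g
  rw [Subgroup.mem_subgroupOf] at hn ⊢
  have h1 := h.comm g g.2 n n.2
  have h2 : ((g * n * g⁻¹ : X) : T) = ((g : T) * n * (g : T)⁻¹ * (n : T)⁻¹) * n := by
    simp only [Subgroup.coe_mul, Subgroup.coe_inv]
    group
  rw [h2]
  exact U.mul_mem h1 hn

/-- the carrier of the section module -/
def M (h : Sec X U L) : Type w := Additive (↥X ⧸ U.subgroupOf X)

noncomputable instance instAddCommGroup (h : Sec X U L) : AddCommGroup h.M :=
  letI := h.normal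
  letI : CommGroup (↥X ⧸ U.subgroupOf X) :=
    { (QuotientGroup.Quotient.group (U.subgroupOf X)) with
      mul_comm := by
        intro a b
        induction a using QuotientGroup.induction_on with
        | _ a =>
        induction b using QuotientGroup.induction_on with
        | _ b =>
        rw [← QuotientGroup.mk_mul, ← QuotientGroup.mk_mul, QuotientGroup.eq,
          Subgroup.mem_subgroupOf]
        have h1 := h.comm _ (X.inv_mem b.2) _ (X.inv_mem a.2)
        have h2 : (((a * b)⁻¹ * (b * a) : X) : T) =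
            (b : T)⁻¹ * (a : T)⁻¹ * ((b : T)⁻¹)⁻¹ * ((a : T)⁻¹)⁻¹ := by
          simp only [Subgroup.coe_mul, Subgroup.coe_inv]
          group
        rw [h2]
        exact h1 }
  inferInstanceAs (AddCommGroup (Additive (↥X ⧸ U.subgroupOf X)))

instance instFinite [Finite T] (h : Sec X U L) : Finite h.M :=
  inferInstanceAs (Finite (Additive (↥X ⧸ U.subgroupOf X)))

/-- the class of `x ∈ X` -/
def cls (h : Sec X U L) (x : T) (hx : x ∈ X) : h.M :=
  Additive.ofMul (QuotientGroup.mk (⟨x, hx⟩ : X))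

theorem cls_eq_cls (h : Sec X U L) {x y : T} (hx : x ∈ X) (hy : y ∈ X) :
    h.cls x hx = h.cls y hy ↔ x⁻¹ * y ∈ U := by
  exact (Additive.ofMul.apply_eq_iff_eq).trans (QuotientGroup.eq.trans Subgroup.mem_subgroupOf)

theorem cls_surj (h : Sec X U L) (m : h.M) : ∃ x, ∃ hx : x ∈ X, h.cls x hx = m := by
  obtain ⟨a, ha⟩ := QuotientGroup.mk_surjective (s := U.subgroupOf X) (Additive.toMul m)
  exact ⟨a, a.2, by unfold cls; rw [show (⟨(a : T), a.2⟩ : X) = a from rfl, ha]; rfl⟩

theorem cls_mul (h : Sec X U L) {x y : T} (hx : x ∈ X) (hy : y ∈ X) :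
    h.cls (x * y) (X.mul_mem hx hy) = h.cls x hx + h.cls y hy := rfl

theorem cls_one (h : Sec X U L) : h.cls 1 X.one_mem = 0 := rfl

theorem cls_eq_zero (h : Sec X U L) {x : T} (hx : x ∈ X) : h.cls x hx = 0 ↔ x ∈ U := by
  rw [← h.cls_one, cls_eq_cls, mul_one, inv_mem_iff]

theorem cls_inv (h : Sec X U L) {x : T} (hx : x ∈ X) :
    h.cls x⁻¹ (X.inv_mem hx) = - h.cls x hx := by
  rw [eq_neg_iff_add_eq_zero, ← cls_mul, cls_eq_zero]
  rw [inv_mul_cancel]
  exact U.one_mem

theorem cls_congr (h : Sec X U L) {x y : T} (hxy : x = y) (hx : x ∈ X) :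
    h.cls x hx = h.cls y (hxy ▸ hx) := by
  subst hxy; rfl

theorem cls_pow (h : Sec X U L) {x : T} (hx : x ∈ X) (n : ℕ) :
    h.cls (x ^ n) (X.pow_mem hx n) = n • h.cls x hx := by
  induction n with
  | zero =>
    rw [zero_smul, ← h.cls_one]
    exact h.cls_congr (pow_zero x) _
  | succ n ih =>
    rw [succ_nsmul, ← ih, ← cls_mul]
    exact h.cls_congr (pow_succ x n) _

theorem cls_mul_of_mem (h : Sec X U L) {x u : T} (hx : x ∈ X) (hu : u ∈ U) :
    h.cls (x * u) (X.mul_mem hx (h.le hu)) = h.cls x hx := by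
  rw [cls_mul h hx (h.le hu), (cls_eq_zero h (h.le hu)).2 hu, add_zero]

/-- the conjugation action of `g ∈ L` on the carrier -/
def act (h : Sec X U L) (g : L) (m : h.M) : h.M :=
  Additive.ofMul (Quotient.map' (s₁ := QuotientGroup.leftRel (U.subgroupOf X))
    (s₂ := QuotientGroup.leftRel (U.subgroupOf X))
    (fun x : X => (⟨(g : T) * x * (g : T)⁻¹, h.normX g g.2 x x.2⟩ : X))
    (by
      intro a b hab
      rw [QuotientGroup.leftRel_apply, Subgroup.mem_subgroupOf] at hab ⊢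
      have h1 := h.normU g g.2 _ hab
      have h2 : (((⟨(g : T) * a * (g : T)⁻¹, h.normX g g.2 a a.2⟩ : X)⁻¹ *
          (⟨(g : T) * b * (g : T)⁻¹, h.normX g g.2 b b.2⟩ : X) : X) : T) =
          (g : T) * ((a⁻¹ * b : X) : T) * (g : T)⁻¹ := by
        simp only [Subgroup.coe_mul, Subgroup.coe_inv]
        group
      rw [h2]
      exact h1)
    (Additive.toMul m))

theorem act_cls (h : Sec X U L) (g : L) {x : T} (hx : x ∈ X) :
    h.act g (h.cls x hx) = h.cls ((g : T) * x * (g : T)⁻¹) (h.normX g g.2 x hx) := rfl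

noncomputable instance instDistribMulAction (h : Sec X U L) : DistribMulAction ↥L h.M where
  smul g m := h.act g m
  one_smul m := by
    obtain ⟨x, hx, rfl⟩ := h.cls_surj m
    show h.act 1 (h.cls x hx) = h.cls x hx
    rw [act_cls]
    apply h.cls_congr
    simp
  mul_smul g g' m := by
    obtain ⟨x, hx, rfl⟩ := h.cls_surj m
    show h.act (g * g') (h.cls x hx) = h.act g (h.act g' (h.cls x hx))
    rw [act_cls, act_cls, act_cls]
    apply h.cls_congr
    simp only [Subgroup.coe_mul]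
    group
  smul_zero g := by
    show h.act g (h.cls 1 X.one_mem) = 0
    rw [act_cls, cls_eq_zero]
    simp
  smul_add g m m' := by
    obtain ⟨x, hx, rfl⟩ := h.cls_surj m
    obtain ⟨y, hy, rfl⟩ := h.cls_surj m'
    show h.act g (h.cls x hx + h.cls y hy) = h.act g (h.cls x hx) + h.act g (h.cls y hy)
    rw [← cls_mul, act_cls, act_cls, act_cls, ← cls_mul]
    apply h.cls_congr
    group

theorem smul_cls (h : Sec X U L) (g : L) {x : T} (hx : x ∈ X) :
    g • h.cls x hx = h.cls ((g : T) * x * (g : T)⁻¹) (h.normX g g.2 x hx) := rfl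

theorem smul_cls' (h : Sec X U L) {g : T} (hg : g ∈ L) {x : T} (hx : x ∈ X) :
    (⟨g, hg⟩ : L) • h.cls x hx = h.cls (g * x * g⁻¹) (h.normX g hg x hx) := rfl

theorem conj_mem (h : Sec X U L) {x u : T} (hx : x ∈ X) (hu : u ∈ U) : x * u * x⁻¹ ∈ U := by
  have h1 := h.comm x hx u (h.le hu)
  have e : x * u * x⁻¹ = (x * u * x⁻¹ * u⁻¹) * u := by group
  rw [e]
  exact U.mul_mem h1 hu

/-- `g` fixes the class of `x` iff `[g,x] ∈ U` -/
theorem smul_cls_eq_iff (h : Sec X U L) {g : T} (hg : g ∈ L) {x : T} (hx : x ∈ X) :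
    (⟨g, hg⟩ : L) • h.cls x hx = h.cls x hx ↔ g * x * g⁻¹ * x⁻¹ ∈ U := by
  rw [smul_cls', cls_eq_cls, ← inv_mem_iff (H := U)]
  have : ((g * x * g⁻¹)⁻¹ * x)⁻¹ = x⁻¹ * (g * x * g⁻¹ * x⁻¹) * x := by group
  rw [this]
  constructor
  · intro h1
    have h2 := h.conj_mem hx h1
    have h3 : x * (x⁻¹ * (g * x * g⁻¹ * x⁻¹) * x) * x⁻¹ = g * x * g⁻¹ * x⁻¹ := by group
    rwa [h3] at h2
  · intro h1
    have h2 := h.conj_mem (X.inv_mem hx) h1
    rwa [inv_inv] at h2

theorem card_eq (h : Sec X U L) : Nat.card h.M = U.relIndex X := rfl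

theorem card_dvd [Finite T] (h : Sec X U L) : Nat.card h.M ∣ Nat.card X := by
  rw [card_eq]
  exact Subgroup.relIndex_dvd_card U X

theorem nsmul_eq_zero (h : Sec X U L) {t : ℕ} (hexp : ∀ x ∈ X, x ^ t ∈ U) (m : h.M) :
    t • m = 0 := by
  obtain ⟨x, hx, rfl⟩ := h.cls_surj m
  rw [← cls_pow, cls_eq_zero]
  exact hexp x hx

/-- preimage in `X` of an additive subgroup of the section module -/
def pre (h : Sec X U L) (B : AddSubgroup h.M) : Subgroup T where
  carrier := {x | ∃ hx : x ∈ X, h.cls x hx ∈ B}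
  one_mem' := ⟨X.one_mem, by rw [h.cls_one]; exact B.zero_mem⟩
  mul_mem' := by
    rintro a b ⟨ha, ha'⟩ ⟨hb, hb'⟩
    exact ⟨X.mul_mem ha hb, by rw [cls_mul h ha hb]; exact B.add_mem ha' hb'⟩
  inv_mem' := by
    rintro a ⟨ha, ha'⟩
    exact ⟨X.inv_mem ha, by rw [cls_inv h ha]; exact B.neg_mem ha'⟩

theorem mem_pre (h : Sec X U L) {B : AddSubgroup h.M} {x : T} :
    x ∈ h.pre B ↔ ∃ hx : x ∈ X, h.cls x hx ∈ B := Iff.rfl

theorem mem_pre_iff (h : Sec X U L) {B : AddSubgroup h.M} {x : T} (hx : x ∈ X) :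
    x ∈ h.pre B ↔ h.cls x hx ∈ B :=
  ⟨fun ⟨_, h1⟩ => h1, fun h1 => ⟨hx, h1⟩⟩

theorem pre_le (h : Sec X U L) (B : AddSubgroup h.M) : h.pre B ≤ X := fun _ hx => hx.1

theorem le_pre (h : Sec X U L) (B : AddSubgroup h.M) : U ≤ h.pre B := by
  intro x hx
  refine ⟨h.le hx, ?_⟩
  rw [(h.cls_eq_zero (h.le hx)).2 hx]
  exact B.zero_mem

end Sec

/-- a subgroup all of whose elements conjugate `X` into `X` normalizes `X` -/
theorem le_normalizer_of_conj_mem (S X : Subgroup T) (hS : ∀ c ∈ S, ∀ x ∈ X, c * x * c⁻¹ ∈ X) :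
    S ≤ Subgroup.normalizer (X : Set T) := by
  intro c hc
  rw [Subgroup.mem_normalizer_iff]
  intro x
  constructor
  · exact hS c hc x
  · intro h1
    have h2 := hS c⁻¹ (S.inv_mem hc) _ h1
    have h3 : c⁻¹ * (c * x * c⁻¹) * c⁻¹⁻¹ = x := by group
    rwa [h3] at h2

/-- the canonical section structure with `L = N(X) ∩ N(U)` -/
theorem Sec.ofNormalizer (X U : Subgroup T) (hle : U ≤ X)
    (hcomm : ∀ x ∈ X, ∀ y ∈ X, x * y * x⁻¹ * y⁻¹ ∈ U) :
    Sec X U (Subgroup.normalizer (X : Set T) ⊓ Subgroup.normalizer (U : Set T)) where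
  le := hle
  comm := hcomm
  normX := fun g hg x hx => (Subgroup.mem_normalizer_iff.1 hg.1 x).1 hx
  normU := fun g hg x hx => (Subgroup.mem_normalizer_iff.1 hg.2 x).1 hx

end Cfsg.Agent.Lib.Helper4.SecMod
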