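import Mathlib
import Cfsg.Agent.Lib.Helper1.TIDefs
import Cfsg.Agent.Lib.Helper4.SecMod

set_option autoImplicit false
set_option linter.unusedVariables false
set_option linter.unusedSectionVars false

namespace Cfsg.Agent.Lib.Helper4.TIQM

open Cfsg.Agent.Lib.Helper1.TI Cfsg.Agent.Lib.Helper4.SecMod

universe u

variable {Γ : Type u} [Group Γ]

section rep

variable {X V N : Subgroup Γ} (hW : Sec X V N)

/-- a representative in `X` of a class of the section module -/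
noncomputable def rep (m : hW.M) : Γ := Classical.choose (hW.cls_surj m)

theorem rep_mem (m : hW.M) : rep hW m ∈ X := Classical.choose (Classical.choose_spec (hW.cls_surj m))

theorem cls_rep (m : hW.M) : hW.cls (rep hW m) (rep_mem hW m) = m :=
  Classical.choose_spec (Classical.choose_spec (hW.cls_surj m))

theorem rep_cls {x : Γ} (hx : x ∈ X) : ∃ v ∈ V, rep hW (hW.cls x hx) = x * v := by
  have h := cls_rep hW (hW.cls x hx)
  have h2 := (hW.cls_eq_cls hx (rep_mem hW _)).1 h.symm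
  exact ⟨_, h2, by group⟩

end rep

/-- central elements of exponent two do not change squares -/
theorem mul_central_sq {x v : Γ} (hxv : x * v = v * x) (hv : v ^ 2 = 1) : (x * v) ^ 2 = x ^ 2 := by
  calc (x * v) ^ 2 = x * (v * x) * v := by rw [pow_two]; group
    _ = x * (x * v) * v := by rw [hxv]
    _ = x ^ 2 * v ^ 2 := by rw [pow_two, pow_two]; group
    _ = x ^ 2 := by rw [hv, mul_one]

/-- squaring a product when the commutator is central -/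
theorem mul_sq_of_commute' {x y : Γ} (h : x * (y * x * y⁻¹ * x⁻¹) = (y * x * y⁻¹ * x⁻¹) * x) :
    (x * y) ^ 2 = (y * x * y⁻¹ * x⁻¹) * x ^ 2 * y ^ 2 := by
  set c := y * x * y⁻¹ * x⁻¹ with hc
  have h1 : y * x = c * x * y := by rw [hc]; group
  calc (x * y) ^ 2 = x * (y * x) * y := by rw [pow_two]; group
    _ = x * (c * x * y) * y := by rw [h1]
    _ = (x * c) * x * y * y := by group
    _ = (c * x) * x * y * y := by rw [h]
    _ = c * x ^ 2 * y ^ 2 := by rw [pow_two, pow_two]; group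

/-- central elements do not change commutators -/
theorem comm_mul_central {x y v w : Γ} (hvy : v * y = y * v) (hvw : v * w = w * v)
    (hxw : x * w = w * x) :
    (x * v) * (y * w) * (x * v)⁻¹ * (y * w)⁻¹ = x * y * x⁻¹ * y⁻¹ := by
  have h1 : v * (y * w) = (y * w) * v := by
    rw [← mul_assoc, hvy, mul_assoc, hvw, ← mul_assoc]
  have h2 : w * x⁻¹ = x⁻¹ * w := by
    have : Commute x w := hxw
    exact (this.inv_left.symm).eq
  calc (x * v) * (y * w) * (x * v)⁻¹ * (y * w)⁻¹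
      = x * (v * (y * w)) * v⁻¹ * x⁻¹ * (y * w)⁻¹ := by group
    _ = x * ((y * w) * v) * v⁻¹ * x⁻¹ * (y * w)⁻¹ := by rw [h1]
    _ = x * y * (w * x⁻¹) * w⁻¹ * y⁻¹ := by group
    _ = x * y * (x⁻¹ * w) * w⁻¹ * y⁻¹ := by rw [h2]
    _ = x * y * x⁻¹ * y⁻¹ := by group


theorem exists_qmap (V X N : Subgroup Γ) (hV2 : ∀ v ∈ V, v ^ 2 = 1)
    (hinv : ∀ x ∈ X, x ^ 2 = 1 → x ∈ V)
    (hsq : ∀ x ∈ X, x ^ 2 ∈ V) (hcent : ∀ x ∈ X, ∀ v ∈ V, x * v = v * x)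
    (hW : Sec X V N) (hV : Sec V ⊥ N) :
    ∃ q : QMap hW.M hV.M,
      (∀ (x : Γ) (hx : x ∈ X), q.sq (hW.cls x hx) = hV.cls (x ^ 2) (hsq x hx)) ∧
      (∀ (x y : Γ) (hx : x ∈ X) (hy : y ∈ X),
        q.β (hW.cls x hx) (hW.cls y hy) = hV.cls (x * y * x⁻¹ * y⁻¹) (hW.comm x hx y hy)) ∧
      (∀ (n : N) (w : hW.M), q.sq (n • w) = n • q.sq w) := by
  classical
  have hVX : V ≤ X := hW.le
  let sqf : hW.M → hV.M := fun m => hV.cls ((rep hW m) ^ 2) (hsq _ (rep_mem hW m))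
  let βf : hW.M → hW.M → hV.M := fun a b =>
    hV.cls (rep hW a * rep hW b * (rep hW a)⁻¹ * (rep hW b)⁻¹)
      (hW.comm _ (rep_mem hW a) _ (rep_mem hW b))
  have hsqf : ∀ (x : Γ) (hx : x ∈ X), sqf (hW.cls x hx) = hV.cls (x ^ 2) (hsq x hx) := by
    intro x hx
    obtain ⟨v, hv, e⟩ := rep_cls hW hx
    have e2 : (rep hW (hW.cls x hx)) ^ 2 = x ^ 2 := by
      rw [e]; exact mul_central_sq (hcent x hx v hv) (hV2 v hv)
    exact hV.cls_congr e2 _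
  have hβf : ∀ (x y : Γ) (hx : x ∈ X) (hy : y ∈ X),
      βf (hW.cls x hx) (hW.cls y hy) = hV.cls (x * y * x⁻¹ * y⁻¹) (hW.comm x hx y hy) := by
    intro x y hx hy
    obtain ⟨v, hv, e⟩ := rep_cls hW hx
    obtain ⟨w, hw, e'⟩ := rep_cls hW hy
    have e2 : rep hW (hW.cls x hx) * rep hW (hW.cls y hy) * (rep hW (hW.cls x hx))⁻¹ *
        (rep hW (hW.cls y hy))⁻¹ = x * y * x⁻¹ * y⁻¹ := by
      rw [e, e']
      exact comm_mul_central (hcent y hy v hv).symm (hcent w (hVX hw) v hv).symm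
        (hcent x hx w hw)
    exact hV.cls_congr e2 _
  have hV2' : ∀ v : hV.M, v + v = 0 := by
    intro v
    rw [← two_nsmul]
    exact hV.nsmul_eq_zero (t := 2) (fun v hv => by rw [hV2 v hv]; exact Subgroup.one_mem _) v
  have hW2' : ∀ w : hW.M, w + w = 0 := by
    intro w
    rw [← two_nsmul]
    exact hW.nsmul_eq_zero (t := 2) hsq w
  have hneg : ∀ v : hV.M, -v = v := fun v => neg_eq_of_add_eq_zero_left (hV2' v)
  have hcommV : ∀ x ∈ X, ∀ y ∈ X, x * y * x⁻¹ * y⁻¹ ∈ V := hW.comm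
  refine ⟨{ sq := sqf, β := βf, hW2 := hW2', hV2 := hV2', sq_add := ?_, β_add_left := ?_,
            β_add_right := ?_, aniso := ?_ }, hsqf, hβf, ?_⟩
  · -- sq_add
    intro a b
    obtain ⟨x, hx, rfl⟩ := hW.cls_surj a
    obtain ⟨y, hy, rfl⟩ := hW.cls_surj b
    rw [← hW.cls_mul hx hy, hsqf, hsqf, hsqf, hβf]
    have hc'' : y * x * y⁻¹ * x⁻¹ ∈ V := hcommV y hy x hx
    have hc : x * (y * x * y⁻¹ * x⁻¹) = (y * x * y⁻¹ * x⁻¹) * x := hcent x hx _ hc''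
    have e1 : (x * y) ^ 2 = (y * x * y⁻¹ * x⁻¹) * x ^ 2 * y ^ 2 := mul_sq_of_commute' hc
    have e2 : x * y * x⁻¹ * y⁻¹ = (y * x * y⁻¹ * x⁻¹)⁻¹ := by group
    rw [hV.cls_congr e1, hV.cls_congr e2]
    rw [hV.cls_mul (V.mul_mem hc'' (hsq x hx)) (hsq y hy), hV.cls_mul hc'' (hsq x hx),
      hV.cls_inv hc'', hneg]
    abel
  · -- β_add_left
    intro a b c
    obtain ⟨x, hx, rfl⟩ := hW.cls_surj a
    obtain ⟨y, hy, rfl⟩ := hW.cls_surj b
    obtain ⟨z, hz, rfl⟩ := hW.cls_surj c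
    rw [← hW.cls_mul hx hy, hβf, hβf, hβf]
    have hyz : y * z * y⁻¹ * z⁻¹ ∈ V := hcommV y hy z hz
    have hxz : x * z * x⁻¹ * z⁻¹ ∈ V := hcommV x hx z hz
    have hc : x * (y * z * y⁻¹ * z⁻¹) = (y * z * y⁻¹ * z⁻¹) * x := hcent x hx _ hyz
    have e1 : (x * y) * z * (x * y)⁻¹ * z⁻¹ = (y * z * y⁻¹ * z⁻¹) * (x * z * x⁻¹ * z⁻¹) := by
      calc (x * y) * z * (x * y)⁻¹ * z⁻¹ = (x * (y * z * y⁻¹ * z⁻¹)) * z * x⁻¹ * z⁻¹ := by group
        _ = ((y * z * y⁻¹ * z⁻¹) * x) * z * x⁻¹ * z⁻¹ := by rw [hc]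
        _ = (y * z * y⁻¹ * z⁻¹) * (x * z * x⁻¹ * z⁻¹) := by group
    rw [hV.cls_congr e1, hV.cls_mul hyz hxz]
    abel
  · -- β_add_right
    intro a b c
    obtain ⟨x, hx, rfl⟩ := hW.cls_surj a
    obtain ⟨y, hy, rfl⟩ := hW.cls_surj b
    obtain ⟨z, hz, rfl⟩ := hW.cls_surj c
    rw [← hW.cls_mul hy hz, hβf, hβf, hβf]
    have hxy : x * y * x⁻¹ * y⁻¹ ∈ V := hcommV x hx y hy
    have hxz : x * z * x⁻¹ * z⁻¹ ∈ V := hcommV x hx z hz
    have hxyx : x * y * x⁻¹ ∈ X := X.mul_mem (X.mul_mem hx hy) (X.inv_mem hx)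
    have hc : (x * y * x⁻¹) * (x * z * x⁻¹ * z⁻¹) = (x * z * x⁻¹ * z⁻¹) * (x * y * x⁻¹) :=
      hcent _ hxyx _ hxz
    have e1 : x * (y * z) * x⁻¹ * (y * z)⁻¹ = (x * z * x⁻¹ * z⁻¹) * (x * y * x⁻¹ * y⁻¹) := by
      calc x * (y * z) * x⁻¹ * (y * z)⁻¹
          = ((x * y * x⁻¹) * (x * z * x⁻¹ * z⁻¹)) * y⁻¹ := by group
        _ = ((x * z * x⁻¹ * z⁻¹) * (x * y * x⁻¹)) * y⁻¹ := by rw [hc]
        _ = (x * z * x⁻¹ * z⁻¹) * (x * y * x⁻¹ * y⁻¹) := by group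
    rw [hV.cls_congr e1, hV.cls_mul hxz hxy]
    abel
  · -- aniso
    intro w hw
    obtain ⟨x, hx, rfl⟩ := hW.cls_surj w
    change sqf (hW.cls x hx) = 0 at hw
    rw [hsqf, hV.cls_eq_zero] at hw
    rw [hW.cls_eq_zero]
    exact hinv x hx (Subgroup.mem_bot.1 hw)
  · -- equivariance
    intro n w
    obtain ⟨x, hx, rfl⟩ := hW.cls_surj w
    change sqf (n • hW.cls x hx) = n • sqf (hW.cls x hx)
    rw [hW.smul_cls, hsqf, hsqf, hV.smul_cls]
    exact hV.cls_congr (conj_pow) _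

end Cfsg.Agent.Lib.Helper4.TIQM
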