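import Mathlib
import Cfsg.Agent.Lib.Helper4.SecMod

set_option autoImplicit false
set_option linter.unusedVariables false
set_option linter.unusedSectionVars false
set_option linter.style.haveILetI false

namespace Cfsg.Agent.Lib.Helper4.TIX

open Cfsg.Agent.Lib.Helper4.SecMod

universe u

variable {Γ : Type u} [Group Γ]

/-- an element killed by a power of two and by an odd power is trivial -/
theorem eq_one_of_two_pow_of_odd {c : Γ} {a k : ℕ} (h2 : c ^ (2 ^ a) = 1) (hk : Odd k)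
    (hck : c ^ k = 1) : c = 1 := by
  have h1 : orderOf c ∣ 2 ^ a := orderOf_dvd_of_pow_eq_one h2
  have h3 : orderOf c ∣ k := orderOf_dvd_of_pow_eq_one hck
  have hcop : Nat.Coprime (2 ^ a) k := Nat.Coprime.pow_left a (Nat.coprime_two_left.mpr hk)
  have h4 : orderOf c ∣ 1 := by
    have := Nat.dvd_gcd h1 h3
    rwa [hcop] at this
  exact orderOf_eq_one_iff.1 (Nat.dvd_one.1 h4)

/-- iterating a conjugation whose commutator is centralised -/
theorem conj_pow_of_commute {l x c : Γ} (hc : l * x * l⁻¹ = c * x) (hlc : l * c = c * l) (j : ℕ) :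
    l ^ j * x * (l ^ j)⁻¹ = c ^ j * x := by
  induction j with
  | zero => simp
  | succ j ih =>
    have hcj : l * c ^ j = c ^ j * l := by
      have : Commute l c := hlc
      exact (this.pow_right j).eq
    calc l ^ (j + 1) * x * (l ^ (j + 1))⁻¹ = l * (l ^ j * x * (l ^ j)⁻¹) * l⁻¹ := by
          rw [pow_succ']; group
      _ = l * (c ^ j * x) * l⁻¹ := by rw [ih]
      _ = (l * c ^ j) * x * l⁻¹ := by group
      _ = c ^ j * (l * x * l⁻¹) := by rw [hcj]; group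
      _ = c ^ j * (c * x) := by rw [hc]
      _ = c ^ (j + 1) * x := by rw [pow_succ]; group

/-- coprime action, elementwise: an odd-order element centralising its (2-power order) commutator
with `x` centralises `x`. -/
theorem commute_of_commutator {l x : Γ} {k a : ℕ} (hk : Odd k) (hlk : l ^ k = 1)
    (h2 : (l * x * l⁻¹ * x⁻¹) ^ (2 ^ a) = 1)
    (hlc : l * (l * x * l⁻¹ * x⁻¹) = (l * x * l⁻¹ * x⁻¹) * l) : l * x = x * l := by
  set c := l * x * l⁻¹ * x⁻¹ with hcdef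
  have hc : l * x * l⁻¹ = c * x := by rw [hcdef]; group
  have h1 := conj_pow_of_commute hc hlc k
  rw [hlk] at h1
  have h3 : c ^ k = 1 := by
    have : x = c ^ k * x := by simpa using h1
    have h4 : c ^ k * x = 1 * x := by rw [one_mul]; exact this.symm
    exact mul_right_cancel h4
  have h5 : c = 1 := eq_one_of_two_pow_of_odd h2 hk h3
  have h6 : l * x * l⁻¹ = x := by rw [hc, h5, one_mul]
  calc l * x = (l * x * l⁻¹) * l := by group
    _ = x * l := by rw [h6]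


/-- a non-trivial element of 2-power order has a power which is an involution -/
theorem exists_invol {x : Γ} (hx : x ≠ 1) (h : ∃ k : ℕ, x ^ (2 ^ k) = 1) :
    ∃ j : ℕ, x ^ j ≠ 1 ∧ (x ^ j) ^ 2 = 1 := by
  classical
  have hk0 : Nat.find h ≠ 0 := by
    intro h0
    have := Nat.find_spec h
    rw [h0] at this
    simp at this
    exact hx this
  obtain ⟨m, hm⟩ := Nat.exists_eq_succ_of_ne_zero hk0
  refine ⟨2 ^ m, ?_, ?_⟩
  · intro h1
    have : Nat.find h ≤ m := Nat.find_min' h h1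
    omega
  · have := Nat.find_spec h
    rw [hm, pow_succ, pow_mul] at this
    exact this

/-- the closure of a conjugation-stable set is conjugation-stable -/
theorem closure_conj_mem (N : Subgroup Γ) (S : Set Γ)
    (hS : ∀ n ∈ N, ∀ s ∈ S, n * s * n⁻¹ ∈ S) :
    ∀ n ∈ N, ∀ x ∈ Subgroup.closure S, n * x * n⁻¹ ∈ Subgroup.closure S := by
  intro n hn x hx
  induction hx using Subgroup.closure_induction with
  | mem s hs => exact Subgroup.subset_closure (hS n hn s hs)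
  | one => simp
  | mul a b _ _ iha ihb =>
    have : n * (a * b) * n⁻¹ = (n * a * n⁻¹) * (n * b * n⁻¹) := by group
    rw [this]; exact Subgroup.mul_mem _ iha ihb
  | inv a _ iha =>
    have : n * a⁻¹ * n⁻¹ = (n * a * n⁻¹)⁻¹ := by group
    rw [this]; exact Subgroup.inv_mem _ iha

section main

variable [Finite Γ]

/-- the subgroups among which `X` is chosen minimal -/
def Good (Q N L Y : Subgroup Γ) : Prop :=
  Y ≤ Q ∧ (∀ n ∈ N, ∀ y ∈ Y, n * y * n⁻¹ ∈ Y) ∧ ∃ l ∈ L, ∃ y ∈ Y, l * y ≠ y * l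

theorem exists_min_good (Q N L : Subgroup Γ) (h : Good Q N L Q) :
    ∃ X, Good Q N L X ∧ ∀ Y, Good Q N L Y → Y ≤ X → Y = X := by
  obtain ⟨X, hX, hmin⟩ := WellFounded.has_min
    (wellFounded_lt : WellFounded ((· < ·) : Subgroup Γ → Subgroup Γ → Prop))
    {Y | Good Q N L Y} ⟨Q, h⟩
  refine ⟨X, hX, fun Y hY hYX => ?_⟩
  by_contra hne
  exact hmin Y hY (lt_of_le_of_ne hYX hne)


/-- squaring a product when the commutator is central -/
theorem mul_sq_of_commute {x y : Γ} (h : x * (y * x * y⁻¹ * x⁻¹) = (y * x * y⁻¹ * x⁻¹) * x) :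
    (x * y) ^ 2 = (y * x * y⁻¹ * x⁻¹) * x ^ 2 * y ^ 2 := by
  set c := y * x * y⁻¹ * x⁻¹ with hc
  have h1 : y * x = c * x * y := by rw [hc]; group
  calc (x * y) ^ 2 = x * (y * x) * y := by rw [pow_two]; group
    _ = x * (c * x * y) * y := by rw [h1]
    _ = (x * c) * x * y * y := by group
    _ = (c * x) * x * y * y := by rw [h]
    _ = c * x ^ 2 * y ^ 2 := by rw [pow_two, pow_two]; group

theorem exists_special (V Q N L : Subgroup Γ)
    (hinv : ∀ g ∈ Q, g ^ 2 = 1 → g ∈ V) (hV2 : ∀ v ∈ V, v ^ 2 = 1) (hVQ : V ≤ Q)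
    (hQ2 : IsPGroup 2 Q) (hNQ : ∀ n ∈ N, ∀ g ∈ Q, n * g * n⁻¹ ∈ Q)
    (htrans : ∀ v ∈ V, ∀ w ∈ V, v ≠ 1 → w ≠ 1 → ∃ n ∈ N, n * v * n⁻¹ = w)
    (hLN : L ≤ N) (hLn : ∀ n ∈ N, ∀ l ∈ L, n * l * n⁻¹ ∈ L)
    (hLodd : Odd (Nat.card L)) (hLV : ∀ l ∈ L, ∀ v ∈ V, l * v = v * l)
    (hLQ : ∃ l ∈ L, ∃ g ∈ Q, l * g ≠ g * l) :
    ∃ X : Subgroup Γ, X ≤ Q ∧ V ≤ X ∧ V ≠ X ∧ (∀ n ∈ N, ∀ x ∈ X, n * x * n⁻¹ ∈ X) ∧
      (∀ x ∈ X, x ^ 2 ∈ V) ∧ (∀ x ∈ X, ∀ y ∈ X, x * y * x⁻¹ * y⁻¹ ∈ V) ∧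
      (∀ x ∈ X, ∀ v ∈ V, x * v = v * x) ∧
      (∀ x ∈ X, (∀ l ∈ L, l * x * l⁻¹ * x⁻¹ ∈ V) → x ∈ V) := by
  classical
  have hQpow : ∀ g ∈ Q, ∃ k : ℕ, g ^ (2 ^ k) = 1 := by
    intro g hg
    obtain ⟨k, hk⟩ := hQ2 ⟨g, hg⟩
    exact ⟨k, by simpa using congrArg Subtype.val hk⟩
  have hLpow : ∀ l ∈ L, l ^ (Nat.card L) = 1 := by
    intro l hl
    have h2 : ((⟨l, hl⟩ : L) ^ Nat.card L : L) = 1 := pow_card_eq_one'
    have := congrArg Subtype.val h2
    rwa [Subgroup.coe_pow, Subgroup.coe_one] at this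
  obtain ⟨X, ⟨hXQ, hXN, l₀, hl₀, y₀, hy₀, hne₀⟩, hmin⟩ :=
    exists_min_good Q N L ⟨le_rfl, hNQ, hLQ⟩
  have hcentr : ∀ Y : Subgroup Γ, Y ≤ X → (∀ n ∈ N, ∀ y ∈ Y, n * y * n⁻¹ ∈ Y) → Y ≠ X →
      ∀ l ∈ L, ∀ y ∈ Y, l * y = y * l := by
    intro Y hYX hYN hYne l hl y hy
    by_contra hc
    exact hYne (hmin Y ⟨hYX.trans hXQ, hYN, l, hl, y, hy, hc⟩ hYX)
  have hXpow : ∀ x ∈ X, ∃ k : ℕ, x ^ (2 ^ k) = 1 := fun x hx => hQpow x (hXQ hx)
  have hLX : ∀ l ∈ L, ∀ x ∈ X, l * x * l⁻¹ ∈ X := fun l hl x hx => hXN l (hLN hl) x hx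
  have hkey : ∀ l ∈ L, ∀ x ∈ X,
      l * (l * x * l⁻¹ * x⁻¹) = (l * x * l⁻¹ * x⁻¹) * l → l * x = x * l := by
    intro l hl x hx hcomm
    have hcX : l * x * l⁻¹ * x⁻¹ ∈ X := X.mul_mem (hLX l hl x hx) (X.inv_mem hx)
    obtain ⟨a, ha⟩ := hXpow _ hcX
    exact commute_of_commutator hLodd (hLpow l hl) ha hcomm
  -- an involution of `X`
  have hy₀1 : y₀ ≠ 1 := by
    rintro rfl
    exact hne₀ (by simp)
  obtain ⟨j, hj1, hj2⟩ := exists_invol hy₀1 (hXpow y₀ hy₀)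
  have hiX : y₀ ^ j ∈ X := X.pow_mem hy₀ j
  have hiV : y₀ ^ j ∈ V := hinv _ (hXQ hiX) hj2
  have hVX : V ≤ X := by
    intro v hv
    by_cases hv1 : v = 1
    · rw [hv1]; exact X.one_mem
    · obtain ⟨n, hn, hnv⟩ := htrans _ hiV v hv hj1 hv1
      rw [← hnv]; exact hXN n hn _ hiX
  have hVneX : V ≠ X := by
    intro h
    exact hne₀ (hLV l₀ hl₀ y₀ (h ▸ hy₀))
  -- `V` is central in `Q`
  have hVZ : ∀ g ∈ Q, ∀ v ∈ V, g * v = v * g := by
    haveI : Fact (Nat.Prime 2) := ⟨Nat.prime_two⟩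
    haveI : Nontrivial Q :=
      ⟨⟨⟨y₀ ^ j, hXQ hiX⟩, 1, fun h => hj1 (congrArg Subtype.val h)⟩⟩
    haveI := hQ2.center_nontrivial
    obtain ⟨z, hz⟩ := exists_ne (1 : Subgroup.center Q)
    have hz1 : ((z : Q) : Γ) ≠ 1 := by
      intro h
      apply hz
      apply Subtype.ext
      apply Subtype.ext
      exact h
    have hzc : ∀ g ∈ Q, g * ((z : Q) : Γ) = ((z : Q) : Γ) * g := by
      intro g hg
      have := (Subgroup.mem_center_iff.1 z.2) ⟨g, hg⟩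
      exact congrArg Subtype.val this
    obtain ⟨j', hj'1, hj'2⟩ := exists_invol hz1 (hQpow _ (z : Q).2)
    have hz'Q : ((z : Q) : Γ) ^ j' ∈ Q := Q.pow_mem (z : Q).2 j'
    have hz'V : ((z : Q) : Γ) ^ j' ∈ V := hinv _ hz'Q hj'2
    have hz'c : ∀ g ∈ Q, g * ((z : Q) : Γ) ^ j' = ((z : Q) : Γ) ^ j' * g := by
      intro g hg
      have : Commute g ((z : Q) : Γ) := hzc g hg
      exact (this.pow_right j').eq
    intro g hg v hv
    by_cases hv1 : v = 1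
    · rw [hv1]; simp
    · obtain ⟨n, hn, hnv⟩ := htrans _ hz'V v hv hj'1 hv1
      have hg' : n⁻¹ * g * n ∈ Q := by
        have := hNQ n⁻¹ (N.inv_mem hn) g hg
        rwa [inv_inv] at this
      have h1 := hz'c _ hg'
      rw [← hnv]
      calc g * (n * ((z : Q) : Γ) ^ j' * n⁻¹)
          = n * ((n⁻¹ * g * n) * ((z : Q) : Γ) ^ j') * n⁻¹ := by group
        _ = n * (((z : Q) : Γ) ^ j' * (n⁻¹ * g * n)) * n⁻¹ := by rw [h1]
        _ = n * ((z : Q) : Γ) ^ j' * n⁻¹ * g := by group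
  -- the commutator subgroup `[X, L]` is all of `X`
  set SD : Set Γ := {g | ∃ l ∈ L, ∃ x ∈ X, g = l * x * l⁻¹ * x⁻¹} with hSD
  have hSDX : SD ⊆ (X : Set Γ) := by
    rintro g ⟨l, hl, x, hx, rfl⟩
    exact X.mul_mem (hLX l hl x hx) (X.inv_mem hx)
  have hDX : Subgroup.closure SD ≤ X := (Subgroup.closure_le X).2 hSDX
  have hDN : ∀ n ∈ N, ∀ d ∈ Subgroup.closure SD, n * d * n⁻¹ ∈ Subgroup.closure SD := by
    apply closure_conj_mem N SD
    rintro n hn g ⟨l, hl, x, hx, rfl⟩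
    exact ⟨n * l * n⁻¹, hLn n hn l hl, n * x * n⁻¹, hXN n hn x hx, by group⟩
  have hDeq : Subgroup.closure SD = X := by
    apply hmin _ ⟨hDX.trans hXQ, hDN, ?_⟩ hDX
    by_contra hcon
    push Not at hcon
    apply hne₀
    apply hkey l₀ hl₀ y₀ hy₀
    exact hcon l₀ hl₀ _ (Subgroup.subset_closure ⟨l₀, hl₀, y₀, hy₀, rfl⟩)
  have hind : ∀ K : Subgroup Γ, SD ⊆ (K : Set Γ) → X ≤ K := by
    intro K hK
    rw [← hDeq]
    exact (Subgroup.closure_le K).2 hK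
  -- the subgroup generated by squares and commutators
  set SP : Set Γ := {g | (∃ x ∈ X, g = x ^ 2) ∨ ∃ x ∈ X, ∃ y ∈ X, g = x * y * x⁻¹ * y⁻¹} with hSP
  have hSPX : SP ⊆ (X : Set Γ) := by
    rintro g (⟨x, hx, rfl⟩ | ⟨x, hx, y, hy, rfl⟩)
    · exact X.pow_mem hx 2
    · exact X.mul_mem (X.mul_mem (X.mul_mem hx hy) (X.inv_mem hx)) (X.inv_mem hy)
  have hPX : Subgroup.closure SP ≤ X := (Subgroup.closure_le X).2 hSPX
  have hSPconj : ∀ n : Γ, (∀ x ∈ X, n * x * n⁻¹ ∈ X) → ∀ s ∈ SP, n * s * n⁻¹ ∈ SP := by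
    rintro n hn g (⟨x, hx, rfl⟩ | ⟨x, hx, y, hy, rfl⟩)
    · exact Or.inl ⟨n * x * n⁻¹, hn x hx, by rw [conj_pow]⟩
    · exact Or.inr ⟨n * x * n⁻¹, hn x hx, n * y * n⁻¹, hn y hy, by group⟩
  have hPN : ∀ n ∈ N, ∀ p ∈ Subgroup.closure SP, n * p * n⁻¹ ∈ Subgroup.closure SP :=
    closure_conj_mem N SP (fun n hn s hs => hSPconj n (hXN n hn) s hs)
  have hPnorm : ∀ x ∈ X, ∀ p ∈ Subgroup.closure SP, x * p * x⁻¹ ∈ Subgroup.closure SP :=
    closure_conj_mem X SP (fun n hn s hs =>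
      hSPconj n (fun x hx => X.mul_mem (X.mul_mem hn hx) (X.inv_mem hn)) s hs)
  have hPne : Subgroup.closure SP ≠ X := by
    intro hPX'
    haveI : Fact (Nat.Prime 2) := ⟨Nat.prime_two⟩
    have hX2 : IsPGroup 2 X := hQ2.to_le hXQ
    haveI : Nontrivial X := ⟨⟨⟨y₀, hy₀⟩, 1, fun h => hy₀1 (congrArg Subtype.val h)⟩⟩
    obtain ⟨k, hk⟩ := IsPGroup.iff_card.1 hX2
    have hk0 : k ≠ 0 := by
      intro h
      rw [h, pow_zero] at hk
      exact (Finite.one_lt_card (α := X)).ne' hk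
    obtain ⟨m, rfl⟩ := Nat.exists_eq_succ_of_ne_zero hk0
    obtain ⟨M', hM'⟩ := Sylow.exists_subgroup_card_pow_prime (G := X) 2 (n := m)
      (by rw [hk]; exact pow_dvd_pow 2 (Nat.le_succ m))
    have hidx : M'.index = 2 := by
      have := M'.card_mul_index
      rw [hM', hk, pow_succ] at this
      exact Nat.eq_of_mul_eq_mul_left (pow_pos two_pos m) this
    have hSPM : SP ⊆ ((M'.map X.subtype : Subgroup Γ) : Set Γ) := by
      rintro g (⟨x, hx, rfl⟩ | ⟨x, hx, y, hy, rfl⟩)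
      · exact ⟨⟨x, hx⟩ ^ 2, Subgroup.sq_mem_of_index_two hidx _, by simp⟩
      · refine ⟨⟨x, hx⟩ * ⟨y, hy⟩ * ⟨x, hx⟩⁻¹ * ⟨y, hy⟩⁻¹, ?_, by simp⟩
        rw [SetLike.mem_coe]
        simp only [Subgroup.mul_mem_iff_of_index_two hidx, inv_mem_iff]
        tauto
    have hXM : X ≤ M'.map X.subtype :=
      le_of_eq_of_le hPX'.symm ((Subgroup.closure_le _).2 hSPM)
    have hM'top : M' = ⊤ := by
      rw [eq_top_iff]
      intro x _
      obtain ⟨y, hy, hyx⟩ := hXM x.2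
      have : y = x := Subtype.ext hyx
      rwa [← this]
    rw [hM'top, Subgroup.index_top] at hidx
    omega
  have hLP : ∀ l ∈ L, ∀ p ∈ Subgroup.closure SP, l * p = p * l :=
    hcentr _ hPX hPN hPne
  -- squares and commutators are central in `X`
  have hPc : ∀ x ∈ X, ∀ p ∈ Subgroup.closure SP, p * x = x * p := by
    intro x hx p hp
    have : X ≤ Subgroup.centralizer {p} := by
      apply hind
      rintro g ⟨l, hl, x, hx, rfl⟩
      rw [SetLike.mem_coe, Subgroup.mem_centralizer_iff]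
      intro q hq
      rw [Set.mem_singleton_iff] at hq
      subst hq
      have hp1 : x⁻¹ * q * x ∈ Subgroup.closure SP := by
        have := hPnorm x⁻¹ (X.inv_mem hx) q hp
        rwa [inv_inv] at this
      have e1 : l⁻¹ * (x⁻¹ * q * x) * l = x⁻¹ * q * x := by
        rw [mul_assoc, ← hLP l hl _ hp1, ← mul_assoc, inv_mul_cancel, one_mul]
      have e2 : l * q * l⁻¹ = q := by
        rw [hLP l hl q hp, mul_assoc, mul_inv_cancel, mul_one]
      have e3 : (l * x * l⁻¹ * x⁻¹) * q * (l * x * l⁻¹ * x⁻¹)⁻¹ = q := by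
        calc (l * x * l⁻¹ * x⁻¹) * q * (l * x * l⁻¹ * x⁻¹)⁻¹
            = l * x * (l⁻¹ * (x⁻¹ * q * x) * l) * x⁻¹ * l⁻¹ := by group
          _ = l * x * (x⁻¹ * q * x) * x⁻¹ * l⁻¹ := by rw [e1]
          _ = l * q * l⁻¹ := by group
          _ = q := e2
      calc q * (l * x * l⁻¹ * x⁻¹)
          = ((l * x * l⁻¹ * x⁻¹) * q * (l * x * l⁻¹ * x⁻¹)⁻¹) * (l * x * l⁻¹ * x⁻¹) := by rw [e3]
        _ = (l * x * l⁻¹ * x⁻¹) * q := by group
    have h1 := Subgroup.mem_centralizer_iff.1 (this hx) p (Set.mem_singleton p)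
    exact h1
  have hsqP : ∀ x ∈ X, x ^ 2 ∈ Subgroup.closure SP := fun x hx =>
    Subgroup.subset_closure (Or.inl ⟨x, hx, rfl⟩)
  have hcoP : ∀ x ∈ X, ∀ y ∈ X, x * y * x⁻¹ * y⁻¹ ∈ Subgroup.closure SP := fun x hx y hy =>
    Subgroup.subset_closure (Or.inr ⟨x, hx, y, hy, rfl⟩)
  -- commutators lie in `V`
  have hcommV : ∀ x ∈ X, ∀ y ∈ X, x * y * x⁻¹ * y⁻¹ ∈ V := by
    intro x hx y hy
    set c := x * y * x⁻¹ * y⁻¹ with hc
    have hcP : c ∈ Subgroup.closure SP := hcoP x hx y hy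
    have h1 : x * y * x⁻¹ = c * y := by rw [hc]; group
    have hcx : x * c = c * x := (hPc x hx c hcP).symm
    have h2 : x ^ 2 * y * (x ^ 2)⁻¹ = c ^ 2 * y := by
      calc x ^ 2 * y * (x ^ 2)⁻¹ = x * (x * y * x⁻¹) * x⁻¹ := by rw [pow_two]; group
        _ = x * (c * y) * x⁻¹ := by rw [h1]
        _ = (x * c) * (y * x⁻¹) := by group
        _ = (c * x) * (y * x⁻¹) := by rw [hcx]
        _ = c * (x * y * x⁻¹) := by group
        _ = c * (c * y) := by rw [h1]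
        _ = c ^ 2 * y := by rw [pow_two]; group
    have h3 : x ^ 2 * y * (x ^ 2)⁻¹ = y := by
      rw [hPc y hy (x ^ 2) (hsqP x hx)]; group
    have hc2 : c ^ 2 = 1 := by
      have : c ^ 2 * y = 1 * y := by rw [one_mul, ← h2, h3]
      exact mul_right_cancel this
    exact hinv c (hXQ (hPX hcP)) hc2
  -- squares lie in `V`
  have hsqV : ∀ x ∈ X, x ^ 2 ∈ V := by
    let K2 : Subgroup Γ :=
      { carrier := {x | x ∈ X ∧ x ^ 2 ∈ V}
        one_mem' := ⟨X.one_mem, by simp [V.one_mem]⟩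
        mul_mem' := by
          rintro a b ⟨ha, ha2⟩ ⟨hb, hb2⟩
          refine ⟨X.mul_mem ha hb, ?_⟩
          have hc : a * (b * a * b⁻¹ * a⁻¹) = (b * a * b⁻¹ * a⁻¹) * a :=
            (hPc a ha _ (hcoP b hb a ha)).symm
          rw [mul_sq_of_commute hc]
          exact V.mul_mem (V.mul_mem (hcommV b hb a ha) ha2) hb2
        inv_mem' := by
          rintro a ⟨ha, ha2⟩
          refine ⟨X.inv_mem ha, ?_⟩
          rw [inv_pow]
          exact V.inv_mem ha2 }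
    have hK : X ≤ K2 := by
      apply hind
      rintro g ⟨l, hl, x, hx, rfl⟩
      refine ⟨X.mul_mem (hLX l hl x hx) (X.inv_mem hx), ?_⟩
      have ha : l * x * l⁻¹ ∈ X := hLX l hl x hx
      have hb : x⁻¹ ∈ X := X.inv_mem hx
      have hc : (l * x * l⁻¹) * (x⁻¹ * (l * x * l⁻¹) * x⁻¹⁻¹ * (l * x * l⁻¹)⁻¹)
          = (x⁻¹ * (l * x * l⁻¹) * x⁻¹⁻¹ * (l * x * l⁻¹)⁻¹) * (l * x * l⁻¹) :=
        (hPc _ ha _ (hcoP _ hb _ ha)).symm
      have e0 : l * x * l⁻¹ * x⁻¹ = (l * x * l⁻¹) * x⁻¹ := rfl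
      rw [e0, mul_sq_of_commute hc]
      have e1 : (l * x * l⁻¹) ^ 2 = x ^ 2 := by
        rw [conj_pow, hLP l hl _ (hsqP x hx), mul_assoc, mul_inv_cancel, mul_one]
      rw [e1, inv_pow, mul_assoc, mul_inv_cancel, mul_one]
      exact hcommV _ hb _ ha
    exact fun x hx => (hK hx).2
  -- the section module `X / V`
  have hW : Sec X V L :=
    { le := hVX
      comm := hcommV
      normX := hLX
      normU := by
        intro l hl v hv
        have : l * v * l⁻¹ = v := by rw [hLV l hl v hv, mul_assoc, mul_inv_cancel, mul_one]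
        rw [this]; exact hv }
  haveI : Fintype ↥L := Fintype.ofFinite _
  have h2tor : ∀ m : hW.M, 2 • m = 0 := fun m => hW.nsmul_eq_zero (t := 2) hsqV m
  have hoddtor : ∀ m : hW.M, Nat.card L • m = m := by
    intro m
    obtain ⟨k, hk⟩ := hLodd
    rw [hk, add_smul, mul_smul, one_smul]
    have : (2 : ℕ) • (k • m) = 0 := h2tor _
    rw [this, zero_add]
  have hν_inv : ∀ (l₁ : ↥L) (m : hW.M), ∑ l : ↥L, l • l₁ • m = ∑ l : ↥L, l • m := by
    intro l₁ m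
    simp_rw [← mul_smul]
    exact Fintype.sum_equiv (Equiv.mulRight l₁) _ _ (fun l => rfl)
  let B : AddSubgroup hW.M :=
    { carrier := {m | ∑ l : ↥L, l • m = 0}
      zero_mem' := by simp
      add_mem' := by
        intro a b ha hb
        simp only [Set.mem_ofPred_eq] at ha hb ⊢
        simp_rw [smul_add]
        rw [Finset.sum_add_distrib, ha, hb, add_zero]
      neg_mem' := by
        intro a ha
        simp only [Set.mem_ofPred_eq] at ha ⊢
        simp_rw [smul_neg]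
        rw [Finset.sum_neg_distrib, ha, neg_zero] }
  have hXB : X ≤ hW.pre B := by
    apply hind
    rintro g ⟨l, hl, x, hx, rfl⟩
    have ha : l * x * l⁻¹ ∈ X := hLX l hl x hx
    have hb : x⁻¹ ∈ X := X.inv_mem hx
    rw [SetLike.mem_coe, hW.mem_pre_iff (X.mul_mem ha hb)]
    rw [hW.cls_mul ha hb, hW.cls_inv hx, ← hW.smul_cls' hl hx]
    show ∑ l' : ↥L, l' • ((⟨l, hl⟩ : ↥L) • hW.cls x hx + -hW.cls x hx) = 0
    simp_rw [smul_add, smul_neg]
    rw [Finset.sum_add_distrib, Finset.sum_neg_distrib, hν_inv, add_neg_cancel]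
  have hfix : ∀ x ∈ X, (∀ l ∈ L, l * x * l⁻¹ * x⁻¹ ∈ V) → x ∈ V := by
    intro x hx hxl
    have h1 : ∑ l : ↥L, l • hW.cls x hx = 0 := ((hW.mem_pre_iff hx).1 (hXB hx))
    have h2 : ∀ l : ↥L, l • hW.cls x hx = hW.cls x hx := by
      rintro ⟨l, hl⟩
      exact (hW.smul_cls_eq_iff hl hx).2 (hxl l hl)
    rw [Finset.sum_congr rfl (fun l _ => h2 l), Finset.sum_const, Finset.card_univ,
      ← Nat.card_eq_fintype_card, hoddtor] at h1
    exact (hW.cls_eq_zero hx).1 h1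
  exact ⟨X, hXQ, hVX, hVneX, hXN, hsqV, hcommV,
    fun x hx v hv => hVZ x (hXQ hx) v hv, hfix⟩

end main

end Cfsg.Agent.Lib.Helper4.TIX
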