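import Mathlib

set_option autoImplicit false

namespace Cfsg.Agent.Lib.Helper4

section
variable {A : Type*} [Group A]

/-- Linear characters trivial on a subgroup. -/
def trivOn (H : Subgroup A) : Subgroup (A →* ℂˣ) where
  carrier := {φ | ∀ a ∈ H, φ a = 1}
  one_mem' := fun _ _ => rfl
  mul_mem' := by
    intro φ ψ hφ hψ a ha
    simp [hφ a ha, hψ a ha]
  inv_mem' := by
    intro φ hφ a ha
    simp [hφ a ha]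

theorem mem_trivOn {H : Subgroup A} {φ : A →* ℂˣ} : φ ∈ trivOn H ↔ ∀ a ∈ H, φ a = 1 := Iff.rfl

variable [Finite A]

theorem exists_sep (hcomm : ∀ a b : A, a * b = b * a)
    (H : Subgroup A) (x : A) (hx : x ∉ H) : ∃ φ : A →* ℂˣ, (∀ y ∈ H, φ y = 1) ∧ φ x ≠ 1 := by
  letI : CommGroup A := { ‹Group A› with mul_comm := hcomm }
  haveI : NeZero (Monoid.exponent A) := ⟨Monoid.exponent_ne_zero_of_finite⟩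
  have := (CommGroup.forall_monoidHom_apply_eq_one_iff (G := A) (M := ℂ) H x).not.mpr hx
  push Not at this
  exact this

theorem sum_trivOn_mem (H : Subgroup A) [Fintype (trivOn H)]
    {u : A} (hu : u ∈ H) :
    ∑ φ : trivOn H, (((φ : A →* ℂˣ) u : ℂˣ) : ℂ) = (Fintype.card (trivOn H) : ℂ) := by
  have : ∀ φ : trivOn H, (((φ : A →* ℂˣ) u : ℂˣ) : ℂ) = 1 := by
    intro φ
    rw [φ.2 u hu]; simp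
  simp [this]

theorem sum_trivOn_notMem (hcomm : ∀ a b : A, a * b = b * a) (H : Subgroup A) [Fintype (trivOn H)]
    {u : A} (hu : u ∉ H) :
    ∑ φ : trivOn H, (((φ : A →* ℂˣ) u : ℂˣ) : ℂ) = 0 := by
  classical
  obtain ⟨φ₀, hφ₀, hne⟩ := exists_sep hcomm H u hu
  set S := ∑ φ : trivOn H, (((φ : A →* ℂˣ) u : ℂˣ) : ℂ) with hS
  have h1 : S = ((φ₀ u : ℂˣ) : ℂ) * S := by
    rw [hS, Finset.mul_sum, ← Equiv.sum_comp (Equiv.mulLeft (⟨φ₀, hφ₀⟩ : trivOn H))]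
    refine Finset.sum_congr rfl fun φ _ => ?_
    simp
  have h2 : (1 - ((φ₀ u : ℂˣ) : ℂ)) * S = 0 := by linear_combination h1
  rcases mul_eq_zero.mp h2 with h | h
  · exfalso
    apply hne
    have : ((φ₀ u : ℂˣ) : ℂ) = 1 := by linear_combination -h
    exact Units.ext this
  · exact h

theorem sum_trivOn_inv_mul_aux (H : Subgroup A)
    [Fintype (trivOn H)] (w₀ w : A) :
    ∑ φ : trivOn H, ((((φ : A →* ℂˣ) w₀)⁻¹ : ℂˣ) : ℂ) * (1 - (((φ : A →* ℂˣ) w : ℂˣ) : ℂ))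
      = ∑ φ : trivOn H, (((φ : A →* ℂˣ) w₀⁻¹ : ℂˣ) : ℂ)
        - ∑ φ : trivOn H, (((φ : A →* ℂˣ) (w₀⁻¹ * w) : ℂˣ) : ℂ) := by
  have h1 : ∀ φ : trivOn H, ((((φ : A →* ℂˣ) w₀)⁻¹ : ℂˣ) : ℂ) * (1 - (((φ : A →* ℂˣ) w : ℂˣ) : ℂ))
      = (((φ : A →* ℂˣ) w₀⁻¹ : ℂˣ) : ℂ) - (((φ : A →* ℂˣ) (w₀⁻¹ * w) : ℂˣ) : ℂ) := by
    intro φ
    rw [map_mul, map_inv]
    push_cast
    ring
  rw [Finset.sum_congr rfl fun φ _ => h1 φ, Finset.sum_sub_distrib]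

theorem sum_trivOn_inv_mul_mem (hcomm : ∀ a b : A, a * b = b * a) (H : Subgroup A)
    [Fintype (trivOn H)] (w₀ w : A) (hw₀ : w₀ ∉ H) (hw : w₀⁻¹ * w ∈ H) :
    ∑ φ : trivOn H, ((((φ : A →* ℂˣ) w₀)⁻¹ : ℂˣ) : ℂ) * (1 - (((φ : A →* ℂˣ) w : ℂˣ) : ℂ))
      = - (Fintype.card (trivOn H) : ℂ) := by
  have : w₀⁻¹ ∉ H := fun h => hw₀ (by simpa using H.inv_mem h)
  rw [sum_trivOn_inv_mul_aux, sum_trivOn_notMem hcomm H this, sum_trivOn_mem H hw, zero_sub]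

theorem sum_trivOn_inv_mul_notMem (hcomm : ∀ a b : A, a * b = b * a) (H : Subgroup A)
    [Fintype (trivOn H)] (w₀ w : A) (hw₀ : w₀ ∉ H) (hw : w₀⁻¹ * w ∉ H) :
    ∑ φ : trivOn H, ((((φ : A →* ℂˣ) w₀)⁻¹ : ℂˣ) : ℂ) * (1 - (((φ : A →* ℂˣ) w : ℂˣ) : ℂ))
      = 0 := by
  have : w₀⁻¹ ∉ H := fun h => hw₀ (by simpa using H.inv_mem h)
  rw [sum_trivOn_inv_mul_aux, sum_trivOn_notMem hcomm H this, sum_trivOn_notMem hcomm H hw, sub_zero]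

theorem delta_sum_aux (H₁ H₂ : Subgroup A)
    [Fintype (trivOn H₁)] [Fintype (trivOn H₂)] (w₀ w : A) :
    ∑ φ : trivOn H₂, ∑ ψ : trivOn H₁,
      ((((φ : A →* ℂˣ) w₀)⁻¹ : ℂˣ) : ℂ) * ((((ψ : A →* ℂˣ) w₀)⁻¹ : ℂˣ) : ℂ) *
        ((1 - (((φ : A →* ℂˣ) w : ℂˣ) : ℂ)) * (1 - (((ψ : A →* ℂˣ) w : ℂˣ) : ℂ)))
      = (∑ φ : trivOn H₂, ((((φ : A →* ℂˣ) w₀)⁻¹ : ℂˣ) : ℂ) * (1 - (((φ : A →* ℂˣ) w : ℂˣ) : ℂ))) *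
        (∑ ψ : trivOn H₁, ((((ψ : A →* ℂˣ) w₀)⁻¹ : ℂˣ) : ℂ) * (1 - (((ψ : A →* ℂˣ) w : ℂˣ) : ℂ))) := by
  rw [Finset.sum_mul_sum]
  refine Finset.sum_congr rfl fun φ _ => Finset.sum_congr rfl fun ψ _ => ?_
  ring

theorem delta_sum_eq (hcomm : ∀ a b : A, a * b = b * a) (H₁ H₂ : Subgroup A)
    [Fintype (trivOn H₁)] [Fintype (trivOn H₂)] (w₀ : A) (h1 : w₀ ∉ H₁) (h2 : w₀ ∉ H₂) :
    ∑ φ : trivOn H₂, ∑ ψ : trivOn H₁,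
      ((((φ : A →* ℂˣ) w₀)⁻¹ : ℂˣ) : ℂ) * ((((ψ : A →* ℂˣ) w₀)⁻¹ : ℂˣ) : ℂ) *
        ((1 - (((φ : A →* ℂˣ) w₀ : ℂˣ) : ℂ)) * (1 - (((ψ : A →* ℂˣ) w₀ : ℂˣ) : ℂ)))
      = (Fintype.card (trivOn H₂) : ℂ) * (Fintype.card (trivOn H₁) : ℂ) := by
  rw [delta_sum_aux, sum_trivOn_inv_mul_mem hcomm H₂ w₀ w₀ h2 (by simp),
    sum_trivOn_inv_mul_mem hcomm H₁ w₀ w₀ h1 (by simp)]
  ring

theorem delta_sum_ne (hcomm : ∀ a b : A, a * b = b * a) (H₁ H₂ : Subgroup A) (hd : H₁ ⊓ H₂ = ⊥)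
    [Fintype (trivOn H₁)] [Fintype (trivOn H₂)] (w₀ w : A) (h1 : w₀ ∉ H₁) (h2 : w₀ ∉ H₂)
    (hw : w ≠ w₀) :
    ∑ φ : trivOn H₂, ∑ ψ : trivOn H₁,
      ((((φ : A →* ℂˣ) w₀)⁻¹ : ℂˣ) : ℂ) * ((((ψ : A →* ℂˣ) w₀)⁻¹ : ℂˣ) : ℂ) *
        ((1 - (((φ : A →* ℂˣ) w : ℂˣ) : ℂ)) * (1 - (((ψ : A →* ℂˣ) w : ℂˣ) : ℂ)))
      = 0 := by
  rw [delta_sum_aux]
  have : ¬ (w₀⁻¹ * w ∈ H₁ ∧ w₀⁻¹ * w ∈ H₂) := by
    rintro ⟨ha, hb⟩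
    have : w₀⁻¹ * w ∈ H₁ ⊓ H₂ := ⟨ha, hb⟩
    rw [hd, Subgroup.mem_bot, inv_mul_eq_one] at this
    exact hw this.symm
  by_cases ha : w₀⁻¹ * w ∈ H₁
  · have hb : w₀⁻¹ * w ∉ H₂ := fun hb => this ⟨ha, hb⟩
    rw [sum_trivOn_inv_mul_notMem hcomm H₂ w₀ w h2 hb, zero_mul]
  · rw [sum_trivOn_inv_mul_notMem hcomm H₁ w₀ w h1 ha, mul_zero]

end

end Cfsg.Agent.Lib.Helper4
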