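import Mathlib
import Cfsg.Prelude.Def_OddOrder
import Cfsg.Prelude.Def_OddOrderLocal
import Cfsg.Agent.Lib.Helper4.PiCore
import Cfsg.Agent.S0024
import Cfsg.Agent.S0025

set_option autoImplicit false
open Pointwise

/-! Bender–Glauberman Section 7: the transitivity theorems; basic tools. -/

namespace Cfsg.Agent.Lib.Helper4.BG7

open Cfsg Cfsg.Agent.Lib.Helper4

universe u

variable {G : Type u} [Group G]

/-- `π(A)'` -/
abbrev cpi (A : Subgroup G) : Set ℕ := primesNotDvd (Nat.card A)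

/-- `K = O_{π(A)'}(C_G(A))` -/
abbrev KA (A : Subgroup G) : Subgroup G := piCoreOf (cpi A) (Subgroup.centralizer (A : Set G))

theorem piCoreOf_le (π : Set ℕ) (X : Subgroup G) : piCoreOf π X ≤ X := Subgroup.map_subtype_le _

theorem isPiNum_card_piCoreOf [Finite G] (π : Set ℕ) (X : Subgroup G) :
    IsPiNum π (Nat.card (piCoreOf π X)) := by
  unfold piCoreOf
  rw [Subgroup.card_map_of_injective X.subtype_injective]
  exact isPiNum_card_piCore π

theorem le_normalizer_piCoreOf (π : Set ℕ) (X : Subgroup G) :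
    X ≤ Subgroup.normalizer (piCoreOf π X : Set G) := by
  have h1 := Subgroup.le_normalizer_map (H := piCore π ↥X) X.subtype
  rw [Subgroup.normalizer_eq_top_iff.mpr inferInstance] at h1
  intro x hx
  apply h1
  exact ⟨⟨x, hx⟩, Subgroup.mem_top _, rfl⟩

theorem le_piCoreOf {π : Set ℕ} {N X : Subgroup G} (hNX : N ≤ X)
    (hn : X ≤ Subgroup.normalizer (N : Set G)) (hπ : IsPiNum π (Nat.card N)) : N ≤ piCoreOf π X := by
  haveI : (N.subgroupOf X).Normal := Subgroup.normal_subgroupOf_of_le_normalizer hn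
  have h1 : N.subgroupOf X ≤ piCore π ↥X := by
    apply le_piCore inferInstance
    rw [card_subgroupOf_of_le hNX]; exact hπ
  intro x hx
  exact ⟨⟨x, hNX hx⟩, h1 (by rw [Subgroup.mem_subgroupOf]; exact hx), rfl⟩

theorem isPiNum_of_le [Finite G] {π : Set ℕ} {H K : Subgroup G} (h : H ≤ K) (hK : IsPiNum π (Nat.card K)) :
    IsPiNum π (Nat.card H) := hK.of_dvd (Subgroup.card_dvd_of_le h)

/-- a `π(A)'`-number is coprime to `|A|` -/
theorem coprime_of_isPiNum [Finite G] (A : Subgroup G) {n : ℕ} (h : IsPiNum (cpi A) n) :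
    (Nat.card A).Coprime n := by
  apply Nat.coprime_of_dvd
  intro p hp h1 h2
  exact (h p hp h2).2 h1

theorem isPiNum_singleton_of_isPGroup [Finite G] {q : ℕ} [hq : Fact q.Prime] {Y : Subgroup G}
    (hY : IsPGroup q Y) : IsPiNum {q} (Nat.card Y) := by
  obtain ⟨k, hk⟩ := IsPGroup.iff_card.mp hY
  rw [hk]
  exact IsPiNum.pow (Set.mem_singleton q) hq.out k

theorem isPGroup_of_isPiNum_singleton [Finite G] {q : ℕ} [hq : Fact q.Prime] {Y : Subgroup G}
    (hY : IsPiNum {q} (Nat.card Y)) : IsPGroup q Y := by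
  have h1 : Nat.card Y ≠ 0 := Nat.card_pos.ne'
  have h2 := Nat.eq_prime_pow_of_unique_prime_dvd h1 (fun {d} hd hdd => hY d hd hdd)
  exact IsPGroup.of_card h2

theorem isPiNum_cpi_of_singleton {A : Subgroup G} {q : ℕ} (hq : q.Prime) (hqA : ¬ q ∣ Nat.card A)
    {n : ℕ} (h : IsPiNum {q} n) : IsPiNum (cpi A) n := by
  intro p hp hpn
  have : p = q := h p hp hpn
  rw [this]; exact ⟨hq, hqA⟩

/-- conjugacy under `K` -/
def KConj (A Q₁ Q₂ : Subgroup G) : Prop :=
  ∃ k ∈ KA A, Q₂ = Q₁.map (MulAut.conj k).toMonoidHom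

theorem KConj.refl (A Q : Subgroup G) : KConj A Q Q := by
  refine ⟨1, Subgroup.one_mem _, ?_⟩
  rw [map_one]
  exact (Subgroup.map_id Q).symm

theorem map_conj_map_conj (Q : Subgroup G) (a b : G) :
    (Q.map (MulAut.conj b).toMonoidHom).map (MulAut.conj a).toMonoidHom =
      Q.map (MulAut.conj (a * b)).toMonoidHom := by
  rw [Subgroup.map_map, map_mul]
  rfl

theorem KConj.symm {A Q₁ Q₂ : Subgroup G} (h : KConj A Q₁ Q₂) : KConj A Q₂ Q₁ := by
  obtain ⟨k, hk, rfl⟩ := h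
  refine ⟨k⁻¹, Subgroup.inv_mem _ hk, ?_⟩
  rw [map_conj_map_conj, inv_mul_cancel, map_one]
  exact (Subgroup.map_id Q₁).symm

theorem KConj.trans {A Q₁ Q₂ Q₃ : Subgroup G} (h : KConj A Q₁ Q₂) (h' : KConj A Q₂ Q₃) :
    KConj A Q₁ Q₃ := by
  obtain ⟨k, hk, rfl⟩ := h
  obtain ⟨k', hk', rfl⟩ := h'
  exact ⟨k' * k, Subgroup.mul_mem _ hk' hk, map_conj_map_conj Q₁ k' k⟩

theorem KA_le_centralizer (A : Subgroup G) : KA A ≤ Subgroup.centralizer (A : Set G) :=
  piCoreOf_le _ _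

/-- conjugation by an element centralizing `A` preserves the set of maximal invariant subgroups -/
theorem map_conj_mem_maxInv {A Q : Subgroup G} {π : Set ℕ} {k : G}
    (hk : k ∈ Subgroup.centralizer (A : Set G)) (hQ : Q ∈ maxInvSubgroups ⊤ A π) :
    Q.map (MulAut.conj k).toMonoidHom ∈ maxInvSubgroups ⊤ A π := by
  have hinv : ∀ (c : G), c ∈ Subgroup.centralizer (A : Set G) → ∀ R : Subgroup G,
      R ∈ invSubgroups ⊤ A π → R.map (MulAut.conj c).toMonoidHom ∈ invSubgroups ⊤ A π := by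
    intro c hc R hR
    refine ⟨le_top, ?_, ?_⟩
    · rw [Subgroup.card_map_of_injective (MulAut.conj c).injective]
      exact hR.2.1
    · intro a ha
      have hac : c * a = a * c := by
        rw [Subgroup.mem_centralizer_iff] at hc
        exact (hc a ha).symm
      have hnorm := Subgroup.mem_normalizer_iff.mp (hR.2.2 ha)
      rw [Subgroup.mem_normalizer_iff]
      intro x
      constructor
      · rintro ⟨y, hy, rfl⟩
        refine ⟨a * y * a⁻¹, (hnorm y).mp hy, ?_⟩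
        show c * (a * y * a⁻¹) * c⁻¹ = a * (c * y * c⁻¹) * a⁻¹
        calc c * (a * y * a⁻¹) * c⁻¹ = (c * a) * y * (c * a)⁻¹ := by group
          _ = (a * c) * y * (a * c)⁻¹ := by rw [hac]
          _ = a * (c * y * c⁻¹) * a⁻¹ := by group
      · rintro ⟨y, hy, hyx⟩
        have hyx' : c * y * c⁻¹ = a * x * a⁻¹ := hyx
        have hx : x = c * (a⁻¹ * y * a) * c⁻¹ := by
          have hcm : Commute c a := hac
          have h1 : a⁻¹ * c = c * a⁻¹ := hcm.inv_right.eq.symm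
          have h2 : c⁻¹ * a = a * c⁻¹ := hcm.inv_left.eq
          have : x = a⁻¹ * (a * x * a⁻¹) * a := by group
          rw [this, ← hyx']
          calc a⁻¹ * (c * y * c⁻¹) * a = (a⁻¹ * c) * y * (c⁻¹ * a) := by group
            _ = (c * a⁻¹) * y * (a * c⁻¹) := by rw [h1, h2]
            _ = c * (a⁻¹ * y * a) * c⁻¹ := by group
        refine ⟨a⁻¹ * y * a, ?_, hx.symm⟩
        apply (hnorm _).mpr
        have : a * (a⁻¹ * y * a) * a⁻¹ = y := by group
        rw [this]; exact hy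
  refine ⟨hinv k hk Q hQ.1, ?_⟩
  intro R hR hle
  have h1 : Q ≤ R.map (MulAut.conj k⁻¹).toMonoidHom := by
    intro x hx
    refine ⟨k * x * k⁻¹, hle ⟨x, hx, rfl⟩, ?_⟩
    show k⁻¹ * (k * x * k⁻¹) * k⁻¹⁻¹ = x
    group
  have h2 := hQ.2 _ (hinv k⁻¹ (Subgroup.inv_mem _ hk) R hR) h1
  rw [← h2, map_conj_map_conj, mul_inv_cancel, map_one]
  exact (Subgroup.map_id R).symm

/-- every invariant subgroup lies in a maximal one -/
theorem exists_maxInv_ge [Finite G] {A R : Subgroup G} {π : Set ℕ} (hR : R ∈ invSubgroups ⊤ A π) :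
    ∃ Q ∈ maxInvSubgroups ⊤ A π, R ≤ Q := by
  let 𝒯 := {Q : Subgroup G // Q ∈ invSubgroups ⊤ A π ∧ R ≤ Q}
  have : Nonempty 𝒯 := ⟨⟨R, hR, le_rfl⟩⟩
  have : Finite 𝒯 := Subtype.finite
  obtain ⟨⟨Q, hQ, hRQ⟩, hmax⟩ := Finite.exists_max (fun Q : 𝒯 => Nat.card Q.1)
  refine ⟨Q, ⟨hQ, ?_⟩, hRQ⟩
  intro R' hR' hle
  have h1 := hmax ⟨R', hR', hRQ.trans hle⟩
  simp only at h1
  exact (Subgroup.eq_of_le_of_card_ge hle h1).symm

end Cfsg.Agent.Lib.Helper4.BG7
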