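import Mathlib
import Cfsg.Agent.Lib.Helper4.FusionLift1
import Cfsg.Agent.Lib.Helper6.PPrimeCore

set_option autoImplicit false
open Pointwise

/-! Conjugacy of `p`-elements in a coset of a normalized `p'`-subgroup. -/

namespace Cfsg.Agent.Lib.Helper4

open Cfsg Cfsg.Agent.Lib.Helper7

variable {G : Type*} [Group G] {p : ℕ} [Finite G] [Fact p.Prime]

/-- a `p`-subgroup `Y` normalizing a `p'`-subgroup `E` is a Sylow `p`-subgroup of `E Y` -/
theorem sylIn_sup_of_coprime {E Y : Subgroup G} (hYE : Y ≤ Subgroup.normalizer (E : Set G))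
    (hY : IsPGroup p Y) (hE : (Nat.card E).Coprime p) : SylIn p (E ⊔ Y) Y := by
  obtain ⟨R, hYR, hR⟩ := exists_sylIn_ge (le_sup_right : Y ≤ E ⊔ Y) hY
  have hRE : R ⊓ E = ⊥ := Cfsg.Agent.Lib.Helper6.isPGroup_inf_coprime_eq_bot hE hR.2.1
  have hRY : R ≤ Y := by
    intro r hr
    obtain ⟨e, he, u, hu, hreu⟩ := exists_mul_of_mem_sup_normalizer hYE (hR.1 hr)
    have h1 : e = r * u⁻¹ := by rw [hreu]; group
    have h2 : e ∈ R ⊓ E := Subgroup.mem_inf.mpr ⟨by rw [h1]; exact R.mul_mem hr (R.inv_mem (hYR hu)), he⟩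
    rw [hRE, Subgroup.mem_bot] at h2
    rw [hreu, h2, one_mul]; exact hu
  have hRY' : R = Y := le_antisymm hRY hYR
  rw [hRY'] at hR; exact hR

/-- two `p`-elements in the same coset of a normalized `p'`-subgroup `E` are conjugate under `E` -/
theorem coprime_conj_of_mem_coset {E : Subgroup G} (hE : (Nat.card E).Coprime p) {y y₁ : G}
    (hy : y ∈ Subgroup.normalizer (E : Set G)) (hyp : IsPGroup p (Subgroup.zpowers y))
    (hy₁p : IsPGroup p (Subgroup.zpowers y₁)) (he₀ : y⁻¹ * y₁ ∈ E) :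
    ∃ e ∈ E, e * y * e⁻¹ = y₁ := by
  obtain ⟨e₀, he₀def⟩ : ∃ e₀ : G, e₀ = y⁻¹ * y₁ := ⟨_, rfl⟩
  rw [← he₀def] at he₀
  have hy₁eq : y₁ = y * e₀ := by rw [he₀def]; group
  have hy₁ : y₁ ∈ Subgroup.normalizer (E : Set G) := by
    rw [hy₁eq]; exact Subgroup.mul_mem _ hy (Subgroup.le_normalizer he₀)
  have hYE : Subgroup.zpowers y ≤ Subgroup.normalizer (E : Set G) := Subgroup.zpowers_le.mpr hy
  have hY₁E : Subgroup.zpowers y₁ ≤ Subgroup.normalizer (E : Set G) := Subgroup.zpowers_le.mpr hy₁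
  have hS := sylIn_sup_of_coprime hYE hyp hE
  have hS₁ := sylIn_sup_of_coprime hY₁E hy₁p hE
  have hXeq : E ⊔ Subgroup.zpowers y₁ = E ⊔ Subgroup.zpowers y := by
    apply le_antisymm
    · refine sup_le le_sup_left (Subgroup.zpowers_le.mpr ?_)
      rw [hy₁eq]
      exact Subgroup.mul_mem _ (Subgroup.mem_sup_right (Subgroup.mem_zpowers y)) (Subgroup.mem_sup_left he₀)
    · refine sup_le le_sup_left (Subgroup.zpowers_le.mpr ?_)
      have : y = y₁ * e₀⁻¹ := by rw [hy₁eq]; group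
      rw [this]
      exact Subgroup.mul_mem _ (Subgroup.mem_sup_right (Subgroup.mem_zpowers y₁))
        (Subgroup.mem_sup_left (E.inv_mem he₀))
  rw [hXeq] at hS₁
  obtain ⟨c, hc, hcY⟩ := hS.conj hS₁
  obtain ⟨e, he, u, hu, hceu⟩ := exists_mul_of_mem_sup_normalizer hYE hc
  have hcY' : Helper7.cj e (Subgroup.zpowers y) = Subgroup.zpowers y₁ := by
    rw [hceu, cj_mul, cj_eq_self_of_mem hu] at hcY
    exact hcY
  refine ⟨e, he, ?_⟩
  have hw : e * y * e⁻¹ ∈ Subgroup.zpowers y₁ := by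
    rw [← hcY']
    exact ⟨y, Subgroup.mem_zpowers y, rfl⟩
  have hE₁ : Subgroup.zpowers y₁ ⊓ E = ⊥ :=
    Cfsg.Agent.Lib.Helper6.isPGroup_inf_coprime_eq_bot hE hy₁p
  have h1 : y₁⁻¹ * (e * y * e⁻¹) ∈ Subgroup.zpowers y₁ ⊓ E := by
    refine Subgroup.mem_inf.mpr ⟨Subgroup.mul_mem _ (Subgroup.inv_mem _ (Subgroup.mem_zpowers y₁)) hw, ?_⟩
    have h2 : y₁⁻¹ * (e * y * e⁻¹) = e₀⁻¹ * (y⁻¹ * e * y⁻¹⁻¹) * e⁻¹ := by rw [hy₁eq]; group
    rw [h2]
    refine E.mul_mem (E.mul_mem (E.inv_mem he₀) ?_) (E.inv_mem he)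
    exact (Subgroup.mem_normalizer_iff.mp (Subgroup.inv_mem _ hy) e).mp he
  rw [hE₁, Subgroup.mem_bot] at h1
  have : e * y * e⁻¹ = y₁ * (y₁⁻¹ * (e * y * e⁻¹)) := by group
  rw [this, h1, mul_one]

end Cfsg.Agent.Lib.Helper4
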