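import Mathlib
import Cfsg.Prelude.Def_OddOrderLocal
import Cfsg.Agent.Lib.Lead.Core
import Cfsg.Agent.Lib.Lead.CoprimeTools

set_option autoImplicit false

namespace Cfsg.Agent.Lib.Helper4

open Cfsg.Agent.Lib.Lead

section General
variable {G : Type*} [Group G]

/-- A subgroup of a nilpotent subgroup is nilpotent. -/
theorem isNilpotent_of_le {K F : Subgroup G} (hF : Group.IsNilpotent F) (h : K ≤ F) :
    Group.IsNilpotent K := by
  haveI := hF
  have e : K.subgroupOf F ≃* K := Subgroup.subgroupOfEquivOfLe h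
  exact Group.nilpotent_of_mulEquiv e

variable [Finite G]

/-- The join of two normal nilpotent subgroups is nilpotent (Fitting). -/
theorem isNilpotent_sup_of_normal {N₁ N₂ : Subgroup G} (h₁ : N₁.Normal) (h₂ : N₂.Normal)
    (n₁ : Group.IsNilpotent N₁) (n₂ : Group.IsNilpotent N₂) : Group.IsNilpotent (N₁ ⊔ N₂ : Subgroup G) :=
  isNilpotent_of_le fittingSubgroup_isNilpotent
    (sup_le (le_fittingSubgroup h₁ n₁) (le_fittingSubgroup h₂ n₂))

/-- The join of two normal Hall subgroups is a Hall subgroup. -/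
theorem coprime_sup_of_normal {N₁ N₂ : Subgroup G} (h₁ : N₁.Normal)
    (c₁ : (Nat.card N₁).Coprime N₁.index) (c₂ : (Nat.card N₂).Coprime N₂.index) :
    (Nat.card (N₁ ⊔ N₂ : Subgroup G)).Coprime (N₁ ⊔ N₂ : Subgroup G).index := by
  apply Nat.coprime_of_dvd
  intro p hp hdvd hidx
  have h1 := card_sup_mul_card_inf N₂ N₁ (Subgroup.le_normalizer_of_normal)
  have h2 : Nat.card (N₁ ⊔ N₂ : Subgroup G) ∣ Nat.card N₂ * Nat.card N₁ := by
    rw [sup_comm, ← h1]; exact dvd_mul_right _ _
  rcases (Nat.Prime.dvd_mul hp).mp (hdvd.trans h2) with h | h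
  · have : p ∣ N₂.index := hidx.trans (Subgroup.index_dvd_of_le le_sup_right)
    exact (Nat.Prime.coprime_iff_not_dvd hp).mp
      (Nat.Coprime.coprime_dvd_left h c₂) this
  · have : p ∣ N₁.index := hidx.trans (Subgroup.index_dvd_of_le le_sup_left)
    exact (Nat.Prime.coprime_iff_not_dvd hp).mp
      (Nat.Coprime.coprime_dvd_left h c₁) this

/-- `M_F` is itself a normal nilpotent Hall subgroup. -/
theorem fittingHall_mem : (Cfsg.fittingHall G).Normal ∧ Group.IsNilpotent (Cfsg.fittingHall G) ∧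
    (Nat.card (Cfsg.fittingHall G)).Coprime (Cfsg.fittingHall G).index := by
  set S : Set (Subgroup G) := {N | N.Normal ∧ Group.IsNilpotent N ∧ (Nat.card N).Coprime N.index}
    with hS
  have hclosed : SupClosed S := by
    intro N₁ h₁ N₂ h₂
    exact ⟨Subgroup.sup_normal (hH := h₁.1) (hK := h₂.1),
      isNilpotent_sup_of_normal h₁.1 h₂.1 h₁.2.1 h₂.2.1, coprime_sup_of_normal h₁.1 h₁.2.2 h₂.2.2⟩
  have hbot : (⊥ : Subgroup G) ∈ S := by
    refine ⟨inferInstance, inferInstance, ?_⟩
    simp
  exact hclosed.sSup_mem (Set.toFinite S) hbot le_rfl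

theorem le_fittingHall {N : Subgroup G} (h : N.Normal) (n : Group.IsNilpotent N)
    (c : (Nat.card N).Coprime N.index) : N ≤ Cfsg.fittingHall G := le_sSup ⟨h, n, c⟩

end General

section Sub
variable {G : Type*} [Group G] [Finite G] (M : Subgroup G)

theorem fittingHallOf_le : Cfsg.fittingHallOf M ≤ M := Subgroup.map_subtype_le _

theorem card_fittingHallOf : Nat.card (Cfsg.fittingHallOf M) = Nat.card (Cfsg.fittingHall M) :=
  Subgroup.card_map_of_injective M.subtype_injective

theorem le_normalizer_fittingHallOf : M ≤ Subgroup.normalizer (Cfsg.fittingHallOf M : Set G) := by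
  haveI := (fittingHall_mem (G := M)).1
  have key : ∀ m ∈ M, ∀ x ∈ Cfsg.fittingHallOf M, m * x * m⁻¹ ∈ Cfsg.fittingHallOf M := by
    intro m hm x hx
    obtain ⟨y, hy, rfl⟩ := hx
    exact ⟨⟨m, hm⟩ * y * ⟨m, hm⟩⁻¹, (inferInstance : (Cfsg.fittingHall M).Normal).conj_mem y hy _, rfl⟩
  intro m hm
  rw [Subgroup.mem_normalizer_iff]
  intro x
  constructor
  · exact key m hm x
  · intro hx
    have := key m⁻¹ (M.inv_mem hm) _ hx
    simpa [mul_assoc] using this

theorem isNilpotent_fittingHallOf : Group.IsNilpotent (Cfsg.fittingHallOf M) := by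
  haveI := (fittingHall_mem (G := M)).2.1
  have e : Cfsg.fittingHall M ≃* Cfsg.fittingHallOf M :=
    (Cfsg.fittingHall M).equivMapOfInjective M.subtype M.subtype_injective
  exact Group.nilpotent_of_mulEquiv e

/-- `|M_F|` is coprime to `|M : M_F|`. -/
theorem fittingHallOf_coprime :
    (Nat.card (Cfsg.fittingHallOf M)).Coprime ((Cfsg.fittingHallOf M).relIndex M) := by
  have h := (fittingHall_mem (G := M)).2.2
  rw [card_fittingHallOf]
  have : (Cfsg.fittingHallOf M).relIndex M = (Cfsg.fittingHall M).index := by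
    unfold Subgroup.relIndex Cfsg.fittingHallOf
    congr 1
    ext x
    simp only [Subgroup.mem_subgroupOf, Subgroup.mem_map, Subgroup.coe_subtype]
    constructor
    · rintro ⟨y, hy, hyx⟩
      have : y = x := Subtype.ext hyx
      rw [← this]; exact hy
    · intro hx; exact ⟨x, hx, rfl⟩
  rw [this]; exact h

/-- A normal nilpotent Hall subgroup of `M` lies in `M_F`. -/
theorem le_fittingHallOf {N : Subgroup G} (hNM : N ≤ M) (hn : M ≤ Subgroup.normalizer (N : Set G))
    (nil : Group.IsNilpotent N) (c : (Nat.card N).Coprime (N.relIndex M)) :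
    N ≤ Cfsg.fittingHallOf M := by
  haveI : (N.subgroupOf M).Normal := Subgroup.normal_subgroupOf_of_le_normalizer hn
  have e : N.subgroupOf M ≃* N := Subgroup.subgroupOfEquivOfLe hNM
  haveI := nil
  have nil' : Group.IsNilpotent (N.subgroupOf M) := Group.nilpotent_of_mulEquiv e.symm
  have c' : (Nat.card (N.subgroupOf M)).Coprime (N.subgroupOf M).index := by
    rw [Nat.card_congr e.toEquiv]; exact c
  have := le_fittingHall inferInstance nil' c'
  intro x hx
  exact ⟨⟨x, hNM hx⟩, this hx, rfl⟩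

end Sub

end Cfsg.Agent.Lib.Helper4
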