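import Mathlib
import Cfsg.Prelude.Def_LieExceptional
import Cfsg.Agent.Lib.Helper4.CoprimeConj
import Cfsg.Agent.Lib.Helper4.AlperinTame
import Cfsg.Agent.Lib.Helper4.FittingHall
import Cfsg.Agent.Lib.Helper2.NilpHall
import Cfsg.Agent.Lib.Helper2.Schmidt
import Cfsg.Agent.Lib.Lead.CoprimeAction
import Cfsg.Agent.Lib.Lead.Nilpotent
import Cfsg.Agent.Lib.Helper7.Wielandt1

set_option autoImplicit false

/-! CN-groups: quotients by abelian normal `p`-subgroups. -/

namespace Cfsg.Agent.Lib.Helper4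

open Cfsg Cfsg.Agent.Lib.Helper7

variable {G : Type*} [Group G]

/-- a subgroup containing a Sylow `q`-subgroup of `D` for every prime `q` contains `D` -/
theorem le_of_forall_sylIn_le [Finite G] {C D : Subgroup G} (hCD : C ≤ D)
    (h : ∀ q : ℕ, q.Prime → ∃ Q : Subgroup G, SylIn q D Q ∧ Q ≤ C) : D ≤ C := by
  rw [← Subgroup.relIndex_eq_one]
  by_contra hne
  obtain ⟨q, hq, hqd⟩ := Nat.exists_prime_and_dvd hne
  obtain ⟨Q, hQ, hQC⟩ := h q hq
  exact hQ.2.2 (hqd.trans (Subgroup.relIndex_dvd_of_le_left D hQC))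

theorem coprime_of_mem_sylIn {q p : ℕ} (hq : q.Prime) (hp : p.Prime) (hqp : q ≠ p)
    {Q : Subgroup G} (hQ : IsPGroup q Q) {y : G} (hy : y ∈ Q) : (orderOf y).Coprime p := by
  obtain ⟨k, hk⟩ := hQ ⟨y, hy⟩
  have h1 : y ^ q ^ k = 1 := by
    have := congrArg Subtype.val hk
    simpa using this
  have h2 : orderOf y ∣ q ^ k := orderOf_dvd_of_pow_eq_one h1
  exact Nat.Coprime.coprime_dvd_left h2 (Nat.Coprime.pow_left k ((Nat.coprime_primes hq hp).mpr hqp))

/-- the case of a `p`-element of the quotient -/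
theorem cn_case_p [Finite G] (hCN : IsCNGroup G) {p : ℕ} [hp : Fact p.Prime] (A : Subgroup G)
    [hAn : A.Normal] (hAc : ∀ a ∈ A, ∀ b ∈ A, a * b = b * a) (hAp : IsPGroup p A) (hA1 : A ≠ ⊥)
    (x : G) (hxA : x ∉ A) (hxp : x ^ p ∈ A)
    (D : Subgroup G) (hD : ∀ d, d ∈ D ↔ d * x * d⁻¹ * x⁻¹ ∈ A) :
    ∃ h : G, h ≠ 1 ∧ D ≤ Subgroup.centralizer ({h} : Set G) := by
  classical
  have hAD : A ≤ D := by
    intro a ha
    rw [hD]
    have h1 : x * a⁻¹ * x⁻¹ ∈ A := hAn.conj_mem _ (A.inv_mem ha) x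
    have : a * x * a⁻¹ * x⁻¹ = a * (x * a⁻¹ * x⁻¹) := by group
    rw [this]; exact A.mul_mem ha h1
  have hxD : x ∈ D := by
    rw [hD]
    have : x * x * x⁻¹ * x⁻¹ = 1 := by group
    rw [this]; exact A.one_mem
  -- zpowers x is a p-group
  have hxpg : IsPGroup p (Subgroup.zpowers x) := by
    obtain ⟨j, hj⟩ := hAp ⟨x ^ p, hxp⟩
    have h1 : (x ^ p) ^ p ^ j = 1 := by
      have := congrArg Subtype.val hj
      simpa using this
    have h2 : x ^ p ^ (j + 1) = 1 := by rw [pow_succ', pow_mul]; exact h1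
    apply IsPGroup.of_card (n := (Nat.factorization (orderOf x)) p)
    rw [Nat.card_zpowers]
    have h3 : orderOf x ∣ p ^ (j + 1) := orderOf_dvd_of_pow_eq_one h2
    obtain ⟨i, -, hi⟩ := (Nat.dvd_prime_pow hp.out).mp h3
    rw [hi, hp.out.factorization_pow, Finsupp.single_eq_same]
  obtain ⟨P, hPdef⟩ : ∃ P : Subgroup G, P = A ⊔ Subgroup.zpowers x := ⟨_, rfl⟩
  have hPp : IsPGroup p P := by rw [hPdef]; exact IsPGroup.to_sup_of_normal_left hAp hxpg
  have hAP : A ≤ P := by rw [hPdef]; exact le_sup_left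
  have hxP : x ∈ P := by rw [hPdef]; exact Subgroup.mem_sup_right (Subgroup.mem_zpowers x)
  have hPD : P ≤ D := by rw [hPdef]; exact sup_le hAD (Subgroup.zpowers_le.mpr hxD)
  -- D normalizes P
  have hDP : D ≤ Subgroup.normalizer (P : Set G) := by
    intro d hd
    rw [mem_normalizer_iff_cj]
    apply cj_eq_of_le
    rw [hPdef]
    show (A ⊔ Subgroup.zpowers x).map (MulAut.conj d).toMonoidHom ≤ A ⊔ Subgroup.zpowers x
    rw [Subgroup.map_sup, MonoidHom.map_zpowers]
    refine sup_le ?_ ?_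
    · refine le_trans ?_ le_sup_left
      rintro _ ⟨a, ha, rfl⟩
      exact hAn.conj_mem a ha d
    · rw [Subgroup.zpowers_le]
      have h1 : (MulAut.conj d).toMonoidHom x = (d * x * d⁻¹ * x⁻¹) * x := by
        simp [MulAut.conj_apply]
      rw [h1]
      exact Subgroup.mul_mem _ (Subgroup.mem_sup_left ((hD d).mp hd))
        (Subgroup.mem_sup_right (Subgroup.mem_zpowers x))
  obtain ⟨S, hPS, hSsyl⟩ := exists_sylIn_ge hPD hPp
  -- the element h
  obtain ⟨h, hhA, hh1, hhS⟩ : ∃ h : G, h ∈ A ∧ h ≠ 1 ∧ ∀ s ∈ S, s * h = h * s := by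
    haveI : Group.IsNilpotent S := hSsyl.2.1.isNilpotent
    haveI : (A.subgroupOf S).Normal := hAn.subgroupOf S
    have hne : A.subgroupOf S ≠ ⊥ := by
      intro h0
      apply hA1
      rw [Subgroup.subgroupOf_eq_bot] at h0
      rw [← inf_eq_left.mpr (hAP.trans hPS)]
      exact h0.eq_bot
    have h2 := Cfsg.Agent.Lib.Lead.inf_center_ne_bot (A.subgroupOf S) hne
    obtain ⟨⟨h', hh'⟩, hh'1⟩ := (Subgroup.ne_bot_iff_exists_ne_one).mp h2
    refine ⟨(h' : S), ?_, ?_, ?_⟩
    · exact Subgroup.mem_subgroupOf.mp hh'.1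
    · intro h0
      apply hh'1
      apply Subtype.ext
      apply Subtype.ext
      simpa using h0
    · intro s hs
      have := Subgroup.mem_center_iff.mp hh'.2 ⟨s, hs⟩
      exact congrArg Subtype.val this
  -- p'-elements of D centralize C_A(x)
  have hZ : ∀ y ∈ D, (orderOf y).Coprime p → ∀ z ∈ A, z * x = x * z → y * z = z * y := by
    intro y hyD hyp z hzA hzx
    have hYD : Subgroup.zpowers y ≤ D := Subgroup.zpowers_le.mpr hyD
    have hcop : (Nat.card (Subgroup.zpowers y)).Coprime (Nat.card P) := by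
      obtain ⟨k, hk⟩ := IsPGroup.iff_card.mp hPp
      rw [hk, Nat.card_zpowers]
      exact Nat.Coprime.pow_right k hyp
    have hAnorm : ∀ X : Subgroup G, X ≤ Subgroup.normalizer (A : Set G) := by
      intro X
      rw [Subgroup.normalizer_eq_top]; exact le_top
    have hsolv : Group.IsSolvable (Subgroup.zpowers y) ∨ Group.IsSolvable P := by
      left
      infer_instance
    obtain ⟨c, hc, hxc⟩ := Cfsg.Agent.Lib.Lead.coprime_fixed_coset (Subgroup.zpowers y) P
      (hYD.trans hDP) hcop hsolv A hAP (hAnorm P) (hAnorm _) x hxP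
      (fun a ha => (hD a).mp (hYD ha))
    have hcy : c * y = y * c := by
      have := Subgroup.mem_centralizer_iff.mp hc.2 y (Subgroup.mem_zpowers y)
      exact this.symm
    have hc1 : c ≠ 1 := by
      intro h0
      apply hxA
      rw [h0, mul_one] at hxc
      have := A.inv_mem hxc
      rwa [inv_inv] at this
    have hΓ : Group.IsNilpotent (Subgroup.centralizer ({c} : Set G)) := hCN c hc1
    have hyΓ : y ∈ Subgroup.centralizer ({c} : Set G) := by
      rw [Subgroup.mem_centralizer_iff]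
      intro w hw
      rw [Set.mem_singleton_iff] at hw
      rw [hw]; exact hcy
    have hTΓ : Subgroup.zpowers y ≤ Subgroup.centralizer ({c} : Set G) :=
      Subgroup.zpowers_le.mpr hyΓ
    have hTn : Subgroup.zpowers y ≤ Subgroup.normalizer
        ((A ⊓ Subgroup.centralizer ({c} : Set G) : Subgroup G) : Set G) := by
      refine le_trans ?_ Subgroup.inf_normalizer_le_normalizer_inf
      exact le_inf (hAnorm _) (hTΓ.trans Subgroup.le_normalizer)
    have hcop2 : (Nat.card (Subgroup.zpowers y)).Coprime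
        (Nat.card (A ⊓ Subgroup.centralizer ({c} : Set G) : Subgroup G)) := by
      obtain ⟨k, hk⟩ := IsPGroup.iff_card.mp (hAp.to_le (inf_le_left : A ⊓ Subgroup.centralizer ({c} : Set G) ≤ A))
      rw [hk, Nat.card_zpowers]
      exact Nat.Coprime.pow_right k hyp
    have hcomm := Cfsg.Agent.Lib.Helper2.NilpHall.commutator_eq_bot_of_nilpotent_coprime
      (Subgroup.centralizer ({c} : Set G)) (A ⊓ Subgroup.centralizer ({c} : Set G))
      (Subgroup.zpowers y) inf_le_right hTΓ hTn hcop2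
    rw [Subgroup.commutator_eq_bot_iff_le_centralizer] at hcomm
    -- z ∈ A ⊓ centralizer {c}
    have hzc : z ∈ A ⊓ Subgroup.centralizer ({c} : Set G) := by
      refine Subgroup.mem_inf.mpr ⟨hzA, ?_⟩
      rw [Subgroup.mem_centralizer_iff]
      intro w hw
      rw [Set.mem_singleton_iff] at hw
      rw [hw]
      have hceq : c = x * (x⁻¹ * c) := by group
      rw [hceq]
      have h3 := hAc z hzA (x⁻¹ * c) hxc
      calc x * (x⁻¹ * c) * z = x * ((x⁻¹ * c) * z) := by rw [mul_assoc]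
        _ = x * (z * (x⁻¹ * c)) := by rw [h3]
        _ = (x * z) * (x⁻¹ * c) := by rw [mul_assoc]
        _ = (z * x) * (x⁻¹ * c) := by rw [hzx]
        _ = z * (x * (x⁻¹ * c)) := by rw [mul_assoc]
    have := Subgroup.mem_centralizer_iff.mp (hcomm hzc) y (Subgroup.mem_zpowers y)
    exact this
  have hhx : h * x = x * h := (hhS x (hPS hxP)).symm
  refine ⟨h, hh1, ?_⟩
  have hCD : D ⊓ Subgroup.centralizer ({h} : Set G) ≤ D := inf_le_left
  refine le_trans (le_of_forall_sylIn_le hCD ?_) inf_le_right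
  intro q hq
  by_cases hqp : q = p
  · subst hqp
    refine ⟨S, hSsyl, le_inf hSsyl.1 ?_⟩
    intro s hs
    rw [Subgroup.mem_centralizer_iff]
    intro w hw
    rw [Set.mem_singleton_iff] at hw
    rw [hw]; exact (hhS s hs).symm
  · haveI : Fact q.Prime := ⟨hq⟩
    obtain ⟨Q, -, hQ⟩ := exists_sylIn_ge (p := q) (bot_le : (⊥ : Subgroup G) ≤ D) IsPGroup.of_bot
    refine ⟨Q, hQ, le_inf hQ.1 ?_⟩
    intro y hy
    rw [Subgroup.mem_centralizer_iff]
    intro w hw
    rw [Set.mem_singleton_iff] at hw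
    rw [hw]
    exact (hZ y (hQ.1 hy) (coprime_of_mem_sylIn hq hp.out hqp hQ.2.1 hy) h hhA hhx).symm

end Cfsg.Agent.Lib.Helper4
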