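import Mathlib
import Cfsg.Agent.Lib.Helper4.CNGroup1
import Cfsg.Agent.Lib.Helper3.Components8

set_option autoImplicit false

/-! Nilpotent subgroups of a finite group: Sylow subgroups, central elements. -/

namespace Cfsg.Agent.Lib.Helper4

open Cfsg Cfsg.Agent.Lib.Helper7

variable {G : Type*} [Group G] [Finite G] {p : ℕ} [hp : Fact p.Prime]

/-- a Sylow subgroup of a nilpotent subgroup is normal in it -/
theorem sylIn_normal_of_isNilpotent {H R : Subgroup G} (hH : Group.IsNilpotent H)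
    (hR : SylIn p H R) : H ≤ Subgroup.normalizer (R : Set G) := by
  haveI := hH
  have hp' : IsPGroup p (R.subgroupOf H) := hR.2.1.comap_subtype
  have hidx : ¬ p ∣ (R.subgroupOf H).index := hR.2.2
  have hn : ((hp'.toSylow hidx : Sylow p H) : Subgroup H).Normal := inferInstance
  rw [IsPGroup.toSylow_coe] at hn
  exact (Subgroup.normal_subgroupOf_iff_le_normalizer hR.1).mp hn

/-- a normal Sylow subgroup contains every `p`-subgroup -/
theorem SylIn.le_of_normal {H R T : Subgroup G} (hR : SylIn p H R)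
    (hn : H ≤ Subgroup.normalizer (R : Set G)) (hT : T ≤ H) (hTp : IsPGroup p T) : T ≤ R := by
  have h1 : IsPGroup p (T ⊔ R : Subgroup G) :=
    IsPGroup.to_sup_of_normal_right' hTp hR.2.1 (hT.trans hn)
  have h2 := eq_of_isPGroup_of_relIndex (le_sup_right : R ≤ T ⊔ R) (sup_le hT hR.1) h1 hR.2.2
  calc T ≤ T ⊔ R := le_sup_left
    _ = R := h2

theorem isPGroup_zpowers_of_mem {R : Subgroup G} (hR : IsPGroup p R) {y : G} (hy : y ∈ R) :
    IsPGroup p (Subgroup.zpowers y) := hR.to_le (Subgroup.zpowers_le.mpr hy)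

theorem orderOf_coprime_of_isPGroup_zpowers {q : ℕ} (hq : q.Prime) (hqp : q ≠ p) {y : G}
    (hy : IsPGroup q (Subgroup.zpowers y)) : (orderOf y).Coprime p := by
  haveI : Fact q.Prime := ⟨hq⟩
  obtain ⟨k, hk⟩ := IsPGroup.iff_card.mp hy
  rw [Nat.card_zpowers] at hk
  rw [hk]
  exact Nat.Coprime.pow_left k ((Nat.coprime_primes hq hp.out).mpr hqp)

/-- in a nilpotent subgroup a `p`-element commutes with every element of order prime to `p` -/
theorem commute_of_isNilpotent {H : Subgroup G} (hH : Group.IsNilpotent H) {a b : G}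
    (ha : a ∈ H) (hb : b ∈ H) (hap : IsPGroup p (Subgroup.zpowers a))
    (hbp : (orderOf b).Coprime p) : a * b = b * a := by
  obtain ⟨R, haR, hR⟩ := exists_sylIn_ge (Subgroup.zpowers_le.mpr ha) hap
  have hn := sylIn_normal_of_isNilpotent hH hR
  haveI := hH
  have hcop : (Nat.card (Subgroup.zpowers b)).Coprime (Nat.card R) := by
    obtain ⟨k, hk⟩ := IsPGroup.iff_card.mp hR.2.1
    rw [hk, Nat.card_zpowers]
    exact Nat.Coprime.pow_right k hbp
  have h1 := Cfsg.Agent.Lib.Helper2.NilpHall.commutator_eq_bot_of_nilpotent_coprime H R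
    (Subgroup.zpowers b) hR.1 (Subgroup.zpowers_le.mpr hb) ((Subgroup.zpowers_le.mpr hb).trans hn) hcop
  rw [Subgroup.commutator_eq_bot_iff_le_centralizer] at h1
  have h2 := Subgroup.mem_centralizer_iff.mp (h1 (haR (Subgroup.mem_zpowers a))) b
    (Subgroup.mem_zpowers b)
  exact h2.symm

/-- a `p`-element commuting with all `p`-elements of a nilpotent subgroup is central in it -/
theorem central_of_commute_pElements {H : Subgroup G} (hH : Group.IsNilpotent H) {v : G}
    (hv : v ∈ H) (hvp : IsPGroup p (Subgroup.zpowers v))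
    (hcomm : ∀ y ∈ H, IsPGroup p (Subgroup.zpowers y) → y * v = v * y) :
    ∀ h ∈ H, h * v = v * h := by
  have hle : H ≤ H ⊓ Subgroup.centralizer ({v} : Set G) := by
    apply le_of_forall_sylIn_le inf_le_left
    intro q hq
    haveI : Fact q.Prime := ⟨hq⟩
    obtain ⟨Q, -, hQ⟩ := exists_sylIn_ge (p := q) (bot_le : (⊥ : Subgroup G) ≤ H) IsPGroup.of_bot
    refine ⟨Q, hQ, le_inf hQ.1 ?_⟩
    intro y hy
    rw [Subgroup.mem_centralizer_iff]
    intro w hw
    rw [Set.mem_singleton_iff] at hw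
    rw [hw]
    by_cases hqp : q = p
    · subst hqp
      exact (hcomm y (hQ.1 hy) (isPGroup_zpowers_of_mem hQ.2.1 hy)).symm
    · exact commute_of_isNilpotent hH hv (hQ.1 hy) hvp
        (orderOf_coprime_of_isPGroup_zpowers hq hqp (isPGroup_zpowers_of_mem hQ.2.1 hy))
  intro h hh
  have := Subgroup.mem_centralizer_iff.mp (hle hh).2 v (Set.mem_singleton v)
  exact this.symm

/-- a nilpotent subgroup of order divisible by `p` has a nontrivial central `p`-element -/
theorem exists_central_pElement {H : Subgroup G} (hH : Group.IsNilpotent H)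
    (hpH : p ∣ Nat.card H) :
    ∃ z ∈ H, z ≠ 1 ∧ IsPGroup p (Subgroup.zpowers z) ∧ ∀ h ∈ H, h * z = z * h := by
  obtain ⟨R, -, hR⟩ := exists_sylIn_ge (p := p) (bot_le : (⊥ : Subgroup G) ≤ H) IsPGroup.of_bot
  have hn := sylIn_normal_of_isNilpotent hH hR
  have hR1 : R ≠ ⊥ := by
    intro h0
    have h2 := hR.2.2
    rw [h0, Subgroup.relIndex_bot_left] at h2
    exact h2 hpH
  haveI : Group.IsNilpotent R := hR.2.1.isNilpotent
  have hcen : Subgroup.center ↥R ≠ ⊥ := by
    have h1 := Cfsg.Agent.Lib.Lead.inf_center_ne_bot (⊤ : Subgroup ↥R) (by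
      intro h0
      apply hR1
      rw [Subgroup.eq_bot_iff_forall]
      intro x hx
      have : (⟨x, hx⟩ : R) ∈ (⊤ : Subgroup R) := trivial
      rw [h0, Subgroup.mem_bot] at this
      exact congrArg Subtype.val this)
    rwa [top_inf_eq] at h1
  obtain ⟨⟨z', hz'⟩, hz'1⟩ := (Subgroup.ne_bot_iff_exists_ne_one).mp hcen
  have hzR : (z' : G) ∈ R := z'.2
  have hzp : IsPGroup p (Subgroup.zpowers (z' : G)) := isPGroup_zpowers_of_mem hR.2.1 hzR
  refine ⟨(z' : G), hR.1 hzR, ?_, hzp, ?_⟩
  · intro h0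
    apply hz'1
    apply Subtype.ext
    apply Subtype.ext
    simpa using h0
  · apply central_of_commute_pElements hH (hR.1 hzR) hzp
    intro y hy hyp
    have hyR : y ∈ R := hR.le_of_normal hn (Subgroup.zpowers_le.mpr hy) hyp (Subgroup.mem_zpowers y)
    have := Subgroup.mem_center_iff.mp hz' ⟨y, hyR⟩
    exact congrArg Subtype.val this

end Cfsg.Agent.Lib.Helper4
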