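import Mathlib
import Cfsg.Agent.Lib.Helper4.NilpSub
import Cfsg.Agent.Lib.Helper4.WellPlaced
import Cfsg.Agent.Lib.Lead.CoprimeSylow4
import Cfsg.Agent.Lib.Lead.FpfCyclic

set_option autoImplicit false

/-! CN-groups: maximal nilpotent subgroups. -/

namespace Cfsg.Agent.Lib.Helper4

open Cfsg Cfsg.Agent.Lib.Helper7

variable {G : Type*} [Group G] [Finite G]

theorem mem_centralizer_singleton_pow' {X : Type*} [Group X] {g d : X}
    (hd : d ∈ Subgroup.centralizer ({g} : Set X)) (k : ℕ) :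
    d ∈ Subgroup.centralizer ({g ^ k} : Set X) := by
  rw [Subgroup.mem_centralizer_iff] at hd ⊢
  intro w hw
  rw [Set.mem_singleton_iff] at hw
  rw [hw]
  have h1 : Commute g d := hd g (Set.mem_singleton g)
  exact (h1.pow_left k).eq

/-- `H` is a maximal nilpotent subgroup -/
def MaxNilp (H : Subgroup G) : Prop :=
  Group.IsNilpotent H ∧ ∀ L : Subgroup G, Group.IsNilpotent L → H ≤ L → L = H

theorem MaxNilp.centralizer_eq (hCN : IsCNGroup G) {H : Subgroup G} (hH : MaxNilp H) {z : G}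
    (hz1 : z ≠ 1) (hc : ∀ h ∈ H, h * z = z * h) :
    Subgroup.centralizer ({z} : Set G) = H := by
  apply hH.2 _ (hCN z hz1)
  intro h hh
  rw [Subgroup.mem_centralizer_iff]
  intro w hw
  rw [Set.mem_singleton_iff] at hw
  rw [hw]; exact (hc h hh).symm

theorem MaxNilp.mem_of_commute (hCN : IsCNGroup G) {H : Subgroup G} (hH : MaxNilp H) {z : G}
    (hz1 : z ≠ 1) (hc : ∀ h ∈ H, h * z = z * h) {y : G} (hy : y * z = z * y) : y ∈ H := by
  rw [← hH.centralizer_eq hCN hz1 hc, Subgroup.mem_centralizer_iff]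
  intro w hw
  rw [Set.mem_singleton_iff] at hw
  rw [hw]; exact hy.symm

theorem MaxNilp.cj {H : Subgroup G} (hH : MaxNilp H) (g : G) : MaxNilp (cj g H) := by
  refine ⟨Cfsg.Agent.Lib.Helper2.Schmidt.isNilpotent_map _ hH.1, ?_⟩
  intro L hL hle
  have h1 : H ≤ Helper7.cj g⁻¹ L := by
    have := cj_mono g⁻¹ hle
    rwa [cj_inv_cj] at this
  have h2 := hH.2 _ (Cfsg.Agent.Lib.Helper2.Schmidt.isNilpotent_map _ hL) h1
  rw [← h2, cj_cj_inv]

/-- part 1: a maximal nilpotent subgroup of a CN-group is a Hall subgroup -/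
theorem MaxNilp.coprime_index (hCN : IsCNGroup G) {H : Subgroup G} (hH : MaxNilp H) :
    (Nat.card H).Coprime H.index := by
  classical
  by_contra hnc
  obtain ⟨p, hp, hpH, hpi⟩ := Nat.Prime.not_coprime_iff_dvd.mp hnc
  haveI : Fact p.Prime := ⟨hp⟩
  obtain ⟨P₀, -, hP₀⟩ := exists_sylIn_ge (p := p) (bot_le : (⊥ : Subgroup G) ≤ H) IsPGroup.of_bot
  have hn := sylIn_normal_of_isNilpotent hH.1 hP₀
  have hP₀1 : P₀ ≠ ⊥ := by
    intro h0
    have h2 := hP₀.2.2
    rw [h0, Subgroup.relIndex_bot_left] at h2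
    exact h2 hpH
  obtain ⟨P, hP₀P⟩ := hP₀.2.1.exists_le_sylow
  have hne : P₀ ≠ (P : Subgroup G) := by
    intro h0
    have h1 : ¬ p ∣ P₀.index := by rw [h0]; exact P.not_dvd_index
    apply h1
    rw [← Subgroup.relIndex_mul_index hP₀.1]
    exact Dvd.dvd.mul_left hpi _
  have hlt : P₀ < (P : Subgroup G) := lt_of_le_of_ne hP₀P hne
  have hgrow := Cfsg.Agent.Lib.Lead.pgroup_normalizer_grows p (P : Subgroup G) P₀ P.2 hlt
  obtain ⟨y, hy, hyP₀⟩ := SetLike.exists_of_lt hgrow
  have hyp : IsPGroup p (Subgroup.zpowers y) := isPGroup_zpowers_of_mem P.2 hy.1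
  have hyN : Helper7.cj y P₀ = P₀ := mem_normalizer_iff_cj.mp hy.2
  -- V = Z(P₀)
  obtain ⟨V, hVdef⟩ : ∃ V : Subgroup G, V = P₀ ⊓ Subgroup.centralizer (P₀ : Set G) := ⟨_, rfl⟩
  have hV1 : V ≠ ⊥ := by
    rw [hVdef, ← Cfsg.Agent.Lib.Helper3.center_map_subtype]
    intro h0
    rw [Subgroup.map_eq_bot_iff_of_injective _ P₀.subtype_injective] at h0
    haveI : Nontrivial P₀ := by
      rw [← Subgroup.nontrivial_iff_ne_bot] at hP₀1
      exact hP₀1
    have := hP₀.2.1.center_nontrivial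
    rw [h0] at this
    exact not_nontrivial _ this
  have hyV : Subgroup.zpowers y ≤ Subgroup.normalizer (V : Set G) := by
    rw [Subgroup.zpowers_le, mem_normalizer_iff_cj]
    apply cj_eq_of_le
    rintro _ ⟨v, hv, rfl⟩
    rw [hVdef] at hv ⊢
    have hvP : (MulAut.conj y).toMonoidHom v ∈ P₀ := by
      rw [← hyN]; exact ⟨v, hv.1, rfl⟩
    refine Subgroup.mem_inf.mpr ⟨hvP, ?_⟩
    rw [Subgroup.mem_centralizer_iff]
    intro t ht
    have ht' : y⁻¹ * t * y ∈ P₀ := by
      have : t ∈ Helper7.cj y P₀ := by rw [hyN]; exact ht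
      rwa [mem_cj] at this
    have h1 := Subgroup.mem_centralizer_iff.mp hv.2 _ ht'
    show t * (y * v * y⁻¹) = (y * v * y⁻¹) * t
    calc t * (y * v * y⁻¹) = y * ((y⁻¹ * t * y) * v) * y⁻¹ := by group
      _ = y * (v * (y⁻¹ * t * y)) * y⁻¹ := by rw [h1]
      _ = (y * v * y⁻¹) * t := by group
  have hVp : IsPGroup p V := by rw [hVdef]; exact hP₀.2.1.to_le inf_le_left
  have hmod := Cfsg.Agent.Lib.Lead.card_modEq_card_inf_centralizer V (Subgroup.zpowers y) p hyp hyV
  obtain ⟨k, hk⟩ := IsPGroup.iff_card.mp hVp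
  have hk0 : k ≠ 0 := by
    intro h0
    rw [h0, pow_zero] at hk
    exact hV1 (Subgroup.card_eq_one.mp hk)
  have hdvd : p ∣ Nat.card (V ⊓ Subgroup.centralizer ((Subgroup.zpowers y : Subgroup G) : Set G) : Subgroup G) := by
    rw [hk] at hmod
    have h1 : p ∣ p ^ k := dvd_pow_self p hk0
    exact (Nat.modEq_zero_iff_dvd.mp ((hmod.symm.trans (Nat.modEq_zero_iff_dvd.mpr h1))))
  have hne1 : (V ⊓ Subgroup.centralizer ((Subgroup.zpowers y : Subgroup G) : Set G) : Subgroup G) ≠ ⊥ := by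
    intro h0
    rw [h0, Subgroup.card_bot] at hdvd
    exact hp.one_lt.ne' (Nat.dvd_one.mp hdvd)
  obtain ⟨⟨v, hvmem⟩, hv1⟩ := (Subgroup.ne_bot_iff_exists_ne_one).mp hne1
  have hv1' : v ≠ 1 := by
    intro h0
    apply hv1
    exact Subtype.ext h0
  have hvV : v ∈ V := hvmem.1
  have hvy : y * v = v * y := by
    have := Subgroup.mem_centralizer_iff.mp hvmem.2 y (Subgroup.mem_zpowers y)
    exact this
  rw [hVdef] at hvV
  have hvH : v ∈ H := hP₀.1 hvV.1
  have hvp : IsPGroup p (Subgroup.zpowers v) := isPGroup_zpowers_of_mem hP₀.2.1 hvV.1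
  have hvc : ∀ h ∈ H, h * v = v * h := by
    apply central_of_commute_pElements hH.1 hvH hvp
    intro t ht htp
    have htP : t ∈ P₀ := hP₀.le_of_normal hn (Subgroup.zpowers_le.mpr ht) htp (Subgroup.mem_zpowers t)
    exact Subgroup.mem_centralizer_iff.mp hvV.2 t htP
  have hyH : y ∈ H := hH.mem_of_commute hCN hv1' hvc hvy
  exact hyP₀ (hP₀.le_of_normal hn (Subgroup.zpowers_le.mpr hyH) hyp (Subgroup.mem_zpowers y))

/-- part 2: a maximal nilpotent subgroup whose order is not a prime power is a TI-subgroup -/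
theorem MaxNilp.ti (hCN : IsCNGroup G) {H : Subgroup G} (hH : MaxNilp H)
    (hpp : ¬ IsPrimePow (Nat.card H)) (hc1 : Nat.card H ≠ 1) (g : G)
    (hg : Helper7.cj g H ≠ H) : H ⊓ Helper7.cj g H = ⊥ := by
  classical
  by_contra hne
  obtain ⟨⟨x, hx⟩, hx1⟩ := (Subgroup.ne_bot_iff_exists_ne_one).mp hne
  have hx1' : x ≠ 1 := fun h0 => hx1 (Subtype.ext h0)
  have hox : orderOf x ≠ 1 := fun h0 => hx1' (orderOf_eq_one_iff.mp h0)
  obtain ⟨p, hp, hpx⟩ := Nat.exists_prime_and_dvd hox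
  haveI : Fact p.Prime := ⟨hp⟩
  obtain ⟨x', hx'def⟩ : ∃ x' : G, x' = x ^ (orderOf x / p) := ⟨_, rfl⟩
  have hox' : orderOf x' = p := by
    rw [hx'def]; exact orderOf_pow_orderOf_div (orderOf_pos x).ne' hpx
  have hx'1 : x' ≠ 1 := by
    intro h0
    rw [h0, orderOf_one] at hox'
    exact hp.one_lt.ne hox'
  have hx'H : x' ∈ H := by rw [hx'def]; exact H.pow_mem hx.1 _
  obtain ⟨K, hKdef⟩ : ∃ K : Subgroup G, K = Helper7.cj g H := ⟨_, rfl⟩
  rw [← hKdef] at hg hx
  have hx'K : x' ∈ K := by rw [hx'def]; exact K.pow_mem hx.2 _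
  have hK : MaxNilp K := by rw [hKdef]; exact hH.cj g
  have hcardK : Nat.card K = Nat.card H := by rw [hKdef, card_cj]
  have hpH : p ∣ Nat.card H := by
    rw [← hox']
    have := orderOf_dvd_natCard (⟨x', hx'H⟩ : H)
    rwa [Subgroup.orderOf_mk] at this
  -- a second prime
  obtain ⟨q, hq, hqp, hqH⟩ : ∃ q : ℕ, q.Prime ∧ q ≠ p ∧ q ∣ Nat.card H := by
    by_contra hcon
    push Not at hcon
    apply hpp
    have h0 : Nat.card H ≠ 0 := Nat.card_pos.ne'
    have := Nat.eq_prime_pow_of_unique_prime_dvd h0 (fun {d} hd hdm => by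
      by_contra hne'
      exact hcon d hd hne' hdm)
    rw [this]
    apply IsPrimePow.pow hp.isPrimePow
    intro h1
    rw [h1, pow_zero] at this
    exact hc1 this
  haveI : Fact q.Prime := ⟨hq⟩
  have hpq : p ≠ q := fun h0 => hqp h0.symm
  obtain ⟨z, hzH, hz1, hzp, hzc⟩ := exists_central_pElement (p := p) hH.1 hpH
  obtain ⟨w, hwH, hw1, hwq, hwc⟩ := exists_central_pElement (p := q) hH.1 hqH
  obtain ⟨z', hz'K, hz'1, hz'p, hz'c⟩ := exists_central_pElement (p := p) hK.1 (by rw [hcardK]; exact hpH)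
  obtain ⟨w', hw'K, hw'1, hw'q, hw'c⟩ := exists_central_pElement (p := q) hK.1 (by rw [hcardK]; exact hqH)
  have hΓ : Group.IsNilpotent (Subgroup.centralizer ({x'} : Set G)) := hCN x' hx'1
  have memΓ : ∀ a : G, x' * a = a * x' → a ∈ Subgroup.centralizer ({x'} : Set G) := by
    intro a ha
    rw [Subgroup.mem_centralizer_iff]
    intro t ht
    rw [Set.mem_singleton_iff] at ht
    rw [ht]; exact ha
  have hzΓ := memΓ z (hzc x' hx'H)
  have hwΓ := memΓ w (hwc x' hx'H)
  have hz'Γ := memΓ z' (hz'c x' hx'K)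
  have hw'Γ := memΓ w' (hw'c x' hx'K)
  -- z' and w commute; z and w' commute
  have h1 : z' * w = w * z' := commute_of_isNilpotent hΓ hz'Γ hwΓ hz'p
    (orderOf_coprime_of_isPGroup_zpowers hq hqp hwq)
  have h2 : z * w' = w' * z := commute_of_isNilpotent hΓ hzΓ hw'Γ hzp
    (orderOf_coprime_of_isPGroup_zpowers hq hqp hw'q)
  have hwK : w ∈ K := hK.mem_of_commute hCN hz'1 hz'c h1.symm
  have hzK : z ∈ K := hK.mem_of_commute hCN hw'1 hw'c h2
  -- K ≤ H
  have hKH : K ≤ H ⊓ K := by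
    apply le_of_forall_sylIn_le inf_le_right
    intro r hr
    haveI : Fact r.Prime := ⟨hr⟩
    obtain ⟨Q, -, hQ⟩ := exists_sylIn_ge (p := r) (bot_le : (⊥ : Subgroup G) ≤ K) IsPGroup.of_bot
    refine ⟨Q, hQ, le_inf ?_ hQ.1⟩
    intro y hy
    have hyr : IsPGroup r (Subgroup.zpowers y) := isPGroup_zpowers_of_mem hQ.2.1 hy
    by_cases hrq : r = q
    · -- r = q ≠ p: y commutes with z
      have hrp : r ≠ p := by rw [hrq]; exact hqp
      have h3 : z * y = y * z := commute_of_isNilpotent hK.1 hzK (hQ.1 hy) hzp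
        (orderOf_coprime_of_isPGroup_zpowers hr hrp hyr)
      exact hH.mem_of_commute hCN hz1 hzc h3.symm
    · have h3 : w * y = y * w := commute_of_isNilpotent hK.1 hwK (hQ.1 hy) hwq
        (orderOf_coprime_of_isPGroup_zpowers hr hrq hyr)
      exact hH.mem_of_commute hCN hw1 hwc h3.symm
  apply hg
  exact Subgroup.eq_of_le_of_card_ge (hKH.trans inf_le_left) hcardK.ge

/-- part 3: a TI maximal nilpotent subgroup contains the centralizers of its nonidentity elements -/
theorem MaxNilp.centralizer_le_of_ti (hCN : IsCNGroup G) {H : Subgroup G} (hH : MaxNilp H)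
    (hti : ∀ g : G, Helper7.cj g H ≠ H → H ⊓ Helper7.cj g H = ⊥) (x : G) (hx : x ∈ H) (hx1 : x ≠ 1) :
    Subgroup.centralizer ({x} : Set G) ≤ H := by
  classical
  have hcop := hH.coprime_index hCN
  -- centralizer ≤ normalizer
  have hCN' : Subgroup.centralizer ({x} : Set G) ≤ Subgroup.normalizer (H : Set G) := by
    intro c hc
    rw [mem_normalizer_iff_cj]
    by_contra hne
    have h1 := hti c hne
    have hxc : x ∈ H ⊓ Helper7.cj c H := by
      refine Subgroup.mem_inf.mpr ⟨hx, ?_⟩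
      rw [mem_cj]
      have h2 := Subgroup.mem_centralizer_iff.mp hc x (Set.mem_singleton x)
      have : c⁻¹ * x * c = x := by
        rw [mul_assoc, h2]; group
      rw [this]; exact hx
    rw [h1, Subgroup.mem_bot] at hxc
    exact hx1 hxc
  have hox : orderOf x ≠ 1 := fun h0 => hx1 (orderOf_eq_one_iff.mp h0)
  obtain ⟨p, hp, hpx⟩ := Nat.exists_prime_and_dvd hox
  haveI : Fact p.Prime := ⟨hp⟩
  obtain ⟨x', hx'def⟩ : ∃ x' : G, x' = x ^ (orderOf x / p) := ⟨_, rfl⟩
  have hox' : orderOf x' = p := by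
    rw [hx'def]; exact orderOf_pow_orderOf_div (orderOf_pos x).ne' hpx
  have hx'1 : x' ≠ 1 := by
    intro h0
    rw [h0, orderOf_one] at hox'
    exact hp.one_lt.ne hox'
  have hx'H : x' ∈ H := by rw [hx'def]; exact H.pow_mem hx _
  have hpH : p ∣ Nat.card H := by
    rw [← hox']
    have := orderOf_dvd_natCard (⟨x', hx'H⟩ : H)
    rwa [Subgroup.orderOf_mk] at this
  obtain ⟨z, hzH, hz1, hzp, hzc⟩ := exists_central_pElement (p := p) hH.1 hpH
  have hΓ : Group.IsNilpotent (Subgroup.centralizer ({x'} : Set G)) := hCN x' hx'1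
  have hzΓ : z ∈ Subgroup.centralizer ({x'} : Set G) := by
    rw [Subgroup.mem_centralizer_iff]
    intro t ht
    rw [Set.mem_singleton_iff] at ht
    rw [ht]; exact hzc x' hx'H
  have hle : Subgroup.centralizer ({x} : Set G) ≤ H ⊓ Subgroup.centralizer ({x} : Set G) := by
    apply le_of_forall_sylIn_le inf_le_right
    intro r hr
    haveI : Fact r.Prime := ⟨hr⟩
    obtain ⟨Q, -, hQ⟩ := exists_sylIn_ge (p := r)
      (bot_le : (⊥ : Subgroup G) ≤ Subgroup.centralizer ({x} : Set G)) IsPGroup.of_bot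
    refine ⟨Q, hQ, le_inf ?_ hQ.1⟩
    by_cases hrH : r ∣ Nat.card H
    · -- the Sylow r-subgroup of H is normal in N(H) and Sylow in G
      obtain ⟨R, -, hR⟩ := exists_sylIn_ge (p := r) (bot_le : (⊥ : Subgroup G) ≤ H) IsPGroup.of_bot
      have hn := sylIn_normal_of_isNilpotent hH.1 hR
      have hRN : SylIn r (Subgroup.normalizer (H : Set G)) R := by
        refine ⟨hR.1.trans Subgroup.le_normalizer, hR.2.1, ?_⟩
        intro hd
        have h1 : R.relIndex (Subgroup.normalizer (H : Set G)) ∣ R.index :=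
          Subgroup.relIndex_dvd_index_of_le (hR.1.trans Subgroup.le_normalizer)
        have h2 : R.index = R.relIndex H * H.index := (Subgroup.relIndex_mul_index hR.1).symm
        have h3 : r ∣ R.relIndex H * H.index := by rw [← h2]; exact hd.trans h1
        rcases (Nat.Prime.dvd_mul hr).mp h3 with h4 | h4
        · exact hR.2.2 h4
        · have := Nat.Coprime.eq_one_of_dvd (Nat.Coprime.coprime_dvd_left hrH hcop) h4
          exact hr.one_lt.ne' this
      have hNR : Subgroup.normalizer (H : Set G) ≤ Subgroup.normalizer (R : Set G) := by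
        intro n hn'
        rw [mem_normalizer_iff_cj]
        apply cj_eq_of_le
        have h1 : Helper7.cj n R ≤ H := by
          have := cj_mono n hR.1
          rwa [mem_normalizer_iff_cj.mp hn'] at this
        exact hR.le_of_normal hn h1 (isPGroup_cj n hR.2.1)
      exact (hRN.le_of_normal hNR (hQ.1.trans hCN') hQ.2.1).trans hR.1
    · intro y hy
      have hyr : IsPGroup r (Subgroup.zpowers y) := isPGroup_zpowers_of_mem hQ.2.1 hy
      have hrp : r ≠ p := by
        intro h0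
        rw [h0] at hrH
        exact hrH hpH
      have hyΓ : y ∈ Subgroup.centralizer ({x'} : Set G) := by
        rw [hx'def]
        exact mem_centralizer_singleton_pow' (hQ.1 hy) _
      have h3 : z * y = y * z := commute_of_isNilpotent hΓ hzΓ hyΓ hzp
        (orderOf_coprime_of_isPGroup_zpowers hr hrp hyr)
      exact hH.mem_of_commute hCN hz1 hzc h3.symm
  exact hle.trans inf_le_left

end Cfsg.Agent.Lib.Helper4
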