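import Mathlib
import Cfsg.Agent.Lib.Helper4.CNGroup3
import Cfsg.Agent.Lib.Lead.FrobCenter4

set_option autoImplicit false
open Pointwise

/-! CN-groups with a normal Sylow subgroup. -/

namespace Cfsg.Agent.Lib.Helper4

open Cfsg Cfsg.Agent.Lib.Helper7

variable {G : Type*} [Group G] [Finite G]

theorem mem_centralizer_singleton_iff' {a b : G} :
    a ∈ Subgroup.centralizer ({b} : Set G) ↔ b * a = a * b := by
  rw [Subgroup.mem_centralizer_iff]
  constructor
  · intro h; exact h b (Set.mem_singleton b)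
  · intro h w hw
    rw [Set.mem_singleton_iff] at hw
    rw [hw]; exact h

theorem exists_prime_order_pow {x : G} (hx1 : x ≠ 1) :
    ∃ (q : ℕ) (k : ℕ), q.Prime ∧ orderOf (x ^ k) = q := by
  have hox : orderOf x ≠ 1 := fun h0 => hx1 (orderOf_eq_one_iff.mp h0)
  obtain ⟨q, hq, hqx⟩ := Nat.exists_prime_and_dvd hox
  exact ⟨q, orderOf x / q, hq, orderOf_pow_orderOf_div (orderOf_pos x).ne' hqx⟩

theorem isPGroup_zpowers_of_orderOf {q : ℕ} [Fact q.Prime] {x : G} (hx : orderOf x = q) :
    IsPGroup q (Subgroup.zpowers x) := by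
  apply IsPGroup.of_card (n := 1)
  rw [Nat.card_zpowers, hx, pow_one]

/-- the complement of the largest normal nilpotent Hall subgroup acts without fixed points -/
theorem cn_fpf_of_complement (hCN : IsCNGroup G) {H E : Subgroup G} (hHn : H.Normal)
    (hHnil : Group.IsNilpotent H) (hHhall : (Nat.card H).Coprime H.index)
    (hHmax : ∀ N : Subgroup G, N.Normal → Group.IsNilpotent N → (Nat.card N).Coprime N.index → N ≤ H)
    (hc : Subgroup.IsComplement' H E) (e : G) (he : e ∈ E) (he1 : e ≠ 1) :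
    H ⊓ Subgroup.centralizer ({e} : Set G) = ⊥ := by
  classical
  have hcardE : Nat.card E = H.index := by
    have h1 := hc.card_mul_card
    have h2 := H.card_mul_index
    rw [← h2] at h1
    exact Nat.eq_of_mul_eq_mul_left Nat.card_pos h1
  rw [Subgroup.eq_bot_iff_forall]
  intro x hx
  by_contra hx1
  obtain ⟨r, k, hr, hek⟩ := exists_prime_order_pow he1
  obtain ⟨q, l, hq, hxl⟩ := exists_prime_order_pow hx1
  haveI : Fact r.Prime := ⟨hr⟩
  haveI : Fact q.Prime := ⟨hq⟩
  obtain ⟨e', he'def⟩ : ∃ e' : G, e' = e ^ k := ⟨_, rfl⟩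
  obtain ⟨x', hx'def⟩ : ∃ x' : G, x' = x ^ l := ⟨_, rfl⟩
  rw [← he'def] at hek
  rw [← hx'def] at hxl
  have he'E : e' ∈ E := by rw [he'def]; exact E.pow_mem he k
  have hx'H : x' ∈ H := by rw [hx'def]; exact H.pow_mem hx.1 l
  have hcomm : x' * e' = e' * x' := by
    have h1 : Commute e x := mem_centralizer_singleton_iff'.mp hx.2
    rw [he'def, hx'def]
    exact ((h1.pow_pow k l).symm).eq
  have he'1 : e' ≠ 1 := by
    intro h0; rw [h0, orderOf_one] at hek; exact hr.one_lt.ne hek
  have hx'1 : x' ≠ 1 := by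
    intro h0; rw [h0, orderOf_one] at hxl; exact hq.one_lt.ne hxl
  have hrE : r ∣ Nat.card E := by
    rw [← hek]
    have := orderOf_dvd_natCard (⟨e', he'E⟩ : E)
    rwa [Subgroup.orderOf_mk] at this
  have hqH : q ∣ Nat.card H := by
    rw [← hxl]
    have := orderOf_dvd_natCard (⟨x', hx'H⟩ : H)
    rwa [Subgroup.orderOf_mk] at this
  have hrH : (Nat.card H).Coprime r := by
    rw [hcardE] at hrE
    exact Nat.Coprime.coprime_dvd_right hrE hHhall
  have hrnH : ¬ r ∣ Nat.card H := by
    intro h0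
    exact hr.one_lt.ne' (Nat.Coprime.eq_one_of_dvd hrH.symm h0)
  have hrq : r ≠ q := by
    intro h0; rw [h0] at hrnH; exact hrnH hqH
  have he'p : IsPGroup r (Subgroup.zpowers e') := isPGroup_zpowers_of_orderOf hek
  -- e' centralizes a central q-element z of H
  obtain ⟨z, hzH, hz1, hzp, hzc⟩ := exists_central_pElement (p := q) hHnil hqH
  have hΓ : Group.IsNilpotent (Subgroup.centralizer ({x'} : Set G)) := hCN x' hx'1
  have hzΓ : z ∈ Subgroup.centralizer ({x'} : Set G) :=
    mem_centralizer_singleton_iff'.mpr (hzc x' hx'H)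
  have he'Γ : e' ∈ Subgroup.centralizer ({x'} : Set G) :=
    mem_centralizer_singleton_iff'.mpr hcomm
  have hze' : z * e' = e' * z := commute_of_isNilpotent hΓ hzΓ he'Γ hzp
    (by rw [hek]; exact (Nat.coprime_primes hr hq).mpr hrq)
  -- e' centralizes H
  have hΓ' : Group.IsNilpotent (Subgroup.centralizer ({z} : Set G)) := hCN z hz1
  have hHΓ' : H ≤ Subgroup.centralizer ({z} : Set G) := by
    intro h hh
    exact mem_centralizer_singleton_iff'.mpr (hzc h hh).symm
  have he'Γ' : e' ∈ Subgroup.centralizer ({z} : Set G) :=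
    mem_centralizer_singleton_iff'.mpr hze'
  have horder : ∀ h ∈ H, (orderOf h).Coprime r := by
    intro h hh
    have h1 : orderOf h ∣ Nat.card H := by
      have := orderOf_dvd_natCard (⟨h, hh⟩ : H)
      rwa [Subgroup.orderOf_mk] at this
    exact Nat.Coprime.coprime_dvd_left h1 hrH
  have he'C : e' ∈ Subgroup.centralizer (H : Set G) := by
    rw [Subgroup.mem_centralizer_iff]
    intro h hh
    exact (commute_of_isNilpotent hΓ' he'Γ' (hHΓ' hh) he'p (horder h hh)).symm
  -- C = C_G(H) is a nilpotent normal subgroup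
  haveI := hHn
  have hCn : (Subgroup.centralizer (H : Set G)).Normal := Subgroup.normal_centralizer
  have hCΓ' : Subgroup.centralizer (H : Set G) ≤ Subgroup.centralizer ({z} : Set G) :=
    Subgroup.centralizer_le (Set.singleton_subset_iff.mpr hzH)
  have hCnil : Group.IsNilpotent (Subgroup.centralizer (H : Set G)) := isNilpotent_of_le hΓ' hCΓ'
  obtain ⟨R, he'R, hR⟩ := exists_sylIn_ge (p := r) (Subgroup.zpowers_le.mpr he'C) he'p
  have hRnC := sylIn_normal_of_isNilpotent hCnil hR
  have hRn : R.Normal := by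
    rw [← Subgroup.normalizer_eq_top_iff, eq_top_iff]
    intro g _
    rw [mem_normalizer_iff_cj]
    apply cj_eq_of_le
    have h1 : Helper7.cj g R ≤ Subgroup.centralizer (H : Set G) := by
      rintro _ ⟨y, hy, rfl⟩
      exact hCn.conj_mem y (hR.1 hy) g
    exact hR.le_of_normal hRnC h1 (isPGroup_cj g hR.2.1)
  have hR1 : R ≠ ⊥ := by
    intro h0
    have := he'R (Subgroup.mem_zpowers e')
    rw [h0, Subgroup.mem_bot] at this
    exact he'1 this
  -- R is a Sylow r-subgroup of G
  obtain ⟨R₁, hRR₁⟩ := hR.2.1.exists_le_sylow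
  have hR₁C : (R₁ : Subgroup G) ≤ Subgroup.centralizer (H : Set G) := by
    haveI : Group.IsNilpotent (R₁ : Subgroup G) := R₁.2.isNilpotent
    haveI : (R.subgroupOf (R₁ : Subgroup G)).Normal := hRn.subgroupOf _
    have hne : R.subgroupOf (R₁ : Subgroup G) ≠ ⊥ := by
      intro h0
      apply hR1
      rw [Subgroup.subgroupOf_eq_bot] at h0
      rw [← inf_eq_left.mpr hRR₁]
      exact h0.eq_bot
    have h2 := Cfsg.Agent.Lib.Lead.inf_center_ne_bot (R.subgroupOf (R₁ : Subgroup G)) hne
    obtain ⟨⟨e'', he''⟩, he''1⟩ := (Subgroup.ne_bot_iff_exists_ne_one).mp h2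
    have he''R : (e'' : G) ∈ R := Subgroup.mem_subgroupOf.mp he''.1
    have he''1' : (e'' : G) ≠ 1 := by
      intro h0
      apply he''1
      apply Subtype.ext
      apply Subtype.ext
      simpa using h0
    have hΓ'' : Group.IsNilpotent (Subgroup.centralizer ({(e'' : G)} : Set G)) := hCN _ he''1'
    intro y hy
    rw [Subgroup.mem_centralizer_iff]
    intro h hh
    have hyΓ : y ∈ Subgroup.centralizer ({(e'' : G)} : Set G) := by
      rw [mem_centralizer_singleton_iff']
      have := Subgroup.mem_center_iff.mp he''.2 ⟨y, hy⟩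
      exact (congrArg Subtype.val this).symm
    have hhΓ : h ∈ Subgroup.centralizer ({(e'' : G)} : Set G) := by
      rw [mem_centralizer_singleton_iff']
      have := Subgroup.mem_centralizer_iff.mp (hR.1 he''R) h hh
      exact this.symm
    exact (commute_of_isNilpotent hΓ'' hyΓ hhΓ (isPGroup_zpowers_of_mem R₁.2 hy) (horder h hh)).symm
  have hReq : R = (R₁ : Subgroup G) :=
    le_antisymm hRR₁ (hR.le_of_normal hRnC hR₁C R₁.2)
  have hRhall : (Nat.card R).Coprime R.index := by
    rw [hReq]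
    obtain ⟨j, hj⟩ := IsPGroup.iff_card.mp R₁.2
    rw [hj]
    apply Nat.Coprime.pow_left
    exact (Nat.Prime.coprime_iff_not_dvd hr).mpr R₁.not_dvd_index
  have hRH : R ≤ H := hHmax R hRn hR.2.1.isNilpotent hRhall
  have he'H : e' ∈ H := hRH (he'R (Subgroup.mem_zpowers e'))
  have : e' ∈ H ⊓ E := Subgroup.mem_inf.mpr ⟨he'H, he'E⟩
  rw [hc.disjoint.eq_bot, Subgroup.mem_bot] at this
  exact he'1 this

/-- a complement acting without fixed points on a normal subgroup is a Frobenius complement -/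
theorem isFrobeniusComplement_of_fpf {H E : Subgroup G} (hHn : H.Normal)
    (hc : Subgroup.IsComplement' H E) (hH1 : H ≠ ⊥) (hHT : H ≠ ⊤)
    (hfpf : ∀ e ∈ E, e ≠ 1 → H ⊓ Subgroup.centralizer ({e} : Set G) = ⊥) :
    IsFrobeniusComplement E := by
  have hdisj : H ⊓ E = ⊥ := hc.disjoint.eq_bot
  refine ⟨?_, ?_, ?_⟩
  · intro h0
    apply hHT
    have := hc.sup_eq_top
    rwa [h0, sup_bot_eq] at this
  · intro h0
    apply hH1
    rw [h0, inf_top_eq] at hdisj
    exact hdisj
  · intro g hg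
    rw [Subgroup.eq_bot_iff_forall]
    intro a ha
    by_contra ha1
    have hsurj := hc.2
    obtain ⟨⟨⟨h, hh⟩, ⟨e', he'⟩⟩, hge⟩ := hsurj g
    simp only at hge
    -- a = g b g⁻¹ with b ∈ E
    have ha2 : a ∈ MulAut.conj g • E := ha.2
    rw [Subgroup.mem_pointwise_smul_iff_inv_smul_mem] at ha2
    simp only [MulAut.smul_def, map_inv, MulAut.inv_apply, MulAut.conj_symm_apply] at ha2
    -- b := g⁻¹ a g ∈ E ; b' := e' b e'⁻¹ ∈ E ; a = h b' h⁻¹
    obtain ⟨b', hb'def⟩ : ∃ b' : G, b' = e' * (g⁻¹ * a * g) * e'⁻¹ := ⟨_, rfl⟩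
    have hb'E : b' ∈ E := by
      rw [hb'def]; exact E.mul_mem (E.mul_mem he' ha2) (E.inv_mem he')
    have hab' : a = h * b' * h⁻¹ := by
      rw [hb'def, ← hge]; group
    have h1 : a * b'⁻¹ ∈ H ⊓ E := by
      refine Subgroup.mem_inf.mpr ⟨?_, E.mul_mem ha.1 (E.inv_mem hb'E)⟩
      have : a * b'⁻¹ = h * (b' * h⁻¹ * b'⁻¹) := by rw [hab']; group
      rw [this]
      exact H.mul_mem hh (hHn.conj_mem _ (H.inv_mem hh) b')
    rw [hdisj, Subgroup.mem_bot] at h1
    have hab : a = b' := by
      have : a = (a * b'⁻¹) * b' := by group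
      rw [this, h1, one_mul]
    have hcm : a * h = h * a := by
      have h3 : h * a * h⁻¹ = a := by
        have h4 := hab'
        rw [← hab] at h4
        exact h4.symm
      calc a * h = (h * a * h⁻¹) * h := by rw [h3]
        _ = h * a := by group
    have hh1 : h ∈ H ⊓ Subgroup.centralizer ({a} : Set G) :=
      Subgroup.mem_inf.mpr ⟨hh, mem_centralizer_singleton_iff'.mpr hcm⟩
    rw [hfpf a ha.1 ha1, Subgroup.mem_bot] at hh1
    apply hg
    rw [← hge, hh1, one_mul]
    exact he'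

end Cfsg.Agent.Lib.Helper4
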