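import Mathlib
import Cfsg.Agent.Lib.Lead.FrobSylow
import Cfsg.Agent.Lib.Helper4.NilpSub
import Cfsg.Agent.Lib.Helper4.FittingHall

set_option autoImplicit false

/-! Groups acting without fixed points: structure of `p`-groups and of nilpotent groups. -/

namespace Cfsg.Agent.Lib.Helper4.CNSolv

open Cfsg Cfsg.Agent.Lib.Lead Cfsg.Agent.Lib.Helper7 Cfsg.Agent.Lib.Helper4

variable {G : Type*} [Group G] [Finite G]

/-- every nonidentity element of `E` has trivial centralizer in `V` -/
def Fpf (E V : Subgroup G) : Prop :=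
  ∀ a ∈ E, a ≠ 1 → V ⊓ Subgroup.centralizer ({a} : Set G) = ⊥

theorem Fpf.mono {E E' V : Subgroup G} (h : Fpf E V) (hle : E' ≤ E) : Fpf E' V :=
  fun a ha => h a (hle ha)

/-- a `p`-group acting without fixed points has a unique subgroup of order `p` -/
theorem uniqueOrderP_of_fpf {p : ℕ} [hp : Fact p.Prime] (R V : Subgroup G) (hV : V ≠ ⊥)
    (hRV : R ≤ Subgroup.normalizer (V : Set G)) (hfpf : Fpf R V) (hR : IsPGroup p R) :
    UniqueOrderP p R := by
  classical
  have key : ∀ H₁ H₂ : Subgroup R, Nat.card H₁ = p → Nat.card H₂ = p →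
      (∀ x ∈ H₁, ∀ y ∈ H₂, x * y = y * x) → H₁ ≤ H₂ := by
    intro H₁ H₂ h1 h2 hcomm
    have hc1 : ∀ x ∈ H₁, ∀ y ∈ H₁, x * y = y * x := by
      intro x hx y hy
      have : IsCyclic H₁ := isCyclic_of_prime_card h1
      have := (IsCyclic.commGroup (α := H₁)).mul_comm ⟨x, hx⟩ ⟨y, hy⟩
      exact congrArg Subtype.val this
    have hc2 : ∀ x ∈ H₂, ∀ y ∈ H₂, x * y = y * x := by
      intro x hx y hy
      have : IsCyclic H₂ := isCyclic_of_prime_card h2
      have := (IsCyclic.commGroup (α := H₂)).mul_comm ⟨x, hx⟩ ⟨y, hy⟩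
      exact congrArg Subtype.val this
    set B : Subgroup R := Subgroup.closure ((H₁ : Set R) ∪ (H₂ : Set R)) with hBdef
    have hBc : IsMulCommutative B := by
      apply Subgroup.isMulCommutative_closure
      rintro x (hx | hx) y (hy | hy)
      · exact hc1 x hx y hy
      · exact hcomm x hx y hy
      · exact (hcomm y hy x hx).symm
      · exact hc2 x hx y hy
    have hH₁B : H₁ ≤ B := fun x hx => Subgroup.subset_closure (Or.inl hx)
    have hH₂B : H₂ ≤ B := fun x hx => Subgroup.subset_closure (Or.inr hx)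
    let ι : R →* G := R.subtype
    have hι : Function.Injective ι := R.subtype_injective
    have hB'R : B.map ι ≤ R := by
      rintro _ ⟨b, _, rfl⟩
      exact b.2
    have hcyc' : IsCyclic (B.map ι) :=
      isCyclic_of_fpf_abelian (B.map ι) V hV (hB'R.trans hRV) (hfpf.mono hB'R) inferInstance
    have hcyc : IsCyclic B :=
      isCyclic_of_surjective (B.equivMapOfInjective ι hι).symm
        (B.equivMapOfInjective ι hι).symm.surjective
    intro x hx
    have h3 : (⟨x, hH₁B hx⟩ : B) ∈ H₂.subgroupOf B := by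
      rw [mem_iff_pow_card_of_isCyclic, card_subgroupOf_of_le hH₂B, h2]
      apply Subtype.ext
      have := pow_card_eq_one' (G := H₁) (x := ⟨x, hx⟩)
      rw [h1] at this
      have h4 : x ^ p = 1 := congrArg Subtype.val this
      simpa using h4
    exact Subgroup.mem_subgroupOf.mp h3
  intro H₁ H₂ h1 h2
  have hPp : IsPGroup p R := hR
  have hnt : Nontrivial R := by
    have : 1 < Nat.card R := by
      have := Subgroup.card_subgroup_dvd_card H₁
      rw [h1] at this
      exact lt_of_lt_of_le hp.out.one_lt (Nat.le_of_dvd Nat.card_pos this)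
    exact (Finite.one_lt_card_iff_nontrivial).mp this
  have hcen := hPp.center_nontrivial
  obtain ⟨k, hk⟩ := IsPGroup.iff_card.mp (hPp.to_subgroup (Subgroup.center R))
  have hk0 : k ≠ 0 := by
    intro h0
    rw [h0, pow_zero] at hk
    have := (Finite.one_lt_card_iff_nontrivial).mpr hcen
    omega
  obtain ⟨z, hz⟩ := exists_prime_orderOf_dvd_card' (G := Subgroup.center R) p
    (by rw [hk]; exact dvd_pow_self p hk0)
  set Zc : Subgroup R := Subgroup.zpowers (z : R) with hZc
  have hZcard : Nat.card Zc = p := by rw [Nat.card_zpowers, Subgroup.orderOf_coe, hz]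
  have hZcen : ∀ y ∈ Zc, ∀ x : R, x * y = y * x := by
    intro y hy x
    have h3 : Zc ≤ Subgroup.center R := (Subgroup.zpowers_le).mpr z.2
    exact Subgroup.mem_center_iff.mp (h3 hy) x
  have e1 : H₁ = Zc :=
    Subgroup.eq_of_le_of_card_ge (key H₁ Zc h1 hZcard (fun x _ y hy => hZcen y hy x))
      (by rw [h1, hZcard])
  have e2 : H₂ = Zc :=
    Subgroup.eq_of_le_of_card_ge (key H₂ Zc h2 hZcard (fun x _ y hy => hZcen y hy x))
      (by rw [h2, hZcard])
  rw [e1, e2]

/-- a `p`-group acting without fixed points is cyclic or generalized quaternion -/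
theorem pgroup_fpf_structure {p : ℕ} [hp : Fact p.Prime] (R V : Subgroup G) (hV : V ≠ ⊥)
    (hRV : R ≤ Subgroup.normalizer (V : Set G)) (hfpf : Fpf R V) (hR : IsPGroup p R) :
    IsCyclic R ∨ (p = 2 ∧ ∃ n : ℕ, Nonempty (R ≃* QuaternionGroup (2 ^ n))) :=
  (uniqueOrderP_of_fpf R V hV hRV hfpf hR).main hR

/-- a nilpotent subgroup all of whose Sylow subgroups are abelian is abelian -/
theorem comm_of_nilpotent_of_sylow_comm {E : Subgroup G} (hE : Group.IsNilpotent E)
    (hsyl : ∀ r : ℕ, r.Prime → ∀ R : Subgroup G, SylIn r E R → ∀ x ∈ R, ∀ y ∈ R, x * y = y * x) :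
    ∀ x ∈ E, ∀ y ∈ E, x * y = y * x := by
  classical
  have hle : E ≤ E ⊓ Subgroup.centralizer (E : Set G) := by
    apply le_of_forall_sylIn_le inf_le_left
    intro q hq
    haveI : Fact q.Prime := ⟨hq⟩
    obtain ⟨Q, -, hQ⟩ := exists_sylIn_ge (p := q) (bot_le : (⊥ : Subgroup G) ≤ E) IsPGroup.of_bot
    have hn := sylIn_normal_of_isNilpotent hE hQ
    refine ⟨Q, hQ, le_inf hQ.1 ?_⟩
    intro v hv
    have hvE : v ∈ E := hQ.1 hv
    have hvp : IsPGroup q (Subgroup.zpowers v) := isPGroup_zpowers_of_mem hQ.2.1 hv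
    have hc := central_of_commute_pElements hE hvE hvp (by
      intro y hy hyp
      have hyQ : y ∈ Q := hQ.le_of_normal hn (Subgroup.zpowers_le.mpr hy) hyp (Subgroup.mem_zpowers y)
      exact hsyl q hq Q hQ y hyQ v hv)
    rw [Subgroup.mem_centralizer_iff]
    intro h hh
    exact hc h hh
  intro x hx y hy
  have := Subgroup.mem_centralizer_iff.mp (hle hy).2 x hx
  exact this

/-- a nilpotent group with cyclic Sylow subgroups acting without fixed points is cyclic -/
theorem isCyclic_of_nilpotent_fpf {E V : Subgroup G} (hV : V ≠ ⊥)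
    (hEV : E ≤ Subgroup.normalizer (V : Set G)) (hfpf : Fpf E V) (hE : Group.IsNilpotent E)
    (hsyl : ∀ r : ℕ, r.Prime → ∀ R : Subgroup G, SylIn r E R → IsCyclic R) : IsCyclic E := by
  classical
  have hcomm := comm_of_nilpotent_of_sylow_comm hE (by
    intro r hr R hR x hx y hy
    have := hsyl r hr R hR
    have := (IsCyclic.commGroup (α := R)).mul_comm ⟨x, hx⟩ ⟨y, hy⟩
    exact congrArg Subtype.val this)
  have hc : IsMulCommutative E := ⟨⟨fun a b => Subtype.ext (hcomm a a.2 b b.2)⟩⟩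
  exact isCyclic_of_fpf_abelian E V hV hEV hfpf hc

/-- a nilpotent group of odd order acting without fixed points is cyclic -/
theorem isCyclic_of_nilpotent_fpf_odd {E V : Subgroup G} (hV : V ≠ ⊥)
    (hEV : E ≤ Subgroup.normalizer (V : Set G)) (hfpf : Fpf E V) (hE : Group.IsNilpotent E)
    (hodd : Odd (Nat.card E)) : IsCyclic E := by
  classical
  apply isCyclic_of_nilpotent_fpf hV hEV hfpf hE
  intro r hr R hR
  haveI : Fact r.Prime := ⟨hr⟩
  rcases pgroup_fpf_structure R V hV (hR.1.trans hEV) (hfpf.mono hR.1) hR.2.1 with h | ⟨h2, n, ⟨e⟩⟩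
  · exact h
  · exfalso
    have h1 : Nat.card R = 4 * 2 ^ n := by
      rw [Nat.card_congr e.toEquiv]
      haveI : NeZero (2 ^ n) := ⟨by positivity⟩
      rw [Nat.card_eq_fintype_card, QuaternionGroup.card]
    have h3 : Nat.card R ∣ Nat.card E := Subgroup.card_dvd_of_le hR.1
    rw [h1] at h3
    have h5 : 2 ∣ 4 * 2 ^ n := ⟨2 * 2 ^ n, by ring⟩
    have h4 : 2 ∣ Nat.card E := h5.trans h3
    exact (Nat.not_even_iff_odd.mpr hodd) (even_iff_two_dvd.mpr h4)

end Cfsg.Agent.Lib.Helper4.CNSolv
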