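import Mathlib
import Cfsg.Agent.Lib.Helper4.CNSolv1
import Cfsg.Agent.S0069

set_option autoImplicit false

/-! Nilpotent groups acting without fixed points; nontrivial centre of a group acting
without fixed points. -/

namespace Cfsg.Agent.Lib.Helper4.CNSolv

open Cfsg Cfsg.Agent.Lib.Lead Cfsg.Agent.Lib.Helper7 Cfsg.Agent.Lib.Helper4

variable {G : Type*} [Group G] [Finite G]

/-- structure of a nilpotent group acting without fixed points -/
theorem nilpotent_fpf_structure {E V : Subgroup G} (hV : V ≠ ⊥)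
    (hEV : E ≤ Subgroup.normalizer (V : Set G)) (hfpf : Fpf E V) (hE : Group.IsNilpotent E) :
    IsCyclic E ∨ ∃ C Q : Subgroup G, C ⊔ Q = E ∧ (∀ a ∈ C, ∀ b ∈ Q, a * b = b * a) ∧ IsCyclic C ∧
      Odd (Nat.card C) ∧ ∃ n : ℕ, Nonempty (Q ≃* QuaternionGroup (2 ^ n)) := by
  classical
  haveI : Fact (Nat.Prime 2) := ⟨Nat.prime_two⟩
  obtain ⟨T, -, hT⟩ := exists_sylIn_ge (p := 2) (bot_le : (⊥ : Subgroup G) ≤ E) IsPGroup.of_bot
  have hTn := sylIn_normal_of_isNilpotent hE hT
  rcases pgroup_fpf_structure T V hV (hT.1.trans hEV) (hfpf.mono hT.1) hT.2.1 with hc | ⟨-, n, hn⟩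
  · left
    apply isCyclic_of_nilpotent_fpf hV hEV hfpf hE
    intro r hr R hR
    haveI : Fact r.Prime := ⟨hr⟩
    rcases pgroup_fpf_structure R V hV (hR.1.trans hEV) (hfpf.mono hR.1) hR.2.1 with h | ⟨h2, -⟩
    · exact h
    · subst h2
      have hRT : R ≤ T := hT.le_of_normal hTn hR.1 hR.2.1
      haveI := hc
      exact Subgroup.isCyclic_of_le hRT
  · right
    have hTn' : (T.subgroupOf E).Normal :=
      (Subgroup.normal_subgroupOf_iff_le_normalizer hT.1).mpr hTn
    have hcardT : Nat.card (T.subgroupOf E) = Nat.card T := by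
      exact card_subgroupOf_of_le hT.1
    have hcop : (Nat.card (T.subgroupOf E)).Coprime (T.subgroupOf E).index := by
      obtain ⟨k, hk⟩ := IsPGroup.iff_card.mp hT.2.1
      rw [hcardT, hk]
      apply Nat.Coprime.pow_left
      exact (Nat.Prime.coprime_iff_not_dvd Nat.prime_two).mpr hT.2.2
    obtain ⟨C', hC'⟩ := Subgroup.exists_right_complement'_of_coprime hcop
    have hCle : C'.map E.subtype ≤ E := Subgroup.map_subtype_le _
    have hcardC : Nat.card (C'.map E.subtype) = T.relIndex E := by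
      rw [Subgroup.card_map_of_injective E.subtype_injective]
      have h1 := hC'.card_mul_card
      have h2 := (T.subgroupOf E).card_mul_index
      rw [← h2] at h1
      exact Nat.eq_of_mul_eq_mul_left Nat.card_pos h1
    have hodd : Odd (Nat.card (C'.map E.subtype)) := by
      rw [hcardC, ← Nat.not_even_iff_odd, even_iff_two_dvd]
      exact hT.2.2
    have hCnil : Group.IsNilpotent (C'.map E.subtype) := isNilpotent_of_le hE hCle
    refine ⟨C'.map E.subtype, T, ?_, ?_, ?_, hodd, n, hn⟩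
    · have h1 := hC'.sup_eq_top
      have h2 := congrArg (Subgroup.map E.subtype) h1
      rw [Subgroup.map_sup, Subgroup.subgroupOf_map_subtype, inf_eq_left.mpr hT.1,
        ← MonoidHom.range_eq_map, Subgroup.range_subtype] at h2
      rw [sup_comm]; exact h2
    · intro a ha b hb
      have hbp : IsPGroup 2 (Subgroup.zpowers b) := isPGroup_zpowers_of_mem hT.2.1 hb
      have hao : (orderOf a).Coprime 2 := by
        have h1 : orderOf a ∣ Nat.card (C'.map E.subtype) := Subgroup.orderOf_dvd_natCard _ ha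
        have h2 : (Nat.card (C'.map E.subtype)).Coprime 2 := Nat.Coprime.symm
          ((Nat.Prime.coprime_iff_not_dvd Nat.prime_two).mpr (by
            rw [← even_iff_two_dvd, Nat.not_even_iff_odd]; exact hodd))
        exact Nat.Coprime.coprime_dvd_left h1 h2
      exact (commute_of_isNilpotent hE (hT.1 hb) (hCle ha) hbp hao).symm
    · exact isCyclic_of_nilpotent_fpf_odd hV (hCle.trans hEV) (hfpf.mono hCle) hCnil hodd

/-- a nontrivial group acting without fixed points on a nontrivial group has nontrivial centre -/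
theorem exists_central_of_fpf {K H : Subgroup G} (hHK : H ≤ Subgroup.normalizer (K : Set G))
    (hK : K ≠ ⊥) (hH : H ≠ ⊥) (hfpf : Fpf H K) :
    ∃ z ∈ H, z ≠ 1 ∧ ∀ h ∈ H, h * z = z * h := by
  classical
  have hdisj : K ⊓ H = ⊥ := by
    rw [Subgroup.eq_bot_iff_forall]
    intro x hx
    by_contra hx1
    have h1 := hfpf x hx.2 hx1
    have h2 : x ∈ K ⊓ Subgroup.centralizer ({x} : Set G) :=
      ⟨hx.1, Subgroup.mem_centralizer_singleton_iff.mpr rfl⟩
    rw [h1, Subgroup.mem_bot] at h2
    exact hx1 h2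
  set M : Subgroup G := K ⊔ H with hM
  have hKM : K ≤ M := le_sup_left
  have hHM : H ≤ M := le_sup_right
  have hMn : M ≤ Subgroup.normalizer (K : Set G) := sup_le Subgroup.le_normalizer hHK
  haveI hKn' : (K.subgroupOf M).Normal :=
    (Subgroup.normal_subgroupOf_iff_le_normalizer hKM).mpr hMn
  have hd' : Disjoint (K.subgroupOf M) (H.subgroupOf M) := by
    rw [disjoint_iff, Subgroup.eq_bot_iff_forall]
    intro x hx
    have h1 : (x : G) ∈ K ⊓ H :=
      ⟨Subgroup.mem_subgroupOf.mp hx.1, Subgroup.mem_subgroupOf.mp hx.2⟩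
    rw [hdisj, Subgroup.mem_bot] at h1
    exact Subtype.ext h1
  have hsup : K.subgroupOf M ⊔ H.subgroupOf M = ⊤ := by
    rw [← Subgroup.subgroupOf_sup hKM hHM, ← hM, Subgroup.subgroupOf_self]
  have hc : Subgroup.IsComplement' (K.subgroupOf M) (H.subgroupOf M) := by
    apply Subgroup.isComplement'_of_disjoint_and_mul_eq_univ hd'
    rw [← Subgroup.normal_mul, hsup]; rfl
  have hK' : K.subgroupOf M ≠ ⊥ := by
    intro h0
    apply hK
    rw [Subgroup.eq_bot_iff_forall]
    intro x hx
    have h1 : (⟨x, hKM hx⟩ : M) ∈ K.subgroupOf M := Subgroup.mem_subgroupOf.mpr hx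
    rw [h0, Subgroup.mem_bot] at h1
    exact congrArg Subtype.val h1
  have hH' : H.subgroupOf M ≠ ⊥ := by
    intro h0
    apply hH
    rw [Subgroup.eq_bot_iff_forall]
    intro x hx
    have h1 : (⟨x, hHM hx⟩ : M) ∈ H.subgroupOf M := Subgroup.mem_subgroupOf.mpr hx
    rw [h0, Subgroup.mem_bot] at h1
    exact congrArg Subtype.val h1
  have hfpf' : ∀ h ∈ H.subgroupOf M, h ≠ 1 →
      K.subgroupOf M ⊓ Subgroup.centralizer {h} = ⊥ := by
    intro h hh hh1
    rw [Subgroup.eq_bot_iff_forall]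
    intro x hx
    have h1 : (x : G) ∈ K ⊓ Subgroup.centralizer ({(h : G)} : Set G) := by
      refine ⟨Subgroup.mem_subgroupOf.mp hx.1, ?_⟩
      apply Subgroup.mem_centralizer_singleton_iff.mpr
      have := Subgroup.mem_centralizer_singleton_iff.mp hx.2
      exact congrArg Subtype.val this
    rw [hfpf (h : G) (Subgroup.mem_subgroupOf.mp hh) (fun h0 => hh1 (Subtype.ext h0)),
      Subgroup.mem_bot] at h1
    exact Subtype.ext h1
  have hcen := Cfsg.Agent.S0069.result (K.subgroupOf M) (H.subgroupOf M) hc hK' hH' hfpf'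
  obtain ⟨⟨z', hz'⟩, hz'1⟩ := (Subgroup.ne_bot_iff_exists_ne_one).mp hcen
  refine ⟨((z' : M) : G), Subgroup.mem_subgroupOf.mp z'.2, ?_, ?_⟩
  · intro h0
    apply hz'1
    apply Subtype.ext
    apply Subtype.ext
    apply Subtype.ext
    simpa using h0
  · intro h hh
    have h1 := Subgroup.mem_center_iff.mp hz'
      (⟨⟨h, hHM hh⟩, Subgroup.mem_subgroupOf.mpr hh⟩ : ↥(H.subgroupOf M))
    have h2 := congrArg (fun w : ↥(H.subgroupOf M) => ((w : M) : G)) h1
    simpa using h2

end Cfsg.Agent.Lib.Helper4.CNSolv
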