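import Mathlib
import Cfsg.Agent.Lib.Helper4.CNSolv2
import Cfsg.Agent.Lib.Helper4.CNGroup4
import Cfsg.Agent.Lib.Lead.Core
import Cfsg.Agent.Lib.Lead.Nilpotent

set_option autoImplicit false

/-! Solvable CN-groups: a normal Sylow subgroup when `F(G)` is not a `p`-group; `p'`-elements act
without fixed points on `O_p(G) = F(G)`. -/

namespace Cfsg.Agent.Lib.Helper4.CNSolv

open Cfsg Cfsg.Agent.Lib.Lead Cfsg.Agent.Lib.Helper7 Cfsg.Agent.Lib.Helper4

variable {G : Type*} [Group G] [Finite G]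

/-- a Sylow subgroup of a normal nilpotent subgroup is normal -/
theorem sylIn_normal_of_normal_nilpotent {p : ℕ} [Fact p.Prime] {F R : Subgroup G}
    (hFn : F.Normal) (hF : Group.IsNilpotent F) (hR : SylIn p F R) : R.Normal := by
  have hn := sylIn_normal_of_isNilpotent hF hR
  constructor
  intro x hx g
  have hT : R.map (MulAut.conj g).toMonoidHom ≤ F := by
    rintro _ ⟨y, hy, rfl⟩
    exact hFn.conj_mem y (hR.1 hy) g
  have hTp : IsPGroup p (R.map (MulAut.conj g).toMonoidHom) := hR.2.1.map _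
  exact hR.le_of_normal hn hT hTp ⟨x, hx, rfl⟩

/-- the centralizer of a conjugation-invariant set is normal -/
theorem centralizer_normal_of_invariant (W : Set G) (hW : ∀ w ∈ W, ∀ g : G, g * w * g⁻¹ ∈ W) :
    (Subgroup.centralizer W).Normal := by
  constructor
  intro n hn g
  rw [Subgroup.mem_centralizer_iff] at hn ⊢
  intro w hw
  have h1 := hn (g⁻¹ * w * g⁻¹⁻¹) (hW w hw g⁻¹)
  rw [inv_inv] at h1
  calc w * (g * n * g⁻¹) = g * ((g⁻¹ * w * g) * n) * g⁻¹ := by group
    _ = g * (n * (g⁻¹ * w * g)) * g⁻¹ := by rw [h1]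
    _ = g * n * g⁻¹ * w := by group

/-- if the Fitting subgroup of a CN-group is not of prime power order then some nontrivial Sylow
subgroup is normal -/
theorem exists_normal_sylow (hCN : IsCNGroup G) {p q : ℕ} [hp : Fact p.Prime]
    [hq : Fact q.Prime] (hpq : p ≠ q) (hpF : p ∣ Nat.card (fittingSubgroup G))
    (hqF : q ∣ Nat.card (fittingSubgroup G)) :
    ∃ P : Sylow p G, (P : Subgroup G) ≠ ⊥ ∧ (P : Subgroup G).Normal := by
  classical
  have hFn : (fittingSubgroup G).Normal := fittingSubgroup_normal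
  have hFnil : Group.IsNilpotent (fittingSubgroup G) := fittingSubgroup_isNilpotent
  obtain ⟨⟨y, hyF⟩, hy⟩ := exists_prime_orderOf_dvd_card' (G := fittingSubgroup G) p hpF
  obtain ⟨⟨y₂, hy₂F⟩, hy₂⟩ := exists_prime_orderOf_dvd_card' (G := fittingSubgroup G) q hqF
  have hy' : orderOf y = p := by rw [← hy, ← Subgroup.orderOf_coe]
  have hy₂' : orderOf y₂ = q := by rw [← hy₂, ← Subgroup.orderOf_coe]
  have hy1 : y ≠ 1 := by
    intro h0; rw [h0, orderOf_one] at hy'; exact hp.out.one_lt.ne hy'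
  have hy₂1 : y₂ ≠ 1 := by
    intro h0; rw [h0, orderOf_one] at hy₂'; exact hq.out.one_lt.ne hy₂'
  have hyp : IsPGroup p (Subgroup.zpowers y) := isPGroup_zpowers_of_orderOf hy'
  obtain ⟨S, hS⟩ := hyp.exists_le_sylow
  have hyS : y ∈ (S : Subgroup G) := hS (Subgroup.mem_zpowers y)
  -- a central element of `S` in `F`
  haveI : Group.IsNilpotent ↥(S : Subgroup G) := S.2.isNilpotent
  haveI hN' : ((fittingSubgroup G).subgroupOf (S : Subgroup G)).Normal := hFn.subgroupOf _
  have hN'1 : (fittingSubgroup G).subgroupOf (S : Subgroup G) ≠ ⊥ := by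
    intro h0
    have h1 : (⟨y, hyS⟩ : ↥(S : Subgroup G)) ∈ (fittingSubgroup G).subgroupOf (S : Subgroup G) :=
      Subgroup.mem_subgroupOf.mpr hyF
    rw [h0, Subgroup.mem_bot] at h1
    exact hy1 (congrArg Subtype.val h1)
  have hcen := inf_center_ne_bot _ hN'1
  obtain ⟨⟨⟨z, hzS⟩, hz⟩, hz1⟩ := (Subgroup.ne_bot_iff_exists_ne_one).mp hcen
  have hzF : z ∈ fittingSubgroup G := Subgroup.mem_subgroupOf.mp hz.1
  have hz1' : z ≠ 1 := by
    intro h0
    apply hz1
    apply Subtype.ext
    apply Subtype.ext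
    simpa using h0
  have hzc : ∀ s ∈ (S : Subgroup G), s * z = z * s := by
    intro s hs
    have := Subgroup.mem_center_iff.mp hz.2 ⟨s, hs⟩
    exact congrArg Subtype.val this
  have hzp : IsPGroup p (Subgroup.zpowers z) := isPGroup_zpowers_of_mem S.2 hzS
  -- the set of elements of order `q` in `F`
  set W : Set G := {w | w ∈ fittingSubgroup G ∧ orderOf w = q} with hW
  have hWinv : ∀ w ∈ W, ∀ g : G, g * w * g⁻¹ ∈ W := by
    intro w hw g
    refine ⟨hFn.conj_mem w hw.1 g, ?_⟩
    have : g * w * g⁻¹ = MulAut.conj g w := rfl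
    rw [this, MulEquiv.orderOf_eq]
    exact hw.2
  have hDn : (Subgroup.centralizer W).Normal := centralizer_normal_of_invariant W hWinv
  -- `S` centralizes `W`
  have hSD : (S : Subgroup G) ≤ Subgroup.centralizer W := by
    intro s hs
    rw [Subgroup.mem_centralizer_iff]
    intro w hw
    have hwq : IsPGroup q (Subgroup.zpowers w) := isPGroup_zpowers_of_orderOf hw.2
    have hwo : (orderOf w).Coprime p := by
      rw [hw.2]; exact (Nat.coprime_primes hq.out hp.out).mpr (Ne.symm hpq)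
    -- `w` commutes with `z`
    have h1 : z * w = w * z := commute_of_isNilpotent hFnil hzF hw.1 hzp hwo
    -- both `s` and `w` lie in `C(z)`
    have hsC : s ∈ Subgroup.centralizer ({z} : Set G) :=
      Subgroup.mem_centralizer_singleton_iff.mpr (hzc s hs)
    have hwC : w ∈ Subgroup.centralizer ({z} : Set G) :=
      Subgroup.mem_centralizer_singleton_iff.mpr h1.symm
    have hsp : IsPGroup p (Subgroup.zpowers s) := isPGroup_zpowers_of_mem S.2 hs
    have := commute_of_isNilpotent (hCN z hz1') hsC hwC hsp hwo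
    exact this.symm
  -- the centralizer of `W` is nilpotent
  have hy₂W : y₂ ∈ W := ⟨hy₂F, hy₂'⟩
  have hDle : Subgroup.centralizer W ≤ Subgroup.centralizer ({y₂} : Set G) :=
    Subgroup.centralizer_le (Set.singleton_subset_iff.mpr hy₂W)
  have hDnil : Group.IsNilpotent (Subgroup.centralizer W) := isNilpotent_of_le (hCN y₂ hy₂1) hDle
  have hDF : Subgroup.centralizer W ≤ fittingSubgroup G := le_fittingSubgroup hDn hDnil
  have hSF : (S : Subgroup G) ≤ fittingSubgroup G := hSD.trans hDF
  have hSyl : SylIn p (fittingSubgroup G) (S : Subgroup G) := by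
    refine ⟨hSF, S.2, ?_⟩
    intro h0
    exact S.not_dvd_index (h0.trans (Subgroup.relIndex_dvd_index_of_le hSF))
  refine ⟨S, ?_, sylIn_normal_of_normal_nilpotent hFn hFnil hSyl⟩
  intro h0
  rw [h0, Subgroup.mem_bot] at hyS
  exact hy1 hyS

/-- in a CN-group with `C_G(O_p(G)) ≤ O_p(G)`, every nonidentity `p'`-element acts without fixed
points on `O_p(G)` -/
theorem fpf_of_coprime (hCN : IsCNGroup G) {p : ℕ} [hp : Fact p.Prime] (P₀ : Subgroup G)
    (hP : IsPGroup p P₀) (hP1 : P₀ ≠ ⊥) (hcP : Subgroup.centralizer (P₀ : Set G) ≤ P₀)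
    (x : G) (hx1 : x ≠ 1) (hx : (orderOf x).Coprime p) :
    P₀ ⊓ Subgroup.centralizer ({x} : Set G) = ⊥ := by
  classical
  rw [Subgroup.eq_bot_iff_forall]
  intro y hy
  by_contra hy1
  -- a central element of `P₀`
  have hnt : Nontrivial P₀ := by
    rw [← Subgroup.nontrivial_iff_ne_bot] at hP1; exact hP1
  have hcen := hP.center_nontrivial
  obtain ⟨⟨⟨z, hzP⟩, hz⟩, hz1⟩ := exists_ne (1 : Subgroup.center P₀)
  have hz1' : z ≠ 1 := by
    intro h0
    apply hz1
    apply Subtype.ext
    apply Subtype.ext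
    simpa using h0
  have hzc : ∀ s ∈ P₀, s * z = z * s := by
    intro s hs
    have := Subgroup.mem_center_iff.mp hz ⟨s, hs⟩
    exact congrArg Subtype.val this
  have hzp : IsPGroup p (Subgroup.zpowers z) := isPGroup_zpowers_of_mem hP hzP
  -- `x` and `z` lie in `C(y)`
  have hxC : x ∈ Subgroup.centralizer ({y} : Set G) := by
    apply Subgroup.mem_centralizer_singleton_iff.mpr
    exact (Subgroup.mem_centralizer_singleton_iff.mp hy.2).symm
  have hzC : z ∈ Subgroup.centralizer ({y} : Set G) :=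
    Subgroup.mem_centralizer_singleton_iff.mpr (hzc y hy.1).symm
  have h1 : z * x = x * z := commute_of_isNilpotent (hCN y hy1) hzC hxC hzp hx
  -- `x` centralizes `P₀`
  have hxcP : x ∈ Subgroup.centralizer (P₀ : Set G) := by
    rw [Subgroup.mem_centralizer_iff]
    intro s hs
    have hsC : s ∈ Subgroup.centralizer ({z} : Set G) :=
      Subgroup.mem_centralizer_singleton_iff.mpr (hzc s hs)
    have hxC' : x ∈ Subgroup.centralizer ({z} : Set G) :=
      Subgroup.mem_centralizer_singleton_iff.mpr h1.symm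
    have hsp : IsPGroup p (Subgroup.zpowers s) := isPGroup_zpowers_of_mem hP hs
    exact commute_of_isNilpotent (hCN z hz1') hsC hxC' hsp hx
  have hxP : x ∈ P₀ := hcP hxcP
  obtain ⟨k, hk⟩ := hP ⟨x, hxP⟩
  have hk' : x ^ p ^ k = 1 := by
    have := congrArg Subtype.val hk
    simpa using this
  have h2 : orderOf x ∣ p ^ k := orderOf_dvd_of_pow_eq_one hk'
  have h3 : orderOf x = 1 :=
    Nat.Coprime.eq_one_of_dvd (Nat.Coprime.pow_right k hx) h2
  exact hx1 (orderOf_eq_one_iff.mp h3)

end Cfsg.Agent.Lib.Helper4.CNSolv
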