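import Mathlib
import Cfsg.Agent.Lib.Helper4.CNGroup1
import Cfsg.Agent.Lib.Helper3.Components6
import Cfsg.Agent.Lib.Lead.SZConj
import Cfsg.Agent.Lib.Lead.HallTools

set_option autoImplicit false

/-! CN-groups: quotients by solvable normal subgroups. -/

namespace Cfsg.Agent.Lib.Helper4

open Cfsg Cfsg.Agent.Lib.Helper7

universe u

theorem isCN_of_mulEquiv {X Y : Type*} [Group X] [Group Y] (e : X ≃* Y) (h : IsCNGroup X) :
    IsCNGroup Y := by
  intro y hy
  have hx : e.symm y ≠ 1 := by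
    intro h0
    apply hy
    have := congrArg e h0
    simpa using this
  have hn := h (e.symm y) hx
  have hmem : ∀ c : Subgroup.centralizer ({y} : Set Y),
      e.symm (c : Y) ∈ Subgroup.centralizer ({e.symm y} : Set X) := by
    intro c
    rw [Subgroup.mem_centralizer_iff]
    intro w hw
    rw [Set.mem_singleton_iff] at hw
    rw [hw, ← map_mul, ← map_mul]
    congr 1
    exact Subgroup.mem_centralizer_iff.mp c.2 y (Set.mem_singleton y)
  let f : Subgroup.centralizer ({y} : Set Y) →* Subgroup.centralizer ({e.symm y} : Set X) :=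
    { toFun := fun c => ⟨e.symm (c : Y), hmem c⟩
      map_one' := by apply Subtype.ext; simp
      map_mul' := by intro a b; apply Subtype.ext; simp }
  apply Cfsg.Agent.Lib.Helper3.isNilpotent_of_injective f _ hn
  intro a b hab
  have h1 : e.symm (a : Y) = e.symm (b : Y) := congrArg Subtype.val hab
  exact Subtype.ext (e.symm.injective h1)

theorem mem_centralizer_singleton_pow {X : Type*} [Group X] {g d : X}
    (hd : d ∈ Subgroup.centralizer ({g} : Set X)) (k : ℕ) :
    d ∈ Subgroup.centralizer ({g ^ k} : Set X) := by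
  rw [Subgroup.mem_centralizer_iff] at hd ⊢
  intro w hw
  rw [Set.mem_singleton_iff] at hw
  rw [hw]
  have h1 : Commute g d := hd g (Set.mem_singleton g)
  exact (h1.pow_left k).eq

variable {G : Type*} [Group G]

theorem isCN_quotient_abelian_pgroup [Finite G] (hCN : IsCNGroup G) {p : ℕ} [hp : Fact p.Prime]
    (A : Subgroup G) [hAn : A.Normal] (hAc : ∀ a ∈ A, ∀ b ∈ A, a * b = b * a) (hAp : IsPGroup p A)
    (hA1 : A ≠ ⊥) : IsCNGroup (G ⧸ A) := by
  classical
  intro gb hgb
  obtain ⟨π, hπdef⟩ : ∃ π : G →* G ⧸ A, π = QuotientGroup.mk' A := ⟨_, rfl⟩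
  have hπsurj : Function.Surjective π := by rw [hπdef]; exact QuotientGroup.mk'_surjective _
  have hπker : π.ker = A := by rw [hπdef]; exact QuotientGroup.ker_mk' _
  have hπmem : ∀ g : G, π g = 1 ↔ g ∈ A := by
    intro g
    rw [← MonoidHom.mem_ker, hπker]
  suffices hsuff : ∃ N : Subgroup G, Group.IsNilpotent N ∧
      Subgroup.centralizer ({gb} : Set (G ⧸ A)) ≤ N.map π by
    obtain ⟨N, hN, hle⟩ := hsuff
    exact isNilpotent_of_le (Cfsg.Agent.Lib.Helper2.Schmidt.isNilpotent_map π hN) hle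
  have hm1 : orderOf gb ≠ 1 := fun h0 => hgb (orderOf_eq_one_iff.mp h0)
  have hm0 : orderOf gb ≠ 0 := (orderOf_pos gb).ne'
  by_cases hcase : ∃ r : ℕ, r.Prime ∧ r ≠ p ∧ r ∣ orderOf gb
  · obtain ⟨r, hr, hrp, hrm⟩ := hcase
    haveI : Fact r.Prime := ⟨hr⟩
    obtain ⟨g, rfl⟩ := hπsurj gb
    have hn0 : orderOf g ≠ 0 := (orderOf_pos g).ne'
    have hmn : orderOf (π g) ∣ orderOf g := orderOf_map_dvd π g
    obtain ⟨s, hsdef⟩ : ∃ s : ℕ, s = ordCompl[r] (orderOf g) := ⟨_, rfl⟩
    obtain ⟨u, hudef⟩ : ∃ u : G, u = g ^ s := ⟨_, rfl⟩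
    have hupow : u ^ (ordProj[r] (orderOf g)) = 1 := by
      rw [hudef, ← pow_mul, hsdef, mul_comm, Nat.ordProj_mul_ordCompl_eq_self]
      exact pow_orderOf_eq_one g
    have hupg : IsPGroup r (Subgroup.zpowers u) := by
      apply IsPGroup.of_card (n := (Nat.factorization (orderOf u)) r)
      rw [Nat.card_zpowers]
      have h3 : orderOf u ∣ r ^ ((orderOf g).factorization r) := orderOf_dvd_of_pow_eq_one hupow
      obtain ⟨i, -, hi⟩ := (Nat.dvd_prime_pow hr).mp h3
      rw [hi, hr.factorization_pow, Finsupp.single_eq_same]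
    have hπu : π u = (π g) ^ s := by rw [hudef, map_pow]
    have hπu1 : π u ≠ 1 := by
      rw [hπu]
      intro h0
      have h1 : orderOf (π g) ∣ s := orderOf_dvd_of_pow_eq_one h0
      have h2 : r ∣ s := hrm.trans h1
      rw [hsdef] at h2
      exact Nat.not_dvd_ordCompl hr hn0 h2
    have hu1 : u ≠ 1 := by
      intro h0
      apply hπu1
      rw [h0, map_one]
    refine ⟨Subgroup.centralizer ({u} : Set G), hCN u hu1, ?_⟩
    intro db hdb
    have hdb' := mem_centralizer_singleton_pow hdb s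
    rw [← hπu] at hdb'
    obtain ⟨d, rfl⟩ := hπsurj db
    have hcomm : π u * π d = π d * π u :=
      Subgroup.mem_centralizer_iff.mp hdb' (π u) (Set.mem_singleton _)
    have hAr : (Nat.card A).Coprime r := by
      obtain ⟨k, hk⟩ := IsPGroup.iff_card.mp hAp
      rw [hk]
      exact Nat.Coprime.pow_left k ((Nat.coprime_primes hp.out hr).mpr (Ne.symm hrp))
    have hunorm : u ∈ Subgroup.normalizer (A : Set G) := by
      rw [Subgroup.normalizer_eq_top]; trivial
    have hy₁ : IsPGroup r (Subgroup.zpowers (d * u * d⁻¹)) := by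
      have h1 : Subgroup.zpowers (d * u * d⁻¹) = (Subgroup.zpowers u).map (MulAut.conj d).toMonoidHom := by
        rw [MonoidHom.map_zpowers]
        rfl
      rw [h1]
      exact hupg.map _
    have he₀ : u⁻¹ * (d * u * d⁻¹) ∈ A := by
      rw [← hπmem]
      simp only [map_mul, map_inv]
      rw [← hcomm]
      group
    obtain ⟨e, he, heu⟩ := coprime_conj_of_mem_coset (p := r) hAr hunorm hupg hy₁ he₀
    refine ⟨e⁻¹ * d, ?_, ?_⟩
    · rw [SetLike.mem_coe, Subgroup.mem_centralizer_iff]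
      intro w hw
      rw [Set.mem_singleton_iff] at hw
      rw [hw]
      have h1 : u = e⁻¹ * (d * u * d⁻¹) * e := by rw [← heu]; group
      calc u * (e⁻¹ * d) = (e⁻¹ * (d * u * d⁻¹) * e) * (e⁻¹ * d) := by rw [← h1]
        _ = e⁻¹ * d * u := by group
    · rw [map_mul, map_inv, (hπmem e).mpr he, inv_one, one_mul]
  · push Not at hcase
    have hmp : orderOf gb = p ^ (orderOf gb).primeFactorsList.length :=
      Nat.eq_prime_pow_of_unique_prime_dvd hm0 (fun {d} hd hdm => by
        by_contra hne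
        exact hcase d hd hne hdm)
    obtain ⟨k, hkdef⟩ : ∃ k : ℕ, k = (orderOf gb).primeFactorsList.length := ⟨_, rfl⟩
    rw [← hkdef] at hmp
    have hk0 : k ≠ 0 := by
      intro h0
      rw [h0, pow_zero] at hmp
      exact hm1 hmp
    obtain ⟨j, hj⟩ : ∃ j, k = j + 1 := ⟨k - 1, by omega⟩
    obtain ⟨xb, hxbdef⟩ : ∃ xb : G ⧸ A, xb = gb ^ (p ^ j) := ⟨_, rfl⟩
    have hxbp : xb ^ p = 1 := by
      rw [hxbdef, ← pow_mul, ← pow_succ, ← hj, ← hmp]
      exact pow_orderOf_eq_one gb
    have hxb1 : xb ≠ 1 := by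
      rw [hxbdef]
      apply pow_ne_one_of_lt_orderOf (pow_ne_zero _ hp.out.ne_zero)
      rw [hmp, hj]
      exact Nat.pow_lt_pow_right hp.out.one_lt (Nat.lt_succ_self j)
    obtain ⟨x, hx⟩ := hπsurj xb
    have hxA : x ∉ A := by
      intro h0
      apply hxb1
      rw [← hx]; exact (hπmem x).mpr h0
    have hxp : x ^ p ∈ A := by
      rw [← hπmem, map_pow, hx]; exact hxbp
    obtain ⟨D, hDdef⟩ : ∃ D : Subgroup G, D = (Subgroup.centralizer ({xb} : Set (G ⧸ A))).comap π :=
      ⟨_, rfl⟩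
    have hD : ∀ d, d ∈ D ↔ d * x * d⁻¹ * x⁻¹ ∈ A := by
      intro d
      rw [hDdef, Subgroup.mem_comap, Subgroup.mem_centralizer_iff, ← hπmem]
      simp only [map_mul, map_inv, hx]
      constructor
      · intro h0
        have := h0 xb (Set.mem_singleton _)
        rw [← this]; group
      · intro h0 w hw
        rw [Set.mem_singleton_iff] at hw
        rw [hw]
        have h1 : π d * xb = (π d * xb * (π d)⁻¹ * xb⁻¹) * (xb * π d) := by group
        rw [h1, h0, one_mul]
    obtain ⟨h, hh1, hDh⟩ := cn_case_p hCN A hAc hAp hA1 x hxA hxp D hD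
    refine ⟨D, isNilpotent_of_le (hCN h hh1) hDh, ?_⟩
    have hmap : D.map π = Subgroup.centralizer ({xb} : Set (G ⧸ A)) := by
      rw [hDdef]
      exact Subgroup.map_comap_eq_self_of_surjective hπsurj _
    rw [hmap]
    intro d hd
    rw [hxbdef]
    exact mem_centralizer_singleton_pow hd _

/-- the elements of order dividing `p` in an abelian normal subgroup -/
theorem exists_normal_abelian_pgroup_le [Finite G] (H : Subgroup G) [H.Normal]
    [Group.IsSolvable H] (hH : H ≠ ⊥) :
    ∃ (p : ℕ) (A : Subgroup G), p.Prime ∧ A ≤ H ∧ A.Normal ∧ (∀ a ∈ A, ∀ b ∈ A, a * b = b * a) ∧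
      IsPGroup p A ∧ A ≠ ⊥ := by
  classical
  obtain ⟨B, hBH, hBn, hBc, hB1⟩ := Cfsg.Agent.Lib.Lead.exists_normal_abelian_le H hH
  have hBcomm : ∀ a ∈ B, ∀ b ∈ B, a * b = b * a := by
    intro a ha b hb
    have := hBc.is_comm.comm ⟨a, ha⟩ ⟨b, hb⟩
    exact congrArg Subtype.val this
  have hcard : Nat.card B ≠ 1 := fun h0 => hB1 (Subgroup.card_eq_one.mp h0)
  obtain ⟨p, hp, hpd⟩ := Nat.exists_prime_and_dvd hcard
  haveI : Fact p.Prime := ⟨hp⟩
  obtain ⟨b', hb'⟩ := exists_prime_orderOf_dvd_card' (G := ↥B) p hpd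
  let A : Subgroup G :=
    { carrier := {a | a ∈ B ∧ a ^ p = 1}
      one_mem' := ⟨B.one_mem, one_pow p⟩
      mul_mem' := by
        rintro a b ⟨ha, hap⟩ ⟨hb, hbp⟩
        refine ⟨B.mul_mem ha hb, ?_⟩
        have hc : Commute a b := hBcomm a ha b hb
        rw [hc.mul_pow, hap, hbp, one_mul]
      inv_mem' := by
        rintro a ⟨ha, hap⟩
        exact ⟨B.inv_mem ha, by rw [inv_pow, hap, inv_one]⟩ }
  refine ⟨p, A, hp, ?_, ?_, ?_, ?_, ?_⟩
  · intro a ha
    exact hBH ha.1
  · constructor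
    intro a ha g
    refine ⟨hBn.conj_mem a ha.1 g, ?_⟩
    rw [conj_pow, ha.2]; group
  · intro a ha b hb
    exact hBcomm a ha.1 b hb.1
  · intro a
    refine ⟨1, ?_⟩
    apply Subtype.ext
    rw [pow_one, Subgroup.coe_pow]
    exact a.2.2
  · intro h0
    have hbA : (b' : G) ∈ A := by
      refine ⟨b'.2, ?_⟩
      have h1 : b' ^ p = 1 := by rw [← hb']; exact pow_orderOf_eq_one b'
      have := congrArg Subtype.val h1
      simpa using this
    rw [h0, Subgroup.mem_bot] at hbA
    have h2 : b' = 1 := Subtype.ext hbA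
    rw [h2, orderOf_one] at hb'
    exact hp.one_lt.ne hb'

theorem isCN_quotient_solvable_aux (n : ℕ) : ∀ (G : Type u) [Group G] [Finite G],
    IsCNGroup G → ∀ (H : Subgroup G) [H.Normal], Group.IsSolvable H → Nat.card H = n →
    IsCNGroup (G ⧸ H) := by
  induction n using Nat.strong_induction_on with
  | _ n ih =>
  intro G _ _ hCN H hHn hHs hn
  rcases eq_or_ne H ⊥ with rfl | hne
  · exact isCN_of_mulEquiv (QuotientGroup.quotientBot (G := G)).symm hCN
  · obtain ⟨p, A, hp, hAH, hAn, hAc, hAp, hA1⟩ := exists_normal_abelian_pgroup_le H hne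
    haveI : Fact p.Prime := ⟨hp⟩
    have hCN₁ : IsCNGroup (G ⧸ A) := isCN_quotient_abelian_pgroup hCN A hAc hAp hA1
    haveI hH₁n : (H.map (QuotientGroup.mk' A)).Normal :=
      hHn.map _ (QuotientGroup.mk'_surjective A)
    have hH₁s : Group.IsSolvable (H.map (QuotientGroup.mk' A)) :=
      solvable_of_surjective (f := (QuotientGroup.mk' A).subgroupMap H)
        ((QuotientGroup.mk' A).subgroupMap_surjective H)
    have hcard := Cfsg.Agent.Lib.Lead.card_map_mk_of_le A H hAH
    have hlt : Nat.card (H.map (QuotientGroup.mk' A)) < n := by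
      rw [← hn, ← hcard]
      have hA2 : 1 < Nat.card A := by
        rcases Nat.lt_or_ge 1 (Nat.card A) with h1 | h1
        · exact h1
        · exfalso
          have : Nat.card A = 1 := le_antisymm h1 Nat.card_pos
          exact hA1 (Subgroup.card_eq_one.mp this)
      have hpos : 0 < Nat.card (H.map (QuotientGroup.mk' A)) := Nat.card_pos
      nlinarith
    have h2 := ih _ hlt (G ⧸ A) hCN₁ (H.map (QuotientGroup.mk' A)) hH₁s rfl
    exact isCN_of_mulEquiv (QuotientGroup.quotientQuotientEquivQuotient A H hAH) h2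

theorem isCN_quotient_solvable {G : Type u} [Group G] [Finite G] (hCN : IsCNGroup G)
    (H : Subgroup G) [H.Normal] (hH : Group.IsSolvable H) : IsCNGroup (G ⧸ H) :=
  isCN_quotient_solvable_aux _ G hCN H hH rfl

end Cfsg.Agent.Lib.Helper4
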