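import Mathlib
import Cfsg.Agent.Lib.Helper4.CNSolv3
import Cfsg.Agent.Lib.Helper6.FStarAct
import Cfsg.Agent.S1473
import Cfsg.Agent.S0044
import Cfsg.Agent.S0050

set_option autoImplicit false

/-! Solvable CN-groups with `F(G) = O_p(G)`: a complement to `O_p(G)`. -/

namespace Cfsg.Agent.Lib.Helper4.CNSolv

open Cfsg Cfsg.Agent.Lib.Lead Cfsg.Agent.Lib.Helper7 Cfsg.Agent.Lib.Helper4

variable {G : Type*} [Group G] [Finite G]

theorem exists_A_N [Group.IsSolvable G] (hCN : IsCNGroup G) {p : ℕ} [hp : Fact p.Prime]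
    (hP1 : pCore p G ≠ ⊥) (hPT : pCore p G ≠ ⊤)
    (hfpf : ∀ x : G, x ≠ 1 → (orderOf x).Coprime p →
      pCore p G ⊓ Subgroup.centralizer ({x} : Set G) = ⊥) :
    ∃ A N : Subgroup G, A ≠ ⊥ ∧ (Nat.card A).Coprime p ∧ Group.IsNilpotent A ∧ A ≤ N ∧
      N ≤ Subgroup.normalizer (A : Set G) ∧ Subgroup.IsComplement' (pCore p G) N ∧
      (pCore p G ⊔ A).Normal ∧
      (∀ B : Subgroup G, B ≤ N → N ≤ Subgroup.normalizer (B : Set G) → Group.IsNilpotent B →
        B ≤ A) ∧
      (∀ n ∈ N, (∀ a ∈ A, n * a = a * n) → n ∈ A) := by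
  classical
  have hPn : (pCore p G).Normal := inferInstance
  have hPp : IsPGroup p (pCore p G) := pCore_isPGroup p
  have hπs : Function.Surjective (QuotientGroup.mk' (pCore p G)) :=
    QuotientGroup.mk'_surjective _
  have hker : (QuotientGroup.mk' (pCore p G)).ker = pCore p G := QuotientGroup.ker_mk' _
  have hPsol : Group.IsSolvable (pCore p G) := inferInstance
  have hCNq : IsCNGroup (G ⧸ pCore p G) := Cfsg.Agent.S1473.result hCN (pCore p G) hPsol
  have hGqs : Group.IsSolvable (G ⧸ pCore p G) := inferInstance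
  -- `O_p(G/P₀) = 1`
  have hOp : pCore p (G ⧸ pCore p G) = ⊥ := by
    have h1 : (pCore p (G ⧸ pCore p G)).comap (QuotientGroup.mk' (pCore p G)) ≤ pCore p G := by
      apply le_pCore
      · exact (inferInstance : (pCore p (G ⧸ pCore p G)).Normal).comap _
      · exact (pCore_isPGroup p).comap_of_ker_isPGroup _ (by rw [hker]; exact hPp)
    rw [eq_bot_iff]
    intro x hx
    obtain ⟨g, rfl⟩ := hπs x
    have h2 : g ∈ pCore p G := h1 (Subgroup.mem_comap.mpr hx)
    rw [Subgroup.mem_bot]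
    exact (QuotientGroup.eq_one_iff g).mpr h2
  have hFbn : (fittingSubgroup (G ⧸ pCore p G)).Normal := fittingSubgroup_normal
  have hFbnil : Group.IsNilpotent (fittingSubgroup (G ⧸ pCore p G)) := fittingSubgroup_isNilpotent
  have hFbcop : (Nat.card (fittingSubgroup (G ⧸ pCore p G))).Coprime p :=
    Cfsg.Agent.Lib.Helper6.coprime_card_fittingSubgroup hOp
  have hFbc : Subgroup.centralizer (fittingSubgroup (G ⧸ pCore p G) : Set (G ⧸ pCore p G)) ≤
      fittingSubgroup (G ⧸ pCore p G) := Cfsg.Agent.S0044.result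
  have hFb1 : fittingSubgroup (G ⧸ pCore p G) ≠ ⊥ := by
    intro h0
    apply hPT
    rw [eq_top_iff]
    intro g _
    have h1 : (QuotientGroup.mk' (pCore p G)) g ∈
        Subgroup.centralizer (fittingSubgroup (G ⧸ pCore p G) : Set (G ⧸ pCore p G)) := by
      rw [Subgroup.mem_centralizer_iff]
      intro h hh
      rw [h0] at hh
      have : h = 1 := hh
      rw [this, one_mul, mul_one]
    have h2 := hFbc h1
    rw [h0, Subgroup.mem_bot] at h2
    exact (QuotientGroup.eq_one_iff g).mp h2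
  -- the preimage `L` of the Fitting subgroup
  obtain ⟨L, hLdef⟩ : ∃ L : Subgroup G,
      L = (fittingSubgroup (G ⧸ pCore p G)).comap (QuotientGroup.mk' (pCore p G)) := ⟨_, rfl⟩
  have hLn : L.Normal := by rw [hLdef]; exact hFbn.comap _
  have hPL : pCore p G ≤ L := by
    rw [hLdef]
    intro x hx
    rw [Subgroup.mem_comap]
    have : (QuotientGroup.mk' (pCore p G)) x = 1 := (QuotientGroup.eq_one_iff x).mpr hx
    rw [this]; exact Subgroup.one_mem _
  have hLmap : L.map (QuotientGroup.mk' (pCore p G)) = fittingSubgroup (G ⧸ pCore p G) := by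
    rw [hLdef]; exact Subgroup.map_comap_eq_self_of_surjective hπs _
  have hrel : (pCore p G).relIndex L = Nat.card (fittingSubgroup (G ⧸ pCore p G)) := by
    have h1 := Subgroup.relIndex_comap (⊥ : Subgroup (G ⧸ pCore p G))
      (QuotientGroup.mk' (pCore p G)) L
    rw [MonoidHom.comap_bot, hker, hLmap, Subgroup.relIndex_bot_left] at h1
    exact h1
  -- Schur–Zassenhaus in `L`
  have hPn' : ((pCore p G).subgroupOf L).Normal := hPn.subgroupOf L
  have hcardP' : Nat.card ((pCore p G).subgroupOf L) = Nat.card (pCore p G) :=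
    card_subgroupOf_of_le hPL
  obtain ⟨k, hk⟩ := IsPGroup.iff_card.mp hPp
  have hcop : (Nat.card ((pCore p G).subgroupOf L)).Coprime ((pCore p G).subgroupOf L).index := by
    have h1 : ((pCore p G).subgroupOf L).index = (pCore p G).relIndex L := rfl
    rw [hcardP', h1, hrel, hk]
    exact Nat.Coprime.pow_left k hFbcop.symm
  obtain ⟨A', hA'⟩ := Subgroup.exists_right_complement'_of_coprime hcop
  obtain ⟨A, hAdef⟩ : ∃ A : Subgroup G, A = A'.map L.subtype := ⟨_, rfl⟩
  have hAL : A ≤ L := by rw [hAdef]; exact Subgroup.map_subtype_le _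
  have hcardA : Nat.card A = Nat.card (fittingSubgroup (G ⧸ pCore p G)) := by
    rw [hAdef, Subgroup.card_map_of_injective L.subtype_injective, ← hrel]
    have h1 := hA'.card_mul_card
    have h2 := ((pCore p G).subgroupOf L).card_mul_index
    rw [← h2] at h1
    exact Nat.eq_of_mul_eq_mul_left Nat.card_pos h1
  have hAcop : (Nat.card A).Coprime p := by rw [hcardA]; exact hFbcop
  have hA1 : A ≠ ⊥ := by
    intro h0
    rw [h0, Subgroup.card_bot] at hcardA
    exact hFb1 (Subgroup.card_eq_one.mp hcardA.symm)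
  have hPA : pCore p G ⊓ A = ⊥ := by
    rw [Subgroup.eq_bot_iff_forall]
    intro x hx
    rw [hAdef] at hx
    obtain ⟨a', ha', rfl⟩ := hx.2
    have h1 : a' ∈ (pCore p G).subgroupOf L ⊓ A' := ⟨Subgroup.mem_subgroupOf.mpr hx.1, ha'⟩
    rw [hA'.disjoint.eq_bot, Subgroup.mem_bot] at h1
    rw [h1]; rfl
  have hsup : pCore p G ⊔ A = L := by
    have h1 := hA'.sup_eq_top
    have h2 := congrArg (Subgroup.map L.subtype) h1
    rw [Subgroup.map_sup, Subgroup.subgroupOf_map_subtype, inf_eq_left.mpr hPL,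
      ← MonoidHom.range_eq_map, Subgroup.range_subtype, ← hAdef] at h2
    exact h2
  have hAmap : A.map (QuotientGroup.mk' (pCore p G)) = fittingSubgroup (G ⧸ pCore p G) := by
    rw [← hLmap, ← hsup, Subgroup.map_sup]
    have : (pCore p G).map (QuotientGroup.mk' (pCore p G)) = ⊥ := by
      rw [Subgroup.map_eq_bot_iff, hker]
    rw [this, bot_sup_eq]
  -- elements of `A` are `p'`-elements
  have hAfpf : Fpf A (pCore p G) := by
    intro a ha ha1
    apply hfpf a ha1
    exact Nat.Coprime.coprime_dvd_left (Subgroup.orderOf_dvd_natCard _ ha) hAcop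
  -- `A` is nilpotent
  have hAnil : Group.IsNilpotent A := by
    obtain ⟨z, hzA, hz1, hzc⟩ := exists_central_of_fpf (K := pCore p G) (H := A)
      Subgroup.le_normalizer_of_normal hP1 hA1 hAfpf
    apply isNilpotent_of_le (hCN z hz1)
    intro a ha
    exact Subgroup.mem_centralizer_singleton_iff.mpr (hzc a ha)
  -- Frattini argument
  have hLsol : Group.IsSolvable L := inferInstance
  have hArel : A.relIndex L = Nat.card (pCore p G) := by
    have h2 : A.relIndex L = A'.index := by
      rw [hAdef]; unfold Subgroup.relIndex Subgroup.subgroupOf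
      rw [Subgroup.comap_map_eq_self_of_injective L.subtype_injective]
    rw [h2, hA'.index_eq_card, hcardP']
  have hHall : (Nat.card A).Coprime (A.relIndex L) := by
    rw [hArel, hk]; exact Nat.Coprime.pow_right k hAcop
  have hfrat := Cfsg.Agent.S0050.result L hLsol A hAL hHall
  obtain ⟨N, hN⟩ : ∃ N : Subgroup G, N = Subgroup.normalizer (A : Set G) := ⟨_, rfl⟩
  have hAN : A ≤ N := by rw [hN]; exact Subgroup.le_normalizer
  have hPN_top : pCore p G ⊔ N = ⊤ := by
    rw [eq_top_iff, ← hfrat, ← hsup, ← hN]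
    exact sup_le (sup_le le_sup_left (hAN.trans le_sup_right)) le_sup_right
  have hPN_bot : pCore p G ⊓ N = ⊥ := by
    rw [Subgroup.eq_bot_iff_forall]
    intro x hx
    obtain ⟨⟨a, haA⟩, ha1⟩ := (Subgroup.ne_bot_iff_exists_ne_one).mp hA1
    have ha1' : a ≠ 1 := fun h0 => ha1 (Subtype.ext h0)
    have hxN : x ∈ Subgroup.normalizer (A : Set G) := by rw [← hN]; exact hx.2
    have h1 : x * a * x⁻¹ ∈ A := (Subgroup.mem_normalizer_iff.mp hxN a).mp haA
    have h2 : x * a * x⁻¹ * a⁻¹ ∈ pCore p G ⊓ A := by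
      refine ⟨?_, A.mul_mem h1 (A.inv_mem haA)⟩
      have : x * a * x⁻¹ * a⁻¹ = x * (a * x⁻¹ * a⁻¹) := by group
      rw [this]
      exact (pCore p G).mul_mem hx.1 (hPn.conj_mem x⁻¹ ((pCore p G).inv_mem hx.1) a)
    rw [hPA, Subgroup.mem_bot] at h2
    have h3 : x * a = a * x := by
      calc x * a = (x * a * x⁻¹ * a⁻¹) * (a * x) := by group
        _ = a * x := by rw [h2, one_mul]
    have h4 : x ∈ pCore p G ⊓ Subgroup.centralizer ({a} : Set G) :=
      ⟨hx.1, Subgroup.mem_centralizer_singleton_iff.mpr h3⟩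
    rw [hAfpf a haA ha1', Subgroup.mem_bot] at h4
    exact h4
  have hcompl : Subgroup.IsComplement' (pCore p G) N := by
    apply Subgroup.isComplement'_of_disjoint_and_mul_eq_univ (disjoint_iff.mpr hPN_bot)
    rw [← Subgroup.normal_mul, hPN_top]; rfl
  have key : ∀ n ∈ N, (QuotientGroup.mk' (pCore p G)) n ∈ fittingSubgroup (G ⧸ pCore p G) →
      n ∈ A := by
    intro n hn hπn
    rw [← hAmap] at hπn
    obtain ⟨a, ha, hab⟩ := hπn
    have h1 : a⁻¹ * n ∈ pCore p G := QuotientGroup.eq.mp hab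
    have h2 : a⁻¹ * n ∈ pCore p G ⊓ N := ⟨h1, N.mul_mem (N.inv_mem (hAN ha)) hn⟩
    rw [hPN_bot, Subgroup.mem_bot] at h2
    have : n = a := by
      calc n = a * (a⁻¹ * n) := by group
        _ = a := by rw [h2, mul_one]
    rw [this]; exact ha
  refine ⟨A, N, hA1, hAcop, hAnil, hAN, hN.le, hcompl, by rw [hsup]; exact hLn, ?_, ?_⟩
  · intro B hBN hNB hBnil
    have hBmn : (B.map (QuotientGroup.mk' (pCore p G))).Normal := by
      constructor
      intro x hx gq
      obtain ⟨g, rfl⟩ := hπs gq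
      obtain ⟨b, hb, rfl⟩ := hx
      have hg : g ∈ ((pCore p G ⊔ N : Subgroup G) : Set G) := by rw [hPN_top]; trivial
      rw [Subgroup.normal_mul] at hg
      obtain ⟨u, hu, n, hn, rfl⟩ := hg
      have h1 : (QuotientGroup.mk' (pCore p G)) (u * n) = (QuotientGroup.mk' (pCore p G)) n := by
        rw [map_mul]
        have : (QuotientGroup.mk' (pCore p G)) u = 1 := (QuotientGroup.eq_one_iff u).mpr hu
        rw [this, one_mul]
      rw [h1, ← map_inv, ← map_mul, ← map_mul]
      exact ⟨n * b * n⁻¹, (Subgroup.mem_normalizer_iff.mp (hNB hn) b).mp hb, rfl⟩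
    have hBmnil : Group.IsNilpotent (B.map (QuotientGroup.mk' (pCore p G))) :=
      Cfsg.Agent.Lib.Helper2.Schmidt.isNilpotent_map _ hBnil
    have hBF : B.map (QuotientGroup.mk' (pCore p G)) ≤ fittingSubgroup (G ⧸ pCore p G) :=
      le_fittingSubgroup hBmn hBmnil
    intro b hb
    exact key b (hBN hb) (hBF ⟨b, hb, rfl⟩)
  · intro n hn hnc
    apply key n hn
    apply hFbc
    rw [Subgroup.mem_centralizer_iff]
    intro h hh
    rw [← hAmap] at hh
    obtain ⟨a, ha, rfl⟩ := hh
    rw [← map_mul, ← map_mul, hnc a ha]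

end Cfsg.Agent.Lib.Helper4.CNSolv
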