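import Mathlib
import Cfsg.Agent.Lib.Helper4.CNSolv4
import Cfsg.Agent.Lib.Helper2.Basic

set_option autoImplicit false

/-! Solvable CN-groups with `F(G) = O_p(G)`: Frobenius group or three-step group. -/

namespace Cfsg.Agent.Lib.Helper4.CNSolv

open Cfsg Cfsg.Agent.Lib.Lead Cfsg.Agent.Lib.Helper7 Cfsg.Agent.Lib.Helper4

variable {G : Type*} [Group G] [Finite G]

/-- commutators of elements normalizing a cyclic subgroup centralize it -/
theorem comm_centralizes_cyclic {A : Subgroup G} (hA : IsCyclic A) {n m : G}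
    (hn : n ∈ Subgroup.normalizer (A : Set G)) (hm : m ∈ Subgroup.normalizer (A : Set G)) :
    ∀ a ∈ A, ((m * n)⁻¹ * (n * m)) * a = a * ((m * n)⁻¹ * (n * m)) := by
  obtain ⟨⟨g, hgA⟩, hg⟩ := hA.exists_generator
  have hpow : ∀ a ∈ A, ∃ k : ℤ, g ^ k = a := by
    intro a ha
    obtain ⟨k, hk⟩ := Subgroup.mem_zpowers_iff.mp (hg ⟨a, ha⟩)
    exact ⟨k, by simpa using congrArg Subtype.val hk⟩
  obtain ⟨i, hi⟩ := hpow (n * g * n⁻¹) ((Subgroup.mem_normalizer_iff.mp hn g).mp hgA)
  obtain ⟨j, hj⟩ := hpow (m * g * m⁻¹) ((Subgroup.mem_normalizer_iff.mp hm g).mp hgA)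
  have hi' : MulAut.conj n g = g ^ i := by rw [MulAut.conj_apply, hi]
  have hj' : MulAut.conj m g = g ^ j := by rw [MulAut.conj_apply, hj]
  have h1 : MulAut.conj (n * m) g = g ^ (i * j) := by
    rw [map_mul, MulAut.mul_apply, hj', map_zpow, hi', ← zpow_mul]
  have h2 : MulAut.conj (m * n) g = g ^ (i * j) := by
    rw [map_mul, MulAut.mul_apply, hi', map_zpow, hj', ← zpow_mul, mul_comm]
  have h3 : (n * m) * g * (n * m)⁻¹ = (m * n) * g * (m * n)⁻¹ := by
    rw [← MulAut.conj_apply, ← MulAut.conj_apply, h1, h2]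
  have h4 : ((m * n)⁻¹ * (n * m)) * g = g * ((m * n)⁻¹ * (n * m)) := by
    calc ((m * n)⁻¹ * (n * m)) * g = (m * n)⁻¹ * ((n * m) * g * (n * m)⁻¹) * (n * m) := by group
      _ = (m * n)⁻¹ * ((m * n) * g * (m * n)⁻¹) * (n * m) := by rw [h3]
      _ = g * ((m * n)⁻¹ * (n * m)) := by group
  intro a ha
  obtain ⟨k, rfl⟩ := hpow a ha
  have hc : Commute ((m * n)⁻¹ * (n * m)) g := h4
  exact (hc.zpow_right k).eq

/-- an element of order dividing two in a group of order two generated by `t` -/
theorem eq_of_mem_zpowers_of_order_two {X : Type*} [Group X] {t g : X} (ht : orderOf t = 2)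
    (hg : g ∈ Subgroup.zpowers t) (hg1 : g ≠ 1) : g = t := by
  obtain ⟨k, rfl⟩ := Subgroup.mem_zpowers_iff.mp hg
  have h1 : t ^ (k % 2) = t ^ k := by
    have := zpow_mod_orderOf t k
    rw [ht] at this
    exact_mod_cast this
  rcases Int.emod_two_eq_zero_or_one k with h | h
  · rw [h, zpow_zero] at h1
    exact absurd h1.symm hg1
  · rw [h, zpow_one] at h1
    exact h1.symm

theorem case_two [Group.IsSolvable G] (hCN : IsCNGroup G) {p : ℕ} [hp : Fact p.Prime]
    (hP1 : pCore p G ≠ ⊥) (hPT : pCore p G ≠ ⊤)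
    (hcP : Subgroup.centralizer (pCore p G : Set G) ≤ pCore p G) :
    (∃ K E : Subgroup G, K.Normal ∧ Subgroup.IsComplement' K E ∧ Cfsg.IsFrobeniusComplement E ∧
        (IsCyclic E ∨ ∃ C Q : Subgroup G, C ⊔ Q = E ∧ (∀ a ∈ C, ∀ b ∈ Q, a * b = b * a) ∧
          IsCyclic C ∧ Odd (Nat.card C) ∧
          ∃ n : ℕ, Nonempty (↥Q ≃* QuaternionGroup (2 ^ n)))) ∨
      Cfsg.IsThreeStepGroup p G := by
  classical
  have hPn : (pCore p G).Normal := inferInstance
  have hPp : IsPGroup p (pCore p G) := pCore_isPGroup p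
  have hfpf : ∀ x : G, x ≠ 1 → (orderOf x).Coprime p →
      pCore p G ⊓ Subgroup.centralizer ({x} : Set G) = ⊥ :=
    fun x hx1 hx => fpf_of_coprime hCN (pCore p G) hPp hP1 hcP x hx1 hx
  obtain ⟨A, N, hA1, hAcop, hAnil, hAN, hNA, hcompl, hLn, hmax, hcent⟩ :=
    exists_A_N hCN hP1 hPT hfpf
  have hnormP : ∀ H : Subgroup G, H ≤ Subgroup.normalizer (pCore p G : Set G) :=
    fun H => Subgroup.le_normalizer_of_normal
  have hPN_bot : pCore p G ⊓ N = ⊥ := hcompl.disjoint.eq_bot
  -- subgroups of order prime to `p` act without fixed points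
  have hfpf' : ∀ H : Subgroup G, (Nat.card H).Coprime p → Fpf H (pCore p G) := by
    intro H hH a ha ha1
    apply hfpf a ha1
    exact Nat.Coprime.coprime_dvd_left (Subgroup.orderOf_dvd_natCard _ ha) hH
  -- nontrivial subgroups of order prime to `p` are nilpotent
  have hnil' : ∀ H : Subgroup G, (Nat.card H).Coprime p → Group.IsNilpotent H := by
    intro H hH
    by_cases hH1 : H = ⊥
    · rw [hH1]; infer_instance
    obtain ⟨z, hzH, hz1, hzc⟩ := exists_central_of_fpf (hnormP H) hP1 hH1 (hfpf' H hH)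
    apply isNilpotent_of_le (hCN z hz1)
    intro a ha
    exact Subgroup.mem_centralizer_singleton_iff.mpr (hzc a ha)
  have hN1 : N ≠ ⊥ := by
    intro h0
    apply hA1
    rw [eq_bot_iff, ← h0]; exact hAN
  by_cases hpN : p ∣ Nat.card N
  swap
  · -- Frobenius group
    left
    have hNcop : (Nat.card N).Coprime p :=
      ((Nat.Prime.coprime_iff_not_dvd hp.out).mpr hpN).symm
    have hNfpf := hfpf' N hNcop
    have hFrob := isFrobeniusComplement_of_fpf hPn hcompl hP1 hPT hNfpf
    exact ⟨pCore p G, N, hPn, hcompl, hFrob,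
      nilpotent_fpf_structure hP1 (hnormP N) hNfpf (hnil' N hNcop)⟩
  · -- three-step group
    right
    have hAfpf := hfpf' A hAcop
    -- if `N` is nilpotent we get a contradiction
    have hNnn : ¬ Group.IsNilpotent N := by
      intro hNnil
      have h1 : N ≤ A := hmax N le_rfl Subgroup.le_normalizer hNnil
      have h2 : Nat.card N ∣ Nat.card A := Subgroup.card_dvd_of_le h1
      have h3 : p ∣ Nat.card A := hpN.trans h2
      exact ((Nat.Prime.coprime_iff_not_dvd hp.out).mp hAcop.symm) h3
    -- `A` has odd order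
    have hAodd : Odd (Nat.card A) := by
      rw [← Nat.not_even_iff_odd]
      intro heven
      haveI : Fact (Nat.Prime 2) := ⟨Nat.prime_two⟩
      obtain ⟨T, -, hT⟩ := exists_sylIn_ge (p := 2) (bot_le : (⊥ : Subgroup G) ≤ A) IsPGroup.of_bot
      have hTn := sylIn_normal_of_isNilpotent hAnil hT
      have hTu : UniqueOrderP 2 T :=
        uniqueOrderP_of_fpf T (pCore p G) hP1 (hnormP T) (hAfpf.mono hT.1) hT.2.1
      have h2T : 2 ∣ Nat.card T := by
        have h1 := Subgroup.relIndex_mul_relIndex ⊥ T A bot_le hT.1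
        rw [Subgroup.relIndex_bot_left, Subgroup.relIndex_bot_left] at h1
        have h2 : 2 ∣ Nat.card T * T.relIndex A := by rw [h1]; exact even_iff_two_dvd.mp heven
        rcases (Nat.Prime.dvd_mul Nat.prime_two).mp h2 with h | h
        · exact h
        · exact absurd h hT.2.2
      obtain ⟨t', ht'⟩ := exists_prime_orderOf_dvd_card' (G := T) 2 h2T
      have ht1 : (t' : G) ≠ 1 := by
        intro h0
        have : t' = 1 := Subtype.ext h0
        rw [this, orderOf_one] at ht'
        omega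
      have hNt : ∀ n ∈ N, n * (t' : G) = (t' : G) * n := by
        intro n hn
        have hnA := hNA hn
        have hcT : T.map (MulAut.conj n).toMonoidHom ≤ T := by
          apply hT.le_of_normal hTn
          · rintro _ ⟨y, hy, rfl⟩
            exact (Subgroup.mem_normalizer_iff.mp hnA y).mp (hT.1 hy)
          · exact hT.2.1.map _
        have hmem : n * (t' : G) * n⁻¹ ∈ T := hcT ⟨t', t'.2, rfl⟩
        have ht2 : (t' : G) ^ 2 = 1 := by
          have := pow_orderOf_eq_one t'
          rw [ht'] at this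
          exact_mod_cast congrArg Subtype.val this
        have hg2 : (⟨n * t' * n⁻¹, hmem⟩ : T) ^ 2 = 1 := by
          apply Subtype.ext
          show (n * (t' : G) * n⁻¹) ^ 2 = 1
          rw [conj_pow, ht2, mul_one, mul_inv_cancel]
        have hZ : Nat.card (Subgroup.zpowers t') = 2 := by rw [Nat.card_zpowers, ht']
        have hin := hTu.pow_eq_one_mem (Subgroup.zpowers t') hZ _ hg2
        have hne : (⟨n * t' * n⁻¹, hmem⟩ : T) ≠ 1 := by
          intro h0
          have h1 : n * (t' : G) * n⁻¹ = 1 := congrArg Subtype.val h0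
          apply ht1
          calc (t' : G) = n⁻¹ * (n * t' * n⁻¹) * n := by group
            _ = 1 := by rw [h1]; group
        have h4 := eq_of_mem_zpowers_of_order_two ht' hin hne
        have h5 : n * (t' : G) * n⁻¹ = t' := congrArg Subtype.val h4
        calc n * (t' : G) = (n * t' * n⁻¹) * n := by group
          _ = t' * n := by rw [h5]
      apply hNnn
      apply isNilpotent_of_le (hCN (t' : G) ht1)
      intro n hn
      exact Subgroup.mem_centralizer_singleton_iff.mpr (hNt n hn)
    have hAcyc : IsCyclic A := isCyclic_of_nilpotent_fpf_odd hP1 (hnormP A) hAfpf hAnil hAodd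
    have hcomm : ∀ n ∈ N, ∀ m ∈ N, (m * n)⁻¹ * (n * m) ∈ A := by
      intro n hn m hm
      apply hcent _ (N.mul_mem (N.inv_mem (N.mul_mem hm hn)) (N.mul_mem hn hm))
      exact comm_centralizes_cyclic hAcyc (hNA hn) (hNA hm)
    -- `p'`-elements of `N` lie in `A`
    have hpA : ∀ y ∈ N, (orderOf y).Coprime p → y ∈ A := by
      intro y hy hyo
      have hYN : Subgroup.zpowers y ≤ N := Subgroup.zpowers_le.mpr hy
      have hBN : A ⊔ Subgroup.zpowers y ≤ N := sup_le hAN hYN
      have hYA : Subgroup.zpowers y ≤ Subgroup.normalizer (A : Set G) := hYN.trans hNA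
      have hBcop : (Nat.card ↥(A ⊔ Subgroup.zpowers y)).Coprime p := by
        have h1 := Cfsg.Agent.Lib.Helper2.card_sup_mul_card_inf (Subgroup.zpowers y) A hYA
        have h2 : Nat.card ↥(A ⊔ Subgroup.zpowers y) ∣
            Nat.card (Subgroup.zpowers y) * Nat.card A := by
          rw [sup_comm, ← h1]; exact Dvd.intro _ rfl
        apply Nat.Coprime.coprime_dvd_left h2
        apply Nat.Coprime.mul_left _ hAcop
        rw [Nat.card_zpowers]; exact hyo
      have hBnil := hnil' _ hBcop
      have hconj : ∀ n ∈ N, ∀ b ∈ A ⊔ Subgroup.zpowers y, n * b * n⁻¹ ∈ A ⊔ Subgroup.zpowers y := by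
        intro n hn b hb
        have h1 := hcomm n⁻¹ (N.inv_mem hn) b⁻¹ (N.inv_mem (hBN hb))
        have h2 : n * b * n⁻¹ = ((b⁻¹ * n⁻¹)⁻¹ * (n⁻¹ * b⁻¹)) * b := by group
        rw [h2]
        exact Subgroup.mul_mem _ (le_sup_left (a := A) h1) hb
      have hNB : N ≤ Subgroup.normalizer ((A ⊔ Subgroup.zpowers y : Subgroup G) : Set G) := by
        intro n hn
        rw [Subgroup.mem_normalizer_iff]
        intro b
        constructor
        · exact hconj n hn b
        · intro h
          have h3 := hconj n⁻¹ (N.inv_mem hn) _ h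
          have h4 : n⁻¹ * (n * b * n⁻¹) * n⁻¹⁻¹ = b := by group
          rwa [h4] at h3
      exact hmax _ hBN hNB hBnil (le_sup_right (a := A) (Subgroup.mem_zpowers y))
    -- the index of `O_p(G) A`
    have hPA : pCore p G ⊓ A = ⊥ := by
      rw [eq_bot_iff, ← hPN_bot]; exact inf_le_inf_left _ hAN
    have hcardL : Nat.card ↥(pCore p G ⊔ A) = Nat.card (pCore p G) * Nat.card A := by
      have h1 := Cfsg.Agent.Lib.Helper2.card_sup_mul_card_inf A (pCore p G) (hnormP A)
      rw [inf_comm, hPA, Subgroup.card_bot, mul_one, sup_comm, mul_comm] at h1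
      exact h1
    have hidx : (pCore p G ⊔ A).index * Nat.card A = Nat.card N := by
      have h1 := (pCore p G ⊔ A).card_mul_index
      have h2 := hcompl.card_mul_card
      rw [hcardL, ← h2] at h1
      have hpos : 0 < Nat.card (pCore p G) := Nat.card_pos
      have h3 : Nat.card (pCore p G) * (Nat.card A * (pCore p G ⊔ A).index) =
          Nat.card (pCore p G) * Nat.card N := by rw [← mul_assoc]; exact h1
      have h4 := Nat.eq_of_mul_eq_mul_left hpos h3
      rw [mul_comm]; exact h4
    have hrel : Nat.card A * A.relIndex N = Nat.card N := by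
      have := Subgroup.relIndex_mul_relIndex ⊥ A N bot_le hAN
      rwa [Subgroup.relIndex_bot_left, Subgroup.relIndex_bot_left] at this
    have hidx' : (pCore p G ⊔ A).index = A.relIndex N := by
      have h1 : Nat.card A * (pCore p G ⊔ A).index = Nat.card A * A.relIndex N := by
        rw [hrel, mul_comm, hidx]
      exact Nat.eq_of_mul_eq_mul_left Nat.card_pos h1
    have hpow : ∃ n : ℕ, (pCore p G ⊔ A).index = p ^ n := by
      rw [hidx']
      refine ⟨_, Nat.eq_prime_pow_of_unique_prime_dvd ?_ ?_⟩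
      · intro h0
        rw [h0, mul_zero] at hrel
        exact (Nat.card_pos (α := N)).ne hrel
      · intro q hq hqd
        by_contra hqp
        haveI : Fact q.Prime := ⟨hq⟩
        obtain ⟨Y, -, hY⟩ := exists_sylIn_ge (p := q) (bot_le : (⊥ : Subgroup G) ≤ N)
          IsPGroup.of_bot
        have hYA : Y ≤ A := by
          intro y hy
          exact hpA y (hY.1 hy) (coprime_of_mem_sylIn hq hp.out hqp hY.2.1 hy)
        exact hY.2.2 (hqd.trans (Subgroup.relIndex_dvd_of_le_left N hYA))
    have hLT : pCore p G ⊔ A ≠ ⊤ := by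
      intro h0
      rw [h0, Subgroup.index_top, one_mul] at hidx
      rw [← hidx] at hpN
      exact ((Nat.Prime.coprime_iff_not_dvd hp.out).mp hAcop.symm) hpN
    have hlast : ∀ x : G, x ∉ pCore p G ⊔ A → ∀ a ∈ A, a ≠ 1 →
        x * a * x⁻¹ * a⁻¹ ∉ pCore p G := by
      intro x hx a ha ha1 hmem
      obtain ⟨⟨⟨u, hu⟩, ⟨n, hn⟩⟩, hun⟩ := hcompl.2 x
      simp only at hun
      have hnA : n * a * n⁻¹ ∈ A := (Subgroup.mem_normalizer_iff.mp (hNA hn) a).mp ha
      have h1 : n * a * n⁻¹ * a⁻¹ ∈ pCore p G ⊓ N := by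
        refine ⟨?_, N.mul_mem (hAN hnA) (N.inv_mem (hAN ha))⟩
        have h2 : n * a * n⁻¹ * a⁻¹ = u⁻¹ * (x * a * x⁻¹ * a⁻¹) * (a * u * a⁻¹) := by
          rw [← hun]; group
        rw [h2]
        exact (pCore p G).mul_mem ((pCore p G).mul_mem ((pCore p G).inv_mem hu) hmem)
          (hPn.conj_mem u hu a)
      rw [hPN_bot, Subgroup.mem_bot] at h1
      have hna : n * a = a * n := by
        calc n * a = (n * a * n⁻¹ * a⁻¹) * (a * n) := by group
          _ = a * n := by rw [h1, one_mul]
      have hAD : A ≤ Subgroup.centralizer ({a} : Set G) ⊓ N := by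
        refine le_inf ?_ hAN
        intro b hb
        apply Subgroup.mem_centralizer_singleton_iff.mpr
        have := hAcyc
        have h3 := (IsCyclic.commGroup (α := A)).mul_comm ⟨b, hb⟩ ⟨a, ha⟩
        exact congrArg Subtype.val h3
      have hD : Subgroup.centralizer ({a} : Set G) ⊓ N ≤ A := by
        apply le_of_forall_sylIn_le hAD
        intro q hq
        haveI : Fact q.Prime := ⟨hq⟩
        obtain ⟨Q, -, hQ⟩ := exists_sylIn_ge (p := q)
          (bot_le : (⊥ : Subgroup G) ≤ Subgroup.centralizer ({a} : Set G) ⊓ N) IsPGroup.of_bot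
        refine ⟨Q, hQ, ?_⟩
        intro w hw
        have hwD := hQ.1 hw
        by_cases hqp : q = p
        · apply hcent w hwD.2
          intro b hb
          have hQp : IsPGroup p Q := hqp ▸ hQ.2.1
          have hwp : IsPGroup p (Subgroup.zpowers w) := isPGroup_zpowers_of_mem hQp hw
          have hbo : (orderOf b).Coprime p :=
            Nat.Coprime.coprime_dvd_left (Subgroup.orderOf_dvd_natCard _ hb) hAcop
          exact commute_of_isNilpotent (hCN a ha1) hwD.1 (hAD hb).1 hwp hbo
        · exact hpA w hwD.2 (coprime_of_mem_sylIn hq hp.out hqp hQ.2.1 hw)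
      have hnA' : n ∈ A := hD ⟨Subgroup.mem_centralizer_singleton_iff.mpr hna, hn⟩
      apply hx
      rw [← hun]
      exact Subgroup.mul_mem _ (le_sup_left (a := pCore p G) hu) (le_sup_right (a := pCore p G) hnA')
    exact ⟨hP1, A, hA1, hAcyc, hAodd, hAcop, hLn, hLT, hpow,
      fun a ha ha1 => hAfpf a ha ha1, hlast⟩

end Cfsg.Agent.Lib.Helper4.CNSolv
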