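import Mathlib
import Cfsg.Prelude.Def_OddOrderLocal
import Cfsg.Agent.Lib.Helper2.NilpHall
import Cfsg.Agent.Lib.Lead.FrobConj1
import Cfsg.Agent.Lib.Lead.Core
import Cfsg.Agent.S0042
import Cfsg.Agent.S1476

set_option autoImplicit false
open Pointwise

/-! Three-step groups: general facts, and reduction to a prime. -/

namespace Cfsg.Agent.Lib.Helper4.ThreeStep

open Cfsg Cfsg.Agent.Lib.Lead

universe u

variable {X : Type u} [Group X]

/-- the data of a three-step group, unpacked -/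
structure Data (p : ℕ) (A : Subgroup X) : Prop where
  core_ne : pCore p X ≠ ⊥
  ne : A ≠ ⊥
  cyc : IsCyclic A
  cop : (Nat.card A).Coprime p
  normal : (pCore p X ⊔ A).Normal
  ne_top : pCore p X ⊔ A ≠ ⊤
  index : ∃ n : ℕ, (pCore p X ⊔ A).index = p ^ n
  fpf : ∀ a ∈ A, a ≠ 1 → pCore p X ⊓ Subgroup.centralizer ({a} : Set X) = ⊥
  last : ∀ x : X, x ∉ pCore p X ⊔ A → ∀ a ∈ A, a ≠ 1 → x * a * x⁻¹ * a⁻¹ ∉ pCore p X

theorem exists_data {p : ℕ} (h : IsThreeStepGroup p X) : ∃ A : Subgroup X, Data p A := by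
  obtain ⟨h1, A, h2, h3, -, h5, h6, h7, h8, h9, h10⟩ := h
  exact ⟨A, ⟨h1, h2, h3, h5, h6, h7, h8, h9, h10⟩⟩

namespace Data

variable {p : ℕ} {A : Subgroup X}

theorem mem_sup_iff (d : Data p A) {x : X} :
    x ∈ pCore p X ⊔ A ↔ ∃ u ∈ pCore p X, ∃ a ∈ A, x = u * a := by
  rw [← SetLike.mem_coe, Subgroup.normal_mul, Set.mem_mul]
  constructor
  · rintro ⟨u, hu, a, ha, rfl⟩
    exact ⟨u, hu, a, ha, rfl⟩
  · rintro ⟨u, hu, a, ha, rfl⟩
    exact ⟨u, hu, a, ha, rfl⟩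

theorem exists_ne_one (d : Data p A) : ∃ a ∈ A, a ≠ 1 := by
  by_contra hcon
  push Not at hcon
  exact d.ne ((Subgroup.eq_bot_iff_forall _).mpr hcon)

theorem exists_not_mem (d : Data p A) : ∃ x : X, x ∉ pCore p X ⊔ A := by
  by_contra hcon
  push Not at hcon
  exact d.ne_top ((Subgroup.eq_top_iff' _).mpr hcon)

theorem coprime_card [Finite X] (d : Data p A) {a : X} (ha : a ∈ A) :
    (Nat.card (Subgroup.zpowers a)).Coprime (Nat.card (pCore p X)) := by
  by_contra hcon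
  obtain ⟨q, hq, hqd⟩ := Nat.exists_prime_and_dvd hcon
  haveI : Fact q.Prime := ⟨hq⟩
  have h1 : q ∣ Nat.card (Subgroup.zpowers a) := hqd.trans (Nat.gcd_dvd_left _ _)
  have h2 : q ∣ Nat.card (pCore p X) := hqd.trans (Nat.gcd_dvd_right _ _)
  have h3 : q ∣ Nat.card A :=
    h1.trans (Subgroup.card_dvd_of_le (Subgroup.zpowers_le.mpr ha))
  obtain ⟨g, hg⟩ := exists_prime_orderOf_dvd_card' q h2
  obtain ⟨k, hk⟩ := pCore_isPGroup (G := X) p g
  have h4 : q ∣ p ^ k := by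
    rw [← hg]; exact orderOf_dvd_of_pow_eq_one hk
  have h5 : q ∣ p := hq.dvd_of_dvd_pow h4
  have h6 : q ∣ Nat.gcd (Nat.card A) p := Nat.dvd_gcd h3 h5
  rw [d.cop] at h6
  exact hq.one_lt.ne' (Nat.dvd_one.mp h6)

/-- a nontrivial element of `A` lies in no nilpotent subgroup containing the `p`-core -/
theorem false_of_nilpotent [Finite X] (d : Data p A) {K : Subgroup X} (hK : Group.IsNilpotent K)
    (hP : pCore p X ≤ K) {a : X} (ha : a ∈ A) (ha1 : a ≠ 1) (haK : a ∈ K) : False := by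
  have h1 : ⁅pCore p X, Subgroup.zpowers a⁆ = ⊥ := by
    apply Cfsg.Agent.Lib.Helper2.NilpHall.commutator_eq_bot_of_nilpotent_coprime K _ _ hP
      (Subgroup.zpowers_le.mpr haK)
    · rw [Subgroup.normalizer_eq_top]; exact le_top
    · exact d.coprime_card ha
  rw [Subgroup.commutator_eq_bot_iff_le_centralizer] at h1
  obtain ⟨u, hu, hu1⟩ : ∃ u ∈ pCore p X, u ≠ 1 := by
    by_contra hcon
    push Not at hcon
    exact d.core_ne ((Subgroup.eq_bot_iff_forall _).mpr hcon)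
  have h2 := h1 hu
  rw [Subgroup.mem_centralizer_iff] at h2
  have h3 : u ∈ pCore p X ⊓ Subgroup.centralizer ({a} : Set X) := by
    refine ⟨hu, ?_⟩
    apply Subgroup.mem_centralizer_singleton_iff.mpr
    exact (h2 a (Subgroup.mem_zpowers a)).symm
  rw [d.fpf a ha ha1, Subgroup.mem_bot] at h3
  exact hu1 h3

theorem not_isNilpotent [Finite X] (d : Data p A) : ¬ Group.IsNilpotent X := by
  intro hn
  obtain ⟨a, ha, ha1⟩ := d.exists_ne_one
  have := hn
  exact d.false_of_nilpotent (K := ⊤) inferInstance le_top ha ha1 (Subgroup.mem_top _)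

end Data

/-- in a group of odd order, the complement of `S1476` is cyclic -/
theorem isCyclic_of_odd [Finite X] (hodd : Odd (Nat.card X)) {E : Subgroup X}
    (h : IsCyclic E ∨ ∃ C Q : Subgroup X, C ⊔ Q = E ∧ (∀ a ∈ C, ∀ b ∈ Q, a * b = b * a) ∧
      IsCyclic C ∧ Odd (Nat.card C) ∧ ∃ n : ℕ, Nonempty (↥Q ≃* QuaternionGroup (2 ^ n))) :
    IsCyclic E := by
  rcases h with h | ⟨C, Q, -, -, -, -, n, ⟨e⟩⟩
  · exact h
  · exfalso
    have h1 : Nat.card Q = 4 * 2 ^ n := by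
      rw [Nat.card_congr e.toEquiv, Nat.card_eq_fintype_card]
      haveI : NeZero (2 ^ n) := ⟨by positivity⟩
      exact QuaternionGroup.card
    have h2 : Nat.card Q ∣ Nat.card X := Subgroup.card_subgroup_dvd_card Q
    rw [h1] at h2
    have h3 : 2 ∣ Nat.card X := (Dvd.intro (2 * 2 ^ n) (by ring)).trans h2
    rcases hodd with ⟨m, hm⟩
    omega

end Cfsg.Agent.Lib.Helper4.ThreeStep
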