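import Mathlib
import Cfsg.Agent.Lib.Helper4.ThreeStep1

set_option autoImplicit false
open Pointwise

/-! Three-step groups: exclusion of the Frobenius case, reduction to a prime. -/

namespace Cfsg.Agent.Lib.Helper4.ThreeStep

open Cfsg Cfsg.Agent.Lib.Lead

universe u

variable {X : Type u} [Group X]

/-- the quotient of a Frobenius group with abelian complement by its kernel is abelian -/
theorem comm_mem_kernel {E K : Subgroup X} (h : FrobData E K)
    (hE : ∀ a ∈ E, ∀ b ∈ E, a * b = b * a) (x y : X) : x * y * x⁻¹ * y⁻¹ ∈ K := by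
  have hKn := h.normal
  obtain ⟨⟨⟨k₁, hk₁⟩, ⟨e₁, he₁⟩⟩, hx⟩ := h.compl.2 x
  obtain ⟨⟨⟨k₂, hk₂⟩, ⟨e₂, he₂⟩⟩, hy⟩ := h.compl.2 y
  simp only at hx hy
  rw [← QuotientGroup.eq_one_iff]
  have h1 : (QuotientGroup.mk x : X ⧸ K) = QuotientGroup.mk e₁ := by
    rw [← hx, QuotientGroup.mk_mul, (QuotientGroup.eq_one_iff k₁).mpr hk₁, one_mul]
  have h2 : (QuotientGroup.mk y : X ⧸ K) = QuotientGroup.mk e₂ := by
    rw [← hy, QuotientGroup.mk_mul, (QuotientGroup.eq_one_iff k₂).mpr hk₂, one_mul]
  rw [QuotientGroup.mk_mul, QuotientGroup.mk_mul, QuotientGroup.mk_mul, QuotientGroup.mk_inv,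
    QuotientGroup.mk_inv, h1, h2, ← QuotientGroup.mk_inv, ← QuotientGroup.mk_inv,
    ← QuotientGroup.mk_mul, ← QuotientGroup.mk_mul, ← QuotientGroup.mk_mul, hE e₁ he₁ e₂ he₂]
  have : e₂ * e₁ * e₁⁻¹ * e₂⁻¹ = 1 := by group
  rw [this]
  rfl

theorem frobData_isNilpotent [Finite X] {E K : Subgroup X} (h : FrobData E K) :
    Group.IsNilpotent K := by
  obtain ⟨N, hN, -, hnil⟩ := Cfsg.Agent.S0042.result E h.frob
  have : N = K := SetLike.coe_injective (hN.trans h.coe_eq.symm)
  rw [← this]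
  exact hnil

namespace Data

variable {p : ℕ} {A : Subgroup X}

/-- a three-step group is not a Frobenius group with abelian complement -/
theorem false_of_frobenius [Finite X] (d : Data p A) {E : Subgroup X}
    (hF : IsFrobeniusComplement E) (hE : ∀ a ∈ E, ∀ b ∈ E, a * b = b * a) : False := by
  obtain ⟨K, h⟩ := exists_frobData hF
  have hnil := frobData_isNilpotent h
  have hLn := d.normal
  obtain ⟨a, ha, ha1⟩ := d.exists_ne_one
  by_cases hKP : K ≤ pCore p X
  · obtain ⟨x, hx⟩ := d.exists_not_mem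
    exact d.last x hx a ha ha1 (hKP (comm_mem_kernel h hE x a))
  · have hPK : pCore p X ≤ K := by
      rcases h.le_or_le (pCore p X) with h1 | h1
      · exact h1
      · exact absurd h1 hKP
    rcases h.le_or_le (pCore p X ⊔ A) with h1 | h1
    · exact d.false_of_nilpotent hnil hPK ha ha1 (h1 (le_sup_right (a := pCore p X) ha))
    · obtain ⟨k, hk, hkP⟩ := SetLike.not_le_iff_exists.mp hKP
      obtain ⟨u, hu, b, hb, hkub⟩ := d.mem_sup_iff.mp (h1 hk)
      have hb1 : b ≠ 1 := by
        intro h0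
        apply hkP
        rw [hkub, h0, mul_one]; exact hu
      have hbK : b ∈ K := by
        have : b = u⁻¹ * k := by rw [hkub]; group
        rw [this]
        exact K.mul_mem (K.inv_mem (hPK hu)) hk
      exact d.false_of_nilpotent hnil hPK hb hb1 hbK

end Data

/-- reduction to a prime -/
theorem exists_prime [Finite X] [Group.IsSolvable X] (hCN : IsCNGroup X) (hodd : Odd (Nat.card X))
    {p : ℕ} (h : IsThreeStepGroup p X) : ∃ r : ℕ, r.Prime ∧ IsThreeStepGroup r X := by
  obtain ⟨A, d⟩ := exists_data h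
  rcases Cfsg.Agent.S1476.result hCN with h1 | ⟨K, E, -, -, hF, hE⟩ | h1
  · exact absurd h1 d.not_isNilpotent
  · exfalso
    have hcyc := isCyclic_of_odd hodd hE
    apply d.false_of_frobenius hF
    intro a ha b hb
    have := (IsCyclic.commutative (α := ↥E)).is_comm.comm ⟨a, ha⟩ ⟨b, hb⟩
    exact congrArg Subtype.val this
  · exact h1

end Cfsg.Agent.Lib.Helper4.ThreeStep
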