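import Mathlib
import Cfsg.Agent.Lib.Helper4.ThreeStep2
import Cfsg.Agent.Lib.Helper4.CNSolv5
import Cfsg.Agent.S0044

set_option autoImplicit false
open Pointwise

/-! Three-step groups for a prime: structure. -/

namespace Cfsg.Agent.Lib.Helper4.ThreeStep

open Cfsg Cfsg.Agent.Lib.Lead

universe u

variable {X : Type u} [Group X]

namespace Data

variable {p : ℕ} {A : Subgroup X}

/-- the Fitting subgroup of a three-step group is its `p`-core -/
theorem fitting_le [Finite X] [hp : Fact p.Prime] (d : Data p A) :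
    fittingSubgroup X ≤ pCore p X := by
  have hFn : (fittingSubgroup X).Normal := fittingSubgroup_normal
  have hFnil : Group.IsNilpotent (fittingSubgroup X) := fittingSubgroup_isNilpotent
  have hPF : pCore p X ≤ fittingSubgroup X :=
    le_fittingSubgroup inferInstance (pCore_isPGroup (G := X) p).isNilpotent
  have hLn := d.normal
  obtain ⟨n, hn⟩ := d.index
  apply le_pCore hFn
  intro ⟨y, hy⟩
  have h1 : y ^ (p ^ n) ∈ pCore p X ⊔ A := by
    rw [← hn]; exact Subgroup.pow_index_mem _ y
  obtain ⟨u, hu, a, ha, hua⟩ := d.mem_sup_iff.mp h1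
  have haF : a ∈ fittingSubgroup X := by
    have : a = u⁻¹ * y ^ (p ^ n) := by rw [hua]; group
    rw [this]
    exact Subgroup.mul_mem _ (Subgroup.inv_mem _ (hPF hu)) (Subgroup.pow_mem _ hy _)
  have ha1 : a = 1 := by
    by_contra ha1
    exact d.false_of_nilpotent hFnil hPF ha ha1 haF
  rw [ha1, mul_one] at hua
  obtain ⟨k, hk⟩ := pCore_isPGroup (G := X) p ⟨u, hu⟩
  refine ⟨n + k, ?_⟩
  apply Subtype.ext
  have hk' : u ^ (p ^ k) = 1 := by simpa using congrArg Subtype.val hk
  simp only [Subgroup.coe_pow, Subgroup.coe_one]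
  rw [pow_add, pow_mul, hua, hk']

theorem normal_nilpotent_le [Finite X] [hp : Fact p.Prime] (d : Data p A) {M : Subgroup X}
    (hM : M.Normal) (hnil : Group.IsNilpotent M) : M ≤ pCore p X :=
  (le_fittingSubgroup hM hnil).trans d.fitting_le

theorem centralizer_le [Finite X] [Group.IsSolvable X] [hp : Fact p.Prime] (d : Data p A) :
    Subgroup.centralizer (pCore p X : Set X) ≤ pCore p X := by
  have hPF : pCore p X ≤ fittingSubgroup X :=
    le_fittingSubgroup inferInstance (pCore_isPGroup (G := X) p).isNilpotent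
  have h1 : fittingSubgroup X = pCore p X := le_antisymm d.fitting_le hPF
  rw [← h1]
  exact Cfsg.Agent.S0044.result

/-- no normal nilpotent subgroup contains all commutators -/
theorem false_of_comm_nilpotent [Finite X] [hp : Fact p.Prime] (d : Data p A) {M : Subgroup X}
    (hM : M.Normal) (hnil : Group.IsNilpotent M) (hc : ∀ x y : X, x * y * x⁻¹ * y⁻¹ ∈ M) : False := by
  obtain ⟨a, ha, ha1⟩ := d.exists_ne_one
  obtain ⟨x, hx⟩ := d.exists_not_mem
  exact d.last x hx a ha ha1 (d.normal_nilpotent_le hM hnil (hc x a))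

/-- all commutators lie in `O_p(X) A` -/
theorem comm_mem [Finite X] (d : Data p A) (x y : X) : x * y * x⁻¹ * y⁻¹ ∈ pCore p X ⊔ A := by
  have hLn := d.normal
  set Q := X ⧸ pCore p X
  set π : X →* Q := QuotientGroup.mk' (pCore p X) with hπ
  set Ab : Subgroup Q := A.map π with hAb
  have hAbc : IsCyclic Ab := by
    haveI := d.cyc
    exact isCyclic_of_surjective (π.subgroupMap A) (π.subgroupMap_surjective A)
  have hLmap : (pCore p X ⊔ A).map π = Ab := by
    rw [Subgroup.map_sup, hπ, QuotientGroup.map_mk'_self, bot_sup_eq]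
  have hAbn : Ab.Normal := by
    rw [← hLmap]
    exact Subgroup.Normal.map hLn π (QuotientGroup.mk'_surjective _)
  have hnorm : ∀ q : Q, q ∈ Subgroup.normalizer (Ab : Set Q) := by
    intro q
    rw [Subgroup.normalizer_eq_top_iff.mpr hAbn]; trivial
  have key := CNSolv.comm_centralizes_cyclic hAbc (hnorm (π x⁻¹)) (hnorm (π y⁻¹))
  by_contra hcon
  obtain ⟨a, ha, ha1⟩ := d.exists_ne_one
  apply d.last _ hcon a ha ha1
  have h1 := key (π a) (Subgroup.mem_map_of_mem π ha)
  have h2 : (π y⁻¹ * π x⁻¹)⁻¹ * (π x⁻¹ * π y⁻¹) = π (x * y * x⁻¹ * y⁻¹) := by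
    rw [← map_mul, ← map_mul, ← map_inv, ← map_mul]
    congr 1
    group
  rw [h2, ← map_mul, ← map_mul] at h1
  have h3 : π (x * y * x⁻¹ * y⁻¹ * a * (x * y * x⁻¹ * y⁻¹)⁻¹ * a⁻¹) = 1 := by
    rw [map_mul, map_mul, h1, map_inv, map_inv, map_mul]
    group
  rw [hπ, QuotientGroup.mk'_apply, QuotientGroup.eq_one_iff] at h3
  exact h3

/-- a Sylow `p`-subgroup does not lie in `O_p(X) A` -/
theorem not_sylow_le [Finite X] [hp : Fact p.Prime] (d : Data p A) (S : Sylow p X) :
    ¬ (S : Subgroup X) ≤ pCore p X ⊔ A := by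
  intro hle
  obtain ⟨n, hn⟩ := d.index
  have h1 : (pCore p X ⊔ A).index ∣ (S : Subgroup X).index := Subgroup.index_dvd_of_le hle
  have h2 : ¬ p ∣ (S : Subgroup X).index := S.not_dvd_index
  have h3 : n = 0 := by
    by_contra h0
    apply h2
    apply Dvd.dvd.trans _ h1
    rw [hn]
    exact dvd_pow_self p h0
  rw [h3, pow_zero] at hn
  exact d.ne_top (Subgroup.index_eq_one.mp hn)

end Data

end Cfsg.Agent.Lib.Helper4.ThreeStep
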