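import Mathlib
import Cfsg.Agent.Lib.Helper4.ThreeStep3
import Cfsg.Agent.Lib.Helper4.TransferControl
import Cfsg.Agent.Lib.Lead.ZJFun
import Cfsg.Agent.Lib.Lead.OddStable
import Cfsg.Agent.S1969
import Cfsg.Agent.S0664

set_option autoImplicit false
open Pointwise

/-! `Z(J)` in groups of odd order. -/

namespace Cfsg.Agent.Lib.Helper4.ThreeStep

open Cfsg Cfsg.Agent.Lib.Lead Cfsg.Agent.Lib.Lead.ZJFun Cfsg.Agent.Lib.Helper7

universe u

section
variable {X G : Type u} [Group X] [Group G]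

theorem centerThompsonAOf_map (f : X →* G) (hf : Function.Injective f) (T : Subgroup X) :
    centerThompsonAOf (T.map f) = (centerThompsonAOf T).map f := by
  rw [← inducedFunctor_WZJ, ← inducedFunctor_WZJ]
  unfold inducedFunctor
  set φ : ↥T ≃* ↥(T.map f) := T.equivMapOfInjective f hf with hφ
  rw [← map_WZJ φ, Subgroup.map_map, Subgroup.map_map]
  congr 1

theorem mem_normalizer_of_map_conj_eq {P : Subgroup G} {g : G}
    (h : P.map (MulAut.conj g).toMonoidHom = P) : g ∈ Subgroup.normalizer (P : Set G) := by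
  rw [Subgroup.mem_normalizer_iff]
  intro x
  constructor
  · intro hx
    rw [← h]
    exact ⟨x, hx, rfl⟩
  · intro hx
    rw [← h] at hx
    obtain ⟨y, hy, hyx⟩ := hx
    have : y = x := by
      have h1 : g * y * g⁻¹ = g * x * g⁻¹ := hyx
      have h2 : y = g⁻¹ * (g * y * g⁻¹) * g := by group
      rw [h2, h1]; group
    rw [← this]; exact hy

theorem map_conj_eq_of_mem_normalizer {P : Subgroup G} {g : G}
    (h : g ∈ Subgroup.normalizer (P : Set G)) : P.map (MulAut.conj g).toMonoidHom = P := by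
  rw [Subgroup.mem_normalizer_iff] at h
  ext x
  constructor
  · rintro ⟨y, hy, rfl⟩
    exact (h y).mp hy
  · intro hx
    refine ⟨g⁻¹ * x * g, ?_, ?_⟩
    · apply (h _).mpr
      have : g * (g⁻¹ * x * g) * g⁻¹ = x := by group
      rw [this]; exact hx
    · show g * (g⁻¹ * x * g) * g⁻¹ = x
      group

variable [Finite G] {p : ℕ} [hp : Fact p.Prime]

theorem isConjugacyFunctor_zj :
    IsConjugacyFunctor p (fun P : Subgroup G => centerThompsonAOf P) := by
  have h := isConjugacyFunctor_inducedFunctor (X := G) (isCharPFunctor_WZJ p)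
  have e : (inducedFunctor (G := G) WZJ) = fun P : Subgroup G => centerThompsonAOf P := by
    funext P; exact inducedFunctor_WZJ P
  rw [e] at h
  exact h

theorem normalizer_le_normalizer_zj {P : Subgroup G} (hP : IsPGroup p P) :
    Subgroup.normalizer (P : Set G) ≤ Subgroup.normalizer (centerThompsonAOf P : Set G) := by
  intro g hg
  have h1 := (isConjugacyFunctor_zj (G := G) (p := p) P hP).2.2 g
  simp only at h1
  rw [map_conj_eq_of_mem_normalizer hg] at h1
  exact mem_normalizer_of_map_conj_eq h1.symm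

theorem zj_le {P : Subgroup G} (hP : IsPGroup p P) : centerThompsonAOf P ≤ P :=
  (isConjugacyFunctor_zj (G := G) (p := p) P hP).1

theorem zj_ne_bot {P : Subgroup G} (hP : IsPGroup p P) (h : P ≠ ⊥) : centerThompsonAOf P ≠ ⊥ :=
  (isConjugacyFunctor_zj (G := G) (p := p) P hP).2.1 h

/-- no section of a group of odd order is `Qd(p)` -/
theorem not_qd_of_odd (hodd : Odd (Nat.card G)) (hp2 : p ≠ 2) :
    ¬ ∃ (K R : Subgroup G) (hR : (R.subgroupOf K).Normal),
      Nonempty ((K ⧸ R.subgroupOf K) ≃* ↥(Cfsg.qd p)) := by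
  rintro ⟨K, R, hR, ⟨e⟩⟩
  have h1 : 2 ∣ Nat.card (K ⧸ R.subgroupOf K) := by
    rw [Nat.card_congr e.toEquiv]; exact OddStable.two_dvd_card_qd hp2
  have h2 : Nat.card (K ⧸ R.subgroupOf K) ∣ Nat.card K := Subgroup.card_quotient_dvd_card _
  have h3 : Nat.card K ∣ Nat.card G := Subgroup.card_subgroup_dvd_card K
  have h4 : 2 ∣ Nat.card G := h1.trans (h2.trans h3)
  rcases hodd with ⟨m, hm⟩
  omega

/-- in a group of odd order, `N(Z(J(T)))` controls fusion of elements in a Sylow subgroup `T` -/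
theorem zj_controls_of_odd (hodd : Odd (Nat.card G)) (hp2 : p ≠ 2) (T : Sylow p G) {a u : G}
    (ha : a ∈ (T : Subgroup G)) (hu : u * a * u⁻¹ ∈ (T : Subgroup G)) :
    ∃ x ∈ Subgroup.normalizer (centerThompsonAOf (T : Subgroup G) : Set G),
      x * a * x⁻¹ = u * a * u⁻¹ := by
  have h𝓦 : ∀ W' ∈ ({WZJ} : Set (∀ (Q : Type u) [Group Q], Subgroup Q)),
      Cfsg.IsCharPFunctor.{u} p W' := by
    intro W' hW'
    rw [Set.mem_singleton_iff.mp hW']; exact isCharPFunctor_WZJ p
  have hloc' : ∀ (K R : Subgroup G) [hR : (R.subgroupOf K).Normal],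
      Subgroup.centralizer ((Cfsg.pCore p (↥K ⧸ R.subgroupOf K) : Subgroup (↥K ⧸ R.subgroupOf K)) :
        Set (↥K ⧸ R.subgroupOf K)) ≤ Cfsg.pCore p (↥K ⧸ R.subgroupOf K) →
      Cfsg.FamilyControlsStrongFusionIn p (indFam {WZJ} (↥K ⧸ R.subgroupOf K)) ⊤ := by
    intro K R hR hc
    obtain ⟨T'⟩ : Nonempty (Sylow p (↥K ⧸ R.subgroupOf K)) := inferInstance
    apply fcsf_top_of_reach T'
    intro A h hA hhA
    apply Reach.single hA ?_ hhA
    refine ⟨Cfsg.inducedFunctor WZJ, ⟨WZJ, rfl, rfl⟩, ⟨Subgroup.mem_top _, ?_⟩⟩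
    have hodd' : Odd (Nat.card (↥K ⧸ R.subgroupOf K)) := by
      have h2 : Nat.card (K ⧸ R.subgroupOf K) ∣ Nat.card K := Subgroup.card_quotient_dvd_card _
      have h3 : Nat.card K ∣ Nat.card G := Subgroup.card_subgroup_dvd_card K
      exact Odd.of_dvd_nat hodd (h2.trans h3)
    have hn : (Cfsg.inducedFunctor WZJ (T' : Subgroup (↥K ⧸ R.subgroupOf K))).Normal := by
      rw [inducedFunctor_WZJ]
      exact Cfsg.Agent.S0664.result hp2 (not_qd_of_odd hodd' hp2) hc T'
    rw [Subgroup.normalizer_eq_top_iff.mpr hn]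
    exact Subgroup.mem_top _
  have hmain := fcsf_of_sections (G := G) h𝓦 hloc' G (IsSectionOf.refl G)
  have hTi : ¬ p ∣ (T : Subgroup G).relIndex ⊤ := by
    rw [Subgroup.relIndex_top_right]; exact T.not_dvd_index
  have hA : ({a} : Set G) ⊆ (T : Subgroup G) := by
    intro y hy
    rw [Set.mem_singleton_iff.mp hy]; exact ha
  have hgA : lc u ({a} : Set G) ⊆ (T : Subgroup G) := by
    rintro _ ⟨y, hy, rfl⟩
    rw [Set.mem_singleton_iff.mp hy]; exact hu
  obtain ⟨c, hc, hceq⟩ := reach_of_familyControls (indFam_isConjugacyFunctor h𝓦) hmain le_top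
    T.isPGroup' hTi {a} u (Subgroup.mem_top _) hA hgA
  refine ⟨c, ?_, hceq a rfl⟩
  apply Cfsg.Agent.S1969.fchain_mem hc
  rintro _ ⟨W', hW', rfl⟩
  rw [Set.mem_singleton_iff.mp hW']
  show Subgroup.normalizer ((inducedFunctor WZJ (T : Subgroup G) : Subgroup G) : Set G) ≤ _
  rw [inducedFunctor_WZJ]

/-- a `p`-subgroup which is maximal among the `p`-subgroups of its normalizer is a Sylow subgroup -/
theorem exists_sylow_eq {P : Subgroup G} (hP : IsPGroup p P)
    (hmax : ∀ Q : Subgroup G, IsPGroup p Q → P ≤ Q → Q ≤ Subgroup.normalizer (P : Set G) → Q = P) :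
    ∃ T : Sylow p G, (T : Subgroup G) = P := by
  obtain ⟨T, hT⟩ := hP.exists_le_sylow
  refine ⟨T, ?_⟩
  by_contra hne
  have hnil : Group.IsNilpotent (T : Subgroup G) := T.isPGroup'.isNilpotent
  have hlt : P.subgroupOf (T : Subgroup G) < ⊤ := by
    rw [lt_top_iff_ne_top]
    intro h0
    rw [Subgroup.subgroupOf_eq_top] at h0
    exact hne (le_antisymm h0 hT)
  have h1 := Group.normalizerCondition_of_isNilpotent (G := (T : Subgroup G)) _ hlt
  set Q : Subgroup G :=
    (Subgroup.normalizer ((P.subgroupOf (T : Subgroup G) : Subgroup (T : Subgroup G)) :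
      Set (T : Subgroup G))).map (T : Subgroup G).subtype with hQ
  have hQT : Q ≤ (T : Subgroup G) := Subgroup.map_subtype_le _
  have hPQ : P ≤ Q := by
    intro x hx
    refine ⟨⟨x, hT hx⟩, ?_, rfl⟩
    apply Subgroup.le_normalizer
    exact hx
  have hQN : Q ≤ Subgroup.normalizer (P : Set G) := by
    rintro _ ⟨⟨y, hyT⟩, hy, rfl⟩
    rw [SetLike.mem_coe, Subgroup.mem_normalizer_iff] at hy
    rw [Subgroup.coe_subtype, Subgroup.mem_normalizer_iff]
    intro x
    constructor
    · intro hx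
      have := (hy ⟨x, hT hx⟩).mp hx
      exact this
    · intro hx
      have hxT : x ∈ (T : Subgroup G) := by
        have h2 : y * x * y⁻¹ ∈ (T : Subgroup G) := hT hx
        have h3 : x = y⁻¹ * (y * x * y⁻¹) * y := by group
        rw [h3]
        exact Subgroup.mul_mem _ (Subgroup.mul_mem _ (Subgroup.inv_mem _ hyT) h2) hyT
      have := (hy ⟨x, hxT⟩).mpr hx
      exact this
  have h2 := hmax Q (T.isPGroup'.to_le hQT) hPQ hQN
  apply h1.ne
  apply le_antisymm h1.le
  intro y hy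
  have h3 : (y : G) ∈ Q := ⟨y, hy, rfl⟩
  rw [h2] at h3
  exact h3

end

end Cfsg.Agent.Lib.Helper4.ThreeStep
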