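import Mathlib
import Cfsg.Agent.Lib.Helper4.ThreeStep4
import Cfsg.Prelude.Def_OddOrder

set_option autoImplicit false
open Pointwise

/-! A minimal simple CN-group of odd order has no three-step subgroups. -/

namespace Cfsg.Agent.Lib.Helper4.ThreeStep

open Cfsg Cfsg.Agent.Lib.Lead

universe u

variable {G : Type u} [Group G]

theorem isNilpotent_of_inj {A : Type*} {B : Type*} [Group A] [Group B] (f : A →* B)
    (hf : Function.Injective f) (hB : Group.IsNilpotent B) : Group.IsNilpotent A := by
  apply Subgroup.isNilpotent_of_ker_le_center f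
  rw [(MonoidHom.ker_eq_bot_iff f).mpr hf]
  exact bot_le

theorem isCN_subgroup (hCN : IsCNGroup G) (H : Subgroup G) : IsCNGroup ↥H := by
  intro h hh1
  have h1 : (h : G) ≠ 1 := fun h0 => hh1 (Subtype.ext h0)
  have hn := hCN (h : G) h1
  let f : ↥(Subgroup.centralizer ({h} : Set ↥H)) →* ↥(Subgroup.centralizer ({(h : G)} : Set G)) :=
    { toFun := fun x => ⟨((x : ↥H) : G), by
        have hx := x.2
        rw [Subgroup.mem_centralizer_singleton_iff] at hx ⊢
        exact congrArg Subtype.val hx⟩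
      map_one' := rfl
      map_mul' := fun _ _ => rfl }
  apply isNilpotent_of_inj f ?_ hn
  intro x y hxy
  apply Subtype.ext
  apply Subtype.ext
  exact congrArg (fun z : ↥(Subgroup.centralizer ({(h : G)} : Set G)) => (z : G)) hxy

variable [Finite G]

theorem odd_card_subgroup (hG : IsMinSimpleOddOrder G) (H : Subgroup G) : Odd (Nat.card H) :=
  Odd.of_dvd_nat hG.1 (Subgroup.card_subgroup_dvd_card H)

theorem commutator_eq_top (hG : IsMinSimpleOddOrder G) :
    ⁅(⊤ : Subgroup G), (⊤ : Subgroup G)⁆ = ⊤ := by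
  have := hG.2.1
  have hn : (⁅(⊤ : Subgroup G), (⊤ : Subgroup G)⁆).Normal := inferInstance
  rcases hn.eq_bot_or_eq_top with h | h
  · exfalso
    apply hG.2.2.1
    rw [Subgroup.commutator_eq_bot_iff_le_centralizer] at h
    refine ⟨⟨fun a b => ?_⟩⟩
    have := h (Subgroup.mem_top a)
    rw [Subgroup.mem_centralizer_iff] at this
    exact (this b (Subgroup.mem_top b)).symm
  · exact h

theorem ne_top_of_threeStep (hG : IsMinSimpleOddOrder G) {H : Subgroup G} {p : ℕ}
    (h : IsThreeStepGroup p ↥H) : H ≠ ⊤ := by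
  rintro rfl
  obtain ⟨A, d⟩ := exists_data h
  have := hG.2.1
  obtain ⟨a, ha, ha1⟩ := d.exists_ne_one
  have hs : IsSimpleGroup ↥(⊤ : Subgroup G) := (Subgroup.topEquiv (G := G)).isSimpleGroup
  have hn : (pCore p ↥(⊤ : Subgroup G)).Normal := inferInstance
  rcases hn.eq_bot_or_eq_top with h0 | h0
  · exact d.core_ne h0
  · apply d.ne_top
    rw [h0, top_sup_eq]

end Cfsg.Agent.Lib.Helper4.ThreeStep
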