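import Mathlib
import Cfsg.Agent.Lib.Helper4.ThreeStep5

set_option autoImplicit false
open Pointwise

/-! A minimal simple CN-group of odd order has no three-step subgroups: the main argument. -/

namespace Cfsg.Agent.Lib.Helper4.ThreeStep

open Cfsg Cfsg.Agent.Lib.Lead

universe u

variable {G : Type u} [Group G] [Finite G]

/-- an overgroup of a three-step group (for a prime) which is solvable CN of odd order is again a
three-step group -/
theorem overgroup_threeStep (hCN : IsCNGroup G) (hodd : Odd (Nat.card G)) {H N : Subgroup G}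
    (hHN : H ≤ N) [Group.IsSolvable ↥N] {p : ℕ} [hp : Fact p.Prime] {A : Subgroup ↥H} (d : Data p A) :
    ∃ r : ℕ, r.Prime ∧ IsThreeStepGroup r ↥N := by
  have hCNN := isCN_subgroup hCN N
  have hoddN : Odd (Nat.card N) := Odd.of_dvd_nat hodd (Subgroup.card_subgroup_dvd_card N)
  set ι : ↥H →* ↥N := Subgroup.inclusion hHN with hι
  have hιinj : Function.Injective ι := Subgroup.inclusion_injective hHN
  -- a normal nilpotent subgroup of `N` containing all commutators is impossible
  have key : ∀ M' : Subgroup ↥N, M'.Normal → Group.IsNilpotent M' →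
      (∀ x y : ↥N, x * y * x⁻¹ * y⁻¹ ∈ M') → False := by
    intro M' hM'n hM'nil hM'c
    have hMn : (M'.comap ι).Normal := hM'n.comap ι
    have hMnil : Group.IsNilpotent (M'.comap ι) := by
      let f : ↥(M'.comap ι) →* ↥M' :=
        { toFun := fun x => ⟨ι x, x.2⟩
          map_one' := by apply Subtype.ext; simp
          map_mul' := fun x y => by apply Subtype.ext; simp }
      apply isNilpotent_of_inj f ?_ hM'nil
      intro x y hxy
      apply Subtype.ext
      apply hιinj
      exact congrArg Subtype.val hxy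
    apply d.false_of_comm_nilpotent hMn hMnil
    intro x y
    rw [Subgroup.mem_comap]
    have := hM'c (ι x) (ι y)
    rw [map_mul, map_mul, map_mul, map_inv, map_inv]
    exact this
  rcases Cfsg.Agent.S1476.result hCNN with h1 | ⟨K, E, -, -, hF, hE⟩ | h1
  · exfalso
    haveI := h1
    apply key ⊤ inferInstance inferInstance
    intro x y; trivial
  · exfalso
    have hcyc := isCyclic_of_odd hoddN hE
    obtain ⟨K', hfd⟩ := exists_frobData hF
    apply key K' hfd.normal (frobData_isNilpotent hfd)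
    apply comm_mem_kernel hfd
    intro a ha b hb
    have := (IsCyclic.commutative (α := ↥E)).is_comm.comm ⟨a, ha⟩ ⟨b, hb⟩
    exact congrArg Subtype.val this
  · exact h1

/-- the main theorem -/
theorem no_threeStep (hG : IsMinSimpleOddOrder G) (hCN : IsCNGroup G) (H : Subgroup G) (p : ℕ) :
    ¬ IsThreeStepGroup p ↥H := by
  intro h3
  -- reduce to a prime
  have hprime : ∃ H : Subgroup G, ∃ r : ℕ, r.Prime ∧ IsThreeStepGroup r ↥H := by
    have hHtop := ne_top_of_threeStep hG h3
    haveI : Group.IsSolvable ↥H := hG.2.2.2 H hHtop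
    obtain ⟨r, hr, h⟩ := exists_prime (isCN_subgroup hCN H) (odd_card_subgroup hG H) h3
    exact ⟨H, r, hr, h⟩
  clear h3 H p
  -- choose one of largest order
  let 𝒯 := {H : Subgroup G // ∃ r : ℕ, r.Prime ∧ IsThreeStepGroup r ↥H}
  haveI : Nonempty 𝒯 := by
    obtain ⟨H, h⟩ := hprime
    exact ⟨⟨H, h⟩⟩
  haveI : Finite 𝒯 := Subtype.finite
  obtain ⟨⟨H, p, hp, h3⟩, hmax⟩ := Finite.exists_max (fun H : 𝒯 => Nat.card H.1)
  haveI : Fact p.Prime := ⟨hp⟩
  obtain ⟨A, d⟩ := exists_data h3
  have hHtop := ne_top_of_threeStep hG h3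
  haveI : Group.IsSolvable ↥H := hG.2.2.2 H hHtop
  have hoddH := odd_card_subgroup hG H
  -- `p` is odd
  have hp2 : p ≠ 2 := by
    rintro rfl
    have h1 : 2 ∣ Nat.card (pCore 2 ↥H) := by
      rcases (pCore_isPGroup (G := ↥H) 2).card_eq_or_dvd with h | h
      · exact absurd (Subgroup.card_eq_one.mp h) d.core_ne
      · exact h
    have h2 : 2 ∣ Nat.card H := h1.trans (Subgroup.card_subgroup_dvd_card _)
    rcases hoddH with ⟨m, hm⟩
    omega
  obtain ⟨S⟩ : Nonempty (Sylow p ↥H) := inferInstance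
  have hZn : (centerThompsonAOf (S : Subgroup ↥H)).Normal :=
    Cfsg.Agent.S0664.result hp2 (not_qd_of_odd hoddH hp2) d.centralizer_le S
  set S' : Subgroup G := (S : Subgroup ↥H).map H.subtype with hS'
  have hS'p : IsPGroup p S' := S.isPGroup'.map _
  have hS'H : S' ≤ H := Subgroup.map_subtype_le _
  have hZeq : centerThompsonAOf S' = (centerThompsonAOf (S : Subgroup ↥H)).map H.subtype :=
    centerThompsonAOf_map H.subtype H.subtype_injective _
  have hPS : pCore p ↥H ≤ (S : Subgroup ↥H) := by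
    rw [pCore_eq_iInf_sylow]
    exact iInf_le _ S
  have hS'1 : S' ≠ ⊥ := by
    rw [hS', Ne, Subgroup.map_eq_bot_iff_of_injective _ H.subtype_injective]
    intro h0
    apply d.core_ne
    rw [h0] at hPS
    exact le_bot_iff.mp hPS
  have hZ1 : centerThompsonAOf S' ≠ ⊥ := zj_ne_bot hS'p hS'1
  have hZS : centerThompsonAOf S' ≤ S' := zj_le hS'p
  set N : Subgroup G := Subgroup.normalizer (centerThompsonAOf S' : Set G) with hN
  have hHN : H ≤ N := by
    have h1 := Subgroup.le_normalizer_map (H := centerThompsonAOf (S : Subgroup ↥H)) H.subtype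
    rw [Subgroup.normalizer_eq_top_iff.mpr hZn, ← hZeq] at h1
    intro x hx
    apply h1
    exact ⟨⟨x, hx⟩, Subgroup.mem_top _, rfl⟩
  have hNtop : N ≠ ⊤ := by
    intro h0
    haveI := hG.2.1
    have hn : (centerThompsonAOf S').Normal := Subgroup.normalizer_eq_top_iff.mp h0
    rcases hn.eq_bot_or_eq_top with h1 | h1
    · exact hZ1 h1
    · apply hHtop
      rw [eq_top_iff, ← h1]
      exact hZS.trans hS'H
  haveI : Group.IsSolvable ↥N := hG.2.2.2 N hNtop
  -- `N = H`
  have hNH : N = H := by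
    obtain ⟨r, hr, h3N⟩ := overgroup_threeStep hCN hG.1 hHN d
    have h1 := hmax ⟨N, r, hr, h3N⟩
    simp only at h1
    exact (Subgroup.eq_of_le_of_card_ge hHN h1).symm
  -- `S'` is a Sylow subgroup of `G`
  obtain ⟨T, hT⟩ : ∃ T : Sylow p G, (T : Subgroup G) = S' := by
    apply exists_sylow_eq hS'p
    intro Q hQp hSQ hQN
    have hQH : Q ≤ H := by
      rw [← hNH]
      exact hQN.trans (normalizer_le_normalizer_zj hS'p)
    have h1 : (S : Subgroup ↥H) ≤ Q.subgroupOf H := by
      intro x hx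
      rw [Subgroup.mem_subgroupOf]
      exact hSQ ⟨x, hx, rfl⟩
    have h2 : IsPGroup p (Q.subgroupOf H) :=
      hQp.comap_of_injective H.subtype H.subtype_injective
    have h3 := S.is_maximal' h2 h1
    rw [hS', ← h3, Subgroup.map_subgroupOf_eq_of_le hQH]
  -- the focal subgroup argument
  set D : Subgroup G := (pCore p ↥H ⊔ A).map H.subtype with hD
  have hfoc : (T : Subgroup G) ⊓ ⁅(⊤ : Subgroup G), (⊤ : Subgroup G)⁆ ≤ D := by
    apply focal_le T D
    intro a ha u hu
    obtain ⟨x, hx, hxa⟩ := zj_controls_of_odd hG.1 hp2 T ha hu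
    rw [hT, ← hN, hNH] at hx
    rw [hT] at ha
    have haH : a ∈ H := hS'H ha
    rw [← hxa]
    refine ⟨(⟨a, haH⟩ : ↥H)⁻¹ * ⟨x, hx⟩ * ((⟨a, haH⟩ : ↥H)⁻¹)⁻¹ * (⟨x, hx⟩ : ↥H)⁻¹,
      d.comm_mem _ _, ?_⟩
    simp only [Subgroup.coe_subtype, Subgroup.coe_mul, Subgroup.coe_inv, inv_inv]
    group
  rw [commutator_eq_top hG, inf_top_eq, hT] at hfoc
  apply d.not_sylow_le S
  intro x hx
  obtain ⟨y, hy, hyx⟩ := hfoc ⟨x, hx, rfl⟩
  have : y = x := H.subtype_injective hyx
  rw [← this]; exact hy

end Cfsg.Agent.Lib.Helper4.ThreeStep
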