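import Mathlib
import Cfsg.Agent.Lib.Helper4.ThreeStep6
import Cfsg.Agent.Lib.Helper4.CNGroup3
import Cfsg.Agent.Lib.Helper2.Schmidt

set_option autoImplicit false
open Pointwise

/-! Proper subgroups of a minimal simple CN-group of odd order: nilpotent or Frobenius. -/

namespace Cfsg.Agent.Lib.Helper4.CNMax

open Cfsg Cfsg.Agent.Lib.Lead Cfsg.Agent.Lib.Helper4.ThreeStep

universe u

variable {G : Type u} [Group G]

/-- `M = K ⋊ E` is a Frobenius group with nilpotent kernel `K` and cyclic complement `E`, inside `G` -/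
structure FrobIn (M K E : Subgroup G) : Prop where
  K_le : K ≤ M
  E_le : E ≤ M
  norm : M ≤ Subgroup.normalizer (K : Set G)
  nil : Group.IsNilpotent K
  K_ne : K ≠ ⊥
  E_ne : E ≠ ⊥
  disj : K ⊓ E = ⊥
  prod : ∀ m ∈ M, ∃ k ∈ K, ∃ e ∈ E, m = k * e
  fpf : ∀ x ∈ M, x ∉ K → K ⊓ Subgroup.centralizer ({x} : Set G) = ⊥
  cop : (Nat.card K).Coprime (Nat.card E)
  card : Nat.card K * Nat.card E = Nat.card M
  comm : ∀ x ∈ M, ∀ y ∈ M, x * y * x⁻¹ * y⁻¹ ∈ K

variable [Finite G]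

theorem frobIn_of_frobData (hodd : Odd (Nat.card G)) {M : Subgroup G} {E' K' : Subgroup ↥M}
    (h : FrobData E' K') (hE : ∀ a ∈ E', ∀ b ∈ E', a * b = b * a) :
    FrobIn M (K'.map M.subtype) (E'.map M.subtype) := by
  have hinj := M.subtype_injective
  have hKn := h.normal
  refine ⟨Subgroup.map_subtype_le _, Subgroup.map_subtype_le _, ?_,
    Cfsg.Agent.Lib.Helper2.Schmidt.isNilpotent_map _ (frobData_isNilpotent h), ?_, ?_, ?_, ?_, ?_, ?_, ?_, ?_⟩
  · have h1 := Subgroup.le_normalizer_map (H := K') M.subtype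
    rw [Subgroup.normalizer_eq_top_iff.mpr hKn] at h1
    intro x hx
    apply h1
    exact ⟨⟨x, hx⟩, Subgroup.mem_top _, rfl⟩
  · rw [Ne, Subgroup.map_eq_bot_iff_of_injective _ hinj]
    exact h.ne_bot
  · rw [Ne, Subgroup.map_eq_bot_iff_of_injective _ hinj]
    exact h.frob.1
  · rw [← Subgroup.map_inf _ _ _ hinj, h.inf_eq_bot, Subgroup.map_bot]
  · intro m hm
    obtain ⟨⟨⟨k, hk⟩, ⟨e, he⟩⟩, hke⟩ := h.compl.2 ⟨m, hm⟩
    simp only at hke
    refine ⟨(k : G), ⟨k, hk, rfl⟩, (e : G), ⟨e, he, rfl⟩, ?_⟩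
    have := congrArg Subtype.val hke
    simpa using this.symm
  · intro x hx hxK
    have hx' : (⟨x, hx⟩ : ↥M) ∉ K' := by
      intro h0
      exact hxK ⟨_, h0, rfl⟩
    obtain ⟨hx1, g, hg⟩ := h.not_mem_iff.mp hx'
    rw [mem_conj_smul_iff] at hg
    rw [Subgroup.eq_bot_iff_forall]
    rintro _ ⟨⟨k, hk, rfl⟩, hc⟩
    have hc := Subgroup.mem_centralizer_singleton_iff.mp hc
    have hc' : k * ⟨x, hx⟩ = ⟨x, hx⟩ * k := Subtype.ext hc
    have hy1 : g⁻¹ * ⟨x, hx⟩ * g ≠ 1 := by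
      intro h0
      apply hx1
      have : (⟨x, hx⟩ : ↥M) = g * (g⁻¹ * ⟨x, hx⟩ * g) * g⁻¹ := by group
      rw [this, h0]; group
    have hj : g⁻¹ * k * g ∈ K' := by
      have := hKn.conj_mem k hk g⁻¹
      rwa [inv_inv] at this
    have hcomm : (g⁻¹ * ⟨x, hx⟩ * g) * (g⁻¹ * k * g) = (g⁻¹ * k * g) * (g⁻¹ * ⟨x, hx⟩ * g) := by
      calc (g⁻¹ * ⟨x, hx⟩ * g) * (g⁻¹ * k * g) = g⁻¹ * (⟨x, hx⟩ * k) * g := by group
        _ = g⁻¹ * (k * ⟨x, hx⟩) * g := by rw [hc']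
        _ = _ := by group
    have h1 := h.fpf hg hy1 hj hcomm
    have hk1 : k = 1 := by
      have : k = g * (g⁻¹ * k * g) * g⁻¹ := by group
      rw [this, h1]; group
    rw [hk1]; rfl
  · rw [Subgroup.card_map_of_injective hinj, Subgroup.card_map_of_injective hinj]
    exact h.coprime
  · rw [Subgroup.card_map_of_injective hinj, Subgroup.card_map_of_injective hinj]
    exact h.card_mul
  · intro x hx y hy
    have h1 := comm_mem_kernel h hE ⟨x, hx⟩ ⟨y, hy⟩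
    exact ⟨_, h1, rfl⟩

/-- every proper subgroup is nilpotent or a Frobenius group -/
theorem proper_structure (hG : IsMinSimpleOddOrder G) (hCN : IsCNGroup G) {M : Subgroup G}
    (hM : M ≠ ⊤) : Group.IsNilpotent ↥M ∨ ∃ K E : Subgroup G, FrobIn M K E := by
  haveI : Group.IsSolvable ↥M := hG.2.2.2 M hM
  have hoddM := odd_card_subgroup hG M
  rcases Cfsg.Agent.S1476.result (isCN_subgroup hCN M) with h1 | ⟨K, E, -, -, hF, hE⟩ | ⟨p, -, h3⟩
  · exact Or.inl h1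
  · right
    have hcyc := isCyclic_of_odd hoddM hE
    obtain ⟨K', hfd⟩ := exists_frobData hF
    refine ⟨_, _, frobIn_of_frobData hG.1 hfd ?_⟩
    intro a ha b hb
    have := (IsCyclic.commutative (α := ↥E)).is_comm.comm ⟨a, ha⟩ ⟨b, hb⟩
    exact congrArg Subtype.val this
  · exact absurd h3 (no_threeStep hG hCN M p)

end Cfsg.Agent.Lib.Helper4.CNMax
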