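import Mathlib
import Cfsg.Agent.Lib.Helper4.CNMax1
import Cfsg.Agent.Lib.Helper4.NilpSub
import Cfsg.Agent.Lib.Helper4.FusionLift1

set_option autoImplicit false
open Pointwise

/-! Frobenius subgroups: Hall property of the kernel and consequences. -/

namespace Cfsg.Agent.Lib.Helper4.CNMax

open Cfsg Cfsg.Agent.Lib.Lead Cfsg.Agent.Lib.Helper4.ThreeStep Cfsg.Agent.Lib.Helper7

universe u

variable {G : Type u} [Group G] [Finite G]

namespace FrobIn

variable {M K E : Subgroup G}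

/-- `x ^ |E| ∈ K` for `x ∈ M` -/
theorem pow_card_mem (h : FrobIn M K E) {x : G} (hx : x ∈ M) : x ^ Nat.card E ∈ K := by
  haveI : (K.subgroupOf M).Normal := by
    rw [← Subgroup.normalizer_eq_top_iff]
    rw [eq_top_iff]
    intro y _
    have hy := h.norm y.2
    rw [Subgroup.mem_normalizer_iff] at hy ⊢
    intro z
    rw [Subgroup.mem_subgroupOf, Subgroup.mem_subgroupOf]
    exact hy z
  have h1 := Subgroup.card_eq_card_quotient_mul_card_subgroup (K.subgroupOf M)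
  have h2 : Nat.card (K.subgroupOf M) = Nat.card K :=
    Nat.card_congr (Subgroup.subgroupOfEquivOfLe h.K_le).toEquiv
  have h3 : Nat.card (↥M ⧸ K.subgroupOf M) = Nat.card E := by
    rw [h2, ← h.card, mul_comm] at h1
    have hpos : 0 < Nat.card K := Nat.card_pos
    exact (Nat.eq_of_mul_eq_mul_right hpos h1).symm
  have h4 : (QuotientGroup.mk (⟨x, hx⟩ : ↥M) : ↥M ⧸ K.subgroupOf M) ^ Nat.card E = 1 := by
    rw [← h3]; exact pow_card_eq_one'
  rw [← QuotientGroup.mk_pow, QuotientGroup.eq_one_iff, Subgroup.mem_subgroupOf] at h4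
  exact h4

/-- the kernel contains every element of `M` whose order is coprime to `|E|` -/
theorem mem_of_coprime (h : FrobIn M K E) {x : G} (hx : x ∈ M)
    (hc : (orderOf x).Coprime (Nat.card E)) : x ∈ K := by
  obtain ⟨m, hm⟩ := exists_pow_eq_self_of_coprime hc.symm
  rw [← hm]
  exact K.pow_mem (h.pow_card_mem hx) m

/-- Hall property: `q`-elements of `M` lie in `K` when `q` divides `|K|` -/
theorem mem_of_pElement (h : FrobIn M K E) {q : ℕ} [hq : Fact q.Prime] (hqK : q ∣ Nat.card K)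
    {x : G} (hx : x ∈ M) (hxq : IsPGroup q (Subgroup.zpowers x)) : x ∈ K := by
  apply h.mem_of_coprime hx
  obtain ⟨k, hk⟩ := IsPGroup.iff_card.mp hxq
  rw [Nat.card_zpowers] at hk
  rw [hk]
  apply Nat.Coprime.pow_left
  rw [Nat.Prime.coprime_iff_not_dvd hq.out]
  intro hqE
  have := Nat.dvd_gcd hqK hqE
  rw [h.cop] at this
  exact hq.out.one_lt.ne' (Nat.dvd_one.mp this)

/-- a nontrivial normal `p`-subgroup of `M` forces `p ∣ |K|` -/
theorem dvd_of_normal_pgroup (h : FrobIn M K E) {p : ℕ} [hp : Fact p.Prime] {T : Subgroup G}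
    (hTM : T ≤ M) (hMT : M ≤ Subgroup.normalizer (T : Set G)) (hT1 : T ≠ ⊥) (hTp : IsPGroup p T) :
    p ∣ Nat.card K := by
  by_contra hpK
  obtain ⟨t, ht, ht1⟩ : ∃ t ∈ T, t ≠ 1 := by
    by_contra hcon
    push Not at hcon
    exact hT1 ((Subgroup.eq_bot_iff_forall _).mpr hcon)
  have hTK : T ⊓ K = ⊥ := by
    rw [Subgroup.eq_bot_iff_forall]
    rintro y ⟨hyT, hyK⟩
    obtain ⟨k, hk⟩ := hTp ⟨y, hyT⟩
    have hk' : y ^ (p ^ k) = 1 := by simpa using congrArg Subtype.val hk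
    have h1 : orderOf y ∣ p ^ k := orderOf_dvd_of_pow_eq_one hk'
    have h2 : orderOf y ∣ Nat.card K := by
      have := orderOf_dvd_natCard (⟨y, hyK⟩ : K)
      rwa [Subgroup.orderOf_mk] at this
    have h3 : (p ^ k).Coprime (Nat.card K) :=
      Nat.Coprime.pow_left _ ((Nat.Prime.coprime_iff_not_dvd hp.out).mpr hpK)
    have h4 := Nat.eq_one_of_dvd_coprimes h3 h1 h2
    exact orderOf_eq_one_iff.mp h4
  have htK : t ∉ K := by
    intro h0
    have : t ∈ T ⊓ K := ⟨ht, h0⟩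
    rw [hTK, Subgroup.mem_bot] at this
    exact ht1 this
  have hfpf := h.fpf t (hTM ht) htK
  apply h.K_ne
  rw [Subgroup.eq_bot_iff_forall]
  intro k hk
  have h1 : k * t * k⁻¹ * t⁻¹ ∈ T ⊓ K := by
    constructor
    · have h2 := (Subgroup.mem_normalizer_iff.mp (hMT (h.K_le hk)) t).mp ht
      exact T.mul_mem h2 (T.inv_mem ht)
    · have h2 := (Subgroup.mem_normalizer_iff.mp (h.norm (hTM ht)) k⁻¹).mp (K.inv_mem hk)
      have : k * t * k⁻¹ * t⁻¹ = k * (t * k⁻¹ * t⁻¹) := by group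
      rw [this]
      exact K.mul_mem hk h2
  rw [hTK, Subgroup.mem_bot] at h1
  have h2 : k ∈ K ⊓ Subgroup.centralizer ({t} : Set G) := by
    refine ⟨hk, ?_⟩
    apply Subgroup.mem_centralizer_singleton_iff.mpr
    calc k * t = (k * t * k⁻¹ * t⁻¹) * (t * k) := by group
      _ = t * k := by rw [h1, one_mul]
  rw [hfpf, Subgroup.mem_bot] at h2
  exact h2

/-- if `p ∣ |K|`, all `p`-subgroups of `M` lie in a single `p`-subgroup -/
theorem exists_pgroup_ge (h : FrobIn M K E) {p : ℕ} [hp : Fact p.Prime] (hpK : p ∣ Nat.card K) :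
    ∃ R : Subgroup G, R ≤ M ∧ IsPGroup p R ∧ ∀ T : Subgroup G, T ≤ M → IsPGroup p T → T ≤ R := by
  obtain ⟨R, -, hR⟩ := exists_sylIn_ge (p := p) (bot_le : (⊥ : Subgroup G) ≤ K) IsPGroup.of_bot
  have hn := sylIn_normal_of_isNilpotent h.nil hR
  refine ⟨R, hR.1.trans h.K_le, hR.2.1, ?_⟩
  intro T hTM hTp
  apply hR.le_of_normal hn _ hTp
  intro x hx
  exact h.mem_of_pElement hpK (hTM hx) (hTp.to_le (Subgroup.zpowers_le.mpr hx))

end FrobIn

/-- a proper subgroup normalizing a nontrivial `p`-subgroup of itself has all its `p`-subgroups inside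
a single `p`-subgroup -/
theorem exists_pgroup_ge_of_normal (hG : IsMinSimpleOddOrder G) (hCN : IsCNGroup G) {M : Subgroup G}
    (hM : M ≠ ⊤) {p : ℕ} [hp : Fact p.Prime] {T : Subgroup G} (hTM : T ≤ M)
    (hMT : M ≤ Subgroup.normalizer (T : Set G)) (hT1 : T ≠ ⊥) (hTp : IsPGroup p T) :
    ∃ R : Subgroup G, R ≤ M ∧ IsPGroup p R ∧ ∀ T : Subgroup G, T ≤ M → IsPGroup p T → T ≤ R := by
  rcases proper_structure hG hCN hM with h1 | ⟨K, E, h⟩
  · obtain ⟨R, -, hR⟩ := exists_sylIn_ge (p := p) (bot_le : (⊥ : Subgroup G) ≤ M) IsPGroup.of_bot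
    have hn := sylIn_normal_of_isNilpotent h1 hR
    exact ⟨R, hR.1, hR.2.1, fun T hT hTp => hR.le_of_normal hn hT hTp⟩
  · exact h.exists_pgroup_ge (h.dvd_of_normal_pgroup hTM hMT hT1 hTp)

/-- the normalizer condition for nilpotent subgroups -/
theorem exists_normalizer_not_mem {H K : Subgroup G} (hH : Group.IsNilpotent H) (hKH : K ≤ H)
    (hne : K ≠ H) : ∃ y ∈ H, y ∉ K ∧ y ∈ Subgroup.normalizer (K : Set G) := by
  have hlt : K.subgroupOf H < ⊤ := by
    rw [lt_top_iff_ne_top]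
    intro h0
    rw [Subgroup.subgroupOf_eq_top] at h0
    exact hne (le_antisymm hKH h0)
  have h1 := Group.normalizerCondition_of_isNilpotent (G := ↥H) _ hlt
  obtain ⟨⟨y, hyH⟩, hyN, hyK⟩ := SetLike.exists_of_lt h1
  refine ⟨y, hyH, ?_, ?_⟩
  · intro h0
    apply hyK
    rw [Subgroup.mem_subgroupOf]; exact h0
  · rw [Subgroup.mem_normalizer_iff] at hyN ⊢
    intro x
    constructor
    · intro hx
      have := (hyN ⟨x, hKH hx⟩).mp (by rw [Subgroup.mem_subgroupOf]; exact hx)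
      rw [Subgroup.mem_subgroupOf] at this
      exact this
    · intro hx
      have hxH : x ∈ H := by
        have h2 : y * x * y⁻¹ ∈ H := hKH hx
        have h3 : x = y⁻¹ * (y * x * y⁻¹) * y := by group
        rw [h3]
        exact H.mul_mem (H.mul_mem (H.inv_mem hyH) h2) hyH
      have := (hyN ⟨x, hxH⟩).mpr (by rw [Subgroup.mem_subgroupOf]; exact hx)
      rw [Subgroup.mem_subgroupOf] at this
      exact this

/-- every nilpotent subgroup lies in a maximal nilpotent subgroup -/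
theorem exists_maxNilp_ge {U : Subgroup G} (hU : Group.IsNilpotent U) :
    ∃ H : Subgroup G, U ≤ H ∧ MaxNilp H := by
  let 𝒯 := {H : Subgroup G // U ≤ H ∧ Group.IsNilpotent H}
  haveI : Nonempty 𝒯 := ⟨⟨U, le_rfl, hU⟩⟩
  haveI : Finite 𝒯 := Subtype.finite
  obtain ⟨⟨H, hUH, hH⟩, hmax⟩ := Finite.exists_max (fun H : 𝒯 => Nat.card H.1)
  refine ⟨H, hUH, hH, ?_⟩
  intro L hL hHL
  have h1 := hmax ⟨L, hUH.trans hHL, hL⟩
  simp only at h1
  exact (Subgroup.eq_of_le_of_card_ge hHL h1).symm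

end Cfsg.Agent.Lib.Helper4.CNMax
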