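import Mathlib
import Cfsg.Agent.Lib.Helper4.BG7a
import Cfsg.Agent.Lib.Helper4.CNMax2

set_option autoImplicit false
open Pointwise

/-! Bender–Glauberman Section 7: Theorem 7.2. -/

namespace Cfsg.Agent.Lib.Helper4.BG7

open Cfsg Cfsg.Agent.Lib.Helper4

universe u

variable {G : Type u} [Group G] [Finite G]

/-- (F1) invariant `π(A)'`-subgroups of a proper overgroup of `A` lie in its `π(A)'`-core -/
theorem le_piCoreOf_of_mem_inv {A X Y : Subgroup G} (hA : TransitivityHypothesis A) (hX : X ≠ ⊤)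
    (hAX : A ≤ X) (hY : Y ∈ invSubgroups X A (cpi A)) : Y ≤ piCoreOf (cpi A) X := by
  rw [← hA.2.2 X hX hAX]
  exact le_sSup hY

/-- (F3) every `π(A)'`-subgroup of `C_G(A)` lies in `K` -/
theorem le_KA_of_le_centralizer (hG : IsMinSimpleOddOrder G) {A Y : Subgroup G}
    (hA : TransitivityHypothesis A) (hY : Y ≤ Subgroup.centralizer (A : Set G))
    (hYπ : IsPiNum (cpi A) (Nat.card Y)) : Y ≤ KA A := by
  set X' : Subgroup G := A ⊔ Subgroup.centralizer (A : Set G) with hX'
  have hAn : X' ≤ Subgroup.normalizer (A : Set G) := by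
    apply sup_le Subgroup.le_normalizer
    intro c hc
    rw [Subgroup.mem_centralizer_iff] at hc
    rw [Subgroup.mem_normalizer_iff]
    intro x
    constructor
    · intro hx
      have : c * x * c⁻¹ = x := by rw [← hc x hx]; group
      rw [this]; exact hx
    · intro hx
      have h1 := hc _ hx
      have : x = c * x * c⁻¹ := by
        have h2 : c * x * c⁻¹ * c = c * (c * x * c⁻¹) := h1
        have h3 : x * c = c * x * c⁻¹ * c := by
          have : c * x * c⁻¹ * c = c * x := by group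
          rw [h2] at this
          have h4 : c * x * c⁻¹ = x := by
            have := mul_left_cancel this
            exact this
          rw [h4]
        have := mul_right_cancel h3
        exact this
      rw [this]; exact hx
  have hX'top : X' ≠ ⊤ := by
    intro h0
    have := hG.2.1
    have hn : A.Normal := by
      rw [← Subgroup.normalizer_eq_top_iff, eq_top_iff, ← h0]; exact hAn
    rcases hn.eq_bot_or_eq_top with h | h
    · exact hA.1 h
    · exact hA.2.1 h
  have hYinv : Y ∈ invSubgroups X' A (cpi A) := by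
    refine ⟨hY.trans le_sup_right, hYπ, ?_⟩
    intro a ha
    rw [Subgroup.mem_normalizer_iff]
    intro y
    constructor
    · intro hy
      have h1 := Subgroup.mem_centralizer_iff.mp (hY hy) a ha
      have : a * y * a⁻¹ = y := by rw [h1]; group
      rw [this]; exact hy
    · intro hy
      have h1 := Subgroup.mem_centralizer_iff.mp (hY hy) a ha
      have h2 : a * y * a⁻¹ = y := by
        have h3 : a * (a * y * a⁻¹) = a * y := by rw [h1]; group
        exact mul_left_cancel h3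
      rw [← h2]; exact hy
  have h1 := le_piCoreOf_of_mem_inv hA hX'top le_sup_left hYinv
  refine h1.trans ?_
  set W := piCoreOf (cpi A) X' with hW
  have hWπ : IsPiNum (cpi A) (Nat.card W) := isPiNum_card_piCoreOf _ _
  have hWn : X' ≤ Subgroup.normalizer (W : Set G) := le_normalizer_piCoreOf _ _
  have hWA : W ⊓ A = ⊥ := by
    rw [Subgroup.eq_bot_iff_forall]
    rintro x ⟨hxW, hxA⟩
    have h2 : orderOf x ∣ Nat.card W := by
      have := orderOf_dvd_natCard (⟨x, hxW⟩ : W)
      rwa [Subgroup.orderOf_mk] at this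
    have h3 : orderOf x ∣ Nat.card A := by
      have := orderOf_dvd_natCard (⟨x, hxA⟩ : A)
      rwa [Subgroup.orderOf_mk] at this
    have h4 := Nat.eq_one_of_dvd_coprimes (coprime_of_isPiNum A hWπ) h3 h2
    exact orderOf_eq_one_iff.mp h4
  have hWc : W ≤ Subgroup.centralizer (A : Set G) := by
    intro w hw
    rw [Subgroup.mem_centralizer_iff]
    intro a ha
    have h2 : w * a * w⁻¹ * a⁻¹ ∈ W ⊓ A := by
      constructor
      · have h3 := (Subgroup.mem_normalizer_iff.mp (hWn ((le_sup_left : A ≤ X') ha)) w⁻¹).mp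
          (W.inv_mem hw)
        have : w * a * w⁻¹ * a⁻¹ = w * (a * w⁻¹ * a⁻¹) := by group
        rw [this]
        exact W.mul_mem hw h3
      · have h3 := (Subgroup.mem_normalizer_iff.mp (hAn ((piCoreOf_le _ _) hw)) a).mp ha
        exact A.mul_mem h3 (A.inv_mem ha)
    rw [hWA, Subgroup.mem_bot] at h2
    calc a * w = (w * a * w⁻¹ * a⁻¹)⁻¹ * (w * a) := by group
      _ = w * a := by rw [h2, inv_one, one_mul]
  exact le_piCoreOf hWc ((le_sup_right : _ ≤ X').trans hWn) hWπ

theorem conj_sylow_map {L : Subgroup G} {q : ℕ} [Fact q.Prime] (P Q : Sylow q L) (c : L)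
    (h : MulAut.conj c • P = Q) :
    (Q : Subgroup L).map L.subtype =
      ((P : Subgroup L).map L.subtype).map (MulAut.conj (c : G)).toMonoidHom := by
  have key : ∀ y : L, y ∈ ((MulAut.conj c • P : Sylow q L) : Subgroup L) ↔
      c⁻¹ * y * c ∈ (P : Subgroup L) := by
    intro y
    rw [Sylow.pointwise_smul_def, Subgroup.mem_pointwise_smul_iff_inv_smul_mem]
    simp only [MulAut.smul_def, MulAut.conj_inv_apply]
  rw [← h]
  ext x
  constructor
  · rintro ⟨y, hy, rfl⟩
    have hy' := (key y).mp hy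
    refine ⟨_, ⟨_, hy', rfl⟩, ?_⟩
    simp only [Subgroup.coe_subtype, Subgroup.coe_mul, InvMemClass.coe_inv, MulEquiv.coe_toMonoidHom,
      MulAut.conj_apply]
    group
  · rintro ⟨_, ⟨y, hy, rfl⟩, rfl⟩
    refine ⟨c * y * c⁻¹, ?_, ?_⟩
    · apply (key _).mpr
      have : c⁻¹ * (c * y * c⁻¹) * c = y := by group
      rw [this]; exact hy
    · simp

/-- (F4) invariant Sylow subgroups in a coprime solvable invariant subgroup -/
theorem exists_inv_sylow_pair {A L U₁ U₂ : Subgroup G} (hAL : A ≤ Subgroup.normalizer (L : Set G))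
    (hcop : (Nat.card A).Coprime (Nat.card L)) (hsolv : Group.IsSolvable L) {q : ℕ} [Fact q.Prime]
    (h₁L : U₁ ≤ L) (h₁q : IsPGroup q U₁) (h₁A : A ≤ Subgroup.normalizer (U₁ : Set G))
    (h₂L : U₂ ≤ L) (h₂q : IsPGroup q U₂) (h₂A : A ≤ Subgroup.normalizer (U₂ : Set G)) :
    ∃ S₁ S₂ : Subgroup G, U₁ ≤ S₁ ∧ U₂ ≤ S₂ ∧ IsPGroup q S₁ ∧ IsPGroup q S₂ ∧
      A ≤ Subgroup.normalizer (S₁ : Set G) ∧ A ≤ Subgroup.normalizer (S₂ : Set G) ∧
      ∃ c ∈ L ⊓ Subgroup.centralizer (A : Set G), S₂ = S₁.map (MulAut.conj c).toMonoidHom := by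
  obtain ⟨P₁, hP₁U, hP₁A⟩ := Cfsg.Agent.S0025.result A L hAL hcop (Or.inr hsolv) q U₁ h₁L h₁q h₁A
  obtain ⟨P₂, hP₂U, hP₂A⟩ := Cfsg.Agent.S0025.result A L hAL hcop (Or.inr hsolv) q U₂ h₂L h₂q h₂A
  obtain ⟨c, hcA, hc⟩ := Cfsg.Agent.S0024.result A L hAL hcop (Or.inr hsolv) q P₁ P₂ hP₁A hP₂A
  exact ⟨_, _, hP₁U, hP₂U, P₁.isPGroup'.map _, P₂.isPGroup'.map _, hP₁A, hP₂A, (c : G), ⟨c.2, hcA⟩,
    conj_sylow_map P₁ P₂ c hc⟩

end Cfsg.Agent.Lib.Helper4.BG7
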