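import Mathlib
import Cfsg.Agent.Lib.Helper4.BG7b

set_option autoImplicit false
open Pointwise

/-! Bender–Glauberman Section 7: Theorem 7.2. -/

namespace Cfsg.Agent.Lib.Helper4.BG7

open Cfsg Cfsg.Agent.Lib.Helper4

universe u

variable {G : Type u} [Group G] [Finite G]

theorem normalizer_inf_le' (P Q : Subgroup G) :
    Subgroup.normalizer (P : Set G) ⊓ Subgroup.normalizer (Q : Set G) ≤
      Subgroup.normalizer ((P ⊓ Q : Subgroup G) : Set G) := by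
  rintro g ⟨hP, hQ⟩
  have hP' := Subgroup.mem_normalizer_iff.mp hP
  have hQ' := Subgroup.mem_normalizer_iff.mp hQ
  rw [Subgroup.mem_normalizer_iff]
  intro x
  rw [Subgroup.mem_inf, Subgroup.mem_inf, hP' x, hQ' x]

/-- the bridging argument -/
theorem bridge (hG : IsMinSimpleOddOrder G) {A : Subgroup G} (hA : TransitivityHypothesis A)
    {q : ℕ} (hq : q.Prime) (hqA : ¬ q ∣ Nat.card A) {X U₁ U₂ Q₁ Q₂ : Subgroup G} (hX : X ≠ ⊤)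
    (hAX : A ≤ X) (h₁X : U₁ ≤ X) (h₂X : U₂ ≤ X) (h₁q : IsPGroup q U₁) (h₂q : IsPGroup q U₂)
    (h₁A : A ≤ Subgroup.normalizer (U₁ : Set G)) (h₂A : A ≤ Subgroup.normalizer (U₂ : Set G))
    (hyp : ∀ Q ∈ maxInvSubgroups ⊤ A {q}, ∀ Q' ∈ maxInvSubgroups ⊤ A {q},
      (U₁ ≤ Q ⊓ Q' ∨ U₂ ≤ Q ⊓ Q') → KConj A Q Q')
    (hQ₁ : Q₁ ∈ maxInvSubgroups ⊤ A {q}) (hQ₂ : Q₂ ∈ maxInvSubgroups ⊤ A {q})
    (h₁Q : U₁ ≤ Q₁) (h₂Q : U₂ ≤ Q₂) : KConj A Q₁ Q₂ := by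
  haveI : Fact q.Prime := ⟨hq⟩
  set L := piCoreOf (cpi A) X with hL
  have hLX : L ≤ X := piCoreOf_le _ _
  have hLπ : IsPiNum (cpi A) (Nat.card L) := isPiNum_card_piCoreOf _ _
  have hLtop : L ≠ ⊤ := fun h0 => hX (eq_top_iff.mpr (h0 ▸ hLX))
  have hLsolv : Group.IsSolvable L := hG.2.2.2 L hLtop
  have hAL : A ≤ Subgroup.normalizer (L : Set G) := hAX.trans (le_normalizer_piCoreOf _ _)
  have hcop : (Nat.card A).Coprime (Nat.card L) := coprime_of_isPiNum A hLπ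
  have h₁L : U₁ ≤ L := le_piCoreOf_of_mem_inv hA hX hAX
    ⟨h₁X, isPiNum_cpi_of_singleton hq hqA (isPiNum_singleton_of_isPGroup h₁q), h₁A⟩
  have h₂L : U₂ ≤ L := le_piCoreOf_of_mem_inv hA hX hAX
    ⟨h₂X, isPiNum_cpi_of_singleton hq hqA (isPiNum_singleton_of_isPGroup h₂q), h₂A⟩
  obtain ⟨S₁, S₂, hU₁S, hU₂S, hS₁q, hS₂q, hS₁A, hS₂A, c, hc, hS⟩ :=
    exists_inv_sylow_pair hAL hcop hLsolv h₁L h₁q h₁A h₂L h₂q h₂A
  have hcK : c ∈ KA A := by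
    apply le_KA_of_le_centralizer hG hA (inf_le_right : L ⊓ Subgroup.centralizer (A : Set G) ≤ _)
      (isPiNum_of_le inf_le_left hLπ) hc
  obtain ⟨Q₃, hQ₃, hS₁Q⟩ := exists_maxInv_ge (A := A) (π := {q}) (R := S₁)
    ⟨le_top, isPiNum_singleton_of_isPGroup hS₁q, hS₁A⟩
  obtain ⟨Q₄, hQ₄, hS₂Q⟩ := exists_maxInv_ge (A := A) (π := {q}) (R := S₂)
    ⟨le_top, isPiNum_singleton_of_isPGroup hS₂q, hS₂A⟩
  have hQ₃c := map_conj_mem_maxInv (KA_le_centralizer A hcK) hQ₃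
  have e1 : KConj A Q₁ Q₃ := hyp Q₁ hQ₁ Q₃ hQ₃ (Or.inl (le_inf h₁Q (hU₁S.trans hS₁Q)))
  have e2 : KConj A Q₃ (Q₃.map (MulAut.conj c).toMonoidHom) := ⟨c, hcK, rfl⟩
  have hS₂Q' : S₂ ≤ Q₃.map (MulAut.conj c).toMonoidHom := by
    rw [hS]; exact Subgroup.map_mono hS₁Q
  have e3 : KConj A (Q₃.map (MulAut.conj c).toMonoidHom) Q₄ :=
    hyp _ hQ₃c Q₄ hQ₄ (Or.inr (le_inf (hU₂S.trans hS₂Q') (hU₂S.trans hS₂Q)))
  have e4 : KConj A Q₄ Q₂ := hyp Q₄ hQ₄ Q₂ hQ₂ (Or.inr (le_inf (hU₂S.trans hS₂Q) h₂Q))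
  exact ((e1.trans e2).trans e3).trans e4

theorem isPGroup_of_mem_maxInv {A Q : Subgroup G} {q : ℕ} [Fact q.Prime]
    (hQ : Q ∈ maxInvSubgroups ⊤ A {q}) : IsPGroup q Q :=
  isPGroup_of_isPiNum_singleton hQ.1.2.1

/-- maximal invariant `q`-subgroups meeting nontrivially are conjugate under `K` -/
theorem kconj_of_inf_ne_bot (hG : IsMinSimpleOddOrder G) {A : Subgroup G}
    (hA : TransitivityHypothesis A) {q : ℕ} (hq : q.Prime) (hqA : ¬ q ∣ Nat.card A) :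
    ∀ n : ℕ, ∀ Q₁ ∈ maxInvSubgroups ⊤ A {q}, ∀ Q₂ ∈ maxInvSubgroups ⊤ A {q}, Q₁ ⊓ Q₂ ≠ ⊥ →
      Nat.card G - Nat.card (Q₁ ⊓ Q₂ : Subgroup G) = n → KConj A Q₁ Q₂ := by
  haveI : Fact q.Prime := ⟨hq⟩
  intro n
  induction n using Nat.strong_induction_on with
  | _ n ih =>
  intro Q₁ hQ₁ Q₂ hQ₂ hD1 hn
  set D := Q₁ ⊓ Q₂ with hD
  by_cases hDQ₁ : D = Q₁
  · have h1 : Q₁ ≤ Q₂ := by rw [← hDQ₁]; exact inf_le_right
    have h2 := hQ₁.2 Q₂ hQ₂.1 h1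
    rw [h2]; exact KConj.refl A Q₁
  by_cases hDQ₂ : D = Q₂
  · have h1 : Q₂ ≤ Q₁ := by rw [← hDQ₂]; exact inf_le_left
    have h2 := hQ₂.2 Q₁ hQ₁.1 h1
    rw [h2]; exact KConj.refl A Q₂
  have hQ₁q := isPGroup_of_mem_maxInv hQ₁
  have hQ₂q := isPGroup_of_mem_maxInv hQ₂
  obtain ⟨y₁, hy₁Q, hy₁D, hy₁N⟩ :=
    Cfsg.Agent.Lib.Helper4.CNMax.exists_normalizer_not_mem hQ₁q.isNilpotent (inf_le_left : D ≤ Q₁) hDQ₁
  obtain ⟨y₂, hy₂Q, hy₂D, hy₂N⟩ :=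
    Cfsg.Agent.Lib.Helper4.CNMax.exists_normalizer_not_mem hQ₂q.isNilpotent (inf_le_right : D ≤ Q₂) hDQ₂
  set N := Subgroup.normalizer (D : Set G) with hN
  have hAD : A ≤ N := (le_inf hQ₁.1.2.2 hQ₂.1.2.2).trans (normalizer_inf_le' Q₁ Q₂)
  have hNtop : N ≠ ⊤ := by
    intro h0
    have := hG.2.1
    have hn : D.Normal := Subgroup.normalizer_eq_top_iff.mp h0
    rcases hn.eq_bot_or_eq_top with h1 | h1
    · exact hD1 h1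
    · apply hDQ₁
      rw [h1, eq_comm, eq_top_iff, ← h1]; exact inf_le_left
  have hAN : A ≤ Subgroup.normalizer (N : Set G) := hAD.trans Subgroup.le_normalizer
  -- the subgroups `R_i = N_{Q_i}(D)`
  have hR : ∀ (Q : Subgroup G) (y : G), Q ∈ maxInvSubgroups ⊤ A {q} → D ≤ Q → y ∈ Q → y ∉ D → y ∈ N →
      Nat.card D < Nat.card (Q ⊓ N : Subgroup G) := by
    intro Q y _ hDQ hyQ hyD hyN
    by_contra hcon
    push Not at hcon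
    have hle : D ≤ Q ⊓ N := le_inf hDQ Subgroup.le_normalizer
    have := Subgroup.eq_of_le_of_card_ge hle hcon
    apply hyD
    rw [this]; exact ⟨hyQ, hyN⟩
  have hR₁ := hR Q₁ y₁ hQ₁ inf_le_left hy₁Q hy₁D hy₁N
  have hR₂ := hR Q₂ y₂ hQ₂ inf_le_right hy₂Q hy₂D hy₂N
  apply bridge hG hA hq hqA hNtop hAD (inf_le_right : Q₁ ⊓ N ≤ N) (inf_le_right : Q₂ ⊓ N ≤ N)
    (hQ₁q.to_le inf_le_left) (hQ₂q.to_le inf_le_left)
    ((le_inf hQ₁.1.2.2 hAN).trans (normalizer_inf_le' Q₁ N))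
    ((le_inf hQ₂.1.2.2 hAN).trans (normalizer_inf_le' Q₂ N)) ?_ hQ₁ hQ₂ inf_le_left inf_le_left
  intro Q hQ Q' hQ' hor
  have hlt : Nat.card D < Nat.card (Q ⊓ Q' : Subgroup G) := by
    rcases hor with h | h
    · exact hR₁.trans_le (Subgroup.card_le_of_le h)
    · exact hR₂.trans_le (Subgroup.card_le_of_le h)
  have hne : Q ⊓ Q' ≠ ⊥ := by
    intro h0
    rw [h0, Subgroup.card_bot] at hlt
    have : 0 < Nat.card D := Nat.card_pos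
    omega
  have hle : Nat.card (Q ⊓ Q' : Subgroup G) ≤ Nat.card G := Subgroup.card_le_card_group _
  exact ih (Nat.card G - Nat.card (Q ⊓ Q' : Subgroup G)) (by omega) Q hQ Q' hQ' hne rfl

/-- BG Theorem 7.2 -/
theorem theorem_7_2 (hG : IsMinSimpleOddOrder G) {A : Subgroup G} (hA : TransitivityHypothesis A)
    {q : ℕ} (hq : q.Prime) (hqA : ¬ q ∣ Nat.card A) {Q₁ Q₂ : Subgroup G}
    (h₁ : Q₁ ∈ maxInvSubgroups ⊤ A {q}) (h₂ : Q₂ ∈ maxInvSubgroups ⊤ A {q})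
    {H : Subgroup G} (hH : H ≠ ⊤) (hAH : A ≤ H) (hH₁ : H ⊓ Q₁ ≠ ⊥) (hH₂ : H ⊓ Q₂ ≠ ⊥) :
    KConj A Q₁ Q₂ := by
  haveI : Fact q.Prime := ⟨hq⟩
  have hQ₁q := isPGroup_of_mem_maxInv h₁
  have hQ₂q := isPGroup_of_mem_maxInv h₂
  have hAH' : A ≤ Subgroup.normalizer (H : Set G) := hAH.trans Subgroup.le_normalizer
  apply bridge hG hA hq hqA hH hAH (inf_le_left : H ⊓ Q₁ ≤ H) (inf_le_left : H ⊓ Q₂ ≤ H)
    (hQ₁q.to_le inf_le_right) (hQ₂q.to_le inf_le_right)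
    ((le_inf hAH' h₁.1.2.2).trans (normalizer_inf_le' H Q₁))
    ((le_inf hAH' h₂.1.2.2).trans (normalizer_inf_le' H Q₂)) ?_ h₁ h₂ inf_le_right inf_le_right
  intro Q hQ Q' hQ' hor
  have hne : Q ⊓ Q' ≠ ⊥ := by
    intro h0
    rcases hor with h | h
    · rw [h0] at h; exact hH₁ (le_bot_iff.mp h)
    · rw [h0] at h; exact hH₂ (le_bot_iff.mp h)
  exact kconj_of_inf_ne_bot hG hA hq hqA _ Q hQ Q' hQ' hne rfl

end Cfsg.Agent.Lib.Helper4.BG7
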