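import Mathlib
import Cfsg.Prelude.Def_Local
import Cfsg.Agent.Lib.Helper6.PPrimeCore
import Cfsg.Agent.Lib.Lead.Core
import Cfsg.Agent.Lib.Lead.HallTools
import Cfsg.Agent.Lib.Lead.CoprimeTools

set_option autoImplicit false

namespace Cfsg.Agent.Lib.Helper4

open Cfsg

variable {G : Type*} [Group G] (p : ℕ)

theorem upperPSeries_zero : (upperPSeries p G 0).1 = ⊥ := rfl

theorem upperPSeries_succ_even (n : ℕ) (hn : Even n) : (upperPSeries p G (n + 1)).1 =
    (pPrimeCore p (G ⧸ (upperPSeries p G n).1)).comap (QuotientGroup.mk' _) := by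
  rw [upperPSeries]
  simp only [hn, if_true]

theorem upperPSeries_succ_odd (n : ℕ) (hn : ¬ Even n) : (upperPSeries p G (n + 1)).1 =
    (pCore p (G ⧸ (upperPSeries p G n).1)).comap (QuotientGroup.mk' _) := by
  rw [upperPSeries]
  simp only [hn, if_false]

theorem upperPSeries_le_succ (n : ℕ) : (upperPSeries p G n).1 ≤ (upperPSeries p G (n + 1)).1 := by
  by_cases hn : Even n
  · rw [upperPSeries_succ_even p n hn]
    intro x hx
    rw [Subgroup.mem_comap]
    have : QuotientGroup.mk' (upperPSeries p G n).1 x = 1 := (QuotientGroup.eq_one_iff x).mpr hx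
    rw [this]; exact Subgroup.one_mem _
  · rw [upperPSeries_succ_odd p n hn]
    intro x hx
    rw [Subgroup.mem_comap]
    have : QuotientGroup.mk' (upperPSeries p G n).1 x = 1 := (QuotientGroup.eq_one_iff x).mpr hx
    rw [this]; exact Subgroup.one_mem _

/-- `O_{p'}(G)` (term 1 of the upper `p`-series) has order prime to `p`. -/
theorem upperPSeries_one_coprime [Finite G] : (Nat.card (upperPSeries p G 1).1).Coprime p := by
  rw [upperPSeries_succ_even p 0 (by decide), Cfsg.Agent.Lib.Lead.card_comap_mk]
  have h1 : Nat.card (upperPSeries p G 0).1 = 1 := by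
    rw [upperPSeries_zero]; exact Subgroup.card_bot
  rw [h1, mul_one]
  exact Cfsg.Agent.Lib.Helper6.pPrimeCore_coprime p

/-- `|O_{p',p}(G)| = p^k |O_{p'}(G)|`. -/
theorem upperPSeries_two_card [Finite G] [Fact p.Prime] :
    ∃ k : ℕ, Nat.card (upperPSeries p G 2).1 = p ^ k * Nat.card (upperPSeries p G 1).1 := by
  rw [upperPSeries_succ_odd p 1 (by decide), Cfsg.Agent.Lib.Lead.card_comap_mk]
  obtain ⟨k, hk⟩ := (IsPGroup.iff_card).mp
    (Cfsg.Agent.Lib.Lead.pCore_isPGroup (G := G ⧸ (upperPSeries p G 1).1) p)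
  exact ⟨k, by rw [hk]⟩

/-- if the `p`-length is at most one, `G / O_{p',p}(G)` is a `p'`-group -/
theorem upperPSeries_two_index_coprime [Finite G] (h : PLengthLE p 1 G) :
    ((upperPSeries p G 2).1.index).Coprime p := by
  have h3 : (upperPSeries p G 3).1 = ⊤ := h
  rw [upperPSeries_succ_even p 2 (by decide)] at h3
  have h4 : pPrimeCore p (G ⧸ (upperPSeries p G 2).1) = ⊤ := by
    rw [eq_top_iff]
    intro x _
    obtain ⟨y, rfl⟩ := QuotientGroup.mk'_surjective _ x
    have : y ∈ (pPrimeCore p (G ⧸ (upperPSeries p G 2).1)).comap (QuotientGroup.mk' _) := by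
      rw [h3]; trivial
    exact this
  have h5 := Cfsg.Agent.Lib.Helper6.pPrimeCore_coprime (G := G ⧸ (upperPSeries p G 2).1) p
  rw [h4, Subgroup.card_top] at h5
  rw [Subgroup.index_eq_card]
  exact h5

/-- Structure of a group of `p`-length one: `K = O_{p'}(G)` is a normal `p'`-subgroup with
`G = K N_G(S)` and `K S` normal, for a Sylow `p`-subgroup `S`. -/
theorem plength_one_frattini [Finite G] [Fact p.Prime] (h : PLengthLE p 1 G) (S : Sylow p G) :
    (Nat.card (upperPSeries p G 1).1).Coprime p ∧
      (upperPSeries p G 1).1 ⊔ (S : Subgroup G) = (upperPSeries p G 2).1 ∧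
      (upperPSeries p G 1).1 ⊔ Subgroup.normalizer ((S : Subgroup G) : Set G) = ⊤ := by
  have hK := upperPSeries_one_coprime (G := G) p
  obtain ⟨k, hk⟩ := upperPSeries_two_card (G := G) p
  have hidx := upperPSeries_two_index_coprime p h
  have hp : p.Prime := Fact.out
  -- |S| = p^k
  have hG : Nat.card G = p ^ k * ((upperPSeries p G 2).1.index * Nat.card (upperPSeries p G 1).1) := by
    rw [← (upperPSeries p G 2).1.card_mul_index, hk]; ring
  have hcop : ((upperPSeries p G 2).1.index * Nat.card (upperPSeries p G 1).1).Coprime p :=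
    Nat.Coprime.mul_left hidx hK
  have hfac : (Nat.card G).factorization p = k := by
    have hne1 : p ^ k ≠ 0 := pow_ne_zero _ hp.ne_zero
    have hne2 : (upperPSeries p G 2).1.index * Nat.card (upperPSeries p G 1).1 ≠ 0 := by
      apply mul_ne_zero Subgroup.index_ne_zero_of_finite
      exact Nat.card_pos.ne'
    rw [hG, Nat.factorization_mul hne1 hne2, Finsupp.add_apply, hp.factorization_pow,
      Finsupp.single_eq_same]
    have : ¬ p ∣ (upperPSeries p G 2).1.index * Nat.card (upperPSeries p G 1).1 := by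
      intro hd
      have := Nat.Coprime.eq_one_of_dvd hcop.symm hd
      exact hp.one_lt.ne' this
    rw [Nat.factorization_eq_zero_of_not_dvd this, add_zero]
  have hS : Nat.card S = p ^ k := by rw [Sylow.card_eq_multiplicity, hfac]
  -- S ≤ U₂
  have hSU : (S : Subgroup G) ≤ (upperPSeries p G 2).1 := by
    intro x hx
    have h1 : IsPGroup p ((S : Subgroup G).map (QuotientGroup.mk' (upperPSeries p G 2).1)) :=
      IsPGroup.map S.isPGroup' _
    have h2 : Nat.card ((S : Subgroup G).map (QuotientGroup.mk' (upperPSeries p G 2).1)) = 1 := by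
      rcases h1.card_eq_or_dvd with h | h
      · exact h
      · exfalso
        have h3 := h.trans (Subgroup.card_subgroup_dvd_card _)
        rw [← Subgroup.index_eq_card] at h3
        have := Nat.Coprime.eq_one_of_dvd hidx.symm h3
        exact hp.one_lt.ne' this
    have h3 := Subgroup.card_eq_one.mp h2
    have : QuotientGroup.mk' (upperPSeries p G 2).1 x ∈
        (S : Subgroup G).map (QuotientGroup.mk' (upperPSeries p G 2).1) :=
      Subgroup.mem_map_of_mem _ hx
    rw [h3, Subgroup.mem_bot] at this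
    exact (QuotientGroup.eq_one_iff x).mp this
  have hKU : (upperPSeries p G 1).1 ≤ (upperPSeries p G 2).1 := upperPSeries_le_succ p 1
  have hsup : (upperPSeries p G 1).1 ⊔ (S : Subgroup G) = (upperPSeries p G 2).1 := by
    apply Subgroup.eq_of_le_of_card_ge (sup_le hKU hSU)
    have hd : (S : Subgroup G) ⊓ (upperPSeries p G 1).1 = ⊥ := by
      apply Subgroup.inf_eq_bot_of_coprime
      rw [hS]
      exact Nat.Coprime.pow_left k hK.symm
    have hn : (S : Subgroup G) ≤ Subgroup.normalizer ((upperPSeries p G 1).1 : Set G) := by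
      rw [Subgroup.normalizer_eq_top]; exact le_top
    have := Cfsg.Agent.Lib.Lead.card_sup_of_disjoint (S : Subgroup G) (upperPSeries p G 1).1 hn hd
    rw [sup_comm] at this
    rw [this, hS, hk]
  refine ⟨hK, hsup, ?_⟩
  have hfr := Sylow.normalizer_sup_eq_top' S hSU
  rw [← hsup] at hfr
  rw [eq_top_iff, ← hfr]
  apply sup_le
  · exact le_sup_right
  · apply sup_le le_sup_left
    exact Subgroup.le_normalizer.trans le_sup_right

end Cfsg.Agent.Lib.Helper4
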