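import Mathlib
import Cfsg.Agent.Lib.Helper4.SolvBalance
import Cfsg.Agent.Lib.Lead.OddStable
import Cfsg.Agent.Lib.Helper4.OmegaOdd
import Cfsg.Agent.Lib.Helper4.PLength
import Cfsg.Agent.Lib.Helper4.BG7c
import Cfsg.Agent.S0026

set_option autoImplicit false
open Pointwise
open scoped commutatorElement

/-! Bender–Glauberman Theorem 7.6: abstract lemmas in a solvable group of odd order, modulo `O_{p'}`. -/

namespace Cfsg.Agent.Lib.Helper4.BG76

open Cfsg Cfsg.Agent.Lib.Helper4 Cfsg.Agent.Lib.Lead Cfsg.Agent.Lib.Helper6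

universe u

variable {X : Type u} [Group X] [Finite X]

theorem eq_one_of_map_eq_one {p : ℕ} [Fact p.Prime] {T : Subgroup X} (hT : IsPGroup p T) {x : X}
    (hx : x ∈ T) (h : QuotientGroup.mk' (pPrimeCore p X) x = 1) : x = 1 := by
  have h1 : x ∈ T ⊓ pPrimeCore p X := ⟨hx, (QuotientGroup.eq_one_iff x).mp h⟩
  rw [isPGroup_inf_coprime_eq_bot (pPrimeCore_coprime p) hT] at h1
  exact Subgroup.mem_bot.mp h1

theorem pCore_le_map_sylow {p : ℕ} [Fact p.Prime] (T : Sylow p X) :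
    pCore p (X ⧸ pPrimeCore p X) ≤ (T : Subgroup X).map (QuotientGroup.mk' (pPrimeCore p X)) := by
  have hs : Function.Surjective (QuotientGroup.mk' (pPrimeCore p X)) := QuotientGroup.mk'_surjective _
  rw [pCore_eq_iInf_sylow]
  have h1 := iInf_le (fun P : Sylow p (X ⧸ pPrimeCore p X) => (P : Subgroup (X ⧸ pPrimeCore p X)))
    (T.mapSurjective hs)
  rw [Sylow.coe_mapSurjective] at h1
  exact h1

/-- AL1: an element central in a subgroup normal in a Sylow subgroup acts quadratically, hence lies in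
`O_{p',p}`. -/
theorem map_mem_pCore_of_central [Group.IsSolvable X] (hodd : Odd (Nat.card X)) {p : ℕ} [Fact p.Prime]
    (hp : p ≠ 2) (T : Sylow p X) {P₁ : Subgroup X} (hP₁T : P₁ ≤ (T : Subgroup X))
    (hTN : (T : Subgroup X) ≤ Subgroup.normalizer (P₁ : Set X)) {z : X} (hz : z ∈ P₁)
    (hzc : ∀ y ∈ P₁, z * y = y * z) :
    QuotientGroup.mk' (pPrimeCore p X) z ∈ pCore p (X ⧸ pPrimeCore p X) := by
  set φ := QuotientGroup.mk' (pPrimeCore p X) with hφ
  have hodd' : Odd (Nat.card (X ⧸ pPrimeCore p X)) :=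
    Odd.of_dvd_nat hodd (Subgroup.card_quotient_dvd_card _)
  have hst := OddStable.isNormalizerPStable_of_odd hodd' hp
  have hc := OddStable.centralizer_pCore_le_of_solvable (p := p) (G := X ⧸ pPrimeCore p X)
    (pPrimeCore_quotient_self p)
  apply OddStable.mem_pCore_of_quadratic hst hc
  have hRT := pCore_le_map_sylow T
  rw [Subgroup.commutator_eq_bot_iff_le_centralizer]
  have h1 : ⁅pCore p (X ⧸ pPrimeCore p X), Subgroup.zpowers (φ z)⁆ ≤ P₁.map φ := by
    rw [Subgroup.commutator_le]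
    intro r hr w hw
    obtain ⟨t, ht, rfl⟩ := hRT hr
    obtain ⟨i, rfl⟩ := Subgroup.mem_zpowers_iff.mp hw
    refine ⟨t * z ^ i * t⁻¹ * (z ^ i)⁻¹, ?_, ?_⟩
    · exact P₁.mul_mem ((Subgroup.mem_normalizer_iff.mp (hTN ht) (z ^ i)).mp (P₁.zpow_mem hz i))
        (P₁.inv_mem (P₁.zpow_mem hz i))
    · rw [commutatorElement_def]
      simp only [map_mul, map_inv, map_zpow]
      rfl
  refine h1.trans ?_
  rintro _ ⟨y, hy, rfl⟩
  rw [Subgroup.mem_centralizer_iff]
  intro w hw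
  obtain ⟨i, rfl⟩ := Subgroup.mem_zpowers_iff.mp hw
  have h2 : Commute z y := hzc y hy
  have h3 : z ^ i * y = y * z ^ i := (h2.zpow_left i).eq
  rw [← map_zpow, ← map_mul, ← map_mul, h3]

/-- AL2 -/
theorem comm_mem_pPrimeCore {p : ℕ} [Fact p.Prime] {K : Subgroup X} (hK : (Nat.card K).Coprime p)
    {z : X} (hzK : z ∈ Subgroup.normalizer (K : Set X))
    (hz : QuotientGroup.mk' (pPrimeCore p X) z ∈ pCore p (X ⧸ pPrimeCore p X)) :
    ∀ k ∈ K, k * z * k⁻¹ * z⁻¹ ∈ pPrimeCore p X := by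
  intro k hk
  set φ := QuotientGroup.mk' (pPrimeCore p X) with hφ
  have hRn : (pCore p (X ⧸ pPrimeCore p X)).Normal := Lead.pCore_normal p
  have hcop : (Nat.card (K.map φ)).Coprime p :=
    Nat.Coprime.coprime_dvd_left (Subgroup.card_map_dvd K φ) hK
  have h1 : φ (k * z * k⁻¹ * z⁻¹) ∈ pCore p (X ⧸ pPrimeCore p X) := by
    have e : φ (k * z * k⁻¹ * z⁻¹) = (φ k * φ z * (φ k)⁻¹) * (φ z)⁻¹ := by
      simp only [map_mul, map_inv]
    rw [e]
    exact Subgroup.mul_mem _ (hRn.conj_mem _ hz _) (Subgroup.inv_mem _ hz)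
  have h2 : φ (k * z * k⁻¹ * z⁻¹) ∈ K.map φ := by
    refine ⟨_, ?_, rfl⟩
    have h3 : z * k⁻¹ * z⁻¹ ∈ K := (Subgroup.mem_normalizer_iff.mp hzK k⁻¹).mp (K.inv_mem hk)
    have e : k * z * k⁻¹ * z⁻¹ = k * (z * k⁻¹ * z⁻¹) := by group
    rw [e]; exact K.mul_mem hk h3
  have h3 : φ (k * z * k⁻¹ * z⁻¹) ∈ pCore p (X ⧸ pPrimeCore p X) ⊓ K.map φ := ⟨h1, h2⟩
  rw [isPGroup_inf_coprime_eq_bot hcop (Lead.pCore_isPGroup p), Subgroup.mem_bot] at h3
  exact (QuotientGroup.eq_one_iff (k * z * k⁻¹ * z⁻¹)).mp h3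

/-- AL3: the `A × B` lemma modulo `O_{p'}` -/
theorem le_pPrimeCore_of_centralizes [Group.IsSolvable X] {p : ℕ} [Fact p.Prime] {A K₀ : Subgroup X}
    (hA : IsPGroup p A) (hK₀ : (Nat.card K₀).Coprime p)
    (hKA : K₀ ≤ Subgroup.centralizer (A : Set X))
    (hC : pCore p (X ⧸ pPrimeCore p X) ⊓
        Subgroup.centralizer ((A.map (QuotientGroup.mk' (pPrimeCore p X)) : Subgroup _) : Set _) ≤
      Subgroup.centralizer ((K₀.map (QuotientGroup.mk' (pPrimeCore p X)) : Subgroup _) : Set _)) :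
    K₀ ≤ pPrimeCore p X := by
  set φ := QuotientGroup.mk' (pPrimeCore p X) with hφ
  set R := pCore p (X ⧸ pPrimeCore p X) with hR
  have hRn : R.Normal := Lead.pCore_normal p
  have hcop : (Nat.card (K₀.map φ)).Coprime p :=
    Nat.Coprime.coprime_dvd_left (Subgroup.card_map_dvd K₀ φ) hK₀
  have hPQ : A.map φ ≤ Subgroup.centralizer ((K₀.map φ : Subgroup _) : Set _) := by
    rintro _ ⟨a, ha, rfl⟩
    rw [Subgroup.mem_centralizer_iff]
    rintro _ ⟨k, hk, rfl⟩
    have h1 := Subgroup.mem_centralizer_iff.mp (hKA hk) a ha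
    rw [← map_mul, ← map_mul, h1]
  have hN : ∀ Y : Subgroup (X ⧸ pPrimeCore p X), Y ≤ Subgroup.normalizer (R : Set _) := by
    intro Y
    rw [Subgroup.normalizer_eq_top]; exact le_top
  have h1 : K₀.map φ ≤ Subgroup.centralizer (R : Set _) :=
    thompson_PQ p (A.map φ) (K₀.map φ) R (hA.map φ) hcop (Lead.pCore_isPGroup p) hPQ (hN _) (hN _) hC
  have h2 : K₀.map φ ≤ R := h1.trans (Cfsg.Agent.S0017.result p (pPrimeCore_quotient_self p))
  have h3 : K₀.map φ = ⊥ := by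
    have : K₀.map φ = R ⊓ K₀.map φ := (inf_eq_right.mpr h2).symm
    rw [this, isPGroup_inf_coprime_eq_bot hcop (Lead.pCore_isPGroup p)]
  intro k hk
  have : φ k ∈ K₀.map φ := ⟨k, hk, rfl⟩
  rw [h3, Subgroup.mem_bot] at this
  exact (QuotientGroup.eq_one_iff k).mp this

/-- AL4 -/
theorem map_le_pCore_of_pLength {p : ℕ} [Fact p.Prime] (h : PLengthLE p 1 X) {A : Subgroup X}
    (hA : IsPGroup p A) :
    A.map (QuotientGroup.mk' (pPrimeCore p X)) ≤ pCore p (X ⧸ pPrimeCore p X) := by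
  set φ := QuotientGroup.mk' (pPrimeCore p X) with hφ
  obtain ⟨S, hAS⟩ := hA.exists_le_sylow
  obtain ⟨h1, h2, -⟩ := plength_one_frattini p h S
  have hU₁n : (upperPSeries p X 1).1.Normal := (upperPSeries p X 1).2
  have hU₂n : (upperPSeries p X 2).1.Normal := (upperPSeries p X 2).2
  have hU₁ : (upperPSeries p X 1).1 ≤ pPrimeCore p X := le_pPrimeCore hU₁n h1
  have hAU : A ≤ (upperPSeries p X 2).1 := by rw [← h2]; exact hAS.trans le_sup_right
  have h3 : (upperPSeries p X 2).1.map φ = (S : Subgroup X).map φ := by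
    rw [← h2, Subgroup.map_sup]
    have : (upperPSeries p X 1).1.map φ = ⊥ := by
      rw [eq_bot_iff]
      rintro _ ⟨x, hx, rfl⟩
      exact Subgroup.mem_bot.mpr ((QuotientGroup.eq_one_iff x).mpr (hU₁ hx))
    rw [this, bot_sup_eq]
  have h4 : ((upperPSeries p X 2).1.map φ).Normal :=
    Subgroup.Normal.map hU₂n φ (QuotientGroup.mk'_surjective _)
  have h5 : IsPGroup p ((upperPSeries p X 2).1.map φ) := by
    rw [h3]; exact S.isPGroup'.map φ
  exact (Subgroup.map_mono hAU).trans (Lead.le_pCore h4 h5)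

end Cfsg.Agent.Lib.Helper4.BG76
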