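import Mathlib
import Cfsg.Agent.Lib.Helper4.BG76a

set_option autoImplicit false
open Pointwise
open scoped commutatorElement

/-! Bender–Glauberman Theorem 7.6: the three abstract claims. -/

namespace Cfsg.Agent.Lib.Helper4.BG76

open Cfsg Cfsg.Agent.Lib.Helper4 Cfsg.Agent.Lib.Lead Cfsg.Agent.Lib.Helper6

universe u

variable {X : Type u} [Group X] [Finite X]

theorem le_of_comm_le_of_fixed_le [Group.IsSolvable X] {A K N : Subgroup X}
    (hAK : A ≤ Subgroup.normalizer (K : Set X)) (hcop : (Nat.card A).Coprime (Nat.card K))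
    (h1 : ∀ k ∈ K, ∀ a ∈ A, k * a * k⁻¹ * a⁻¹ ∈ N)
    (h2 : K ⊓ Subgroup.centralizer (A : Set X) ≤ N) : K ≤ N := by
  rw [← Cfsg.Agent.S0026.result A K hAK hcop (Or.inr inferInstance)]
  apply sup_le _ h2
  rw [Subgroup.commutator_le]
  intro k hk a ha
  rw [commutatorElement_def]
  exact h1 k hk a ha

theorem coprime_card_of_isPGroup {p : ℕ} [Fact p.Prime] {A K : Subgroup X} (hA : IsPGroup p A)
    (hK : (Nat.card K).Coprime p) : (Nat.card A).Coprime (Nat.card K) := by
  obtain ⟨n, hn⟩ := IsPGroup.iff_card.mp hA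
  rw [hn]
  exact Nat.Coprime.pow_left n hK.symm

/-- AC1: `A` abelian, normal and self-centralizing in a Sylow `p`-subgroup. -/
theorem claim_sylow [Group.IsSolvable X] (hodd : Odd (Nat.card X)) {p : ℕ} [Fact p.Prime]
    (hp : p ≠ 2) (T : Sylow p X) {A : Subgroup X} (hAT : A ≤ (T : Subgroup X))
    (hTN : (T : Subgroup X) ≤ Subgroup.normalizer (A : Set X))
    (hAc : ∀ a ∈ A, ∀ b ∈ A, a * b = b * a)
    (hself : ∀ t ∈ (T : Subgroup X), (∀ a ∈ A, t * a = a * t) → t ∈ A)
    {K : Subgroup X} (hK : (Nat.card K).Coprime p) (hAK : A ≤ Subgroup.normalizer (K : Set X)) :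
    K ≤ pPrimeCore p X := by
  have hAp : IsPGroup p A := T.isPGroup'.to_le hAT
  set φ := QuotientGroup.mk' (pPrimeCore p X) with hφ
  apply le_of_comm_le_of_fixed_le hAK (coprime_card_of_isPGroup hAp hK)
  · intro k hk a ha
    exact comm_mem_pPrimeCore hK (hAK ha)
      (map_mem_pCore_of_central hodd hp T hAT hTN ha (fun y hy => hAc a ha y hy)) k hk
  · have hcop0 : (Nat.card (K ⊓ Subgroup.centralizer (A : Set X) : Subgroup X)).Coprime p :=
      Nat.Coprime.coprime_dvd_left (Subgroup.card_dvd_of_le inf_le_left) hK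
    apply le_pPrimeCore_of_centralizes hAp hcop0 inf_le_right
    rintro r ⟨hrR, hrC⟩
    obtain ⟨t, ht, rfl⟩ := pCore_le_map_sylow T hrR
    have htA : t ∈ A := by
      apply hself t ht
      intro a ha
      have h1 : φ a * φ t = φ t * φ a := Subgroup.mem_centralizer_iff.mp hrC (φ a) ⟨a, ha, rfl⟩
      have h2 : φ (t * a * t⁻¹ * a⁻¹) = 1 := by
        rw [map_mul, map_mul, map_mul, ← h1, map_inv, map_inv]
        group
      have h3 : t * a * t⁻¹ * a⁻¹ ∈ (T : Subgroup X) :=
        Subgroup.mul_mem _ (Subgroup.mul_mem _ (Subgroup.mul_mem _ ht (hAT ha)) (Subgroup.inv_mem _ ht))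
          (Subgroup.inv_mem _ (hAT ha))
      have h4 := eq_one_of_map_eq_one T.isPGroup' h3 h2
      calc t * a = (t * a * t⁻¹ * a⁻¹) * (a * t) := by group
        _ = a * t := by rw [h4, one_mul]
    rw [Subgroup.mem_centralizer_iff]
    rintro _ ⟨k, hk, rfl⟩
    have h5 := Subgroup.mem_centralizer_iff.mp hk.2 t htA
    show φ k * φ t = φ t * φ k
    rw [← map_mul, ← map_mul, h5]

/-- AC2 -/
theorem claim_central [Group.IsSolvable X] (hodd : Odd (Nat.card X)) {p : ℕ} [Fact p.Prime]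
    (hp : p ≠ 2) (T : Sylow p X) {P₁ : Subgroup X} (hP₁T : P₁ ≤ (T : Subgroup X))
    (hTN : (T : Subgroup X) ≤ Subgroup.normalizer (P₁ : Set X)) {z : X} (hz : z ∈ P₁)
    (hzc : ∀ y ∈ P₁, z * y = y * z) {K : Subgroup X} (hK : (Nat.card K).Coprime p)
    (hzK : z ∈ Subgroup.normalizer (K : Set X))
    (hfix : K ⊓ Subgroup.centralizer ({z} : Set X) ≤ pPrimeCore p X) : K ≤ pPrimeCore p X := by
  have hAp : IsPGroup p (Subgroup.zpowers z) :=
    T.isPGroup'.to_le ((Subgroup.zpowers_le.mpr hz).trans hP₁T)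
  have hAK : Subgroup.zpowers z ≤ Subgroup.normalizer (K : Set X) := Subgroup.zpowers_le.mpr hzK
  have hzR := map_mem_pCore_of_central hodd hp T hP₁T hTN hz hzc
  apply le_of_comm_le_of_fixed_le hAK (coprime_card_of_isPGroup hAp hK)
  · intro k hk a ha
    obtain ⟨i, rfl⟩ := Subgroup.mem_zpowers_iff.mp ha
    apply comm_mem_pPrimeCore hK (hAK ha) _ k hk
    rw [map_zpow]
    exact Subgroup.zpow_mem _ hzR i
  · refine le_trans (inf_le_inf_left K ?_) hfix
    apply Subgroup.centralizer_le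
    intro x hx
    rw [Set.mem_singleton_iff] at hx
    rw [hx]; exact Subgroup.mem_zpowers z

/-- AC3 -/
theorem claim_plength [Group.IsSolvable X] {p : ℕ} [Fact p.Prime] (hp : p ≠ 2)
    (hpl : PLengthLE p 1 X) {A : Subgroup X} (hAp : IsPGroup p A)
    (hself : ∀ x ∈ Subgroup.centralizer (A : Set X), x ^ p = 1 → x ∈ A)
    {K : Subgroup X} (hK : (Nat.card K).Coprime p) (hAK : A ≤ Subgroup.normalizer (K : Set X)) :
    K ≤ pPrimeCore p X := by
  set φ := QuotientGroup.mk' (pPrimeCore p X) with hφ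
  have hAR := map_le_pCore_of_pLength hpl hAp
  apply le_of_comm_le_of_fixed_le hAK (coprime_card_of_isPGroup hAp hK)
  · intro k hk a ha
    exact comm_mem_pPrimeCore hK (hAK ha) (hAR ⟨a, ha, rfl⟩) k hk
  · have hcop0 : (Nat.card (K ⊓ Subgroup.centralizer (A : Set X) : Subgroup X)).Coprime p :=
      Nat.Coprime.coprime_dvd_left (Subgroup.card_dvd_of_le inf_le_left) hK
    apply le_pPrimeCore_of_centralizes hAp hcop0 inf_le_right
    set K₀ := K ⊓ Subgroup.centralizer (A : Set X) with hK₀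
    set R := pCore p (X ⧸ pPrimeCore p X) with hR
    set D := R ⊓ Subgroup.centralizer ((A.map φ : Subgroup _) : Set _) with hD
    have hcop1 : (Nat.card (K₀.map φ)).Coprime p :=
      Nat.Coprime.coprime_dvd_left (Subgroup.card_map_dvd K₀ φ) hcop0
    have hDp : IsPGroup p D := (Lead.pCore_isPGroup p).to_le inf_le_left
    have hKC : K₀.map φ ≤ Subgroup.centralizer ((A.map φ : Subgroup _) : Set _) := by
      rintro _ ⟨k, hk, rfl⟩
      rw [Subgroup.mem_centralizer_iff]
      rintro _ ⟨a, ha, rfl⟩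
      have h1 := Subgroup.mem_centralizer_iff.mp hk.2 a ha
      rw [← map_mul, ← map_mul, h1]
    have hKD : K₀.map φ ≤ Subgroup.normalizer (D : Set _) := by
      refine le_trans ?_ (Cfsg.Agent.Lib.Helper4.BG7.normalizer_inf_le' _ _)
      apply le_inf
      · rw [Subgroup.normalizer_eq_top_iff.mpr (Lead.pCore_normal p)]; exact le_top
      · exact hKC.trans Subgroup.le_normalizer
    obtain ⟨S, hAS⟩ := hAp.exists_le_sylow
    have key := coprime_centralizes_of_omega_one hp (K₀.map φ) D hcop1 hDp hKD ?_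
    · exact Subgroup.le_centralizer_iff.mp key
    · rintro x ⟨hxR, hxC⟩ hxp _ ⟨k, hk, rfl⟩
      obtain ⟨s, hs, rfl⟩ := pCore_le_map_sylow S hxR
      have hsp : s ^ p = 1 := by
        apply eq_one_of_map_eq_one S.isPGroup' (Subgroup.pow_mem _ hs p)
        rw [map_pow]; exact hxp
      have hsC : s ∈ Subgroup.centralizer (A : Set X) := by
        rw [Subgroup.mem_centralizer_iff]
        intro a ha
        have h1 : φ a * φ s = φ s * φ a := Subgroup.mem_centralizer_iff.mp hxC (φ a) ⟨a, ha, rfl⟩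
        have h2 : φ (a * s * a⁻¹ * s⁻¹) = 1 := by
          rw [map_mul, map_mul, map_mul, h1, map_inv, map_inv]
          group
        have h3 : a * s * a⁻¹ * s⁻¹ ∈ (S : Subgroup X) :=
          Subgroup.mul_mem _ (Subgroup.mul_mem _ (Subgroup.mul_mem _ (hAS ha) hs)
            (Subgroup.inv_mem _ (hAS ha))) (Subgroup.inv_mem _ hs)
        have h4 := eq_one_of_map_eq_one S.isPGroup' h3 h2
        calc a * s = (a * s * a⁻¹ * s⁻¹) * (s * a) := by group
          _ = s * a := by rw [h4, one_mul]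
      have hsA : s ∈ A := hself s hsC hsp
      have h5 := Subgroup.mem_centralizer_iff.mp hk.2 s hsA
      show φ k * φ s = φ s * φ k
      rw [← map_mul, ← map_mul, h5]

end Cfsg.Agent.Lib.Helper4.BG76
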