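import Mathlib
import Cfsg.Agent.Lib.Helper4.BG7c
import Cfsg.Agent.Lib.Helper2.Basic
import Cfsg.Agent.S1324

set_option autoImplicit false
open Pointwise

/-! Bender–Glauberman Section 7: Theorems 7.3 and 7.4. -/

namespace Cfsg.Agent.Lib.Helper4.BG7

open Cfsg Cfsg.Agent.Lib.Helper4

universe u

variable {G : Type u} [Group G] [Finite G]

/-- extraction of an elementary abelian subgroup from a rank assumption -/
theorem exists_elementary_of_not_rankLE {Z : Subgroup G} {k : ℕ} (h : ¬ RankLE k ↥Z) :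
    ∃ p : ℕ, p.Prime ∧ ∃ E : Subgroup G, E ≤ Z ∧ IsElementaryAbelian p E ∧ p ^ k < Nat.card E := by
  unfold RankLE at h
  push Not at h
  obtain ⟨p, hp, h1⟩ := h
  unfold PRankLE at h1
  push Not at h1
  obtain ⟨E', hc, he, hcard⟩ := h1
  refine ⟨p, hp, E'.map Z.subtype, Subgroup.map_subtype_le _, ⟨?_, ?_⟩, ?_⟩
  · refine ⟨⟨?_⟩⟩
    rintro ⟨_, ⟨a, ha, rfl⟩⟩ ⟨_, ⟨b, hb, rfl⟩⟩
    apply Subtype.ext
    have := hc.is_comm.comm ⟨a, ha⟩ ⟨b, hb⟩
    have h2 : a * b = b * a := congrArg Subtype.val this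
    show Z.subtype a * Z.subtype b = Z.subtype b * Z.subtype a
    rw [← map_mul, ← map_mul, h2]
  · rintro _ ⟨a, ha, rfl⟩
    rw [← map_pow, he a ha, map_one]
  · rw [Subgroup.card_map_of_injective Z.subtype_injective]
    exact hcard

theorem center_ne_top (hG : IsMinSimpleOddOrder G) {e : G} (he : e ≠ 1) :
    Subgroup.centralizer ({e} : Set G) ≠ ⊤ := by
  intro h0
  have := hG.2.1
  have hcen : e ∈ Subgroup.center G := by
    rw [Subgroup.mem_center_iff]
    intro g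
    have hg : g ∈ Subgroup.centralizer ({e} : Set G) := by rw [h0]; trivial
    exact (Subgroup.mem_centralizer_singleton_iff.mp hg)
  have hn : (Subgroup.center G).Normal := inferInstance
  rcases hn.eq_bot_or_eq_top with h1 | h1
  · rw [h1, Subgroup.mem_bot] at hcen
    exact he hcen
  · apply hG.2.2.1
    refine ⟨⟨fun a b => ?_⟩⟩
    have ha : a ∈ Subgroup.center G := by rw [h1]; trivial
    exact (Subgroup.mem_center_iff.mp ha b).symm

/-- a noncyclic elementary abelian group acting coprimely on a nontrivial group has a hyperplane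
with nontrivial fixed points -/
theorem exists_hyperplane_fixed {p : ℕ} [Fact p.Prime] {E Q : Subgroup G}
    (hE : IsElementaryAbelian p E) (hE2 : p ^ 2 ≤ Nat.card E) (hpQ : ¬ p ∣ Nat.card Q)
    (hEQ : E ≤ Subgroup.normalizer (Q : Set G)) (hQ1 : Q ≠ ⊥) :
    ∃ B : Subgroup G, B ≤ E ∧ B.relIndex E ≤ p ∧ Q ⊓ Subgroup.centralizer (B : Set G) ≠ ⊥ := by
  have h := Cfsg.Agent.S1324.result p E Q hE hE2 hpQ hEQ
  by_contra hcon
  push Not at hcon
  apply hQ1
  rw [h, eq_bot_iff]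
  apply iSup_le
  rintro ⟨B, hBE, hBi⟩
  rw [hcon B hBE hBi]

theorem card_mul_relIndex {B E : Subgroup G} (h : B ≤ E) : Nat.card B * B.relIndex E = Nat.card E := by
  have := Subgroup.relIndex_mul_relIndex ⊥ B E bot_le h
  rwa [Subgroup.relIndex_bot_left, Subgroup.relIndex_bot_left] at this

/-- two hyperplanes of an elementary abelian group of rank at least three meet nontrivially -/
theorem hyperplanes_inf_ne_bot {p : ℕ} [hp : Fact p.Prime] {E B₁ B₂ : Subgroup G}
    (hE : IsElementaryAbelian p E) (hE3 : p ^ 2 < Nat.card E) (h₁ : B₁ ≤ E) (h₂ : B₂ ≤ E)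
    (hi₁ : B₁.relIndex E ≤ p) (hi₂ : B₂.relIndex E ≤ p) : B₁ ⊓ B₂ ≠ ⊥ := by
  intro h0
  have hnorm : B₁ ≤ Subgroup.normalizer (B₂ : Set G) := by
    intro b hb
    rw [Subgroup.mem_normalizer_iff]
    intro x
    have key : ∀ c ∈ B₁, ∀ y ∈ B₂, c * y * c⁻¹ = y := by
      intro c hc y hy
      have := hE.1.is_comm.comm ⟨c, h₁ hc⟩ ⟨y, h₂ hy⟩
      have h3 : c * y = y * c := congrArg Subtype.val this
      rw [h3]; group
    constructor
    · intro hx
      rw [key b hb x hx]; exact hx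
    · intro hx
      have h4 := key b⁻¹ (B₁.inv_mem hb) _ hx
      have h5 : b⁻¹ * (b * x * b⁻¹) * b⁻¹⁻¹ = x := by group
      rw [h5] at h4
      rw [h4]; exact hx
  have h1 := Cfsg.Agent.Lib.Helper2.card_sup_mul_card_inf B₁ B₂ hnorm
  rw [h0, Subgroup.card_bot, mul_one] at h1
  have h2 : Nat.card (B₁ ⊔ B₂ : Subgroup G) ≤ Nat.card E := Subgroup.card_le_of_le (sup_le h₁ h₂)
  have h3 := card_mul_relIndex h₁
  have h4 := card_mul_relIndex h₂
  have hp1 : 0 < p := hp.out.pos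
  have h5 : Nat.card E ≤ Nat.card B₁ * p := by rw [← h3]; exact Nat.mul_le_mul_left _ hi₁
  have h6 : Nat.card E ≤ Nat.card B₂ * p := by rw [← h4]; exact Nat.mul_le_mul_left _ hi₂
  have h7 : Nat.card E * Nat.card E ≤ (Nat.card B₁ * p) * (Nat.card B₂ * p) := Nat.mul_le_mul h5 h6
  have h8 : (Nat.card B₁ * p) * (Nat.card B₂ * p) = (Nat.card B₁ * Nat.card B₂) * p ^ 2 := by ring
  rw [h8, ← h1] at h7
  have h9 : Nat.card E * Nat.card E ≤ Nat.card E * p ^ 2 :=
    h7.trans (Nat.mul_le_mul_right _ h2)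
  have hpos : 0 < Nat.card E := Nat.card_pos
  have h10 : Nat.card E ≤ p ^ 2 := Nat.le_of_mul_le_mul_left h9 hpos
  omega

theorem hyperplane_ne_bot {p : ℕ} [hp : Fact p.Prime] {E B : Subgroup G}
    (hE2 : p ^ 2 ≤ Nat.card E) (h : B ≤ E) (hi : B.relIndex E ≤ p) : B ≠ ⊥ := by
  intro h0
  subst h0
  have h3 := card_mul_relIndex h
  rw [Subgroup.card_bot, one_mul] at h3
  have hp2 : 2 ≤ p := hp.out.two_le
  have : p * 2 ≤ p ^ 2 := by rw [pow_two]; exact Nat.mul_le_mul_left _ hp2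
  omega

end Cfsg.Agent.Lib.Helper4.BG7
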