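import Mathlib
import Cfsg.Agent.Lib.Helper4.BG7d

set_option autoImplicit false
open Pointwise

/-! Bender–Glauberman Section 7: Theorems 7.3 and 7.4. -/

namespace Cfsg.Agent.Lib.Helper4.BG7

open Cfsg Cfsg.Agent.Lib.Helper4

universe u

variable {G : Type u} [Group G] [Finite G]

/-- the transitivity conclusion -/
def Transitive (A : Subgroup G) (q : ℕ) : Prop :=
  ∀ Q₁ ∈ maxInvSubgroups ⊤ A {q}, ∀ Q₂ ∈ maxInvSubgroups ⊤ A {q}, KConj A Q₁ Q₂

theorem bot_mem_inv (A : Subgroup G) (π : Set ℕ) : (⊥ : Subgroup G) ∈ invSubgroups ⊤ A π := by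
  refine ⟨le_top, ?_, ?_⟩
  · rw [Subgroup.card_bot]; exact isPiNum_one π
  · intro a _
    rw [Subgroup.mem_normalizer_iff]
    intro x
    rw [Subgroup.mem_bot, Subgroup.mem_bot]
    constructor
    · intro h; rw [h]; group
    · intro h
      have : x = a⁻¹ * (a * x * a⁻¹) * a := by group
      rw [this, h]; group

/-- data attached to a central elementary abelian subgroup -/
theorem setup_central {A E Q : Subgroup G} {p q : ℕ} [hp : Fact p.Prime] [hq : Fact q.Prime]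
    (hqA : ¬ q ∣ Nat.card A) (hEA : E ≤ A) (hE1 : E ≠ ⊥) (hE : IsElementaryAbelian p E)
    (hQ : Q ∈ maxInvSubgroups ⊤ A {q}) :
    ¬ p ∣ Nat.card Q ∧ E ≤ Subgroup.normalizer (Q : Set G) := by
  refine ⟨?_, hEA.trans hQ.1.2.2⟩
  intro hpQ
  have h1 : p = q := hQ.1.2.1 p hp.out hpQ
  apply hqA
  rw [← h1]
  have hEp : IsPGroup p E := by
    intro ⟨x, hx⟩
    refine ⟨1, ?_⟩
    apply Subtype.ext
    simp only [pow_one, Subgroup.coe_pow, Subgroup.coe_one]
    exact hE.2 x hx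
  rcases hEp.card_eq_or_dvd with h | h
  · exact absurd (Subgroup.card_eq_one.mp h) hE1
  · exact h.trans (Subgroup.card_dvd_of_le hEA)

theorem ne_bot_of_card_gt {E : Subgroup G} {n : ℕ} (h : n < Nat.card E) (hn : 1 ≤ n) : E ≠ ⊥ := by
  intro h0
  rw [h0, Subgroup.card_bot] at h
  omega

/-- BG Theorem 7.3 -/
theorem theorem_7_3 (hG : IsMinSimpleOddOrder G) {A : Subgroup G} (hA : TransitivityHypothesis A)
    (hZ : ¬ RankLE 2 ↥(A ⊓ Subgroup.centralizer (A : Set G))) {q : ℕ} (hq : q.Prime)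
    (hqA : ¬ q ∣ Nat.card A) : Transitive A q := by
  haveI : Fact q.Prime := ⟨hq⟩
  obtain ⟨p, hp, E, hEZ, hE, hE3⟩ := exists_elementary_of_not_rankLE hZ
  haveI : Fact p.Prime := ⟨hp⟩
  have hE1 : E ≠ ⊥ := ne_bot_of_card_gt hE3 (Nat.one_le_pow _ _ hp.pos)
  intro Q₁ hQ₁ Q₂ hQ₂
  by_cases h1 : Q₁ = ⊥
  · have := hQ₁.2 Q₂ hQ₂.1 (by rw [h1]; exact bot_le)
    rw [this]; exact KConj.refl A Q₁
  by_cases h2 : Q₂ = ⊥
  · have := hQ₂.2 Q₁ hQ₁.1 (by rw [h2]; exact bot_le)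
    rw [this]; exact KConj.refl A Q₂
  obtain ⟨hpQ₁, hEQ₁⟩ := setup_central hqA (hEZ.trans inf_le_left) hE1 hE hQ₁
  obtain ⟨hpQ₂, hEQ₂⟩ := setup_central hqA (hEZ.trans inf_le_left) hE1 hE hQ₂
  obtain ⟨B₁, hB₁E, hB₁i, hB₁Q⟩ := exists_hyperplane_fixed hE hE3.le hpQ₁ hEQ₁ h1
  obtain ⟨B₂, hB₂E, hB₂i, hB₂Q⟩ := exists_hyperplane_fixed hE hE3.le hpQ₂ hEQ₂ h2
  have hB := hyperplanes_inf_ne_bot hE hE3 hB₁E hB₂E hB₁i hB₂i
  obtain ⟨e, he, he1⟩ : ∃ e ∈ B₁ ⊓ B₂, e ≠ 1 := by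
    by_contra hcon
    push Not at hcon
    exact hB ((Subgroup.eq_bot_iff_forall _).mpr hcon)
  have hH := center_ne_top hG he1
  have hAH : A ≤ Subgroup.centralizer ({e} : Set G) := by
    intro a ha
    apply Subgroup.mem_centralizer_singleton_iff.mpr
    have h3 := Subgroup.mem_centralizer_iff.mp (hEZ (hB₁E he.1)).2
    exact h3 a ha
  have hmono : ∀ (B Q : Subgroup G), e ∈ B → Q ⊓ Subgroup.centralizer (B : Set G) ≠ ⊥ →
      Subgroup.centralizer ({e} : Set G) ⊓ Q ≠ ⊥ := by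
    intro B Q heB hne h0
    apply hne
    rw [eq_bot_iff, ← h0]
    refine le_inf ?_ inf_le_left
    refine inf_le_right.trans ?_
    apply Subgroup.centralizer_le
    intro x hx
    rw [Set.mem_singleton_iff.mp hx]; exact heB
  exact theorem_7_2 hG hA hq hqA hQ₁ hQ₂ hH hAH (hmono B₁ Q₁ he.1 hB₁Q) (hmono B₂ Q₂ he.2 hB₂Q)

/-- BG Theorem 7.4 -/
theorem theorem_7_4 (hG : IsMinSimpleOddOrder G) {A : Subgroup G} (hA : TransitivityHypothesis A)
    (hZ : ¬ RankLE 1 ↥(A ⊓ Subgroup.centralizer (A : Set G))) {q : ℕ} (hq : q.Prime)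
    (hqA : ¬ q ∣ Nat.card A) (hqC : q ∣ Nat.card (Subgroup.centralizer (A : Set G))) :
    Transitive A q := by
  haveI : Fact q.Prime := ⟨hq⟩
  obtain ⟨p, hp, E, hEZ, hE, hE2⟩ := exists_elementary_of_not_rankLE hZ
  haveI : Fact p.Prime := ⟨hp⟩
  rw [pow_one] at hE2
  have hE1 : E ≠ ⊥ := ne_bot_of_card_gt hE2 hp.pos
  -- `|E| ≥ p²`
  have hE2' : p ^ 2 ≤ Nat.card E := by
    have hEp : IsPGroup p E := by
      intro ⟨x, hx⟩
      refine ⟨1, ?_⟩
      apply Subtype.ext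
      simp only [pow_one, Subgroup.coe_pow, Subgroup.coe_one]
      exact hE.2 x hx
    obtain ⟨k, hk⟩ := IsPGroup.iff_card.mp hEp
    rw [hk] at hE2 ⊢
    apply Nat.pow_le_pow_right hp.pos
    by_contra hcon
    push Not at hcon
    have : k ≤ 1 := by omega
    have := Nat.pow_le_pow_right hp.pos this
    rw [pow_one] at this
    omega
  -- a nontrivial `q`-subgroup of `C_G(A)`
  obtain ⟨x, hx⟩ := exists_prime_orderOf_dvd_card' q hqC
  set U : Subgroup G := Subgroup.zpowers (x : G) with hU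
  have hUc : U ≤ Subgroup.centralizer (A : Set G) := Subgroup.zpowers_le.mpr x.2
  have hUq : IsPGroup q U := by
    apply IsPGroup.of_card (n := 1)
    rw [pow_one, Nat.card_zpowers, Subgroup.orderOf_coe, hx]
  have hU1 : U ≠ ⊥ := by
    intro h0
    rw [Subgroup.zpowers_eq_bot] at h0
    have : orderOf (x : G) = 1 := by rw [h0, orderOf_one]
    rw [Subgroup.orderOf_coe, hx] at this
    exact hq.one_lt.ne' this
  have hUA : A ≤ Subgroup.normalizer (U : Set G) := by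
    intro a ha
    rw [Subgroup.mem_normalizer_iff]
    intro y
    have key : ∀ c ∈ A, ∀ z ∈ U, c * z * c⁻¹ = z := by
      intro c hc z hz
      have h1 := Subgroup.mem_centralizer_iff.mp (hUc hz) c hc
      rw [h1]; group
    constructor
    · intro hy
      rw [key a ha y hy]; exact hy
    · intro hy
      have h4 := key a⁻¹ (A.inv_mem ha) _ hy
      have h5 : a⁻¹ * (a * y * a⁻¹) * a⁻¹⁻¹ = y := by group
      rw [h5] at h4
      rw [h4]; exact hy
  obtain ⟨Q₀, hQ₀, hUQ₀⟩ := exists_maxInv_ge (A := A) (π := {q}) (R := U)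
    ⟨le_top, isPiNum_singleton_of_isPGroup hUq, hUA⟩
  -- every maximal invariant subgroup is conjugate to `Q₀`
  have key : ∀ Q ∈ maxInvSubgroups ⊤ A {q}, KConj A Q Q₀ := by
    intro Q hQ
    have hQ1 : Q ≠ ⊥ := by
      intro h0
      have := hQ.2 Q₀ hQ₀.1 (by rw [h0]; exact bot_le)
      apply hU1
      rw [eq_bot_iff, ← h0, ← this]; exact hUQ₀
    obtain ⟨hpQ, hEQ⟩ := setup_central hqA (hEZ.trans inf_le_left) hE1 hE hQ
    obtain ⟨B, hBE, hBi, hBQ⟩ := exists_hyperplane_fixed hE hE2' hpQ hEQ hQ1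
    have hB1 := hyperplane_ne_bot hE2' hBE hBi
    obtain ⟨e, he, he1⟩ : ∃ e ∈ B, e ≠ 1 := by
      by_contra hcon
      push Not at hcon
      exact hB1 ((Subgroup.eq_bot_iff_forall _).mpr hcon)
    have hH := center_ne_top hG he1
    have heZ := hEZ (hBE he)
    have hAH : A ≤ Subgroup.centralizer ({e} : Set G) := by
      intro a ha
      apply Subgroup.mem_centralizer_singleton_iff.mpr
      have h3 := Subgroup.mem_centralizer_iff.mp heZ.2
      exact h3 a ha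
    have h1 : Subgroup.centralizer ({e} : Set G) ⊓ Q ≠ ⊥ := by
      intro h0
      apply hBQ
      rw [eq_bot_iff, ← h0]
      refine le_inf ?_ inf_le_left
      refine inf_le_right.trans ?_
      apply Subgroup.centralizer_le
      intro y hy
      rw [Set.mem_singleton_iff.mp hy]; exact he
    have h2 : Subgroup.centralizer ({e} : Set G) ⊓ Q₀ ≠ ⊥ := by
      intro h0
      apply hU1
      rw [eq_bot_iff, ← h0]
      refine le_inf ?_ hUQ₀
      intro z hz
      apply Subgroup.mem_centralizer_singleton_iff.mpr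
      have := Subgroup.mem_centralizer_iff.mp (hUc hz) e heZ.1
      exact this.symm
    exact theorem_7_2 hG hA hq hqA hQ hQ₀ hH hAH h1 h2
  intro Q₁ hQ₁ Q₂ hQ₂
  exact (key Q₁ hQ₁).trans (key Q₂ hQ₂).symm

end Cfsg.Agent.Lib.Helper4.BG7
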