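import Mathlib
import Cfsg.Agent.Lib.Helper4.BG76b
import Cfsg.Agent.Lib.Helper4.BG7e

set_option autoImplicit false
open Pointwise
open scoped commutatorElement

/-! Bender–Glauberman Theorem 7.6: transport to subgroups of a minimal simple group of odd order. -/

namespace Cfsg.Agent.Lib.Helper4.BG76

open Cfsg Cfsg.Agent.Lib.Helper4 Cfsg.Agent.Lib.Lead Cfsg.Agent.Lib.Helper6
open Cfsg.Agent.Lib.Helper4.BG7

universe u

variable {G : Type u} [Group G]

/-- `O_{p'}(H)` as a subgroup of the ambient group -/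
def cG (p : ℕ) (H : Subgroup G) : Subgroup G := (pPrimeCore p ↥H).map H.subtype

theorem cG_le (p : ℕ) (H : Subgroup G) : cG p H ≤ H := Subgroup.map_subtype_le _

theorem card_cG_coprime [Finite G] (p : ℕ) (H : Subgroup G) : (Nat.card (cG p H)).Coprime p := by
  unfold cG
  rw [Subgroup.card_map_of_injective H.subtype_injective]
  exact pPrimeCore_coprime p

theorem le_normalizer_cG (p : ℕ) (H : Subgroup G) : H ≤ Subgroup.normalizer (cG p H : Set G) := by
  have h1 := Subgroup.le_normalizer_map (H := pPrimeCore p ↥H) H.subtype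
  rw [Subgroup.normalizer_eq_top_iff.mpr inferInstance] at h1
  intro x hx
  apply h1
  exact ⟨⟨x, hx⟩, Subgroup.mem_top _, rfl⟩

theorem le_cG_of_subgroupOf_le {p : ℕ} {K H : Subgroup G} (hKH : K ≤ H)
    (h : K.subgroupOf H ≤ pPrimeCore p ↥H) : K ≤ cG p H := by
  intro k hk
  exact ⟨⟨k, hKH hk⟩, h (Subgroup.mem_subgroupOf.mpr hk), rfl⟩

theorem subgroupOf_le_of_le_cG {p : ℕ} {K H : Subgroup G} (h : K ≤ cG p H) :
    K.subgroupOf H ≤ pPrimeCore p ↥H := by
  intro y hy
  obtain ⟨w, hw, hwy⟩ := h (Subgroup.mem_subgroupOf.mp hy)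
  have : w = y := Subtype.ext hwy
  rw [← this]; exact hw

theorem subgroupOf_le_normalizer_subgroupOf {A K : Subgroup G} (H : Subgroup G)
    (h : A ≤ Subgroup.normalizer (K : Set G)) :
    A.subgroupOf H ≤ Subgroup.normalizer ((K.subgroupOf H : Subgroup ↥H) : Set ↥H) := by
  have h1 : A.subgroupOf H ≤ (Subgroup.normalizer (K : Set G)).comap H.subtype :=
    Subgroup.comap_mono h
  exact h1.trans (Subgroup.le_normalizer_comap H.subtype)

theorem piCore_cpi_eq [Finite G] {p : ℕ} [hp : Fact p.Prime] {A : Subgroup G} (hA : IsPGroup p A)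
    (hA1 : A ≠ ⊥) (Y : Type u) [Group Y] : piCore (cpi A) Y = pPrimeCore p Y := by
  obtain ⟨n, hn⟩ := IsPGroup.iff_card.mp hA
  have hn0 : n ≠ 0 := by
    intro h0
    rw [h0, pow_zero] at hn
    exact hA1 (Subgroup.card_eq_one.mp hn)
  have key : ∀ m : ℕ, (∀ r : ℕ, r.Prime → r ∣ m → r ∈ cpi A) ↔ m.Coprime p := by
    intro m
    constructor
    · intro h
      rw [Nat.coprime_comm, Nat.Prime.coprime_iff_not_dvd hp.out]
      intro hpm
      have := (h p hp.out hpm).2
      apply this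
      rw [hn]; exact dvd_pow_self p hn0
    · intro h r hr hrm
      refine ⟨hr, ?_⟩
      intro hrA
      rw [hn] at hrA
      have h1 : r = p := (Nat.prime_dvd_prime_iff_eq hr hp.out).mp (hr.dvd_of_dvd_pow hrA)
      rw [h1] at hrm
      rw [Nat.coprime_comm, Nat.Prime.coprime_iff_not_dvd hp.out] at h
      exact h hrm
  unfold piCore pPrimeCore
  congr 1
  ext N
  simp only [Set.mem_setOf_eq]
  rw [key]

theorem piCoreOf_cpi_eq [Finite G] {p : ℕ} [Fact p.Prime] {A : Subgroup G} (hA : IsPGroup p A)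
    (hA1 : A ≠ ⊥) (H : Subgroup G) : piCoreOf (cpi A) H = cG p H := by
  unfold piCoreOf cG
  rw [piCore_cpi_eq hA hA1]

theorem isPiNum_cpi_iff [Finite G] {p : ℕ} [hp : Fact p.Prime] {A : Subgroup G} (hA : IsPGroup p A)
    (hA1 : A ≠ ⊥) (m : ℕ) : IsPiNum (cpi A) m ↔ m.Coprime p := by
  obtain ⟨n, hn⟩ := IsPGroup.iff_card.mp hA
  have hn0 : n ≠ 0 := by
    intro h0
    rw [h0, pow_zero] at hn
    exact hA1 (Subgroup.card_eq_one.mp hn)
  constructor
  · intro h
    rw [Nat.coprime_comm, Nat.Prime.coprime_iff_not_dvd hp.out]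
    intro hpm
    have := (h p hp.out hpm).2
    apply this
    rw [hn]; exact dvd_pow_self p hn0
  · intro h r hr hrm
    refine ⟨hr, ?_⟩
    intro hrA
    rw [hn] at hrA
    have h1 : r = p := (Nat.prime_dvd_prime_iff_eq hr hp.out).mp (hr.dvd_of_dvd_pow hrA)
    rw [h1] at hrm
    rw [Nat.coprime_comm, Nat.Prime.coprime_iff_not_dvd hp.out] at h
    exact h hrm

/-- balance transfer: `O_{p'}(C_G(x)) ∩ H ≤ O_{p'}(H)` for solvable `H` and a `p`-element `x ∈ H` -/
theorem cG_centralizer_inf_le [Finite G] {p : ℕ} [Fact p.Prime] {H : Subgroup G}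
    (hH : Group.IsSolvable H) {x : G} (hxH : x ∈ H) (hx : IsPGroup p (Subgroup.zpowers x)) :
    cG p (Subgroup.centralizer ({x} : Set G)) ⊓ H ≤ cG p H := by
  set C := Subgroup.centralizer ({x} : Set G) with hC
  set D₀ := cG p C ⊓ H with hD₀
  apply le_cG_of_subgroupOf_le (inf_le_right : D₀ ≤ H)
  have hx' : IsPGroup p (Subgroup.zpowers (⟨x, hxH⟩ : ↥H)) := by
    have h1 := hx.comap_of_injective H.subtype H.subtype_injective
    apply h1.to_le
    rw [Subgroup.zpowers_le, Subgroup.mem_comap]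
    exact Subgroup.mem_zpowers x
  have hcop : (Nat.card (D₀.subgroupOf H)).Coprime p := by
    rw [card_subgroupOf_of_le (inf_le_right : D₀ ≤ H)]
    exact Nat.Coprime.coprime_dvd_left (Subgroup.card_dvd_of_le inf_le_left) (card_cG_coprime p C)
  haveI := hH
  apply solvable_pprime_le p (⟨x, hxH⟩ : ↥H) hx' (D₀.subgroupOf H) hcop
  · intro d hd
    have hdC : (d : G) ∈ C := cG_le p C (Subgroup.mem_subgroupOf.mp hd).1
    rw [Subgroup.mem_centralizer_iff]
    intro y hy
    rw [Set.mem_singleton_iff] at hy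
    subst hy
    apply Subtype.ext
    rw [Subgroup.coe_mul, Subgroup.coe_mul]
    exact Subgroup.mem_centralizer_iff.mp hdC x rfl
  · intro c hc
    have hcC : (c : G) ∈ C := by
      rw [hC, Subgroup.mem_centralizer_iff]
      intro y hy
      rw [Set.mem_singleton_iff] at hy
      subst hy
      have := Subgroup.mem_centralizer_iff.mp hc ⟨y, hxH⟩ rfl
      exact congrArg Subtype.val this
    have hcN : (c : G) ∈ Subgroup.normalizer (D₀ : Set G) := by
      apply normalizer_inf_le'
      exact ⟨le_normalizer_cG p C hcC, Subgroup.le_normalizer c.2⟩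
    exact subgroupOf_le_normalizer_subgroupOf H (le_refl _) (Subgroup.mem_subgroupOf.mpr hcN)

end Cfsg.Agent.Lib.Helper4.BG76
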