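import Mathlib
import Cfsg.Agent.Lib.Helper4.BG76c

set_option autoImplicit false
open Pointwise
open scoped commutatorElement

/-! Bender–Glauberman Theorem 7.6: the concrete claims. -/

namespace Cfsg.Agent.Lib.Helper4.BG76

open Cfsg Cfsg.Agent.Lib.Helper4 Cfsg.Agent.Lib.Lead Cfsg.Agent.Lib.Helper6
open Cfsg.Agent.Lib.Helper4.BG7

universe u

variable {G : Type u} [Group G] [Finite G]

theorem odd_card_subgroup' (hG : IsMinSimpleOddOrder G) (H : Subgroup G) : Odd (Nat.card H) :=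
  Odd.of_dvd_nat hG.1 (Subgroup.card_subgroup_dvd_card H)

theorem scn_comm {P A : Subgroup G} (h : IsSCN P A) : ∀ a ∈ A, ∀ b ∈ A, a * b = b * a := by
  intro a ha b hb
  have h1 : b ∈ P ⊓ Subgroup.centralizer (A : Set G) := by rw [h.2.2]; exact hb
  exact Subgroup.mem_centralizer_iff.mp h1.2 a ha

/-- CC1 -/
theorem claim_over_sylow (hG : IsMinSimpleOddOrder G) {p : ℕ} [Fact p.Prime] (hp : p ≠ 2)
    (P : Sylow p G) {A : Subgroup G} (hA : IsSCN (P : Subgroup G) A) {H : Subgroup G} (hH : H ≠ ⊤)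
    (hPH : (P : Subgroup G) ≤ H) {K : Subgroup G} (hKH : K ≤ H) (hK : (Nat.card K).Coprime p)
    (hAK : A ≤ Subgroup.normalizer (K : Set G)) : K ≤ cG p H := by
  apply le_cG_of_subgroupOf_le hKH
  haveI : Group.IsSolvable ↥H := hG.2.2.2 H hH
  have hT : ((P.subtype hPH : Sylow p ↥H) : Subgroup ↥H) = (P : Subgroup G).subgroupOf H := rfl
  apply claim_sylow (odd_card_subgroup' hG H) hp (P.subtype hPH) (A := A.subgroupOf H)
  · rw [hT]
    intro y hy
    exact Subgroup.mem_subgroupOf.mpr (hA.1 (Subgroup.mem_subgroupOf.mp hy))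
  · rw [hT]
    exact subgroupOf_le_normalizer_subgroupOf H hA.2.1
  · intro a ha b hb
    apply Subtype.ext
    rw [Subgroup.coe_mul, Subgroup.coe_mul]
    exact scn_comm hA _ (Subgroup.mem_subgroupOf.mp ha) _ (Subgroup.mem_subgroupOf.mp hb)
  · intro t ht hcomm
    rw [hT] at ht
    apply Subgroup.mem_subgroupOf.mpr
    rw [← hA.2.2]
    refine ⟨Subgroup.mem_subgroupOf.mp ht, ?_⟩
    apply Subgroup.mem_centralizer_iff.mpr
    intro a ha
    have h1 := hcomm ⟨a, (hA.1.trans hPH) ha⟩ (Subgroup.mem_subgroupOf.mpr ha)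
    exact (congrArg Subtype.val h1).symm
  · rw [card_subgroupOf_of_le hKH]; exact hK
  · exact subgroupOf_le_normalizer_subgroupOf H hAK

/-- CC3 -/
theorem claim_plength_one (hG : IsMinSimpleOddOrder G) {p : ℕ} [Fact p.Prime] (hp : p ≠ 2)
    {A : Subgroup G} (hAp : IsPGroup p A)
    (hself : ∀ x ∈ Subgroup.centralizer (A : Set G), x ^ p = 1 → x ∈ A)
    {H : Subgroup G} (hH : H ≠ ⊤) (hpl : PLengthLE p 1 ↥H) (hAH : A ≤ H)
    {K : Subgroup G} (hKH : K ≤ H) (hK : (Nat.card K).Coprime p)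
    (hAK : A ≤ Subgroup.normalizer (K : Set G)) : K ≤ cG p H := by
  apply le_cG_of_subgroupOf_le hKH
  haveI : Group.IsSolvable ↥H := hG.2.2.2 H hH
  apply claim_plength hp hpl (A := A.subgroupOf H)
  · exact hAp.comap_subtype
  · intro x hx hxp
    apply Subgroup.mem_subgroupOf.mpr
    apply hself
    · rw [Subgroup.mem_centralizer_iff]
      intro a ha
      have h1 := Subgroup.mem_centralizer_iff.mp hx ⟨a, hAH ha⟩ (Subgroup.mem_subgroupOf.mpr ha)
      exact congrArg Subtype.val h1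
    · have := congrArg Subtype.val hxp
      rwa [Subgroup.coe_pow] at this
  · rw [card_subgroupOf_of_le hKH]; exact hK
  · exact subgroupOf_le_normalizer_subgroupOf H hAK

end Cfsg.Agent.Lib.Helper4.BG76
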