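import Mathlib
import Cfsg.Agent.Lib.Helper4.BG76d
import Cfsg.Agent.Lib.Helper4.BG7d

set_option autoImplicit false
open Pointwise
open scoped commutatorElement

/-! Bender–Glauberman Theorem 7.6: the claim for centralizers of elements with large centralizer. -/

namespace Cfsg.Agent.Lib.Helper4.BG76

open Cfsg Cfsg.Agent.Lib.Helper4 Cfsg.Agent.Lib.Lead Cfsg.Agent.Lib.Helper6
open Cfsg.Agent.Lib.Helper4.BG7

universe u

variable {G : Type u} [Group G] [Finite G]

/-- a subgroup of index at most `p` in a `p`-group is normal -/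
theorem normal_of_index_le {T : Type u} [Group T] [Finite T] {p : ℕ} [hp : Fact p.Prime]
    (hT : IsPGroup p T) (V : Subgroup T) (h : V.index ≤ p) : V.Normal := by
  obtain ⟨n, hn⟩ := IsPGroup.iff_card.mp hT
  have h1 : V.index ∣ p ^ n := by rw [← hn]; exact Subgroup.index_dvd_card V
  obtain ⟨j, -, hj⟩ := (Nat.dvd_prime_pow hp.out).mp h1
  have hj1 : j ≤ 1 := by
    by_contra hcon
    push Not at hcon
    have : p ^ 2 ≤ p ^ j := Nat.pow_le_pow_right hp.out.pos hcon
    have h2 : p * 2 ≤ p ^ 2 := by rw [pow_two]; exact Nat.mul_le_mul_left _ hp.out.two_le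
    have := hp.out.pos
    omega
  interval_cases j
  · rw [pow_zero, Subgroup.index_eq_one] at hj
    rw [hj]; infer_instance
  · rw [pow_one] at hj
    apply Subgroup.normal_of_index_eq_minFac_card
    have hn0 : n ≠ 0 := by
      intro h0
      rw [h0, pow_zero] at hn
      have : V.index ∣ 1 := by rw [← hn]; exact Subgroup.index_dvd_card V
      rw [hj] at this
      exact hp.out.one_lt.ne' (Nat.dvd_one.mp this)
    rw [hj, hn, hp.out.pow_minFac hn0]

theorem card_le_card_sylow {p : ℕ} [Fact p.Prime] (P : Sylow p G) {V : Subgroup G} (hV : IsPGroup p V) :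
    Nat.card V ≤ Nat.card (P : Subgroup G) := by
  obtain ⟨Q, hQ⟩ := hV.exists_le_sylow
  calc Nat.card V ≤ Nat.card (Q : Subgroup G) := Subgroup.card_le_of_le hQ
    _ = Nat.card (P : Subgroup G) := by
      rw [Sylow.card_eq_multiplicity, Sylow.card_eq_multiplicity]

/-- CC2 -/
theorem claim_centralizer (hG : IsMinSimpleOddOrder G) {p : ℕ} [Fact p.Prime] (hp : p ≠ 2)
    (P : Sylow p G) {A : Subgroup G} (hA : IsSCN (P : Subgroup G) A)
    {z : G} (hzP : z ∈ (P : Subgroup G)) (hzc : ∀ y ∈ (P : Subgroup G), z * y = y * z) (hz1 : z ≠ 1)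
    {a : G} (haA : a ∈ A) (ha1 : a ≠ 1)
    (hidx : Nat.card (P : Subgroup G) ≤
      p * Nat.card ((P : Subgroup G) ⊓ Subgroup.centralizer ({a} : Set G) : Subgroup G))
    {K : Subgroup G} (hKH : K ≤ Subgroup.centralizer ({a} : Set G)) (hK : (Nat.card K).Coprime p)
    (hAK : A ≤ Subgroup.normalizer (K : Set G)) : K ≤ cG p (Subgroup.centralizer ({a} : Set G)) := by
  set H := Subgroup.centralizer ({a} : Set G) with hHdef
  have hH : H ≠ ⊤ := center_ne_top hG ha1
  have hHsolv : Group.IsSolvable ↥H := hG.2.2.2 H hH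
  have hzA : z ∈ A := by
    rw [← hA.2.2]
    refine ⟨hzP, ?_⟩
    apply Subgroup.mem_centralizer_iff.mpr
    intro y hy
    exact (hzc y (hA.1 hy)).symm
  have hzH : z ∈ H := by
    apply Subgroup.mem_centralizer_iff.mpr
    intro y hy
    rw [Set.mem_singleton_iff] at hy
    subst hy
    exact (hzc y (hA.1 haA)).symm
  have hcomm := scn_comm hA
  -- the fixed points of `z`
  have hG1 : K ⊓ Subgroup.centralizer ({z} : Set G) ≤ cG p H := by
    set Hz := Subgroup.centralizer ({z} : Set G) with hHz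
    have hHztop : Hz ≠ ⊤ := center_ne_top hG hz1
    have hPHz : (P : Subgroup G) ≤ Hz := by
      intro y hy
      apply Subgroup.mem_centralizer_iff.mpr
      intro w hw
      rw [Set.mem_singleton_iff] at hw
      subst hw
      exact hzc y hy
    have hAHz : A ≤ Hz := hA.1.trans hPHz
    have hAKz : A ≤ Subgroup.normalizer ((K ⊓ Hz : Subgroup G) : Set G) :=
      (le_inf hAK (hAHz.trans Subgroup.le_normalizer)).trans (normalizer_inf_le' K Hz)
    have hcop : (Nat.card (K ⊓ Hz : Subgroup G)).Coprime p :=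
      Nat.Coprime.coprime_dvd_left (Subgroup.card_dvd_of_le inf_le_left) hK
    have h1 := claim_over_sylow hG hp P hA hHztop hPHz (inf_le_right : K ⊓ Hz ≤ Hz) hcop hAKz
    have hzp : IsPGroup p (Subgroup.zpowers z) := P.isPGroup'.to_le (Subgroup.zpowers_le.mpr hzP)
    have h2 := cG_centralizer_inf_le (p := p) hHsolv hzH hzp
    exact (le_inf h1 (inf_le_left.trans hKH)).trans h2
  apply le_cG_of_subgroupOf_le hKH
  haveI := hHsolv
  -- the Sylow subgroup of `H`
  set P₁ := (P : Subgroup G) ⊓ H with hP₁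
  have hP₁p : IsPGroup p (P₁.subgroupOf H) := (P.isPGroup'.to_le inf_le_left).comap_subtype
  obtain ⟨T, hT⟩ := hP₁p.exists_le_sylow
  have hTN : (T : Subgroup ↥H) ≤ Subgroup.normalizer ((P₁.subgroupOf H : Subgroup ↥H) : Set ↥H) := by
    rw [← Subgroup.normal_subgroupOf_iff_le_normalizer hT]
    apply normal_of_index_le T.isPGroup'
    have h1 : Nat.card ↥(T : Subgroup ↥H) ≤ Nat.card (P : Subgroup G) := by
      have := card_le_card_sylow P (T.isPGroup'.map H.subtype)
      rwa [Subgroup.card_map_of_injective H.subtype_injective] at this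
    have h2 := Subgroup.card_mul_index ((P₁.subgroupOf H).subgroupOf (T : Subgroup ↥H))
    rw [card_subgroupOf_of_le hT, card_subgroupOf_of_le (inf_le_right : P₁ ≤ H)] at h2
    have h3 : 0 < Nat.card P₁ := Nat.card_pos
    have h4 : Nat.card P₁ * ((P₁.subgroupOf H).subgroupOf (T : Subgroup ↥H)).index ≤
        Nat.card P₁ * p := by
      rw [h2, mul_comm]; exact h1.trans hidx
    exact Nat.le_of_mul_le_mul_left h4 h3
  apply claim_central (odd_card_subgroup' hG H) hp T hT hTN (z := ⟨z, hzH⟩)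
  · exact Subgroup.mem_subgroupOf.mpr ⟨hzP, hzH⟩
  · intro y hy
    apply Subtype.ext
    rw [Subgroup.coe_mul, Subgroup.coe_mul]
    exact hzc _ (Subgroup.mem_subgroupOf.mp hy).1
  · rw [card_subgroupOf_of_le hKH]; exact hK
  · exact subgroupOf_le_normalizer_subgroupOf H hAK (Subgroup.mem_subgroupOf.mpr hzA)
  · rintro y ⟨hyK, hyz⟩
    apply subgroupOf_le_of_le_cG hG1
    apply Subgroup.mem_subgroupOf.mpr
    refine ⟨Subgroup.mem_subgroupOf.mp hyK, ?_⟩
    apply Subgroup.mem_centralizer_iff.mpr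
    intro w hw
    rw [Set.mem_singleton_iff] at hw
    subst hw
    have := Subgroup.mem_centralizer_iff.mp hyz ⟨w, hzH⟩ rfl
    exact congrArg Subtype.val this

end Cfsg.Agent.Lib.Helper4.BG76
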