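import Mathlib
import Cfsg.Agent.Lib.Lead.Nilpotent
import Cfsg.Agent.Lib.Helper4.PiCore
import Cfsg.Prelude.Def_OddOrderLocal

set_option autoImplicit false
open Pointwise

/-! Bender–Glauberman Theorem 7.6: a normal subgroup of type `(p,p)` inside a member of `SCN₂(P)`. -/

namespace Cfsg.Agent.Lib.Helper4.BG76

open Cfsg Cfsg.Agent.Lib.Helper4 Cfsg.Agent.Lib.Lead

universe u

section abstract

variable {Y : Type u} [Group Y] [Finite Y]

/-- T5a -/
theorem exists_central_and_second {p : ℕ} [hp : Fact p.Prime] (hY : IsPGroup p Y) (N : Subgroup Y)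
    [hN : N.Normal] (hcard : p < Nat.card N) (hexp : ∀ x ∈ N, x ^ p = 1) :
    ∃ z ∈ N, z ∈ Subgroup.center Y ∧ z ≠ 1 ∧ ∃ e ∈ N, e ∉ Subgroup.zpowers z ∧
      ∀ x : Y, e * x * e⁻¹ * x⁻¹ ∈ Subgroup.zpowers z := by
  haveI : Group.IsNilpotent Y := hY.isNilpotent
  have hN1 : N ≠ ⊥ := by
    intro h0
    rw [h0, Subgroup.card_bot] at hcard
    have := hp.out.pos
    omega
  obtain ⟨⟨z, hz⟩, hz1⟩ := (Subgroup.ne_bot_iff_exists_ne_one).mp (inf_center_ne_bot N hN1)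
  have hz1' : z ≠ 1 := fun h => hz1 (Subtype.ext h)
  refine ⟨z, hz.1, hz.2, hz1', ?_⟩
  set Z₀ := Subgroup.zpowers z with hZ₀
  haveI hZn : Z₀.Normal := zpowers_normal_of_mem_center hz.2
  have hcardZ : Nat.card Z₀ = p := by
    rw [Nat.card_zpowers]
    exact orderOf_eq_prime (hexp z hz.1) hz1'
  have hQ : IsPGroup p (Y ⧸ Z₀) := hY.to_quotient Z₀
  haveI : Group.IsNilpotent (Y ⧸ Z₀) := hQ.isNilpotent
  set φ := QuotientGroup.mk' Z₀ with hφ
  haveI hEn : (N.map φ).Normal := Subgroup.Normal.map hN φ (QuotientGroup.mk'_surjective _)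
  have hE1 : N.map φ ≠ ⊥ := by
    intro h0
    have hle : N ≤ Z₀ := by
      intro n hn
      have h1 : φ n ∈ N.map φ := ⟨n, hn, rfl⟩
      rw [h0, Subgroup.mem_bot] at h1
      exact (QuotientGroup.eq_one_iff n).mp h1
    have := Subgroup.card_le_of_le hle
    omega
  obtain ⟨⟨eb, heb⟩, heb1⟩ := (Subgroup.ne_bot_iff_exists_ne_one).mp (inf_center_ne_bot (N.map φ) hE1)
  have heb1' : eb ≠ 1 := fun h => heb1 (Subtype.ext h)
  obtain ⟨e, heN, rfl⟩ := heb.1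
  refine ⟨e, heN, ?_, ?_⟩
  · intro hcon
    exact heb1' ((QuotientGroup.eq_one_iff e).mpr hcon)
  · intro x
    rw [← QuotientGroup.eq_one_iff]
    show φ (e * x * e⁻¹ * x⁻¹) = 1
    have h1 := Subgroup.mem_center_iff.mp heb.2 (φ x)
    rw [map_mul, map_mul, map_mul, map_inv, map_inv, ← h1]
    group

/-- T5b -/
theorem card_le_mul_card_centralizer (Z₀ : Subgroup Y) {e : Y}
    (h : ∀ x : Y, e * x * e⁻¹ * x⁻¹ ∈ Z₀) :
    Nat.card Y ≤ Nat.card Z₀ * Nat.card (Subgroup.centralizer ({e} : Set Y)) := by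
  set C := Subgroup.centralizer ({e} : Set Y) with hC
  have hmem : ∀ c : Y, c ∈ C ↔ c * e = e * c := by
    intro c
    rw [hC, Subgroup.mem_centralizer_singleton_iff]
  let g : Y ⧸ C → Z₀ := fun q => Quotient.liftOn' q (fun x => (⟨e * x * e⁻¹ * x⁻¹, h x⟩ : Z₀)) (by
    intro x y hxy
    rw [QuotientGroup.leftRel_apply] at hxy
    apply Subtype.ext
    show e * x * e⁻¹ * x⁻¹ = e * y * e⁻¹ * y⁻¹
    have h1 := (hmem _).mp hxy
    have h2 : y = x * (x⁻¹ * y) := by group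
    rw [h2]
    set c := x⁻¹ * y with hc
    have h3 : c * e⁻¹ = e⁻¹ * c := by
      calc c * e⁻¹ = e⁻¹ * (e * c) * e⁻¹ := by group
        _ = e⁻¹ * (c * e) * e⁻¹ := by rw [h1]
        _ = e⁻¹ * c := by group
    calc e * x * e⁻¹ * x⁻¹ = e * x * (e⁻¹ * c) * c⁻¹ * x⁻¹ := by group
      _ = e * x * (c * e⁻¹) * c⁻¹ * x⁻¹ := by rw [h3]
      _ = e * (x * c) * e⁻¹ * (x * c)⁻¹ := by group)
  have hg : Function.Injective g := by
    intro q₁ q₂
    induction q₁ using Quotient.inductionOn' with | h x => ?_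
    induction q₂ using Quotient.inductionOn' with | h y => ?_
    intro hxy
    have h1 : e * x * e⁻¹ * x⁻¹ = e * y * e⁻¹ * y⁻¹ := congrArg Subtype.val hxy
    apply Quotient.sound'
    rw [QuotientGroup.leftRel_apply, hmem]
    have h2 : x * e⁻¹ * x⁻¹ = y * e⁻¹ * y⁻¹ := by
      have : e * (x * e⁻¹ * x⁻¹) = e * (y * e⁻¹ * y⁻¹) := by
        calc e * (x * e⁻¹ * x⁻¹) = e * x * e⁻¹ * x⁻¹ := by group
          _ = e * y * e⁻¹ * y⁻¹ := h1
          _ = e * (y * e⁻¹ * y⁻¹) := by group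
      exact mul_left_cancel this
    have h3 : (x⁻¹ * y) * e⁻¹ = e⁻¹ * (x⁻¹ * y) := by
      calc (x⁻¹ * y) * e⁻¹ = x⁻¹ * (y * e⁻¹ * y⁻¹) * y := by group
        _ = x⁻¹ * (x * e⁻¹ * x⁻¹) * y := by rw [h2]
        _ = e⁻¹ * (x⁻¹ * y) := by group
    calc (x⁻¹ * y) * e = e * (e⁻¹ * (x⁻¹ * y)) * e := by group
      _ = e * ((x⁻¹ * y) * e⁻¹) * e := by rw [h3]
      _ = e * (x⁻¹ * y) := by group
  have h1 : C.index ≤ Nat.card Z₀ := by
    rw [Subgroup.index]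
    exact Nat.card_le_card_of_injective g hg
  calc Nat.card Y = Nat.card C * C.index := (Subgroup.card_mul_index C).symm
    _ ≤ Nat.card C * Nat.card Z₀ := Nat.mul_le_mul_left _ h1
    _ = Nat.card Z₀ * Nat.card C := mul_comm _ _

end abstract

end Cfsg.Agent.Lib.Helper4.BG76
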