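import Mathlib
import Cfsg.Agent.Lib.Helper4.BG76f
import Cfsg.Agent.Lib.Helper4.BG76e

set_option autoImplicit false
open Pointwise

/-! Bender–Glauberman Theorem 7.6: the subgroup `B` and the element `z`. -/

namespace Cfsg.Agent.Lib.Helper4.BG76

open Cfsg Cfsg.Agent.Lib.Helper4 Cfsg.Agent.Lib.Lead

universe u

variable {G : Type u} [Group G] [Finite G]

/-- `Ω₁(A)` for an abelian subgroup `A` -/
def omegaAb (p : ℕ) (A : Subgroup G) (hc : ∀ a ∈ A, ∀ b ∈ A, a * b = b * a) : Subgroup G where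
  carrier := {x | x ∈ A ∧ x ^ p = 1}
  one_mem' := ⟨A.one_mem, one_pow p⟩
  mul_mem' := by
    rintro x y ⟨hx, hxp⟩ ⟨hy, hyp⟩
    refine ⟨A.mul_mem hx hy, ?_⟩
    have h1 : Commute x y := hc x hx y hy
    rw [h1.mul_pow, hxp, hyp, one_mul]
  inv_mem' := by
    rintro x ⟨hx, hxp⟩
    exact ⟨A.inv_mem hx, by rw [inv_pow, hxp, inv_one]⟩

theorem mem_omegaAb {p : ℕ} {A : Subgroup G} {hc : ∀ a ∈ A, ∀ b ∈ A, a * b = b * a} {x : G} :
    x ∈ omegaAb p A hc ↔ x ∈ A ∧ x ^ p = 1 := Iff.rfl

theorem isCommutative_of_le {A B : Subgroup G} (hc : ∀ a ∈ A, ∀ b ∈ A, a * b = b * a) (h : B ≤ A) :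
    IsMulCommutative B :=
  ⟨⟨fun a b => Subtype.ext (hc a (h a.2) b (h b.2))⟩⟩

theorem exists_good_pair {p : ℕ} [hp : Fact p.Prime] (P : Sylow p G) {A : Subgroup G}
    (hA : IsSCN (P : Subgroup G) A) (hr : ¬ PRankLE p 1 ↥A) :
    ∃ z ∈ (P : Subgroup G), (∀ y ∈ (P : Subgroup G), z * y = y * z) ∧ z ≠ 1 ∧
      ∃ B : Subgroup G, B ≤ A ∧ IsElementaryAbelian p B ∧ p ^ 2 ≤ Nat.card B ∧
        ∀ a ∈ B, Nat.card (P : Subgroup G) ≤
          p * Nat.card ((P : Subgroup G) ⊓ Subgroup.centralizer ({a} : Set G) : Subgroup G) := by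
  have hcomm := scn_comm hA
  set E₁ := omegaAb p A hcomm with hE₁
  have hE₁A : E₁ ≤ A := fun x hx => hx.1
  have hE₁P : E₁ ≤ (P : Subgroup G) := hE₁A.trans hA.1
  -- `E₁` has order greater than `p`
  have hcardE : p < Nat.card E₁ := by
    unfold PRankLE at hr
    push Not at hr
    obtain ⟨E', _, hexp, hcard⟩ := hr
    rw [pow_one] at hcard
    have hle : E'.map A.subtype ≤ E₁ := by
      rintro _ ⟨x, hx, rfl⟩
      refine ⟨x.2, ?_⟩
      have := congrArg Subtype.val (hexp x hx)
      rwa [Subgroup.coe_pow] at this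
    have := Subgroup.card_le_of_le hle
    rw [Subgroup.card_map_of_injective A.subtype_injective] at this
    omega
  -- `P` normalizes `E₁`
  have hPE : (P : Subgroup G) ≤ Subgroup.normalizer (E₁ : Set G) := by
    have key : ∀ g ∈ (P : Subgroup G), ∀ x ∈ E₁, g * x * g⁻¹ ∈ E₁ := by
      intro g hg x hx
      refine ⟨(Subgroup.mem_normalizer_iff.mp (hA.2.1 hg) x).mp hx.1, ?_⟩
      rw [conj_pow, hx.2]; group
    intro g hg
    rw [Subgroup.mem_normalizer_iff]
    intro x
    constructor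
    · exact key g hg x
    · intro hx
      have := key g⁻¹ (Subgroup.inv_mem _ hg) _ hx
      have e : g⁻¹ * (g * x * g⁻¹) * g⁻¹⁻¹ = x := by group
      rwa [e] at this
  haveI hNn : (E₁.subgroupOf (P : Subgroup G)).Normal :=
    Subgroup.normal_subgroupOf_of_le_normalizer hPE
  have hcardN : p < Nat.card (E₁.subgroupOf (P : Subgroup G)) := by
    rw [card_subgroupOf_of_le hE₁P]; exact hcardE
  have hexpN : ∀ x ∈ E₁.subgroupOf (P : Subgroup G), x ^ p = 1 := by
    intro x hx
    apply Subtype.ext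
    rw [Subgroup.coe_pow]
    exact (Subgroup.mem_subgroupOf.mp hx).2
  obtain ⟨z', hzN, hzc, hz1, e', heN, heZ, hcomm'⟩ :=
    exists_central_and_second P.isPGroup' (E₁.subgroupOf (P : Subgroup G)) hcardN hexpN
  have hzE : (z' : G) ∈ E₁ := Subgroup.mem_subgroupOf.mp hzN
  have heE : (e' : G) ∈ E₁ := Subgroup.mem_subgroupOf.mp heN
  have hzcG : ∀ y ∈ (P : Subgroup G), (z' : G) * y = y * (z' : G) := by
    intro y hy
    have := Subgroup.mem_center_iff.mp hzc ⟨y, hy⟩
    exact (congrArg Subtype.val this).symm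
  have hz1G : (z' : G) ≠ 1 := fun h => hz1 (Subtype.ext h)
  refine ⟨(z' : G), z'.2, hzcG, hz1G, ?_⟩
  set B := Subgroup.zpowers (z' : G) ⊔ Subgroup.zpowers (e' : G) with hB
  have hBE : B ≤ E₁ := sup_le (Subgroup.zpowers_le.mpr hzE) (Subgroup.zpowers_le.mpr heE)
  have hordz : orderOf (z' : G) = p := orderOf_eq_prime hzE.2 hz1G
  have heZG : (e' : G) ∉ Subgroup.zpowers (z' : G) := by
    intro hcon
    apply heZ
    obtain ⟨i, hi⟩ := Subgroup.mem_zpowers_iff.mp hcon
    apply Subgroup.mem_zpowers_iff.mpr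
    refine ⟨i, Subtype.ext ?_⟩
    rw [Subgroup.coe_zpow]; exact hi
  refine ⟨B, hBE.trans hE₁A, ⟨isCommutative_of_le hcomm (hBE.trans hE₁A), fun a ha => (hBE ha).2⟩, ?_, ?_⟩
  · -- the order of `B`
    have hBp : IsPGroup p B := P.isPGroup'.to_le (hBE.trans hE₁P)
    obtain ⟨k, hk⟩ := IsPGroup.iff_card.mp hBp
    have hcz : Nat.card (Subgroup.zpowers (z' : G)) = p := by rw [Nat.card_zpowers, hordz]
    have hk2 : 2 ≤ k := by
      by_contra hcon
      push Not at hcon
      have h1 : Nat.card B ≤ Nat.card (Subgroup.zpowers (z' : G)) := by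
        rw [hk, hcz]
        calc p ^ k ≤ p ^ 1 := Nat.pow_le_pow_right hp.out.pos (by omega)
          _ = p := pow_one p
      have h2 := Subgroup.eq_of_le_of_card_ge (le_sup_left : Subgroup.zpowers (z' : G) ≤ B) h1
      apply heZG
      rw [h2]
      exact (le_sup_right : Subgroup.zpowers (e' : G) ≤ B) (Subgroup.mem_zpowers _)
    rw [hk]
    exact Nat.pow_le_pow_right hp.out.pos hk2
  · intro a ha
    have h1 := card_le_mul_card_centralizer (Y := ↥(P : Subgroup G)) (Subgroup.zpowers z') (e := e') hcomm'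
    have hcz : Nat.card (Subgroup.zpowers z') = p := by
      rw [Nat.card_zpowers, ← Subgroup.orderOf_coe, hordz]
    rw [hcz] at h1
    refine h1.trans (Nat.mul_le_mul_left p ?_)
    have hle : (Subgroup.centralizer ({e'} : Set ↥(P : Subgroup G))).map (P : Subgroup G).subtype ≤
        (P : Subgroup G) ⊓ Subgroup.centralizer ({a} : Set G) := by
      rintro _ ⟨x, hx, rfl⟩
      refine ⟨x.2, ?_⟩
      have hxe : (e' : G) * (x : G) = (x : G) * (e' : G) := by
        have := Subgroup.mem_centralizer_iff.mp hx e' rfl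
        exact congrArg Subtype.val this
      have hxz : (z' : G) * (x : G) = (x : G) * (z' : G) := hzcG _ x.2
      have hBx : B ≤ Subgroup.centralizer ({(x : G)} : Set G) := by
        apply sup_le
        · rw [Subgroup.zpowers_le]
          apply Subgroup.mem_centralizer_iff.mpr
          intro y hy
          rw [Set.mem_singleton_iff] at hy
          rw [hy]; exact hxz.symm
        · rw [Subgroup.zpowers_le]
          apply Subgroup.mem_centralizer_iff.mpr
          intro y hy
          rw [Set.mem_singleton_iff] at hy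
          rw [hy]; exact hxe.symm
      apply Subgroup.mem_centralizer_iff.mpr
      intro y hy
      rw [Set.mem_singleton_iff] at hy
      rw [hy]
      exact (Subgroup.mem_centralizer_iff.mp (hBx ha) (x : G) rfl).symm
    have := Subgroup.card_le_of_le hle
    rwa [Subgroup.card_map_of_injective (P : Subgroup G).subtype_injective] at this

end Cfsg.Agent.Lib.Helper4.BG76
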