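import Mathlib
import Cfsg.Agent.Lib.Helper4.BG76g
import Cfsg.Agent.S1324

set_option autoImplicit false
open Pointwise

/-! Bender–Glauberman Theorem 7.6. -/

namespace Cfsg.Agent.Lib.Helper4.BG76

open Cfsg Cfsg.Agent.Lib.Helper4 Cfsg.Agent.Lib.Lead Cfsg.Agent.Lib.Helper4.BG7

universe u

variable {G : Type u} [Group G] [Finite G]

theorem ne_two_of_odd (hG : IsMinSimpleOddOrder G) {p : ℕ} (hp : p ∣ Nat.card G) : p ≠ 2 := by
  intro h2
  rw [h2] at hp
  have := hG.1
  rw [← Nat.not_even_iff_odd] at this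
  exact this (even_iff_two_dvd.mpr hp)

/-- the case `A ∈ SCN₂(P)` -/
theorem claim_scn (hG : IsMinSimpleOddOrder G) {p : ℕ} [Fact p.Prime] (hp : p ≠ 2)
    (P : Sylow p G) {A : Subgroup G} (hA : IsSCN (P : Subgroup G) A) (hr : ¬ PRankLE p 1 ↥A)
    {H : Subgroup G} (hH : H ≠ ⊤) (hAH : A ≤ H) {K : Subgroup G} (hKH : K ≤ H)
    (hK : (Nat.card K).Coprime p) (hAK : A ≤ Subgroup.normalizer (K : Set G)) : K ≤ cG p H := by
  obtain ⟨z, hzP, hzc, hz1, B, hBA, hBE, hB2, hidx⟩ := exists_good_pair P hA hr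
  have hcomm := scn_comm hA
  have hKp : ¬ p ∣ Nat.card K := by
    intro hd
    have := Nat.Coprime.eq_one_of_dvd hK.symm hd
    exact (Fact.out : p.Prime).one_lt.ne' this
  have hgen := Cfsg.Agent.S1324.result p B K hBE hB2 hKp (hBA.trans hAK)
  rw [hgen]
  apply iSup_le
  rintro ⟨B₀, hB₀B, hB₀i⟩
  have hB₀1 : B₀ ≠ ⊥ := hyperplane_ne_bot hB2 hB₀B hB₀i
  obtain ⟨⟨a, haB₀⟩, ha1⟩ := (Subgroup.ne_bot_iff_exists_ne_one).mp hB₀1
  have ha1' : a ≠ 1 := fun h => ha1 (Subtype.ext h)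
  have haB : a ∈ B := hB₀B haB₀
  have haA : a ∈ A := hBA haB
  have hHsolv : Group.IsSolvable ↥H := hG.2.2.2 H hH
  have hap : IsPGroup p (Subgroup.zpowers a) :=
    P.isPGroup'.to_le (Subgroup.zpowers_le.mpr (hA.1 haA))
  have hACa : A ≤ Subgroup.centralizer ({a} : Set G) := by
    intro x hx
    apply Subgroup.mem_centralizer_iff.mpr
    intro y hy
    rw [Set.mem_singleton_iff] at hy
    rw [hy]; exact hcomm a haA x hx
  have hAKa : A ≤ Subgroup.normalizer ((K ⊓ Subgroup.centralizer ({a} : Set G) : Subgroup G) : Set G) :=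
    (le_inf hAK (hACa.trans Subgroup.le_normalizer)).trans (normalizer_inf_le' _ _)
  have hcop : (Nat.card (K ⊓ Subgroup.centralizer ({a} : Set G) : Subgroup G)).Coprime p :=
    Nat.Coprime.coprime_dvd_left (Subgroup.card_dvd_of_le inf_le_left) hK
  have h1 := claim_centralizer hG hp P hA hzP hzc hz1 haA ha1' (hidx a haB)
    (inf_le_right : K ⊓ Subgroup.centralizer ({a} : Set G) ≤ _) hcop hAKa
  have h2 := cG_centralizer_inf_le (p := p) hHsolv (hAH haA) hap
  have h3 : K ⊓ Subgroup.centralizer ((B₀ : Subgroup G) : Set G) ≤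
      K ⊓ Subgroup.centralizer ({a} : Set G) := by
    apply inf_le_inf_left
    apply Subgroup.centralizer_le
    intro y hy
    rw [Set.mem_singleton_iff] at hy
    rw [hy]; exact haB₀
  exact h3.trans ((le_inf h1 (inf_le_left.trans hKH)).trans h2)

/-- BG Theorem 7.6 -/
theorem theorem_7_6 (hG : IsMinSimpleOddOrder G) {p : ℕ} [hpf : Fact p.Prime] (hp : p ∣ Nat.card G)
    {A : Subgroup G} (hAp : IsPGroup p A)
    (h : ((∀ x ∈ Subgroup.centralizer (A : Set G), x ^ p = 1 ↔ x ∈ A) ∧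
        (∀ H : Subgroup G, H ≠ ⊤ → PLengthLE p 1 H)) ∨
      ∃ P : Sylow p G, IsSCN (P : Subgroup G) A ∧ ¬ PRankLE p 1 A) :
    TransitivityHypothesis A := by
  have hp2 := ne_two_of_odd hG hp
  have hA1 : A ≠ ⊥ := by
    intro h0
    rcases h with ⟨h1, -⟩ | ⟨P, -, hr⟩
    · obtain ⟨x, hx⟩ := exists_prime_orderOf_dvd_card' (G := G) p hp
      have hxC : x ∈ Subgroup.centralizer (A : Set G) := by
        apply Subgroup.mem_centralizer_iff.mpr
        intro a ha
        have ha' : a ∈ A := ha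
        rw [h0, Subgroup.mem_bot] at ha'
        rw [ha', one_mul, mul_one]
      have hxp : x ^ p = 1 := by rw [← hx]; exact pow_orderOf_eq_one x
      have hxA := (h1 x hxC).mp hxp
      rw [h0, Subgroup.mem_bot] at hxA
      rw [hxA, orderOf_one] at hx
      exact hpf.out.one_lt.ne' hx.symm
    · apply hr
      intro E _ _
      have h1 : Nat.card ↥A = 1 := by rw [h0]; exact Subgroup.card_bot
      have h2 : Nat.card E ≤ Nat.card ↥A := Subgroup.card_le_card_group E
      rw [pow_one]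
      have := hpf.out.one_lt
      omega
  have hAtop : A ≠ ⊤ := by
    intro h0
    have hsimp := hG.2.1
    have hGp : IsPGroup p G := by
      intro g
      obtain ⟨k, hk⟩ := hAp ⟨g, by rw [h0]; trivial⟩
      exact ⟨k, by simpa using congrArg Subtype.val hk⟩
    apply hG.2.2.1
    have hc : Subgroup.center G ≠ ⊥ := by
      have : Nontrivial G := hsimp.toNontrivial
      exact (Subgroup.nontrivial_iff_ne_bot _).mp hGp.center_nontrivial
    rcases (Subgroup.Normal.eq_bot_or_eq_top (inferInstance : (Subgroup.center G).Normal)) with h1 | h1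
    · exact absurd h1 hc
    · exact ⟨⟨fun a b => by
        have : a ∈ Subgroup.center G := by rw [h1]; trivial
        exact ((Subgroup.mem_center_iff.mp this) b).symm⟩⟩
  refine ⟨hA1, hAtop, ?_⟩
  intro X hX hAX
  rw [piCoreOf_cpi_eq hAp hA1]
  apply le_antisymm
  · apply sSup_le
    rintro Y ⟨hYX, hYπ, hAY⟩
    have hYc : (Nat.card Y).Coprime p := (isPiNum_cpi_iff hAp hA1 _).mp hYπ
    rcases h with ⟨h1, h2⟩ | ⟨P, hscn, hr⟩
    · exact claim_plength_one hG hp2 hAp (fun x hx hxp => (h1 x hx).mp hxp) hX (h2 X hX) hAX hYX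
        hYc hAY
    · exact claim_scn hG hp2 P hscn hr hX hAX hYX hYc hAY
  · apply le_sSup
    exact ⟨cG_le p X, (isPiNum_cpi_iff hAp hA1 _).mpr (card_cG_coprime p X),
      hAX.trans (le_normalizer_cG p X)⟩

end Cfsg.Agent.Lib.Helper4.BG76
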