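import Mathlib
import Cfsg.Agent.Lib.Helper4.BG7e
import Cfsg.Agent.Lib.Helper4.ThreeStep4
import Cfsg.Agent.S0059

set_option autoImplicit false
open Pointwise

/-! Bender–Glauberman Section 7: tools for Theorem 7.5 (the action on maximal invariant subgroups). -/

namespace Cfsg.Agent.Lib.Helper4.BG7

open Cfsg Cfsg.Agent.Lib.Helper4 Cfsg.Agent.Lib.Helper4.ThreeStep

universe u

variable {G : Type u} [Group G]

theorem normalizer_le_normalizer_centralizer (A : Subgroup G) :
    Subgroup.normalizer (A : Set G) ≤ Subgroup.normalizer ((Subgroup.centralizer (A : Set G) : Subgroup G) : Set G) := by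
  intro g hg
  have hgA := Subgroup.mem_normalizer_iff.mp hg
  have key : ∀ h : G, h ∈ Subgroup.normalizer (A : Set G) → ∀ c ∈ Subgroup.centralizer (A : Set G),
      h * c * h⁻¹ ∈ Subgroup.centralizer (A : Set G) := by
    intro h hh c hc
    have hhA := Subgroup.mem_normalizer_iff.mp hh
    rw [Subgroup.mem_centralizer_iff] at hc ⊢
    intro a ha
    have h1 : h⁻¹ * a * h ∈ A := by
      apply (hhA _).mpr
      have : h * (h⁻¹ * a * h) * h⁻¹ = a := by group
      rw [this]; exact ha
    have h2 := hc _ h1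
    calc a * (h * c * h⁻¹) = h * ((h⁻¹ * a * h) * c) * h⁻¹ := by group
      _ = h * (c * (h⁻¹ * a * h)) * h⁻¹ := by rw [h2]
      _ = h * c * h⁻¹ * a := by group
  rw [Subgroup.mem_normalizer_iff]
  intro c
  constructor
  · exact key g hg c
  · intro hc
    have := key g⁻¹ (Subgroup.inv_mem _ hg) _ hc
    have e : g⁻¹ * (g * c * g⁻¹) * g⁻¹⁻¹ = c := by group
    rwa [e] at this

theorem normalizer_le_normalizer_piCoreOf [Finite G] (π : Set ℕ) (X : Subgroup G) :
    Subgroup.normalizer (X : Set G) ≤ Subgroup.normalizer (piCoreOf π X : Set G) := by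
  intro g hg
  have hX : X.map (MulAut.conj g).toMonoidHom = X := map_conj_eq_of_mem_normalizer hg
  set W := piCoreOf π X with hW
  have h1 : W.map (MulAut.conj g).toMonoidHom ≤ W := by
    apply le_piCoreOf
    · rw [← hX]; exact Subgroup.map_mono (piCoreOf_le π X)
    · have h2 := Subgroup.le_normalizer_map (H := W) (MulAut.conj g).toMonoidHom
      refine le_trans ?_ h2
      rw [← hX]
      exact Subgroup.map_mono (le_normalizer_piCoreOf π X)
    · rw [Subgroup.card_map_of_injective (MulAut.conj g).injective]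
      exact isPiNum_card_piCoreOf π X
  apply mem_normalizer_of_map_conj_eq
  apply Subgroup.eq_of_le_of_card_ge h1
  rw [Subgroup.card_map_of_injective (MulAut.conj g).injective]

theorem normalizer_le_normalizer_KA [Finite G] (A : Subgroup G) :
    Subgroup.normalizer (A : Set G) ≤ Subgroup.normalizer (KA A : Set G) :=
  (normalizer_le_normalizer_centralizer A).trans (normalizer_le_normalizer_piCoreOf _ _)

/-- conjugation by an element normalizing `A` preserves the set of maximal invariant subgroups -/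
theorem map_conj_mem_maxInv' {A Q : Subgroup G} {π : Set ℕ} {g : G}
    (hg : g ∈ Subgroup.normalizer (A : Set G)) (hQ : Q ∈ maxInvSubgroups ⊤ A π) :
    Q.map (MulAut.conj g).toMonoidHom ∈ maxInvSubgroups ⊤ A π := by
  have hinv : ∀ (c : G), c ∈ Subgroup.normalizer (A : Set G) → ∀ R : Subgroup G,
      R ∈ invSubgroups ⊤ A π → R.map (MulAut.conj c).toMonoidHom ∈ invSubgroups ⊤ A π := by
    intro c hc R hR
    refine ⟨le_top, ?_, ?_⟩
    · rw [Subgroup.card_map_of_injective (MulAut.conj c).injective]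
      exact hR.2.1
    · have h1 := Subgroup.le_normalizer_map (H := R) (MulAut.conj c).toMonoidHom
      refine le_trans ?_ h1
      rw [← map_conj_eq_of_mem_normalizer hc]
      exact Subgroup.map_mono hR.2.2
  refine ⟨hinv g hg Q hQ.1, ?_⟩
  intro R hR hle
  have h1 : Q ≤ R.map (MulAut.conj g⁻¹).toMonoidHom := by
    intro x hx
    refine ⟨g * x * g⁻¹, hle ⟨x, hx, rfl⟩, ?_⟩
    show g⁻¹ * (g * x * g⁻¹) * g⁻¹⁻¹ = x
    group
  have h2 := hQ.2 _ (hinv g⁻¹ (Subgroup.inv_mem _ hg) R hR) h1
  rw [← h2, map_conj_map_conj, mul_inv_cancel, map_one]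
  exact (Subgroup.map_id R).symm

/-- the set of maximal `A`-invariant `q`-subgroups, as a type -/
def Om (A : Subgroup G) (q : ℕ) : Type u := {Q : Subgroup G // Q ∈ maxInvSubgroups ⊤ A {q}}

instance actN (A : Subgroup G) (q : ℕ) : MulAction ↥(Subgroup.normalizer (A : Set G)) (Om A q) where
  smul g Q := ⟨Q.1.map (MulAut.conj (g : G)).toMonoidHom, map_conj_mem_maxInv' g.2 Q.2⟩
  one_smul Q := by
    apply Subtype.ext
    show Q.1.map (MulAut.conj ((1 : ↥(Subgroup.normalizer (A : Set G))) : G)).toMonoidHom = Q.1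
    rw [Subgroup.coe_one, map_one]
    exact Subgroup.map_id Q.1
  mul_smul g h Q := by
    apply Subtype.ext
    show Q.1.map (MulAut.conj ((g * h : ↥(Subgroup.normalizer (A : Set G))) : G)).toMonoidHom =
      (Q.1.map (MulAut.conj (h : G)).toMonoidHom).map (MulAut.conj (g : G)).toMonoidHom
    rw [map_conj_map_conj, Subgroup.coe_mul]

theorem actN_smul_val (A : Subgroup G) (q : ℕ) (g : ↥(Subgroup.normalizer (A : Set G))) (Q : Om A q) :
    (g • Q).1 = Q.1.map (MulAut.conj (g : G)).toMonoidHom := rfl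

end Cfsg.Agent.Lib.Helper4.BG7
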