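import Mathlib
import Cfsg.Agent.Lib.Helper4.BG7f

set_option autoImplicit false
open Pointwise

/-! Bender–Glauberman Section 7: Glauberman's lemma for the action on maximal invariant subgroups. -/

namespace Cfsg.Agent.Lib.Helper4.BG7

open Cfsg Cfsg.Agent.Lib.Helper4 Cfsg.Agent.Lib.Helper4.ThreeStep

universe u

variable {G : Type u} [Group G] [Finite G]

theorem exists_fixed_and_conj {A P : Subgroup G} {q : ℕ}
    (hPA : P ≤ Subgroup.normalizer (A : Set G))
    (hcop : (Nat.card (KA A)).Coprime (Nat.card P)) (hsolv : Group.IsSolvable (KA A))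
    (htr : Transitive A q) :
    (∃ Q ∈ maxInvSubgroups ⊤ A {q}, P ≤ Subgroup.normalizer (Q : Set G)) ∧
      ∀ Q ∈ maxInvSubgroups ⊤ A {q}, ∀ Q' ∈ maxInvSubgroups ⊤ A {q},
        P ≤ Subgroup.normalizer (Q : Set G) → P ≤ Subgroup.normalizer (Q' : Set G) →
        ∃ k ∈ KA A ⊓ Subgroup.centralizer (P : Set G), Q' = Q.map (MulAut.conj k).toMonoidHom := by
  set Γ : Subgroup G := KA A ⊔ P with hΓ
  have hKΓ : KA A ≤ Γ := le_sup_left
  have hPΓ : P ≤ Γ := le_sup_right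
  have hΓN : Γ ≤ Subgroup.normalizer (A : Set G) :=
    sup_le ((KA_le_centralizer A).trans (Subgroup.centralizer_le_normalizer _)) hPA
  have hΓK : Γ ≤ Subgroup.normalizer (KA A : Set G) :=
    sup_le Subgroup.le_normalizer (hPA.trans (normalizer_le_normalizer_KA A))
  letI : MulAction ↥Γ (Om A q) := MulAction.compHom _ (Subgroup.inclusion hΓN)
  have smul_val : ∀ (g : ↥Γ) (Q : Om A q), (g • Q).1 = Q.1.map (MulAut.conj (g : G)).toMonoidHom :=
    fun g Q => rfl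
  set K' : Subgroup ↥Γ := (KA A).subgroupOf Γ with hK'
  set H' : Subgroup ↥Γ := P.subgroupOf Γ with hH'
  haveI : K'.Normal := Subgroup.normal_subgroupOf_of_le_normalizer hΓK
  have hcK' : Nat.card K' = Nat.card (KA A) := card_subgroupOf_of_le hKΓ
  have hcH' : Nat.card H' = Nat.card P := card_subgroupOf_of_le hPΓ
  have hdisj : P ⊓ KA A = ⊥ := Subgroup.inf_eq_bot_of_coprime hcop.symm
  have hcard : Nat.card K' * Nat.card H' = Nat.card ↥Γ := by
    have h1 := Cfsg.Agent.Lib.Helper2.card_sup_mul_card_inf P (KA A)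
      (hPA.trans (normalizer_le_normalizer_KA A))
    rw [hdisj, Subgroup.card_bot, mul_one, sup_comm] at h1
    rw [hcK', hcH', hΓ, h1, mul_comm]
  have hc : Subgroup.IsComplement' K' H' :=
    Subgroup.isComplement'_of_coprime hcard (by rw [hcK', hcH']; exact hcop)
  have hcop' : (Nat.card K').Coprime K'.index := by
    rw [hc.symm.index_eq_card, hcK', hcH']; exact hcop
  have hsolv' : Group.IsSolvable K' :=
    solvable_of_solvable_injective (f := (Subgroup.subgroupOfEquivOfLe hKΓ).toMonoidHom)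
      (Subgroup.subgroupOfEquivOfLe hKΓ).injective
  haveI : Nonempty (Om A q) := by
    obtain ⟨Q, hQ, -⟩ := exists_maxInv_ge (bot_mem_inv A {q})
    exact ⟨⟨Q, hQ⟩⟩
  have htrans : MulAction.IsPretransitive ↥K' (Om A q) := by
    constructor
    intro x y
    obtain ⟨k, hk, hxy⟩ := htr x.1 x.2 y.1 y.2
    refine ⟨⟨⟨k, hKΓ hk⟩, Subgroup.mem_subgroupOf.mpr hk⟩, ?_⟩
    apply Subtype.ext
    exact hxy.symm
  obtain ⟨⟨x, hx⟩, hconj⟩ := Cfsg.Agent.S0059.result K' H' hc hcop' (Or.inl hsolv') htrans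
  have fixed_iff : ∀ x : Om A q, (∀ h ∈ H', h • x = x) ↔ P ≤ Subgroup.normalizer (x.1 : Set G) := by
    intro x
    constructor
    · intro h p hp
      have h1 := h ⟨p, hPΓ hp⟩ (Subgroup.mem_subgroupOf.mpr hp)
      have h2 := congrArg Subtype.val h1
      rw [smul_val] at h2
      exact mem_normalizer_of_map_conj_eq h2
    · intro h g hg
      apply Subtype.ext
      rw [smul_val]
      exact map_conj_eq_of_mem_normalizer (h (Subgroup.mem_subgroupOf.mp hg))
  refine ⟨⟨x.1, x.2, (fixed_iff x).mp hx⟩, ?_⟩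
  intro Q hQ Q' hQ' hPQ hPQ'
  obtain ⟨x₁, hx₁⟩ : ∃ x₁ : Om A q, x₁.1 = Q := ⟨⟨Q, hQ⟩, rfl⟩
  obtain ⟨x₂, hx₂⟩ : ∃ x₂ : Om A q, x₂.1 = Q' := ⟨⟨Q', hQ'⟩, rfl⟩
  obtain ⟨k, hk, hkx⟩ := hconj x₁ x₂ ((fixed_iff x₁).mpr (by rw [hx₁]; exact hPQ))
    ((fixed_iff x₂).mpr (by rw [hx₂]; exact hPQ'))
  refine ⟨(k : G), ⟨Subgroup.mem_subgroupOf.mp hk.1, ?_⟩, ?_⟩
  · apply Subgroup.mem_centralizer_iff.mpr
    intro p hp
    have h1 := Subgroup.mem_centralizer_iff.mp hk.2 ⟨p, hPΓ hp⟩ (Subgroup.mem_subgroupOf.mpr hp)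
    exact congrArg Subtype.val h1
  · have h2 : (k • x₁).1 = x₂.1 := congrArg Subtype.val hkx
    rw [smul_val, hx₁, hx₂] at h2
    exact h2.symm

end Cfsg.Agent.Lib.Helper4.BG7
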