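import Mathlib
import Cfsg.Agent.Lib.Helper4.BG7g
import Cfsg.Agent.Lib.Helper4.NilpSub
import Cfsg.Agent.Lib.Helper4.CNMax2

set_option autoImplicit false
open Pointwise

/-! Bender–Glauberman Section 7: Theorem 7.5, the step to a normalizing overgroup. -/

namespace Cfsg.Agent.Lib.Helper4.BG7

open Cfsg Cfsg.Agent.Lib.Helper4 Cfsg.Agent.Lib.Helper4.ThreeStep

universe u

variable {G : Type u} [Group G]

theorem sylIn_map_sylow [Finite G] {p : ℕ} [Fact p.Prime] {M : Subgroup G} (X : Sylow p ↥M) :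
    SylIn p M ((X : Subgroup M).map M.subtype) := by
  refine ⟨Subgroup.map_subtype_le _, X.2.map _, ?_⟩
  have h2 : ((X : Subgroup M).map M.subtype).relIndex M = (X : Subgroup M).index := by
    unfold Subgroup.relIndex Subgroup.subgroupOf
    rw [Subgroup.comap_map_eq_self_of_injective M.subtype_injective]
  rw [h2]
  exact X.not_dvd_index

theorem cpi_eq {A P : Subgroup G} (hAP : A ≤ P)
    (hPπ : ∀ r : ℕ, r.Prime → r ∣ Nat.card P → r ∣ Nat.card A) : cpi P = cpi A := by
  ext r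
  constructor
  · rintro ⟨hr, h⟩
    exact ⟨hr, fun h' => h (h'.trans (Subgroup.card_dvd_of_le hAP))⟩
  · rintro ⟨hr, h⟩
    exact ⟨hr, fun h' => h (hPπ r hr h')⟩

theorem transHyp_of_le [Finite G] {A P : Subgroup G} (hA : TransitivityHypothesis A) (hAP : A ≤ P)
    (hP : P ≠ ⊤) (hPπ : ∀ r : ℕ, r.Prime → r ∣ Nat.card P → r ∣ Nat.card A) :
    TransitivityHypothesis P := by
  have hc := cpi_eq hAP hPπ
  refine ⟨fun h0 => hA.1 (le_bot_iff.mp (h0 ▸ hAP)), hP, ?_⟩
  intro X hX hPX
  show sSup (invSubgroups X P (cpi P)) = piCoreOf (cpi P) X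
  rw [hc]
  apply le_antisymm
  · rw [← hA.2.2 X hX (hAP.trans hPX)]
    apply sSup_le_sSup
    rintro Y ⟨h1, h2, h3⟩
    exact ⟨h1, h2, hAP.trans h3⟩
  · apply le_sSup
    exact ⟨piCoreOf_le _ _, isPiNum_card_piCoreOf _ _, hPX.trans (le_normalizer_piCoreOf _ _)⟩

/-- part (a) of Theorem 7.5 -/
theorem KA_inf_centralizer [Finite G] (hG : IsMinSimpleOddOrder G) {A P : Subgroup G}
    (hA : TransitivityHypothesis A) (hAP : A ≤ P) :
    KA A ⊓ Subgroup.centralizer (P : Set G) = piCoreOf (cpi A) (Subgroup.centralizer (P : Set G)) := by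
  have hCC : Subgroup.centralizer (P : Set G) ≤ Subgroup.centralizer (A : Set G) :=
    Subgroup.centralizer_le hAP
  apply le_antisymm
  · apply le_piCoreOf inf_le_right
    · refine le_trans ?_ (normalizer_inf_le' _ _)
      exact le_inf (hCC.trans (le_normalizer_piCoreOf _ _)) Subgroup.le_normalizer
    · exact isPiNum_of_le inf_le_left (isPiNum_card_piCoreOf _ _)
  · apply le_inf
    · exact le_KA_of_le_centralizer hG hA ((piCoreOf_le _ _).trans hCC) (isPiNum_card_piCoreOf _ _)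
    · exact piCoreOf_le _ _

theorem KA_ne_top [Finite G] {A : Subgroup G} (hA : A ≠ ⊥) : KA A ≠ ⊤ := by
  intro h0
  have h1 : (Nat.card A).Coprime (Nat.card (KA A)) :=
    coprime_of_isPiNum A (isPiNum_card_piCoreOf _ _)
  rw [h0, Subgroup.card_top] at h1
  have h2 : Nat.card A ∣ Nat.card G := Subgroup.card_subgroup_dvd_card A
  have h3 : Nat.card A = 1 := Nat.eq_one_of_dvd_coprimes h1 dvd_rfl h2
  exact hA (Subgroup.card_eq_one.mp h3)

end Cfsg.Agent.Lib.Helper4.BG7
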