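import Mathlib
import Cfsg.Agent.Lib.Helper4.BG7h
import Cfsg.Agent.S0025

set_option autoImplicit false
open Pointwise

/-! Bender–Glauberman Section 7: Theorem 7.5, the step to a normalizing overgroup. -/

namespace Cfsg.Agent.Lib.Helper4.BG7

open Cfsg Cfsg.Agent.Lib.Helper4 Cfsg.Agent.Lib.Helper4.ThreeStep

universe u

variable {G : Type u} [Group G] [Finite G]

/-- a maximal `B`-invariant `q`-subgroup which is nontrivial is a maximal `A`-invariant one -/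
theorem mem_maxInv_of_ne_bot (hG : IsMinSimpleOddOrder G) {A B : Subgroup G}
    (hA : TransitivityHypothesis A) {q : ℕ} (hq : q.Prime) (hqA : ¬ q ∣ Nat.card A)
    (hAB : A ≤ B) (hBπ : ∀ r : ℕ, r.Prime → r ∣ Nat.card B → r ∣ Nat.card A)
    {Q' : Subgroup G} (hQ' : Q' ∈ maxInvSubgroups ⊤ B {q}) (h0 : Q' ≠ ⊥) :
    Q' ∈ maxInvSubgroups ⊤ A {q} := by
  haveI : Fact q.Prime := ⟨hq⟩
  have hcB := cpi_eq hAB hBπ
  have hQ'A : Q' ∈ invSubgroups ⊤ A {q} := ⟨le_top, hQ'.1.2.1, hAB.trans hQ'.1.2.2⟩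
  obtain ⟨Q₁, hQ₁, hle⟩ := exists_maxInv_ge hQ'A
  by_cases heq : Q' = Q₁
  · rw [heq]; exact hQ₁
  exfalso
  have hQ₁q := isPGroup_of_mem_maxInv hQ₁
  have hQ'q : IsPGroup q Q' := hQ₁q.to_le hle
  obtain ⟨y, hyQ, hyQ', hyN⟩ :=
    Cfsg.Agent.Lib.Helper4.CNMax.exists_normalizer_not_mem hQ₁q.isNilpotent hle heq
  set X := Subgroup.normalizer (Q' : Set G) with hX
  have hXtop : X ≠ ⊤ := by
    intro h1
    have := hG.2.1
    have hn : Q'.Normal := Subgroup.normalizer_eq_top_iff.mp h1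
    rcases hn.eq_bot_or_eq_top with h2 | h2
    · exact h0 h2
    · apply heq
      rw [h2, eq_comm, eq_top_iff, ← h2]; exact hle
  have hBX : B ≤ X := hQ'.1.2.2
  have hAX : A ≤ X := hAB.trans hBX
  set L := piCoreOf (cpi A) X with hL
  have hLX : L ≤ X := piCoreOf_le _ _
  have hLπ : IsPiNum (cpi A) (Nat.card L) := isPiNum_card_piCoreOf _ _
  have hLtop : L ≠ ⊤ := fun h1 => hXtop (eq_top_iff.mpr (h1 ▸ hLX))
  have hLsolv : Group.IsSolvable L := hG.2.2.2 L hLtop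
  have hRL : Q₁ ⊓ X ≤ L := by
    apply le_piCoreOf_of_mem_inv hA hXtop hAX
    refine ⟨inf_le_right, ?_, ?_⟩
    · exact isPiNum_cpi_of_singleton hq hqA (isPiNum_of_le inf_le_left hQ₁.1.2.1)
    · exact (le_inf hQ₁.1.2.2 (hAX.trans Subgroup.le_normalizer)).trans (normalizer_inf_le' Q₁ X)
  have hQ'L : Q' ≤ L := (le_inf hle Subgroup.le_normalizer).trans hRL
  have hBL : B ≤ Subgroup.normalizer (L : Set G) := hBX.trans (le_normalizer_piCoreOf _ _)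
  have hcopL : (Nat.card B).Coprime (Nat.card L) := by
    apply coprime_of_isPiNum B
    rw [hcB]; exact hLπ
  obtain ⟨S, hQ'S, hBS⟩ := Cfsg.Agent.S0025.result B L hBL hcopL (Or.inr hLsolv) q Q' hQ'L hQ'q
    hQ'.1.2.2
  have hSQ' : (S : Subgroup L).map L.subtype = Q' := by
    apply hQ'.2 _ ?_ hQ'S
    exact ⟨le_top, isPiNum_singleton_of_isPGroup (S.isPGroup'.map _), hBS⟩
  have hsyl : SylIn q L Q' := by
    rw [← hSQ']; exact sylIn_map_sylow S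
  have hyL : y ∈ L := hRL ⟨hyQ, hyN⟩
  have h3 : Subgroup.zpowers y ≤ Q' := by
    apply hsyl.le_of_normal (hLX.trans (le_refl _)) (Subgroup.zpowers_le.mpr hyL)
    exact hQ₁q.to_le (Subgroup.zpowers_le.mpr hyQ)
  exact hyQ' (h3 (Subgroup.mem_zpowers y))

/-- The step of Theorem 7.5 for `A ⊴ B`. -/
theorem step_normal (hG : IsMinSimpleOddOrder G) {A B : Subgroup G}
    (hA : TransitivityHypothesis A) {q : ℕ} (hq : q.Prime) (hqA : ¬ q ∣ Nat.card A)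
    (hAB : A ≤ B) (hBN : B ≤ Subgroup.normalizer (A : Set G))
    (hBπ : ∀ r : ℕ, r.Prime → r ∣ Nat.card B → r ∣ Nat.card A) (htr : Transitive A q) :
    Transitive B q ∧ maxInvSubgroups ⊤ B {q} ⊆ maxInvSubgroups ⊤ A {q} := by
  haveI : Fact q.Prime := ⟨hq⟩
  have hcB := cpi_eq hAB hBπ
  have hKsolv : Group.IsSolvable (KA A) := hG.2.2.2 _ (KA_ne_top hA.1)
  have hcop : (Nat.card (KA A)).Coprime (Nat.card B) := by
    apply Nat.Coprime.symm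
    apply coprime_of_isPiNum B
    rw [hcB]; exact isPiNum_card_piCoreOf _ _
  obtain ⟨⟨Q₀, hQ₀, hBQ₀⟩, hconj⟩ := exists_fixed_and_conj hBN hcop hKsolv htr
  have key : ∀ Q' ∈ maxInvSubgroups ⊤ B {q}, Q' ∈ maxInvSubgroups ⊤ A {q} := by
    intro Q' hQ'
    by_cases h0 : Q' = ⊥
    · have h1 : Q₀ = Q' := hQ'.2 Q₀ ⟨le_top, hQ₀.1.2.1, hBQ₀⟩ (by rw [h0]; exact bot_le)
      rw [← h1]; exact hQ₀
    · exact mem_maxInv_of_ne_bot hG hA hq hqA hAB hBπ hQ' h0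
  refine ⟨?_, key⟩
  intro Q₁ hQ₁ Q₂ hQ₂
  obtain ⟨k, hk, e⟩ := hconj Q₁ (key Q₁ hQ₁) Q₂ (key Q₂ hQ₂) hQ₁.1.2.2 hQ₂.1.2.2
  refine ⟨k, ?_, e⟩
  show k ∈ piCoreOf (cpi B) (Subgroup.centralizer (B : Set G))
  rw [hcB, ← KA_inf_centralizer hG hA hAB]
  exact hk

end Cfsg.Agent.Lib.Helper4.BG7
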