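import Mathlib
import Cfsg.Agent.Lib.Helper4.BG7i

set_option autoImplicit false
open Pointwise
open scoped commutatorElement

/-! Bender–Glauberman Section 7: Theorem 7.5, part (d) and the subnormal induction. -/

namespace Cfsg.Agent.Lib.Helper4.BG7

open Cfsg Cfsg.Agent.Lib.Helper4 Cfsg.Agent.Lib.Helper4.ThreeStep

universe u

variable {G : Type u} [Group G] [Finite G]

/-- Frattini argument: `N(P) = K_P (N(P) ∩ N(Q))`. -/
theorem normalizer_eq_sup {P : Subgroup G} {q : ℕ} (htr : Transitive P q) {Q : Subgroup G}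
    (hQ : Q ∈ maxInvSubgroups ⊤ P {q}) :
    Subgroup.normalizer (P : Set G) =
      KA P ⊔ (Subgroup.normalizer (P : Set G) ⊓ Subgroup.normalizer (Q : Set G)) := by
  have hKN : KA P ≤ Subgroup.normalizer (P : Set G) :=
    (KA_le_centralizer P).trans (Subgroup.centralizer_le_normalizer _)
  apply le_antisymm
  · intro g hg
    have h1 := map_conj_mem_maxInv' hg hQ
    obtain ⟨k, hk, e⟩ := htr Q hQ _ h1
    have h2 : k⁻¹ * g ∈ Subgroup.normalizer (Q : Set G) := by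
      apply mem_normalizer_of_map_conj_eq
      rw [← map_conj_map_conj, e, map_conj_map_conj, inv_mul_cancel, map_one]
      exact Subgroup.map_id Q
    have h3 : k⁻¹ * g ∈ Subgroup.normalizer (P : Set G) :=
      Subgroup.mul_mem _ (Subgroup.inv_mem _ (hKN hk)) hg
    have h4 : g = k * (k⁻¹ * g) := by group
    rw [h4]
    exact Subgroup.mul_mem_sup hk ⟨h3, h2⟩
  · exact sup_le hKN inf_le_left

theorem exists_mul_of_mem_sup {K H : Subgroup G} (h : H ≤ Subgroup.normalizer (K : Set G)) {x : G}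
    (hx : x ∈ K ⊔ H) : ∃ k ∈ K, ∃ n ∈ H, x = k * n := by
  have h1 : x ∈ ((K ⊔ H : Subgroup G) : Set G) := hx
  rw [Subgroup.coe_mul_of_right_le_normalizer_left K H h] at h1
  obtain ⟨k, hk, n, hn, e⟩ := h1
  exact ⟨k, hk, n, hn, e.symm⟩

theorem conj_mem_of_mem_normalizer {K : Subgroup G} {n k : G}
    (hn : n ∈ Subgroup.normalizer (K : Set G)) (hk : k ∈ K) : n * k * n⁻¹ ∈ K :=
  (Subgroup.mem_normalizer_iff.mp hn k).mp hk

/-- commutators of `K N₁` lie in `K N₁'` when `N₁` normalizes `K` -/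
theorem commutator_sup_le {K N₁ : Subgroup G} (h : N₁ ≤ Subgroup.normalizer (K : Set G)) :
    ⁅K ⊔ N₁, K ⊔ N₁⁆ ≤ K ⊔ ⁅N₁, N₁⁆ := by
  rw [Subgroup.commutator_le]
  intro a ha b hb
  obtain ⟨k₁, hk₁, n₁, hn₁, rfl⟩ := exists_mul_of_mem_sup h ha
  obtain ⟨k₂, hk₂, n₂, hn₂, rfl⟩ := exists_mul_of_mem_sup h hb
  have e : ⁅k₁ * n₁, k₂ * n₂⁆ =
      k₁ * (n₁ * k₂ * n₁⁻¹) * ((n₁ * n₂ * n₁⁻¹) * k₁⁻¹ * (n₁ * n₂ * n₁⁻¹)⁻¹) *
        (⁅n₁, n₂⁆ * k₂⁻¹ * ⁅n₁, n₂⁆⁻¹) * ⁅n₁, n₂⁆ := by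
    simp only [commutatorElement_def]
    group
  rw [e]
  have hc : ⁅n₁, n₂⁆ ∈ ⁅N₁, N₁⁆ := Subgroup.commutator_mem_commutator hn₁ hn₂
  have hcN : ⁅n₁, n₂⁆ ∈ N₁ := by
    have : ⁅N₁, N₁⁆ ≤ N₁ := by
      rw [Subgroup.commutator_le]
      intro x hx y hy
      rw [commutatorElement_def]
      exact N₁.mul_mem (N₁.mul_mem (N₁.mul_mem hx hy) (N₁.inv_mem hx)) (N₁.inv_mem hy)
    exact this hc
  refine Subgroup.mul_mem_sup ?_ hc
  refine K.mul_mem (K.mul_mem (K.mul_mem hk₁ ?_) ?_) ?_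
  · exact conj_mem_of_mem_normalizer (h hn₁) hk₂
  · exact conj_mem_of_mem_normalizer
      (h (N₁.mul_mem (N₁.mul_mem hn₁ hn₂) (N₁.inv_mem hn₁))) (K.inv_mem hk₁)
  · exact conj_mem_of_mem_normalizer (h hcN) (K.inv_mem hk₂)

/-- part (d) of Theorem 7.5 -/
theorem part_d {P : Subgroup G} {q : ℕ} (htr : Transitive P q) {Q : Subgroup G}
    (hQ : Q ∈ maxInvSubgroups ⊤ P {q}) :
    P ⊓ ⁅Subgroup.normalizer (P : Set G), Subgroup.normalizer (P : Set G)⁆ ≤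
      ⁅Subgroup.normalizer (Q : Set G), Subgroup.normalizer (Q : Set G)⁆ := by
  set N := Subgroup.normalizer (P : Set G) with hN
  set N₁ := N ⊓ Subgroup.normalizer (Q : Set G) with hN₁
  have hsup : N = KA P ⊔ N₁ := normalizer_eq_sup htr hQ
  have hNK : N ≤ Subgroup.normalizer (KA P : Set G) := normalizer_le_normalizer_KA P
  have hN₁K : N₁ ≤ Subgroup.normalizer (KA P : Set G) := inf_le_left.trans hNK
  have hcomm : ⁅N₁, N₁⁆ ≤ N₁ := by
    rw [Subgroup.commutator_le]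
    intro x hx y hy
    rw [commutatorElement_def]
    exact N₁.mul_mem (N₁.mul_mem (N₁.mul_mem hx hy) (N₁.inv_mem hx)) (N₁.inv_mem hy)
  have hPN₁ : P ≤ N₁ := le_inf Subgroup.le_normalizer hQ.1.2.2
  rintro x ⟨hxP, hxN⟩
  have h1 : x ∈ KA P ⊔ ⁅N₁, N₁⁆ := by
    apply commutator_sup_le hN₁K
    rw [← hsup]; exact hxN
  obtain ⟨k, hk, n, hn, e⟩ := exists_mul_of_mem_sup (hcomm.trans hN₁K) h1
  have hxN₁ : x ∈ N₁ := hPN₁ hxP
  have hnN₁ : n ∈ N₁ := hcomm hn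
  have hkN₁ : k ∈ N₁ := by
    have : k = x * n⁻¹ := by rw [e]; group
    rw [this]; exact N₁.mul_mem hxN₁ (N₁.inv_mem hnN₁)
  rw [← Subgroup.map_subtype_commutator] at hn
  obtain ⟨m, hm, hmn⟩ := hn
  have e' : (⟨x, hxN₁⟩ : ↥N₁) = ⟨k, hkN₁⟩ * m := by
    apply Subtype.ext
    rw [Subgroup.coe_mul]
    show x = k * (N₁.subtype m)
    rw [hmn]; exact e
  have hφ : Abelianization.of (⟨x, hxN₁⟩ : ↥N₁) = Abelianization.of (⟨k, hkN₁⟩ : ↥N₁) := by
    rw [e', map_mul]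
    have : Abelianization.of m = 1 := by
      rw [← MonoidHom.mem_ker, Abelianization.ker_of]; exact hm
    rw [this, mul_one]
  have ho1 : orderOf (Abelianization.of (⟨x, hxN₁⟩ : ↥N₁)) ∣ Nat.card P := by
    refine (orderOf_map_dvd _ _).trans ?_
    rw [Subgroup.orderOf_mk]
    have := orderOf_dvd_natCard (⟨x, hxP⟩ : P)
    rwa [Subgroup.orderOf_mk] at this
  have ho2 : orderOf (Abelianization.of (⟨x, hxN₁⟩ : ↥N₁)) ∣ Nat.card (KA P) := by
    rw [hφ]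
    refine (orderOf_map_dvd _ _).trans ?_
    rw [Subgroup.orderOf_mk]
    have := orderOf_dvd_natCard (⟨k, hk⟩ : KA P)
    rwa [Subgroup.orderOf_mk] at this
  have hcop : (Nat.card P).Coprime (Nat.card (KA P)) :=
    coprime_of_isPiNum P (isPiNum_card_piCoreOf _ _)
  have h3 := Nat.eq_one_of_dvd_coprimes hcop ho1 ho2
  have h4 : (⟨x, hxN₁⟩ : ↥N₁) ∈ commutator ↥N₁ := by
    rw [← Abelianization.ker_of, MonoidHom.mem_ker]
    exact orderOf_eq_one_iff.mp h3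
  have h5 : x ∈ ⁅N₁, N₁⁆ := by
    rw [← Subgroup.map_subtype_commutator]
    exact ⟨_, h4, rfl⟩
  exact Subgroup.commutator_mono inf_le_right inf_le_right h5

end Cfsg.Agent.Lib.Helper4.BG7
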