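import Mathlib
import Cfsg.Agent.Lib.Helper4.BG7j

set_option autoImplicit false
open Pointwise

/-! Bender–Glauberman Section 7: Theorem 7.5, the subnormal induction. -/

namespace Cfsg.Agent.Lib.Helper4.BG7

open Cfsg Cfsg.Agent.Lib.Helper4 Cfsg.Agent.Lib.Helper4.ThreeStep

universe u

variable {G : Type u} [Group G] [Finite G]

theorem map_le_normalizer_map {P : Subgroup G} {H K : Subgroup ↥P} (hle : H ≤ K)
    (hN : (H.subgroupOf K).Normal) :
    K.map P.subtype ≤ Subgroup.normalizer ((H.map P.subtype : Subgroup G) : Set G) := by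
  have key : ∀ k ∈ K, ∀ x ∈ H, k * x * k⁻¹ ∈ H := by
    intro k hk x hx
    have h1 : (⟨x, hle hx⟩ : ↥K) ∈ H.subgroupOf K := Subgroup.mem_subgroupOf.mpr hx
    have h2 := hN.conj_mem _ h1 ⟨k, hk⟩
    exact Subgroup.mem_subgroupOf.mp h2
  rintro _ ⟨k, hk, rfl⟩
  rw [Subgroup.mem_normalizer_iff]
  intro x
  constructor
  · rintro ⟨x', hx', rfl⟩
    exact ⟨k * x' * k⁻¹, key k hk x' hx', by simp⟩
  · rintro ⟨z, hz, hzx⟩
    refine ⟨k⁻¹ * z * k, ?_, ?_⟩
    · have := key k⁻¹ (K.inv_mem hk) z hz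
      rwa [inv_inv] at this
    · have h1 : P.subtype (k⁻¹ * z * k) = (P.subtype k)⁻¹ * P.subtype z * P.subtype k := by simp
      rw [h1, hzx]
      group

theorem subnormal_induction (hG : IsMinSimpleOddOrder G) {P : Subgroup G} (hP : P ≠ ⊤) {q : ℕ}
    (hq : q.Prime) (A' : Subgroup ↥P) (hsn : A'.IsSubnormal) :
    TransitivityHypothesis (A'.map P.subtype) → ¬ q ∣ Nat.card (A'.map P.subtype) →
    (∀ r : ℕ, r.Prime → r ∣ Nat.card P → r ∣ Nat.card (A'.map P.subtype)) →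
    Transitive (A'.map P.subtype) q →
    Transitive P q ∧ maxInvSubgroups ⊤ P {q} ⊆ maxInvSubgroups ⊤ (A'.map P.subtype) {q} := by
  induction hsn with
  | top =>
    intro _ _ _ htr
    have e : (⊤ : Subgroup ↥P).map P.subtype = P := by
      rw [← MonoidHom.range_eq_map, Subgroup.range_subtype]
    rw [e] at htr ⊢
    exact ⟨htr, subset_rfl⟩
  | step H K h_le hSubn hN ih =>
    intro hTH hqH hπ htr
    have hHK : H.map P.subtype ≤ K.map P.subtype := Subgroup.map_mono h_le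
    have hKP : K.map P.subtype ≤ P := Subgroup.map_subtype_le _
    have hKtop : K.map P.subtype ≠ ⊤ := fun h0 => hP (eq_top_iff.mpr (h0 ▸ hKP))
    have hKπ : ∀ r : ℕ, r.Prime → r ∣ Nat.card (K.map P.subtype) →
        r ∣ Nat.card (H.map P.subtype) := fun r hr hd =>
      hπ r hr (hd.trans (Subgroup.card_dvd_of_le hKP))
    obtain ⟨h1, h2⟩ := step_normal hG hTH hq hqH hHK (map_le_normalizer_map h_le hN) hKπ htr
    have hTK := transHyp_of_le hTH hHK hKtop hKπ
    have hqK : ¬ q ∣ Nat.card (K.map P.subtype) := fun hd => hqH (hKπ q hq hd)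
    have hπK : ∀ r : ℕ, r.Prime → r ∣ Nat.card P → r ∣ Nat.card (K.map P.subtype) :=
      fun r hr hd => (hπ r hr hd).trans (Subgroup.card_dvd_of_le hHK)
    obtain ⟨h3, h4⟩ := ih hTK hqK hπK h1
    exact ⟨h3, h4.trans h2⟩

/-- BG Theorem 7.5 -/
theorem theorem_7_5 (hG : IsMinSimpleOddOrder G) {A : Subgroup G} (hA : TransitivityHypothesis A)
    {q : ℕ} (hq : q.Prime) (hqA : ¬ q ∣ Nat.card A) {P : Subgroup G} (hP : P ≠ ⊤)
    (hPπ : ∀ r : ℕ, r.Prime → r ∣ Nat.card P → r ∣ Nat.card A) (hAP : A ≤ P)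
    (hsn : (A.subgroupOf P).IsSubnormal) (htr : Transitive A q) :
    TransitivityHypothesis P ∧ cpi P = cpi A ∧ Transitive P q ∧
      maxInvSubgroups ⊤ P {q} ⊆ maxInvSubgroups ⊤ A {q} := by
  have e : (A.subgroupOf P).map P.subtype = A := Subgroup.map_subgroupOf_eq_of_le hAP
  have h := subnormal_induction hG hP hq (A.subgroupOf P) hsn
  rw [e] at h
  obtain ⟨h1, h2⟩ := h hA hqA hPπ htr
  exact ⟨transHyp_of_le hA hAP hP hPπ, cpi_eq hAP hPπ, h1, h2⟩

end Cfsg.Agent.Lib.Helper4.BG7
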