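import Mathlib
import Cfsg.Agent.Lib.Helper4.BG76h
import Cfsg.Agent.Lib.Helper4.BG7k
import Cfsg.Agent.S0044

set_option autoImplicit false
open Pointwise
open scoped commutatorElement

/-! Bender–Glauberman Section 8: basics on maximal subgroups of a minimal simple group of odd
order and on `F(H)` as a subgroup of the ambient group. -/

namespace Cfsg.Agent.Lib.Helper4.BG8

open Cfsg Cfsg.Agent.Lib.Helper4 Cfsg.Agent.Lib.Lead Cfsg.Agent.Lib.Helper6
open Cfsg.Agent.Lib.Helper4.BG7 Cfsg.Agent.Lib.Helper4.BG76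

universe u

variable {G : Type u} [Group G] [Finite G]

theorem solvable_of_ne_top (hG : IsMinSimpleOddOrder G) {X : Subgroup G} (hX : X ≠ ⊤) :
    Group.IsSolvable ↥X := hG.2.2.2 X hX

theorem odd_card_sub (hG : IsMinSimpleOddOrder G) (X : Subgroup G) : Odd (Nat.card X) :=
  Odd.of_dvd_nat hG.1 (Subgroup.card_subgroup_dvd_card X)

theorem normalizer_ne_top (hG : IsMinSimpleOddOrder G) {N : Subgroup G} (h1 : N ≠ ⊥) (h2 : N ≠ ⊤) :
    Subgroup.normalizer (N : Set G) ≠ ⊤ := by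
  intro h0
  have := hG.2.1
  have hn : N.Normal := Subgroup.normalizer_eq_top_iff.mp h0
  rcases hn.eq_bot_or_eq_top with h | h
  · exact h1 h
  · exact h2 h

theorem normalizer_eq_of_isCoatom (hG : IsMinSimpleOddOrder G) {H N : Subgroup G} (hH : IsCoatom H)
    (h1 : N ≠ ⊥) (hNH : N ≤ H) (hn : H ≤ Subgroup.normalizer (N : Set G)) :
    Subgroup.normalizer (N : Set G) = H := by
  have h2 : N ≠ ⊤ := fun h => hH.1 (eq_top_iff.mpr (h ▸ hNH))
  have h3 := normalizer_ne_top hG h1 h2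
  by_contra hne
  exact h3 (hH.2 _ (lt_of_le_of_ne hn (Ne.symm hne)))

theorem le_of_normalizes (hG : IsMinSimpleOddOrder G) {H N X : Subgroup G} (hH : IsCoatom H)
    (h1 : N ≠ ⊥) (hNH : N ≤ H) (hn : H ≤ Subgroup.normalizer (N : Set G))
    (hX : X ≤ Subgroup.normalizer (N : Set G)) : X ≤ H := by
  rw [normalizer_eq_of_isCoatom hG hH h1 hNH hn] at hX
  exact hX

theorem le_of_centralizes (hG : IsMinSimpleOddOrder G) {H N X : Subgroup G} (hH : IsCoatom H)
    (h1 : N ≠ ⊥) (hNH : N ≤ H) (hn : H ≤ Subgroup.normalizer (N : Set G))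
    (hX : X ≤ Subgroup.centralizer (N : Set G)) : X ≤ H :=
  le_of_normalizes hG hH h1 hNH hn (hX.trans (Subgroup.centralizer_le_normalizer _))

theorem exists_coatom_ge {X : Subgroup G} (hX : X ≠ ⊤) : ∃ M : Subgroup G, IsCoatom M ∧ X ≤ M :=
  (eq_top_or_exists_le_coatom X).resolve_left hX

/-- two subgroups normalizing each other with trivial intersection commute -/
theorem le_centralizer_of_normalize {A B : Subgroup G} (hA : A ≤ Subgroup.normalizer (B : Set G))
    (hB : B ≤ Subgroup.normalizer (A : Set G)) (hAB : A ⊓ B = ⊥) :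
    A ≤ Subgroup.centralizer (B : Set G) := by
  intro a ha
  apply Subgroup.mem_centralizer_iff.mpr
  intro b hb
  have hb' : b ∈ B := hb
  have h1 : a * b * a⁻¹ * b⁻¹ ∈ A ⊓ B := by
    constructor
    · have h2 : b * a⁻¹ * b⁻¹ ∈ A := (Subgroup.mem_normalizer_iff.mp (hB hb') a⁻¹).mp (A.inv_mem ha)
      have e : a * b * a⁻¹ * b⁻¹ = a * (b * a⁻¹ * b⁻¹) := by group
      rw [e]; exact A.mul_mem ha h2
    · have h2 : a * b * a⁻¹ ∈ B := (Subgroup.mem_normalizer_iff.mp (hA ha) b).mp hb'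
      exact B.mul_mem h2 (B.inv_mem hb')
  rw [hAB, Subgroup.mem_bot] at h1
  have h3 : a * b * a⁻¹ * b⁻¹ * (b * a) = b * a := by rw [h1, one_mul]
  rw [← h3]; group

theorem inf_eq_bot_of_ne {r s : ℕ} [Fact r.Prime] [Fact s.Prime] (hrs : r ≠ s) {A B : Subgroup G}
    (hA : IsPGroup r A) (hB : IsPGroup s B) : A ⊓ B = ⊥ :=
  disjoint_iff.mp (IsPGroup.disjoint_of_ne r s hrs A B hA hB)

/-- `O_r(H)` as a subgroup of the ambient group -/
def opOf (r : ℕ) (H : Subgroup G) : Subgroup G := (Cfsg.pCore r ↥H).map H.subtype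

theorem opOf_le (r : ℕ) (H : Subgroup G) : opOf r H ≤ H := Subgroup.map_subtype_le _

theorem opOf_isPGroup (r : ℕ) (H : Subgroup G) : IsPGroup r (opOf r H) :=
  (Lead.pCore_isPGroup r).map _

theorem le_normalizer_opOf (r : ℕ) (H : Subgroup G) :
    H ≤ Subgroup.normalizer (opOf r H : Set G) := by
  have hn : (Cfsg.pCore r ↥H).Normal := Lead.pCore_normal r
  have h1 := Subgroup.le_normalizer_map (H := Cfsg.pCore r ↥H) H.subtype
  rw [Subgroup.normalizer_eq_top_iff.mpr hn] at h1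
  intro x hx
  apply h1
  exact ⟨⟨x, hx⟩, Subgroup.mem_top _, rfl⟩

theorem subgroupOf_normal_of_le_normalizer {N H : Subgroup G}
    (hn : H ≤ Subgroup.normalizer (N : Set G)) : (N.subgroupOf H).Normal := by
  constructor
  intro x hx h
  rw [Subgroup.mem_subgroupOf] at hx ⊢
  have := (Subgroup.mem_normalizer_iff.mp (hn h.2) x.1).mp hx
  simpa using this

theorem le_opOf {r : ℕ} {N H : Subgroup G} (hNH : N ≤ H)
    (hn : H ≤ Subgroup.normalizer (N : Set G)) (hN : IsPGroup r N) : N ≤ opOf r H := by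
  have h1 : N.subgroupOf H ≤ Cfsg.pCore r ↥H :=
    Lead.le_pCore (subgroupOf_normal_of_le_normalizer hn)
      (hN.comap_of_injective H.subtype H.subtype_injective)
  intro x hx
  exact ⟨⟨x, hNH hx⟩, h1 (Subgroup.mem_subgroupOf.mpr hx), rfl⟩

theorem fittingOf_le (H : Subgroup G) : fittingOf H ≤ H := Subgroup.map_subtype_le _

theorem le_normalizer_fittingOf (H : Subgroup G) :
    H ≤ Subgroup.normalizer (fittingOf H : Set G) := by
  have hn : (Cfsg.fittingSubgroup ↥H).Normal := Lead.fittingSubgroup_normal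
  have h1 := Subgroup.le_normalizer_map (H := Cfsg.fittingSubgroup ↥H) H.subtype
  rw [Subgroup.normalizer_eq_top_iff.mpr hn] at h1
  intro x hx
  apply h1
  exact ⟨⟨x, hx⟩, Subgroup.mem_top _, rfl⟩

theorem isNilpotent_fittingOf (H : Subgroup G) : Group.IsNilpotent ↥(fittingOf H) := by
  have h1 : Group.IsNilpotent ↥(Cfsg.fittingSubgroup ↥H) := Lead.fittingSubgroup_isNilpotent
  exact Group.nilpotent_of_mulEquiv
    ((Cfsg.fittingSubgroup ↥H).equivMapOfInjective H.subtype H.subtype_injective)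

theorem le_fittingOf {N H : Subgroup G} (hNH : N ≤ H)
    (hn : H ≤ Subgroup.normalizer (N : Set G)) (hN : Group.IsNilpotent ↥N) : N ≤ fittingOf H := by
  have h0 : Group.IsNilpotent ↥(N.subgroupOf H) :=
    Group.nilpotent_of_mulEquiv (Subgroup.subgroupOfEquivOfLe hNH).symm
  have h1 : N.subgroupOf H ≤ Cfsg.fittingSubgroup ↥H :=
    Lead.le_fittingSubgroup (subgroupOf_normal_of_le_normalizer hn) h0
  intro x hx
  exact ⟨⟨x, hNH hx⟩, h1 (Subgroup.mem_subgroupOf.mpr hx), rfl⟩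

theorem opOf_le_fittingOf (r : ℕ) [Fact r.Prime] (H : Subgroup G) : opOf r H ≤ fittingOf H :=
  le_fittingOf (opOf_le r H) (le_normalizer_opOf r H) (opOf_isPGroup r H).isNilpotent

theorem fittingOf_eq_iSup (H : Subgroup G) : fittingOf H = ⨆ p : Nat.Primes, opOf (p : ℕ) H := by
  unfold fittingOf opOf
  rw [Lead.fittingSubgroup_eq_iSup_pCore, Subgroup.map_iSup]

theorem centralizer_fittingOf_le {H : Subgroup G} (hH : Group.IsSolvable ↥H) :
    H ⊓ Subgroup.centralizer (fittingOf H : Set G) ≤ fittingOf H := by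
  rintro x ⟨hxH, hxC⟩
  have h1 : (⟨x, hxH⟩ : ↥H) ∈ Subgroup.centralizer (Cfsg.fittingSubgroup ↥H : Set ↥H) := by
    apply Subgroup.mem_centralizer_iff.mpr
    intro y hy
    have hy' : (y : G) ∈ fittingOf H := ⟨y, hy, rfl⟩
    have := Subgroup.mem_centralizer_iff.mp hxC (y : G) hy'
    exact Subtype.ext this
  exact ⟨⟨x, hxH⟩, Cfsg.Agent.S0044.result h1, rfl⟩

end Cfsg.Agent.Lib.Helper4.BG8
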