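import Mathlib
import Cfsg.Agent.Lib.Helper4.BG8a

set_option autoImplicit false
open Pointwise
open scoped commutatorElement

/-! Bender–Glauberman Section 8: Sylow subgroups of `F(H)`. -/

namespace Cfsg.Agent.Lib.Helper4.BG8

open Cfsg Cfsg.Agent.Lib.Helper4 Cfsg.Agent.Lib.Lead Cfsg.Agent.Lib.Helper6
open Cfsg.Agent.Lib.Helper4.BG7 Cfsg.Agent.Lib.Helper4.BG76

universe u

variable {G : Type u} [Group G] [Finite G]

/-- in a nilpotent normal subgroup, every `r`-subgroup lies in `O_r` -/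
theorem le_pCore_of_le_fitting {X : Type u} [Group X] [Finite X] {r : ℕ} [Fact r.Prime]
    {Y : Subgroup X} (hY : Y ≤ Cfsg.fittingSubgroup X) (hYr : IsPGroup r Y) :
    Y ≤ Cfsg.pCore r X := by
  set F := Cfsg.fittingSubgroup X with hF
  have hFn : F.Normal := Lead.fittingSubgroup_normal
  have hnil : Group.IsNilpotent ↥F := Lead.fittingSubgroup_isNilpotent
  have h2' : ∀ (q : ℕ), Fact (Nat.Prime q) → ∀ (Q : Sylow q ↥F), (Q : Subgroup ↥F).Normal :=
    ((Group.isNilpotent_of_finite_tfae (G := ↥F)).out 0 3).mp hnil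
  have hY' : IsPGroup r (Y.subgroupOf F) := hYr.comap_of_injective F.subtype F.subtype_injective
  obtain ⟨S, hS⟩ := hY'.exists_le_sylow
  have hSn : (S : Subgroup ↥F).Normal := h2' r inferInstance S
  have : (S : Subgroup ↥F).Characteristic := Sylow.characteristic_of_normal S hSn
  have h3 : ((S : Subgroup ↥F).map F.subtype).Normal := ConjAct.normal_of_characteristic_of_normal
  have h4 : (S : Subgroup ↥F).map F.subtype ≤ Cfsg.pCore r X :=
    Lead.le_pCore h3 (S.isPGroup'.map F.subtype)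
  intro y hy
  apply h4
  exact ⟨⟨y, hY hy⟩, hS (Subgroup.mem_subgroupOf.mpr hy), rfl⟩

theorem le_opOf_of_le_fittingOf {r : ℕ} [Fact r.Prime] {Y H : Subgroup G}
    (hY : Y ≤ fittingOf H) (hYr : IsPGroup r Y) : Y ≤ opOf r H := by
  have hYH : Y ≤ H := hY.trans (fittingOf_le H)
  have h1 : Y.subgroupOf H ≤ Cfsg.fittingSubgroup ↥H := by
    intro y hy
    obtain ⟨w, hw, hwy⟩ := hY (Subgroup.mem_subgroupOf.mp hy)
    have : w = y := Subtype.ext hwy
    rw [← this]; exact hw
  have h2 := le_pCore_of_le_fitting h1 (hYr.comap_of_injective H.subtype H.subtype_injective)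
  intro y hy
  exact ⟨⟨y, hYH hy⟩, h2 (Subgroup.mem_subgroupOf.mpr hy), rfl⟩

theorem opOf_ne_bot_iff {r : ℕ} [hr : Fact r.Prime] (H : Subgroup G) :
    opOf r H ≠ ⊥ ↔ r ∣ Nat.card (fittingOf H) := by
  constructor
  · intro h
    have h1 : r ∣ Nat.card (opOf r H) := by
      rcases (opOf_isPGroup r H).card_eq_or_dvd with h2 | h2
      · exact absurd (Subgroup.card_eq_one.mp h2) h
      · exact h2
    exact h1.trans (Subgroup.card_dvd_of_le (opOf_le_fittingOf r H))
  · intro h h0
    obtain ⟨x, hx⟩ := exists_prime_orderOf_dvd_card' (G := ↥(fittingOf H)) r h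
    have hx1 : (x : G) ∈ fittingOf H := x.2
    have hxo : orderOf (x : G) = r := by rw [Subgroup.orderOf_coe]; exact hx
    have hz : IsPGroup r (Subgroup.zpowers (x : G)) := by
      rw [IsPGroup.iff_card, Nat.card_zpowers, hxo]; exact ⟨1, (pow_one r).symm⟩
    have h2 : Subgroup.zpowers (x : G) ≤ opOf r H :=
      le_opOf_of_le_fittingOf ((Subgroup.zpowers_le).mpr hx1) hz
    rw [h0] at h2
    have h3 : (x : G) = 1 := Subgroup.mem_bot.mp (h2 (Subgroup.mem_zpowers _))
    rw [h3, orderOf_one] at hxo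
    exact hr.out.one_lt.ne hxo

theorem opOf_comm {r s : ℕ} [Fact r.Prime] [Fact s.Prime] (hrs : r ≠ s) (H : Subgroup G) :
    opOf r H ≤ Subgroup.centralizer (opOf s H : Set G) :=
  le_centralizer_of_normalize ((opOf_le r H).trans (le_normalizer_opOf s H))
    ((opOf_le s H).trans (le_normalizer_opOf r H))
    (inf_eq_bot_of_ne hrs (opOf_isPGroup r H) (opOf_isPGroup s H))

/-- a subgroup centralizing every `O_s(H)` centralizes `F(H)` -/
theorem le_centralizer_fittingOf {X H : Subgroup G}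
    (h : ∀ s : ℕ, s.Prime → X ≤ Subgroup.centralizer (opOf s H : Set G)) :
    X ≤ Subgroup.centralizer (fittingOf H : Set G) := by
  rw [Subgroup.le_centralizer_iff, fittingOf_eq_iSup]
  apply iSup_le
  intro p
  rw [← Subgroup.le_centralizer_iff]
  exact h p p.2

theorem fittingOf_ne_bot {H : Subgroup G} (hH : Group.IsSolvable ↥H) (h1 : H ≠ ⊥) :
    fittingOf H ≠ ⊥ := by
  intro h0
  have h2 := centralizer_fittingOf_le hH
  rw [h0] at h2
  have h3 : H ≤ ⊥ := by
    intro x hx
    apply h2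
    refine ⟨hx, ?_⟩
    apply Subgroup.mem_centralizer_iff.mpr
    intro y hy
    have hy' : y ∈ (⊥ : Subgroup G) := hy
    rw [Subgroup.mem_bot.mp hy']; simp
  exact h1 (le_bot_iff.mp h3)

end Cfsg.Agent.Lib.Helper4.BG8
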