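import Mathlib
import Cfsg.Agent.Lib.Helper4.BG8b
import Cfsg.Agent.Lib.Helper4.SolvBalance
import Cfsg.Agent.Lib.Lead.OddStable
import Cfsg.Agent.S0017

set_option autoImplicit false
open Pointwise
open scoped commutatorElement

/-! Bender–Glauberman Section 8: quadratic action when `O_{r'}` is central. -/

namespace Cfsg.Agent.Lib.Helper4.BG8

open Cfsg Cfsg.Agent.Lib.Helper4 Cfsg.Agent.Lib.Lead Cfsg.Agent.Lib.Helper6
open Cfsg.Agent.Lib.Helper4.BG7 Cfsg.Agent.Lib.Helper4.BG76

universe u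

section TypeLevel

variable {X : Type u} [Group X] [Finite X]

theorem eq_one_of_pow_of_coprime {r : ℕ} {K : Subgroup X} (hK : (Nat.card K).Coprime r) {w : X}
    (hwK : w ∈ K) {k : ℕ} (hw : w ^ r ^ k = 1) : w = 1 := by
  have h1 : orderOf w ∣ r ^ k := orderOf_dvd_of_pow_eq_one hw
  have h2 : orderOf w ∣ Nat.card K := Subgroup.orderOf_dvd_natCard K hwK
  have h3 : (Nat.card K).Coprime (r ^ k) := Nat.Coprime.pow_right k hK
  have h4 : orderOf w = 1 := Nat.eq_one_of_dvd_coprimes h3 h2 h1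
  exact orderOf_eq_one_iff.mp h4

/-- two `r`-elements differing by a central `r'`-element coincide -/
theorem eq_of_central_diff {r : ℕ} {K : Subgroup X} (hK : (Nat.card K).Coprime r)
    (hKZ : K ≤ Subgroup.center X) {t c : X} {k₁ k₂ : ℕ} (ht : t ^ r ^ k₁ = 1) (hc : c ^ r ^ k₂ = 1)
    (hw : t⁻¹ * c ∈ K) : t = c := by
  set w := t⁻¹ * c with hwdef
  have hwc : ∀ y : X, y * w = w * y := fun y => Subgroup.mem_center_iff.mp (hKZ hw) y
  have hcomm : Commute t w := hwc t
  have e1 : c = t * w := by rw [hwdef]; group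
  have h1 : w ^ r ^ (k₁ + k₂) = 1 := by
    have h2 : c ^ r ^ (k₁ + k₂) = 1 := by
      rw [pow_add, mul_comm, pow_mul, hc, one_pow]
    have h3 : t ^ r ^ (k₁ + k₂) = 1 := by
      rw [pow_add, pow_mul, ht, one_pow]
    rw [e1, hcomm.mul_pow, h3, one_mul] at h2
    exact h2
  have h4 := eq_one_of_pow_of_coprime hK hw h1
  rw [e1, h4, mul_one]

/-- if `O_{r'}(X)` is central, `O_r(X / O_{r'}(X))` is the image of `O_r(X)` -/
theorem pCore_quotient_eq_map {r : ℕ} [Fact r.Prime] (hZ : pPrimeCore r X ≤ Subgroup.center X) :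
    pCore r (X ⧸ pPrimeCore r X) = (pCore r X).map (QuotientGroup.mk' (pPrimeCore r X)) := by
  set φ := QuotientGroup.mk' (pPrimeCore r X) with hφ
  have hφs : Function.Surjective φ := QuotientGroup.mk'_surjective _
  have hcop : (Nat.card (pPrimeCore r X)).Coprime r := pPrimeCore_coprime r
  apply le_antisymm
  · obtain ⟨T⟩ : Nonempty (Sylow r X) := inferInstance
    have hTle := pCore_le_map_sylow T
    have hNn : (pCore r (X ⧸ pPrimeCore r X)).Normal := Lead.pCore_normal r
    set R₂ : Subgroup X := (T : Subgroup X) ⊓ (pCore r (X ⧸ pPrimeCore r X)).comap φ with hR₂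
    have hR₂n : R₂.Normal := by
      constructor
      intro u hu g
      have hcN : g * u * g⁻¹ ∈ (pCore r (X ⧸ pPrimeCore r X)).comap φ := by
        have hn : ((pCore r (X ⧸ pPrimeCore r X)).comap φ).Normal := hNn.comap φ
        exact hn.conj_mem u hu.2 g
      obtain ⟨t', ht', htc⟩ := hTle (Subgroup.mem_comap.mp hcN)
      have hw : t'⁻¹ * (g * u * g⁻¹) ∈ pPrimeCore r X := by
        have : φ t' = φ (g * u * g⁻¹) := htc
        exact QuotientGroup.eq.mp this
      obtain ⟨k₁, hk₁⟩ := T.isPGroup' ⟨t', ht'⟩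
      have hk₁' : t' ^ r ^ k₁ = 1 := by
        have := congrArg Subtype.val hk₁
        simpa using this
      obtain ⟨k₂, hk₂⟩ := T.isPGroup' ⟨u, hu.1⟩
      have hk₂' : (g * u * g⁻¹) ^ r ^ k₂ = 1 := by
        have h5 : u ^ r ^ k₂ = 1 := by
          have := congrArg Subtype.val hk₂
          simpa using this
        rw [conj_pow, h5]; group
      have e := eq_of_central_diff hcop hZ hk₁' hk₂' hw
      refine ⟨?_, hcN⟩
      rw [← e]; exact ht'
    have hR₂r : IsPGroup r R₂ := T.isPGroup'.to_le inf_le_left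
    have hR₂le : R₂ ≤ pCore r X := Lead.le_pCore hR₂n hR₂r
    intro x hx
    obtain ⟨t, ht, htx⟩ := hTle hx
    have htc : t ∈ (pCore r (X ⧸ pPrimeCore r X)).comap φ := by
      rw [Subgroup.mem_comap]
      have : φ t = x := htx
      rw [this]; exact hx
    exact ⟨t, hR₂le ⟨ht, htc⟩, htx⟩
  · have hn : (pCore r X).Normal := Lead.pCore_normal r
    exact Lead.le_pCore (hn.map φ hφs) ((Lead.pCore_isPGroup r).map φ)

/-- an `r`-element acting quadratically on `O_r(X)` lies in `O_r(X)`, for `X` solvable of odd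
order with `O_{r'}(X)` central -/
theorem mem_pCore_of_quadratic_central [Group.IsSolvable X] (hodd : Odd (Nat.card X)) {r : ℕ}
    [Fact r.Prime] (hr : r ≠ 2) (hZ : pPrimeCore r X ≤ Subgroup.center X) {a : X} {k : ℕ}
    (ha : a ^ r ^ k = 1)
    (hq : ⁅⁅pCore r X, Subgroup.zpowers a⁆, Subgroup.zpowers a⁆ = ⊥) : a ∈ pCore r X := by
  set φ := QuotientGroup.mk' (pPrimeCore r X) with hφ
  have hφs : Function.Surjective φ := QuotientGroup.mk'_surjective _
  have hcop : (Nat.card (pPrimeCore r X)).Coprime r := pPrimeCore_coprime r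
  have hodd' : Odd (Nat.card (X ⧸ pPrimeCore r X)) :=
    Odd.of_dvd_nat hodd (Subgroup.card_quotient_dvd_card _)
  have hst := OddStable.isNormalizerPStable_of_odd hodd' hr
  have hred : pPrimeCore r (X ⧸ pPrimeCore r X) = ⊥ := pPrimeCore_quotient_self r
  have hc := Cfsg.Agent.S0017.result r hred
  have hq' : ⁅⁅pCore r (X ⧸ pPrimeCore r X), Subgroup.zpowers (φ a)⁆, Subgroup.zpowers (φ a)⁆ = ⊥ := by
    rw [pCore_quotient_eq_map hZ, ← MonoidHom.map_zpowers, ← Subgroup.map_commutator,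
      ← Subgroup.map_commutator, hq, Subgroup.map_bot]
  have h1 := OddStable.mem_pCore_of_quadratic hst hc hq'
  rw [pCore_quotient_eq_map hZ] at h1
  obtain ⟨u, hu, hua⟩ := h1
  have hw : u⁻¹ * a ∈ pPrimeCore r X := QuotientGroup.eq.mp hua
  obtain ⟨k₁, hk₁⟩ := (Lead.pCore_isPGroup (G := X) r) ⟨u, hu⟩
  have hk₁' : u ^ r ^ k₁ = 1 := by
    have := congrArg Subtype.val hk₁
    simpa using this
  have e := eq_of_central_diff hcop hZ hk₁' ha hw
  rw [← e]; exact hu

end TypeLevel

end Cfsg.Agent.Lib.Helper4.BG8
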