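import Mathlib
import Cfsg.Agent.Lib.Helper4.BG8c
import Cfsg.Agent.Lib.Helper4.ThreeStep4
import Cfsg.Agent.Lib.Lead.ZJ14
import Cfsg.Agent.S0664

set_option autoImplicit false
open Pointwise
open scoped commutatorElement

/-! Bender–Glauberman Section 8: the ZJ-factorization for solvable groups of odd order. -/

namespace Cfsg.Agent.Lib.Helper4.BG8

open Cfsg Cfsg.Agent.Lib.Helper4 Cfsg.Agent.Lib.Lead Cfsg.Agent.Lib.Helper6
open Cfsg.Agent.Lib.Helper4.BG7 Cfsg.Agent.Lib.Helper4.BG76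

universe u

section TypeLevel

variable {X : Type u} [Group X] [Finite X]

/-- if the image of `W ≤ P` (normalized by the Sylow subgroup `P`) is normal modulo `O_{p'}`,
then `X = O_{p'}(X) N_X(W)` -/
theorem factorization_of_map_normal {p : ℕ} [Fact p.Prime] (P : Sylow p X) {W : Subgroup X}
    (hWP : W ≤ (P : Subgroup X)) (hPN : (P : Subgroup X) ≤ Subgroup.normalizer (W : Set X))
    (hnb : (W.map (QuotientGroup.mk' (pPrimeCore p X))).Normal) :
    pPrimeCore p X ⊔ Subgroup.normalizer (W : Set X) = ⊤ := by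
  classical
  set K := Cfsg.pPrimeCore p X with hK
  set π := QuotientGroup.mk' K with hπ
  have hinj : Set.InjOn π ((P : Subgroup X) : Set X) := ZJ.injOn_mk_of_isPGroup P.isPGroup'
  rw [eq_top_iff]
  intro g _
  have hπconj : ∀ (h : X) (w : X), w ∈ W → π (h * w * h⁻¹) ∈ W.map π := by
    intro h w hw
    have := hnb.conj_mem (π w) ⟨w, hw, rfl⟩ (π h)
    rw [map_mul, map_mul, map_inv]
    exact this
  have hle : (MulAut.conj g • W : Subgroup X) ≤ (P : Subgroup X) ⊔ K := by
    intro x hx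
    rw [Cfsg.Agent.Lib.Helper3.mem_conj_smul_iff] at hx
    have h1 := hπconj g _ hx
    have e : g * (g⁻¹ * x * g) * g⁻¹ = x := by group
    rw [e] at h1
    obtain ⟨w, hw, hwx⟩ := h1
    have h2 : w⁻¹ * x ∈ K := QuotientGroup.eq.mp hwx
    have e2 : x = w * (w⁻¹ * x) := by group
    rw [e2]
    exact Subgroup.mul_mem _ (Subgroup.mem_sup_left (hWP hw)) (Subgroup.mem_sup_right h2)
  have hWp : IsPGroup p W := P.isPGroup'.to_le hWP
  obtain ⟨y, hy, hyT⟩ := Cfsg.Agent.Lib.Helper3.exists_conj_le_of_le_sylow P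
    ((P : Subgroup X) ⊔ K) (MulAut.conj g • W) le_sup_left
    (Cfsg.Agent.Lib.Helper3.isPGroup_conj_smul hWp g) hle
  have hyg : y * g ∈ Subgroup.normalizer (W : Set X) := by
    apply Subgroup.mem_normalizer_fintype
    intro w hw
    rw [SetLike.mem_coe] at hw
    have h1 : y * g * w * (y * g)⁻¹ ∈ (P : Subgroup X) := by
      apply hyT
      rw [Cfsg.Agent.Lib.Helper3.mem_conj_smul_iff, Cfsg.Agent.Lib.Helper3.mem_conj_smul_iff]
      have e : g⁻¹ * (y⁻¹ * (y * g * w * (y * g)⁻¹) * y) * g = w := by group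
      rw [e]; exact hw
    obtain ⟨w', hw', hww⟩ := hπconj (y * g) w hw
    have h2 : w' = y * g * w * (y * g)⁻¹ := hinj (hWP hw') h1 hww
    show y * g * w * (y * g)⁻¹ ∈ W
    rw [← h2]; exact hw'
  have hKn : K.Normal := by rw [hK]; infer_instance
  have hyinv : y⁻¹ ∈ K ⊔ (P : Subgroup X) := by
    rw [sup_comm]; exact Subgroup.inv_mem _ hy
  obtain ⟨k, hk, u, hu, hku⟩ := Subgroup.mem_sup_of_normal_left.mp hyinv
  have e : g = k * (u * (y * g)) := by
    rw [← mul_assoc, hku]; group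
  rw [e]
  exact Subgroup.mul_mem _ (Subgroup.mem_sup_left hk)
    (Subgroup.mem_sup_right (Subgroup.mul_mem _ (hPN hu) hyg))

/-- Glauberman's ZJ-factorization for solvable groups of odd order -/
theorem zj_factorization_odd [Group.IsSolvable X] (hodd : Odd (Nat.card X)) {p : ℕ} [Fact p.Prime]
    (hp2 : p ≠ 2) (P : Sylow p X) :
    pPrimeCore p X ⊔ Subgroup.normalizer (centerThompsonAOf (P : Subgroup X) : Set X) = ⊤ := by
  set K := Cfsg.pPrimeCore p X with hK
  set π := QuotientGroup.mk' K with hπ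
  have hπs : Function.Surjective π := QuotientGroup.mk'_surjective K
  have hodd' : Odd (Nat.card (X ⧸ K)) := Odd.of_dvd_nat hodd (Subgroup.card_quotient_dvd_card _)
  have hred : pPrimeCore p (X ⧸ K) = ⊥ := pPrimeCore_quotient_self p
  have hc := Cfsg.Agent.S0017.result p hred
  have hfree := Cfsg.Agent.Lib.Helper4.ThreeStep.not_qd_of_odd (p := p) hodd' hp2
  have hnb := Cfsg.Agent.S0664.result hp2 hfree hc (P.mapSurjective hπs)
  rw [Sylow.coe_mapSurjective, ZJ.centerThompsonAOf_eq] at hnb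
  have hinj : Set.InjOn π ((P : Subgroup X) : Set X) := ZJ.injOn_mk_of_isPGroup P.isPGroup'
  rw [← ZJ.wsub_map_of_injOn 0 (P : Subgroup X) π hinj] at hnb
  rw [ZJ.centerThompsonAOf_eq]
  exact factorization_of_map_normal P (ZJ.wsub_le 0 _)
    (le_trans Subgroup.le_normalizer (ZJ.normalizer_le_normalizer_wsub 0 (P : Subgroup X))) hnb

/-- if moreover `O_{p'}(X)` is central, `ZJ(P)` is normal -/
theorem zj_normal_of_central [Group.IsSolvable X] (hodd : Odd (Nat.card X)) {p : ℕ} [Fact p.Prime]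
    (hp2 : p ≠ 2) (hZ : pPrimeCore p X ≤ Subgroup.center X) (P : Sylow p X) :
    (centerThompsonAOf (P : Subgroup X)).Normal := by
  rw [← Subgroup.normalizer_eq_top_iff, eq_top_iff, ← zj_factorization_odd hodd hp2 P]
  apply sup_le _ le_rfl
  exact hZ.trans ((Subgroup.center_le_centralizer _).trans (Subgroup.centralizer_le_normalizer _))

end TypeLevel

end Cfsg.Agent.Lib.Helper4.BG8
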