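import Mathlib
import Cfsg.Agent.Lib.Helper4.BG8d
import Cfsg.Agent.Lib.Helper4.FusionLift1
import Cfsg.Agent.Lib.Helper4.WellPlaced

set_option autoImplicit false
open Pointwise
open scoped commutatorElement

/-! Bender–Glauberman Section 8: subgroup-level forms of the quadratic lemma and of the
ZJ-theorem. -/

namespace Cfsg.Agent.Lib.Helper4.BG8

open Cfsg Cfsg.Agent.Lib.Helper4 Cfsg.Agent.Lib.Lead Cfsg.Agent.Lib.Helper6 Cfsg.Agent.Lib.Helper7
open Cfsg.Agent.Lib.Helper4.BG7 Cfsg.Agent.Lib.Helper4.BG76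

universe u

variable {G : Type u} [Group G] [Finite G]

theorem SylIn.exists_sylow {p : ℕ} [Fact p.Prime] {D R : Subgroup G} (h : SylIn p D R) :
    ∃ T : Sylow p ↥D, (T : Subgroup ↥D).map D.subtype = R := by
  have h1 : IsPGroup p (R.subgroupOf D) := h.2.1.comap_subtype
  have h2 : ¬ p ∣ (R.subgroupOf D).index := h.2.2
  refine ⟨h1.toSylow h2, ?_⟩
  rw [IsPGroup.toSylow_coe]
  exact Subgroup.map_subgroupOf_eq_of_le h.1

theorem pPrimeCore_le_center_of_cG {r : ℕ} {D : Subgroup G}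
    (hZ : cG r D ≤ Subgroup.centralizer (D : Set G)) :
    pPrimeCore r ↥D ≤ Subgroup.center ↥D := by
  intro w hw
  rw [Subgroup.mem_center_iff]
  intro y
  have h1 : (w : G) ∈ cG r D := ⟨w, hw, rfl⟩
  have h2 := Subgroup.mem_centralizer_iff.mp (hZ h1) (y : G) y.2
  exact Subtype.ext h2

/-- subgroup-level quadratic lemma -/
theorem quadratic_le_opOf (hodd : Odd (Nat.card G)) {r : ℕ} [Fact r.Prime] (hr : r ≠ 2)
    {D Y : Subgroup G} (hD : Group.IsSolvable ↥D)
    (hZ : cG r D ≤ Subgroup.centralizer (D : Set G)) (hYD : Y ≤ D) (hY : IsPGroup r Y)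
    (hq : ⁅⁅opOf r D, Y⁆, Y⁆ = ⊥) : Y ≤ opOf r D := by
  have hoddD : Odd (Nat.card ↥D) := Odd.of_dvd_nat hodd (Subgroup.card_subgroup_dvd_card D)
  have hZ' := pPrimeCore_le_center_of_cG hZ
  intro a ha
  obtain ⟨k, hk⟩ := hY ⟨a, ha⟩
  have hk' : a ^ r ^ k = 1 := by
    have := congrArg Subtype.val hk
    simpa using this
  set a' : ↥D := ⟨a, hYD ha⟩ with ha'
  have hk'' : a' ^ r ^ k = 1 := Subtype.ext (by simpa using hk')
  have hq' : ⁅⁅pCore r ↥D, Subgroup.zpowers a'⁆, Subgroup.zpowers a'⁆ = ⊥ := by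
    rw [← (Subgroup.map_eq_bot_iff_of_injective _ D.subtype_injective), Subgroup.map_commutator,
      Subgroup.map_commutator, MonoidHom.map_zpowers]
    have hz : Subgroup.zpowers (D.subtype a') ≤ Y := by
      rw [Subgroup.zpowers_le]; exact ha
    have h1 : ⁅⁅(pCore r ↥D).map D.subtype, Subgroup.zpowers (D.subtype a')⁆,
        Subgroup.zpowers (D.subtype a')⁆ ≤ ⁅⁅opOf r D, Y⁆, Y⁆ :=
      Subgroup.commutator_mono (Subgroup.commutator_mono le_rfl hz) hz
    rw [hq] at h1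
    exact le_bot_iff.mp h1
  have h2 := mem_pCore_of_quadratic_central hoddD hr hZ' hk'' hq'
  exact ⟨a', h2, rfl⟩

/-- subgroup-level ZJ-theorem when `O_{r'}(D)` is central -/
theorem le_normalizer_zj_of_central (hodd : Odd (Nat.card G)) {r : ℕ} [Fact r.Prime] (hr : r ≠ 2)
    {D R : Subgroup G} (hD : Group.IsSolvable ↥D)
    (hZ : cG r D ≤ Subgroup.centralizer (D : Set G)) (hR : SylIn r D R) :
    D ≤ Subgroup.normalizer (centerThompsonAOf R : Set G) := by
  have hoddD : Odd (Nat.card ↥D) := Odd.of_dvd_nat hodd (Subgroup.card_subgroup_dvd_card D)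
  have hZ' := pPrimeCore_le_center_of_cG hZ
  obtain ⟨T, hT⟩ := SylIn.exists_sylow hR
  have hn := zj_normal_of_central hoddD hr hZ' T
  have e := ThreeStep.centerThompsonAOf_map D.subtype D.subtype_injective (T : Subgroup ↥D)
  rw [hT] at e
  rw [e]
  have h1 := Subgroup.le_normalizer_map (H := centerThompsonAOf (T : Subgroup ↥D)) D.subtype
  rw [Subgroup.normalizer_eq_top_iff.mpr hn] at h1
  intro x hx
  apply h1
  exact ⟨⟨x, hx⟩, Subgroup.mem_top _, rfl⟩

/-- the Frattini argument for a Sylow subgroup of a normal subgroup, at the subgroup level -/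
theorem frattini_sylIn {r : ℕ} [Fact r.Prime] {D H R : Subgroup G}
    (hn : H ≤ Subgroup.normalizer (D : Set G)) (hR : SylIn r D R) {h : G} (hh : h ∈ H) :
    ∃ d ∈ D, d⁻¹ * h ∈ Subgroup.normalizer (R : Set G) := by
  have h1 : cj h D = D := mem_normalizer_iff_cj.mp (hn hh)
  have h2 : SylIn r D (cj h R) := by
    refine ⟨?_, isPGroup_cj h hR.2.1, ?_⟩
    · rw [← h1]; exact cj_mono h hR.1
    · have := relIndex_cj h R D
      rw [h1] at this
      rw [this]; exact hR.2.2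
  obtain ⟨y, hy, hyR⟩ := SylIn.conj hR h2
  refine ⟨y, hy, ?_⟩
  rw [mem_normalizer_iff_cj, cj_mul, ← hyR, cj_inv_cj]

theorem le_normalizer_zj_of_normal {r : ℕ} [Fact r.Prime] {D H R : Subgroup G}
    (hn : H ≤ Subgroup.normalizer (D : Set G)) (hR : SylIn r D R)
    (hD : D ≤ Subgroup.normalizer (centerThompsonAOf R : Set G)) :
    H ≤ Subgroup.normalizer (centerThompsonAOf R : Set G) := by
  intro h hh
  obtain ⟨d, hd, hdh⟩ := frattini_sylIn hn hR hh
  have h1 := ThreeStep.normalizer_le_normalizer_zj hR.2.1 hdh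
  have e : h = d * (d⁻¹ * h) := by group
  rw [e]
  exact Subgroup.mul_mem _ (hD hd) h1

end Cfsg.Agent.Lib.Helper4.BG8
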