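import Mathlib
import Cfsg.Agent.Lib.Helper4.CNMax2
import Cfsg.Agent.Lib.Helper4.NPC
import Cfsg.Agent.S0659

set_option autoImplicit false
open Pointwise

/-! Normalizers of maximal nilpotent subgroups are Frobenius groups. -/

namespace Cfsg.Agent.Lib.Helper4.CNMax

open Cfsg Cfsg.Agent.Lib.Lead Cfsg.Agent.Lib.Helper4.ThreeStep Cfsg.Agent.Lib.Helper7

universe u

theorem npc_of_nilpotent {X : Type*} [Group X] [Finite X] [Group.IsNilpotent X] {p : ℕ}
    [Fact p.Prime] : HasNormalPComplement p X := by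
  obtain ⟨S⟩ : Nonempty (Sylow p X) := inferInstance
  haveI : (S : Subgroup X).Normal := inferInstance
  apply hasNormalPComplement_of_centralizer S (S : Subgroup X) inf_le_left
  intro g hg
  rw [Subgroup.mem_centralizer_iff]
  intro s hs
  exact commute_of_isNilpotent (H := ⊤) inferInstance (Subgroup.mem_top s) (Subgroup.mem_top g)
    (S.isPGroup'.to_le (Subgroup.zpowers_le.mpr hs)) hg

variable {G : Type u} [Group G] [Finite G]

theorem not_npc (hG : IsMinSimpleOddOrder G) {p : ℕ} [hp : Fact p.Prime] (hpG : p ∣ Nat.card G) :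
    ¬ HasNormalPComplement p G := by
  rintro ⟨P, N, hNn, hc⟩
  have := hG.2.1
  rcases hNn.eq_bot_or_eq_top with h | h
  · rw [h, Subgroup.isComplement'_bot_left] at hc
    have hpg : IsPGroup p G := by
      intro g
      obtain ⟨k, hk⟩ := P.isPGroup' ⟨g, by rw [hc]; trivial⟩
      exact ⟨k, by simpa using congrArg Subtype.val hk⟩
    have : Nontrivial G := inferInstance
    have hcen : Subgroup.center G ≠ ⊥ := by
      have := hpg.center_nontrivial
      exact (Subgroup.nontrivial_iff_ne_bot _).mp this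
    have hcn : (Subgroup.center G).Normal := inferInstance
    rcases hcn.eq_bot_or_eq_top with h1 | h1
    · exact hcen h1
    · apply hG.2.2.1
      refine ⟨⟨fun a b => ?_⟩⟩
      have ha : a ∈ Subgroup.center G := by rw [h1]; trivial
      exact (Subgroup.mem_center_iff.mp ha b).symm
  · rw [h, Subgroup.isComplement'_top_left] at hc
    exact P.ne_bot_of_dvd_card hpG hc

theorem prime_ne_two (hG : IsMinSimpleOddOrder G) {p : ℕ} (hpG : p ∣ Nat.card G) : p ≠ 2 := by
  rintro rfl
  rcases hG.1 with ⟨m, hm⟩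
  omega

/-- for a nontrivial Sylow subgroup `T`, `N(Z(J(T)))` is a Frobenius group whose kernel contains `T` -/
theorem normalizer_zj_frobIn (hG : IsMinSimpleOddOrder G) (hCN : IsCNGroup G) {p : ℕ}
    [hp : Fact p.Prime] (T : Sylow p G) (hT : (T : Subgroup G) ≠ ⊥) :
    ∃ K E : Subgroup G,
      FrobIn (Subgroup.normalizer (centerThompsonAOf (T : Subgroup G) : Set G)) K E ∧
        (T : Subgroup G) ≤ K := by
  have hpG : p ∣ Nat.card G := by
    rcases T.isPGroup'.card_eq_or_dvd with h | h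
    · exact absurd (Subgroup.card_eq_one.mp h) hT
    · exact h.trans (Subgroup.card_subgroup_dvd_card _)
  have hp2 := prime_ne_two hG hpG
  set Z := centerThompsonAOf (T : Subgroup G) with hZ
  have hZT : Z ≤ (T : Subgroup G) := zj_le T.isPGroup'
  have hZ1 : Z ≠ ⊥ := zj_ne_bot T.isPGroup' hT
  have hTN : (T : Subgroup G) ≤ Subgroup.normalizer (Z : Set G) :=
    Subgroup.le_normalizer.trans (normalizer_le_normalizer_zj T.isPGroup')
  have hNtop : Subgroup.normalizer (Z : Set G) ≠ ⊤ := by
    intro h0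
    have := hG.2.1
    have hn : Z.Normal := Subgroup.normalizer_eq_top_iff.mp h0
    rcases hn.eq_bot_or_eq_top with h1 | h1
    · exact hZ1 h1
    · apply not_npc hG hpG
      have hTtop : (T : Subgroup G) = ⊤ := by
        rw [eq_top_iff, ← h1]; exact hZT
      refine ⟨T, ⊥, inferInstance, ?_⟩
      rw [Subgroup.isComplement'_bot_left]
      exact hTtop
  rcases proper_structure hG hCN hNtop with h1 | ⟨K, E, h⟩
  · exfalso
    apply not_npc hG hpG
    apply Cfsg.Agent.S0659.result hp2 T
    haveI := h1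
    exact npc_of_nilpotent
  · refine ⟨K, E, h, ?_⟩
    have hpK := h.dvd_of_normal_pgroup (hZT.trans hTN) le_rfl hZ1 (T.isPGroup'.to_le hZT)
    intro x hx
    exact h.mem_of_pElement hpK (hTN hx) (T.isPGroup'.to_le (Subgroup.zpowers_le.mpr hx))

theorem MaxNilp.ne_bot (hG : IsMinSimpleOddOrder G) {H : Subgroup G} (hH : MaxNilp H) : H ≠ ⊥ := by
  intro h0
  have := hG.2.1
  obtain ⟨g, hg⟩ := exists_ne (1 : G)
  have h1 : Group.IsNilpotent (Subgroup.zpowers g) := by
    letI : CommGroup ↥(Subgroup.zpowers g) := IsCyclic.commGroup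
    exact CommGroup.isNilpotent
  have h2 := hH.2 _ h1 (by rw [h0]; exact bot_le)
  rw [h0, Subgroup.zpowers_eq_bot] at h2
  exact hg h2

/-- the normalizer of a maximal nilpotent subgroup is a Frobenius group with kernel `H` -/
theorem MaxNilp.frobIn (hG : IsMinSimpleOddOrder G) (hCN : IsCNGroup G) {H : Subgroup G}
    (hH : MaxNilp H) : ∃ E : Subgroup G, FrobIn (Subgroup.normalizer (H : Set G)) H E := by
  have hH1 := MaxNilp.ne_bot hG hH
  have hcH : Nat.card H ≠ 1 := fun h => hH1 (Subgroup.card_eq_one.mp h)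
  obtain ⟨p, hp, hpH⟩ := Nat.exists_prime_and_dvd hcH
  haveI : Fact p.Prime := ⟨hp⟩
  obtain ⟨P₀, -, hP₀⟩ := exists_sylIn_ge (p := p) (bot_le : (⊥ : Subgroup G) ≤ H) IsPGroup.of_bot
  have hHP₀ := sylIn_normal_of_isNilpotent hH.1 hP₀
  have hP₀1 : P₀ ≠ ⊥ := by
    intro h0
    have h2 := hP₀.2.2
    rw [h0, Subgroup.relIndex_bot_left] at h2
    exact h2 hpH
  have hcop := hH.coprime_index hCN
  have hidx : ¬ p ∣ P₀.index := by
    rw [← Subgroup.relIndex_mul_index hP₀.1]
    intro h0
    rcases (Nat.Prime.dvd_mul hp).mp h0 with h1 | h1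
    · exact hP₀.2.2 h1
    · have := Nat.dvd_gcd hpH h1
      rw [hcop] at this
      exact hp.one_lt.ne' (Nat.dvd_one.mp this)
  set T : Sylow p G := hP₀.2.1.toSylow hidx with hT
  have hTc : (T : Subgroup G) = P₀ := IsPGroup.toSylow_coe _ _
  obtain ⟨K, E, hF, hTK⟩ := normalizer_zj_frobIn hG hCN T (by rw [hTc]; exact hP₀1)
  rw [hTc] at hF hTK
  -- a central element of `P₀`
  have hpP₀ : p ∣ Nat.card P₀ := by
    rcases hP₀.2.1.card_eq_or_dvd with h | h
    · exact absurd (Subgroup.card_eq_one.mp h) hP₀1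
    · exact h
  obtain ⟨z, hzP, hz1, hzp, hzc⟩ := exists_central_pElement (p := p) hP₀.2.1.isNilpotent hpP₀
  have hzH : ∀ h ∈ H, h * z = z * h := by
    apply central_of_commute_pElements hH.1 (hP₀.1 hzP) hzp
    intro y hy hyp
    apply hzc
    exact hP₀.le_of_normal hHP₀ (Subgroup.zpowers_le.mpr hy) hyp (Subgroup.mem_zpowers y)
  have hP₀K : SylIn p K P₀ := by
    refine ⟨hTK, hP₀.2.1, ?_⟩
    intro h0
    exact hidx (h0.trans (Subgroup.relIndex_dvd_index_of_le hTK))
  have hKP₀ := sylIn_normal_of_isNilpotent hF.nil hP₀K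
  have hzK : ∀ h ∈ K, h * z = z * h := by
    apply central_of_commute_pElements hF.nil (hTK hzP) hzp
    intro y hy hyp
    apply hzc
    exact hP₀K.le_of_normal hKP₀ (Subgroup.zpowers_le.mpr hy) hyp (Subgroup.mem_zpowers y)
  have hKH : K ≤ H := by
    intro y hy
    exact hH.mem_of_commute hCN hz1 hzH (hzK y hy)
  have hHN : H ≤ Subgroup.normalizer (centerThompsonAOf P₀ : Set G) :=
    hHP₀.trans (normalizer_le_normalizer_zj hP₀.2.1)
  have hHK : H ≤ K := by
    intro h hh
    by_contra hhK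
    have h1 := hF.fpf h (hHN hh) hhK
    have h2 : z ∈ K ⊓ Subgroup.centralizer ({h} : Set G) := by
      refine ⟨hTK hzP, ?_⟩
      apply Subgroup.mem_centralizer_singleton_iff.mpr
      exact (hzH h hh).symm
    rw [h1, Subgroup.mem_bot] at h2
    exact hz1 h2
  have hKeq : K = H := le_antisymm hKH hHK
  rw [hKeq] at hF
  refine ⟨E, ?_⟩
  have hNeq : Subgroup.normalizer (H : Set G) =
      Subgroup.normalizer (centerThompsonAOf P₀ : Set G) := by
    apply le_antisymm
    · intro g hg
      apply normalizer_le_normalizer_zj hP₀.2.1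
      have h1 : SylIn p H (cj g P₀) := hP₀.cj' hg
      have h2 : cj g P₀ ≤ P₀ := hP₀.le_of_normal hHP₀ h1.1 h1.2.1
      have h3 : cj g P₀ = P₀ := by
        apply Subgroup.eq_of_le_of_card_ge h2
        rw [Subgroup.card_map_of_injective (MulAut.conj g).injective]
      exact mem_normalizer_of_map_conj_eq h3
    · exact hF.norm
  rw [hNeq]
  exact hF

end Cfsg.Agent.Lib.Helper4.CNMax
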