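import Mathlib
import Cfsg.Agent.Lib.Helper4.CNMax3

set_option autoImplicit false
open Pointwise

/-! Sylow subgroups are TI; maximal nilpotent subgroups are TI. -/

namespace Cfsg.Agent.Lib.Helper4.CNMax

open Cfsg Cfsg.Agent.Lib.Lead Cfsg.Agent.Lib.Helper4.ThreeStep Cfsg.Agent.Lib.Helper7

universe u

variable {G : Type u} [Group G] [Finite G]

/-- distinct Sylow `p`-subgroups meet trivially -/
theorem sylow_ti (hG : IsMinSimpleOddOrder G) (hCN : IsCNGroup G) {p : ℕ} [hp : Fact p.Prime]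
    (P Q : Sylow p G) (hPQ : P ≠ Q) : (P : Subgroup G) ⊓ (Q : Subgroup G) = ⊥ := by
  by_contra hcon
  let 𝒞 := {PQ : Sylow p G × Sylow p G //
    PQ.1 ≠ PQ.2 ∧ (PQ.1 : Subgroup G) ⊓ (PQ.2 : Subgroup G) ≠ ⊥}
  have : Nonempty 𝒞 := ⟨⟨(P, Q), hPQ, hcon⟩⟩
  have : Finite 𝒞 := Subtype.finite
  obtain ⟨⟨⟨P₁, P₂⟩, hne, hT1⟩, hmax⟩ :=
    Finite.exists_max (fun PQ : 𝒞 => Nat.card ((PQ.1.1 : Subgroup G) ⊓ (PQ.1.2 : Subgroup G) : Subgroup G))
  simp only at hne hT1 hmax
  set T : Subgroup G := (P₁ : Subgroup G) ⊓ (P₂ : Subgroup G) with hT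
  have hTp : IsPGroup p T := P₁.isPGroup'.to_le inf_le_left
  -- the key consequence of maximality
  have hkey : ∀ S : Sylow p G, ∀ P' : Sylow p G, ∀ U : Subgroup G, U ≤ S → U ≤ P' → T ≤ U → U ≠ T →
      S = P' := by
    intro S P' U hUS hUP' hTU hUT
    by_contra hSP
    have hU1 : (S : Subgroup G) ⊓ (P' : Subgroup G) ≠ ⊥ := by
      intro h0
      apply hT1
      rw [eq_bot_iff, ← h0]
      exact hTU.trans (le_inf hUS hUP')
    have h1 := hmax ⟨(S, P'), hSP, hU1⟩
    simp only at h1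
    have h2 : Nat.card U ≤ Nat.card ((S : Subgroup G) ⊓ (P' : Subgroup G) : Subgroup G) :=
      Subgroup.card_le_of_le (le_inf hUS hUP')
    exact hUT (Subgroup.eq_of_le_of_card_ge hTU (h2.trans h1)).symm
  -- `T` is proper in both
  have hTP₁ : T ≠ (P₁ : Subgroup G) := by
    intro h0
    apply hne
    have h1 : (P₁ : Subgroup G) ≤ (P₂ : Subgroup G) := by rw [← h0]; exact inf_le_right
    exact Sylow.ext (P₁.is_maximal' P₂.isPGroup' h1).symm
  have hTP₂ : T ≠ (P₂ : Subgroup G) := by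
    intro h0
    apply hne
    have h1 : (P₂ : Subgroup G) ≤ (P₁ : Subgroup G) := by rw [← h0]; exact inf_le_left
    exact Sylow.ext (P₂.is_maximal' P₁.isPGroup' h1)
  obtain ⟨y₁, hy₁P, hy₁T, hy₁N⟩ :=
    exists_normalizer_not_mem P₁.isPGroup'.isNilpotent (inf_le_left : T ≤ P₁) hTP₁
  obtain ⟨y₂, hy₂P, hy₂T, hy₂N⟩ :=
    exists_normalizer_not_mem P₂.isPGroup'.isNilpotent (inf_le_right : T ≤ P₂) hTP₂
  set M : Subgroup G := Subgroup.normalizer (T : Set G) with hM
  have hMtop : M ≠ ⊤ := by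
    intro h0
    have := hG.2.1
    have hn : T.Normal := Subgroup.normalizer_eq_top_iff.mp h0
    rcases hn.eq_bot_or_eq_top with h1 | h1
    · exact hT1 h1
    · apply hTP₁
      rw [h1, eq_comm, eq_top_iff, ← h1]
      exact inf_le_left
  obtain ⟨R, hRM, hRp, hR⟩ := exists_pgroup_ge_of_normal hG hCN hMtop
    (Subgroup.le_normalizer : T ≤ M) le_rfl hT1 hTp
  obtain ⟨S, hRS⟩ := hRp.exists_le_sylow
  -- the `p`-subgroups `⟨T, y₁⟩` and `⟨T, y₂⟩` of `M`
  have hU : ∀ (P' : Sylow p G) (y : G), T ≤ P' → y ∈ (P' : Subgroup G) → y ∉ T → y ∈ M → S = P' := by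
    intro P' y hTP' hyP hyT hyM
    set U : Subgroup G := T ⊔ Subgroup.zpowers y with hU
    have hUP' : U ≤ P' := sup_le hTP' (Subgroup.zpowers_le.mpr hyP)
    have hUM : U ≤ M := sup_le Subgroup.le_normalizer (Subgroup.zpowers_le.mpr hyM)
    have hUR : U ≤ R := hR U hUM (P'.isPGroup'.to_le hUP')
    apply hkey S P' U (hUR.trans hRS) hUP' le_sup_left
    intro h0
    apply hyT
    rw [← h0]
    exact (le_sup_right : Subgroup.zpowers y ≤ U) (Subgroup.mem_zpowers y)
  have h1 := hU P₁ y₁ inf_le_left hy₁P hy₁T hy₁N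
  have h2 := hU P₂ y₂ inf_le_right hy₂P hy₂T hy₂N
  exact hne (h1.symm.trans h2)

/-- maximal nilpotent subgroups are TI -/
theorem MaxNilp.ti' (hG : IsMinSimpleOddOrder G) (hCN : IsCNGroup G) {H : Subgroup G}
    (hH : MaxNilp H) (g : G) (hg : cj g H ≠ H) : H ⊓ cj g H = ⊥ := by
  have hH1 := MaxNilp.ne_bot hG hH
  have hcH : Nat.card H ≠ 1 := fun h => hH1 (Subgroup.card_eq_one.mp h)
  by_cases hpp : IsPrimePow (Nat.card H)
  · obtain ⟨p, k, hp, hk, hpk⟩ := hpp
    have hp' : p.Prime := Nat.prime_iff.mpr hp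
    haveI : Fact p.Prime := ⟨hp'⟩
    have hHp : IsPGroup p H := IsPGroup.of_card hpk.symm
    have hcop := hH.coprime_index hCN
    have hidx : ¬ p ∣ H.index := by
      intro h0
      have h1 : p ∣ Nat.card H := by rw [← hpk]; exact dvd_pow_self p hk.ne'
      have := Nat.dvd_gcd h1 h0
      rw [hcop] at this
      exact hp'.one_lt.ne' (Nat.dvd_one.mp this)
    set P : Sylow p G := hHp.toSylow hidx with hP
    have hPc : (P : Subgroup G) = H := IsPGroup.toSylow_coe _ _
    have hidx' : ¬ p ∣ (cj g H).index := by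
      have : (cj g H).index = H.index := by
        have h1 := Subgroup.card_mul_index (cj g H)
        have h2 := Subgroup.card_mul_index H
        rw [Subgroup.card_map_of_injective (MulAut.conj g).injective] at h1
        have hpos : 0 < Nat.card H := Nat.card_pos
        exact Nat.eq_of_mul_eq_mul_left hpos (h1.trans h2.symm)
      rw [this]; exact hidx
    set Q : Sylow p G := (hHp.map (MulAut.conj g).toMonoidHom).toSylow hidx' with hQ
    have hQc : (Q : Subgroup G) = cj g H := IsPGroup.toSylow_coe _ _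
    have hne : P ≠ Q := by
      intro h0
      apply hg
      rw [← hQc, ← h0, hPc]
    have := sylow_ti hG hCN P Q hne
    rwa [hPc, hQc] at this
  · exact hH.ti hCN hpp hcH g hg

end Cfsg.Agent.Lib.Helper4.CNMax
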