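import Mathlib
import Cfsg.Agent.Lib.Helper4.CNMax4

set_option autoImplicit false
open Pointwise

/-! Normalizers of maximal nilpotent subgroups are maximal; structure of maximal subgroups. -/

namespace Cfsg.Agent.Lib.Helper4.CNMax

open Cfsg Cfsg.Agent.Lib.Lead Cfsg.Agent.Lib.Helper4.ThreeStep Cfsg.Agent.Lib.Helper7

universe u

variable {G : Type u} [Group G] [Finite G]

/-- in a Frobenius group `N = H E`, every element of `H` is a commutator `h e h⁻¹ e⁻¹` -/
theorem FrobIn.exists_comm {N H E : Subgroup G} (hF : FrobIn N H E) {e : G} (he : e ∈ E)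
    (he1 : e ≠ 1) (h : G) (hh : h ∈ H) : ∃ a ∈ H, h = a * e * a⁻¹ * e⁻¹ := by
  have heN : e ∈ N := hF.E_le he
  have heH : e ∉ H := by
    intro h0
    have : e ∈ H ⊓ E := ⟨h0, he⟩
    rw [hF.disj, Subgroup.mem_bot] at this
    exact he1 this
  have hfpf := hF.fpf e heN heH
  have hnorm := Subgroup.mem_normalizer_iff.mp (hF.norm heN)
  let φ : ↥H → ↥H := fun a => ⟨(a : G) * e * (a : G)⁻¹ * e⁻¹, by
    have h1 : e * (a : G)⁻¹ * e⁻¹ ∈ H := (hnorm _).mp (H.inv_mem a.2)
    have : (a : G) * e * (a : G)⁻¹ * e⁻¹ = (a : G) * (e * (a : G)⁻¹ * e⁻¹) := by group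
    rw [this]
    exact H.mul_mem a.2 h1⟩
  have hinj : Function.Injective φ := by
    intro a b hab
    have h1 : (a : G) * e * (a : G)⁻¹ * e⁻¹ = (b : G) * e * (b : G)⁻¹ * e⁻¹ :=
      congrArg Subtype.val hab
    have h2 : (a : G) * e * (a : G)⁻¹ = (b : G) * e * (b : G)⁻¹ := by
      have := congrArg (· * e) h1
      simpa using this
    have h3 : (b : G)⁻¹ * (a : G) ∈ H ⊓ Subgroup.centralizer ({e} : Set G) := by
      refine ⟨H.mul_mem (H.inv_mem b.2) a.2, ?_⟩
      apply Subgroup.mem_centralizer_singleton_iff.mpr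
      calc (b : G)⁻¹ * (a : G) * e = (b : G)⁻¹ * ((a : G) * e * (a : G)⁻¹) * (a : G) := by group
        _ = (b : G)⁻¹ * ((b : G) * e * (b : G)⁻¹) * (a : G) := by rw [h2]
        _ = e * ((b : G)⁻¹ * (a : G)) := by group
    rw [hfpf, Subgroup.mem_bot] at h3
    apply Subtype.ext
    have : (a : G) = (b : G) * ((b : G)⁻¹ * (a : G)) := by group
    rw [this, h3, mul_one]
  have hsurj := Finite.injective_iff_surjective.mp hinj
  obtain ⟨a, ha⟩ := hsurj ⟨h, hh⟩
  exact ⟨a, a.2, (congrArg Subtype.val ha).symm⟩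

/-- the normalizer of a maximal nilpotent subgroup is a maximal subgroup -/
theorem MaxNilp.normalizer_isCoatom (hG : IsMinSimpleOddOrder G) (hCN : IsCNGroup G)
    {H : Subgroup G} (hH : MaxNilp H) : IsCoatom (Subgroup.normalizer (H : Set G)) := by
  obtain ⟨E, hF⟩ := MaxNilp.frobIn hG hCN hH
  have hEH : ¬ E ≤ H := by
    intro h0
    apply hF.E_ne
    rw [eq_bot_iff, ← hF.disj]
    exact le_inf h0 le_rfl
  obtain ⟨e, he, he1⟩ : ∃ e ∈ E, e ≠ 1 := by
    by_contra hcon
    push Not at hcon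
    exact hF.E_ne ((Subgroup.eq_bot_iff_forall _).mpr hcon)
  constructor
  · intro h0
    have := hG.2.1
    have hn : H.Normal := Subgroup.normalizer_eq_top_iff.mp h0
    rcases hn.eq_bot_or_eq_top with h1 | h1
    · exact hF.K_ne h1
    · apply hEH
      rw [h1]; exact le_top
  · intro M hlt
    by_contra hMtop
    rcases proper_structure hG hCN hMtop with h1 | ⟨K, E₂, hF₂⟩
    · have hNnil : Group.IsNilpotent (Subgroup.normalizer (H : Set G)) :=
        isNilpotent_of_le h1 hlt.le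
      have h2 := hH.2 _ hNnil Subgroup.le_normalizer
      apply hEH
      rw [← h2]
      exact hF.E_le
    · have hHK : H ≤ K := by
        intro h hh
        obtain ⟨a, ha, rfl⟩ := hF.exists_comm he he1 h hh
        exact hF₂.comm a (hlt.le (hF.K_le ha)) e (hlt.le (hF.E_le he))
      have hKH := hH.2 K hF₂.nil hHK
      have h2 : M ≤ Subgroup.normalizer (H : Set G) := by
        rw [← hKH]; exact hF₂.norm
      exact lt_irrefl _ (hlt.trans_le h2)

/-- the structure of maximal subgroups -/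
theorem coatom_structure (hG : IsMinSimpleOddOrder G) (hCN : IsCNGroup G) {M : Subgroup G}
    (hM : IsCoatom M) : ∃ H E : Subgroup G, MaxNilp H ∧ FrobIn M H E := by
  rcases proper_structure hG hCN hM.1 with h1 | ⟨K, E, hF⟩
  · exfalso
    obtain ⟨H, hMH, hH⟩ := exists_maxNilp_ge h1
    obtain ⟨E, hF⟩ := MaxNilp.frobIn hG hCN hH
    have hco := MaxNilp.normalizer_isCoatom hG hCN hH
    have hMN : M ≤ Subgroup.normalizer (H : Set G) := hMH.trans Subgroup.le_normalizer
    rcases eq_or_lt_of_le hMN with h2 | h2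
    · apply hF.E_ne
      rw [eq_bot_iff, ← hF.disj]
      refine le_inf ?_ le_rfl
      calc E ≤ Subgroup.normalizer (H : Set G) := hF.E_le
        _ = M := h2.symm
        _ ≤ H := hMH
    · exact hco.1 (hM.2 _ h2)
  · refine ⟨K, E, ⟨hF.nil, ?_⟩, hF⟩
    obtain ⟨H, hKH, hH⟩ := exists_maxNilp_ge hF.nil
    by_cases hKeq : K = H
    · rw [hKeq]; exact hH.2
    exfalso
    obtain ⟨y, hyH, hyK, hyN⟩ := exists_normalizer_not_mem hH.1 hKH hKeq
    have hNK : Subgroup.normalizer (K : Set G) = M := by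
      rcases eq_or_lt_of_le hF.norm with h2 | h2
      · exact h2.symm
      · exfalso
        have h3 := hM.2 _ h2
        have := hG.2.1
        have hn : K.Normal := Subgroup.normalizer_eq_top_iff.mp h3
        rcases hn.eq_bot_or_eq_top with h4 | h4
        · exact hF.K_ne h4
        · apply hM.1
          rw [eq_top_iff, ← h4]; exact hF.K_le
    have hyM : y ∈ M := by rw [← hNK]; exact hyN
    have hcK : Nat.card K ≠ 1 := fun h => hF.K_ne (Subgroup.card_eq_one.mp h)
    obtain ⟨q, hq, hqK⟩ := Nat.exists_prime_and_dvd hcK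
    haveI : Fact q.Prime := ⟨hq⟩
    have hUnil : Group.IsNilpotent (H ⊓ M : Subgroup G) := isNilpotent_of_le hH.1 inf_le_left
    have hKU : K ≤ H ⊓ M := le_inf hKH hF.K_le
    have hqU : q ∣ Nat.card (H ⊓ M : Subgroup G) := hqK.trans (Subgroup.card_dvd_of_le hKU)
    obtain ⟨z, hzU, hz1, hzq, hzc⟩ := exists_central_pElement (p := q) hUnil hqU
    have hzK : z ∈ K := hF.mem_of_pElement hqK hzU.2 hzq
    have h1 := hF.fpf y hyM hyK
    have h2 : z ∈ K ⊓ Subgroup.centralizer ({y} : Set G) := by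
      refine ⟨hzK, ?_⟩
      apply Subgroup.mem_centralizer_singleton_iff.mpr
      exact (hzc y ⟨hyH, hyM⟩).symm
    rw [h1, Subgroup.mem_bot] at h2
    exact hz1 h2

end Cfsg.Agent.Lib.Helper4.CNMax
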