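import Mathlib
import Cfsg.Agent.Lib.Helper4.CNMax5
import Cfsg.Agent.Lib.Helper4.FittingHall

set_option autoImplicit false
open Pointwise

/-! Maximal nilpotent subgroups: conjugate or coprime; the Fitting–Hall subgroup of a maximal subgroup. -/

namespace Cfsg.Agent.Lib.Helper4.CNMax

open Cfsg Cfsg.Agent.Lib.Lead Cfsg.Agent.Lib.Helper4.ThreeStep Cfsg.Agent.Lib.Helper7

universe u

variable {G : Type u} [Group G] [Finite G]

/-- a central element of a Sylow subgroup of a nilpotent group is central -/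
theorem central_of_sylIn {p : ℕ} [hp : Fact p.Prime] {H P : Subgroup G} (hH : Group.IsNilpotent H)
    (hP : SylIn p H P) {z : G} (hzP : z ∈ P) (hzc : ∀ h ∈ P, h * z = z * h) :
    ∀ h ∈ H, h * z = z * h := by
  have hHP := sylIn_normal_of_isNilpotent hH hP
  apply central_of_commute_pElements hH (hP.1 hzP) (hP.2.1.to_le (Subgroup.zpowers_le.mpr hzP))
  intro y hy hyp
  apply hzc
  exact hP.le_of_normal hHP (Subgroup.zpowers_le.mpr hy) hyp (Subgroup.mem_zpowers y)

/-- two maximal nilpotent subgroups with a common nontrivial Sylow subgroup coincide -/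
theorem MaxNilp.eq_of_sylIn (hCN : IsCNGroup G) {p : ℕ} [hp : Fact p.Prime] {H H' P : Subgroup G}
    (hH : MaxNilp H) (hH' : MaxNilp H') (hP : SylIn p H P) (hP' : SylIn p H' P) (hP1 : P ≠ ⊥) :
    H = H' := by
  have hpP : p ∣ Nat.card P := by
    rcases hP.2.1.card_eq_or_dvd with h | h
    · exact absurd (Subgroup.card_eq_one.mp h) hP1
    · exact h
  obtain ⟨z, hzP, hz1, -, hzc⟩ := exists_central_pElement (p := p) hP.2.1.isNilpotent hpP
  have h1 := hH.centralizer_eq hCN hz1 (central_of_sylIn hH.1 hP hzP hzc)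
  have h2 := hH'.centralizer_eq hCN hz1 (central_of_sylIn hH'.1 hP' hzP hzc)
  rw [← h1, ← h2]

/-- the Sylow subgroups of a maximal nilpotent subgroup are Sylow subgroups of `G` -/
theorem MaxNilp.sylIn_top (hCN : IsCNGroup G) {p : ℕ} [hp : Fact p.Prime] {H P : Subgroup G}
    (hH : MaxNilp H) (hpH : p ∣ Nat.card H) (hP : SylIn p H P) : SylIn p ⊤ P := by
  refine ⟨le_top, hP.2.1, ?_⟩
  rw [Subgroup.relIndex_top_right, ← Subgroup.relIndex_mul_index hP.1]
  intro h0
  rcases (Nat.Prime.dvd_mul hp.out).mp h0 with h1 | h1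
  · exact hP.2.2 h1
  · have := Nat.dvd_gcd hpH h1
    rw [hH.coprime_index hCN] at this
    exact hp.out.one_lt.ne' (Nat.dvd_one.mp this)

theorem sylIn_cj {p : ℕ} {H P : Subgroup G} (hP : SylIn p H P) (g : G) :
    SylIn p (cj g H) (cj g P) := by
  refine ⟨cj_mono g hP.1, hP.2.1.map _, ?_⟩
  have : (cj g P).relIndex (cj g H) = P.relIndex H := by
    have h1 := Subgroup.relIndex_mul_relIndex ⊥ (cj g P) (cj g H) bot_le (cj_mono g hP.1)
    have h2 := Subgroup.relIndex_mul_relIndex ⊥ P H bot_le hP.1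
    rw [Subgroup.relIndex_bot_left, Subgroup.relIndex_bot_left,
      Subgroup.card_map_of_injective (MulAut.conj g).injective,
      Subgroup.card_map_of_injective (MulAut.conj g).injective] at h1
    rw [Subgroup.relIndex_bot_left, Subgroup.relIndex_bot_left] at h2
    have hpos : 0 < Nat.card P := Nat.card_pos
    exact Nat.eq_of_mul_eq_mul_left hpos (h1.trans h2.symm)
  rw [this]; exact hP.2.2

/-- two maximal nilpotent subgroups are conjugate or of coprime orders -/
theorem maxNilp_conj_or_coprime (hCN : IsCNGroup G) {H₁ H₂ : Subgroup G} (h₁ : MaxNilp H₁)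
    (h₂ : MaxNilp H₂) : (∃ g : G, H₂ = cj g H₁) ∨ (Nat.card H₁).Coprime (Nat.card H₂) := by
  by_cases hc : (Nat.card H₁).Coprime (Nat.card H₂)
  · exact Or.inr hc
  left
  obtain ⟨p, hp, hp1, hp2⟩ := Nat.Prime.not_coprime_iff_dvd.mp hc
  haveI : Fact p.Prime := ⟨hp⟩
  obtain ⟨P₁, -, hP₁⟩ := exists_sylIn_ge (p := p) (bot_le : (⊥ : Subgroup G) ≤ H₁) IsPGroup.of_bot
  obtain ⟨P₂, -, hP₂⟩ := exists_sylIn_ge (p := p) (bot_le : (⊥ : Subgroup G) ≤ H₂) IsPGroup.of_bot
  have hP₂1 : P₂ ≠ ⊥ := by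
    intro h0
    have h2 := hP₂.2.2
    rw [h0, Subgroup.relIndex_bot_left] at h2
    exact h2 hp2
  obtain ⟨g, -, hg⟩ := (MaxNilp.sylIn_top hCN h₁ hp1 hP₁).conj (MaxNilp.sylIn_top hCN h₂ hp2 hP₂)
  refine ⟨g, ?_⟩
  have h3 : SylIn p (cj g H₁) P₂ := by
    rw [← hg]; exact sylIn_cj hP₁ g
  exact MaxNilp.eq_of_sylIn hCN h₂ (h₁.cj g) hP₂ h3 hP₂1

theorem MaxNilp.normalizer_ne_top (hG : IsMinSimpleOddOrder G) (hCN : IsCNGroup G)
    {H : Subgroup G} (hH : MaxNilp H) : Subgroup.normalizer (H : Set G) ≠ ⊤ :=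
  (MaxNilp.normalizer_isCoatom hG hCN hH).1

/-- the Fitting–Hall subgroup of a maximal subgroup is a maximal nilpotent subgroup with normalizer
`M` -/
theorem fittingHallOf_maxNilp (hG : IsMinSimpleOddOrder G) (hCN : IsCNGroup G) {M : Subgroup G}
    (hM : IsCoatom M) :
    MaxNilp (fittingHallOf M) ∧ Subgroup.normalizer (fittingHallOf M : Set G) = M := by
  obtain ⟨H, E, hH, hF⟩ := coatom_structure hG hCN hM
  have h1 : H ≤ fittingHallOf M := by
    apply le_fittingHallOf M hF.K_le hF.norm hF.nil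
    have h2 := Subgroup.relIndex_mul_relIndex ⊥ H M bot_le hF.K_le
    rw [Subgroup.relIndex_bot_left, Subgroup.relIndex_bot_left, ← hF.card] at h2
    have hpos : 0 < Nat.card H := Nat.card_pos
    have h3 : H.relIndex M = Nat.card E := Nat.eq_of_mul_eq_mul_left hpos h2
    rw [h3]; exact hF.cop
  have h2 := hH.2 _ (isNilpotent_fittingHallOf M) h1
  rw [h2]
  refine ⟨hH, ?_⟩
  rcases eq_or_lt_of_le hF.norm with h3 | h3
  · exact h3.symm
  · exact absurd (hM.2 _ h3) (MaxNilp.normalizer_ne_top hG hCN hH)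

/-- a maximal nilpotent subgroup whose normalizer is `M` is the Fitting–Hall subgroup of `M` -/
theorem MaxNilp.eq_fittingHallOf (hG : IsMinSimpleOddOrder G) (hCN : IsCNGroup G) {H : Subgroup G}
    (hH : MaxNilp H) : fittingHallOf (Subgroup.normalizer (H : Set G)) = H := by
  have hco := MaxNilp.normalizer_isCoatom hG hCN hH
  obtain ⟨E, hF⟩ := MaxNilp.frobIn hG hCN hH
  have h1 : H ≤ fittingHallOf (Subgroup.normalizer (H : Set G)) := by
    apply le_fittingHallOf _ hF.K_le hF.norm hF.nil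
    have h2 := Subgroup.relIndex_mul_relIndex ⊥ H _ bot_le hF.K_le
    rw [Subgroup.relIndex_bot_left, Subgroup.relIndex_bot_left, ← hF.card] at h2
    have hpos : 0 < Nat.card H := Nat.card_pos
    have h3 : H.relIndex (Subgroup.normalizer (H : Set G)) = Nat.card E :=
      Nat.eq_of_mul_eq_mul_left hpos h2
    rw [h3]; exact hF.cop
  exact hH.2 _ (isNilpotent_fittingHallOf _) h1

end Cfsg.Agent.Lib.Helper4.CNMax
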