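import Mathlib
import Cfsg.Agent.Lib.Lead.Quad8

set_option autoImplicit false
open scoped MatrixGroups
open Matrix

namespace Cfsg.Agent.Lib.Helper4.OddLin2

open Cfsg.Agent.Lib.Lead.Quad

section setup

variable {F : Type*} [Field F] (p : ℕ) [Fact p.Prime]
variable (H : Subgroup (GL (Fin 2) F))

/-- the action of a matrix as a `ZMod p`-linear map -/
noncomputable def actLin [Algebra (ZMod p) F] (g : GL (Fin 2) F) :
    (Fin 2 → F) →ₗ[ZMod p] (Fin 2 → F) :=
  (Matrix.mulVecLin (g : Matrix (Fin 2) (Fin 2) F)).restrictScalars (ZMod p)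

theorem actLin_apply [Algebra (ZMod p) F] (g : GL (Fin 2) F) (v : Fin 2 → F) :
    actLin p g v = (g : Matrix (Fin 2) (Fin 2) F) *ᵥ v := rfl

/-- generating set of the lattice -/
def genSet : Set (Fin 2 → F) :=
  Set.range (fun gi : ↥H × Fin 2 =>
    ((gi.1 : GL (Fin 2) F) : Matrix (Fin 2) (Fin 2) F) *ᵥ (Pi.single gi.2 1))

theorem genSet_finite [Finite H] : (genSet H).Finite := Set.finite_range _

/-- the `𝔽_p`-lattice spanned by the `H`-orbit of the standard basis -/
def lat [Algebra (ZMod p) F] : Submodule (ZMod p) (Fin 2 → F) :=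
  Submodule.span (ZMod p) (genSet H)

theorem single_mem_lat [Algebra (ZMod p) F] (i : Fin 2) : (Pi.single i 1 : Fin 2 → F) ∈ lat p H := by
  apply Submodule.subset_span
  refine ⟨⟨1, i⟩, ?_⟩
  change ((1 : GL (Fin 2) F) : Matrix (Fin 2) (Fin 2) F) *ᵥ (Pi.single i 1) = _
  rw [Units.val_one, Matrix.one_mulVec]

theorem lat_invariant [Algebra (ZMod p) F] (h : GL (Fin 2) F) (hh : h ∈ H) :
    ∀ w ∈ lat p H, actLin p h w ∈ lat p H := by
  have h1 : (lat p H).map (actLin p h) ≤ lat p H := by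
    rw [lat, Submodule.map_span_le]
    rintro _ ⟨⟨g, i⟩, rfl⟩
    apply Submodule.subset_span
    refine ⟨⟨⟨h, hh⟩ * g, i⟩, ?_⟩
    change ((h * (g : GL (Fin 2) F) : GL (Fin 2) F) : Matrix (Fin 2) (Fin 2) F) *ᵥ (Pi.single i 1) = _
    rw [actLin_apply, Matrix.mulVec_mulVec, Units.val_mul]
  intro w hw
  exact h1 ⟨w, hw, rfl⟩

instance lat_finite [Algebra (ZMod p) F] [Finite H] : Finite ↥(lat p H) := by
  have : Module.Finite (ZMod p) ↥(lat p H) := Module.Finite.span_of_finite _ (genSet_finite H)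
  exact Module.finite_of_finite (ZMod p)

/-- the representation on the lattice -/
noncomputable def latRep [Algebra (ZMod p) F] : ↥H →* Module.End (ZMod p) ↥(lat p H) where
  toFun h := (actLin p (h : GL (Fin 2) F)).restrict (lat_invariant p H h h.2)
  map_one' := by
    apply LinearMap.ext
    intro w
    apply Subtype.ext
    change ((1 : GL (Fin 2) F) : Matrix (Fin 2) (Fin 2) F) *ᵥ (w : Fin 2 → F) = _
    rw [Units.val_one, Matrix.one_mulVec]
    rfl
  map_mul' a b := by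
    apply LinearMap.ext
    intro w
    apply Subtype.ext
    change (((a : GL (Fin 2) F) * (b : GL (Fin 2) F) : GL (Fin 2) F) : Matrix (Fin 2) (Fin 2) F) *ᵥ
      (w : Fin 2 → F) = ((a : GL (Fin 2) F) : Matrix (Fin 2) (Fin 2) F) *ᵥ
        (((b : GL (Fin 2) F) : Matrix (Fin 2) (Fin 2) F) *ᵥ (w : Fin 2 → F))
    rw [Matrix.mulVec_mulVec, Units.val_mul]

theorem latRep_apply [Algebra (ZMod p) F] (h : ↥H) (w : ↥(lat p H)) :
    ((latRep p H h w : ↥(lat p H)) : Fin 2 → F) =
      ((h : GL (Fin 2) F) : Matrix (Fin 2) (Fin 2) F) *ᵥ (w : Fin 2 → F) := rfl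

end setup

/-- an odd-order group has no `SL₂(p)` section, `p` odd -/
theorem not_hasSL2Section_of_odd {p : ℕ} [Fact p.Prime] (hp : p ≠ 2) {Γ : Type*} [Group Γ] [Finite Γ]
    (hodd : Odd (Nat.card Γ)) : ¬ HasSL2Section p Γ := by
  rintro ⟨K, L, hL, ⟨e⟩⟩
  have h1 : Nat.card (↥K ⧸ L.subgroupOf K) ∣ Nat.card Γ :=
    (Subgroup.card_quotient_dvd_card _).trans (Subgroup.card_subgroup_dvd_card K)
  rw [Nat.card_congr e.toEquiv] at h1
  have h2 : 2 ∣ Nat.card (Matrix.SpecialLinearGroup (Fin 2) (ZMod p)) := by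
    have hne : (-1 : Matrix.SpecialLinearGroup (Fin 2) (ZMod p)) ≠ 1 := by
      intro h
      have h3 := congrArg (fun A : Matrix.SpecialLinearGroup (Fin 2) (ZMod p) => (A : Matrix (Fin 2) (Fin 2) (ZMod p)) 0 0) h
      simp at h3
      have h4 : ((2 : ℕ) : ZMod p) = 0 := by
        have : (1 : ZMod p) + 1 = 0 := by nth_rewrite 1 [← h3]; ring
        push_cast; rw [← this]; ring
      rw [ZMod.natCast_eq_zero_iff] at h4
      have := (Nat.prime_dvd_prime_iff_eq (Fact.out : p.Prime) Nat.prime_two).mp h4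
      exact hp this
    have h5 : orderOf (-1 : Matrix.SpecialLinearGroup (Fin 2) (ZMod p)) = 2 := by
      apply orderOf_eq_prime
      · simp
      · exact hne
    have h7 := orderOf_dvd_natCard (-1 : Matrix.SpecialLinearGroup (Fin 2) (ZMod p))
    rwa [h5] at h7
  have h6 : 2 ∣ Nat.card Γ := h2.trans h1
  rcases hodd with ⟨k, hk⟩
  omega

/-- Cayley–Hamilton for `2 × 2` matrices, by hand -/
theorem sq_fin_two {F : Type*} [CommRing F] (A : Matrix (Fin 2) (Fin 2) F) :
    A * A = (A 0 0 + A 1 1) • A - A.det • (1 : Matrix (Fin 2) (Fin 2) F) := by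
  ext i j
  fin_cases i <;> fin_cases j <;>
    simp [Matrix.mul_apply, Fin.sum_univ_two, Matrix.det_fin_two] <;> ring

/-- a nilpotent `2 × 2` matrix over a field squares to zero -/
theorem sq_eq_zero_of_pow_eq_zero {F : Type*} [Field F] (A : Matrix (Fin 2) (Fin 2) F) (n : ℕ)
    (h : A ^ n = 0) : A * A = 0 := by
  have hdet : A.det = 0 := by
    have h1 : A.det ^ n = 0 := by rw [← Matrix.det_pow, h, Matrix.det_zero]
    exact pow_eq_zero_iff (M₀ := F) (n := n) (by
      rintro rfl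
      simp at h1) |>.mp h1
  set t : F := A 0 0 + A 1 1 with ht
  have hsq : A * A = t • A := by
    rw [sq_fin_two A, hdet, zero_smul, sub_zero]
  have hpow : ∀ k : ℕ, A ^ (k + 1) = t ^ k • A := by
    intro k
    induction k with
    | zero => simp
    | succ k ih =>
      rw [pow_succ, ih, Matrix.smul_mul, hsq, smul_smul, pow_succ]
  rcases Nat.eq_zero_or_pos n with h0 | h0
  · subst h0
    rw [pow_zero] at h
    have : (1 : Matrix (Fin 2) (Fin 2) F) 0 0 = 0 := by rw [h]; rfl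
    simp at this
  · obtain ⟨k, rfl⟩ : ∃ k, n = k + 1 := ⟨n - 1, by omega⟩
    rw [hpow k] at h
    rcases smul_eq_zero.mp h with h2 | h2
    · rcases Nat.eq_zero_or_pos k with hk | hk
      · subst hk; simp at h2
      · have : t = 0 := pow_eq_zero_iff (M₀ := F) (n := k) (by omega) |>.mp h2
        rw [hsq, this, zero_smul]
    · rw [h2, mul_zero]

/-- a matrix killing two independent vectors is zero -/
theorem eq_zero_of_mulVec_eq_zero {F : Type*} [Field F] (M : Matrix (Fin 2) (Fin 2) F)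
    (v₀ v₁ : Fin 2 → F) (hv₀ : v₀ ≠ 0) (hv₁ : v₁ ∉ Submodule.span F {v₀})
    (h0 : M *ᵥ v₀ = 0) (h1 : M *ᵥ v₁ = 0) : M = 0 := by
  have hli : LinearIndependent F ![v₀, v₁] := by
    rw [LinearIndependent.pair_iff' hv₀]
    intro a ha
    apply hv₁
    rw [Submodule.mem_span_singleton]
    exact ⟨a, ha⟩
  have hspan : Submodule.span F (Set.range ![v₀, v₁]) = ⊤ :=
    hli.span_eq_top_of_card_eq_finrank' (by rw [Module.finrank_fin_fun]; rfl)
  have hle : Submodule.span F (Set.range ![v₀, v₁]) ≤ LinearMap.ker (Matrix.mulVecLin M) := by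
    rw [Submodule.span_le]
    rintro _ ⟨i, rfl⟩
    fin_cases i
    · exact h0
    · exact h1
  have hker : ∀ v, M *ᵥ v = 0 := by
    intro v
    have hv : v ∈ Submodule.span F (Set.range ![v₀, v₁]) := by rw [hspan]; trivial
    exact hle hv
  ext i j
  have h2 := congrFun (hker (Pi.single j 1)) i
  rw [Matrix.mulVec_single_one] at h2
  exact h2

/-- **B&G-type lemma**: an odd-order irreducible subgroup of `GL₂(F)`, `char F = p` odd, is a
`p'`-group. -/
theorem not_dvd_card_of_irreducible {F : Type*} [Field F] (p : ℕ) [Fact p.Prime] [CharP F p]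
    (hp : p ≠ 2) (H : Subgroup (GL (Fin 2) F)) [Finite H] (hodd : Odd (Nat.card H))
    (hirr : ∀ v : Fin 2 → F, v ≠ 0 →
      ∃ g ∈ H, (g : Matrix (Fin 2) (Fin 2) F).mulVec v ∉ Submodule.span F {v}) :
    ¬ p ∣ Nat.card H := by
  classical
  intro hdvd
  let _ : Algebra (ZMod p) F := ZMod.algebra F p
  obtain ⟨x, hx⟩ := exists_prime_orderOf_dvd_card' p hdvd
  set X : Matrix (Fin 2) (Fin 2) F := ((x : GL (Fin 2) F) : Matrix (Fin 2) (Fin 2) F) with hX
  have hXp : X ^ p = 1 := by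
    have h1 : x ^ p = 1 := by rw [← hx]; exact pow_orderOf_eq_one x
    have h2 := congrArg (fun y : ↥H => ((y : GL (Fin 2) F) : Matrix (Fin 2) (Fin 2) F)) h1
    simpa using h2
  have hnil : (X - 1) ^ p = 0 := by
    rw [sub_pow_char_of_commute p (Commute.one_right X), hXp, one_pow, sub_self]
  have hquad : (X - 1) * (X - 1) = 0 := sq_eq_zero_of_pow_eq_zero _ p hnil
  have hsub : ∀ (g : ↥H) (w : ↥(lat p H)), (((latRep p H g - 1) w : ↥(lat p H)) : Fin 2 → F) =
      (((g : GL (Fin 2) F) : Matrix (Fin 2) (Fin 2) F) - 1) *ᵥ (w : Fin 2 → F) := by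
    intro g w
    rw [LinearMap.sub_apply, Submodule.coe_sub, latRep_apply, Module.End.one_apply,
      Matrix.sub_mulVec, Matrix.one_mulVec]
  have hρx : (latRep p H x - 1) * (latRep p H x - 1) = 0 := by
    apply LinearMap.ext
    intro w
    apply Subtype.ext
    rw [Module.End.mul_apply, hsub, hsub, Matrix.mulVec_mulVec, ← hX, hquad, Matrix.zero_mulVec]
    rfl
  have hns := not_hasSL2Section_of_odd hp hodd
  have hN : ¬ ∀ N : Subgroup ↥H, N.Normal →
      (∀ g ∈ N, ∃ k : ℕ, latRep p H g ^ p ^ k = 1) → x ∉ N :=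
    fun h => hns (hasSL2Section_of_quadratic_elt (latRep p H) hp x hρx h)
  push Not at hN
  obtain ⟨N, hNn, hNp, hxN⟩ := hN
  -- faithfulness
  have hfaith : ∀ g : ↥H, latRep p H g = 1 → g = 1 := by
    intro g hg
    apply Subtype.ext
    apply Units.ext
    ext i j
    have h1 := congrArg (fun φ : Module.End (ZMod p) ↥(lat p H) =>
      ((φ ⟨Pi.single j 1, single_mem_lat p H j⟩ : ↥(lat p H)) : Fin 2 → F) i) hg
    simp only [latRep_apply, Module.End.one_apply, Matrix.mulVec_single_one] at h1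
    rw [Matrix.col_apply] at h1
    rw [h1]
    simp [Matrix.one_apply, Pi.single_apply]
  have hNpg : IsPGroup p ↥N := by
    intro n
    obtain ⟨k, hk⟩ := hNp n n.2
    refine ⟨k, ?_⟩
    apply Subtype.ext
    apply hfaith
    rw [Subgroup.coe_pow, map_pow, hk]
  -- a nonzero fixed vector of `N`
  let _ : MulAction ↥N ↥(lat p H) := MulAction.compHom _ ((latRep p H).comp N.subtype)
  have hact : ∀ (n : ↥N) (w : ↥(lat p H)), n • w = latRep p H (n : ↥H) w := fun _ _ => rfl
  have h0fix : (0 : ↥(lat p H)) ∈ MulAction.fixedPoints ↥N ↥(lat p H) := by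
    intro n
    rw [hact, map_zero]
  have hpW : p ∣ Nat.card ↥(lat p H) := by
    set w₀ : ↥(lat p H) := ⟨Pi.single 0 1, single_mem_lat p H 0⟩ with hw₀
    have hw₀ne : w₀ ≠ 0 := by
      intro h
      have h1 := congrArg (fun w : ↥(lat p H) => (w : Fin 2 → F) 0) h
      simp [hw₀] at h1
    have hpw : p • w₀ = 0 := by
      rw [← Nat.cast_smul_eq_nsmul (ZMod p), ZMod.natCast_self, zero_smul]
    have h1 := addOrderOf_eq_prime hpw hw₀ne
    have h2 := addOrderOf_dvd_natCard w₀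
    rwa [h1] at h2
  obtain ⟨b, hb, hb0⟩ := hNpg.exists_fixed_point_of_prime_dvd_card_of_fixed_point _ hpW h0fix
  set v₀ : Fin 2 → F := (b : Fin 2 → F) with hv₀def
  have hv₀ : v₀ ≠ 0 := by
    intro h
    apply hb0
    apply Subtype.ext
    rw [← hv₀def, h]
    rfl
  have hfix0 : ∀ n : ↥H, n ∈ N → ((n : GL (Fin 2) F) : Matrix (Fin 2) (Fin 2) F) *ᵥ v₀ = v₀ := by
    intro n hn
    have h1 := hb ⟨n, hn⟩
    rw [hact] at h1
    have h2 := congrArg (fun w : ↥(lat p H) => (w : Fin 2 → F)) h1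
    exact h2
  obtain ⟨g, hgH, hg⟩ := hirr v₀ hv₀
  set v₁ : Fin 2 → F := (g : Matrix (Fin 2) (Fin 2) F) *ᵥ v₀ with hv₁def
  have hfix1 : ∀ n : ↥H, n ∈ N → ((n : GL (Fin 2) F) : Matrix (Fin 2) (Fin 2) F) *ᵥ v₁ = v₁ := by
    intro n hn
    have hconj : (⟨g, hgH⟩ : ↥H)⁻¹ * n * ⟨g, hgH⟩ ∈ N := by
      have := hNn.conj_mem n hn (⟨g, hgH⟩ : ↥H)⁻¹
      rwa [inv_inv] at this
    have h1 := hfix0 _ hconj
    have h2 : ((n : GL (Fin 2) F) : Matrix (Fin 2) (Fin 2) F) * (g : Matrix (Fin 2) (Fin 2) F) =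
        (g : Matrix (Fin 2) (Fin 2) F) *
          ((((⟨g, hgH⟩ : ↥H)⁻¹ * n * ⟨g, hgH⟩ : ↥H) : GL (Fin 2) F) :
            Matrix (Fin 2) (Fin 2) F) := by
      rw [← Units.val_mul, ← Units.val_mul]
      congr 1
      push_cast
      group
    rw [hv₁def, Matrix.mulVec_mulVec, h2, ← Matrix.mulVec_mulVec, h1]
  have hX1 : X - 1 = 0 := by
    apply eq_zero_of_mulVec_eq_zero (X - 1) v₀ v₁ hv₀ hg
    · rw [Matrix.sub_mulVec, Matrix.one_mulVec, hX, hfix0 x hxN, sub_self]
    · rw [Matrix.sub_mulVec, Matrix.one_mulVec, hX, hfix1 x hxN, sub_self]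
  have hx1 : x = 1 := by
    apply Subtype.ext
    apply Units.ext
    rw [← hX]
    exact sub_eq_zero.mp hX1
  rw [hx1, orderOf_one] at hx
  exact (Fact.out : p.Prime).one_lt.ne hx

end Cfsg.Agent.Lib.Helper4.OddLin2
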