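import Mathlib

set_option autoImplicit false

/-! Linear algebra on a two-dimensional space over `ZMod p`. -/

namespace Cfsg.Agent.Lib.Helper4.Rk2

open Module

section lin

variable {p : ℕ} [hp : Fact p.Prime]
variable {W : Type*} [AddCommGroup W] [Module (ZMod p) W] [Finite W]

theorem finrank_eq_two (hW : Nat.card W = p ^ 2) : finrank (ZMod p) W = 2 := by
  have : Fintype W := Fintype.ofFinite W
  have h1 := Module.card_eq_pow_finrank (K := ZMod p) (V := W)
  rw [ZMod.card] at h1
  rw [Nat.card_eq_fintype_card, h1] at hW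
  exact Nat.pow_right_injective hp.out.two_le hW

theorem nontrivial_of_card (hW : Nat.card W = p ^ 2) : Nontrivial W := by
  have h1 : 1 < Nat.card W := by
    rw [hW]
    exact Nat.one_lt_pow (by norm_num) hp.out.one_lt
  exact (Finite.one_lt_card_iff_nontrivial).mp h1

theorem exists_repr (hW : Nat.card W = p ^ 2) {w w' : W} (hw : w ≠ 0)
    (hw' : ∀ a : ZMod p, a • w ≠ w') (v : W) : ∃ a b : ZMod p, v = a • w + b • w' := by
  have hli : LinearIndependent (ZMod p) ![w, w'] := (LinearIndependent.pair_iff' hw).mpr hw'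
  have h := hli.span_eq_top_of_card_eq_finrank' (by rw [finrank_eq_two hW]; simp)
  have hv : v ∈ Submodule.span (ZMod p) (Set.range ![w, w']) := by rw [h]; trivial
  have hr : Set.range ![w, w'] = {w, w'} := by
    ext z
    simp only [Set.mem_range, Set.mem_insert_iff, Set.mem_singleton_iff]
    constructor
    · rintro ⟨i, rfl⟩
      fin_cases i
      · left; rfl
      · right; rfl
    · rintro (rfl | rfl)
      · exact ⟨0, rfl⟩
      · exact ⟨1, rfl⟩
  rw [hr, Submodule.mem_span_pair] at hv
  obtain ⟨a, b, hab⟩ := hv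
  exact ⟨a, b, hab.symm⟩

theorem coord_unique {w w' : W} (hw : w ≠ 0) (hw' : ∀ a : ZMod p, a • w ≠ w')
    {a b a' b' : ZMod p} (h : a • w + b • w' = a' • w + b' • w') : a = a' ∧ b = b' := by
  have hli : LinearIndependent (ZMod p) ![w, w'] := (LinearIndependent.pair_iff' hw).mpr hw'
  rw [LinearIndependent.pair_iff] at hli
  have h1 : (a - a') • w + (b - b') • w' = 0 := by
    rw [sub_smul, sub_smul]
    have : a • w - a' • w + (b • w' - b' • w') = (a • w + b • w') - (a' • w + b' • w') := by abel
    rw [this, h, sub_self]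
  obtain ⟨h2, h3⟩ := hli _ _ h1
  exact ⟨sub_eq_zero.mp h2, sub_eq_zero.mp h3⟩

theorem eq_zero_of_pair (hW : Nat.card W = p ^ 2) {w w' : W} (hw : w ≠ 0)
    (hw' : ∀ a : ZMod p, a • w ≠ w') (f : Module.End (ZMod p) W) (h1 : f w = 0) (h2 : f w' = 0) :
    f = 0 := by
  apply LinearMap.ext
  intro v
  obtain ⟨a, b, rfl⟩ := exists_repr hW hw hw' v
  rw [map_add, map_smul, map_smul, h1, h2, smul_zero, smul_zero, add_zero, LinearMap.zero_apply]

theorem eq_of_pair (hW : Nat.card W = p ^ 2) {w w' : W} (hw : w ≠ 0)
    (hw' : ∀ a : ZMod p, a • w ≠ w') (f g : Module.End (ZMod p) W) (h1 : f w = g w)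
    (h2 : f w' = g w') : f = g := by
  have := eq_zero_of_pair hW hw hw' (f - g) (by rw [LinearMap.sub_apply, h1, sub_self])
    (by rw [LinearMap.sub_apply, h2, sub_self])
  exact sub_eq_zero.mp this

theorem exists_not_smul (hW : Nat.card W = p ^ 2) (w : W) : ∃ w' : W, ∀ a : ZMod p, a • w ≠ w' := by
  by_contra hcon
  push Not at hcon
  have hsurj : Function.Surjective (fun a : ZMod p => a • w) := fun w' => hcon w'
  have h1 := Nat.card_le_card_of_surjective _ hsurj
  rw [hW, Nat.card_zmod] at h1
  have h2 : p < p ^ 2 := by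
    have := hp.out.one_lt
    nlinarith
  omega

/-- a nilpotent endomorphism of a plane squares to zero -/
theorem sq_zero_of_pow_zero (hW : Nat.card W = p ^ 2) (N : Module.End (ZMod p) W) (k : ℕ)
    (hN : N ^ k = 0) : N * N = 0 := by
  have hnt := nontrivial_of_card hW
  have hN1 : N ^ (k + 1) = 0 := by rw [pow_succ, hN, zero_mul]
  -- `N` is not injective
  have hni : ¬ Function.Injective N := by
    intro hinj
    have h1 : Function.Injective (N ^ (k + 1)) := by
      rw [Module.End.coe_pow]
      exact hinj.iterate _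
    obtain ⟨v, hv⟩ := exists_ne (0 : W)
    apply hv
    apply h1
    rw [hN1, map_zero, LinearMap.zero_apply]
  have : ∃ w₁ : W, w₁ ≠ 0 ∧ N w₁ = 0 := by
    by_contra hcon
    push Not at hcon
    apply hni
    rw [injective_iff_map_eq_zero]
    intro a ha
    by_contra hne
    exact hcon a hne ha
  obtain ⟨w₁, hw₁, hNw₁⟩ := this
  obtain ⟨w₂, hw₂⟩ := exists_not_smul hW w₁
  obtain ⟨a, b, hab⟩ := exists_repr hW hw₁ hw₂ (N w₂)
  have hNN : N (N w₂) = b • N w₂ := by
    conv_lhs => rw [hab]
    rw [map_add, map_smul, map_smul, hNw₁, smul_zero, zero_add]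
  have hpow : ∀ j : ℕ, (N ^ (j + 1)) w₂ = b ^ j • N w₂ := by
    intro j
    induction j with
    | zero => simp
    | succ j ih =>
      rw [pow_succ', Module.End.mul_apply, ih, map_smul, hNN, smul_smul, pow_succ]
  have h0 : b ^ k • N w₂ = 0 := by rw [← hpow, hN1, LinearMap.zero_apply]
  apply eq_zero_of_pair hW hw₁ hw₂
  · rw [Module.End.mul_apply, hNw₁, map_zero]
  · rw [Module.End.mul_apply, hNN]
    rcases smul_eq_zero.mp h0 with h | h
    · have hb : b = 0 := pow_eq_zero_iff (n := k) (by
        intro hk
        rw [hk, pow_zero] at h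
        exact one_ne_zero h) |>.mp h
      rw [hb, zero_smul]
    · rw [h, smul_zero]

/-- `β` has no eigenvector -/
def NoEig (β : Module.End (ZMod p) W) : Prop := ∀ w : W, w ≠ 0 → ∀ a : ZMod p, a • w ≠ β w

theorem cayley (hW : Nat.card W = p ^ 2) {β : Module.End (ZMod p) W} (hβ : NoEig β) :
    ∃ t d : ZMod p, β * β = t • β + d • 1 := by
  have hnt := nontrivial_of_card hW
  obtain ⟨w₀, hw₀⟩ := exists_ne (0 : W)
  obtain ⟨x, y, hxy⟩ := exists_repr hW hw₀ (hβ w₀ hw₀) (β (β w₀))
  refine ⟨y, x, ?_⟩
  have hz : β * β - (y • β + x • 1) = 0 := by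
    apply eq_zero_of_pair hW hw₀ (hβ w₀ hw₀)
    · rw [LinearMap.sub_apply, Module.End.mul_apply, hxy, LinearMap.add_apply, LinearMap.smul_apply,
        LinearMap.smul_apply, Module.End.one_apply]
      abel
    · have h3 : β (β (β w₀)) = x • β w₀ + y • β (β w₀) := by
        conv_lhs => rw [hxy]
        rw [map_add, map_smul, map_smul]
      rw [LinearMap.sub_apply, Module.End.mul_apply, LinearMap.add_apply, LinearMap.smul_apply,
        LinearMap.smul_apply, Module.End.one_apply, h3]
      abel
  exact sub_eq_zero.mp hz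

/-- conjugate commuting with `β` (without eigenvector) is `β` or its "Galois conjugate" -/
theorem conj_eq_or_of_noEig (hW : Nat.card W = p ^ 2) {β β' γ γ' : Module.End (ZMod p) W}
    (hβ : NoEig β) (hγ' : γ' * γ = 1) (hβ' : β' = γ * β * γ')
    (hcomm : β * β' = β' * β) : β' = β ∨ ∃ t : ZMod p, β' = t • 1 - β := by
  obtain ⟨t, d, htd⟩ := cayley hW hβ
  have htd' : β' * β' = t • β' + d • 1 := by
    have hγ'' : γ * γ' = 1 := by
      -- finite-dimensional: left inverse is right inverse
      have hinj : Function.Injective γ := by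
        intro a b hab
        have := congrArg γ' hab
        rwa [← Module.End.mul_apply, ← Module.End.mul_apply, hγ', Module.End.one_apply,
          Module.End.one_apply] at this
      have hsurj : Function.Surjective γ := Finite.surjective_of_injective hinj
      apply LinearMap.ext
      intro v
      obtain ⟨u, rfl⟩ := hsurj v
      rw [Module.End.mul_apply, ← Module.End.mul_apply γ' γ, hγ', Module.End.one_apply,
        Module.End.one_apply]
    calc β' * β' = γ * β * (γ' * γ) * β * γ' := by rw [hβ']; simp only [mul_assoc]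
      _ = γ * (β * β) * γ' := by rw [hγ', mul_one]; simp only [mul_assoc]
      _ = γ * (t • β + d • 1) * γ' := by rw [htd]
      _ = t • (γ * β * γ') + d • (γ * γ') := by
          rw [mul_add, add_mul, mul_smul_comm, smul_mul_assoc, mul_smul_comm, smul_mul_assoc, mul_one]
      _ = t • β' + d • 1 := by rw [← hβ', hγ'']
  set u := β' - β with hu
  set u' := β' + β - t • 1 with hu'
  have huu' : u * u' = 0 := by
    rw [hu, hu']
    have : (β' - β) * (β' + β - t • 1) = β' * β' - β * β + (β' * β - β * β') - t • β' + t • β := by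
      rw [sub_mul, mul_sub, mul_sub, mul_add, mul_add, mul_smul_comm, mul_smul_comm, mul_one, mul_one]
      abel
    rw [this, htd, htd', hcomm]
    abel
  have hucomm : u * β = β * u := by
    rw [hu, sub_mul, mul_sub, hcomm]
  by_cases h0 : u' = 0
  · right
    refine ⟨t, ?_⟩
    rw [hu'] at h0
    have : β' = t • 1 - β := by
      have h1 := sub_eq_zero.mp h0
      rw [← h1]
      abel
    exact this
  · left
    have : ∃ w : W, u' w ≠ 0 := by
      by_contra hcon
      push Not at hcon
      apply h0
      apply LinearMap.ext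
      intro v
      rw [hcon v, LinearMap.zero_apply]
    obtain ⟨w, hw⟩ := this
    have hu0 : u = 0 := by
      apply eq_zero_of_pair hW hw (hβ _ hw)
      · rw [← Module.End.mul_apply, huu', LinearMap.zero_apply]
      · rw [← Module.End.mul_apply, hucomm, Module.End.mul_apply, ← Module.End.mul_apply u u', huu',
          LinearMap.zero_apply, map_zero]
    rw [hu] at hu0
    exact sub_eq_zero.mp hu0

end lin

end Cfsg.Agent.Lib.Helper4.Rk2
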