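import Mathlib
import Cfsg.Agent.Lib.Helper4.Rk2a

set_option autoImplicit false

/-! Linear algebra on a two-dimensional space over `ZMod p`, continued. -/

namespace Cfsg.Agent.Lib.Helper4.Rk2

open Module

section lin

variable {p : ℕ} [hp : Fact p.Prime]
variable {W : Type*} [AddCommGroup W] [Module (ZMod p) W] [Finite W]

theorem pow_apply_eig {β : Module.End (ZMod p) W} {w : W} {l : ZMod p} (h : β w = l • w) (j : ℕ) :
    (β ^ j) w = l ^ j • w := by
  induction j with
  | zero => simp
  | succ j ih => rw [pow_succ', Module.End.mul_apply, ih, map_smul, h, smul_smul, pow_succ]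

/-- Maschke in dimension two: a `p'`-element with an eigenvector is scalar or diagonalisable with
distinct eigenvalues. -/
theorem scalar_or_diag (hW : Nat.card W = p ^ 2) {β : Module.End (ZMod p) W} {m : ℕ}
    (hm : m.Coprime p) (hβm : β ^ m = 1) {w₁ : W} (hw₁ : w₁ ≠ 0) {l : ZMod p}
    (h1 : β w₁ = l • w₁) :
    β = l • 1 ∨ ∃ (w₂ : W) (μ : ZMod p), (∀ a : ZMod p, a • w₁ ≠ w₂) ∧ μ ≠ l ∧ β w₂ = μ • w₂ := by
  obtain ⟨w₂, hw₂⟩ := exists_not_smul hW w₁
  obtain ⟨c, μ, hcμ⟩ := exists_repr hW hw₁ hw₂ (β w₂)
  have hlm : l ^ m = 1 := by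
    have h2 := pow_apply_eig h1 m
    rw [hβm, Module.End.one_apply] at h2
    have h3 : (l ^ m - 1) • w₁ = 0 := by rw [sub_smul, one_smul, ← h2, sub_self]
    rcases smul_eq_zero.mp h3 with h | h
    · exact sub_eq_zero.mp h
    · exact absurd h hw₁
  have hm0 : m ≠ 0 := by
    intro h
    rw [h, Nat.coprime_zero_left] at hm
    exact hp.out.one_lt.ne' hm
  have hl0 : l ≠ 0 := by
    intro h
    rw [h, zero_pow hm0] at hlm
    exact zero_ne_one hlm
  by_cases hμ : μ = l
  · left
    -- unipotent part vanishes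
    have hpow : ∀ j : ℕ, (β ^ j) w₂ = l ^ j • w₂ + ((j : ZMod p) * l ^ j * l⁻¹ * c) • w₁ := by
      intro j
      induction j with
      | zero => simp
      | succ j ih =>
        rw [pow_succ', Module.End.mul_apply, ih, map_add, map_smul, map_smul, hcμ, h1, hμ, smul_add,
          smul_smul, smul_smul, smul_smul]
        have e1 : l ^ j * l = l ^ (j + 1) := (pow_succ l j).symm
        have e2 : l ^ j * c + (j : ZMod p) * l ^ j * l⁻¹ * c * l =
            ((j + 1 : ℕ) : ZMod p) * l ^ (j + 1) * l⁻¹ * c := by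
          push_cast
          rw [pow_succ]
          field_simp
          ring
        rw [e1, ← e2, add_smul]
        abel
    have h4 := hpow m
    rw [hβm, Module.End.one_apply, hlm, one_smul] at h4
    have h5 : ((m : ZMod p) * 1 * l⁻¹ * c) • w₁ = 0 := by
      have : w₂ + ((m : ZMod p) * 1 * l⁻¹ * c) • w₁ = w₂ + 0 := by rw [add_zero]; exact h4.symm
      exact add_left_cancel this
    have hmne : (m : ZMod p) ≠ 0 := by
      intro h
      rw [ZMod.natCast_eq_zero_iff] at h
      have := Nat.Coprime.eq_one_of_dvd hm.symm h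
      exact hp.out.one_lt.ne' this
    have hc : c = 0 := by
      rcases smul_eq_zero.mp h5 with h | h
      · rcases mul_eq_zero.mp h with h | h
        · rcases mul_eq_zero.mp h with h | h
          · rcases mul_eq_zero.mp h with h | h
            · exact absurd h hmne
            · exact absurd h one_ne_zero
          · exact absurd (inv_eq_zero.mp h) hl0
        · exact h
      · exact absurd h hw₁
    apply eq_of_pair hW hw₁ hw₂
    · rw [h1, LinearMap.smul_apply, Module.End.one_apply]
    · rw [hcμ, hc, zero_smul, zero_add, hμ, LinearMap.smul_apply, Module.End.one_apply]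
  · right
    set s : ZMod p := (μ - l)⁻¹ * c with hs
    have hμl : μ - l ≠ 0 := sub_ne_zero.mpr hμ
    refine ⟨w₂ + s • w₁, μ, ?_, hμ, ?_⟩
    · intro a ha
      apply hw₂ (a - s)
      rw [sub_smul, ha]
      abel
    · rw [map_add, map_smul, hcμ, h1, smul_add, smul_smul, smul_smul]
      have e : c + s * l = μ * s := by
        rw [hs]
        field_simp
        ring
      have : c • w₁ + μ • w₂ + (s * l) • w₁ = μ • w₂ + (c + s * l) • w₁ := by
        rw [add_smul]; abel
      rw [this, e]

/-- conjugate commuting with a diagonalisable `β` with distinct eigenvalues -/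
theorem conj_eq_or_of_diag (hW : Nat.card W = p ^ 2) {β β' γ γ' : Module.End (ZMod p) W}
    {w₁ w₂ : W} {l μ : ZMod p} (hw₁ : w₁ ≠ 0) (hw₂ : ∀ a : ZMod p, a • w₁ ≠ w₂) (hlμ : μ ≠ l)
    (h1 : β w₁ = l • w₁) (h2 : β w₂ = μ • w₂)
    (hγ : γ * γ' = 1) (hγ' : γ' * γ = 1) (hβ' : β' = γ * β * γ')
    (hcomm : β * β' = β' * β) : β' = β ∨ β' = (l + μ) • 1 - β := by
  -- `(β - l)(β - μ) = 0`
  have hsub : ∀ (w : W) (ν a : ZMod p), β w = ν • w → (β - a • 1) w = (ν - a) • w := by
    intro w ν a h
    rw [LinearMap.sub_apply, LinearMap.smul_apply, Module.End.one_apply, h, sub_smul]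
  have hq : (β - l • 1) * (β - μ • 1) = 0 := by
    apply eq_zero_of_pair hW hw₁ hw₂
    · rw [Module.End.mul_apply, hsub w₁ l μ h1, map_smul, hsub w₁ l l h1, sub_self, zero_smul,
        smul_zero]
    · rw [Module.End.mul_apply, hsub w₂ μ μ h2, sub_self, zero_smul, map_zero]
  have hq' : (β' - l • 1) * (β' - μ • 1) = 0 := by
    have e1 : β' - l • 1 = γ * (β - l • 1) * γ' := by
      rw [mul_sub, sub_mul, ← hβ', mul_smul_comm, smul_mul_assoc, mul_one, hγ]
    have e2 : β' - μ • 1 = γ * (β - μ • 1) * γ' := by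
      rw [mul_sub, sub_mul, ← hβ', mul_smul_comm, smul_mul_assoc, mul_one, hγ]
    calc (β' - l • 1) * (β' - μ • 1) = γ * (β - l • 1) * (γ' * γ) * (β - μ • 1) * γ' := by
          rw [e1, e2]; simp only [mul_assoc]
      _ = γ * ((β - l • 1) * (β - μ • 1)) * γ' := by rw [hγ', mul_one]; simp only [mul_assoc]
      _ = 0 := by rw [hq, mul_zero, zero_mul]
  -- `β'` is diagonal
  obtain ⟨a, c, hac⟩ := exists_repr hW hw₁ hw₂ (β' w₁)
  obtain ⟨c', d, hcd⟩ := exists_repr hW hw₁ hw₂ (β' w₂)
  have hc : c = 0 := by
    have e : β (β' w₁) = l • β' w₁ := by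
      rw [← Module.End.mul_apply, hcomm, Module.End.mul_apply, h1, map_smul]
    rw [hac, map_add, map_smul, map_smul, h1, h2, smul_add, smul_smul, smul_smul, smul_smul,
      smul_smul] at e
    obtain ⟨-, e2⟩ := coord_unique hw₁ hw₂ e
    have : c * (μ - l) = 0 := by rw [mul_sub, e2]; ring
    rcases mul_eq_zero.mp this with h | h
    · exact h
    · exact absurd (sub_eq_zero.mp h) hlμ
  have hc' : c' = 0 := by
    have e : β (β' w₂) = μ • β' w₂ := by
      rw [← Module.End.mul_apply, hcomm, Module.End.mul_apply, h2, map_smul]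
    rw [hcd, map_add, map_smul, map_smul, h1, h2, smul_add, smul_smul, smul_smul, smul_smul,
      smul_smul] at e
    obtain ⟨e1, -⟩ := coord_unique hw₁ hw₂ e
    have : c' * (l - μ) = 0 := by rw [mul_sub, e1]; ring
    rcases mul_eq_zero.mp this with h | h
    · exact h
    · exact absurd (sub_eq_zero.mp h).symm hlμ
  rw [hc, zero_smul, add_zero] at hac
  rw [hc', zero_smul, zero_add] at hcd
  -- eigenvalues of `β'` are among `l, μ`
  have hw₂0 : w₂ ≠ 0 := by
    intro h
    apply hw₂ 0
    rw [zero_smul, h]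
  have ha : (a - l) * (a - μ) = 0 := by
    have e := congrArg (fun f : Module.End (ZMod p) W => f w₁) hq'
    simp only [Module.End.mul_apply, LinearMap.sub_apply, LinearMap.smul_apply, Module.End.one_apply,
      LinearMap.zero_apply, map_sub, map_smul, hac] at e
    have e' : ((a - l) * (a - μ)) • w₁ = 0 := by
      rw [← e]
      simp only [smul_smul, ← sub_smul]
      congr 1
      ring
    rcases smul_eq_zero.mp e' with h | h
    · exact h
    · exact absurd h hw₁
  have hd : (d - l) * (d - μ) = 0 := by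
    have e := congrArg (fun f : Module.End (ZMod p) W => f w₂) hq'
    simp only [Module.End.mul_apply, LinearMap.sub_apply, LinearMap.smul_apply, Module.End.one_apply,
      LinearMap.zero_apply, map_sub, map_smul, hcd] at e
    have e' : ((d - l) * (d - μ)) • w₂ = 0 := by
      rw [← e]
      simp only [smul_smul, ← sub_smul]
      congr 1
      ring
    rcases smul_eq_zero.mp e' with h | h
    · exact h
    · exact absurd h hw₂0
  have hnotscalar : a ≠ d := by
    intro had
    -- then `β'` is scalar, hence so is `β`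
    have hs : β' = a • 1 := by
      apply eq_of_pair hW hw₁ hw₂
      · rw [hac, LinearMap.smul_apply, Module.End.one_apply]
      · rw [hcd, ← had, LinearMap.smul_apply, Module.End.one_apply]
    have hb : β = a • 1 := by
      have : β = γ' * β' * γ := by
        rw [hβ']
        calc β = (γ' * γ) * β * (γ' * γ) := by rw [hγ', one_mul, mul_one]
          _ = γ' * (γ * β * γ') * γ := by simp only [mul_assoc]
      rw [this, hs, mul_smul_comm, smul_mul_assoc, mul_one, hγ']
    have e1 : l • w₁ = a • w₁ := by rw [← h1, hb, LinearMap.smul_apply, Module.End.one_apply]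
    have e2 : μ • w₂ = a • w₂ := by rw [← h2, hb, LinearMap.smul_apply, Module.End.one_apply]
    have e1' : (l - a) • w₁ = 0 := by rw [sub_smul, e1, sub_self]
    have e2' : (μ - a) • w₂ = 0 := by rw [sub_smul, e2, sub_self]
    have hla : l = a := by
      rcases smul_eq_zero.mp e1' with h | h
      · exact sub_eq_zero.mp h
      · exact absurd h hw₁
    have hμa : μ = a := by
      rcases smul_eq_zero.mp e2' with h | h
      · exact sub_eq_zero.mp h
      · exact absurd h hw₂0
    exact hlμ (hμa.trans hla.symm)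
  have ha' : a = l ∨ a = μ := by
    rcases mul_eq_zero.mp ha with h | h
    · left; exact sub_eq_zero.mp h
    · right; exact sub_eq_zero.mp h
  have hd' : d = l ∨ d = μ := by
    rcases mul_eq_zero.mp hd with h | h
    · left; exact sub_eq_zero.mp h
    · right; exact sub_eq_zero.mp h
  rcases ha' with ha' | ha'
  · rcases hd' with hd' | hd'
    · exact absurd (ha'.trans hd'.symm) hnotscalar
    · left
      apply eq_of_pair hW hw₁ hw₂
      · rw [hac, ha', h1]
      · rw [hcd, hd', h2]
  · rcases hd' with hd' | hd'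
    · right
      apply eq_of_pair hW hw₁ hw₂
      · rw [hac, ha', LinearMap.sub_apply, LinearMap.smul_apply, Module.End.one_apply, h1, add_smul]
        abel
      · rw [hcd, hd', LinearMap.sub_apply, LinearMap.smul_apply, Module.End.one_apply, h2, add_smul]
        abel
    · exact absurd (ha'.trans hd'.symm) hnotscalar

/-- the combined statement -/
theorem conj_eq_or (hW : Nat.card W = p ^ 2) {β β' γ γ' : Module.End (ZMod p) W} {m : ℕ}
    (hm : m.Coprime p) (hβm : β ^ m = 1)
    (hγ : γ * γ' = 1) (hγ' : γ' * γ = 1) (hβ' : β' = γ * β * γ')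
    (hcomm : β * β' = β' * β) : β' = β ∨ ∃ t : ZMod p, β' = t • 1 - β := by
  by_cases hne : NoEig β
  · exact conj_eq_or_of_noEig hW hne hγ' hβ' hcomm
  · unfold NoEig at hne
    push Not at hne
    obtain ⟨w₁, hw₁, l, hl⟩ := hne
    rcases scalar_or_diag hW hm hβm hw₁ hl.symm with h | ⟨w₂, μ, hw₂, hμ, h2⟩
    · left
      rw [hβ', h, mul_smul_comm, smul_mul_assoc, mul_one, hγ]
    · rcases conj_eq_or_of_diag hW hw₁ hw₂ hμ hl.symm h2 hγ hγ' hβ' hcomm with h | h
      · left; exact h
      · right; exact ⟨_, h⟩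

end lin

end Cfsg.Agent.Lib.Helper4.Rk2
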