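import Mathlib
import Cfsg.Agent.Lib.Helper4.Rk2b
import Cfsg.Agent.Lib.Lead.Core
import Cfsg.Agent.S0008
import Cfsg.Agent.S0015
import Cfsg.Agent.S0044

set_option autoImplicit false

/-! Odd `p'`-groups acting faithfully on a plane over `ZMod p` are abelian. -/

namespace Cfsg.Agent.Lib.Helper4.Rk2

open Module

section grp

variable {p : ℕ} [hp : Fact p.Prime]
variable {W : Type*} [AddCommGroup W] [Module (ZMod p) W] [Finite W]

theorem mem_zpowers_sq_of_odd {Γ : Type*} [Group Γ] [Finite Γ] (hodd : Odd (Nat.card Γ)) (y : Γ) :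
    ∃ k : ℕ, (y * y) ^ k = y := by
  have h1 : orderOf y ∣ Nat.card Γ := orderOf_dvd_natCard y
  have h2 : Odd (orderOf y) := by
    rcases hodd with ⟨k, hk⟩
    by_contra hcon
    rw [Nat.not_odd_iff_even] at hcon
    have : 2 ∣ Nat.card Γ := (even_iff_two_dvd.mp hcon).trans h1
    omega
  obtain ⟨k, hk⟩ := h2
  refine ⟨k + 1, ?_⟩
  rw [← pow_two, ← pow_mul]
  have : 2 * (k + 1) = orderOf y + 1 := by omega
  rw [this, pow_succ, pow_orderOf_eq_one, one_mul]

/-- abelian normal subgroups are central -/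
theorem central_of_abelian_normal {Γ : Type*} [Group Γ] [Finite Γ] (hW : Nat.card W = p ^ 2)
    (ρ : Γ →* Module.End (ZMod p) W) (hρ : Function.Injective ρ) (hodd : Odd (Nat.card Γ))
    (hcop : (Nat.card Γ).Coprime p) (B : Subgroup Γ) [hBn : B.Normal]
    (hB : ∀ a ∈ B, ∀ b ∈ B, a * b = b * a) : B ≤ Subgroup.center Γ := by
  intro b hb
  rw [Subgroup.mem_center_iff]
  intro y
  have hconj : y * b * y⁻¹ ∈ B := hBn.conj_mem b hb y
  have hγ : ρ y * ρ y⁻¹ = 1 := by rw [← map_mul, mul_inv_cancel, map_one]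
  have hγ' : ρ y⁻¹ * ρ y = 1 := by rw [← map_mul, inv_mul_cancel, map_one]
  have hβ' : ρ (y * b * y⁻¹) = ρ y * ρ b * ρ y⁻¹ := by rw [map_mul, map_mul]
  have hcomm : ρ b * ρ (y * b * y⁻¹) = ρ (y * b * y⁻¹) * ρ b := by
    rw [← map_mul, ← map_mul, hB b hb _ hconj]
  have hm : (orderOf b).Coprime p :=
    Nat.Coprime.coprime_dvd_left (orderOf_dvd_natCard b) hcop
  have hβm : ρ b ^ orderOf b = 1 := by rw [← map_pow, pow_orderOf_eq_one, map_one]
  rcases conj_eq_or hW hm hβm hγ hγ' hβ' hcomm with h | ⟨t, ht⟩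
  · have := hρ h
    calc y * b = (y * b * y⁻¹) * y := by group
      _ = b * y := by rw [this]
  · -- `y ^ 2` commutes with `b`
    have h2 : ρ (y * (y * b * y⁻¹) * y⁻¹) = ρ b := by
      rw [map_mul, map_mul, ht, mul_sub, sub_mul, mul_smul_comm, smul_mul_assoc, mul_one, hγ,
        ← hβ', ht]
      abel
    have h3 := hρ h2
    have h4 : (y * y) * b = b * (y * y) := by
      calc (y * y) * b = (y * (y * b * y⁻¹) * y⁻¹) * (y * y) := by group
        _ = b * (y * y) := by rw [h3]
    obtain ⟨k, hk⟩ := mem_zpowers_sq_of_odd hodd y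
    have h5 : (y * y) ^ k * b = b * (y * y) ^ k := by
      have : Commute (y * y) b := h4
      exact (this.pow_left k).eq
    rw [hk] at h5
    exact h5

/-- a finite solvable group of odd order prime to `p` acting faithfully on a plane over `𝔽_p` is
abelian -/
theorem comm_of_faithful {Γ : Type*} [Group Γ] [Finite Γ] [hsolv : Group.IsSolvable Γ]
    (hW : Nat.card W = p ^ 2)
    (ρ : Γ →* Module.End (ZMod p) W) (hρ : Function.Injective ρ) (hodd : Odd (Nat.card Γ))
    (hcop : (Nat.card Γ).Coprime p) : ∀ a b : Γ, a * b = b * a := by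
  classical
  set F := Cfsg.fittingSubgroup Γ with hF
  have hFn : F.Normal := Cfsg.Agent.Lib.Lead.fittingSubgroup_normal
  have hFnil : Group.IsNilpotent ↥F := Cfsg.Agent.S0008.result
  -- `F` is abelian
  have hFodd : Odd (Nat.card ↥F) := by
    rcases hodd with ⟨k, hk⟩
    by_contra hcon
    rw [Nat.not_odd_iff_even] at hcon
    have : 2 ∣ Nat.card Γ := (even_iff_two_dvd.mp hcon).trans (Subgroup.card_subgroup_dvd_card F)
    omega
  have hFcop : (Nat.card ↥F).Coprime p :=
    Nat.Coprime.coprime_dvd_left (Subgroup.card_subgroup_dvd_card F) hcop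
  have hFab : ∀ a b : ↥F, a * b = b * a := by
    let S := {N : Subgroup ↥F // N.Normal ∧ IsMulCommutative N}
    haveI : Nonempty S := ⟨⟨⊥, inferInstance, inferInstance⟩⟩
    obtain ⟨⟨N, hNn, hNc⟩, hmax⟩ := Finite.exists_max (fun N : S => Nat.card N.1)
    have hmax' : ∀ M : Subgroup ↥F, M.Normal → IsMulCommutative M → N ≤ M → M = N := by
      intro M hMn hMc hNM
      have := hmax ⟨M, hMn, hMc⟩
      exact (Subgroup.eq_of_le_of_card_ge hNM this).symm
    have hcent : Subgroup.centralizer (N : Set ↥F) = N := Cfsg.Agent.S0015.result N hmax'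
    have hNZ : N ≤ Subgroup.center ↥F := by
      apply central_of_abelian_normal hW (ρ.comp F.subtype)
        (hρ.comp F.subtype_injective) hFodd hFcop N
      intro a ha b hb
      have := hNc.is_comm.comm ⟨a, ha⟩ ⟨b, hb⟩
      exact congrArg Subtype.val this
    have hNtop : N = ⊤ := by
      rw [← hcent, eq_top_iff]
      intro x _
      rw [Subgroup.mem_centralizer_iff]
      intro n hn
      exact ((Subgroup.mem_center_iff.mp (hNZ hn)) x).symm
    intro a b
    have := hNc.is_comm.comm ⟨a, by rw [hNtop]; trivial⟩ ⟨b, by rw [hNtop]; trivial⟩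
    exact congrArg Subtype.val this
  have hFZ : F ≤ Subgroup.center Γ := by
    apply central_of_abelian_normal hW ρ hρ hodd hcop F
    intro a ha b hb
    exact congrArg Subtype.val (hFab ⟨a, ha⟩ ⟨b, hb⟩)
  have hCF : Subgroup.centralizer (F : Set Γ) ≤ F := Cfsg.Agent.S0044.result
  have hFtop : F = ⊤ := by
    rw [eq_top_iff]
    intro x _
    apply hCF
    rw [Subgroup.mem_centralizer_iff]
    intro f hf
    exact ((Subgroup.mem_center_iff.mp (hFZ hf)) x).symm
  intro a b
  have := hFab ⟨a, by rw [hFtop]; trivial⟩ ⟨b, by rw [hFtop]; trivial⟩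
  exact congrArg Subtype.val this

end grp

end Cfsg.Agent.Lib.Helper4.Rk2
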