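import Mathlib
import Cfsg.Agent.Lib.Helper4.Rk2c
import Cfsg.Agent.Lib.Helper4.OddLin2
import Cfsg.Agent.Lib.Lead.Quad10

set_option autoImplicit false

/-! Odd solvable groups acting on a plane over `ZMod p`: `p'`-elements of the derived group act
trivially. -/

namespace Cfsg.Agent.Lib.Helper4.Rk2

open Module Cfsg.Agent.Lib.Lead.Quad

section lin

variable {p : ℕ} [hp : Fact p.Prime]
variable {W : Type*} [AddCommGroup W] [Module (ZMod p) W] [Finite W]

theorem end_comm_of_finrank_one {U : Type*} [AddCommGroup U] [Module (ZMod p) U]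
    (h : finrank (ZMod p) U = 1) (f g : Module.End (ZMod p) U) : f * g = g * f := by
  obtain ⟨a, ha, -⟩ := LinearMap.existsUnique_eq_smul_id_of_finrank_eq_one h f
  obtain ⟨b, hb, -⟩ := LinearMap.existsUnique_eq_smul_id_of_finrank_eq_one h g
  rw [ha, hb]
  apply LinearMap.ext
  intro u
  simp only [Module.End.mul_apply, LinearMap.smul_apply, LinearMap.id_apply, smul_smul, mul_comm]

theorem commutator_le_ker_of_comm {Γ : Type*} [Group Γ] {M : Type*} [Monoid M] (f : Γ →* M)
    (hcomm : ∀ a b : Γ, f a * f b = f b * f a) : commutator Γ ≤ f.ker := by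
  rw [commutator_def, Subgroup.commutator_le]
  intro a _ b _
  rw [MonoidHom.mem_ker, commutatorElement_def, map_mul, map_mul, map_mul]
  calc f a * f b * f a⁻¹ * f b⁻¹ = f a * (f b * f a⁻¹) * f b⁻¹ := by simp only [mul_assoc]
    _ = f a * (f a⁻¹ * f b) * f b⁻¹ := by rw [hcomm b a⁻¹]
    _ = (f a * f a⁻¹) * (f b * f b⁻¹) := by simp only [mul_assoc]
    _ = 1 := by rw [← map_mul, ← map_mul, mul_inv_cancel, mul_inv_cancel, map_one, mul_one]

/-- faithful linear version -/
theorem eq_one_of_mem_commutator_faithful {Γ : Type*} [Group Γ] [Finite Γ] [Group.IsSolvable Γ]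
    (hp2 : p ≠ 2) (hW : Nat.card W = p ^ 2)
    (ρ : Γ →* Module.End (ZMod p) W) (hρ : Function.Injective ρ) (hodd : Odd (Nat.card Γ))
    (x : Γ) (hx : x ∈ commutator Γ) (hxo : (orderOf x).Coprime p) : x = 1 := by
  classical
  have hnt := nontrivial_of_card hW
  by_cases hpdvd : p ∣ Nat.card Γ
  · obtain ⟨g, hg⟩ := exists_prime_orderOf_dvd_card' p hpdvd
    have hg1 : g ≠ 1 := by
      intro h
      rw [h, orderOf_one] at hg
      exact hp.out.one_lt.ne hg
    have hρg1 : ρ g ≠ 1 := by
      intro h
      apply hg1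
      apply hρ
      rw [h, map_one]
    have hgp : g ^ p = 1 := by
      have := pow_orderOf_eq_one g
      rwa [hg] at this
    have hρgp : ρ g ^ p = 1 := by rw [← map_pow, hgp, map_one]
    have hchar : CharP (Module.End (ZMod p) W) p := by
      apply charP_of_injective_algebraMap (R := ZMod p)
      exact (algebraMap (ZMod p) (Module.End (ZMod p) W)).injective
    have hnil : (ρ g - 1) ^ p = 0 := by
      rw [sub_pow_char_of_commute p (Commute.one_right (ρ g)), hρgp, one_pow, sub_self]
    have hquad : (ρ g - 1) * (ρ g - 1) = 0 := sq_zero_of_pow_zero hW _ p hnil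
    have hns := Cfsg.Agent.Lib.Helper4.OddLin2.not_hasSL2Section_of_odd hp2 hodd
    have hN : ¬ ∀ N : Subgroup Γ, N.Normal →
        (∀ n ∈ N, ∃ k : ℕ, ρ n ^ p ^ k = 1) → g ∉ N :=
      fun h => hns (hasSL2Section_of_quadratic_elt ρ hp2 g hquad h)
    push Not at hN
    obtain ⟨N, hNn, hNp, hgN⟩ := hN
    have hNpg : IsPGroup p ↥N := by
      intro n
      obtain ⟨k, hk⟩ := hNp n n.2
      refine ⟨k, ?_⟩
      apply Subtype.ext
      apply hρ
      rw [Subgroup.coe_pow, map_pow, hk, Subgroup.coe_one, map_one]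
    -- a nonzero fixed vector
    let _ : MulAction ↥N W := MulAction.compHom _ (ρ.comp N.subtype)
    have hact : ∀ (n : ↥N) (w : W), n • w = ρ (n : Γ) w := fun _ _ => rfl
    have h0fix : (0 : W) ∈ MulAction.fixedPoints ↥N W := by
      intro n
      rw [hact, map_zero]
    have hpW : p ∣ Nat.card W := by
      rw [hW]
      exact dvd_pow_self p (by norm_num)
    obtain ⟨w₁, hw₁fix, hw₁0⟩ :=
      hNpg.exists_fixed_point_of_prime_dvd_card_of_fixed_point _ hpW h0fix
    have hw₁ : w₁ ≠ 0 := fun h => hw₁0 h.symm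
    -- the fixed submodule
    let U : Submodule (ZMod p) W :=
      { carrier := {w | ∀ n ∈ N, ρ n w = w}
        add_mem' := by
          intro a b ha hb n hn
          rw [map_add, ha n hn, hb n hn]
        zero_mem' := by
          intro n _
          rw [map_zero]
        smul_mem' := by
          intro c a ha n hn
          rw [map_smul, ha n hn] }
    have hUmem : ∀ w : W, w ∈ U ↔ ∀ n ∈ N, ρ n w = w := fun _ => Iff.rfl
    have hUinv : Inv p ρ U := by
      intro y u hu
      rw [hUmem] at hu ⊢
      intro n hn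
      have hconj : y⁻¹ * n * y ∈ N := by
        have := hNn.conj_mem n hn y⁻¹
        rwa [inv_inv] at this
      have h1 := hu _ hconj
      have h2 : ρ n (ρ y u) = ρ y (ρ (y⁻¹ * n * y) u) := by
        rw [← Module.End.mul_apply, ← Module.End.mul_apply, ← map_mul, ← map_mul]
        congr 2
        group
      rw [h2, h1]
    have hw₁U : w₁ ∈ U := by
      rw [hUmem]
      intro n hn
      exact hw₁fix ⟨n, hn⟩
    have hUbot : U ≠ ⊥ := by
      intro h
      rw [h, Submodule.mem_bot] at hw₁U
      exact hw₁ hw₁U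
    have hUtop : U ≠ ⊤ := by
      intro h
      apply hρg1
      apply LinearMap.ext
      intro w
      have : w ∈ U := by rw [h]; trivial
      rw [Module.End.one_apply]
      exact (hUmem w).mp this g hgN
    have hfr := finrank_eq_two hW
    have hU1 : finrank (ZMod p) ↥U = 1 := by
      have h1 : finrank (ZMod p) ↥U < 2 := by rw [← hfr]; exact Submodule.finrank_lt hUtop
      have h2 : 1 ≤ finrank (ZMod p) ↥U := Submodule.one_le_finrank_iff.mpr hUbot
      omega
    have hQ1 : finrank (ZMod p) (W ⧸ U) = 1 := by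
      have := Submodule.finrank_quotient_add_finrank U
      rw [hfr, hU1] at this
      omega
    have hsub : commutator Γ ≤ (subRep ρ U hUinv).ker :=
      commutator_le_ker_of_comm _ (fun a b => end_comm_of_finrank_one hU1 _ _)
    have hquot : commutator Γ ≤ (quotRep ρ U hUinv).ker :=
      commutator_le_ker_of_comm _ (fun a b => end_comm_of_finrank_one hQ1 _ _)
    have hx1 := hsub hx
    have hx2 := hquot hx
    rw [MonoidHom.mem_ker] at hx1 hx2
    have hxU : ∀ u ∈ U, ρ x u = u := by
      intro u hu
      have := congrArg (fun f : Module.End (ZMod p) ↥U => ((f ⟨u, hu⟩ : ↥U) : W)) hx1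
      simpa [subRep_apply] using this
    have hxQ : ∀ w : W, ρ x w - w ∈ U := by
      intro w
      have := congrArg (fun f : Module.End (ZMod p) (W ⧸ U) => f (Submodule.Quotient.mk w)) hx2
      simp only [quotRep_apply, Module.End.one_apply] at this
      exact (Submodule.Quotient.eq U).mp this
    have hxquad : (ρ x - 1) * (ρ x - 1) = 0 := by
      apply LinearMap.ext
      intro w
      rw [Module.End.mul_apply, LinearMap.zero_apply]
      have h1 : (ρ x - 1) w ∈ U := by
        rw [LinearMap.sub_apply, Module.End.one_apply]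
        exact hxQ w
      rw [LinearMap.sub_apply, Module.End.one_apply, hxU _ h1, sub_self]
    have hxp : ρ x ^ p = 1 := pow_p_eq_one_of_sq_zero _ hxquad
    have hxp' : x ^ p = 1 := by
      apply hρ
      rw [map_pow, hxp, map_one]
    have h1 : orderOf x ∣ p := orderOf_dvd_of_pow_eq_one hxp'
    have h2 : orderOf x = 1 := Nat.Coprime.eq_one_of_dvd hxo h1
    exact orderOf_eq_one_iff.mp h2
  · have hcop : (Nat.card Γ).Coprime p :=
      (Nat.Prime.coprime_iff_not_dvd hp.out).mpr hpdvd |>.symm
    have hcomm := comm_of_faithful hW ρ hρ hodd hcop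
    have : commutator Γ ≤ (MonoidHom.id Γ).ker := commutator_le_ker_of_comm _ hcomm
    have := this hx
    rwa [MonoidHom.mem_ker] at this

end lin

end Cfsg.Agent.Lib.Helper4.Rk2
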