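import Mathlib
import Cfsg.Agent.Lib.Helper4.Rk2d

set_option autoImplicit false

/-! Odd solvable groups acting on an elementary abelian group of order dividing `p ^ 2`. -/

namespace Cfsg.Agent.Lib.Helper4.Rk2

open Module Cfsg.Agent.Lib.Lead.Quad

section act

variable {p : ℕ} [hp : Fact p.Prime]

theorem odd_of_dvd_odd {a b : ℕ} (h : a ∣ b) (hb : Odd b) : Odd a := by
  by_contra hcon
  rw [Nat.not_odd_iff_even] at hcon
  have : 2 ∣ b := (even_iff_two_dvd.mp hcon).trans h
  rcases hb with ⟨k, hk⟩
  omega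

theorem mulAut_comm_of_isCyclic {A : Type*} [Group A] [IsCyclic A] (f g : MulAut A) :
    f * g = g * f := by
  have e := IsCyclic.mulAutMulEquiv A
  apply e.injective
  rw [map_mul, map_mul, mul_comm]

/-- main case with a module structure given -/
theorem act_eq_one_main {A : Type*} [CommGroup A] [Finite A] [Module (ZMod p) (Additive A)]
    (hcard : Nat.card A = p ^ 2) {Γ : Type*} [Group Γ] [Finite Γ] [Group.IsSolvable Γ]
    (hp2 : p ≠ 2) (hodd : Odd (Nat.card Γ)) (φ : Γ →* MulAut A) (x : Γ)
    (hx : x ∈ commutator Γ) (hxo : (orderOf x).Coprime p) : φ x = 1 := by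
  classical
  have : Finite (Additive A) := inferInstanceAs (Finite A)
  have hW : Nat.card (Additive A) = p ^ 2 := hcard
  have hφbinj : Function.Injective (QuotientGroup.kerLift φ) := QuotientGroup.kerLift_injective φ
  have hρinj : Function.Injective (linRep (p := p) (QuotientGroup.kerLift φ)) := by
    intro a b hab
    apply hφbinj
    apply MulEquiv.ext
    intro v
    have := congrArg (fun f : Module.End (ZMod p) (Additive A) => (f (Additive.ofMul v)).toMul) hab
    simpa [linRep_apply] using this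
  have hodd' : Odd (Nat.card (Γ ⧸ φ.ker)) := by
    apply odd_of_dvd_odd _ hodd
    exact Subgroup.card_quotient_dvd_card _
  have hxb : (QuotientGroup.mk x : Γ ⧸ φ.ker) ∈ commutator (Γ ⧸ φ.ker) := by
    have h1 : (commutator Γ).map (QuotientGroup.mk' φ.ker) ≤ commutator (Γ ⧸ φ.ker) := by
      rw [commutator_def, commutator_def, Subgroup.map_commutator]
      exact Subgroup.commutator_mono le_top le_top
    exact h1 ⟨x, hx, rfl⟩
  have hxbo : (orderOf (QuotientGroup.mk x : Γ ⧸ φ.ker)).Coprime p :=
    Nat.Coprime.coprime_dvd_left (orderOf_map_dvd (QuotientGroup.mk' φ.ker) x) hxo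
  have h1 := eq_one_of_mem_commutator_faithful hp2 hW
    (linRep (p := p) (QuotientGroup.kerLift φ)) hρinj hodd' _ hxb hxbo
  have h2 : x ∈ φ.ker := (QuotientGroup.eq_one_iff x).mp h1
  exact MonoidHom.mem_ker.mp h2

/-- **Action form.** -/
theorem act_eq_one_of_mem_commutator {A : Type*} [CommGroup A] [Finite A] (hA : ∀ a : A, a ^ p = 1)
    (hcard : Nat.card A ∣ p ^ 2) {Γ : Type*} [Group Γ] [Finite Γ] [Group.IsSolvable Γ]
    (hp2 : p ≠ 2) (hodd : Odd (Nat.card Γ)) (φ : Γ →* MulAut A) (x : Γ)
    (hx : x ∈ commutator Γ) (hxo : (orderOf x).Coprime p) : φ x = 1 := by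
  classical
  obtain ⟨j, hj, hcj⟩ := (Nat.dvd_prime_pow hp.out).mp hcard
  have hj' : j = 0 ∨ j = 1 ∨ j = 2 := by omega
  rcases hj' with rfl | rfl | rfl
  · rw [pow_zero] at hcj
    have : Subsingleton A := (Nat.card_eq_one_iff_unique.mp hcj).1
    apply MulEquiv.ext
    intro a
    exact Subsingleton.elim _ _
  · rw [pow_one] at hcj
    have hcyc : IsCyclic A := isCyclic_of_prime_card hcj
    have := commutator_le_ker_of_comm φ (fun a b => mulAut_comm_of_isCyclic _ _)
    exact MonoidHom.mem_ker.mp (this hx)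
  · -- the main case
    letI inst : Module (ZMod p) (Additive A) := AddCommGroup.zmodModule (by
      intro a
      change Additive.ofMul (a.toMul ^ p) = 0
      rw [hA]; rfl)
    exact act_eq_one_main hcj hp2 hodd φ x hx hxo

end act

end Cfsg.Agent.Lib.Helper4.Rk2
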