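import Mathlib
import Cfsg.Agent.Lib.Helper4.OmegaOdd
import Cfsg.Agent.Lib.Lead.CoprimeFrattini
import Cfsg.Agent.Lib.Lead.Critical2
import Cfsg.Agent.Lib.Lead.Quad10
import Cfsg.Agent.S0012
import Cfsg.Agent.S0121

set_option autoImplicit false

/-! `Ω₁` of a critical subgroup: a characteristic subgroup of exponent `p` on which `p'`-groups of
automorphisms act faithfully. -/

namespace Cfsg.Agent.Lib.Helper4.Rk2

open Cfsg.Agent.Lib.Lead
open scoped commutatorElement

section chain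

variable {p : ℕ} [hp : Fact p.Prime]
variable {G : Type*} [Group G]

theorem le_normalizer_of_conj_mem (N D : Subgroup G)
    (h : ∀ g ∈ N, ∀ y ∈ D, g * y * g⁻¹ ∈ D) : N ≤ Subgroup.normalizer (D : Set G) := by
  intro g hg
  rw [Subgroup.mem_normalizer_iff]
  intro y
  constructor
  · exact h g hg y
  · intro hy
    have := h g⁻¹ (N.inv_mem hg) _ hy
    have e : g⁻¹ * (g * y * g⁻¹) * g⁻¹⁻¹ = y := by group
    rwa [e] at this

theorem exists_omega_critical [Finite G] (hp2 : p ≠ 2) (R : Subgroup G) (hR : IsPGroup p R) :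
    ∃ D : Subgroup G, D ≤ R ∧
      Subgroup.normalizer (R : Set G) ≤ Subgroup.normalizer (D : Set G) ∧
      (∀ y ∈ D, y ^ p = 1) ∧
      ∀ X : Subgroup G, X ≤ Subgroup.normalizer (R : Set G) → (Nat.card X).Coprime p →
        X ≤ Subgroup.centralizer (D : Set G) → X ≤ Subgroup.centralizer (R : Set G) := by
  classical
  obtain ⟨C₀, hC₀char, hfr, hcomm, hcent⟩ := exists_critical hR
  haveI := hC₀char
  set C : Subgroup G := C₀.map R.subtype with hCdef
  have hCR : C ≤ R := Subgroup.map_subtype_le _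
  have hNC : Subgroup.normalizer (R : Set G) ≤ Subgroup.normalizer (C : Set G) :=
    le_normalizer_map_characteristic R C₀
  have hCp : IsPGroup p C := hR.to_le hCR
  have hC₀p : IsPGroup p ↥C₀ := hR.to_subgroup C₀
  obtain ⟨hS1, hS2⟩ := Cfsg.Agent.S0012.result p hC₀p
  -- elements of the Frattini subgroup of `C₀` are central in `C`
  have hcentral : ∀ z : ↥C₀, z ∈ frattini ↥C₀ → ∀ c ∈ C, ((z : ↥R) : G) * c = c * ((z : ↥R) : G) := by
    intro z hz c hc
    obtain ⟨c₀, hc₀, rfl⟩ := hc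
    have h1 : (z : ↥R) ∈ Subgroup.centralizer (C₀ : Set ↥R) := hfr ⟨z, hz, rfl⟩
    have h2 := (Subgroup.mem_centralizer_iff.mp h1) c₀ hc₀
    have h3 := congrArg (fun r : ↥R => (r : G)) h2
    simp only [Subgroup.coe_mul] at h3
    exact h3.symm
  have hlift : ∀ c : ↥C, ∃ c₀ : ↥C₀, ((c₀ : ↥R) : G) = (c : G) := by
    intro c
    obtain ⟨r, hr, hrc⟩ := c.2
    exact ⟨⟨r, hr⟩, hrc⟩
  have hc : ∀ a b : ↥C, ⁅a, b⁆ ∈ Subgroup.center ↥C := by
    intro a b
    obtain ⟨a₀, ha₀⟩ := hlift a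
    obtain ⟨b₀, hb₀⟩ := hlift b
    rw [Subgroup.mem_center_iff]
    intro c
    apply Subtype.ext
    have hz : ⁅a₀, b₀⁆ ∈ frattini ↥C₀ := by
      apply hS1
      rw [commutator_def]
      exact Subgroup.commutator_mem_commutator (Subgroup.mem_top _) (Subgroup.mem_top _)
    have h1 := hcentral _ hz c c.2
    have e : (((⁅a₀, b₀⁆ : ↥C₀) : ↥R) : G) = ((⁅a, b⁆ : ↥C) : G) := by
      simp only [commutatorElement_def, Subgroup.coe_mul, Subgroup.coe_inv, ha₀, hb₀]
    rw [e] at h1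
    simp only [Subgroup.coe_mul]
    exact h1.symm
  have hpow : ∀ x : ↥C, x ^ p ∈ Subgroup.center ↥C := by
    intro x
    obtain ⟨x₀, hx₀⟩ := hlift x
    rw [Subgroup.mem_center_iff]
    intro c
    apply Subtype.ext
    have h1 := hcentral _ (hS2 x₀) c c.2
    have e : (((x₀ ^ p : ↥C₀) : ↥R) : G) = ((x ^ p : ↥C) : G) := by
      simp only [Subgroup.coe_pow, hx₀]
    rw [e] at h1
    simp only [Subgroup.coe_mul]
    exact h1.symm
  -- the subgroup `D`
  let D : Subgroup G :=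
    { carrier := {y | y ∈ C ∧ y ^ p = 1}
      mul_mem' := by
        rintro a b ⟨ha, ha'⟩ ⟨hb, hb'⟩
        refine ⟨C.mul_mem ha hb, ?_⟩
        have := mul_pow_prime_of_central hp2 hc hpow ⟨a, ha⟩ ⟨b, hb⟩
        have h2 := congrArg (fun c : ↥C => (c : G)) this
        simp only [Subgroup.coe_pow, Subgroup.coe_mul] at h2
        rw [h2, ha', hb', mul_one]
      one_mem' := ⟨C.one_mem, one_pow _⟩
      inv_mem' := by
        rintro a ⟨ha, ha'⟩
        exact ⟨C.inv_mem ha, by rw [inv_pow, ha', inv_one]⟩ }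
  have hDmem : ∀ y : G, y ∈ D ↔ y ∈ C ∧ y ^ p = 1 := fun _ => Iff.rfl
  have hDC : D ≤ C := fun y hy => ((hDmem y).mp hy).1
  refine ⟨D, hDC.trans hCR, ?_, fun y hy => ((hDmem y).mp hy).2, ?_⟩
  · apply le_normalizer_of_conj_mem
    intro g hg y hy
    rw [hDmem] at hy ⊢
    refine ⟨(Subgroup.mem_normalizer_iff.mp (hNC hg) y).mp hy.1, ?_⟩
    rw [conj_pow, hy.2, mul_one, mul_inv_cancel]
  · intro X hXR hcop hXD
    have hXC : X ≤ Subgroup.centralizer (C : Set G) := by
      apply coprime_centralizes_of_omega_one hp2 X C hcop hCp (hXR.trans hNC)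
      intro y hy hyp a ha
      exact ((Subgroup.mem_centralizer_iff.mp (hXD ha)) y ((hDmem y).mpr ⟨hy, hyp⟩)).symm
    intro x hx
    set a : MulAut ↥R := Quad.conjAct R X hXR ⟨x, hx⟩ with ha
    have hao : (orderOf a).Coprime p := by
      have h1 : orderOf a ∣ orderOf (⟨x, hx⟩ : ↥X) := orderOf_map_dvd _ _
      have h2 : orderOf (⟨x, hx⟩ : ↥X) ∣ Nat.card ↥X := orderOf_dvd_natCard _
      exact Nat.Coprime.coprime_dvd_left (h1.trans h2) hcop
    have hfix : ∀ y ∈ C₀, a y = y := by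
      intro y hy
      apply Subtype.ext
      rw [ha, Quad.conjAct_apply]
      have hyC : (y : G) ∈ C := ⟨y, hy, rfl⟩
      have := (Subgroup.mem_centralizer_iff.mp (hXC hx)) (y : G) hyC
      change x * (y : G) * x⁻¹ = (y : G)
      rw [← this]
      group
    have ha1 : a = 1 := Cfsg.Agent.S0121.result hR C₀ hC₀char hfr hcomm hcent a hao hfix
    rw [Subgroup.mem_centralizer_iff]
    intro r hr
    have h1 := congrArg (fun f : MulAut ↥R => ((f ⟨r, hr⟩ : ↥R) : G)) ha1
    simp only [ha, Quad.conjAct_apply, MulAut.one_apply] at h1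
    calc r * x = (x * r * x⁻¹) * x := by rw [h1]
      _ = x * r := by group

end chain

end Cfsg.Agent.Lib.Helper4.Rk2
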