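import Mathlib
import Cfsg.Agent.Lib.Helper4.Rk2e
import Cfsg.Agent.Lib.Helper4.Rk2f
import Cfsg.Agent.S0129

set_option autoImplicit false

/-! Odd solvable groups of automorphisms of `p`-groups of rank at most two. -/

namespace Cfsg.Agent.Lib.Helper4.Rk2

open Cfsg.Agent.Lib.Lead
open scoped commutatorElement

section main

variable {p : ℕ} [hp : Fact p.Prime]
variable {G : Type*} [Group G]

/-- commutative group structure on a quotient by a subgroup containing the derived group -/
@[reducible] def quotCommGroup (P : Type*) [Group P] (N : Subgroup P) [N.Normal]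
    (h : commutator P ≤ N) : CommGroup (P ⧸ N) :=
  { (inferInstance : Group (P ⧸ N)) with
    mul_comm := by
      intro a b
      induction a using QuotientGroup.induction_on with
      | H a =>
        induction b using QuotientGroup.induction_on with
        | H b =>
          rw [← QuotientGroup.mk_mul, ← QuotientGroup.mk_mul, QuotientGroup.eq]
          apply h
          have e : (a * b)⁻¹ * (b * a) = ⁅b⁻¹, a⁻¹⁆ := by
            rw [commutatorElement_def]; group
          rw [e, commutator_def]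
          exact Subgroup.commutator_mem_commutator (Subgroup.mem_top _) (Subgroup.mem_top _) }

theorem card_frattini_quotient_dvd [Finite G] (R D : Subgroup G) (hR : IsPGroup p R)
    (hr : Cfsg.PRankLE p 2 ↥R) (hDR : D ≤ R) (hDexp : ∀ y ∈ D, y ^ p = 1) :
    Nat.card (↥D ⧸ frattini ↥D) ∣ p ^ 2 := by
  classical
  have hDp : IsPGroup p ↥D := hR.to_le hDR
  -- abelian subgroups of `D` have order at most `p ^ 2`
  have hrank : ∀ B : Subgroup ↥D, IsMulCommutative B → Nat.card B ≤ p ^ 2 := by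
    intro B hB
    have hinj : Function.Injective (Subgroup.inclusion hDR) := Subgroup.inclusion_injective hDR
    have hcard : Nat.card (B.map (Subgroup.inclusion hDR)) = Nat.card B :=
      Subgroup.card_map_of_injective hinj
    rw [← hcard]
    apply hr
    · refine ⟨⟨?_⟩⟩
      rintro ⟨_, a, ha, rfl⟩ ⟨_, b, hb, rfl⟩
      apply Subtype.ext
      have := hB.is_comm.comm ⟨a, ha⟩ ⟨b, hb⟩
      have h2 := congrArg (fun z : ↥B => Subgroup.inclusion hDR (z : ↥D)) this
      simpa using h2
    · rintro _ ⟨a, _, rfl⟩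
      apply Subtype.ext
      have := hDexp a a.2
      simpa using this
  let S := {N : Subgroup ↥D // N.Normal ∧ IsMulCommutative N}
  haveI : Nonempty S := ⟨⟨⊥, inferInstance, inferInstance⟩⟩
  obtain ⟨⟨N, hNn, hNc⟩, hmax⟩ := Finite.exists_max (fun N : S => Nat.card N.1)
  have hmax' : ∀ M : Subgroup ↥D, M.Normal → IsMulCommutative M → N ≤ M → M = N := by
    intro M hMn hMc hNM
    have := hmax ⟨M, hMn, hMc⟩
    exact (Subgroup.eq_of_le_of_card_ge hNM this).symm
  obtain ⟨a, ha⟩ := (IsPGroup.iff_card).mp (hDp.to_subgroup N)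
  have ha2 : a ≤ 2 := by
    have h1 := hrank N hNc
    rw [ha] at h1
    exact (Nat.pow_le_pow_iff_right hp.out.one_lt).mp h1
  have hcardD := Cfsg.Agent.S0129.result hDp N hNc hmax' a ha
  have hcardD3 : Nat.card ↥D ≤ p ^ 3 := by
    refine hcardD.trans (Nat.pow_le_pow_right hp.out.pos ?_)
    interval_cases a <;> norm_num
  obtain ⟨n, hn⟩ := (IsPGroup.iff_card).mp hDp
  have hn3 : n ≤ 3 := by
    rw [hn] at hcardD3
    exact (Nat.pow_le_pow_iff_right hp.out.one_lt).mp hcardD3
  have hlag := Subgroup.card_eq_card_quotient_mul_card_subgroup (frattini ↥D)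
  have hVdvd : Nat.card (↥D ⧸ frattini ↥D) ∣ p ^ n := by
    rw [← hn, hlag]
    exact dvd_mul_right _ _
  obtain ⟨v, hvn, hv⟩ := (Nat.dvd_prime_pow hp.out).mp hVdvd
  by_cases hv2 : v ≤ 2
  · rw [hv]
    exact pow_dvd_pow p hv2
  · exfalso
    have hv3 : v = 3 := by omega
    have hn3' : n = 3 := by omega
    rw [hn, hv, hv3, hn3'] at hlag
    have hΦ1 : Nat.card (frattini ↥D) = 1 := by
      have hpos : 0 < p ^ 3 := pow_pos hp.out.pos 3
      have : p ^ 3 * Nat.card (frattini ↥D) = p ^ 3 * 1 := by rw [mul_one]; exact hlag.symm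
      exact Nat.eq_of_mul_eq_mul_left hpos this
    have hΦbot : frattini ↥D = ⊥ := Subgroup.card_eq_one.mp hΦ1
    have hcomm : commutator ↥D = ⊥ := by
      have := (Cfsg.Agent.S0012.result p hDp).1
      rw [hΦbot] at this
      exact le_bot_iff.mp this
    have htop : IsMulCommutative (⊤ : Subgroup ↥D) := by
      refine ⟨⟨?_⟩⟩
      rintro ⟨a, _⟩ ⟨b, _⟩
      apply Subtype.ext
      have h1 : ⁅a, b⁆ ∈ commutator ↥D := by
        rw [commutator_def]
        exact Subgroup.commutator_mem_commutator (Subgroup.mem_top _) (Subgroup.mem_top _)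
      rw [hcomm, Subgroup.mem_bot, commutatorElement_eq_one_iff_mul_comm] at h1
      exact h1
    have h1 := hrank ⊤ htop
    rw [Subgroup.card_top, hn, hn3'] at h1
    have := (Nat.pow_le_pow_iff_right hp.out.one_lt).mp h1
    omega

/-- a `p'`-group normalizing `R` and acting trivially on the Frattini quotient of `D` (in the sense
of the conclusion of `exists_omega_critical`) centralizes `R` -/
theorem exists_faithful_section [Finite G] (hp2 : p ≠ 2) (R : Subgroup G) (hR : IsPGroup p R)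
    (hr : Cfsg.PRankLE p 2 ↥R) :
    ∃ D : Subgroup G, D ≤ R ∧
      Subgroup.normalizer (R : Set G) ≤ Subgroup.normalizer (D : Set G) ∧
      (∀ y ∈ D, y ^ p = 1) ∧ Nat.card (↥D ⧸ frattini ↥D) ∣ p ^ 2 ∧
      ∀ X : Subgroup G, X ≤ Subgroup.normalizer (R : Set G) → (Nat.card X).Coprime p →
        (∀ a ∈ X, ∀ k ∈ D, a * k * a⁻¹ * k⁻¹ ∈ (frattini ↥D).map D.subtype) →
        X ≤ Subgroup.centralizer (R : Set G) := by
  obtain ⟨D, hDR, hND, hDexp, hfaith⟩ := exists_omega_critical hp2 R hR
  refine ⟨D, hDR, hND, hDexp, card_frattini_quotient_dvd R D hR hr hDR hDexp, ?_⟩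
  intro X hXR hcop htriv
  apply hfaith X hXR hcop
  have hDp : IsPGroup p ↥D := hR.to_le hDR
  obtain ⟨k, hk⟩ := (IsPGroup.iff_card).mp (hDp.to_subgroup (frattini ↥D))
  apply coprime_trivial_on_frattini_quotient X D (hXR.trans hND)
  · rw [hk]
    exact Nat.Coprime.pow_right _ hcop
  · exact htriv

/-- **Rank two theorem**: a `p'`-element of the derived group of an odd solvable group `A` of
operators on a `p`-group `R` of rank at most two centralizes `R`. -/
theorem centralizes_of_mem_commutator [Finite G] (hp2 : p ≠ 2) (R A : Subgroup G)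
    (hR : IsPGroup p R) (hr : Cfsg.PRankLE p 2 ↥R)
    (hAR : A ≤ Subgroup.normalizer (R : Set G)) (hAs : Group.IsSolvable ↥A)
    (hAodd : Odd (Nat.card A)) (x : G) (hx : x ∈ ⁅A, A⁆) (hxo : (orderOf x).Coprime p) :
    x ∈ Subgroup.centralizer (R : Set G) := by
  classical
  obtain ⟨D, hDR, hND, hDexp, hcard, hfaith⟩ := exists_faithful_section hp2 R hR hr
  have hAD : A ≤ Subgroup.normalizer (D : Set G) := hAR.trans hND
  have hAA : ⁅A, A⁆ ≤ A := by
    rw [Subgroup.commutator_le]
    intro a ha b hb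
    exact A.mul_mem (A.mul_mem (A.mul_mem ha hb) (A.inv_mem ha)) (A.inv_mem hb)
  have hxA : x ∈ A := hAA hx
  have hXA : Subgroup.zpowers x ≤ A := (Subgroup.zpowers_le).mpr hxA
  have hcop : (Nat.card (Subgroup.zpowers x)).Coprime p := by
    rw [Nat.card_zpowers]; exact hxo
  suffices h : Subgroup.zpowers x ≤ Subgroup.centralizer (R : Set G) from
    h (Subgroup.mem_zpowers x)
  apply hfaith _ (hXA.trans hAR) hcop
  -- the action on the Frattini quotient
  have hDp : IsPGroup p ↥D := hR.to_le hDR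
  obtain ⟨hS1, hS2⟩ := Cfsg.Agent.S0012.result p hDp
  letI : CommGroup (↥D ⧸ frattini ↥D) := quotCommGroup ↥D (frattini ↥D) hS1
  have hexp : ∀ a : ↥D ⧸ frattini ↥D, a ^ p = 1 := by
    intro a
    induction a using QuotientGroup.induction_on with
    | H a =>
      rw [← QuotientGroup.mk_pow, QuotientGroup.eq_one_iff]
      exact hS2 a
  set ψ : ↥A →* MulAut ↥D := Quad.conjAct D A hAD with hψ
  have hinv : ∀ (g : ↥A) (a : ↥D), a ∈ frattini ↥D → ψ g a ∈ frattini ↥D := by
    intro g a ha
    have hchar : (frattini ↥D).Characteristic := frattini_characteristic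
    have h1 := hchar.fixed (ψ g)
    have : a ∈ (frattini ↥D).comap (ψ g).toMonoidHom := by rw [h1]; exact ha
    exact this
  set φ : ↥A →* MulAut (↥D ⧸ frattini ↥D) := Quad.quotAct ψ (frattini ↥D) hinv with hφ
  have hx' : (⟨x, hxA⟩ : ↥A) ∈ commutator ↥A := by
    have h1 : ⁅A, A⁆ = (commutator ↥A).map A.subtype := by
      rw [commutator_def, Subgroup.map_commutator, ← MonoidHom.range_eq_map, Subgroup.range_subtype]
    rw [h1] at hx
    obtain ⟨y, hy, hyx⟩ := hx
    have : y = ⟨x, hxA⟩ := Subtype.ext hyx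
    rwa [← this]
  have hxo' : (orderOf (⟨x, hxA⟩ : ↥A)).Coprime p := by
    have : orderOf (⟨x, hxA⟩ : ↥A) = orderOf x := by
      rw [← Subgroup.orderOf_coe]
    rw [this]; exact hxo
  have hφx : φ ⟨x, hxA⟩ = 1 :=
    act_eq_one_of_mem_commutator (A := ↥D ⧸ frattini ↥D) hexp hcard hp2 hAodd φ _ hx' hxo'
  intro a ha k hk
  obtain ⟨i, rfl⟩ := Subgroup.mem_zpowers_iff.mp ha
  have hφa : φ (⟨x, hxA⟩ ^ i) = 1 := by rw [map_zpow, hφx, one_zpow]
  have h1 := congrArg (fun f : MulAut (↥D ⧸ frattini ↥D) =>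
    f (QuotientGroup.mk (⟨k, hk⟩ : ↥D))) hφa
  simp only [hφ, Quad.quotAct_mk, MulAut.one_apply] at h1
  have h2 : (ψ (⟨x, hxA⟩ ^ i) ⟨k, hk⟩) * (⟨k, hk⟩ : ↥D)⁻¹ ∈ frattini ↥D := by
    rw [← QuotientGroup.eq_one_iff, QuotientGroup.mk_mul, h1, QuotientGroup.mk_inv, mul_inv_cancel]
  refine ⟨_, h2, ?_⟩
  simp only [hψ, Subgroup.subtype_apply, Subgroup.coe_mul, Quad.conjAct_apply, Subgroup.coe_inv,
    Subgroup.coe_zpow]

end main

end Cfsg.Agent.Lib.Helper4.Rk2
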