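import Mathlib
import Cfsg.Agent.Lib.Helper4.Rk2g
import Cfsg.Agent.Lib.Helper4.SolvBalance
import Cfsg.Agent.Lib.Helper4.NPC

set_option autoImplicit false

/-! Consequences of the rank two theorem for solvable groups of odd order. -/

namespace Cfsg.Agent.Lib.Helper4.Rk2

open Cfsg.Agent.Lib.Lead
open scoped commutatorElement

section rank

variable {p : ℕ} [hp : Fact p.Prime]

theorem prankLE_of_injective {H G : Type*} [Group H] [Group G] (f : H →* G)
    (hf : Function.Injective f) {k : ℕ} (hr : Cfsg.PRankLE p k G) : Cfsg.PRankLE p k H := by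
  intro B hB hBe
  rw [← Subgroup.card_map_of_injective hf]
  apply hr
  · refine ⟨⟨?_⟩⟩
    rintro ⟨_, a, ha, rfl⟩ ⟨_, b, hb, rfl⟩
    apply Subtype.ext
    have := hB.is_comm.comm ⟨a, ha⟩ ⟨b, hb⟩
    have h2 := congrArg (fun z : ↥B => f (z : H)) this
    simpa using h2
  · rintro _ ⟨a, ha, rfl⟩
    rw [← map_pow, hBe a ha, map_one]

/-- the `p`-rank does not grow on passing to the quotient by a normal `p'`-subgroup -/
theorem prankLE_quotient {G : Type*} [Group G] [Finite G] (K : Subgroup G) [K.Normal]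
    (hK : (Nat.card K).Coprime p) {k : ℕ} (hr : Cfsg.PRankLE p k G) :
    Cfsg.PRankLE p k (G ⧸ K) := by
  intro B hB hBe
  set π := QuotientGroup.mk' K with hπ
  have hBp : IsPGroup p ↥B := by
    rintro ⟨b, hb⟩
    refine ⟨1, ?_⟩
    apply Subtype.ext
    rw [pow_one, Subgroup.coe_pow, hBe b hb, Subgroup.coe_one]
  obtain ⟨Sb, hBS⟩ := hBp.exists_le_sylow
  obtain ⟨S, rfl⟩ := Sylow.mapSurjective_surjective (QuotientGroup.mk'_surjective K) p Sb
  rw [Sylow.coe_mapSurjective] at hBS
  set E : Subgroup G := B.comap π ⊓ (S : Subgroup G) with hE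
  have hSK : (S : Subgroup G) ⊓ K = ⊥ := by
    apply (Subgroup.disjoint_of_coprime_natCard ?_).eq_bot
    obtain ⟨j, hj⟩ := (IsPGroup.iff_card).mp S.isPGroup'
    rw [hj]
    exact (Nat.Coprime.pow_right j hK).symm
  have hEK : E ⊓ K = ⊥ := by
    rw [eq_bot_iff, ← hSK]
    exact inf_le_inf_right K inf_le_right
  have hEmap : E.map π = B := by
    apply le_antisymm
    · rintro _ ⟨e, he, rfl⟩
      exact he.1
    · intro b hb
      obtain ⟨s, hs, rfl⟩ := hBS hb
      exact ⟨s, ⟨hb, hs⟩, rfl⟩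
  have hcard : Nat.card B = Nat.card E := by
    rw [← hEmap]
    exact card_map_mk_of_inf_eq_bot K E hEK
  rw [hcard]
  have hker : ∀ e ∈ E, π e = 1 → e = 1 := by
    intro e he h1
    have : e ∈ E ⊓ K := ⟨he, (QuotientGroup.eq_one_iff e).mp h1⟩
    rwa [hEK, Subgroup.mem_bot] at this
  apply hr
  · refine ⟨⟨?_⟩⟩
    rintro ⟨a, ha⟩ ⟨b, hb⟩
    apply Subtype.ext
    change a * b = b * a
    have h1 := hB.is_comm.comm ⟨π a, ha.1⟩ ⟨π b, hb.1⟩
    have h2 : π a * π b = π b * π a := congrArg Subtype.val h1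
    have h3 : π (a * b * (b * a)⁻¹) = 1 := by
      rw [map_mul, map_mul, map_inv, map_mul, h2, mul_inv_cancel]
    have h4 := hker _ (E.mul_mem (E.mul_mem ha hb) (E.inv_mem (E.mul_mem hb ha))) h3
    exact mul_inv_eq_one.mp h4
  · intro a ha
    apply hker _ (E.pow_mem ha p)
    rw [map_pow]
    exact hBe _ ha.1

end rank

section prime

variable {p : ℕ} [hp : Fact p.Prime]

/-- an automorphism of odd prime order `q ≠ p` of an elementary abelian group of order dividing
`p ^ 2` forces `q ≤ p` -/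
theorem prime_le_of_act {A : Type*} [CommGroup A] [Finite A] (hp2 : p ≠ 2)
    (hcard : Nat.card A ∣ p ^ 2)
    (q : ℕ) [hq : Fact q.Prime] (hq2 : q ≠ 2) (hqp : q ≠ p) (f : MulAut A) (hf : f ^ q = 1)
    (hf1 : f ≠ 1) : q ≤ p := by
  classical
  have := Fintype.ofFinite A
  let F : Subgroup A :=
    { carrier := {a | f a = a}
      mul_mem' := by
        intro a b ha hb
        simp only [Set.mem_setOf_eq] at ha hb ⊢
        rw [map_mul, ha, hb]
      one_mem' := map_one f
      inv_mem' := by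
        intro a ha
        simp only [Set.mem_setOf_eq] at ha ⊢
        rw [map_inv, ha] }
  have hFmem : ∀ a : A, a ∈ F ↔ f a = a := fun _ => Iff.rfl
  -- orbit counting
  have hmod : Nat.card A ≡ Nat.card F [MOD q] := by
    set σ : Equiv.Perm A := MulAut.toPerm A f with hσ
    have hσq : σ ^ q ^ 1 = 1 := by
      rw [pow_one, hσ, ← map_pow, hf, map_one]
    have h2 := Equiv.Perm.card_compl_support_modEq (p := q) (n := 1) hσq
    rw [Nat.card_eq_fintype_card]
    have h3 : Nat.card F = (σ.supportᶜ).card := by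
      rw [Nat.card_eq_fintype_card, Fintype.card_subtype]
      congr 1
      ext a
      simp only [Finset.mem_filter, Finset.mem_univ, true_and, Finset.mem_compl,
        Equiv.Perm.mem_support, not_not]
      rfl
    rw [h3]
    exact h2.symm
  obtain ⟨j, hj, hcj⟩ := (Nat.dvd_prime_pow hp.out).mp hcard
  have hFdvd : Nat.card F ∣ p ^ j := by rw [← hcj]; exact Subgroup.card_subgroup_dvd_card F
  obtain ⟨i, hi, hci⟩ := (Nat.dvd_prime_pow hp.out).mp hFdvd
  have hij : i < j := by
    rcases lt_or_eq_of_le hi with h | h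
    · exact h
    · exfalso
      apply hf1
      have hFtop : F = ⊤ := by
        apply Subgroup.eq_top_of_card_eq
        rw [hci, hcj, h]
      apply MulEquiv.ext
      intro a
      have : a ∈ F := by rw [hFtop]; trivial
      exact (hFmem a).mp this
  rw [hcj, hci] at hmod
  have hp1 : 1 < p := hp.out.one_lt
  have hle : p ^ i ≤ p ^ j := Nat.pow_le_pow_right hp.out.pos hi
  have hdvd : q ∣ p ^ j - p ^ i := (Nat.modEq_iff_dvd' hle).mp hmod.symm
  have hqle_of_dvd_pred : q ∣ p - 1 → q ≤ p := by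
    intro h
    have : q ≤ p - 1 := Nat.le_of_dvd (by omega) h
    omega
  have hcases : (j = 1 ∧ i = 0) ∨ (j = 2 ∧ i = 0) ∨ (j = 2 ∧ i = 1) := by omega
  rcases hcases with ⟨rfl, rfl⟩ | ⟨rfl, rfl⟩ | ⟨rfl, rfl⟩
  · rw [pow_one, pow_zero] at hdvd
    exact hqle_of_dvd_pred hdvd
  · rw [pow_zero] at hdvd
    have e : p ^ 2 - 1 = (p - 1) * (p + 1) := by
      obtain ⟨m, rfl⟩ : ∃ m, p = m + 1 := ⟨p - 1, by omega⟩
      simp only [Nat.add_sub_cancel]
      ring_nf
      omega
    rw [e] at hdvd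
    rcases (Nat.Prime.dvd_mul hq.out).mp hdvd with h | h
    · exact hqle_of_dvd_pred h
    · -- `q ∣ p + 1`, `q` odd, `p + 1` even
      have hpodd : Odd p := hp.out.odd_of_ne_two hp2
      obtain ⟨m, hm⟩ := hpodd
      have e2 : p + 1 = 2 * (m + 1) := by omega
      rw [e2] at h
      rcases (Nat.Prime.dvd_mul hq.out).mp h with h' | h'
      · exfalso
        have := (Nat.prime_dvd_prime_iff_eq hq.out Nat.prime_two).mp h'
        exact hq2 this
      · have : q ≤ m + 1 := Nat.le_of_dvd (by omega) h'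
        omega
  · rw [pow_one] at hdvd
    have e : p ^ 2 - p = p * (p - 1) := by
      obtain ⟨m, rfl⟩ : ∃ m, p = m + 1 := ⟨p - 1, by omega⟩
      simp only [Nat.add_sub_cancel]
      ring_nf
      omega
    rw [e] at hdvd
    rcases (Nat.Prime.dvd_mul hq.out).mp hdvd with h | h
    · exfalso
      exact hqp ((Nat.prime_dvd_prime_iff_eq hq.out hp.out).mp h)
    · exact hqle_of_dvd_pred h

end prime

end Cfsg.Agent.Lib.Helper4.Rk2
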