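import Mathlib
import Cfsg.Agent.Lib.Helper4.Rk2h
import Cfsg.Agent.Lib.Helper6.PCore
import Cfsg.Agent.S0017

set_option autoImplicit false

/-! BG Theorem 4.18: solvable groups of odd order with `p`-rank at most two. -/

namespace Cfsg.Agent.Lib.Helper4.Rk2

open Cfsg Cfsg.Agent.Lib.Lead
open scoped commutatorElement

section act

variable {p : ℕ} [hp : Fact p.Prime]
variable {G : Type*} [Group G]

theorem frattini_inv (D A : Subgroup G) (hAD : A ≤ Subgroup.normalizer (D : Set G)) :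
    ∀ (g : ↥A) (a : ↥D), a ∈ frattini ↥D → Quad.conjAct D A hAD g a ∈ frattini ↥D := by
  intro g a ha
  have hchar : (frattini ↥D).Characteristic := frattini_characteristic
  have h1 := hchar.fixed (Quad.conjAct D A hAD g)
  have : a ∈ (frattini ↥D).comap (Quad.conjAct D A hAD g).toMonoidHom := by rw [h1]; exact ha
  exact Subgroup.mem_comap.mp this

/-- the action of `A ≤ N_G(D)` on the Frattini quotient of `D` -/
noncomputable def frattiniAct (D A : Subgroup G) (hAD : A ≤ Subgroup.normalizer (D : Set G)) :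
    ↥A →* MulAut (↥D ⧸ frattini ↥D) :=
  Quad.quotAct (Quad.conjAct D A hAD) (frattini ↥D) (frattini_inv D A hAD)

theorem frattiniAct_triv (D A : Subgroup G) (hAD : A ≤ Subgroup.normalizer (D : Set G))
    (a : ↥A) (h : frattiniAct D A hAD a = 1) (k : G) (hk : k ∈ D) :
    (a : G) * k * (a : G)⁻¹ * k⁻¹ ∈ (frattini ↥D).map D.subtype := by
  have h1 := congrArg (fun f : MulAut (↥D ⧸ frattini ↥D) =>
    f (QuotientGroup.mk (⟨k, hk⟩ : ↥D))) h
  simp only [MulAut.one_apply] at h1
  unfold frattiniAct at h1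
  rw [Quad.quotAct_mk] at h1
  have h2 : (Quad.conjAct D A hAD a ⟨k, hk⟩) * (⟨k, hk⟩ : ↥D)⁻¹ ∈ frattini ↥D := by
    rw [← QuotientGroup.eq_one_iff, QuotientGroup.mk_mul, h1, QuotientGroup.mk_inv, mul_inv_cancel]
  refine ⟨_, h2, ?_⟩
  simp only [Subgroup.subtype_apply, Subgroup.coe_mul, Quad.conjAct_apply, Subgroup.coe_inv]

end act

section main

variable {p : ℕ} [hp : Fact p.Prime]
variable {G : Type*} [Group G] [Finite G]

/-- an element of prime order `q ≠ p` (`q` odd) acting nontrivially on a `p`-group of rank at most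
two satisfies `q ≤ p` -/
theorem prime_le_of_not_centralizes (hp2 : p ≠ 2) (R : Subgroup G) (hR : IsPGroup p R)
    (hr : PRankLE p 2 ↥R) (q : ℕ) [hq : Fact q.Prime] (hq2 : q ≠ 2) (hqp : q ≠ p) (y : G)
    (hy : y ∈ Subgroup.normalizer (R : Set G)) (hyq : y ^ q = 1)
    (hyc : y ∉ Subgroup.centralizer (R : Set G)) : q ≤ p := by
  classical
  by_contra hcon
  apply hyc
  obtain ⟨D, hDR, hND, hDexp, hcard, hfaith⟩ := exists_faithful_section hp2 R hR hr
  set Y := Subgroup.zpowers y with hY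
  have hYR : Y ≤ Subgroup.normalizer (R : Set G) := (Subgroup.zpowers_le).mpr hy
  have hYcard : Nat.card Y ∣ q := by
    rw [hY, Nat.card_zpowers]
    exact orderOf_dvd_of_pow_eq_one hyq
  have hqpc : q.Coprime p := (Nat.coprime_primes hq.out hp.out).mpr hqp
  have hcop : (Nat.card Y).Coprime p := Nat.Coprime.coprime_dvd_left hYcard hqpc
  suffices h : Y ≤ Subgroup.centralizer (R : Set G) from h (Subgroup.mem_zpowers y)
  apply hfaith Y hYR hcop
  have hYD : Y ≤ Subgroup.normalizer (D : Set G) := hYR.trans hND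
  have hDp : IsPGroup p ↥D := hR.to_le hDR
  obtain ⟨hS1, hS2⟩ := Cfsg.Agent.S0012.result p hDp
  letI : CommGroup (↥D ⧸ frattini ↥D) := quotCommGroup ↥D (frattini ↥D) hS1
  set f := frattiniAct D Y hYD ⟨y, Subgroup.mem_zpowers y⟩ with hf
  have hfq : f ^ q = 1 := by
    rw [hf, ← map_pow]
    have : (⟨y, Subgroup.mem_zpowers y⟩ : ↥Y) ^ q = 1 := Subtype.ext (by simpa using hyq)
    rw [this, map_one]
  have hf1 : f = 1 := by
    by_contra hne
    exact hcon (prime_le_of_act (A := ↥D ⧸ frattini ↥D) hp2 hcard q hq2 hqp f hfq hne)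
  intro a ha k hk
  obtain ⟨i, rfl⟩ := Subgroup.mem_zpowers_iff.mp ha
  have hφa : frattiniAct D Y hYD (⟨y, Subgroup.mem_zpowers y⟩ ^ i) = 1 := by
    rw [map_zpow, ← hf, hf1, one_zpow]
  have := frattiniAct_triv D Y hYD _ hφa k hk
  simpa using this

theorem odd_of_dvd_odd' {a b : ℕ} (h : a ∣ b) (hb : Odd b) : Odd a := by
  by_contra hcon
  rw [Nat.not_odd_iff_even] at hcon
  have : 2 ∣ b := (even_iff_two_dvd.mp hcon).trans h
  rcases hb with ⟨k, hk⟩
  omega

/-- BG 4.18, the core facts -/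
theorem derived_facts [Group.IsSolvable G] (hodd : Odd (Nat.card G)) (hp2 : p ≠ 2)
    (hr : PRankLE p 2 G) :
    (∀ x ∈ commutator G, (orderOf x).Coprime p → x ∈ pPrimeCore p G) ∧
    commutator G ≤ pPrimePCore p G ∧ ((pPrimePCore p G).index).Coprime p ∧
    (∀ q : ℕ, q.Prime → q ∣ (pPrimeCore p G).index → q ≤ p) ∧
    IsPGroup p ↥((commutator G).map (QuotientGroup.mk' (pPrimeCore p G))) := by
  classical
  set K := pPrimeCore p G with hK
  have hKc : (Nat.card K).Coprime p := Cfsg.Agent.Lib.Helper6.pPrimeCore_coprime p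
  set π := QuotientGroup.mk' K with hπ
  set Q := pCore p (G ⧸ K) with hQ
  have hQ1 : pPrimeCore p (G ⧸ K) = ⊥ := pPrimeCore_quotient_self p
  have hQ2 : Subgroup.centralizer (Q : Set (G ⧸ K)) ≤ Q := Cfsg.Agent.S0017.result p hQ1
  have hQp : IsPGroup p Q := Cfsg.Agent.Lib.Helper6.pCore_isPGroup p
  have hQn : Q.Normal := inferInstance
  have hrq : PRankLE p 2 (G ⧸ K) := prankLE_quotient K hKc hr
  have hQr : PRankLE p 2 ↥Q := prankLE_of_injective Q.subtype Q.subtype_injective hrq
  have hodd' : Odd (Nat.card (G ⧸ K)) := odd_of_dvd_odd' (Subgroup.card_quotient_dvd_card K) hodd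
  have hQN : Subgroup.normalizer (Q : Set (G ⧸ K)) = ⊤ := Subgroup.normalizer_eq_top Q
  -- `p`-elements of `Q` of order prime to `p` are trivial
  have hQtriv : ∀ y ∈ Q, (orderOf y).Coprime p → y = 1 := by
    intro y hyQ hyo
    obtain ⟨k, hk⟩ := hQp ⟨y, hyQ⟩
    have h1 : y ^ p ^ k = 1 := by
      have := congrArg Subtype.val hk
      simpa using this
    have h2 : orderOf y ∣ p ^ k := orderOf_dvd_of_pow_eq_one h1
    have h3 : orderOf y = 1 := Nat.Coprime.eq_one_of_dvd (Nat.Coprime.pow_right k hyo) h2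
    exact orderOf_eq_one_iff.mp h3
  have hder : ∀ y ∈ commutator (G ⧸ K), (orderOf y).Coprime p → y = 1 := by
    intro y hy hyo
    have hsolv : Group.IsSolvable ↥(⊤ : Subgroup (G ⧸ K)) := inferInstance
    have hoddtop : Odd (Nat.card (⊤ : Subgroup (G ⧸ K))) := by rw [Subgroup.card_top]; exact hodd'
    have hc := centralizes_of_mem_commutator hp2 Q ⊤ hQp hQr (by rw [hQN]) hsolv hoddtop y
      (by rw [← commutator_def]; exact hy) hyo
    exact hQtriv y (hQ2 hc) hyo
  have hderP : IsPGroup p ↥(commutator (G ⧸ K)) := by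
    rintro ⟨g, hg⟩
    have hpos : 0 < orderOf g := orderOf_pos g
    obtain ⟨k, m, hm, hkm⟩ := Nat.exists_eq_pow_mul_and_not_dvd hpos.ne' p hp.out.ne_one
    refine ⟨k, ?_⟩
    apply Subtype.ext
    rw [Subgroup.coe_pow, Subgroup.coe_one]
    have hy : g ^ p ^ k ∈ commutator (G ⧸ K) := Subgroup.pow_mem _ hg _
    have hyo : (orderOf (g ^ p ^ k)).Coprime p := by
      have h1 : (g ^ p ^ k) ^ m = 1 := by
        rw [← pow_mul, ← hkm, pow_orderOf_eq_one]
      have h2 : orderOf (g ^ p ^ k) ∣ m := orderOf_dvd_of_pow_eq_one h1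
      have h3 : m.Coprime p := ((Nat.Prime.coprime_iff_not_dvd hp.out).mpr hm).symm
      exact Nat.Coprime.coprime_dvd_left h2 h3
    exact hder _ hy hyo
  have hderQ : commutator (G ⧸ K) ≤ Q :=
    Cfsg.Agent.Lib.Helper6.le_pCore inferInstance hderP
  have hmapcomm : (commutator G).map π ≤ commutator (G ⧸ K) := by
    rw [commutator_def, commutator_def, Subgroup.map_commutator]
    exact Subgroup.commutator_mono le_top le_top
  refine ⟨?_, ?_, ?_, ?_, ?_⟩
  · intro x hx hxo
    have h1 : π x ∈ commutator (G ⧸ K) := hmapcomm ⟨x, hx, rfl⟩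
    have h2 : (orderOf (π x)).Coprime p :=
      Nat.Coprime.coprime_dvd_left (orderOf_map_dvd π x) hxo
    exact (QuotientGroup.eq_one_iff x).mp (hder _ h1 h2)
  · intro x hx
    change π x ∈ Q
    exact hderQ (hmapcomm ⟨x, hx, rfl⟩)
  · have hidx : (pPrimePCore p G).index = Q.index := by
      change (Q.comap π).index = Q.index
      exact Subgroup.index_comap_of_surjective Q (QuotientGroup.mk'_surjective K)
    rw [hidx]
    obtain ⟨S⟩ : Nonempty (Sylow p (G ⧸ K)) := inferInstance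
    have hQS : Q ≤ S := Cfsg.Agent.Lib.Helper6.pCore_le_sylow S
    have hSn : (S : Subgroup (G ⧸ K)).Normal := by
      constructor
      intro s hs g
      have h1 : ⁅g, s⁆ ∈ commutator (G ⧸ K) := by
        rw [commutator_def]
        exact Subgroup.commutator_mem_commutator (Subgroup.mem_top _) (Subgroup.mem_top _)
      have h2 : ⁅g, s⁆ ∈ (S : Subgroup (G ⧸ K)) := hQS (hderQ h1)
      have e : g * s * g⁻¹ = ⁅g, s⁆ * s := by rw [commutatorElement_def]; group
      rw [e]
      exact Subgroup.mul_mem _ h2 hs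
    have hSQ : (S : Subgroup (G ⧸ K)) ≤ Q := Cfsg.Agent.Lib.Helper6.le_pCore hSn S.isPGroup'
    have hSeq : (S : Subgroup (G ⧸ K)) = Q := le_antisymm hSQ hQS
    rw [← hSeq]
    exact ((Nat.Prime.coprime_iff_not_dvd hp.out).mpr S.not_dvd_index).symm
  · intro q hq hqdvd
    by_cases hqp : q = p
    · exact hqp.le
    have hqdvd' : q ∣ Nat.card (G ⧸ K) := by rwa [← Subgroup.index_eq_card]
    have hq2 : q ≠ 2 := by
      intro h
      rw [h] at hqdvd'
      rcases hodd' with ⟨k, hk⟩
      omega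
    haveI : Fact q.Prime := ⟨hq⟩
    obtain ⟨y, hy⟩ := exists_prime_orderOf_dvd_card' q hqdvd'
    have hyq : y ^ q = 1 := by
      have := pow_orderOf_eq_one y
      rwa [hy] at this
    have hy1 : y ≠ 1 := by
      intro h
      rw [h, orderOf_one] at hy
      exact hq.one_lt.ne hy
    by_contra hcon
    apply hy1
    have hyc : y ∈ Subgroup.centralizer (Q : Set (G ⧸ K)) := by
      by_contra hyc
      exact hcon (prime_le_of_not_centralizes hp2 Q hQp hQr q hq2 hqp y (by rw [hQN]; trivial)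
        hyq hyc)
    apply hQtriv y (hQ2 hyc)
    rw [hy]
    exact (Nat.coprime_primes hq hp.out).mpr hqp
  · exact hderP.to_le hmapcomm

end main

end Cfsg.Agent.Lib.Helper4.Rk2
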