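import Mathlib
import Cfsg.Agent.Lib.Helper4.Rk2i
import Cfsg.Agent.Lib.Helper4.PLength
import Cfsg.Agent.Lib.Helper7.PSer
import Cfsg.Agent.Lib.Helper2.PSeries

set_option autoImplicit false

/-! Solvable groups of odd order and `p`-rank at most two have `p`-length one. -/

namespace Cfsg.Agent.Lib.Helper4.Rk2

open Cfsg Cfsg.Agent.Lib.Lead

section pl

variable {p : ℕ} [hp : Fact p.Prime]
variable {G : Type*} [Group G] [Finite G]

/-- `p`-length one from: `O_{p',p}(G)` has `p'`-index -/
theorem pLengthLE_one_of_index_coprime (h : ((pPrimePCore p G).index).Coprime p) :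
    PLengthLE p 1 G := by
  classical
  apply Cfsg.Agent.Lib.Helper7.PSer.pLengthLE_of
  set K := pPrimeCore p G with hK
  set L := pPrimePCore p G with hL
  have hKn : K.Normal := inferInstance
  have hLn : L.Normal := by
    rw [hL]; unfold pPrimePCore; infer_instance
  have hKL : K ≤ L := by
    intro x hx
    rw [hL]
    unfold pPrimePCore
    rw [Subgroup.mem_comap]
    have : (QuotientGroup.mk' (pPrimeCore p G)) x = 1 := (QuotientGroup.eq_one_iff x).mpr hx
    rw [this]
    exact Subgroup.one_mem _
  let V : ℕ → Subgroup G := fun i => if i = 0 then ⊥ else if i = 1 then K else if i = 2 then L else ⊤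
  have hV0 : V 0 = ⊥ := rfl
  have hV1 : V 1 = K := rfl
  have hV2 : V 2 = L := rfl
  have hVge : ∀ i, 3 ≤ i → V i = ⊤ := by
    intro i hi
    have h0 : i ≠ 0 := by omega
    have h1 : i ≠ 1 := by omega
    have h2 : i ≠ 2 := by omega
    simp only [V, h0, h1, h2, if_false]
  refine ⟨V, hV0, hVge 3 le_rfl, ?_, ?_, ?_, ?_⟩
  · intro i
    rcases Nat.lt_or_ge i 3 with hi | hi
    · interval_cases i
      · rw [hV0]; infer_instance
      · rw [hV1]; exact hKn
      · rw [hV2]; exact hLn
    · rw [hVge i hi]; infer_instance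
  · intro i
    rcases Nat.lt_or_ge i 3 with hi | hi
    · interval_cases i
      · rw [hV0]; exact bot_le
      · rw [hV1, hV2]; exact hKL
      · rw [hVge 3 le_rfl]; exact le_top
    · rw [hVge (i + 1) (by omega)]; exact le_top
  · intro i hi
    rcases Nat.lt_or_ge i 3 with hi3 | hi3
    · interval_cases i
      · rw [hV0, hV1, Subgroup.relIndex_bot_left]
        exact Cfsg.Agent.Lib.Helper6.pPrimeCore_coprime p
      · exact absurd hi (by decide)
      · rw [hV2, hVge 3 le_rfl, Subgroup.relIndex_top_right]
        exact h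
    · rw [hVge i hi3, Subgroup.relIndex_top_left]
      exact Nat.coprime_one_left p
  · intro i hi
    rcases Nat.lt_or_ge i 3 with hi3 | hi3
    · interval_cases i
      · exact absurd (by decide : Even 0) hi
      · rw [hV1, hV2]
        have : L = (pCore p (G ⧸ K)).comap (QuotientGroup.mk' K) := rfl
        rw [this, Cfsg.Agent.Lib.Helper2.PSeries.relIndex_comap_mk]
        exact (IsPGroup.iff_card).mp (Cfsg.Agent.Lib.Helper6.pCore_isPGroup p)
      · exact absurd (by decide : Even 2) hi
    · rw [hVge i hi3, Subgroup.relIndex_top_left]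
      exact ⟨0, (pow_zero p).symm⟩

/-- **p-length one** for solvable groups of odd order with `p`-rank at most two -/
theorem pLengthLE_one_of_prankLE [Group.IsSolvable G] (hodd : Odd (Nat.card G))
    (hr : PRankLE p 2 G) : PLengthLE p 1 G := by
  by_cases hp2 : p = 2
  · have hcop : (Nat.card G).Coprime p := by
      rw [hp2]
      exact Nat.Coprime.symm (Nat.coprime_two_left.mpr hodd)
    exact Cfsg.Agent.Lib.Helper2.PSeries.pLengthLE_mono (Nat.zero_le 1)
      (Cfsg.Agent.Lib.Helper2.PSeries.pLengthLE_zero_of_coprime hcop)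
  · obtain ⟨-, -, h3, -, -⟩ := derived_facts hodd hp2 hr
    exact pLengthLE_one_of_index_coprime h3

end pl

end Cfsg.Agent.Lib.Helper4.Rk2
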