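import Mathlib
import Cfsg.Agent.Lib.Helper4.Rk2j
import Cfsg.Agent.Lib.Helper4.PiCore

set_option autoImplicit false

/-! Tools for BG Theorem 4.20: central splitting and `π`-elements. -/

namespace Cfsg.Agent.Lib.Helper4.Rk2

open Cfsg Cfsg.Agent.Lib.Lead Cfsg.Agent.Lib.Helper4
open scoped commutatorElement

section act

variable {p : ℕ} [hp : Fact p.Prime]
variable {G : Type*} [Group G]

theorem frattiniAct_eq_one_of_centralizes (D A : Subgroup G)
    (hAD : A ≤ Subgroup.normalizer (D : Set G)) (a : ↥A)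
    (ha : (a : G) ∈ Subgroup.centralizer (D : Set G)) : frattiniAct D A hAD a = 1 := by
  apply MulEquiv.ext
  intro x
  induction x using QuotientGroup.induction_on with
  | H d =>
    unfold frattiniAct
    rw [Quad.quotAct_mk, MulAut.one_apply]
    congr 1
    apply Subtype.ext
    rw [Quad.conjAct_apply]
    have h1 := Subgroup.mem_centralizer_iff.mp ha (d : G) d.2
    rw [← h1]; group

end act

section main

variable {p : ℕ} [hp : Fact p.Prime]
variable {G : Type*} [Group G] [Finite G]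

/-- a `q`-element acting nontrivially on a `p`-group of rank at most two satisfies `q ≤ p` -/
theorem prime_le_of_not_centralizes_pow (hp2 : p ≠ 2) (R : Subgroup G) (hR : IsPGroup p R)
    (hr : PRankLE p 2 ↥R) (q : ℕ) [hq : Fact q.Prime] (hq2 : q ≠ 2) (hqp : q ≠ p) :
    ∀ (k : ℕ) (y : G), y ∈ Subgroup.normalizer (R : Set G) → y ^ (q ^ k) = 1 →
      y ∉ Subgroup.centralizer (R : Set G) → q ≤ p := by
  classical
  intro k
  induction k with
  | zero =>
    intro y _ hyq hyc
    exfalso; apply hyc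
    rw [pow_zero, pow_one] at hyq
    rw [hyq]; exact Subgroup.one_mem _
  | succ k ih =>
    intro y hy hyq hyc
    by_cases hc : y ^ q ∈ Subgroup.centralizer (R : Set G)
    · by_contra hcon
      apply hyc
      obtain ⟨D, hDR, hND, hDexp, hcard, hfaith⟩ := exists_faithful_section hp2 R hR hr
      set Y := Subgroup.zpowers y with hY
      have hYR : Y ≤ Subgroup.normalizer (R : Set G) := (Subgroup.zpowers_le).mpr hy
      have hYcard : Nat.card Y ∣ q ^ (k + 1) := by
        rw [hY, Nat.card_zpowers]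
        exact orderOf_dvd_of_pow_eq_one hyq
      have hqpc : q.Coprime p := (Nat.coprime_primes hq.out hp.out).mpr hqp
      have hcop : (Nat.card Y).Coprime p :=
        Nat.Coprime.coprime_dvd_left hYcard (Nat.Coprime.pow_left _ hqpc)
      suffices h : Y ≤ Subgroup.centralizer (R : Set G) from h (Subgroup.mem_zpowers y)
      apply hfaith Y hYR hcop
      have hYD : Y ≤ Subgroup.normalizer (D : Set G) := hYR.trans hND
      have hDp : IsPGroup p ↥D := hR.to_le hDR
      obtain ⟨hS1, hS2⟩ := Cfsg.Agent.S0012.result p hDp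
      letI : CommGroup (↥D ⧸ frattini ↥D) := quotCommGroup ↥D (frattini ↥D) hS1
      set f := frattiniAct D Y hYD ⟨y, Subgroup.mem_zpowers y⟩ with hf
      have hfq : f ^ q = 1 := by
        rw [hf, ← map_pow]
        apply frattiniAct_eq_one_of_centralizes
        have : ((⟨y, Subgroup.mem_zpowers y⟩ : ↥Y) ^ q : ↥Y) = ⟨y ^ q, Y.pow_mem (Subgroup.mem_zpowers y) q⟩ :=
          Subtype.ext (by simp)
        rw [this]
        exact Subgroup.centralizer_le (by exact_mod_cast hDR) hc
      have hf1 : f = 1 := by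
        by_contra hne
        exact hcon (prime_le_of_act (A := ↥D ⧸ frattini ↥D) hp2 hcard q hq2 hqp f hfq hne)
      intro a ha d hd
      obtain ⟨i, rfl⟩ := Subgroup.mem_zpowers_iff.mp ha
      have hφa : frattiniAct D Y hYD (⟨y, Subgroup.mem_zpowers y⟩ ^ i) = 1 := by
        rw [map_zpow, ← hf, hf1, one_zpow]
      have := frattiniAct_triv D Y hYD _ hφa d hd
      simpa using this
    · apply ih (y ^ q) (Subgroup.pow_mem _ hy q) _ hc
      rw [← pow_mul, ← pow_succ']
      exact hyq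

end main

section split

variable {X : Type*} [Group X] [Finite X]

/-- a central `π'`-subgroup with `π`-quotient is complemented by a normal Hall `π`-subgroup which
contains all `π`-elements -/
theorem central_pi_split (π : Set ℕ) (Z : Subgroup X) (hZc : Z ≤ Subgroup.center X)
    (hZπ : ∀ r : ℕ, r.Prime → r ∣ Nat.card Z → r ∉ π)
    (hX : ∀ x : X, ∃ m : ℕ, m ≠ 0 ∧ IsPiNum π m ∧ x ^ m ∈ Z) :
    ∃ H : Subgroup X, H.Normal ∧ IsPiNum π (Nat.card H) ∧
      ∀ x : X, ∀ m : ℕ, m ≠ 0 → IsPiNum π m → x ^ m = 1 → x ∈ H := by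
  have hZn : Z.Normal := by
    refine ⟨fun z hz g => ?_⟩
    have := Subgroup.mem_center_iff.mp (hZc hz) g
    have e : g * z * g⁻¹ = z := by rw [this]; group
    rw [e]; exact hz
  have hidx : IsPiNum π Z.index := by
    intro r hr hd
    have : Fact r.Prime := ⟨hr⟩
    rw [Subgroup.index_eq_card] at hd
    obtain ⟨xb, hxb⟩ := exists_prime_orderOf_dvd_card' (G := X ⧸ Z) r hd
    obtain ⟨x, rfl⟩ := QuotientGroup.mk_surjective xb
    obtain ⟨m, hm0, hm, hxm⟩ := hX x
    have h1 : ((x : X ⧸ Z)) ^ m = 1 := by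
      rw [← QuotientGroup.mk_pow]
      exact (QuotientGroup.eq_one_iff _).mpr hxm
    have h2 : r ∣ m := by rw [← hxb]; exact orderOf_dvd_of_pow_eq_one h1
    exact hm r hr h2
  have hcop : Nat.Coprime (Nat.card Z) Z.index := by
    apply Nat.coprime_of_dvd
    intro r hr h1 h2
    exact hZπ r hr h1 (hidx r hr h2)
  obtain ⟨H, hH⟩ := Subgroup.exists_right_complement'_of_coprime hcop
  have hcard : Nat.card H = Z.index := by
    have h1 := hH.card_mul_card
    have h2 := Z.card_mul_index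
    have h3 : Nat.card Z * Nat.card H = Nat.card Z * Z.index := by rw [h1, h2]
    exact Nat.eq_of_mul_eq_mul_left Nat.card_pos h3
  have hdecomp : ∀ x : X, ∃ z ∈ Z, ∃ h ∈ H, x = z * h := by
    intro x
    have hx : x ∈ Z ⊔ H := by rw [hH.sup_eq_top]; trivial
    obtain ⟨z, hz, h, hh, rfl⟩ := Subgroup.mem_sup_of_normal_left.mp hx
    exact ⟨z, hz, h, hh, rfl⟩
  have hcomm : ∀ z ∈ Z, ∀ g : X, z * g = g * z := fun z hz g =>
    (Subgroup.mem_center_iff.mp (hZc hz) g).symm
  have hHn : H.Normal := by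
    refine ⟨fun y hy x => ?_⟩
    obtain ⟨z, hz, h, hh, rfl⟩ := hdecomp x
    have e : z * h * y * (z * h)⁻¹ = h * y * h⁻¹ := by
      have h1 := hcomm z hz (h * y * h⁻¹)
      calc z * h * y * (z * h)⁻¹ = z * (h * y * h⁻¹) * z⁻¹ := by group
        _ = (h * y * h⁻¹) * z * z⁻¹ := by rw [h1]
        _ = h * y * h⁻¹ := by group
    rw [e]
    exact H.mul_mem (H.mul_mem hh hy) (H.inv_mem hh)
  refine ⟨H, hHn, by rw [hcard]; exact hidx, ?_⟩
  intro x m hm0 hm hxm
  obtain ⟨z, hz, h, hh, rfl⟩ := hdecomp x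
  have hc : Commute z h := hcomm z hz h
  rw [hc.mul_pow] at hxm
  have hzm : z ^ m ∈ Z ⊓ H := by
    refine ⟨Z.pow_mem hz m, ?_⟩
    have : z ^ m = (h ^ m)⁻¹ := eq_inv_of_mul_eq_one_left hxm
    rw [this]; exact H.inv_mem (H.pow_mem hh m)
  have hZH : Z ⊓ H = ⊥ := hH.disjoint.eq_bot
  rw [hZH, Subgroup.mem_bot] at hzm
  have hz1 : z = 1 := by
    by_contra hne
    have ho : orderOf z ≠ 1 := fun h0 => hne (orderOf_eq_one_iff.mp h0)
    obtain ⟨r, hr, hrd⟩ := Nat.exists_prime_and_dvd ho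
    have h1 : r ∣ m := hrd.trans (orderOf_dvd_of_pow_eq_one hzm)
    have h2 : r ∣ Nat.card Z := by
      have := Subgroup.orderOf_dvd_natCard Z hz
      exact hrd.trans this
    exact hZπ r hr h2 (hm r hr h1)
  rw [hz1, one_mul]; exact hh

end split

section normal

variable {G : Type*} [Group G] [Finite G]

/-- the `π`-elements of a normal subgroup `J` centralizing the normal `π'`-subgroup `K` and such that
`J / (J ∩ K)` is a `π`-group form a normal `π`-subgroup of `G` -/
theorem pi_elements_normal (π : Set ℕ) (J K : Subgroup G) [hJn : J.Normal]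
    (hK : ∀ r : ℕ, r.Prime → r ∣ Nat.card K → r ∉ π)
    (hJK : J ≤ Subgroup.centralizer (K : Set G))
    (hJ : ∀ j ∈ J, ∃ m : ℕ, m ≠ 0 ∧ IsPiNum π m ∧ j ^ m ∈ K) :
    ∃ H : Subgroup G, H.Normal ∧ IsPiNum π (Nat.card H) ∧ H ≤ J ∧
      ∀ j ∈ J, ∀ m : ℕ, m ≠ 0 → IsPiNum π m → j ^ m = 1 → j ∈ H := by
  set Z : Subgroup ↥J := K.subgroupOf J with hZ
  have hZc : Z ≤ Subgroup.center ↥J := by
    intro z hz
    rw [Subgroup.mem_center_iff]
    intro j
    rw [hZ, Subgroup.mem_subgroupOf] at hz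
    apply Subtype.ext
    exact (Subgroup.mem_centralizer_iff.mp (hJK j.2) (z : G) hz).symm
  have hZcard : Nat.card Z ∣ Nat.card K := by
    have h1 : Z = (K ⊓ J).subgroupOf J := by rw [hZ, Subgroup.inf_subgroupOf_right]
    rw [h1, card_subgroupOf_of_le inf_le_right]
    exact Subgroup.card_dvd_of_le inf_le_left
  obtain ⟨H', hH'n, hH'π, hH'⟩ := central_pi_split π Z hZc
    (fun r hr hd => hK r hr (hd.trans hZcard))
    (by
      intro x
      obtain ⟨m, hm0, hm, hxm⟩ := hJ (x : G) x.2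
      refine ⟨m, hm0, hm, ?_⟩
      rw [hZ, Subgroup.mem_subgroupOf]
      simpa using hxm)
  have hmem : ∀ j ∈ J, ∀ m : ℕ, m ≠ 0 → IsPiNum π m → j ^ m = 1 → j ∈ H'.map J.subtype := by
    intro j hj m hm0 hm hjm
    refine ⟨⟨j, hj⟩, hH' ⟨j, hj⟩ m hm0 hm (Subtype.ext (by simpa using hjm)), rfl⟩
  have hcard : Nat.card (H'.map J.subtype) = Nat.card H' :=
    Subgroup.card_map_of_injective J.subtype_injective
  refine ⟨H'.map J.subtype, ?_, by rw [hcard]; exact hH'π, Subgroup.map_subtype_le _, hmem⟩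
  refine ⟨fun y hy g => ?_⟩
  have hyJ : y ∈ J := Subgroup.map_subtype_le _ hy
  have hy0 : orderOf y ≠ 0 := (orderOf_pos y).ne'
  have hyπ : IsPiNum π (orderOf y) := by
    have h1 : orderOf y ∣ Nat.card (H'.map J.subtype) := Subgroup.orderOf_dvd_natCard _ hy
    rw [hcard] at h1
    exact hH'π.of_dvd h1
  apply hmem (g * y * g⁻¹) (hJn.conj_mem y hyJ g) (orderOf y) hy0 hyπ
  rw [conj_pow, pow_orderOf_eq_one, mul_one, mul_inv_cancel]

end normal

end Cfsg.Agent.Lib.Helper4.Rk2
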