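import Mathlib
import Cfsg.Agent.Lib.Helper4.Rk2k
import Cfsg.Agent.Lib.Lead.Core
import Cfsg.Agent.Lib.Lead.CoprimeFrattini
import Cfsg.Agent.S0044

set_option autoImplicit false

/-! BG Theorem 4.20: solvable groups of odd order whose Fitting subgroup has rank at most two. -/

namespace Cfsg.Agent.Lib.Helper4.Rk2

open Cfsg Cfsg.Agent.Lib.Lead Cfsg.Agent.Lib.Helper4
open scoped commutatorElement

section fit

variable {G : Type*} [Group G] [Finite G]

/-- `O_π(F(G))` -/
def Hpi (π : Set ℕ) (G : Type*) [Group G] : Subgroup G :=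
  sSup {N : Subgroup G | ∃ r : ℕ, r.Prime ∧ r ∈ π ∧ N = pCore r G}

/-- `O_{π'}(F(G))` -/
def Kpi (π : Set ℕ) (G : Type*) [Group G] : Subgroup G :=
  sSup {N : Subgroup G | ∃ r : ℕ, r.Prime ∧ r ∉ π ∧ N = pCore r G}

theorem isPiNum_card_pCore {π : Set ℕ} {r : ℕ} (hr : r.Prime) (hrπ : r ∈ π) :
    IsPiNum π (Nat.card (pCore r G)) := by
  have : Fact r.Prime := ⟨hr⟩
  obtain ⟨k, hk⟩ := IsPGroup.iff_card.mp (pCore_isPGroup (G := G) r)
  rw [hk]; exact IsPiNum.pow hrπ hr k

theorem Hpi_facts (π : Set ℕ) : (Hpi π G).Normal ∧ IsPiNum π (Nat.card (Hpi π G)) := by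
  apply isPiNum_card_sSup
  rintro N ⟨r, hr, hrπ, rfl⟩
  exact ⟨Cfsg.Agent.Lib.Lead.pCore_normal r, isPiNum_card_pCore hr hrπ⟩

theorem Kpi_facts (π : Set ℕ) : (Kpi π G).Normal ∧ IsPiNum πᶜ (Nat.card (Kpi π G)) := by
  apply isPiNum_card_sSup
  rintro N ⟨r, hr, hrπ, rfl⟩
  exact ⟨Cfsg.Agent.Lib.Lead.pCore_normal r, isPiNum_card_pCore hr hrπ⟩

theorem pCore_le_Hpi {π : Set ℕ} {r : ℕ} (hr : r.Prime) (hrπ : r ∈ π) : pCore r G ≤ Hpi π G :=
  le_sSup ⟨r, hr, hrπ, rfl⟩

theorem pCore_le_Kpi {π : Set ℕ} {r : ℕ} (hr : r.Prime) (hrπ : r ∉ π) : pCore r G ≤ Kpi π G :=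
  le_sSup ⟨r, hr, hrπ, rfl⟩

theorem Kpi_card_not_mem (π : Set ℕ) : ∀ r : ℕ, r.Prime → r ∣ Nat.card (Kpi π G) → r ∉ π :=
  fun r hr hd => (Kpi_facts (G := G) π).2 r hr hd

theorem fitting_le_sup (π : Set ℕ) : fittingSubgroup G ≤ Hpi π G ⊔ Kpi π G := by
  classical
  rw [fittingSubgroup_eq_iSup_pCore]
  apply iSup_le
  intro r
  by_cases h : (r : ℕ) ∈ π
  · exact (pCore_le_Hpi r.2 h).trans le_sup_left
  · exact (pCore_le_Kpi r.2 h).trans le_sup_right

theorem Hpi_Kpi_commute (π : Set ℕ) {a b : G} (ha : a ∈ Hpi π G) (hb : b ∈ Kpi π G) :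
    Commute a b := by
  have hcop : (Nat.card (Hpi π G)).Coprime (Nat.card (Kpi π G)) := by
    apply Nat.coprime_of_dvd
    intro r hr h1 h2
    exact (Kpi_facts (G := G) π).2 r hr h2 ((Hpi_facts (G := G) π).2 r hr h1)
  have hdis : Disjoint (Hpi π G) (Kpi π G) := Subgroup.disjoint_of_coprime_natCard hcop
  exact Subgroup.commute_of_normal_of_disjoint _ _ (Hpi_facts π).1 (Kpi_facts π).1 hdis a b ha hb

/-- every element of `F(G)` has a `π`-power in `O_{π'}(F(G))` -/
theorem exists_pow_mem_Kpi (π : Set ℕ) {y : G} (hy : y ∈ fittingSubgroup G) :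
    ∃ m : ℕ, m ≠ 0 ∧ IsPiNum π m ∧ y ^ m ∈ Kpi π G := by
  have hKn := (Kpi_facts (G := G) π).1
  obtain ⟨a, ha, b, hb, rfl⟩ := Subgroup.mem_sup_of_normal_right.mp (fitting_le_sup π hy)
  refine ⟨orderOf a, (orderOf_pos a).ne', ?_, ?_⟩
  · exact (Hpi_facts (G := G) π).2.of_dvd (Subgroup.orderOf_dvd_natCard _ ha)
  · rw [(Hpi_Kpi_commute π ha hb).mul_pow, pow_orderOf_eq_one, one_mul]
    exact Subgroup.pow_mem _ hb _

/-- an element centralizing every `O_r(G)` lies in `F(G)` -/
theorem mem_fitting_of_centralizes [Group.IsSolvable G] {y : G}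
    (h : ∀ r : ℕ, r.Prime → y ∈ Subgroup.centralizer (pCore r G : Set G)) :
    y ∈ fittingSubgroup G := by
  apply Cfsg.Agent.S0044.result
  have h1 : fittingSubgroup G ≤ Subgroup.centralizer ((Subgroup.zpowers y : Subgroup G) : Set G) := by
    rw [fittingSubgroup_eq_iSup_pCore]
    apply iSup_le
    intro r
    rw [Subgroup.le_centralizer_iff, Subgroup.zpowers_le]
    exact h r r.2
  have h2 := Subgroup.le_centralizer_iff.mp h1
  exact h2 (Subgroup.mem_zpowers y)

/-- an element centralizing every `O_r(G)`, `r ∉ π`, centralizes `O_{π'}(F(G))` -/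
theorem mem_centralizer_Kpi {π : Set ℕ} {y : G}
    (h : ∀ r : ℕ, r.Prime → r ∉ π → y ∈ Subgroup.centralizer (pCore r G : Set G)) :
    y ∈ Subgroup.centralizer (Kpi π G : Set G) := by
  have h1 : Kpi π G ≤ Subgroup.centralizer ((Subgroup.zpowers y : Subgroup G) : Set G) := by
    apply sSup_le
    rintro N ⟨r, hr, hrπ, rfl⟩
    rw [Subgroup.le_centralizer_iff, Subgroup.zpowers_le]
    exact h r hr hrπ
  have h2 := Subgroup.le_centralizer_iff.mp h1
  exact h2 (Subgroup.mem_zpowers y)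

end fit

section main

variable {G : Type*} [Group G] [Finite G] [Group.IsSolvable G]

/-- the hypotheses of BG Theorem 4.20 -/
structure Hyp420 (G : Type*) [Group G] : Prop where
  hodd : Odd (Nat.card G)
  hrk : ∀ p : ℕ, p.Prime → PRankLE p 2 ↥(pCore p G)

theorem hyp420_of (hodd : Odd (Nat.card G))
    (hr : RankLE 2 G ∨ RankLE 2 (fittingSubgroup G)) : Hyp420 G := by
  refine ⟨hodd, ?_⟩
  intro p hp
  have : Fact p.Prime := ⟨hp⟩
  rcases hr with hr | hr
  · exact prankLE_of_injective (pCore p G).subtype (Subgroup.subtype_injective _) (hr p hp)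
  · have hle : pCore p G ≤ fittingSubgroup G := by
      rw [fittingSubgroup_eq_iSup_pCore]
      exact le_iSup (fun r : Nat.Primes => pCore (r : ℕ) G) ⟨p, hp⟩
    exact prankLE_of_injective (Subgroup.inclusion hle) (Subgroup.inclusion_injective hle) (hr p hp)

namespace Hyp420

theorem pCore_two (h : Hyp420 G) : pCore 2 G = ⊥ := by
  have : Fact (Nat.Prime 2) := ⟨Nat.prime_two⟩
  apply pCore_eq_bot_of_not_dvd
  intro hd
  rcases h.hodd with ⟨k, hk⟩
  omega

/-- `p'`-elements of `G'` centralize `O_p(G)` -/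
theorem key (h : Hyp420 G) {p : ℕ} (hp : p.Prime) {x : G} (hx : x ∈ commutator G)
    (hxo : (orderOf x).Coprime p) : x ∈ Subgroup.centralizer (pCore p G : Set G) := by
  have : Fact p.Prime := ⟨hp⟩
  by_cases hp2 : p = 2
  · rw [hp2, h.pCore_two]
    rw [Subgroup.mem_centralizer_iff]
    intro y hy
    have : y = 1 := Subgroup.mem_bot.mp hy
    rw [this]; simp
  · have hn : (⊤ : Subgroup G) ≤ Subgroup.normalizer ((pCore p G : Subgroup G) : Set G) := by
      have := Cfsg.Agent.Lib.Lead.pCore_normal (G := G) p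
      rw [Subgroup.normalizer_eq_top (pCore p G)]
    have hs : Group.IsSolvable ↥(⊤ : Subgroup G) :=
      Group.isSolvable_of_isSolvable_injective (Subgroup.subtype_injective _)
    have hoddT : Odd (Nat.card ↥(⊤ : Subgroup G)) := by rw [Subgroup.card_top]; exact h.hodd
    have hx' : x ∈ ⁅(⊤ : Subgroup G), (⊤ : Subgroup G)⁆ := by rw [← commutator_def]; exact hx
    exact centralizes_of_mem_commutator hp2 (pCore p G) ⊤ (pCore_isPGroup p) (h.hrk p hp) hn hs
      hoddT x hx' hxo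

/-- the `q`-elements of `G'` lie in `O_q(G)` -/
theorem qElement_mem_pCore (h : Hyp420 G) {q : ℕ} (hq : q.Prime) {x : G} (hx : x ∈ commutator G)
    {k : ℕ} (hxq : x ^ (q ^ k) = 1) : x ∈ pCore q G := by
  classical
  have : Fact q.Prime := ⟨hq⟩
  set π : Set ℕ := {q} with hπ
  set K := Kpi π G with hK
  have hKn : K.Normal := (Kpi_facts π).1
  have hNn : (commutator G).Normal := by rw [commutator_def]; infer_instance
  have hCn : (Subgroup.centralizer (K : Set G)).Normal := Subgroup.normal_centralizer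
  set J := commutator G ⊓ Subgroup.centralizer (K : Set G) with hJ
  have hJn : J.Normal := inferInstance
  have hqpow : ∀ j : ℕ, IsPiNum π (q ^ j) := fun j => IsPiNum.pow (Set.mem_singleton q) hq j
  have hJpow : ∀ d ∈ J, ∃ m : ℕ, m ≠ 0 ∧ IsPiNum π m ∧ d ^ m ∈ K := by
    rintro d ⟨hdN, hdC⟩
    obtain ⟨e, t, ht, hn⟩ := Nat.exists_eq_pow_mul_and_not_dvd (orderOf_pos d).ne' q hq.ne_one
    set y := d ^ (q ^ e) with hy
    have hyt : y ^ t = 1 := by rw [hy, ← pow_mul, ← hn]; exact pow_orderOf_eq_one d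
    have hyo : (orderOf y).Coprime q := by
      have h1 : orderOf y ∣ t := orderOf_dvd_of_pow_eq_one hyt
      exact Nat.Coprime.coprime_dvd_left h1 ((Nat.Prime.coprime_iff_not_dvd hq).mpr ht).symm
    have hyN : y ∈ commutator G := Subgroup.pow_mem _ hdN _
    have hyC : y ∈ Subgroup.centralizer (K : Set G) := Subgroup.pow_mem _ hdC _
    have hyF : y ∈ fittingSubgroup G := by
      apply mem_fitting_of_centralizes
      intro r hr
      by_cases hrq : r = q
      · rw [hrq]; exact h.key hq hyN hyo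
      · have hrπ : r ∉ π := fun hm => hrq (Set.mem_singleton_iff.mp hm)
        exact Subgroup.centralizer_le (by exact_mod_cast pCore_le_Kpi hr hrπ) hyC
    obtain ⟨m, hm0, hm, hym⟩ := exists_pow_mem_Kpi π hyF
    refine ⟨q ^ e * m, Nat.mul_ne_zero (pow_ne_zero _ hq.ne_zero) hm0, (hqpow e).mul hm, ?_⟩
    rw [pow_mul]; exact hym
  obtain ⟨H, hHn, hHπ, -, hH⟩ := pi_elements_normal π J K (Kpi_card_not_mem π) inf_le_right hJpow
  have hHq : IsPGroup q H := by
    have h1 : Nat.card H ≠ 0 := Nat.card_pos.ne'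
    have h2 := Nat.eq_prime_pow_of_unique_prime_dvd h1 (fun {d} hd hdd => hHπ d hd hdd)
    exact IsPGroup.of_card h2
  apply le_pCore hHn hHq
  apply hH x _ (q ^ k) (pow_ne_zero _ hq.ne_zero) (hqpow k) hxq
  refine ⟨hx, ?_⟩
  apply mem_centralizer_Kpi
  intro r hr hrπ
  have hrq : r ≠ q := fun e => hrπ (by rw [e]; exact Set.mem_singleton q)
  apply h.key hr hx
  have h1 : orderOf x ∣ q ^ k := orderOf_dvd_of_pow_eq_one hxq
  exact Nat.Coprime.coprime_dvd_left h1
    (Nat.Coprime.pow_left _ ((Nat.coprime_primes hq hr).mpr (Ne.symm hrq)))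

/-- part (a): the derived group is nilpotent -/
theorem commutator_isNilpotent (h : Hyp420 G) : Group.IsNilpotent ↥(commutator G) := by
  apply ((Group.isNilpotent_of_finite_tfae (G := ↥(commutator G))).out 0 3).mpr
  intro q hq T
  have hqp := hq.out
  set RN : Subgroup ↥(commutator G) := (pCore q G).subgroupOf (commutator G) with hRN
  have hRNn : RN.Normal := by
    have := Cfsg.Agent.Lib.Lead.pCore_normal (G := G) q
    exact Subgroup.Normal.subgroupOf this _
  have hRNq : IsPGroup q RN := by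
    have h1 : IsPGroup q (pCore q G) := pCore_isPGroup q
    exact h1.comap_of_injective _ (Subgroup.subtype_injective _)
  have hle : (T : Subgroup ↥(commutator G)) ≤ RN := by
    intro t ht
    rw [hRN, Subgroup.mem_subgroupOf]
    obtain ⟨k, hk⟩ := T.isPGroup' ⟨t, ht⟩
    have hk' : (t : G) ^ (q ^ k) = 1 := by
      have := congrArg (fun z : ↥(T : Subgroup ↥(commutator G)) => ((z : ↥(commutator G)) : G)) hk
      simpa using this
    exact h.qElement_mem_pCore hqp t.2 hk'
  have e : RN = (T : Subgroup ↥(commutator G)) := T.is_maximal' hRNq hle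
  rw [← e]; exact hRNn

theorem commutator_le_fitting (h : Hyp420 G) : commutator G ≤ fittingSubgroup G := by
  have hNn : (commutator G).Normal := by rw [commutator_def]; infer_instance
  exact le_fittingSubgroup hNn h.commutator_isNilpotent

end Hyp420

end main

end Cfsg.Agent.Lib.Helper4.Rk2
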