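import Mathlib
import Cfsg.Agent.Lib.Helper4.Rk2l
import Cfsg.Agent.Lib.Helper6.PCore

set_option autoImplicit false

/-! BG Theorem 4.20, parts (b) and (c). -/

namespace Cfsg.Agent.Lib.Helper4.Rk2

open Cfsg Cfsg.Agent.Lib.Lead Cfsg.Agent.Lib.Helper4
open scoped commutatorElement

variable {G : Type*} [Group G] [Finite G] [Group.IsSolvable G]

namespace Hyp420

/-- part (b) -/
theorem char_normal (h : Hyp420 G) {q : ℕ} [hq : Fact q.Prime] (S : Sylow q G)
    (T : Subgroup ↥(S : Subgroup G)) (hT : T.Characteristic)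
    (hTS : T.map (S : Subgroup G).subtype ≤ ⁅(S : Subgroup G), (S : Subgroup G)⁆) :
    (T.map (S : Subgroup G).subtype).Normal := by
  classical
  have hqp := hq.out
  set T' := T.map (S : Subgroup G).subtype with hT'
  set π : Set ℕ := {q} with hπ
  set K := Kpi π G with hK
  have hKn : K.Normal := (Kpi_facts π).1
  have hFn : (fittingSubgroup G).Normal := fittingSubgroup_normal
  have hT'S : T' ≤ (S : Subgroup G) := Subgroup.map_subtype_le _
  have hT'N : T' ≤ commutator G := by
    refine hTS.trans ?_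
    rw [commutator_def]
    exact Subgroup.commutator_mono le_top le_top
  -- `T' ≤ O_q(G)`
  have hT'R : T' ≤ pCore q G := by
    intro t ht
    obtain ⟨k, hk⟩ := S.isPGroup' ⟨t, hT'S ht⟩
    have hk' : t ^ (q ^ k) = 1 := by
      have := congrArg Subtype.val hk
      simpa using this
    exact h.qElement_mem_pCore hqp (hT'N ht) hk'
  -- `K` centralizes `T'`
  have hKT : ∀ k ∈ K, ∀ t ∈ T', k * t * k⁻¹ = t := by
    intro k hk t ht
    have hH : pCore q G ≤ Hpi π G := pCore_le_Hpi hqp (Set.mem_singleton q)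
    have hc := Hpi_Kpi_commute π (hH (hT'R ht)) hk
    rw [← hc.eq]; group
  -- the normalizer of `S` normalizes `T'`
  have hNT := le_normalizer_map_characteristic (S : Subgroup G) T
  -- `S F(G)` is normal
  set L := (S : Subgroup G) ⊔ fittingSubgroup G with hL
  have hLn : L.Normal := by
    refine ⟨fun l hl g => ?_⟩
    have h1 : g * l * g⁻¹ * l⁻¹ ∈ fittingSubgroup G := by
      apply h.commutator_le_fitting
      rw [commutator_def]
      have : g * l * g⁻¹ * l⁻¹ = ⁅g, l⁆ := by rw [commutatorElement_def]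
      rw [this]
      exact Subgroup.commutator_mem_commutator (Subgroup.mem_top g) (Subgroup.mem_top l)
    have h2 : g * l * g⁻¹ = (g * l * g⁻¹ * l⁻¹) * l := by group
    rw [h2]
    exact L.mul_mem (le_sup_right (a := (S : Subgroup G)) h1) hl
  have hSL : (S : Subgroup G) ≤ L := le_sup_left
  -- the Frattini argument
  have hfr : Subgroup.normalizer (((S.subtype hSL : Sylow q ↥L) : Subgroup ↥L).map L.subtype : Set G)
      ⊔ L = ⊤ := Sylow.normalizer_sup_eq_top (S.subtype hSL)
  have hmap : ((S.subtype hSL : Sylow q ↥L) : Subgroup ↥L).map L.subtype = (S : Subgroup G) := by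
    rw [Sylow.coe_subtype]
    exact Subgroup.map_subgroupOf_eq_of_le hSL
  rw [hmap] at hfr
  refine ⟨fun t ht g => ?_⟩
  have hg : g ∈ Subgroup.normalizer ((S : Subgroup G) : Set G) ⊔ L := by rw [hfr]; trivial
  obtain ⟨n, hn, l, hl, rfl⟩ := Subgroup.mem_sup_of_normal_right.mp hg
  obtain ⟨s, hs, f, hf, rfl⟩ := Subgroup.mem_sup_of_normal_right.mp hl
  obtain ⟨r, hr, k, hk, rfl⟩ := Subgroup.mem_sup_of_normal_right.mp (fitting_le_sup π hf)
  have hrS : r ∈ (S : Subgroup G) := by
    have h1 : Hpi π G ≤ pCore q G := by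
      apply sSup_le
      rintro N ⟨r', hr', hr'π, rfl⟩
      rw [Set.mem_singleton_iff.mp hr'π]
    exact Cfsg.Agent.Lib.Helper6.pCore_le_sylow S (h1 hr)
  have hn' : n * (s * r) ∈ Subgroup.normalizer ((S : Subgroup G) : Set G) :=
    Subgroup.mul_mem _ hn (Subgroup.le_normalizer (S.mul_mem hs hrS))
  have e : n * (s * (r * k)) * t * (n * (s * (r * k)))⁻¹ =
      (n * (s * r)) * (k * t * k⁻¹) * (n * (s * r))⁻¹ := by group
  rw [e, hKT k hk t ht]
  exact (Subgroup.mem_normalizer_iff.mp (hNT hn') t).mp ht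

/-- part (c) -/
theorem exists_char_hall (h : Hyp420 G) (p : ℕ) :
    ∃ N : Subgroup G, N.Characteristic ∧ IsPiHall {q | q.Prime ∧ p < q} N := by
  classical
  set π : Set ℕ := {q | q.Prime ∧ p < q} with hπ
  set K := Kpi π G with hK
  have hKn : K.Normal := (Kpi_facts π).1
  have hFn : (fittingSubgroup G).Normal := fittingSubgroup_normal
  have hcomm := h.commutator_le_fitting
  -- the preimage of the `π`-part of the abelian group `G / F(G)`
  let L : Subgroup G :=
    { carrier := {g | ∃ m : ℕ, m ≠ 0 ∧ IsPiNum π m ∧ g ^ m ∈ fittingSubgroup G}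
      one_mem' := ⟨1, one_ne_zero, isPiNum_one π, by rw [pow_one]; exact Subgroup.one_mem _⟩
      inv_mem' := by
        rintro g ⟨m, hm0, hm, hgm⟩
        exact ⟨m, hm0, hm, by rw [inv_pow]; exact Subgroup.inv_mem _ hgm⟩
      mul_mem' := by
        rintro a b ⟨m, hm0, hm, ham⟩ ⟨n, hn0, hn, hbn⟩
        refine ⟨m * n, Nat.mul_ne_zero hm0 hn0, hm.mul hn, ?_⟩
        letI : CommGroup (G ⧸ fittingSubgroup G) := quotCommGroup G (fittingSubgroup G) hcomm
        rw [← QuotientGroup.eq_one_iff, QuotientGroup.mk_pow, QuotientGroup.mk_mul, mul_pow]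
        have h1 : ((a : G ⧸ fittingSubgroup G)) ^ (m * n) = 1 := by
          rw [pow_mul, ← QuotientGroup.mk_pow, (QuotientGroup.eq_one_iff _).mpr ham, one_pow]
        have h2 : ((b : G ⧸ fittingSubgroup G)) ^ (m * n) = 1 := by
          rw [mul_comm, pow_mul, ← QuotientGroup.mk_pow, (QuotientGroup.eq_one_iff _).mpr hbn,
            one_pow]
        rw [h1, h2, one_mul] }
  have hLn : L.Normal := by
    refine ⟨fun g hg x => ?_⟩
    obtain ⟨m, hm0, hm, hgm⟩ := hg
    refine ⟨m, hm0, hm, ?_⟩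
    rw [conj_pow]
    exact hFn.conj_mem _ hgm x
  have hCn : (Subgroup.centralizer (K : Set G)).Normal := Subgroup.normal_centralizer
  set J := L ⊓ Subgroup.centralizer (K : Set G) with hJ
  have hJn : J.Normal := inferInstance
  have hJpow : ∀ j ∈ J, ∃ m : ℕ, m ≠ 0 ∧ IsPiNum π m ∧ j ^ m ∈ K := by
    rintro j ⟨⟨m, hm0, hm, hjm⟩, -⟩
    obtain ⟨m', hm'0, hm', hjm'⟩ := exists_pow_mem_Kpi π hjm
    exact ⟨m * m', Nat.mul_ne_zero hm0 hm'0, hm.mul hm', by rw [pow_mul]; exact hjm'⟩
  obtain ⟨H, hHn, hHπ, -, hH⟩ := pi_elements_normal π J K (Kpi_card_not_mem π) inf_le_right hJpow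
  -- every Sylow `q`-subgroup with `q > p` lies in `H`
  have hSyl : ∀ q : ℕ, ∀ hq : q.Prime, p < q → ∀ S : @Sylow q G _, (S : Subgroup G) ≤ H := by
    intro q hq hpq S s hs
    have : Fact q.Prime := ⟨hq⟩
    have hqπ : q ∈ π := ⟨hq, hpq⟩
    obtain ⟨k, hk⟩ := S.isPGroup' ⟨s, hs⟩
    have hk' : s ^ (q ^ k) = 1 := by
      have := congrArg Subtype.val hk
      simpa using this
    have hqk : IsPiNum π (q ^ k) := IsPiNum.pow hqπ hq k
    apply hH s _ (q ^ k) (pow_ne_zero _ hq.ne_zero) hqk hk'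
    refine ⟨⟨q ^ k, pow_ne_zero _ hq.ne_zero, hqk, by rw [hk']; exact Subgroup.one_mem _⟩, ?_⟩
    apply mem_centralizer_Kpi
    intro r hr hrπ
    by_contra hnc
    have hrq : ¬ p < r := fun hlt => hrπ ⟨hr, hlt⟩
    have : Fact r.Prime := ⟨hr⟩
    by_cases hr2 : r = 2
    · apply hnc
      rw [hr2, h.pCore_two, Subgroup.mem_centralizer_iff]
      intro y hy
      have : y = 1 := Subgroup.mem_bot.mp hy
      rw [this]; simp
    · have hq2 : q ≠ 2 := by
        intro e
        have h2 : 2 ∣ Nat.card G := by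
          have := (Subgroup.card_subgroup_dvd_card (S : Subgroup G))
          by_cases hk0 : s = 1
          · exfalso; apply hnc; rw [hk0]; exact Subgroup.one_mem _
          · have ho : orderOf s ∣ q ^ k := orderOf_dvd_of_pow_eq_one hk'
            have ho1 : orderOf s ≠ 1 := fun h0 => hk0 (orderOf_eq_one_iff.mp h0)
            obtain ⟨j, -, hj⟩ := (Nat.dvd_prime_pow hq).mp ho
            have hj0 : j ≠ 0 := by
              intro h0; rw [h0, pow_zero] at hj; exact ho1 hj
            have : q ∣ orderOf s := by rw [hj]; exact dvd_pow_self q hj0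
            rw [e] at this
            exact this.trans (orderOf_dvd_natCard s)
        rcases h.hodd with ⟨c, hc⟩
        omega
      have hqr : q ≠ r := by
        intro e; rw [e] at hpq; exact hrq hpq
      have hn : s ∈ Subgroup.normalizer ((pCore r G : Subgroup G) : Set G) := by
        rw [Subgroup.normalizer_eq_top (pCore r G)]; trivial
      have := prime_le_of_not_centralizes_pow (p := r) hr2 (pCore r G) (pCore_isPGroup r)
        (h.hrk r hr) q hq2 hqr k s hn hk' hnc
      omega
  refine ⟨piCore π G, ?_, ?_, ?_⟩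
  · rw [Subgroup.characteristic_iff_map_le]
    intro φ
    rw [piCore_map_equiv π φ]
  · exact isPiNum_card_piCore π
  · rintro q hq ⟨-, hpq⟩ hd
    have : Fact q.Prime := ⟨hq⟩
    obtain ⟨S⟩ : Nonempty (Sylow q G) := inferInstance
    have h1 : (S : Subgroup G) ≤ piCore π G := (hSyl q hq hpq S).trans (le_piCore hHn hHπ)
    have h2 : (piCore π G).index ∣ (S : Subgroup G).index := Subgroup.index_dvd_of_le h1
    exact S.not_dvd_index (hd.trans h2)

end Hyp420

end Cfsg.Agent.Lib.Helper4.Rk2
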