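import Mathlib
import Cfsg.Agent.Lib.Lead.ClassThree2
import Cfsg.Agent.Lib.Lead.ClassTwo
import Cfsg.Agent.Lib.Lead.HallTools
import Cfsg.Agent.Lib.Lead.CoprimeTools
import Cfsg.Agent.Lib.Lead.CoprimeAction3

set_option autoImplicit false

/-! Basic lemmas for the quotient bound on `Ω₁`. -/

namespace Cfsg.Agent.Lib.Helper4.OQ

open scoped commutatorElement

universe u

section g0

variable {G : Type u} [Group G]

/-- the power formula when the commutator is central. -/
theorem mul_pow_of_comm_central (x y : G) (hcen : ∀ g : G, g * ⁅y, x⁆ = ⁅y, x⁆ * g) (n : ℕ) :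
    (x * y) ^ n = x ^ n * y ^ n * ⁅y, x⁆ ^ (n.choose 2) := by
  induction n with
  | zero => simp
  | succ n ih =>
    have hcenpow : ∀ (k : ℕ) (g : G), g * ⁅y, x⁆ ^ k = ⁅y, x⁆ ^ k * g := by
      intro k g
      exact ((Commute.pow_right (hcen g) k : Commute g (⁅y, x⁆ ^ k))).eq
    have h1 : y ^ n * x = ⁅y, x⁆ ^ n * x * y ^ n := by
      have h2 : ⁅y ^ n, x⁆ = ⁅y, x⁆ ^ n :=
        Cfsg.Agent.Lib.Lead.commutatorElement_pow_left y x (hcen y).symm n
      rw [← h2, commutatorElement_def]; group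
    have hch : (n + 1).choose 2 = n.choose 2 + n := by
      rw [Nat.choose_succ_succ' n 1, Nat.choose_one_right, add_comm]
    have h1' : y ^ n * x = x * y ^ n * ⁅y, x⁆ ^ n := by
      rw [h1, mul_assoc, ← hcenpow n (x * y ^ n)]
    calc (x * y) ^ (n + 1) = (x * y) ^ n * (x * y) := pow_succ _ _
      _ = x ^ n * y ^ n * ⁅y, x⁆ ^ (n.choose 2) * (x * y) := by rw [ih]
      _ = x ^ n * y ^ n * (x * y) * ⁅y, x⁆ ^ (n.choose 2) := by
        rw [mul_assoc (x ^ n * y ^ n), ← hcenpow (n.choose 2) (x * y), ← mul_assoc]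
      _ = x ^ n * (y ^ n * x) * y * ⁅y, x⁆ ^ (n.choose 2) := by group
      _ = x ^ n * (x * y ^ n * ⁅y, x⁆ ^ n) * y * ⁅y, x⁆ ^ (n.choose 2) := by rw [h1']
      _ = x ^ n * x * y ^ n * (⁅y, x⁆ ^ n * y) * ⁅y, x⁆ ^ (n.choose 2) := by group
      _ = x ^ n * x * y ^ n * (y * ⁅y, x⁆ ^ n) * ⁅y, x⁆ ^ (n.choose 2) := by rw [hcenpow n y]
      _ = (x ^ n * x) * (y ^ n * y) * (⁅y, x⁆ ^ n * ⁅y, x⁆ ^ (n.choose 2)) := by
        simp only [mul_assoc]
      _ = x ^ (n + 1) * y ^ (n + 1) * ⁅y, x⁆ ^ ((n + 1).choose 2) := by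
        rw [← pow_succ, ← pow_succ, ← pow_add, hch, add_comm (n.choose 2) n]

/-- for an odd prime, `(xy)^p = x^p y^p` when `[y, x]` is central of order dividing `p`. -/
theorem mul_pow_prime_of_comm_central {p : ℕ} [hp : Fact p.Prime] (hp2 : p ≠ 2) (x y : G)
    (hcen : ∀ g : G, g * ⁅y, x⁆ = ⁅y, x⁆ * g) (hw : ⁅y, x⁆ ^ p = 1) :
    (x * y) ^ p = x ^ p * y ^ p := by
  rw [mul_pow_of_comm_central x y hcen p]
  have h3 : 2 < p := lt_of_le_of_ne hp.out.two_le (Ne.symm hp2)
  obtain ⟨k, hk⟩ := Nat.Prime.dvd_choose_self hp.out (by norm_num : (2 : ℕ) ≠ 0) h3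
  rw [hk, pow_mul, hw, one_pow, mul_one]

end g0

section g1

variable {R : Type u} [Group R]

/-- the subgroup generated by the elements of order dividing `p`. -/
def Om (p : ℕ) (R : Type u) [Group R] : Subgroup R := Subgroup.closure {x : R | x ^ p = 1}

theorem omegaOne_top (p : ℕ) : Cfsg.omegaOne p (⊤ : Subgroup R) = Om p R := by
  unfold Cfsg.omegaOne Om
  congr 1
  ext x
  simp

theorem mem_Om_of_pow {p : ℕ} {x : R} (h : x ^ p = 1) : x ∈ Om p R :=
  Subgroup.subset_closure h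

theorem Om_normal (p : ℕ) : (Om p R).Normal := by
  constructor
  intro n hn g
  unfold Om at hn ⊢
  induction hn using Subgroup.closure_induction with
  | mem x hx =>
    apply Subgroup.subset_closure
    show (g * x * g⁻¹) ^ p = 1
    rw [conj_pow, hx, mul_one, mul_inv_cancel]
  | one => simp
  | mul x y _ _ hx hy =>
    have : g * (x * y) * g⁻¹ = (g * x * g⁻¹) * (g * y * g⁻¹) := by group
    rw [this]
    exact Subgroup.mul_mem _ hx hy
  | inv x _ hx =>
    have : g * x⁻¹ * g⁻¹ = (g * x * g⁻¹)⁻¹ := by group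
    rw [this]
    exact Subgroup.inv_mem _ hx

/-- transport along an isomorphism. -/
theorem card_Om_congr {R' : Type u} [Group R'] (p : ℕ) (e : R ≃* R') :
    Nat.card (Om p R) = Nat.card (Om p R') := by
  have h1 : (Om p R).map e.toMonoidHom = Om p R' := by
    unfold Om
    rw [MonoidHom.map_closure]
    congr 1
    ext y
    constructor
    · rintro ⟨x, hx, rfl⟩
      show (e x) ^ p = 1
      rw [← map_pow, show x ^ p = 1 from hx, map_one]
    · intro hy
      refine ⟨e.symm y, ?_, by simp⟩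
      show (e.symm y) ^ p = 1
      rw [← map_pow, show y ^ p = 1 from hy, map_one]
  rw [← h1]
  exact (Nat.card_congr ((Om p R).equivMapOfInjective e.toMonoidHom e.injective).toEquiv)

/-- monotonicity for subgroups. -/
theorem card_Om_subgroup_le [Finite R] (p : ℕ) (H : Subgroup R) :
    Nat.card (Om p ↥H) ≤ Nat.card (Om p R) := by
  have h1 : (Om p ↥H).map H.subtype ≤ Om p R := by
    unfold Om
    rw [MonoidHom.map_closure, Subgroup.closure_le]
    rintro y ⟨x, hx, rfl⟩
    apply Subgroup.subset_closure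
    show ((x : ↥H) : R) ^ p = 1
    rw [← Subgroup.coe_pow, show x ^ p = 1 from hx, Subgroup.coe_one]
  have h2 : Nat.card ((Om p ↥H).map H.subtype) = Nat.card (Om p ↥H) :=
    (Nat.card_congr ((Om p ↥H).equivMapOfInjective H.subtype H.subtype_injective).toEquiv).symm
  rw [← h2]
  exact Subgroup.card_le_of_le h1

/-- a subgroup of a nilpotent group with `K ≤ [K, R] T` lies in the normal subgroup `T`. -/
theorem le_of_le_commutator_sup [hn : Group.IsNilpotent R] (K T : Subgroup R) [hTn : T.Normal]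
    (h : K ≤ ⁅K, (⊤ : Subgroup R)⁆ ⊔ T) : K ≤ T := by
  set π := QuotientGroup.mk' T with hπ
  have hπs : Function.Surjective π := QuotientGroup.mk'_surjective T
  haveI : Group.IsNilpotent (R ⧸ T) := nilpotent_of_surjective π hπs
  haveI : Group.IsNilpotent ↥(⊤ : Subgroup (R ⧸ T)) :=
    Group.nilpotent_of_mulEquiv Subgroup.topEquiv.symm
  have h1 : K.map π ≤ ⁅K.map π, (⊤ : Subgroup (R ⧸ T))⁆ := by
    have h2 := Subgroup.map_mono (f := π) h
    rw [Subgroup.map_sup, Subgroup.map_commutator, QuotientGroup.map_mk'_self, sup_bot_eq,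
      Subgroup.map_top_of_surjective π hπs] at h2
    exact h2
  have h3 := Cfsg.Agent.Lib.Lead.eq_bot_of_le_commutator_nilpotent (⊤ : Subgroup (R ⧸ T))
    (K.map π) le_top h1
  have h4 := (Subgroup.map_eq_bot_iff K).mp h3
  rw [QuotientGroup.ker_mk'] at h4
  exact h4

end g1

end Cfsg.Agent.Lib.Helper4.OQ
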