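import Mathlib
import Cfsg.Agent.Lib.Helper4.OQ1

set_option autoImplicit false

/-! Pieces of the main case of the quotient bound on `Ω₁`. -/

namespace Cfsg.Agent.Lib.Helper4.OQ

open scoped commutatorElement

universe u

section g1

variable {R : Type u} [Group R] {p : ℕ} [hp : Fact p.Prime]

/-- the subgroup generated by the elements of `M` whose `p`-th power lies in `T`. -/
def XM (p : ℕ) (M T : Subgroup R) : Subgroup R :=
  Subgroup.closure {x : R | x ∈ M ∧ x ^ p ∈ T}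

theorem XM_le (M T : Subgroup R) : XM p M T ≤ M := by
  unfold XM
  rw [Subgroup.closure_le]
  intro x hx
  exact hx.1

theorem le_XM {M T : Subgroup R} (hTM : T ≤ M) : T ≤ XM p M T := by
  intro t ht
  exact Subgroup.subset_closure ⟨hTM ht, T.pow_mem ht p⟩

theorem XM_normal (M T : Subgroup R) [hMn : M.Normal] (hTZ : T ≤ Subgroup.center R) :
    (XM p M T).Normal := by
  constructor
  intro n hn g
  unfold XM at hn ⊢
  induction hn using Subgroup.closure_induction with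
  | mem x hx =>
    apply Subgroup.subset_closure
    refine ⟨hMn.conj_mem x hx.1 g, ?_⟩
    rw [conj_pow]
    have h1 := Subgroup.mem_center_iff.mp (hTZ hx.2) g
    have h2 : g * x ^ p * g⁻¹ = x ^ p := by
      rw [h1]; group
    rw [h2]
    exact hx.2
  | one => simp
  | mul x y _ _ hx hy =>
    have : g * (x * y) * g⁻¹ = (g * x * g⁻¹) * (g * y * g⁻¹) := by group
    rw [this]
    exact Subgroup.mul_mem _ hx hy
  | inv x _ hx =>
    have : g * x⁻¹ * g⁻¹ = (g * x * g⁻¹)⁻¹ := by group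
    rw [this]
    exact Subgroup.inv_mem _ hx

/-- `XM` of a subgroup, computed inside the subgroup. -/
theorem XM_subgroup (M T : Subgroup R) :
    (XM p (⊤ : Subgroup ↥M) (T.subgroupOf M)).map M.subtype = XM p M T := by
  unfold XM
  rw [MonoidHom.map_closure]
  congr 1
  ext y
  constructor
  · rintro ⟨x, hx, rfl⟩
    refine ⟨x.2, ?_⟩
    have := hx.2
    rw [Subgroup.mem_subgroupOf, Subgroup.coe_pow] at this
    exact this
  · rintro ⟨hyM, hyT⟩
    refine ⟨⟨y, hyM⟩, ⟨Subgroup.mem_top _, ?_⟩, rfl⟩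
    rw [Subgroup.mem_subgroupOf, Subgroup.coe_pow]
    exact hyT

variable [Finite R]

theorem card_mul_le_of_lt {K N : Subgroup R} (hN : IsPGroup p N) (hlt : K < N) :
    Nat.card K * p ≤ Nat.card N := by
  obtain ⟨b, hb⟩ := (IsPGroup.iff_card).mp hN
  obtain ⟨a, ha⟩ := (IsPGroup.iff_card).mp (hN.to_le hlt.le)
  have hab : a < b := by
    by_contra hcon
    push Not at hcon
    have h1 : Nat.card N ≤ Nat.card K := by
      rw [ha, hb]
      exact Nat.pow_le_pow_right hp.out.pos hcon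
    have h2 := Subgroup.eq_of_le_of_card_ge hlt.le h1
    exact hlt.ne h2
  rw [ha, hb, ← pow_succ]
  exact Nat.pow_le_pow_right hp.out.pos hab

/-- a normal subgroup with `|N : T| ≤ p²` has `[N, R, R] ≤ T`. -/
theorem comm_comm_le (hR : IsPGroup p R) (N T : Subgroup R) [hNn : N.Normal] [hTn : T.Normal]
    (hTN : T ≤ N) (hcard : Nat.card N ≤ p ^ 2 * Nat.card T) :
    ⁅⁅N, (⊤ : Subgroup R)⁆, (⊤ : Subgroup R)⁆ ≤ T := by
  haveI : Group.IsNilpotent R := hR.isNilpotent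
  have hNp : IsPGroup p N := hR.to_subgroup N
  have hN1le : ⁅N, (⊤ : Subgroup R)⁆ ⊔ T ≤ N := sup_le (Subgroup.commutator_le_left N ⊤) hTN
  have hbotT : ⁅T, (⊤ : Subgroup R)⁆ ≤ T := Subgroup.commutator_le_left T ⊤
  rcases eq_or_lt_of_le hN1le with h1 | h1
  · -- `N ≤ T`
    have h2 : N ≤ T := le_of_le_commutator_sup N T (by rw [h1])
    calc ⁅⁅N, (⊤ : Subgroup R)⁆, (⊤ : Subgroup R)⁆
        ≤ ⁅⁅T, (⊤ : Subgroup R)⁆, (⊤ : Subgroup R)⁆ :=
          Subgroup.commutator_mono (Subgroup.commutator_mono h2 le_rfl) le_rfl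
      _ ≤ ⁅T, (⊤ : Subgroup R)⁆ := Subgroup.commutator_mono hbotT le_rfl
      _ ≤ T := hbotT
  · set N₁ := ⁅N, (⊤ : Subgroup R)⁆ ⊔ T with hN₁
    haveI hN₁n : N₁.Normal := by
      rw [hN₁]
      exact Subgroup.sup_normal _ _
    have hc1 : Nat.card N₁ * p ≤ Nat.card N := card_mul_le_of_lt hNp h1
    have hN2le : ⁅N₁, (⊤ : Subgroup R)⁆ ⊔ T ≤ N₁ :=
      sup_le (Subgroup.commutator_le_left N₁ ⊤) le_sup_right
    have hstep : ⁅⁅N, (⊤ : Subgroup R)⁆, (⊤ : Subgroup R)⁆ ≤ ⁅N₁, (⊤ : Subgroup R)⁆ :=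
      Subgroup.commutator_mono le_sup_left le_rfl
    rcases eq_or_lt_of_le hN2le with h2 | h2
    · have h3 : N₁ ≤ T := le_of_le_commutator_sup N₁ T (by rw [h2])
      exact hstep.trans ((Subgroup.commutator_mono h3 le_rfl).trans hbotT)
    · have hc2 : Nat.card ↥(⁅N₁, (⊤ : Subgroup R)⁆ ⊔ T) * p ≤ Nat.card N₁ :=
        card_mul_le_of_lt (hR.to_subgroup N₁) h2
      have h4 : Nat.card ↥(⁅N₁, (⊤ : Subgroup R)⁆ ⊔ T) ≤ Nat.card T := by
        have h5 : Nat.card ↥(⁅N₁, (⊤ : Subgroup R)⁆ ⊔ T) * p * p ≤ p ^ 2 * Nat.card T :=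
          le_trans (le_trans (Nat.mul_le_mul_right p hc2) hc1) hcard
        have hp0 : 0 < p := hp.out.pos
        have : Nat.card ↥(⁅N₁, (⊤ : Subgroup R)⁆ ⊔ T) * (p * p) ≤ Nat.card T * (p * p) := by
          calc Nat.card ↥(⁅N₁, (⊤ : Subgroup R)⁆ ⊔ T) * (p * p)
              = Nat.card ↥(⁅N₁, (⊤ : Subgroup R)⁆ ⊔ T) * p * p := by ring
            _ ≤ p ^ 2 * Nat.card T := h5
            _ = Nat.card T * (p * p) := by ring
        exact Nat.le_of_mul_le_mul_right this (Nat.mul_pos hp0 hp0)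
      have h6 : T = ⁅N₁, (⊤ : Subgroup R)⁆ ⊔ T :=
        Subgroup.eq_of_le_of_card_ge le_sup_right h4
      exact hstep.trans (by rw [h6]; exact le_sup_left)

end g1

end Cfsg.Agent.Lib.Helper4.OQ
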