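import Mathlib
import Cfsg.Agent.Lib.Helper4.OQ2
import Cfsg.Agent.Lib.Helper4.ZP19

set_option autoImplicit false

/-! The main case: the quotient has class two and exponent `p`. -/

namespace Cfsg.Agent.Lib.Helper4.OQ

open scoped commutatorElement

universe u

section g1

variable {R : Type u} [Group R] {p : ℕ} [hp : Fact p.Prime]

/-- if `R` is generated by elements lying in the second centre modulo `T`, then `R/T` has class
at most two. -/
theorem quot_class_two (T : Subgroup R) [hTn : T.Normal] (S : Set R)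
    (hS : Subgroup.closure S = ⊤) (h : ∀ u ∈ S, ∀ r s : R, ⁅⁅u, r⁆, s⁆ ∈ T) :
    ⁅commutator (R ⧸ T), (⊤ : Subgroup (R ⧸ T))⁆ = ⊥ := by
  set π := QuotientGroup.mk' T with hπ
  have hπs : Function.Surjective π := QuotientGroup.mk'_surjective T
  have h2 : Subgroup.upperCentralSeries (R ⧸ T) 2 = ⊤ := by
    rw [eq_top_iff, ← Subgroup.map_top_of_surjective π hπs, ← hS, MonoidHom.map_closure,
      Subgroup.closure_le]
    rintro y ⟨u, hu, rfl⟩
    show π u ∈ Subgroup.upperCentralSeries (R ⧸ T) (1 + 1)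
    rw [Subgroup.mem_upperCentralSeries_succ_iff]
    intro y
    obtain ⟨r, rfl⟩ := hπs y
    rw [Subgroup.upperCentralSeries_one, Subgroup.mem_center_iff]
    intro z
    obtain ⟨s, rfl⟩ := hπs z
    have h3 : π ⁅⁅u, r⁆, s⁆ = 1 := (QuotientGroup.eq_one_iff _).mpr (h u hu r s)
    rw [map_commutatorElement, map_commutatorElement] at h3
    have h4 := commutatorElement_eq_one_iff_mul_comm.mp h3
    exact h4.symm
  rw [Subgroup.commutator_eq_bot_iff_le_centralizer, Subgroup.coe_top, Subgroup.centralizer_univ,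
    commutator_def, Subgroup.commutator_le]
  intro a _ b _
  have ha : a ∈ Subgroup.upperCentralSeries (R ⧸ T) (1 + 1) := by
    show a ∈ Subgroup.upperCentralSeries (R ⧸ T) 2
    rw [h2]; exact Subgroup.mem_top a
  rw [Subgroup.mem_upperCentralSeries_succ_iff] at ha
  have := ha b
  rwa [Subgroup.upperCentralSeries_one] at this

/-- consequently every `p`-th power lies in `T`. -/
theorem pow_mem_of_gen [Finite R] (hp2 : p ≠ 2) (T : Subgroup R) [hTn : T.Normal] (S : Set R)
    (hS : Subgroup.closure S = ⊤) (hSp : ∀ u ∈ S, u ^ p ∈ T)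
    (h : ∀ u ∈ S, ∀ r s : R, ⁅⁅u, r⁆, s⁆ ∈ T) (x : R) : x ^ p ∈ T := by
  have hcl := quot_class_two T S hS h
  set π := QuotientGroup.mk' T with hπ
  have hπs : Function.Surjective π := QuotientGroup.mk'_surjective T
  have hmem : π x ∈ Subgroup.closure {y : R ⧸ T | y ^ p = 1} := by
    have h1 : π x ∈ (⊤ : Subgroup R).map π := ⟨x, Subgroup.mem_top x, rfl⟩
    rw [← hS, MonoidHom.map_closure] at h1
    refine (Subgroup.closure_mono ?_) h1
    rintro y ⟨u, hu, rfl⟩
    show (π u) ^ p = 1
    rw [← map_pow]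
    exact (QuotientGroup.eq_one_iff _).mpr (hSp u hu)
  have h2 := Cfsg.Agent.Lib.Lead.omega_exponent_of_class_two hp2 hcl (π x) hmem
  rw [← map_pow] at h2
  exact (QuotientGroup.eq_one_iff _).mp h2

/-- commutators with elements of the derived subgroup lie in `T`. -/
theorem comm_mem_of_class_two (T : Subgroup R) [hTn : T.Normal]
    (hcl : ⁅commutator (R ⧸ T), (⊤ : Subgroup (R ⧸ T))⁆ = ⊥) :
    ⁅commutator R, (⊤ : Subgroup R)⁆ ≤ T := by
  set π := QuotientGroup.mk' T with hπ
  have hπs : Function.Surjective π := QuotientGroup.mk'_surjective T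
  have h1 : (⁅commutator R, (⊤ : Subgroup R)⁆).map π = ⊥ := by
    rw [Subgroup.map_commutator, Subgroup.map_top_of_surjective π hπs, commutator_def,
      Subgroup.map_commutator, Subgroup.map_top_of_surjective π hπs, ← commutator_def]
    exact hcl
  have h2 := (Subgroup.map_eq_bot_iff _).mp h1
  rwa [QuotientGroup.ker_mk'] at h2

end g1

end Cfsg.Agent.Lib.Helper4.OQ
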