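import Mathlib
import Cfsg.Agent.Lib.Helper4.OQ3

set_option autoImplicit false

/-! The main case: the two counting arguments. -/

namespace Cfsg.Agent.Lib.Helper4.OQ

open scoped commutatorElement

universe u

section g1

variable {R : Type u} [Group R] [Finite R] {p : ℕ} [hp : Fact p.Prime]

theorem pow_eq_one_of_mem {T : Subgroup R} (hTp : Nat.card T = p) {t : R} (ht : t ∈ T) :
    t ^ p = 1 := by
  have := pow_card_eq_one' (G := ↥T) (x := ⟨t, ht⟩)
  rw [hTp] at this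
  have h4 := congrArg Subtype.val this
  rwa [Subgroup.coe_pow] at h4

theorem T_le_Om {T : Subgroup R} (hTp : Nat.card T = p) : T ≤ Om p R :=
  fun _ ht => mem_Om_of_pow (pow_eq_one_of_mem hTp ht)

/-- some commutator has nontrivial `p`-th power. -/
theorem case_B (hp2 : p ≠ 2) (T : Subgroup R) (hTZ : T ≤ Subgroup.center R)
    (hTp : Nat.card T = p) (hexp : ∀ x : R, x ^ p ∈ T)
    (hcl : ⁅commutator R, (⊤ : Subgroup R)⁆ ≤ T) (hW : Nat.card (Om p R) ≤ p ^ 2)
    (c : R) (hc : c ∈ commutator R) (hcp : c ^ p ≠ 1) : Nat.card R ≤ p ^ 3 := by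
  have hTprime : (Nat.card T).Prime := by rw [hTp]; exact hp.out
  have hTgen : Subgroup.zpowers (c ^ p) = T :=
    Cfsg.Agent.Lib.Helper4.ZP.zpowers_eq_of_prime_card T hTprime (c ^ p) (hexp c) hcp
  haveI hWn : (Om p R).Normal := Om_normal p
  have htop : Subgroup.zpowers c ⊔ Om p R = ⊤ := by
    rw [eq_top_iff]
    intro g _
    have h1 : g ^ p ∈ Subgroup.zpowers (c ^ p) := by rw [hTgen]; exact hexp g
    obtain ⟨k, hk⟩ := Subgroup.mem_zpowers_iff.mp h1
    set v := c ^ (-k) with hv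
    have hvc : v ∈ commutator R := Subgroup.zpow_mem _ hc _
    have hvT : ⁅v, g⁆ ∈ T := hcl (Subgroup.commutator_mem_commutator hvc (Subgroup.mem_top g))
    have hcen : ∀ h : R, h * ⁅v, g⁆ = ⁅v, g⁆ * h :=
      fun h => Subgroup.mem_center_iff.mp (hTZ hvT) h
    have h2 := mul_pow_prime_of_comm_central hp2 g v hcen (pow_eq_one_of_mem hTp hvT)
    have h3 : v ^ p = ((c ^ p) ^ k)⁻¹ := by
      rw [hv, ← zpow_natCast, ← zpow_mul, ← zpow_natCast c p, ← zpow_mul, ← zpow_neg]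
      congr 1
      ring
    rw [h3, hk, mul_inv_cancel] at h2
    have h4 : g = (g * v) * v⁻¹ := by group
    rw [h4]
    apply Subgroup.mul_mem
    · exact Subgroup.mem_sup_right (mem_Om_of_pow h2)
    · apply Subgroup.mem_sup_left
      apply Subgroup.inv_mem
      rw [hv]
      exact Subgroup.zpow_mem _ (Subgroup.mem_zpowers c) _
  have h1 := Cfsg.Agent.Lib.Lead.card_sup_mul_card_inf (Subgroup.zpowers c) (Om p R)
    (by rw [Subgroup.normalizer_eq_top_iff.mpr hWn]; exact le_top)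
  rw [htop, Subgroup.card_top] at h1
  have h2 : T ≤ Subgroup.zpowers c ⊓ Om p R := by
    apply le_inf
    · rw [← hTgen, Subgroup.zpowers_le]
      exact Subgroup.pow_mem _ (Subgroup.mem_zpowers c) _
    · exact T_le_Om hTp
  have h3 : p ≤ Nat.card ↥(Subgroup.zpowers c ⊓ Om p R) := by
    have := Subgroup.card_le_of_le h2
    rw [hTp] at this
    exact this
  have h4 : Nat.card (Subgroup.zpowers c) ≤ p ^ 2 := by
    rw [Nat.card_zpowers]
    apply Nat.le_of_dvd (pow_pos hp.out.pos 2)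
    apply orderOf_dvd_of_pow_eq_one
    rw [pow_two, pow_mul]
    exact pow_eq_one_of_mem hTp (hexp c)
  have h5 : Nat.card R * p ≤ p ^ 2 * p ^ 2 :=
    calc Nat.card R * p ≤ Nat.card R * Nat.card ↥(Subgroup.zpowers c ⊓ Om p R) :=
          Nat.mul_le_mul_left _ h3
      _ = Nat.card (Subgroup.zpowers c) * Nat.card (Om p R) := h1
      _ ≤ p ^ 2 * p ^ 2 := Nat.mul_le_mul h4 hW
  have hp0 : 0 < p := hp.out.pos
  have h6 : Nat.card R * p ≤ p ^ 3 * p := by
    calc Nat.card R * p ≤ p ^ 2 * p ^ 2 := h5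
      _ = p ^ 3 * p := by ring
  exact Nat.le_of_mul_le_mul_right h6 hp0

/-- all commutators have trivial `p`-th power. -/
theorem case_A (hp3 : 3 < p) (T : Subgroup R) (hTZ : T ≤ Subgroup.center R)
    (hTp : Nat.card T = p) (hexp : ∀ x : R, x ^ p ∈ T)
    (hcl : ⁅commutator R, (⊤ : Subgroup R)⁆ ≤ T) (hW : Nat.card (Om p R) ≤ p ^ 2)
    (hA : ∀ g ∈ commutator R, g ^ p = 1) : Nat.card R ≤ p ^ 3 := by
  have h3 : ⁅⁅commutator R, (⊤ : Subgroup R)⁆, (⊤ : Subgroup R)⁆ = ⊥ := by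
    rw [eq_bot_iff]
    refine (Subgroup.commutator_mono hcl le_rfl).trans ?_
    rw [← eq_bot_iff, Subgroup.commutator_eq_bot_iff_le_centralizer, Subgroup.coe_top,
      Subgroup.centralizer_univ]
    exact hTZ
  let φ : R →* R :=
    { toFun := fun x => x ^ p
      map_one' := one_pow p
      map_mul' := Cfsg.Agent.Lib.Lead.mul_pow_prime_of_class_three hp3 h3 hA }
  have h1 := Cfsg.Agent.Lib.Lead.card_map_mul_card_inf_ker φ (⊤ : Subgroup R)
  rw [Subgroup.card_top] at h1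
  have h2 : (⊤ : Subgroup R).map φ ≤ T := by
    rintro y ⟨x, -, rfl⟩
    exact hexp x
  have h4 : (⊤ : Subgroup R) ⊓ φ.ker ≤ Om p R := by
    intro x hx
    have : φ x = 1 := MonoidHom.mem_ker.mp (Subgroup.mem_inf.mp hx).2
    exact mem_Om_of_pow this
  have h5 : Nat.card ↥((⊤ : Subgroup R).map φ) ≤ p := by
    have := Subgroup.card_le_of_le h2
    rw [hTp] at this
    exact this
  have h6 : Nat.card ↥((⊤ : Subgroup R) ⊓ φ.ker) ≤ p ^ 2 :=
    (Subgroup.card_le_of_le h4).trans hW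
  calc Nat.card R = Nat.card ↥((⊤ : Subgroup R).map φ) * Nat.card ↥((⊤ : Subgroup R) ⊓ φ.ker) :=
        h1.symm
    _ ≤ p * p ^ 2 := Nat.mul_le_mul h5 h6
    _ = p ^ 3 := by ring

/-- if the derived subgroup is generated by elements of order dividing `p` then it has exponent
dividing `p`. -/
theorem derived_exp (hp2 : p ≠ 2) (T : Subgroup R) (hTZ : T ≤ Subgroup.center R)
    (hTp : Nat.card T = p) (hcl : ⁅commutator R, (⊤ : Subgroup R)⁆ ≤ T)
    (hA : ∀ a b : R, ⁅a, b⁆ ^ p = 1) : ∀ g ∈ commutator R, g ^ p = 1 := by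
  intro g hg
  have hg' : g ∈ Subgroup.closure {g : R | ∃ a ∈ (⊤ : Subgroup R), ∃ b ∈ (⊤ : Subgroup R),
      ⁅a, b⁆ = g} := hg
  induction hg' using Subgroup.closure_induction with
  | mem x hx =>
    obtain ⟨a, -, b, -, rfl⟩ := hx
    exact hA a b
  | one => exact one_pow p
  | mul x y hx hy hxp hyp =>
    have hyc : y ∈ commutator R := hy
    have hT : ⁅y, x⁆ ∈ T := hcl (Subgroup.commutator_mem_commutator hyc (Subgroup.mem_top x))
    have hcen : ∀ h : R, h * ⁅y, x⁆ = ⁅y, x⁆ * h :=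
      fun h => Subgroup.mem_center_iff.mp (hTZ hT) h
    rw [mul_pow_prime_of_comm_central hp2 x y hcen (pow_eq_one_of_mem hTp hT),
      hxp hx, hyp hy, one_mul]
  | inv x hx hxp =>
    rw [inv_pow, hxp hx, inv_one]

end g1

end Cfsg.Agent.Lib.Helper4.OQ
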