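import Mathlib
import Cfsg.Agent.Lib.Helper4.OQ4

set_option autoImplicit false

/-! The quotient bound on `Ω₁` for a central subgroup of order `p`. -/

namespace Cfsg.Agent.Lib.Helper4.OQ

open scoped commutatorElement

universe u

section g1

variable {p : ℕ} [hp : Fact p.Prime]

theorem subgroupOf_le_center {R : Type u} [Group R] (T M : Subgroup R)
    (hTZ : T ≤ Subgroup.center R) : T.subgroupOf M ≤ Subgroup.center ↥M := by
  intro t ht
  rw [Subgroup.mem_center_iff]
  intro g
  apply Subtype.ext
  rw [Subgroup.coe_mul, Subgroup.coe_mul]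
  exact Subgroup.mem_center_iff.mp (hTZ (Subgroup.mem_subgroupOf.mp ht)) g

theorem normal_of_le_center {R : Type u} [Group R] (T : Subgroup R)
    (hTZ : T ≤ Subgroup.center R) : T.Normal := by
  constructor
  intro t ht g
  have h1 := Subgroup.mem_center_iff.mp (hTZ ht) g
  have h2 : g * t * g⁻¹ = t := by rw [h1]; group
  rw [h2]
  exact ht

set_option maxHeartbeats 800000 in
theorem inner (hp3 : 3 < p) (n : ℕ) : ∀ (R : Type u) [Group R] [Finite R], Nat.card R = n →
    IsPGroup p R → Nat.card (Om p R) ≤ p ^ 2 → ∀ T : Subgroup R, T ≤ Subgroup.center R →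
    Nat.card T = p → Nat.card (XM p (⊤ : Subgroup R) T) ≤ p ^ 3 := by
  induction n using Nat.strong_induction_on with
  | _ n ih =>
  intro R _ _ hn hR hW T hTZ hTp
  have hp2 : p ≠ 2 := by omega
  haveI : Group.IsNilpotent R := hR.isNilpotent
  haveI hTn : T.Normal := normal_of_le_center T hTZ
  -- the induction hypothesis for subgroups
  have hsub : ∀ M : Subgroup R, M ≠ ⊤ → T ≤ M → Nat.card (XM p M T) ≤ p ^ 3 := by
    intro M hM hTM
    have hcard : Nat.card M < n := by
      rw [← hn]
      have h1 : Nat.card M ≤ Nat.card R := Subgroup.card_le_card_group M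
      rcases lt_or_eq_of_le h1 with h | h
      · exact h
      · exact absurd (Subgroup.card_eq_iff_eq_top M |>.mp h) hM
    have h2 := ih (Nat.card M) hcard ↥M rfl (hR.to_subgroup M)
      ((card_Om_subgroup_le p M).trans hW) (T.subgroupOf M) (subgroupOf_le_center T M hTZ)
      (by rw [Cfsg.Agent.Lib.Lead.card_subgroupOf_of_le hTM]; exact hTp)
    rw [← XM_subgroup M T]
    rw [← Nat.card_congr ((XM p (⊤ : Subgroup ↥M) (T.subgroupOf M)).equivMapOfInjective
      M.subtype M.subtype_injective).toEquiv]
    exact h2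
  set X := XM p (⊤ : Subgroup R) T with hXdef
  by_cases hX : X = ⊤
  swap
  · have hTX : T ≤ X := le_XM le_top
    have h1 := hsub X hX hTX
    have h2 : XM p X T = X := by
      apply le_antisymm (XM_le X T)
      rw [hXdef]
      unfold XM
      rw [Subgroup.closure_le]
      intro x hx
      apply Subgroup.subset_closure
      exact ⟨Subgroup.subset_closure hx, hx.2⟩
    rw [h2] at h1
    exact h1
  · rw [hX, Subgroup.card_top]
    by_contra hgt
    push Not at hgt
    -- second centre modulo `T`
    have hi : ∀ u : R, u ^ p ∈ T → ∀ r s : R, ⁅⁅u, r⁆, s⁆ ∈ T := by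
      intro u hu r s
      have hU₀ : Subgroup.zpowers u ⊔ T ≠ ⊤ := by
        intro htop
        have h1 := Cfsg.Agent.Lib.Lead.card_sup_mul_card_inf (Subgroup.zpowers u) T
          (by rw [Subgroup.normalizer_eq_top_iff.mpr hTn]; exact le_top)
        rw [htop, Subgroup.card_top] at h1
        have h2 : Nat.card (Subgroup.zpowers u) ≤ p ^ 2 := by
          rw [Nat.card_zpowers]
          apply Nat.le_of_dvd (pow_pos hp.out.pos 2)
          apply orderOf_dvd_of_pow_eq_one
          rw [pow_two, pow_mul]
          exact pow_eq_one_of_mem hTp hu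
        have h3 : Nat.card R ≤ p ^ 2 * p :=
          calc Nat.card R ≤ Nat.card R * Nat.card ↥(Subgroup.zpowers u ⊓ T) :=
                Nat.le_mul_of_pos_right _ Nat.card_pos
            _ = Nat.card (Subgroup.zpowers u) * Nat.card T := h1
            _ ≤ p ^ 2 * p := Nat.mul_le_mul h2 hTp.le
        have : p ^ 2 * p = p ^ 3 := by ring
        omega
      obtain ⟨M, hM, hUM⟩ := (eq_top_or_exists_le_coatom _).resolve_left hU₀
      haveI hMn : M.Normal :=
        Subgroup.NormalizerCondition.normal_of_coatom M
          (Group.normalizerCondition_of_isNilpotent (G := R)) hM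
      have hTM : T ≤ M := le_sup_right.trans hUM
      have huM : u ∈ M := hUM (Subgroup.mem_sup_left (Subgroup.mem_zpowers u))
      have hNcard := hsub M hM.1 hTM
      haveI hNn : (XM p M T).Normal := XM_normal M T hTZ
      have h1 := comm_comm_le hR (XM p M T) T (le_XM hTM) (by
        rw [hTp]
        calc Nat.card (XM p M T) ≤ p ^ 3 := hNcard
          _ = p ^ 2 * p := by ring)
      apply h1
      have huN : u ∈ XM p M T := Subgroup.subset_closure ⟨huM, hu⟩
      exact Subgroup.commutator_mem_commutator
        (Subgroup.commutator_mem_commutator huN (Subgroup.mem_top r)) (Subgroup.mem_top s)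
    have hS : Subgroup.closure {x : R | x ∈ (⊤ : Subgroup R) ∧ x ^ p ∈ T} = ⊤ := hX
    have hcl := quot_class_two T _ hS (fun u hu => hi u hu.2)
    have hexp := pow_mem_of_gen hp2 T _ hS (fun u hu => hu.2) (fun u hu => hi u hu.2)
    have hcl2 := comm_mem_of_class_two T hcl
    by_cases hA : ∀ a b : R, ⁅a, b⁆ ^ p = 1
    · have := case_A hp3 T hTZ hTp hexp hcl2 hW (derived_exp hp2 T hTZ hTp hcl2 hA)
      omega
    · push Not at hA
      obtain ⟨a, b, hab⟩ := hA
      have hc : ⁅a, b⁆ ∈ commutator R := by
        rw [commutator_def]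
        exact Subgroup.commutator_mem_commutator (Subgroup.mem_top a) (Subgroup.mem_top b)
      have := case_B hp2 T hTZ hTp hexp hcl2 hW ⁅a, b⁆ hc hab
      omega

end g1

end Cfsg.Agent.Lib.Helper4.OQ
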