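import Mathlib
import Cfsg.Agent.Lib.Helper4.OQ5
import Cfsg.Agent.Lib.Lead.Nilpotent

set_option autoImplicit false

/-! The quotient bound on `Ω₁`: the general case. -/

namespace Cfsg.Agent.Lib.Helper4.OQ

open scoped commutatorElement

universe u

section g1

variable {p : ℕ} [hp : Fact p.Prime]

/-- `Ω₁(R/T)` is the image of the subgroup generated by the `x` with `x ^ p ∈ T`. -/
theorem Om_quotient {R : Type u} [Group R] (T : Subgroup R) [hTn : T.Normal] :
    Om p (R ⧸ T) = (XM p (⊤ : Subgroup R) T).map (QuotientGroup.mk' T) := by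
  unfold Om XM
  rw [MonoidHom.map_closure]
  congr 1
  ext y
  constructor
  · intro hy
    obtain ⟨x, rfl⟩ := QuotientGroup.mk'_surjective T y
    refine ⟨x, ⟨Subgroup.mem_top x, ?_⟩, rfl⟩
    have h1 : (QuotientGroup.mk' T x) ^ p = 1 := hy
    rw [← map_pow] at h1
    exact (QuotientGroup.eq_one_iff _).mp h1
  · rintro ⟨x, ⟨-, hx⟩, rfl⟩
    show (QuotientGroup.mk' T x) ^ p = 1
    rw [← map_pow]
    exact (QuotientGroup.eq_one_iff _).mpr hx

/-- the central case. -/
theorem card_Om_quotient_central (hp3 : 3 < p) {R : Type u} [Group R] [Finite R]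
    (hR : IsPGroup p R) (hW : Nat.card (Om p R) ≤ p ^ 2) (T : Subgroup R)
    (hTZ : T ≤ Subgroup.center R) (hTp : Nat.card T = p) [hTn : T.Normal] :
    Nat.card (Om p (R ⧸ T)) ≤ p ^ 2 := by
  have h1 := inner hp3 (Nat.card R) R rfl hR hW T hTZ hTp
  rw [Om_quotient T]
  have h2 := Cfsg.Agent.Lib.Lead.card_map_mk_mul T (XM p (⊤ : Subgroup R) T)
  have h3 : XM p (⊤ : Subgroup R) T ⊓ T = T := inf_eq_right.mpr (le_XM le_top)
  rw [h3, hTp] at h2
  have h4 : Nat.card ↥((XM p (⊤ : Subgroup R) T).map (QuotientGroup.mk' T)) * p ≤ p ^ 2 * p := by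
    rw [h2]
    calc Nat.card (XM p (⊤ : Subgroup R) T) ≤ p ^ 3 := h1
      _ = p ^ 2 * p := by ring
  exact Nat.le_of_mul_le_mul_right h4 hp.out.pos

theorem full (hp3 : 3 < p) (n : ℕ) : ∀ (R : Type u) [Group R] [Finite R], Nat.card R = n →
    IsPGroup p R → Nat.card (Om p R) ≤ p ^ 2 → ∀ (T : Subgroup R) [T.Normal],
    Nat.card (Om p (R ⧸ T)) ≤ p ^ 2 := by
  induction n using Nat.strong_induction_on with
  | _ n ih =>
  intro R _ _ hn hR hW T hTn
  haveI : Group.IsNilpotent R := hR.isNilpotent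
  by_cases hT : T = ⊥
  · subst hT
    rw [card_Om_congr p (QuotientGroup.quotientBot (G := R))]
    exact hW
  · have h1 := Cfsg.Agent.Lib.Lead.inf_center_ne_bot T hT
    have h2 : p ∣ Nat.card ↥(T ⊓ Subgroup.center R) := by
      obtain ⟨k, hk⟩ := (IsPGroup.iff_card).mp (hR.to_subgroup (T ⊓ Subgroup.center R))
      rw [hk]
      apply dvd_pow_self
      intro h0
      rw [h0, pow_zero] at hk
      exact h1 (Subgroup.card_eq_one.mp hk)
    obtain ⟨z, hz⟩ := exists_prime_orderOf_dvd_card' p h2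
    set T₀ := Subgroup.zpowers (z : R) with hT₀
    have hzo : orderOf (z : R) = p := by rw [Subgroup.orderOf_coe]; exact hz
    have hT₀p : Nat.card T₀ = p := by rw [hT₀, Nat.card_zpowers, hzo]
    have hT₀T : T₀ ≤ T := by
      rw [hT₀, Subgroup.zpowers_le]
      exact (Subgroup.mem_inf.mp z.2).1
    have hT₀Z : T₀ ≤ Subgroup.center R := by
      rw [hT₀, Subgroup.zpowers_le]
      exact (Subgroup.mem_inf.mp z.2).2
    haveI hT₀n : T₀.Normal := normal_of_le_center T₀ hT₀Z
    have h3 := card_Om_quotient_central hp3 hR hW T₀ hT₀Z hT₀p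
    have hlt : Nat.card (R ⧸ T₀) < n := by
      have h4 := Cfsg.Agent.Lib.Lead.card_quotient_mul T₀
      rw [hT₀p, hn] at h4
      have h5 : 0 < Nat.card (R ⧸ T₀) := Nat.card_pos
      have h6 : 1 < p := hp.out.one_lt
      nlinarith
    have h7 := ih (Nat.card (R ⧸ T₀)) hlt (R ⧸ T₀) rfl (hR.to_quotient T₀) h3
      (T.map (QuotientGroup.mk' T₀))
    rw [← card_Om_congr p (QuotientGroup.quotientQuotientEquivQuotient T₀ T hT₀T)]
    exact h7

end g1

end Cfsg.Agent.Lib.Helper4.OQ
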