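import Mathlib
import Cfsg.Agent.Lib.Helper4.OQ6
import Cfsg.Agent.Lib.Helper4.Rk2d
import Cfsg.Agent.Lib.Lead.BurnsideBasis
import Cfsg.Agent.Lib.Lead.Frattini2
import Cfsg.Agent.Lib.Lead.HallSymp4

set_option autoImplicit false

/-! Huppert's criterion: the class two endgame. -/

namespace Cfsg.Agent.Lib.Helper4.HU

open scoped commutatorElement
open Cfsg.Agent.Lib.Helper4.OQ

universe u

section g0

variable {R : Type u} [Group R]

/-- two generators, the first one spanning a normal subgroup. -/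
theorem isMetacyclic_of_gen (w y : R) (hn : (Subgroup.zpowers w).Normal)
    (hgen : Subgroup.closure {w, y} = ⊤) : Cfsg.IsMetacyclic R := by
  refine ⟨Subgroup.zpowers w, hn, inferInstance, ?_⟩
  have h1 : (Subgroup.closure ({w, y} : Set R)).map (QuotientGroup.mk' (Subgroup.zpowers w)) = ⊤ := by
    rw [hgen, ← MonoidHom.range_eq_map, MonoidHom.range_eq_top]
    exact QuotientGroup.mk'_surjective _
  rw [MonoidHom.map_closure, Set.image_pair] at h1
  have h2 : (QuotientGroup.mk' (Subgroup.zpowers w)) w = 1 := by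
    rw [QuotientGroup.mk'_apply, QuotientGroup.eq_one_iff]
    exact Subgroup.mem_zpowers w
  rw [h2, Subgroup.closure_insert_one, ← Subgroup.zpowers_eq_closure] at h1
  refine ⟨⟨(QuotientGroup.mk' (Subgroup.zpowers w)) y, ?_⟩⟩
  intro q
  have h3 : q ∈ Subgroup.zpowers ((QuotientGroup.mk' (Subgroup.zpowers w)) y) := by
    rw [h1]; exact Subgroup.mem_top q
  exact h3

theorem isMetacyclic_of_isCyclic [hc : IsCyclic R] : Cfsg.IsMetacyclic R := by
  refine ⟨⊥, inferInstance, inferInstance, ?_⟩
  exact isCyclic_of_surjective (QuotientGroup.mk' (⊥ : Subgroup R)) (QuotientGroup.mk'_surjective _)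

end g0

section g1

variable {p : ℕ} [hp : Fact p.Prime]

theorem comm_of_card_le_sq {Q : Type u} [Group Q] [Finite Q] (hQ : IsPGroup p Q)
    (h : Nat.card Q ≤ p ^ 2) : ∀ a b : Q, a * b = b * a := by
  obtain ⟨k, hk⟩ := IsPGroup.iff_card.mp hQ
  have hk2 : k ≤ 2 := by
    rw [hk] at h
    exact (Nat.pow_le_pow_iff_right hp.out.one_lt).mp h
  have hk' : k = 0 ∨ k = 1 ∨ k = 2 := by omega
  rcases hk' with rfl | rfl | rfl
  · rw [pow_zero] at hk
    have : Subsingleton Q := (Nat.card_eq_one_iff_unique.mp hk).1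
    intro a b
    exact Subsingleton.elim _ _
  · rw [pow_one] at hk
    have hcyc : IsCyclic Q := isCyclic_of_prime_card hk
    intro a b
    exact (IsCyclic.isMulCommutative (α := Q)).is_comm.comm a b
  · intro a b
    exact (IsPGroup.isMulCommutative_of_card_eq_prime_sq hk).is_comm.comm a b

end g1

end Cfsg.Agent.Lib.Helper4.HU
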