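import Mathlib
import Cfsg.Agent.Lib.Helper4.HU1

set_option autoImplicit false

/-! Huppert's criterion: the class two endgame. -/

namespace Cfsg.Agent.Lib.Helper4.HU

open scoped commutatorElement
open Cfsg.Agent.Lib.Helper4.OQ

universe u

section g2

variable {p : ℕ} [hp : Fact p.Prime]
variable {R : Type u} [Group R]

/-- the power map as an endomorphism. -/
def powHom (hp2 : p ≠ 2) (z : R) (hzc : z ∈ Subgroup.center R) (hzp : z ^ p = 1)
    (hcomm : commutator R ≤ Subgroup.zpowers z) : R →* R where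
  toFun g := g ^ p
  map_one' := one_pow p
  map_mul' x y := by
    have hmem : ⁅y, x⁆ ∈ Subgroup.zpowers z := hcomm (by
      rw [commutator_def]
      exact Subgroup.commutator_mem_commutator (Subgroup.mem_top y) (Subgroup.mem_top x))
    apply mul_pow_prime_of_comm_central hp2 x y
    · intro g
      have h1 : Subgroup.zpowers z ≤ Subgroup.center R := Subgroup.zpowers_le.mpr hzc
      exact ((Subgroup.mem_center_iff.mp (h1 hmem)) g)
    · obtain ⟨i, hi⟩ := Subgroup.mem_zpowers_iff.mp hmem
      rw [← hi, ← zpow_natCast, ← zpow_mul, mul_comm, zpow_mul, zpow_natCast, hzp, one_zpow]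

@[simp] theorem powHom_apply (hp2 : p ≠ 2) (z : R) (hzc : z ∈ Subgroup.center R) (hzp : z ^ p = 1)
    (hcomm : commutator R ≤ Subgroup.zpowers z) (g : R) :
    powHom hp2 z hzc hzp hcomm g = g ^ p := rfl

theorem powHom_range_normal (hp2 : p ≠ 2) (z : R) (hzc : z ∈ Subgroup.center R) (hzp : z ^ p = 1)
    (hcomm : commutator R ≤ Subgroup.zpowers z) :
    (powHom hp2 z hzc hzp hcomm).range.Normal := by
  constructor
  rintro a ⟨x, rfl⟩ g
  refine ⟨g * x * g⁻¹, ?_⟩
  rw [powHom_apply, powHom_apply, conj_pow]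

end g2

end Cfsg.Agent.Lib.Helper4.HU
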