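import Mathlib
import Cfsg.Agent.Lib.Helper4.HU2

set_option autoImplicit false

/-! Huppert's criterion: the class two endgame. -/

namespace Cfsg.Agent.Lib.Helper4.HU

open scoped commutatorElement
open Cfsg.Agent.Lib.Helper4.OQ Cfsg.Agent.Lib.Lead

universe u

section g3

variable {p : ℕ} [hp : Fact p.Prime]
variable {R : Type u} [Group R] [Finite R]

/-- existence of a second generator. -/
theorem exists_second_gen (hR : IsPGroup p R) (hidx : (frattini R).index = p ^ 2) (w : R)
    (hw : w ∉ frattini R) : ∃ y : R, Subgroup.closure {w, y} = ⊤ := by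
  set H₁ : Subgroup R := Subgroup.zpowers w ⊔ frattini R with hH₁
  have hcardR : Nat.card R = Nat.card (frattini R) * p ^ 2 := by
    rw [← hidx]; exact ((frattini R).card_mul_index).symm
  have hΦpos : 0 < Nat.card (frattini R) := Nat.card_pos
  have h1 : Nat.card H₁ ≤ p * Nat.card (frattini R) := card_zpowers_sup_le hR (frattini R) le_rfl w
  have hp1 := hp.out.one_lt
  have hH₁top : H₁ ≠ ⊤ := by
    intro h
    rw [h, Subgroup.card_top, hcardR] at h1
    nlinarith
  obtain ⟨y, hy⟩ : ∃ y : R, y ∉ H₁ := by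
    by_contra hcon
    push Not at hcon
    exact hH₁top (eq_top_iff.mpr (fun x _ => hcon x))
  refine ⟨y, ?_⟩
  rw [closure_eq_top_iff_sup_frattini]
  set H₂ : Subgroup R := Subgroup.zpowers y ⊔ H₁ with hH₂
  have hH₂eq : Subgroup.closure {w, y} ⊔ frattini R = H₂ := by
    rw [hH₂, hH₁, Set.insert_eq, Subgroup.closure_union, ← Subgroup.zpowers_eq_closure,
      ← Subgroup.zpowers_eq_closure, ← sup_assoc, sup_comm (Subgroup.zpowers y)]
  rw [hH₂eq]
  -- cardinalities
  obtain ⟨a, ha⟩ := IsPGroup.iff_card.mp (hR.to_subgroup (frattini R))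
  obtain ⟨b, hb⟩ := IsPGroup.iff_card.mp (hR.to_subgroup H₁)
  obtain ⟨c, hc⟩ := IsPGroup.iff_card.mp (hR.to_subgroup H₂)
  have hΦH₁ : frattini R ≤ H₁ := le_sup_right
  have hH₁H₂ : H₁ ≤ H₂ := le_sup_right
  have hab : a < b := by
    have h2 : Nat.card (frattini R) ≤ Nat.card H₁ := Subgroup.card_le_of_le hΦH₁
    rw [ha, hb] at h2
    have h3 := (Nat.pow_le_pow_iff_right hp1).mp h2
    rcases Nat.lt_or_ge a b with h | h
    · exact h
    · exfalso
      have h4 : a = b := le_antisymm h3 h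
      have h5 : frattini R = H₁ := Subgroup.eq_of_le_of_card_ge hΦH₁ (by rw [ha, hb, h4])
      apply hw
      rw [h5]
      exact (le_sup_left : Subgroup.zpowers w ≤ H₁) (Subgroup.mem_zpowers w)
  have hbc : b < c := by
    have h2 : Nat.card H₁ ≤ Nat.card H₂ := Subgroup.card_le_of_le hH₁H₂
    rw [hb, hc] at h2
    have h3 := (Nat.pow_le_pow_iff_right hp1).mp h2
    rcases Nat.lt_or_ge b c with h | h
    · exact h
    · exfalso
      have h4 : b = c := le_antisymm h3 h
      have h5 : H₁ = H₂ := Subgroup.eq_of_le_of_card_ge hH₁H₂ (by rw [hb, hc, h4])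
      apply hy
      rw [h5]
      exact (le_sup_left : Subgroup.zpowers y ≤ H₂) (Subgroup.mem_zpowers y)
  apply Subgroup.eq_top_of_card_eq
  have h6 : Nat.card H₂ ≤ Nat.card R := Subgroup.card_le_card_group H₂
  rw [hcardR, ha, hc, ← pow_add] at h6 ⊢
  have h7 := (Nat.pow_le_pow_iff_right hp1).mp h6
  have h8 : c = a + 2 := by omega
  rw [h8]

end g3

end Cfsg.Agent.Lib.Helper4.HU
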