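import Mathlib
import Cfsg.Agent.Lib.Helper4.HU3

set_option autoImplicit false

/-! Huppert's criterion: the class two endgame. -/

namespace Cfsg.Agent.Lib.Helper4.HU

open scoped commutatorElement
open Cfsg.Agent.Lib.Helper4.OQ Cfsg.Agent.Lib.Lead

universe u

section g4

variable {p : ℕ} [hp : Fact p.Prime]
variable {R : Type u} [Group R] [Finite R]

/-- the class two endgame: the derived subgroup lies in a central subgroup of order dividing `p`. -/
theorem endgame (hp2 : p ≠ 2) (hR : IsPGroup p R) (hW : Nat.card (Om p R) ≤ p ^ 2)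
    (z : R) (hzc : z ∈ Subgroup.center R) (hzp : z ^ p = 1)
    (hcomm : commutator R ≤ Subgroup.zpowers z) : Cfsg.IsMetacyclic R := by
  classical
  have hp1 := hp.out.one_lt
  set φ := powHom hp2 z hzc hzp hcomm with hφ
  haveI hφn : φ.range.Normal := powHom_range_normal hp2 z hzc hzp hcomm
  -- the kernel
  have hker : φ.ker ≤ Om p R := by
    intro g hg
    rw [MonoidHom.mem_ker, hφ, powHom_apply] at hg
    exact mem_Om_of_pow hg
  have hkercard : Nat.card φ.ker ≤ p ^ 2 := (Subgroup.card_le_of_le hker).trans hW
  have hidx : φ.range.index = Nat.card φ.ker := by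
    have h1 : Nat.card R = Nat.card φ.ker * Nat.card φ.range := by
      rw [Subgroup.card_eq_card_quotient_mul_card_subgroup φ.ker,
        Nat.card_congr (QuotientGroup.quotientKerEquivRange φ).toEquiv, mul_comm]
    have h2 := φ.range.card_mul_index
    rw [h1] at h2
    have h3 : 0 < Nat.card φ.range := Nat.card_pos
    have h4 : Nat.card φ.range * φ.range.index = Nat.card φ.range * Nat.card φ.ker := by
      rw [h2, mul_comm]
    exact Nat.eq_of_mul_eq_mul_left h3 h4
  -- the derived subgroup lies in the range
  have hQcomm : ∀ a b : R ⧸ φ.range, a * b = b * a := by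
    apply comm_of_card_le_sq (hR.to_quotient φ.range)
    rw [← Subgroup.index_eq_card, hidx]
    exact hkercard
  have hcr : commutator R ≤ φ.range := by
    have h1 := Cfsg.Agent.Lib.Helper4.Rk2.commutator_le_ker_of_comm (QuotientGroup.mk' φ.range)
      (fun a b => hQcomm _ _)
    rwa [QuotientGroup.ker_mk'] at h1
  -- the Frattini subgroup
  have hfr : frattini R = φ.range := by
    apply le_antisymm
    · exact frattini_le_of_elementary_quotient (p := p) φ.range hcr (fun x => ⟨x, rfl⟩)
    · rintro a ⟨x, rfl⟩
      rw [hφ, powHom_apply]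
      exact pow_mem_frattini_of_isPGroup hR x
  obtain ⟨n, hn⟩ := hR.index (frattini R)
  have hn2 : n ≤ 2 := by
    have h1 : (frattini R).index ≤ p ^ 2 := by rw [hfr, hidx]; exact hkercard
    rw [hn] at h1
    exact (Nat.pow_le_pow_iff_right hp1).mp h1
  by_cases hn1 : n ≤ 1
  · haveI := HallSymp.isCyclic_of_frattini_index_le hR n hn hn1
    exact isMetacyclic_of_isCyclic
  have hn' : n = 2 := by omega
  subst hn'
  -- a maximal element
  let S := {w : R // z ∈ Subgroup.zpowers w}
  haveI : Nonempty S := ⟨⟨z, Subgroup.mem_zpowers z⟩⟩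
  obtain ⟨⟨w, hw⟩, hmax⟩ := Finite.exists_max (fun s : S => orderOf s.1)
  have hRnt : ∃ u : R, u ≠ 1 := by
    by_contra hcon
    push Not at hcon
    have h1 : frattini R = ⊤ := by
      rw [eq_top_iff]
      intro x _
      rw [hcon x]; exact Subgroup.one_mem _
    rw [h1, Subgroup.index_top] at hn
    have : 1 < p ^ 2 := Nat.one_lt_pow (by norm_num) hp1
    omega
  have hw1 : w ≠ 1 := by
    intro h
    rw [h, Subgroup.zpowers_one_eq_bot, Subgroup.mem_bot] at hw
    obtain ⟨u, hu⟩ := hRnt
    have h1 := hmax ⟨u, by rw [hw]; exact Subgroup.one_mem _⟩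
    simp only [h, orderOf_one] at h1
    have h2 : 0 < orderOf u := orderOf_pos u
    have h3 : orderOf u = 1 := by omega
    exact hu (orderOf_eq_one_iff.mp h3)
  have hwΦ : w ∉ frattini R := by
    intro h
    rw [hfr] at h
    obtain ⟨v, hv⟩ := h
    rw [hφ, powHom_apply] at hv
    have hv1 : v ≠ 1 := by
      intro h0
      rw [h0, one_pow] at hv
      exact hw1 hv.symm
    have hvS : z ∈ Subgroup.zpowers v := by
      have h1 : Subgroup.zpowers w ≤ Subgroup.zpowers v := by
        rw [Subgroup.zpowers_le, ← hv]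
        exact Subgroup.pow_mem _ (Subgroup.mem_zpowers v) p
      exact h1 hw
    have h1 := hmax ⟨v, hvS⟩
    simp only at h1
    have hdvd : p ∣ orderOf v := hR.dvd_orderOf hv1
    have h2 : orderOf w = orderOf v / p := by
      rw [← hv]
      exact orderOf_pow_of_dvd hp.out.ne_zero hdvd
    have h3 : orderOf w * p = orderOf v := by
      rw [h2]; exact Nat.div_mul_cancel hdvd
    have h4 : 0 < orderOf w := orderOf_pos w
    nlinarith
  obtain ⟨y, hy⟩ := exists_second_gen hR hn w hwΦ
  have hwn : (Subgroup.zpowers w).Normal := by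
    apply normal_of_commutator_le
    exact hcomm.trans (Subgroup.zpowers_le.mpr hw)
  exact isMetacyclic_of_gen w y hwn hy

end g4

end Cfsg.Agent.Lib.Helper4.HU
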