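import Mathlib
import Cfsg.Agent.Lib.Helper4.HU4

set_option autoImplicit false

/-! Huppert's criterion: the reduction step. -/

namespace Cfsg.Agent.Lib.Helper4.HU

open scoped commutatorElement
open Cfsg.Agent.Lib.Helper4.OQ Cfsg.Agent.Lib.Lead

universe u

section g5

variable {R : Type u} [Group R]

/-- the commutator with a fixed element as an endomorphism of an abelian normal subgroup. -/
def commEnd (K : Subgroup R) [hKn : K.Normal] (hKab : ∀ x ∈ K, ∀ y ∈ K, x * y = y * x) (r : R) :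
    ↥K →* ↥K where
  toFun x := ⟨⁅(x : R), r⁆, by
    rw [commutatorElement_def, mul_assoc, mul_assoc]
    apply K.mul_mem x.2
    rw [← mul_assoc]
    exact hKn.conj_mem _ (K.inv_mem x.2) r⟩
  map_one' := by
    apply Subtype.ext
    simp
  map_mul' x y := by
    apply Subtype.ext
    have hy : ⁅(y : R), r⁆ ∈ K := by
      rw [commutatorElement_def, mul_assoc, mul_assoc]
      apply K.mul_mem y.2
      rw [← mul_assoc]
      exact hKn.conj_mem _ (K.inv_mem y.2) r
    have h1 : ⁅((x * y : ↥K) : R), r⁆ = (x : R) * ⁅(y : R), r⁆ * (x : R)⁻¹ * ⁅(x : R), r⁆ := by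
      rw [Subgroup.coe_mul]
      simp only [commutatorElement_def]
      group
    have h2 : (x : R) * ⁅(y : R), r⁆ * (x : R)⁻¹ = ⁅(y : R), r⁆ := by
      rw [hKab _ x.2 _ hy, mul_assoc, mul_inv_cancel, mul_one]
    have hx : ⁅(x : R), r⁆ ∈ K := by
      rw [commutatorElement_def, mul_assoc, mul_assoc]
      apply K.mul_mem x.2
      rw [← mul_assoc]
      exact hKn.conj_mem _ (K.inv_mem x.2) r
    show ⁅((x * y : ↥K) : R), r⁆ = ⁅(x : R), r⁆ * ⁅(y : R), r⁆
    rw [h1, h2, hKab _ hy _ hx]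

@[simp] theorem commEnd_coe (K : Subgroup R) [hKn : K.Normal]
    (hKab : ∀ x ∈ K, ∀ y ∈ K, x * y = y * x) (r : R) (x : ↥K) :
    ((commEnd K hKab r x : ↥K) : R) = ⁅(x : R), r⁆ := rfl

end g5

end Cfsg.Agent.Lib.Helper4.HU
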