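import Mathlib
import Cfsg.Agent.Lib.Helper4.HU5
import Cfsg.Agent.Lib.Helper4.Rk2f

set_option autoImplicit false

/-! Huppert's criterion: the reduction step. -/

namespace Cfsg.Agent.Lib.Helper4.HU

open scoped commutatorElement
open Cfsg.Agent.Lib.Helper4.OQ Cfsg.Agent.Lib.Lead

universe u

section g6

variable {R : Type u} [Group R]

/-- the derived subgroup of `⟨r⟩ K` for an abelian normal `K = ⟨k⟩ ⟨z⟩`, `z` central. -/
theorem commutator_le_zpowers (z : R) (hzc : z ∈ Subgroup.center R)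
    (K : Subgroup R) [hKn : K.Normal] (hzK : z ∈ K) (k : R) (hk : k ∈ K)
    (hKgen : ∀ x ∈ K, ∃ i j : ℤ, x = k ^ i * z ^ j)
    (r : R) (hr : ∀ g : R, ∃ i : ℤ, ∃ x ∈ K, g = r ^ i * x) :
    commutator R ≤ Subgroup.zpowers ⁅k, r⁆ := by
  have hzcomm : ∀ g : R, g * z = z * g := fun g => Subgroup.mem_center_iff.mp hzc g
  have hKab : ∀ x ∈ K, ∀ y ∈ K, x * y = y * x := by
    intro x hx y hy
    obtain ⟨i, j, rfl⟩ := hKgen x hx
    obtain ⟨i', j', rfl⟩ := hKgen y hy
    have h1 : Commute z k := (hzcomm k).symm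
    have h2 : Commute (k ^ i) (k ^ i') := (Commute.refl k).zpow_zpow i i'
    have h3 : Commute (k ^ i) (z ^ j') := (h1.symm.zpow_zpow i j')
    have h4 : Commute (z ^ j) (k ^ i') := (h1.zpow_zpow j i')
    have h5 : Commute (z ^ j) (z ^ j') := (Commute.refl z).zpow_zpow j j'
    exact ((h2.mul_right h3).mul_left (h4.mul_right h5)).eq
  set ψ := commEnd K hKab r with hψ
  set c := ⁅k, r⁆ with hc
  have hcK : c ∈ K := (ψ ⟨k, hk⟩).2
  have hψz : ψ ⟨z, hzK⟩ = 1 := by
    apply Subtype.ext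
    rw [commEnd_coe, Subgroup.coe_one, commutatorElement_eq_one_iff_mul_comm]
    exact (hzcomm r).symm
  have hψmem : ∀ x ∈ K, ⁅x, r⁆ ∈ Subgroup.zpowers c := by
    intro x hx
    obtain ⟨i, j, hxe⟩ := hKgen x hx
    have h1 : (⟨x, hx⟩ : ↥K) = ⟨k, hk⟩ ^ i * ⟨z, hzK⟩ ^ j := by
      apply Subtype.ext
      rw [Subgroup.coe_mul, Subgroup.coe_zpow, Subgroup.coe_zpow]
      exact hxe
    have h2 : ψ ⟨x, hx⟩ = ψ ⟨k, hk⟩ ^ i := by
      rw [h1, map_mul, map_zpow, map_zpow, hψz, one_zpow, mul_one]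
    have h3 := congrArg (Subtype.val) h2
    rw [commEnd_coe, Subgroup.coe_zpow, commEnd_coe] at h3
    rw [h3]
    exact Subgroup.zpow_mem_zpowers _ i
  set I := Subgroup.zpowers c with hI
  have hIK : I ≤ K := Subgroup.zpowers_le.mpr hcK
  -- every element of `I` is a commutator
  have hIform : ∀ y ∈ I, ∃ x ∈ K, y = ⁅x, r⁆ := by
    intro y hy
    obtain ⟨i, rfl⟩ := Subgroup.mem_zpowers_iff.mp hy
    refine ⟨((⟨k, hk⟩ : ↥K) ^ i : ↥K), (((⟨k, hk⟩ : ↥K) ^ i : ↥K)).2, ?_⟩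
    have h2 : ψ (⟨k, hk⟩ ^ i) = ψ ⟨k, hk⟩ ^ i := map_zpow _ _ _
    have h3 := congrArg (Subtype.val) h2
    rw [Subgroup.coe_zpow] at h3
    exact h3.symm
  -- normality
  have hrI : r ∈ Subgroup.normalizer (I : Set R) := by
    rw [Subgroup.mem_normalizer_iff]
    intro y
    constructor
    · intro hy
      obtain ⟨x, hx, rfl⟩ := hIform y hy
      have h1 : r * ⁅x, r⁆ * r⁻¹ = ⁅r * x * r⁻¹, r⁆ := by
        simp only [commutatorElement_def]; group
      rw [h1]
      exact hψmem _ (hKn.conj_mem x hx r)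
    · intro hy
      obtain ⟨x, hx, hxe⟩ := hIform _ hy
      have h1 : y = ⁅r⁻¹ * x * r, r⁆ := by
        have h2 : y = r⁻¹ * (r * y * r⁻¹) * r := by group
        rw [h2, hxe]
        simp only [commutatorElement_def]; group
      rw [h1]
      apply hψmem
      have := hKn.conj_mem x hx r⁻¹
      rwa [inv_inv] at this
  have hKI : K ≤ Subgroup.normalizer (I : Set R) := by
    apply Cfsg.Agent.Lib.Helper4.Rk2.le_normalizer_of_conj_mem K I
    intro g hg y hy
    rw [hKab g hg y (hIK hy), mul_assoc, mul_inv_cancel, mul_one]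
    exact hy
  have hIn : I.Normal := by
    rw [← Subgroup.normalizer_eq_top_iff, eq_top_iff]
    intro g _
    obtain ⟨i, x, hx, rfl⟩ := hr g
    exact Subgroup.mul_mem _ (Subgroup.zpow_mem _ hrI i) (hKI hx)
  -- the quotient is abelian
  have hcomm_r : ∀ x ∈ K, (QuotientGroup.mk' I) x * (QuotientGroup.mk' I) r =
      (QuotientGroup.mk' I) r * (QuotientGroup.mk' I) x := by
    intro x hx
    have h1 : ⁅x, r⁆ ∈ I := hψmem x hx
    have h2 : (QuotientGroup.mk' I) ⁅x, r⁆ = 1 := by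
      rw [QuotientGroup.mk'_apply, QuotientGroup.eq_one_iff]; exact h1
    rw [map_commutatorElement, commutatorElement_eq_one_iff_mul_comm] at h2
    exact h2
  have hQ : ∀ a b : R ⧸ I, a * b = b * a := by
    intro a b
    obtain ⟨g, rfl⟩ := QuotientGroup.mk'_surjective I a
    obtain ⟨h, rfl⟩ := QuotientGroup.mk'_surjective I b
    obtain ⟨i, x, hx, rfl⟩ := hr g
    obtain ⟨j, y, hy, rfl⟩ := hr h
    have e1 : Commute ((QuotientGroup.mk' I) x) ((QuotientGroup.mk' I) r) := hcomm_r x hx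
    have e2 : Commute ((QuotientGroup.mk' I) y) ((QuotientGroup.mk' I) r) := hcomm_r y hy
    have e3 : Commute ((QuotientGroup.mk' I) x) ((QuotientGroup.mk' I) y) := by
      show _ * _ = _ * _
      rw [← map_mul, ← map_mul, hKab x hx y hy]
    have e4 : Commute ((QuotientGroup.mk' I) r) ((QuotientGroup.mk' I) r) := Commute.refl _
    simp only [map_mul, map_zpow]
    have f1 : Commute ((QuotientGroup.mk' I) r ^ i) ((QuotientGroup.mk' I) r ^ j) := e4.zpow_zpow i j
    have f2 : Commute ((QuotientGroup.mk' I) r ^ i) ((QuotientGroup.mk' I) y) := (e2.symm.zpow_left i)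
    have f3 : Commute ((QuotientGroup.mk' I) x) ((QuotientGroup.mk' I) r ^ j) := (e1.zpow_right j)
    exact ((f1.mul_right f2).mul_left (f3.mul_right e3)).eq
  have h1 := Cfsg.Agent.Lib.Helper4.Rk2.commutator_le_ker_of_comm (QuotientGroup.mk' I)
    (fun a b => hQ _ _)
  rwa [QuotientGroup.ker_mk'] at h1

end g6

end Cfsg.Agent.Lib.Helper4.HU
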