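import Mathlib
import Cfsg.Agent.Lib.Helper4.HU6

set_option autoImplicit false

/-! Huppert's criterion: the reduction step. -/

namespace Cfsg.Agent.Lib.Helper4.HU

open scoped commutatorElement
open Cfsg.Agent.Lib.Helper4.OQ Cfsg.Agent.Lib.Lead

universe u

section g7

variable {p : ℕ} [hp : Fact p.Prime]
variable {R : Type u} [Group R] [Finite R]

theorem cyclic_or_derived_le (hR : IsPGroup p R) (z : R) (hzc : z ∈ Subgroup.center R)
    (hzR : z ∈ commutator R)
    (K : Subgroup R) [hKn : K.Normal] (hzK : z ∈ K) (k : R) (hk : k ∈ K)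
    (hKgen : ∀ x ∈ K, ∃ i j : ℤ, x = k ^ i * z ^ j)
    (r : R) (hr : ∀ g : R, ∃ i : ℤ, ∃ x ∈ K, g = r ^ i * x) :
    IsCyclic K ∨ commutator R ≤ Subgroup.zpowers z := by
  have h1 := commutator_le_zpowers z hzc K hzK k hk hKgen r hr
  set c := ⁅k, r⁆ with hc
  have hcK : c ∈ K := by
    rw [hc, commutatorElement_def, mul_assoc, mul_assoc]
    apply K.mul_mem hk
    rw [← mul_assoc]
    exact hKn.conj_mem _ (K.inv_mem hk) r
  obtain ⟨m, hm⟩ := Subgroup.mem_zpowers_iff.mp (h1 hzR)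
  by_cases hpm : (p : ℤ) ∣ m
  · left
    obtain ⟨m', rfl⟩ := hpm
    have hKp : IsPGroup p ↥K := hR.to_subgroup K
    have hzΦ : (⟨z, hzK⟩ : ↥K) ∈ frattini ↥K := by
      have h2 : (⟨z, hzK⟩ : ↥K) = ((⟨c, hcK⟩ : ↥K) ^ m') ^ p := by
        apply Subtype.ext
        rw [Subgroup.coe_pow, Subgroup.coe_zpow]
        show z = (c ^ m') ^ p
        rw [← hm, mul_comm, zpow_mul, zpow_natCast]
      rw [h2]
      exact pow_mem_frattini_of_isPGroup hKp _
    have htop : Subgroup.zpowers (⟨k, hk⟩ : ↥K) ⊔ frattini ↥K = ⊤ := by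
      rw [eq_top_iff]
      intro x _
      obtain ⟨i, j, hx⟩ := hKgen x x.2
      have h3 : x = (⟨k, hk⟩ : ↥K) ^ i * (⟨z, hzK⟩ : ↥K) ^ j := by
        apply Subtype.ext
        rw [Subgroup.coe_mul, Subgroup.coe_zpow, Subgroup.coe_zpow]
        exact hx
      rw [h3]
      exact Subgroup.mul_mem_sup (Subgroup.zpow_mem_zpowers _ i) (Subgroup.zpow_mem _ hzΦ j)
    have h4 : Subgroup.zpowers (⟨k, hk⟩ : ↥K) = ⊤ := frattini_nongenerating htop
    exact isCyclic_iff_exists_zpowers_eq_top.mpr ⟨_, h4⟩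
  · right
    apply h1.trans
    rw [Subgroup.zpowers_le]
    obtain ⟨e, he⟩ := (IsPGroup.iff_orderOf.mp hR) c
    have hcop : IsCoprime ((p : ℤ) ^ e) m := by
      apply IsCoprime.pow_left
      have hpi : Prime (p : ℤ) := Nat.prime_iff_prime_int.mp hp.out
      exact (Prime.coprime_iff_not_dvd hpi).mpr hpm
    obtain ⟨u, v, huv⟩ := hcop
    have h5 : c = z ^ v := by
      have h6 : c ^ ((p : ℤ) ^ e) = 1 := by
        have : ((p : ℤ) ^ e) = ((p ^ e : ℕ) : ℤ) := by push_cast; rfl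
        rw [this, zpow_natCast, ← he, pow_orderOf_eq_one]
      calc c = c ^ (u * (p : ℤ) ^ e + v * m) := by rw [huv, zpow_one]
        _ = (c ^ ((p : ℤ) ^ e)) ^ u * (c ^ m) ^ v := by
          rw [zpow_add, mul_comm u, zpow_mul, mul_comm v, zpow_mul]
        _ = z ^ v := by rw [h6, one_zpow, one_mul, hm]
    rw [h5]
    exact Subgroup.zpow_mem_zpowers z v

end g7

end Cfsg.Agent.Lib.Helper4.HU
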