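import Mathlib
import Cfsg.Agent.Lib.Helper4.HU7

set_option autoImplicit false

/-! Huppert's criterion. -/

namespace Cfsg.Agent.Lib.Helper4.HU

open scoped commutatorElement
open Cfsg.Agent.Lib.Helper4.OQ Cfsg.Agent.Lib.Lead

universe u

section g8

variable {p : ℕ} [hp : Fact p.Prime]

theorem huppert (hp3 : 3 < p) (n : ℕ) : ∀ (R : Type u) [Group R] [Finite R], Nat.card R = n →
    IsPGroup p R → Nat.card (Om p R) ≤ p ^ 2 → Cfsg.IsMetacyclic R := by
  induction n using Nat.strong_induction_on with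
  | _ n ih =>
  intro R _ _ hn hR hW
  have hp2 : p ≠ 2 := by omega
  haveI : Group.IsNilpotent R := hR.isNilpotent
  by_cases hab : commutator R = ⊥
  · exact endgame hp2 hR hW 1 (Subgroup.one_mem _) (one_pow _) (by rw [hab]; exact bot_le)
  · have h1 := inf_center_ne_bot (commutator R) hab
    have h2 : p ∣ Nat.card ↥(commutator R ⊓ Subgroup.center R) := by
      obtain ⟨k, hk⟩ := (IsPGroup.iff_card).mp (hR.to_subgroup (commutator R ⊓ Subgroup.center R))
      rw [hk]
      apply dvd_pow_self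
      intro h0
      rw [h0, pow_zero] at hk
      exact h1 (Subgroup.card_eq_one.mp hk)
    obtain ⟨z, hz⟩ := exists_prime_orderOf_dvd_card' p h2
    set z₀ : R := (z : R) with hz₀
    have hzo : orderOf z₀ = p := by rw [hz₀, Subgroup.orderOf_coe]; exact hz
    have hzc : z₀ ∈ Subgroup.center R := (Subgroup.mem_inf.mp z.2).2
    have hzR : z₀ ∈ commutator R := (Subgroup.mem_inf.mp z.2).1
    have hzp : z₀ ^ p = 1 := by rw [← hzo]; exact pow_orderOf_eq_one z₀
    set N := Subgroup.zpowers z₀ with hN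
    have hNZ : N ≤ Subgroup.center R := by rw [hN, Subgroup.zpowers_le]; exact hzc
    haveI hNn : N.Normal := normal_of_le_center N hNZ
    have hNp : Nat.card N = p := by rw [hN, Nat.card_zpowers, hzo]
    have hQ : Nat.card (Om p (R ⧸ N)) ≤ p ^ 2 := full hp3 (Nat.card R) R rfl hR hW N
    have hlt : Nat.card (R ⧸ N) < n := by
      have h4 := card_quotient_mul N
      rw [hNp, hn] at h4
      have h5 : 0 < Nat.card (R ⧸ N) := Nat.card_pos
      have h6 : 1 < p := hp.out.one_lt
      nlinarith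
    obtain ⟨Kb, hKbn, hKbc, hKbq⟩ := ih _ hlt (R ⧸ N) rfl (hR.to_quotient N) hQ
    set K : Subgroup R := Kb.comap (QuotientGroup.mk' N) with hK
    haveI hKn : K.Normal := hKbn.comap _
    have hzK : z₀ ∈ K := by
      rw [hK, Subgroup.mem_comap]
      have : (QuotientGroup.mk' N) z₀ = 1 := by
        rw [QuotientGroup.mk'_apply, QuotientGroup.eq_one_iff]
        exact Subgroup.mem_zpowers z₀
      rw [this]; exact Subgroup.one_mem _
    obtain ⟨⟨kb, hkb⟩, hgen⟩ := hKbc.exists_generator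
    obtain ⟨k, rfl⟩ := QuotientGroup.mk'_surjective N kb
    have hk : k ∈ K := hkb
    have hKgen : ∀ x ∈ K, ∃ i j : ℤ, x = k ^ i * z₀ ^ j := by
      intro x hx
      have hx' : (QuotientGroup.mk' N) x ∈ Kb := hx
      obtain ⟨i, hi⟩ := Subgroup.mem_zpowers_iff.mp (hgen ⟨_, hx'⟩)
      have hi' := congrArg Subtype.val hi
      rw [Subgroup.coe_zpow] at hi'
      simp only at hi'
      have h3 : (k ^ i)⁻¹ * x ∈ N := by
        rw [← QuotientGroup.eq_one_iff, QuotientGroup.mk_mul, QuotientGroup.mk_inv,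
          QuotientGroup.mk_zpow]
        rw [QuotientGroup.mk'_apply, QuotientGroup.mk'_apply] at hi'
        rw [hi', inv_mul_cancel]
      obtain ⟨j, hj⟩ := Subgroup.mem_zpowers_iff.mp h3
      refine ⟨i, j, ?_⟩
      rw [hj]; group
    obtain ⟨q, hq⟩ := hKbq.exists_generator
    obtain ⟨q', rfl⟩ := QuotientGroup.mk'_surjective Kb q
    obtain ⟨r, rfl⟩ := QuotientGroup.mk'_surjective N q'
    have hr : ∀ g : R, ∃ i : ℤ, ∃ x ∈ K, g = r ^ i * x := by
      intro g
      obtain ⟨i, hi⟩ := Subgroup.mem_zpowers_iff.mp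
        (hq ((QuotientGroup.mk' Kb) ((QuotientGroup.mk' N) g)))
      refine ⟨i, (r ^ i)⁻¹ * g, ?_, by group⟩
      rw [hK, Subgroup.mem_comap, map_mul, map_inv, map_zpow]
      rw [← QuotientGroup.eq_one_iff, ← QuotientGroup.mk'_apply, map_mul, map_inv, map_zpow, hi,
        inv_mul_cancel]
    rcases cyclic_or_derived_le hR z₀ hzc hzR K hzK k hk hKgen r hr with hcyc | hle
    · refine ⟨K, hKn, hcyc, ⟨⟨(QuotientGroup.mk' K) r, ?_⟩⟩⟩
      intro y
      obtain ⟨g, rfl⟩ := QuotientGroup.mk'_surjective K y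
      obtain ⟨i, x, hx, rfl⟩ := hr g
      refine ⟨i, ?_⟩
      show (QuotientGroup.mk' K) r ^ i = _
      rw [map_mul, map_zpow]
      have : (QuotientGroup.mk' K) x = 1 := by
        rw [QuotientGroup.mk'_apply, QuotientGroup.eq_one_iff]; exact hx
      rw [this, mul_one]
    · exact endgame hp2 hR hW z₀ hzc hzp hle

end g8

end Cfsg.Agent.Lib.Helper4.HU
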