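import Mathlib
import Cfsg.Prelude.Def_OddOrderLocal
import Cfsg.Agent.Lib.Helper7.Meta5
import Cfsg.Agent.Lib.Lead.OmegaAut
import Cfsg.Agent.Lib.Lead.Special

set_option autoImplicit false

/-!
# Coprime action on metacyclic `p`-groups, `p` odd: the core case `|R'| = p`
-/

namespace Cfsg.Agent.Lib.Helper4.MetaOdd

open scoped commutatorElement
open Cfsg.Agent.Lib.Helper7.Meta

section classTwo
variable {R : Type*} [Group R]

theorem c2_mul_left (hc : ∀ a b : R, ⁅a, b⁆ ∈ Subgroup.center R) (a b c : R) :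
    ⁅a * b, c⁆ = ⁅a, c⁆ * ⁅b, c⁆ := by
  rw [commutatorElement_mul_left_eq_conj_mul]
  have h1 : a * ⁅b, c⁆ * a⁻¹ = ⁅b, c⁆ := by
    rw [Subgroup.mem_center_iff.mp (hc b c) a, mul_assoc, mul_inv_cancel, mul_one]
  rw [h1]
  exact Subgroup.mem_center_iff.mp (hc a c) ⁅b, c⁆

theorem c2_mul_right (hc : ∀ a b : R, ⁅a, b⁆ ∈ Subgroup.center R) (a b c : R) :
    ⁅a, b * c⁆ = ⁅a, b⁆ * ⁅a, c⁆ := by
  rw [commutatorElement_mul_right_eq_mul_conj]
  rw [mul_assoc ⁅a, b⁆ b, Subgroup.mem_center_iff.mp (hc a c) b, ← mul_assoc, mul_assoc _ b,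
    mul_inv_cancel, mul_one]

theorem c2_pow_left (hc : ∀ a b : R, ⁅a, b⁆ ∈ Subgroup.center R) (x y : R) (n : ℕ) :
    ⁅x ^ n, y⁆ = ⁅x, y⁆ ^ n :=
  Cfsg.Agent.Lib.Lead.commutatorElement_pow_left x y
    (Subgroup.mem_center_iff.mp (hc x y) x).symm n

theorem c2_pow_right (hc : ∀ a b : R, ⁅a, b⁆ ∈ Subgroup.center R) (x y : R) (n : ℕ) :
    ⁅x, y ^ n⁆ = ⁅x, y⁆ ^ n := by
  rw [← commutatorElement_inv (y ^ n) x, c2_pow_left hc, ← commutatorElement_inv y x, inv_pow]

theorem c2_inv_right (hc : ∀ a b : R, ⁅a, b⁆ ∈ Subgroup.center R) (x y : R) :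
    ⁅x, y⁻¹⁆ = ⁅x, y⁆⁻¹ := by
  have h := c2_mul_right hc x y y⁻¹
  rw [mul_inv_cancel, commutatorElement_one_right] at h
  exact eq_inv_of_mul_eq_one_right h.symm

theorem c2_central_left (x y z : R) (hz : z ∈ Subgroup.center R) : ⁅z * x, y⁆ = ⁅x, y⁆ := by
  have h1 : ∀ g : R, g * z = z * g := Subgroup.mem_center_iff.mp hz
  rw [commutatorElement_def, commutatorElement_def, mul_inv_rev]
  calc z * x * y * (x⁻¹ * z⁻¹) * y⁻¹ = x * y * x⁻¹ * (z * z⁻¹) * y⁻¹ := by
        rw [← h1 x, mul_assoc x z y, ← h1 y, ← mul_assoc, ← mul_assoc, ← mul_assoc,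
          mul_assoc (x * y) z, ← h1 x⁻¹, ← mul_assoc]
    _ = x * y * x⁻¹ * y⁻¹ := by rw [mul_inv_cancel, mul_one]

end classTwo

theorem c2_inv_left {R : Type*} [Group R] (hc : ∀ a b : R, ⁅a, b⁆ ∈ Subgroup.center R) (x y : R) :
    ⁅x⁻¹, y⁆ = ⁅x, y⁆⁻¹ := by
  have h := c2_mul_left hc x x⁻¹ y
  rw [mul_inv_cancel, commutatorElement_one_left] at h
  exact eq_inv_of_mul_eq_one_right h.symm

/-- if `H < K` in a finite `p`-group then `p * |H| ≤ |K|` -/
theorem mul_card_le_of_lt {R : Type*} [Group R] [Finite R] {p : ℕ} [hp : Fact p.Prime]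
    (hR : IsPGroup p R) {H K : Subgroup R} (hHK : H ≤ K) (hne : H ≠ K) :
    p * Nat.card H ≤ Nat.card K := by
  obtain ⟨m, hm⟩ := Subgroup.card_dvd_of_le hHK
  obtain ⟨t, ht⟩ := IsPGroup.iff_card.mp (hR.to_subgroup K)
  have hm1 : m ≠ 1 := by
    rintro rfl
    rw [mul_one] at hm
    exact hne (Subgroup.eq_of_le_of_card_ge hHK hm.le)
  have hmd : m ∣ p ^ t := by rw [← ht, hm]; exact Dvd.intro_left _ rfl
  obtain ⟨i, -, hi⟩ := (Nat.dvd_prime_pow hp.out).mp hmd
  have hi0 : i ≠ 0 := by rintro rfl; exact hm1 (by rw [hi, pow_zero])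
  have hpm : p ≤ m := by
    rw [hi]
    calc p = p ^ 1 := (pow_one p).symm
      _ ≤ p ^ i := Nat.pow_le_pow_right hp.out.pos (Nat.one_le_iff_ne_zero.mpr hi0)
  rw [hm, mul_comm]
  exact Nat.mul_le_mul_left _ hpm

section core
variable {R : Type*} [Group R] [Finite R] {p : ℕ} [hp : Fact p.Prime]

/-- data for the class-two case -/
structure C2Data (p : ℕ) (R : Type*) [Group R] (c : R) : Prop where
  cp : c ^ p = 1
  c1 : c ≠ 1
  comm : commutator R = Subgroup.zpowers c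
  cZ : c ∈ Subgroup.center R
  cen_eq : ∀ z : R, z ∈ Subgroup.center R ↔ ∃ y : R, y ^ p = z
  idx : (Subgroup.center R).index = p ^ 2
  cpow : ∃ y : R, y ^ p = c

theorem exists_c2Data (hp2 : p ≠ 2) (hR : IsPGroup p R) (hm : Cfsg.IsMetacyclic R)
    (hD : Nat.card (commutator R) = p) : ∃ c : R, C2Data p R c := by
  obtain ⟨a, b, c, n, hd⟩ := exists_mcData hp2 hR hm
  have hn : n = 1 := by
    have h1 := hd.cd.card_commutator
    rw [hD] at h1
    have h2 : p ^ 1 = p ^ n := by rw [pow_one]; exact h1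
    exact (Nat.pow_right_injective hp.out.two_le h2).symm
  subst hn
  have hcd := hd.cd
  have hord : orderOf c = p := by rw [hcd.order, pow_one]
  have hcp : c ^ p = 1 := by rw [← hord]; exact pow_orderOf_eq_one c
  have hc1 : c ≠ 1 := by
    intro h
    rw [h, orderOf_one] at hord
    exact hp.out.one_lt.ne hord
  have hcZ : c ∈ Subgroup.center R := by
    rw [Subgroup.mem_center_iff]
    intro x
    obtain ⟨σ, hσ1, hσ⟩ := hcd.exists_action x
    have h1 := hσ c (Subgroup.mem_zpowers c)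
    rw [pow_eq_pow_mod σ hcp, hσ1, pow_one] at h1
    exact mul_inv_eq_iff_eq_mul.mp h1
  have hzc : Subgroup.zpowers c ≤ Subgroup.center R := Subgroup.zpowers_le.mpr hcZ
  have hc2 : ∀ x y : R, ⁅x, y⁆ ∈ Subgroup.center R := fun x y => hzc (hcd.comm_mem x y)
  have hZ : Subgroup.center R = agemo R (p ^ 1) := by
    haveI := hcd.K_normal 1
    rw [hd.agemo_eq_cdep le_rfl]
    exact hcd.cdep_K_eq_center.symm
  rw [pow_one] at hZ
  have hpowZ : ∀ x : R, x ^ p ∈ Subgroup.center R := fun x => hZ ▸ pow_mem_agemo p x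
  have hmul1 : ∀ x y : R, (x * y) ^ p = x ^ p * y ^ p :=
    Cfsg.Agent.Lib.Lead.mul_pow_of_class_two_odd hp2 hc2 hpowZ
  let φ : R →* R := { toFun := fun x => x ^ p, map_one' := one_pow _, map_mul' := hmul1 }
  have hcen : ∀ z : R, z ∈ Subgroup.center R ↔ ∃ y : R, y ^ p = z := by
    intro z
    constructor
    · intro hz
      rw [hZ] at hz
      have hle : agemo R p ≤ φ.range := by
        unfold agemo
        rw [Subgroup.closure_le]
        rintro x ⟨y, rfl⟩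
        exact ⟨y, rfl⟩
      obtain ⟨y, hy⟩ := hle hz
      exact ⟨y, hy⟩
    · rintro ⟨y, rfl⟩
      exact hpowZ y
  have hidx : (Subgroup.center R).index = p ^ 2 := by
    have := hcd.index_center hd.gen
    simpa using this
  refine ⟨c, hcp, hc1, hcd.comm, hcZ, hcen, hidx, ?_⟩
  -- `c` is a `p`-th power
  have hca := hd.c_mem
  rw [← mem_powers_iff_mem_zpowers] at hca
  obtain ⟨i, hi⟩ := (Submonoid.mem_powers_iff _ _).mp hca
  by_cases hap : a ^ p = 1
  · exfalso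
    -- then `a` is central
    have h1 : Subgroup.zpowers c = Subgroup.zpowers a := by
      apply Subgroup.eq_of_le_of_card_ge (Subgroup.zpowers_le.mpr hd.c_mem)
      rw [Nat.card_zpowers, Nat.card_zpowers, hord]
      exact Nat.le_of_dvd hp.out.pos (orderOf_dvd_of_pow_eq_one hap)
    have haZ : a ∈ Subgroup.center R := hzc (h1 ▸ Subgroup.mem_zpowers a)
    have h2 : ⁅a, b⁆ = 1 := by
      rw [commutatorElement_eq_one_iff_mul_comm]
      exact (Subgroup.mem_center_iff.mp haZ b).symm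
    have h3 := hcd.zpowers_comm_of_closure hd.gen
    rw [h2, Subgroup.zpowers_one_eq_bot] at h3
    apply hc1
    have : c ∈ (⊥ : Subgroup R) := h3 ▸ Subgroup.mem_zpowers c
    exact Subgroup.mem_bot.mp this
  · obtain ⟨f, hf⟩ := IsPGroup.iff_orderOf.mp hR a
    have hf2 : 2 ≤ f := by
      by_contra hlt
      apply hap
      apply orderOf_dvd_iff_pow_eq_one.mp
      rw [hf]
      have : f ≤ 1 := by omega
      calc p ^ f ∣ p ^ 1 := pow_dvd_pow p this
        _ = p := pow_one p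
    have h1 : a ^ (i * p) = 1 := by rw [pow_mul, hi, hcp]
    have h2 : p ^ 2 ∣ i * p := by
      calc p ^ 2 ∣ p ^ f := pow_dvd_pow p hf2
        _ = orderOf a := hf.symm
        _ ∣ i * p := orderOf_dvd_of_pow_eq_one h1
    have h3 : p ∣ i := by
      rw [pow_two] at h2
      exact Nat.dvd_of_mul_dvd_mul_right hp.out.pos h2
    obtain ⟨i', rfl⟩ := h3
    exact ⟨a ^ i', by rw [← pow_mul, mul_comm i' p]; exact hi⟩

theorem core_of_data (hp2 : p ≠ 2) (hR : IsPGroup p R) {c : R} (hcd : C2Data p R c)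
    (𝒜 : Set (MulAut R))
    (H1 : ∀ U : Subgroup R, U ≠ ⊤ → ∃ α ∈ 𝒜, ∃ x : R, α x * x⁻¹ ∉ U)
    (H2 : ∀ x : R, (∀ α ∈ 𝒜, α x * x⁻¹ ∈ Subgroup.center R) → x ∈ Subgroup.center R) :
    False := by
  classical
  have hzc : Subgroup.zpowers c ≤ Subgroup.center R := Subgroup.zpowers_le.mpr hcd.cZ
  have hcm : ∀ x y : R, ⁅x, y⁆ ∈ Subgroup.zpowers c := by
    intro x y
    rw [← hcd.comm]
    exact Subgroup.commutator_mem_commutator (Subgroup.mem_top x) (Subgroup.mem_top y)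
  have hc2 : ∀ x y : R, ⁅x, y⁆ ∈ Subgroup.center R := fun x y => hzc (hcm x y)
  have hpowZ : ∀ x : R, x ^ p ∈ Subgroup.center R := fun x => (hcd.cen_eq _).mpr ⟨x, rfl⟩
  have hmul1 : ∀ x y : R, (x * y) ^ p = x ^ p * y ^ p :=
    Cfsg.Agent.Lib.Lead.mul_pow_of_class_two_odd hp2 hc2 hpowZ
  have hmulk : ∀ (k : ℕ) (x y : R), (x * y) ^ p ^ k = x ^ p ^ k * y ^ p ^ k := by
    intro k
    induction k with
    | zero => intro x y; simp
    | succ k ih => intro x y; rw [pow_succ, pow_mul, pow_mul, pow_mul, ih, hmul1]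
  let ψ : ℕ → (R →* R) := fun k =>
    { toFun := fun x => x ^ p ^ k, map_one' := one_pow _, map_mul' := hmulk k }
  have hψ : ∀ k x, ψ k x = x ^ p ^ k := fun k x => rfl
  have hψα : ∀ (α : MulAut R) k x, ψ k (α x) = α (ψ k x) := by
    intro α k x
    rw [hψ, hψ, map_pow]
  have hdp : ∀ d ∈ Subgroup.zpowers c, d ^ p = 1 := by
    intro d hd
    obtain ⟨i, rfl⟩ := Subgroup.mem_zpowers_iff.mp hd
    rw [← zpow_natCast, ← zpow_mul, mul_comm, zpow_mul, zpow_natCast, hcd.cp, one_zpow]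
  haveI hzn : (Subgroup.zpowers c).Normal := ⟨fun z hz g => by
    have := Subgroup.mem_center_iff.mp (hzc hz) g
    rw [this, mul_assoc, mul_inv_cancel, mul_one]; exact hz⟩
  -- the level of `c`
  obtain ⟨e, he⟩ := IsPGroup.iff_card.mp hR
  have hex : ∃ j, c ∉ (ψ j).range := by
    refine ⟨e, ?_⟩
    rintro ⟨x, hx⟩
    rw [hψ, ← he, pow_card_eq_one'] at hx
    exact hcd.c1 hx.symm
  have hj₀spec : c ∉ (ψ (Nat.find hex)).range := Nat.find_spec hex
  have hj₀min : ∀ j < Nat.find hex, c ∈ (ψ j).range := fun j hj => by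
    by_contra h; exact Nat.find_min hex hj h
  have hj0 : Nat.find hex ≠ 0 := by
    intro h; apply hj₀spec; rw [h]; exact ⟨c, by rw [hψ, pow_zero, pow_one]⟩
  have hj1 : Nat.find hex ≠ 1 := by
    intro h; apply hj₀spec; rw [h]
    obtain ⟨y, hy⟩ := hcd.cpow
    exact ⟨y, by rw [hψ, pow_one]; exact hy⟩
  obtain ⟨k, hk⟩ : ∃ k, Nat.find hex = k + 1 := Nat.exists_eq_succ_of_ne_zero hj0
  have hk1 : 1 ≤ k := by omega
  obtain ⟨t₀, ht₀⟩ := hj₀min k (by omega)
  rw [hk] at hj₀spec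
  -- the two subgroups
  let S : Subgroup R := (ψ (k + 1)).range.comap (ψ k)
  let T : Subgroup R := (Subgroup.zpowers c ⊔ (ψ (k + 1)).range).comap (ψ k)
  have hmemS : ∀ x, x ∈ S ↔ ψ k x ∈ (ψ (k + 1)).range := fun x => Iff.rfl
  have hmemT : ∀ x, x ∈ T ↔ ψ k x ∈ Subgroup.zpowers c ⊔ (ψ (k + 1)).range := fun x => Iff.rfl
  have hZS : Subgroup.center R ≤ S := by
    intro z hz
    obtain ⟨y, rfl⟩ := (hcd.cen_eq z).mp hz
    rw [hmemS]
    exact ⟨y, by rw [hψ, hψ, ← pow_mul, pow_succ']⟩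
  have ht₀T : t₀ ∈ T := by
    rw [hmemT, ht₀]; exact Subgroup.mem_sup_left (Subgroup.mem_zpowers c)
  have ht₀S : t₀ ∉ S := by
    intro h
    rw [hmemS, ht₀] at h; exact hj₀spec h
  have ht₀Z : t₀ ∉ Subgroup.center R := fun h => ht₀S (hZS h)
  have hST : S ≤ T := fun x hx => (hmemT x).mpr (Subgroup.mem_sup_right ((hmemS x).mp hx))
  -- the action on `c`
  have hαc : ∀ α : MulAut R, ∃ χ : ℕ, α c = c ^ χ ∧ ¬ p ∣ χ := by
    intro α
    have h1 : α c ∈ commutator R := by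
      have hchar : (commutator R).Characteristic := inferInstance
      have h2 := (Subgroup.characteristic_iff_map_le.mp hchar) α
      apply h2
      exact ⟨c, by rw [hcd.comm]; exact Subgroup.mem_zpowers c, rfl⟩
    rw [hcd.comm, ← mem_powers_iff_mem_zpowers] at h1
    obtain ⟨χ, hχ⟩ := (Submonoid.mem_powers_iff _ _).mp h1
    refine ⟨χ, hχ.symm, ?_⟩
    rintro ⟨m, rfl⟩
    rw [pow_mul, hcd.cp, one_pow] at hχ
    apply hcd.c1
    have : α c = α 1 := by rw [← hχ, map_one]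
    exact α.injective this
  have hαd : ∀ (α : MulAut R) (χ : ℕ), α c = c ^ χ → ∀ d ∈ Subgroup.zpowers c, α d = d ^ χ := by
    intro α χ hχ d hd
    obtain ⟨i, rfl⟩ := Subgroup.mem_zpowers_iff.mp hd
    rw [map_zpow, hχ, ← zpow_natCast, ← zpow_natCast, ← zpow_mul, ← zpow_mul, mul_comm]
  by_cases hSZ : S ≤ Subgroup.center R
  · -- Case 1
    have hU : Subgroup.centralizer ({t₀} : Set R) ≠ ⊤ := by
      intro h
      apply ht₀Z
      rw [Subgroup.mem_center_iff]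
      intro g
      have hg : g ∈ Subgroup.centralizer ({t₀} : Set R) := by rw [h]; trivial
      exact Subgroup.mem_centralizer_singleton_iff.mp hg
    obtain ⟨α, -, x, hx⟩ := H1 _ hU
    apply hx
    rw [Subgroup.mem_centralizer_singleton_iff]
    obtain ⟨χ, hχ, hχp⟩ := hαc α
    have hy : α t₀ * (t₀ ^ χ)⁻¹ ∈ Subgroup.center R := by
      apply hSZ
      rw [hmemS]
      have : ψ k (α t₀ * (t₀ ^ χ)⁻¹) = 1 := by
        rw [map_mul, map_inv, map_pow, hψα, ht₀, hχ, mul_inv_cancel]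
      rw [this]; exact Subgroup.one_mem _
    have e1 : ⁅α t₀, α x⁆ = ⁅t₀, x⁆ ^ χ := by
      rw [← map_commutatorElement, hαd α χ hχ _ (hcm t₀ x)]
    have e2 : ⁅α t₀, α x⁆ = ⁅t₀, α x⁆ ^ χ := by
      have : α t₀ = (α t₀ * (t₀ ^ χ)⁻¹) * t₀ ^ χ := by group
      rw [this, c2_central_left _ _ _ hy, c2_pow_left hc2]
    have e3 : ⁅t₀, α x * x⁻¹⁆ = ⁅t₀, α x⁆ * ⁅t₀, x⁆⁻¹ := by
      rw [c2_mul_right hc2, c2_inv_right hc2]
    have hcomm : Commute ⁅t₀, α x⁆ ⁅t₀, x⁆⁻¹ :=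
      (Subgroup.mem_center_iff.mp (hc2 t₀ (α x)) _).symm
    have e4 : ⁅t₀, α x * x⁻¹⁆ ^ χ = 1 := by
      rw [e3, hcomm.mul_pow, inv_pow, ← e2, e1, mul_inv_cancel]
    have e5 : ⁅t₀, α x * x⁻¹⁆ ^ p = 1 := hdp _ (hcm _ _)
    have e6 : ⁅t₀, α x * x⁻¹⁆ = 1 := by
      have hcop : Nat.Coprime χ p := ((Nat.Prime.coprime_iff_not_dvd hp.out).mpr hχp).symm
      have h1 : orderOf ⁅t₀, α x * x⁻¹⁆ ∣ Nat.gcd χ p :=
        Nat.dvd_gcd (orderOf_dvd_of_pow_eq_one e4) (orderOf_dvd_of_pow_eq_one e5)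
      rw [hcop] at h1
      exact orderOf_eq_one_iff.mp (Nat.dvd_one.mp h1)
    exact (commutatorElement_eq_one_iff_mul_comm.mp e6).symm
  · -- Case 2
    obtain ⟨s, hsS, hsZ⟩ := SetLike.not_le_iff_exists.mp hSZ
    have hcardZ : Nat.card (Subgroup.center R) * p ^ 2 = Nat.card R := by
      rw [← hcd.idx]; exact Subgroup.card_mul_index _
    have hZneS : Subgroup.center R ≠ S := fun h => hsZ (h ▸ hsS)
    have hSneT : S ≠ T := fun h => ht₀S (h ▸ ht₀T)
    have c1 := mul_card_le_of_lt hR hZS hZneS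
    have c2 := mul_card_le_of_lt hR hST hSneT
    have c3 : Nat.card T ≤ Nat.card R := Subgroup.card_le_card_group T
    have hT : T = ⊤ := by
      apply Subgroup.eq_top_of_card_eq
      nlinarith
    have hcardS : Nat.card S = p * Nat.card (Subgroup.center R) := by
      nlinarith [hp.out.pos]
    -- `S` centralizes `s`
    have hScomm : ∀ u ∈ S, s * u = u * s := by
      have hle : Subgroup.zpowers s ⊔ Subgroup.center R ≤ S :=
        sup_le (Subgroup.zpowers_le.mpr hsS) hZS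
      have hne : Subgroup.center R ≠ Subgroup.zpowers s ⊔ Subgroup.center R := by
        intro h
        apply hsZ
        rw [h]
        exact Subgroup.mem_sup_left (Subgroup.mem_zpowers s)
      have c4 := mul_card_le_of_lt hR (le_sup_right : Subgroup.center R ≤ Subgroup.zpowers s ⊔ Subgroup.center R) hne
      have heq : Subgroup.zpowers s ⊔ Subgroup.center R = S := by
        apply Subgroup.eq_of_le_of_card_ge hle
        rw [hcardS]; exact c4
      have hle2 : Subgroup.zpowers s ⊔ Subgroup.center R ≤ Subgroup.centralizer ({s} : Set R) := by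
        refine sup_le ?_ ?_
        · rw [Subgroup.zpowers_le, Subgroup.mem_centralizer_singleton_iff]
        · intro z hz
          rw [Subgroup.mem_centralizer_singleton_iff]
          exact (Subgroup.mem_center_iff.mp hz s).symm
      intro u hu
      rw [← heq] at hu
      exact (Subgroup.mem_centralizer_singleton_iff.mp (hle2 hu)).symm
    -- Claim A
    have hA : ∀ (α : MulAut R) (χ : ℕ), α c = c ^ χ → ∀ x : R, α x * (x ^ χ)⁻¹ ∈ S := by
      intro α χ hχ x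
      have hxT : x ∈ T := by rw [hT]; trivial
      rw [hmemT] at hxT
      obtain ⟨d, hd, w, hw, hdw⟩ := Subgroup.mem_sup_of_normal_left.mp hxT
      rw [hmemS]
      have hdχZ : d ^ χ ∈ Subgroup.center R := Subgroup.pow_mem _ (hzc hd) _
      have hdw' : Commute d w := (Subgroup.mem_center_iff.mp (hzc hd) w).symm
      have h1 : ψ k (α x * (x ^ χ)⁻¹) = α w * (w ^ χ)⁻¹ := by
        rw [map_mul, map_inv, map_pow, hψα, ← hdw, map_mul, hαd α χ hχ d hd, hdw'.mul_pow,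
          mul_inv_rev]
        have := Subgroup.mem_center_iff.mp hdχZ (α w)
        calc d ^ χ * α w * ((w ^ χ)⁻¹ * (d ^ χ)⁻¹) = α w * d ^ χ * ((w ^ χ)⁻¹ * (d ^ χ)⁻¹) := by
              rw [this]
          _ = α w * (d ^ χ * (w ^ χ)⁻¹) * (d ^ χ)⁻¹ := by group
          _ = α w * ((w ^ χ)⁻¹ * d ^ χ) * (d ^ χ)⁻¹ := by
              rw [← Subgroup.mem_center_iff.mp hdχZ ((w ^ χ)⁻¹)]
          _ = α w * (w ^ χ)⁻¹ := by group
      rw [h1]
      obtain ⟨w', rfl⟩ := hw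
      refine Subgroup.mul_mem _ (MonoidHom.mem_range.mpr ⟨α w', hψα α (k + 1) w'⟩)
        (Subgroup.inv_mem _ (Subgroup.pow_mem _ (MonoidHom.mem_range.mpr ⟨w', rfl⟩) _))
    apply hsZ
    apply H2
    intro α _
    obtain ⟨χ, hχ, hχp⟩ := hαc α
    rw [Subgroup.mem_center_iff]
    intro x'
    obtain ⟨x, hx'⟩ : ∃ x, α x = x' := ⟨α.symm x', α.apply_symm_apply x'⟩
    have hsx := hA α χ hχ x
    have e1 : ⁅α s, x'⁆ = ⁅s, x⁆ ^ χ := by
      rw [← hx', ← map_commutatorElement, hαd α χ hχ _ (hcm s x)]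
    have e2 : ⁅s, x'⁆ = ⁅s, x⁆ ^ χ := by
      have : x' = (α x * (x ^ χ)⁻¹) * x ^ χ := by rw [hx']; group
      rw [this, c2_mul_right hc2, c2_pow_right hc2,
        commutatorElement_eq_one_iff_mul_comm.mpr (hScomm _ hsx), one_mul]
    have e3 : ⁅α s * s⁻¹, x'⁆ = 1 := by
      rw [c2_mul_left hc2, c2_inv_left hc2, e1, e2, mul_inv_cancel]
    exact (commutatorElement_eq_one_iff_mul_comm.mp e3).symm

end core

end Cfsg.Agent.Lib.Helper4.MetaOdd
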