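import Mathlib
import Cfsg.Prelude.Def_OddOrderLocal
import Cfsg.Agent.Lib.Helper4.MetaOdd1
import Cfsg.Agent.Lib.Lead.Coprime

set_option autoImplicit false

/-!
# Coprime action on metacyclic `p`-groups, `p` odd: `R = [R, A]` forces `R` abelian
-/

namespace Cfsg.Agent.Lib.Helper4.MetaOdd

open scoped commutatorElement
open Cfsg.Agent.Lib.Helper7.Meta

universe u

theorem isMetacyclic_of_surjective {D E : Type*} [Group D] [Group E] (f : D →* E)
    (hf : Function.Surjective f) (h : Cfsg.IsMetacyclic D) : Cfsg.IsMetacyclic E := by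
  obtain ⟨N, hNn, hNc, hQc⟩ := h
  haveI := hNn
  haveI := hNc
  haveI := hQc
  have hNn' : (N.map f).Normal := Subgroup.Normal.map hNn _ hf
  haveI := hNn'
  refine ⟨N.map f, hNn', ?_, ?_⟩
  · exact isCyclic_of_surjective (f.subgroupMap N) (f.subgroupMap_surjective N)
  · let φ : D ⧸ N →* E ⧸ N.map f :=
      QuotientGroup.map N (N.map f) f (Subgroup.le_comap_map _ _)
    apply isCyclic_of_surjective φ
    intro q
    obtain ⟨y, rfl⟩ := QuotientGroup.mk_surjective q
    obtain ⟨x, rfl⟩ := hf y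
    exact ⟨QuotientGroup.mk x, rfl⟩

section Q
variable {Γ : Type*} [Group Γ] [Finite Γ]

/-- fixed points on abelian quotients of `R = [R, A]` are trivial -/
theorem mem_of_comm_mem (R L A : Subgroup Γ) [hRn : R.Normal] [hLn : L.Normal]
    (hRL : ⁅R, R⁆ ≤ L) (hcop : (Nat.card A).Coprime (Nat.card R)) (hRA : ⁅R, A⁆ = R)
    (x : Γ) (hx : x ∈ R) (hfix : ∀ a ∈ A, a * x * a⁻¹ * x⁻¹ ∈ L) : x ∈ L := by
  set π := QuotientGroup.mk' L with hπ
  have hπs : Function.Surjective π := QuotientGroup.mk'_surjective L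
  set V := R.map π with hV
  set B := A.map π with hB
  haveI hVn : V.Normal := Subgroup.Normal.map hRn π hπs
  haveI hVc : IsMulCommutative V := by
    refine ⟨⟨?_⟩⟩
    rintro ⟨_, r₁, h₁, rfl⟩ ⟨_, r₂, h₂, rfl⟩
    apply Subtype.ext
    show π r₁ * π r₂ = π r₂ * π r₁
    have h3 : ⁅r₁, r₂⁆ ∈ L := hRL (Subgroup.commutator_mem_commutator h₁ h₂)
    have h4 : π ⁅r₁, r₂⁆ = 1 := by
      rw [hπ, QuotientGroup.mk'_apply, QuotientGroup.eq_one_iff]; exact h3
    rw [map_commutatorElement, commutatorElement_eq_one_iff_mul_comm] at h4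
    exact h4
  have hBV : B ≤ Subgroup.normalizer (V : Set (Γ ⧸ L)) := by
    rw [Subgroup.normalizer_eq_top V]; exact le_top
  have hcop' : (Nat.card B).Coprime (Nat.card V) :=
    Nat.Coprime.coprime_dvd_left (Subgroup.card_map_dvd A π)
      (Nat.Coprime.coprime_dvd_right (Subgroup.card_map_dvd R π) hcop)
  have hdec := (Cfsg.Agent.Lib.Lead.coprime_abelian_decomp B V hBV hcop').1
  have hcomm : ⁅V, B⁆ = V := by
    rw [hV, hB, ← Subgroup.map_commutator, hRA]
  rw [hcomm] at hdec
  have hmem : π x ∈ (V ⊓ Subgroup.centralizer (B : Set (Γ ⧸ L))) ⊓ V := by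
    refine ⟨⟨Subgroup.mem_map_of_mem π hx, ?_⟩, Subgroup.mem_map_of_mem π hx⟩
    show π x ∈ Subgroup.centralizer (B : Set (Γ ⧸ L))
    rw [Subgroup.mem_centralizer_iff]
    rintro _ ⟨a, ha, rfl⟩
    have h1 : π (a * x * a⁻¹ * x⁻¹) = 1 := by
      rw [hπ, QuotientGroup.mk'_apply, QuotientGroup.eq_one_iff]; exact hfix a ha
    rw [map_mul, map_mul, map_mul, map_inv, map_inv] at h1
    have h2 : π a * π x = π x * π a := by
      have := mul_inv_eq_one.mp h1
      rw [mul_inv_eq_iff_eq_mul] at this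
      exact this
    exact h2
  rw [hdec, Subgroup.mem_bot] at hmem
  rw [hπ, QuotientGroup.mk'_apply, QuotientGroup.eq_one_iff] at hmem
  exact hmem

end Q

section KL
variable {p : ℕ} [hp : Fact p.Prime]

theorem kl_normal (hp2 : p ≠ 2) : ∀ (n : ℕ) {Γ : Type u} [Group Γ] [Finite Γ], Nat.card Γ = n →
    ∀ (R A : Subgroup Γ) [R.Normal], IsPGroup p R → Cfsg.IsMetacyclic R →
      (Nat.card A).Coprime p → ⁅R, A⁆ = R → ⁅R, R⁆ = ⊥ := by
  intro n
  induction n using Nat.strong_induction_on with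
  | _ n ih =>
  intro Γ _ _ hn R A hRn hRp hRm hcop hRA
  by_contra hD
  obtain ⟨a, b, c, m, hd⟩ := exists_mcData hp2 hRp hRm
  have hcd := hd.cd
  have hDeq : ⁅R, R⁆ = Subgroup.zpowers (c : Γ) := by
    have h1 : ⁅R, R⁆ = (commutator R).map R.subtype := by
      rw [commutator_def, Subgroup.map_commutator, ← MonoidHom.range_eq_map, Subgroup.range_subtype]
    rw [h1, hcd.comm, MonoidHom.map_zpowers]; rfl
  have hc1 : (c : Γ) ≠ 1 := by
    intro h; apply hD; rw [hDeq, h, Subgroup.zpowers_one_eq_bot]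
  have hord : orderOf (c : Γ) = p ^ m := by rw [Subgroup.orderOf_coe]; exact hcd.order
  have hm0 : m ≠ 0 := by
    intro h
    rw [h, pow_zero, orderOf_eq_one_iff] at hord
    exact hc1 hord
  have hcopR : (Nat.card A).Coprime (Nat.card R) := by
    obtain ⟨e, he⟩ := IsPGroup.iff_card.mp hRp
    rw [he]; exact Nat.Coprime.pow_right _ hcop
  by_cases hm1 : m = 1
  · -- core case
    subst hm1
    have hDcard : Nat.card (commutator R) = p := by rw [hcd.card_commutator, pow_one]
    obtain ⟨c', hc'⟩ := exists_c2Data hp2 hRp hRm hDcard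
    have hcomZ : ∀ r₁ r₂ : R, ⁅r₁, r₂⁆ ∈ Subgroup.center R := by
      intro r₁ r₂
      have h1 : ⁅r₁, r₂⁆ ∈ commutator R :=
        Subgroup.commutator_mem_commutator (Subgroup.mem_top r₁) (Subgroup.mem_top r₂)
      rw [hc'.comm] at h1
      exact (Subgroup.zpowers_le.mpr hc'.cZ) h1
    let 𝒜 : Set (MulAut R) := {α | ∃ a ∈ A, α = MulAut.conjNormal a}
    apply core_of_data hp2 hRp hc' 𝒜
    · -- H1
      intro U hU
      by_contra hcon
      push Not at hcon
      apply hU
      have hle : ⁅R, A⁆ ≤ U.map R.subtype := by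
        rw [Subgroup.commutator_le]
        intro r hr a ha
        have h1 := hcon (MulAut.conjNormal a) ⟨a, ha, rfl⟩ ⟨r, hr⟩
        have h2 := U.inv_mem h1
        refine ⟨_, h2, ?_⟩
        simp only [Subgroup.subtype_apply, Subgroup.coe_inv, Subgroup.coe_mul,
          MulAut.conjNormal_apply, commutatorElement_def]
        group
      rw [hRA] at hle
      rw [eq_top_iff]
      intro y _
      obtain ⟨u, hu, huy⟩ := hle y.2
      have : u = y := Subtype.ext huy
      rw [← this]; exact hu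
    · -- H2
      intro x hx
      set L : Subgroup Γ := R ⊓ Subgroup.centralizer (R : Set Γ) with hL
      haveI hLn : L.Normal := by rw [hL]; infer_instance
      have hRL : ⁅R, R⁆ ≤ L := by
        rw [Subgroup.commutator_le]
        intro r₁ h₁ r₂ h₂
        have h3 := hcomZ ⟨r₁, h₁⟩ ⟨r₂, h₂⟩
        refine ⟨(⁅(⟨r₁, h₁⟩ : R), ⟨r₂, h₂⟩⁆ : R).2, ?_⟩
        show ⁅r₁, r₂⁆ ∈ Subgroup.centralizer (R : Set Γ)
        rw [Subgroup.mem_centralizer_iff]
        intro h hh
        have h4 := Subgroup.mem_center_iff.mp h3 ⟨h, hh⟩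
        exact congrArg Subtype.val h4
      have hxL : (x : Γ) ∈ L := by
        apply mem_of_comm_mem R L A hRL hcopR hRA (x : Γ) x.2
        intro a ha
        have h1 := hx (MulAut.conjNormal a) ⟨a, ha, rfl⟩
        have h2 : ((MulAut.conjNormal a x * x⁻¹ : R) : Γ) = a * x * a⁻¹ * (x : Γ)⁻¹ := by
          simp only [Subgroup.coe_mul, Subgroup.coe_inv, MulAut.conjNormal_apply]
        rw [← h2]
        refine ⟨(MulAut.conjNormal a x * x⁻¹ : R).2, ?_⟩
        show ((MulAut.conjNormal a x * x⁻¹ : R) : Γ) ∈ Subgroup.centralizer (R : Set Γ)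
        rw [Subgroup.mem_centralizer_iff]
        intro h hh
        have h4 := Subgroup.mem_center_iff.mp h1 ⟨h, hh⟩
        exact congrArg Subtype.val h4
      rw [Subgroup.mem_center_iff]
      intro g
      apply Subtype.ext
      have := Subgroup.mem_centralizer_iff.mp hxL.2 (g : Γ) g.2
      exact this
  · -- reduction
    have hm2 : 2 ≤ m := by omega
    set K : Subgroup Γ := Subgroup.zpowers ((c : Γ) ^ p) with hK
    have hDn : (⁅R, R⁆ : Subgroup Γ).Normal := inferInstance
    haveI hKn : K.Normal := by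
      constructor
      intro z hz g
      obtain ⟨j, rfl⟩ := Subgroup.mem_zpowers_iff.mp hz
      have h1 : g * (c : Γ) * g⁻¹ ∈ Subgroup.zpowers (c : Γ) := by
        rw [← hDeq]
        exact hDn.conj_mem _ (by rw [hDeq]; exact Subgroup.mem_zpowers _) g
      obtain ⟨i, hi⟩ := Subgroup.mem_zpowers_iff.mp h1
      have h2 : g * (((c : Γ) ^ p) ^ j) * g⁻¹ = (((c : Γ) ^ p) ^ i) ^ j := by
        have h3 : ((c : Γ) ^ i) ^ p = ((c : Γ) ^ p) ^ i := by
          rw [← zpow_natCast, ← zpow_natCast, ← zpow_mul, ← zpow_mul, mul_comm]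
        rw [← conj_zpow, ← conj_pow, ← hi, h3]
      rw [h2]
      exact Subgroup.zpow_mem _ (Subgroup.zpow_mem _ (Subgroup.mem_zpowers _) _) _
    have hK1 : K ≠ ⊥ := by
      intro h
      have h1 : (c : Γ) ^ p ∈ K := Subgroup.mem_zpowers _
      rw [h, Subgroup.mem_bot] at h1
      have h2 := orderOf_dvd_of_pow_eq_one h1
      rw [hord] at h2
      have h3 : p ^ m ≤ p ^ 1 := by rw [pow_one]; exact Nat.le_of_dvd hp.out.pos h2
      have := (Nat.pow_le_pow_iff_right hp.out.one_lt).mp h3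
      omega
    have hcard : Nat.card (Γ ⧸ K) < n := by
      have h1 := Subgroup.card_eq_card_quotient_mul_card_subgroup K
      have h2 : 1 < Nat.card K := K.one_lt_card_iff_ne_bot.mpr hK1
      have h3 : 0 < Nat.card (Γ ⧸ K) := Nat.card_pos
      rw [hn] at h1
      nlinarith
    set π := QuotientGroup.mk' K with hπ
    have hπs : Function.Surjective π := QuotientGroup.mk'_surjective K
    haveI hRn' : (R.map π).Normal := Subgroup.Normal.map hRn π hπs
    have hRp' : IsPGroup p (R.map π) := hRp.map π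
    have hRm' : Cfsg.IsMetacyclic (R.map π) :=
      isMetacyclic_of_surjective (π.subgroupMap R) (π.subgroupMap_surjective R) hRm
    have hcop' : (Nat.card (A.map π)).Coprime p :=
      Nat.Coprime.coprime_dvd_left (Subgroup.card_map_dvd A π) hcop
    have hRA' : ⁅R.map π, A.map π⁆ = R.map π := by
      rw [← Subgroup.map_commutator, hRA]
    have hres := ih (Nat.card (Γ ⧸ K)) hcard (Γ := Γ ⧸ K) rfl (R.map π) (A.map π) hRp' hRm' hcop' hRA'
    rw [← Subgroup.map_commutator, Subgroup.map_eq_bot_iff, hπ, QuotientGroup.ker_mk'] at hres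
    have hcK : (c : Γ) ∈ K := hres (by rw [hDeq]; exact Subgroup.mem_zpowers _)
    obtain ⟨j, hj⟩ := Subgroup.mem_zpowers_iff.mp hcK
    have h1 : (c : Γ) ^ p ^ (m - 1) = 1 := by
      have h2 : ((c : Γ) ^ p) ^ p ^ (m - 1) = 1 := by
        rw [← pow_mul, ← pow_succ', show m - 1 + 1 = m by omega, ← hord]
        exact pow_orderOf_eq_one _
      calc (c : Γ) ^ p ^ (m - 1) = ((((c : Γ) ^ p) ^ j)) ^ p ^ (m - 1) := by rw [hj]
        _ = ((((c : Γ) ^ p) ^ p ^ (m - 1))) ^ j := by
            rw [← zpow_natCast, ← zpow_mul, mul_comm, zpow_mul, zpow_natCast]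
        _ = 1 := by rw [h2, one_zpow]
    have h3 := orderOf_dvd_of_pow_eq_one h1
    rw [hord] at h3
    have h4 : p ^ m ≤ p ^ (m - 1) := Nat.le_of_dvd (pow_pos hp.out.pos _) h3
    have := (Nat.pow_le_pow_iff_right hp.out.one_lt).mp h4
    omega

end KL

end Cfsg.Agent.Lib.Helper4.MetaOdd
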