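import Mathlib
import Cfsg.Agent.Lib.Helper8.AutFrattini
import Cfsg.Agent.Lib.Lead.Frattini

set_option autoImplicit false

/-! Automorphisms of odd order of a two-generated `2`-group: the action on the Frattini quotient. -/

namespace Cfsg.Agent.Lib.Helper4.MetaTwo

open Cfsg Cfsg.Agent.Lib.Lead
open scoped commutatorElement

variable {X : Type*} [Group X] [Finite X]

/-- the projection onto the Frattini quotient -/
noncomputable abbrev fr (X : Type*) [Group X] : X →* X ⧸ frattini X :=
  QuotientGroup.mk' (frattini X)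

theorem fr_eq_one_iff (x : X) : fr X x = 1 ↔ x ∈ frattini X := QuotientGroup.eq_one_iff x

theorem fr_sq (hX : IsPGroup 2 X) (x : X) : fr X x * fr X x = 1 := by
  haveI : Fact (Nat.Prime 2) := ⟨Nat.prime_two⟩
  rw [← map_mul, fr_eq_one_iff, ← pow_two]
  exact pow_mem_frattini_of_isPGroup hX x

theorem fr_comm (hX : IsPGroup 2 X) (x y : X) : fr X x * fr X y = fr X y * fr X x := by
  haveI : Fact (Nat.Prime 2) := ⟨Nat.prime_two⟩
  have h1 : ⁅x, y⁆ ∈ frattini X := by
    apply commutator_le_frattini_of_isPGroup hX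
    rw [commutator_def]
    exact Subgroup.commutator_mem_commutator (Subgroup.mem_top x) (Subgroup.mem_top y)
  rw [← fr_eq_one_iff, commutatorElement_def, map_mul, map_mul, map_mul, map_inv, map_inv] at h1
  calc fr X x * fr X y = (fr X x * fr X y * (fr X x)⁻¹ * (fr X y)⁻¹) * (fr X y * fr X x) := by group
    _ = fr X y * fr X x := by rw [h1, one_mul]

theorem fr_inv (hX : IsPGroup 2 X) (x : X) : (fr X x)⁻¹ = fr X x :=
  inv_eq_of_mul_eq_one_left (fr_sq hX x)

theorem aut_mem_frattini_iff (τ : MulAut X) (x : X) : τ x ∈ frattini X ↔ x ∈ frattini X := by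
  have h := (Subgroup.characteristic_iff_comap_eq.mp (frattini_characteristic (G := X))) τ
  constructor
  · intro hx
    rw [← h]; exact Subgroup.mem_comap.mpr hx
  · intro hx
    rw [← h] at hx; exact Subgroup.mem_comap.mp hx

theorem fr_aut_eq_one_iff (τ : MulAut X) (x : X) : fr X (τ x) = 1 ↔ fr X x = 1 := by
  rw [fr_eq_one_iff, fr_eq_one_iff, aut_mem_frattini_iff]

theorem fr_aut_congr (τ : MulAut X) {w u : X} (h : fr X w = fr X u) : fr X (τ w) = fr X (τ u) := by
  have h1 : fr X (w * u⁻¹) = 1 := by rw [map_mul, map_inv, h, mul_inv_cancel]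
  have h2 := (fr_aut_eq_one_iff τ (w * u⁻¹)).mpr h1
  rw [map_mul, map_inv, map_mul, map_inv] at h2
  exact mul_inv_eq_one.mp h2

theorem fr_aut_congr' (τ : MulAut X) {w u : X} (h : fr X (τ w) = fr X (τ u)) : fr X w = fr X u := by
  have := fr_aut_congr τ⁻¹ h
  simpa using this

/-- every element is congruent to one of `1, x, y, x y` modulo the Frattini subgroup -/
def Hgen (x y : X) : Prop :=
  ∀ w : X, fr X w = 1 ∨ fr X w = fr X x ∨ fr X w = fr X y ∨ fr X w = fr X x * fr X y

theorem Hgen.symm (hX : IsPGroup 2 X) {x y : X} (h : Hgen x y) : Hgen y x := by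
  intro w
  rcases h w with h1 | h1 | h1 | h1
  · exact Or.inl h1
  · exact Or.inr (Or.inr (Or.inl h1))
  · exact Or.inr (Or.inl h1)
  · exact Or.inr (Or.inr (Or.inr (by rw [h1, fr_comm hX])))

theorem odd_coprime_two {n : ℕ} (h : Odd n) : n.Coprime 2 := Nat.coprime_two_right.mpr h

/-- an automorphism of odd order acting trivially on the Frattini quotient is trivial -/
theorem aut_trivial_of_fr (hX : IsPGroup 2 X) (τ : MulAut X) (hodd : Odd (orderOf τ))
    (h : ∀ w : X, fr X (τ w) = fr X w) : τ = 1 := by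
  haveI : Fact (Nat.Prime 2) := ⟨Nat.prime_two⟩
  apply Cfsg.Agent.Lib.Helper8.aut_eq_one_of_trivial_mod_frattini hX τ (odd_coprime_two hodd)
  intro x
  rw [← fr_eq_one_iff, map_mul, map_inv, h x, mul_inv_cancel]

theorem aut_trivial_of_gens (hX : IsPGroup 2 X) (τ : MulAut X) (hodd : Odd (orderOf τ))
    {x y : X} (h : Hgen x y) (hx : fr X (τ x) = fr X x) (hy : fr X (τ y) = fr X y) : τ = 1 := by
  apply aut_trivial_of_fr hX τ hodd
  intro w
  rcases h w with h1 | h1 | h1 | h1
  · rw [h1]; exact (fr_aut_eq_one_iff τ w).mpr h1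
  · rw [fr_aut_congr τ h1, hx, h1]
  · rw [fr_aut_congr τ h1, hy, h1]
  · have h2 : fr X w = fr X (x * y) := by rw [h1, map_mul]
    rw [fr_aut_congr τ h2, map_mul, map_mul, hx, hy, h1]

theorem odd_orderOf_mul_self (τ : MulAut X) (hodd : Odd (orderOf τ)) : Odd (orderOf (τ * τ)) := by
  have h1 : orderOf (τ * τ) ∣ orderOf τ := by
    rw [← pow_two]; exact orderOf_pow_dvd 2
  exact Odd.of_dvd_nat hodd h1

theorem eq_one_of_mul_self_eq_one (τ : MulAut X) (hodd : Odd (orderOf τ)) (h : τ * τ = 1) :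
    τ = 1 := by
  have h1 : orderOf τ ∣ 2 := by
    apply orderOf_dvd_of_pow_eq_one; rw [pow_two]; exact h
  have h2 : orderOf τ = 1 := by
    rcases (Nat.dvd_prime Nat.prime_two).mp h1 with h3 | h3
    · exact h3
    · rw [h3] at hodd; exact absurd hodd (by decide)
  exact orderOf_eq_one_iff.mp h2

/-- a nontrivial automorphism of odd order fixes no generator modulo the Frattini subgroup -/
theorem fr_aut_ne (hX : IsPGroup 2 X) (τ : MulAut X) (hodd : Odd (orderOf τ)) (hτ : τ ≠ 1)
    {x y : X} (h : Hgen x y) : fr X (τ x) ≠ fr X x := by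
  intro hx
  apply hτ
  have key : fr X (τ y) = fr X y ∨ fr X (τ y) = fr X x * fr X y := by
    rcases h (τ y) with h1 | h1 | h1 | h1
    · left
      rw [h1]; exact ((fr_aut_eq_one_iff τ y).mp h1).symm
    · left
      have h2 : fr X (τ y) = fr X (τ x) := by rw [h1, hx]
      rw [h1]; exact (fr_aut_congr' τ h2).symm
    · exact Or.inl h1
    · exact Or.inr h1
  rcases key with h1 | h1
  · exact aut_trivial_of_gens hX τ hodd h hx h1
  · apply eq_one_of_mul_self_eq_one τ hodd
    apply aut_trivial_of_gens hX (τ * τ) (odd_orderOf_mul_self τ hodd) h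
    · rw [MulAut.mul_apply, fr_aut_congr τ hx, hx]
    · have h2 : fr X (τ y) = fr X (x * y) := by rw [h1, map_mul]
      rw [MulAut.mul_apply, fr_aut_congr τ h2, map_mul, map_mul, hx, h1, ← mul_assoc,
        fr_sq hX, one_mul]

theorem Hgen.closure_eq_top {x y : X} (h : Hgen x y) : Subgroup.closure ({x, y} : Set X) = ⊤ := by
  apply frattini_nongenerating
  rw [eq_top_iff]
  intro w _
  have hx : x ∈ Subgroup.closure ({x, y} : Set X) := Subgroup.subset_closure (by simp)
  have hy : y ∈ Subgroup.closure ({x, y} : Set X) := Subgroup.subset_closure (by simp)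
  have key : ∀ u ∈ Subgroup.closure ({x, y} : Set X), fr X w = fr X u →
      w ∈ Subgroup.closure ({x, y} : Set X) ⊔ frattini X := by
    intro u hu huw
    have h1 : u⁻¹ * w ∈ frattini X := by
      rw [← fr_eq_one_iff, map_mul, map_inv, huw, inv_mul_cancel]
    have h2 : w = u * (u⁻¹ * w) := by group
    rw [h2]
    exact Subgroup.mul_mem _ (Subgroup.mem_sup_left hu) (Subgroup.mem_sup_right h1)
  rcases h w with h1 | h1 | h1 | h1
  · exact key 1 (Subgroup.one_mem _) (by rw [h1, map_one])
  · exact key x hx h1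
  · exact key y hy h1
  · exact key (x * y) (Subgroup.mul_mem _ hx hy) (by rw [h1, map_mul])

/-- the image of a generator under a nontrivial automorphism of odd order is a second generator -/
theorem Hgen.aut (hX : IsPGroup 2 X) (τ : MulAut X) (hodd : Odd (orderOf τ)) (hτ : τ ≠ 1)
    {a t : X} (h : Hgen a t) : Hgen a (τ a) := by
  have hne := fr_aut_ne hX τ hodd hτ h
  rcases h (τ a) with h1 | h1 | h1 | h1
  · exfalso
    apply hne
    rw [h1]; exact ((fr_aut_eq_one_iff τ a).mp h1).symm
  · exact absurd h1 hne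
  · intro w
    rw [h1]; exact h w
  · intro w
    rw [h1]
    rcases h w with h2 | h2 | h2 | h2
    · exact Or.inl h2
    · exact Or.inr (Or.inl h2)
    · right; right; right
      rw [h2, ← mul_assoc, fr_sq hX, one_mul]
    · right; right; left
      exact h2

theorem fr_ne_one_of_Hgen_aut (hX : IsPGroup 2 X) (τ : MulAut X) (hodd : Odd (orderOf τ))
    (hτ : τ ≠ 1) {a t : X} (h : Hgen a t) : fr X a ≠ 1 := by
  intro h1
  apply fr_aut_ne hX τ hodd hτ h
  rw [h1]; exact (fr_aut_eq_one_iff τ a).mpr h1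

/-- the third image is congruent to the product of the first two -/
theorem fr_third (hX : IsPGroup 2 X) (σ : MulAut X) (hodd : Odd (orderOf σ)) (hσ : σ ≠ 1)
    {a t : X} (h : Hgen a t) : fr X (σ (σ a)) = fr X a * fr X (σ a) := by
  have hab := h.aut hX σ hodd hσ
  have hba := hab.symm hX
  have hσ2 : σ * σ ≠ 1 := fun h0 => hσ (eq_one_of_mul_self_eq_one σ hodd h0)
  rcases hab (σ (σ a)) with h1 | h1 | h1 | h1
  · exfalso
    have h2 := (fr_aut_eq_one_iff σ (σ a)).mp h1
    have h3 := (fr_aut_eq_one_iff σ a).mp h2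
    exact fr_ne_one_of_Hgen_aut hX σ hodd hσ h h3
  · exfalso
    have := fr_aut_ne hX (σ * σ) (odd_orderOf_mul_self σ hodd) hσ2 hab
    rw [MulAut.mul_apply] at this
    exact this h1
  · exfalso
    exact fr_aut_ne hX σ hodd hσ hba h1
  · exact h1

end Cfsg.Agent.Lib.Helper4.MetaTwo
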