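import Mathlib
import Cfsg.Agent.Lib.Helper4.MetaTwo1
import Cfsg.Prelude.Def_OddOrderLocal

set_option autoImplicit false

/-! Metacyclic `2`-groups with an automorphism of odd order: generators. -/

namespace Cfsg.Agent.Lib.Helper4.MetaTwo

open Cfsg Cfsg.Agent.Lib.Lead
open scoped commutatorElement

variable {X : Type*} [Group X] [Finite X]

theorem exists_odd_aut (hA : ¬ IsPGroup 2 (MulAut X)) :
    ∃ σ : MulAut X, σ ≠ 1 ∧ Odd (orderOf σ) := by
  unfold IsPGroup at hA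
  push Not at hA
  obtain ⟨g, hg⟩ := hA
  have hn : orderOf g ≠ 0 := (orderOf_pos g).ne'
  obtain ⟨e, n', hn', he⟩ := Nat.exists_eq_pow_mul_and_not_dvd hn 2 (by norm_num)
  refine ⟨g ^ 2 ^ e, hg e, ?_⟩
  have h1 : orderOf (g ^ 2 ^ e) = orderOf g / 2 ^ e :=
    orderOf_pow_of_dvd (by positivity) (by rw [he]; exact Dvd.intro _ rfl)
  rw [h1, he, Nat.mul_div_cancel_left _ (by positivity)]
  rw [← Nat.not_even_iff_odd, even_iff_two_dvd]
  exact hn'

theorem exists_gens (hm : IsMetacyclic X) :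
    ∃ a t : X, (Subgroup.zpowers a).Normal ∧ ∀ w : X, ∃ (j i : ℤ), w = t ^ j * a ^ i := by
  obtain ⟨N, hN, hNc, hQc⟩ := hm
  obtain ⟨⟨a, haN⟩, ha⟩ := hNc.exists_generator
  obtain ⟨q, hq⟩ := hQc.exists_generator
  obtain ⟨t, rfl⟩ := QuotientGroup.mk_surjective q
  have hNa : N = Subgroup.zpowers a := by
    apply le_antisymm
    · intro x hx
      obtain ⟨k, hk⟩ := Subgroup.mem_zpowers_iff.mp (ha ⟨x, hx⟩)
      have : a ^ k = x := by simpa using congrArg Subtype.val hk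
      rw [← this]; exact Subgroup.zpow_mem_zpowers a k
    · exact Subgroup.zpowers_le.mpr haN
  refine ⟨a, t, hNa ▸ hN, ?_⟩
  intro w
  obtain ⟨j, hj⟩ := Subgroup.mem_zpowers_iff.mp (hq (w : X ⧸ N))
  have h1 : ((t ^ j : X) : X ⧸ N) = (w : X ⧸ N) := by rw [QuotientGroup.mk_zpow]; exact hj
  have h2 : (t ^ j)⁻¹ * w ∈ N := QuotientGroup.eq.mp h1
  rw [hNa] at h2
  obtain ⟨i, hi⟩ := Subgroup.mem_zpowers_iff.mp h2
  refine ⟨j, i, ?_⟩
  rw [hi]; group

theorem fr_zpow (hX : IsPGroup 2 X) (x : X) (j : ℤ) :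
    fr X (x ^ j) = 1 ∨ fr X (x ^ j) = fr X x := by
  rcases Int.even_or_odd' j with ⟨k, hk | hk⟩
  · left
    rw [hk, two_mul, zpow_add, map_mul, fr_sq hX]
  · right
    rw [hk, zpow_add, zpow_one, two_mul, zpow_add, map_mul, map_mul, fr_sq hX, one_mul]

theorem Hgen_of_gens (hX : IsPGroup 2 X) {a t : X}
    (h : ∀ w : X, ∃ (j i : ℤ), w = t ^ j * a ^ i) : Hgen a t := by
  intro w
  obtain ⟨j, i, rfl⟩ := h w
  rw [map_mul]
  rcases fr_zpow hX t j with h1 | h1 <;> rcases fr_zpow hX a i with h2 | h2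
  · left; rw [h1, h2, one_mul]
  · right; left; rw [h1, h2, one_mul]
  · right; right; left; rw [h1, h2, mul_one]
  · right; right; right; rw [h1, h2, fr_comm hX]

/-- the key configuration: two normal cyclic subgroups generating `X` and a third element of the
same order congruent to their product -/
theorem exists_config (hX : IsPGroup 2 X) (hm : IsMetacyclic X) (hA : ¬ IsPGroup 2 (MulAut X)) :
    ∃ a b c : X, (Subgroup.zpowers a).Normal ∧ (Subgroup.zpowers b).Normal ∧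
      Subgroup.closure ({a, b} : Set X) = ⊤ ∧ orderOf b = orderOf a ∧ orderOf c = orderOf a ∧
      fr X c = fr X a * fr X b ∧ fr X a ≠ 1 ∧ fr X b ≠ 1 ∧ fr X a ≠ fr X b := by
  obtain ⟨σ, hσ, hodd⟩ := exists_odd_aut hA
  obtain ⟨a, t, haN, hgen⟩ := exists_gens hm
  have h := Hgen_of_gens hX hgen
  have hab := h.aut hX σ hodd hσ
  refine ⟨a, σ a, σ (σ a), haN, ?_, hab.closure_eq_top, MulEquiv.orderOf_eq σ a, ?_,
    fr_third hX σ hodd hσ h, fr_ne_one_of_Hgen_aut hX σ hodd hσ h, ?_,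
    (fr_aut_ne hX σ hodd hσ h).symm⟩
  · have h1 : Subgroup.zpowers (σ a) = (Subgroup.zpowers a).map σ.toMonoidHom := by
      rw [MonoidHom.map_zpowers]; rfl
    rw [h1]
    exact haN.map σ.toMonoidHom σ.surjective
  · rw [MulEquiv.orderOf_eq, MulEquiv.orderOf_eq]
  · intro h1
    exact fr_ne_one_of_Hgen_aut hX σ hodd hσ h ((fr_aut_eq_one_iff σ a).mp h1)

end Cfsg.Agent.Lib.Helper4.MetaTwo
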