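import Mathlib
import Cfsg.Prelude.Def_OddOrderLocal
import Cfsg.Agent.Lib.Helper4.MetaOdd2
import Cfsg.Agent.Lib.Helper7.Meta7
import Cfsg.Agent.Lib.Lead.MetaAut
import Cfsg.Agent.Lib.Lead.MetacyclicOmega
import Cfsg.Agent.Lib.Lead.CoprimeAction2
import Cfsg.Agent.Lib.Lead.Coprime

set_option autoImplicit false

/-!
# Coprime action on metacyclic `p`-groups, `p` odd: the general statement
-/

namespace Cfsg.Agent.Lib.Helper4.MetaOdd

open scoped commutatorElement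
open Cfsg.Agent.Lib.Helper7.Meta Cfsg.Agent.Lib.Lead Cfsg.Agent.Lib.Lead.MetaAut

universe u

variable {p : ℕ} [hp : Fact p.Prime]

theorem kl_general {G : Type u} [Group G] [Finite G] (hp2 : p ≠ 2) (R A : Subgroup G)
    (hA : A ≤ Subgroup.normalizer (R : Set G)) (hRp : IsPGroup p R)
    (hRm : Cfsg.IsMetacyclic R) (hcop : (Nat.card A).Coprime p) (hRA : ⁅R, A⁆ = R) :
    ⁅R, R⁆ = ⊥ := by
  have hRN : R ≤ Subgroup.normalizer (R : Set G) := Subgroup.le_normalizer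
  haveI hn : (R.subgroupOf (Subgroup.normalizer (R : Set G))).Normal := Subgroup.normal_in_normalizer
  have e : R.subgroupOf (Subgroup.normalizer (R : Set G)) ≃* R := Subgroup.subgroupOfEquivOfLe hRN
  have hR₀p : IsPGroup p (R.subgroupOf (Subgroup.normalizer (R : Set G))) := hRp.of_equiv e.symm
  have hR₀m : Cfsg.IsMetacyclic (R.subgroupOf (Subgroup.normalizer (R : Set G))) :=
    isMetacyclic_of_mulEquiv e.symm hRm
  have hA₀ : (Nat.card (A.subgroupOf (Subgroup.normalizer (R : Set G)))).Coprime p := by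
    rw [Nat.card_congr (Subgroup.subgroupOfEquivOfLe hA).toEquiv]; exact hcop
  have hmapR : (R.subgroupOf (Subgroup.normalizer (R : Set G))).map
      (Subgroup.normalizer (R : Set G)).subtype = R := Subgroup.map_subgroupOf_eq_of_le hRN
  have hmapA : (A.subgroupOf (Subgroup.normalizer (R : Set G))).map
      (Subgroup.normalizer (R : Set G)).subtype = A := Subgroup.map_subgroupOf_eq_of_le hA
  have hRA₀ : ⁅R.subgroupOf (Subgroup.normalizer (R : Set G)),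
      A.subgroupOf (Subgroup.normalizer (R : Set G))⁆ =
      R.subgroupOf (Subgroup.normalizer (R : Set G)) := by
    apply Subgroup.map_injective (Subgroup.normalizer (R : Set G)).subtype_injective
    rw [Subgroup.map_commutator, hmapR, hmapA, hRA]
  have h1 := kl_normal hp2 _ rfl (R.subgroupOf (Subgroup.normalizer (R : Set G)))
    (A.subgroupOf (Subgroup.normalizer (R : Set G))) hR₀p hR₀m hA₀ hRA₀
  have h2 := congrArg (Subgroup.map (Subgroup.normalizer (R : Set G)).subtype) h1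
  rw [Subgroup.map_commutator, hmapR, Subgroup.map_bot] at h2
  exact h2

theorem ncard_omega {G : Type*} [Group G] [Finite G] (hp2 : p ≠ 2) (H : Subgroup G)
    (hH : IsPGroup p H) (hm : Cfsg.IsMetacyclic H) (hnc : ¬ IsCyclic H) :
    Set.ncard {x : G | x ∈ H ∧ x ^ p = 1} = p ^ 2 := by
  obtain ⟨hel, hcard⟩ := omegaOne_of_metacyclic hp2 hH hm hnc
  have hset : {x : G | x ∈ H ∧ x ^ p = 1} =
      Subtype.val '' ((Cfsg.omegaOne p (⊤ : Subgroup H) : Subgroup H) : Set H) := by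
    ext x
    constructor
    · rintro ⟨hx, hxp⟩
      refine ⟨⟨x, hx⟩, ?_, rfl⟩
      apply Subgroup.subset_closure
      exact ⟨Subgroup.mem_top _, Subtype.ext hxp⟩
    · rintro ⟨y, hy, rfl⟩
      refine ⟨y.2, ?_⟩
      have := hel.2 y hy
      exact congrArg Subtype.val this
  rw [hset, Set.ncard_image_of_injective _ Subtype.val_injective, ← hcard]
  exact (Nat.card_coe_set_eq _).symm

theorem mem_of_pow_eq_one {G : Type*} [Group G] [Finite G] (hp2 : p ≠ 2) {Y R : Subgroup G}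
    (hYR : Y ≤ R) (hR : IsPGroup p R) (hRm : Cfsg.IsMetacyclic R) (hRnc : ¬ IsCyclic R)
    (hYm : Cfsg.IsMetacyclic Y) (hYnc : ¬ IsCyclic Y) (x : G) (hx : x ∈ R) (hxp : x ^ p = 1) :
    x ∈ Y := by
  have h1 := ncard_omega hp2 Y (hR.to_le hYR) hYm hYnc
  have h2 := ncard_omega hp2 R hR hRm hRnc
  have hsub : {x : G | x ∈ Y ∧ x ^ p = 1} ⊆ {x : G | x ∈ R ∧ x ^ p = 1} :=
    fun z hz => ⟨hYR hz.1, hz.2⟩
  have heq := Set.eq_of_subset_of_ncard_le hsub (by rw [h1, h2]) (Set.toFinite _)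
  have h3 : x ∈ {x : G | x ∈ R ∧ x ^ p = 1} := ⟨hx, hxp⟩
  rw [← heq] at h3
  exact h3.1

theorem exists_orderOf_eq {G : Type*} [Group G] [Finite G] {H : Subgroup G} (hH : IsPGroup p H)
    (hne : H ≠ ⊥) : ∃ y ∈ H, y ≠ 1 ∧ y ^ p = 1 := by
  have h1 : p ∣ Nat.card H := by
    rcases hH.card_eq_or_dvd with h | h
    · exfalso
      have := H.one_lt_card_iff_ne_bot.mpr hne
      omega
    · exact h
  obtain ⟨y, hy⟩ := exists_prime_orderOf_dvd_card' p h1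
  refine ⟨(y : G), y.2, ?_, ?_⟩
  · intro h
    have : y = 1 := Subtype.ext h
    rw [this, orderOf_one] at hy
    exact hp.out.one_lt.ne hy
  · have := pow_orderOf_eq_one y
    rw [hy] at this
    exact congrArg Subtype.val this

theorem main {G : Type u} [Group G] [Finite G] (hp2 : p ≠ 2) (R A : Subgroup G)
    (hR : IsPGroup p R) (hRm : Cfsg.IsMetacyclic R)
    (hA : A ≤ Subgroup.normalizer (R : Set G)) (hcop : (Nat.card A).Coprime p) :
    IsMulCommutative ↥⁅R, A⁆ ∧ ⁅R, A⁆ ⊔ (R ⊓ Subgroup.centralizer (A : Set G)) = R ∧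
      ⁅R, A⁆ ⊓ (R ⊓ Subgroup.centralizer (A : Set G)) = ⊥ ∧
      (¬ IsMulCommutative R → ¬ A ≤ Subgroup.centralizer (R : Set G) →
        ⁅R, A⁆ ≠ ⊥ ∧ IsCyclic ↥⁅R, A⁆ ∧ (R ⊓ Subgroup.centralizer (A : Set G)) ≠ ⊥ ∧
          IsCyclic ↥(R ⊓ Subgroup.centralizer (A : Set G)) ∧ ⁅R, R⁆ ≤ ⁅R, A⁆) := by
  have hcopR : (Nat.card A).Coprime (Nat.card R) := by
    obtain ⟨e, he⟩ := IsPGroup.iff_card.mp hR
    rw [he]; exact Nat.Coprime.pow_right _ hcop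
  have hsolvR : Group.IsSolvable R := by
    haveI := hR.isNilpotent
    infer_instance
  have hXR : ⁅R, A⁆ ≤ R := commutator_le_left_of_le_normalizer R A hA
  have hAX : A ≤ Subgroup.normalizer ((⁅R, A⁆ : Subgroup G) : Set G) :=
    le_normalizer_commutator_right R A hA
  have hRX : R ≤ Subgroup.normalizer ((⁅R, A⁆ : Subgroup G) : Set G) :=
    le_normalizer_commutator_left R A
  have hXp : IsPGroup p ↥(⁅R, A⁆ : Subgroup G) := hR.to_le hXR
  have hsubm : ∀ Y : Subgroup G, Y ≤ R → Cfsg.IsMetacyclic Y := by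
    intro Y hYR
    have := isMetacyclic_subgroup hRm (Y.subgroupOf R)
    exact isMetacyclic_of_mulEquiv (Subgroup.subgroupOfEquivOfLe hYR) this
  have hXm : Cfsg.IsMetacyclic ↥(⁅R, A⁆ : Subgroup G) := hsubm _ hXR
  have hXA : ⁅⁅R, A⁆, A⁆ = ⁅R, A⁆ := coprime_commutator_stable A R hA hcopR (Or.inr hsolvR)
  have hXX : ⁅⁅R, A⁆, ⁅R, A⁆⁆ = ⊥ := kl_general hp2 ⁅R, A⁆ A hAX hXp hXm hcop hXA
  have hXc : IsMulCommutative ↥(⁅R, A⁆ : Subgroup G) := by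
    refine ⟨⟨fun a b => Subtype.ext ?_⟩⟩
    have h1 := Subgroup.commutator_eq_bot_iff_le_centralizer.mp hXX
    exact (Subgroup.mem_centralizer_iff.mp (h1 a.2) b b.2).symm
  have hsup : ⁅R, A⁆ ⊔ (R ⊓ Subgroup.centralizer (A : Set G)) = R :=
    coprime_commutator_sup_centralizer A R hA hcopR (Or.inr hsolvR)
  have hinf : ⁅R, A⁆ ⊓ (R ⊓ Subgroup.centralizer (A : Set G)) = ⊥ := by
    haveI := hXc
    have hcopX : (Nat.card A).Coprime (Nat.card ↥(⁅R, A⁆ : Subgroup G)) :=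
      Nat.Coprime.coprime_dvd_right (Subgroup.card_dvd_of_le hXR) hcopR
    have h1 := (coprime_abelian_decomp A ⁅R, A⁆ hAX hcopX).1
    rw [hXA] at h1
    rw [eq_bot_iff]
    intro z hz
    rw [← h1]
    exact ⟨⟨hz.1, hz.2.2⟩, hz.1⟩
  refine ⟨hXc, hsup, hinf, ?_⟩
  intro hRna hAnc
  have hX1 : ⁅R, A⁆ ≠ ⊥ := by
    intro h
    apply hAnc
    rw [Subgroup.commutator_eq_bot_iff_le_centralizer] at h
    exact Subgroup.le_centralizer_iff.mp h
  have hC1 : R ⊓ Subgroup.centralizer (A : Set G) ≠ ⊥ := by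
    intro h
    rw [h, sup_bot_eq] at hsup
    apply hRna
    exact hsup ▸ hXc
  have hRnc : ¬ IsCyclic R := fun h => hRna (comm_of_isCyclic h)
  have hCR : R ⊓ Subgroup.centralizer (A : Set G) ≤ R := inf_le_left
  have hXcyc : IsCyclic ↥(⁅R, A⁆ : Subgroup G) := by
    by_contra hnc
    obtain ⟨y, hyC, hy1, hyp⟩ := exists_orderOf_eq (hR.to_le hCR) hC1
    have hyX := mem_of_pow_eq_one hp2 hXR hR hRm hRnc hXm hnc y (hCR hyC) hyp
    have : y ∈ ⁅R, A⁆ ⊓ (R ⊓ Subgroup.centralizer (A : Set G)) := ⟨hyX, hyC⟩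
    rw [hinf, Subgroup.mem_bot] at this
    exact hy1 this
  have hCcyc : IsCyclic ↥(R ⊓ Subgroup.centralizer (A : Set G)) := by
    by_contra hnc
    obtain ⟨y, hyX, hy1, hyp⟩ := exists_orderOf_eq hXp hX1
    have hyC := mem_of_pow_eq_one hp2 hCR hR hRm hRnc (hsubm _ hCR) hnc y (hXR hyX) hyp
    have : y ∈ ⁅R, A⁆ ⊓ (R ⊓ Subgroup.centralizer (A : Set G)) := ⟨hyX, hyC⟩
    rw [hinf, Subgroup.mem_bot] at this
    exact hy1 this
  refine ⟨hX1, hXcyc, hC1, hCcyc, ?_⟩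
  -- `R' ≤ [R, A]`
  have hCc : IsMulCommutative ↥(R ⊓ Subgroup.centralizer (A : Set G)) := comm_of_isCyclic hCcyc
  have hdecomp : ∀ r ∈ R, ∃ x ∈ ⁅R, A⁆, ∃ c ∈ R ⊓ Subgroup.centralizer (A : Set G), r = x * c := by
    intro r hr
    have hk' : r ∈ (((⁅R, A⁆ : Subgroup G) ⊔ (R ⊓ Subgroup.centralizer (A : Set G)) :
        Subgroup G) : Set G) := by
      rw [hsup]; exact hr
    rw [Subgroup.coe_mul_of_right_le_normalizer_left _ _ (hCR.trans hRX)] at hk'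
    obtain ⟨x, hx, c, hc, rfl⟩ := hk'
    exact ⟨x, hx, c, hc, rfl⟩
  have hconj : ∀ c ∈ R, ∀ x ∈ ⁅R, A⁆, c * x * c⁻¹ ∈ ⁅R, A⁆ := by
    intro c hc x hx
    exact (Subgroup.mem_normalizer_iff.mp (hRX hc) x).mp hx
  rw [Subgroup.commutator_le]
  intro r₁ hr₁ r₂ hr₂
  obtain ⟨x₁, hx₁, c₁, hc₁, rfl⟩ := hdecomp r₁ hr₁
  obtain ⟨x₂, hx₂, c₂, hc₂, rfl⟩ := hdecomp r₂ hr₂
  have hcc : c₁ * c₂ = c₂ * c₁ := by
    have := hCc.is_comm.comm ⟨c₁, hc₁⟩ ⟨c₂, hc₂⟩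
    exact congrArg Subtype.val this
  have hcc' : c₁ * c₂ * c₁⁻¹ = c₂ := by rw [hcc, mul_assoc, mul_inv_cancel, mul_one]
  have key : ⁅x₁ * c₁, x₂ * c₂⁆ = x₁ * (c₁ * x₂ * c₁⁻¹) * (c₂ * x₁⁻¹ * c₂⁻¹) * x₂⁻¹ := by
    rw [commutatorElement_def]
    calc x₁ * c₁ * (x₂ * c₂) * (x₁ * c₁)⁻¹ * (x₂ * c₂)⁻¹
        = x₁ * (c₁ * x₂ * c₁⁻¹) * (c₁ * c₂ * c₁⁻¹) * x₁⁻¹ * c₂⁻¹ * x₂⁻¹ := by group
      _ = x₁ * (c₁ * x₂ * c₁⁻¹) * c₂ * x₁⁻¹ * c₂⁻¹ * x₂⁻¹ := by rw [hcc']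
      _ = x₁ * (c₁ * x₂ * c₁⁻¹) * (c₂ * x₁⁻¹ * c₂⁻¹) * x₂⁻¹ := by group
  rw [key]
  exact Subgroup.mul_mem _ (Subgroup.mul_mem _ (Subgroup.mul_mem _ hx₁ (hconj c₁ (hCR hc₁) x₂ hx₂))
    (hconj c₂ (hCR hc₂) _ (Subgroup.inv_mem _ hx₁))) (Subgroup.inv_mem _ hx₂)

end Cfsg.Agent.Lib.Helper4.MetaOdd
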