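import Mathlib
import Cfsg.Agent.Lib.Helper4.MetaOdd3
import Cfsg.Agent.Lib.Helper4.HU8
import Cfsg.Agent.Lib.Helper4.Rk2f
import Cfsg.Agent.Lib.Helper9.P3Class2
import Cfsg.Agent.Lib.Lead.ExtraspecialCentral
import Cfsg.Agent.Lib.Lead.SCN

set_option autoImplicit false

/-! Rank two `p`-groups with an extraspecial `Ω₁`: basic facts. -/

namespace Cfsg.Agent.Lib.Helper4.RT

open scoped commutatorElement
open Cfsg.Agent.Lib.Lead

section g1

variable {G : Type*} [Group G]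

/-- the hypotheses: `W = Ω₁(R)` is nonabelian of order `p ^ 3` and exponent `p`. -/
structure ES (p : ℕ) (R W : Subgroup G) : Prop where
  pR : IsPGroup p R
  WR : W ≤ R
  cardW : Nat.card W = p ^ 3
  expW : ∀ w ∈ W, w ^ p = 1
  naW : ∃ u ∈ W, ∃ v ∈ W, u * v ≠ v * u
  omega : ∀ x ∈ R, x ^ p = 1 → x ∈ W

/-- the centre of `W` as a subgroup of the ambient group. -/
def ZW (W : Subgroup G) : Subgroup G := W ⊓ Subgroup.centralizer (W : Set G)

theorem ZW_le (W : Subgroup G) : ZW W ≤ W := inf_le_left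

theorem ZW_eq_map (W : Subgroup G) : ZW W = (Subgroup.center ↥W).map W.subtype := by
  ext x
  constructor
  · intro hx
    refine ⟨⟨x, hx.1⟩, ?_, rfl⟩
    rw [SetLike.mem_coe, Subgroup.mem_center_iff]
    intro g
    apply Subtype.ext
    exact Subgroup.mem_centralizer_iff.mp hx.2 g g.2
  · rintro ⟨w, hw, rfl⟩
    rw [SetLike.mem_coe, Subgroup.mem_center_iff] at hw
    refine ⟨w.2, ?_⟩
    show (w : G) ∈ Subgroup.centralizer (W : Set G)
    rw [Subgroup.mem_centralizer_iff]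
    intro g hg
    exact congrArg Subtype.val (hw ⟨g, hg⟩)

variable {p : ℕ} {R W : Subgroup G}

theorem ES.norm_W (h : ES p R W) :
    Subgroup.normalizer (R : Set G) ≤ Subgroup.normalizer (W : Set G) := by
  apply Cfsg.Agent.Lib.Helper4.Rk2.le_normalizer_of_conj_mem
  intro g hg w hw
  apply h.omega
  · exact (Subgroup.mem_normalizer_iff.mp hg w).mp (h.WR hw)
  · rw [conj_pow, h.expW w hw, mul_one, mul_inv_cancel]

theorem norm_ZW (W : Subgroup G) :
    Subgroup.normalizer (W : Set G) ≤ Subgroup.normalizer ((ZW W : Subgroup G) : Set G) := by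
  apply Cfsg.Agent.Lib.Helper4.Rk2.le_normalizer_of_conj_mem
  intro g hg z hz
  refine ⟨(Subgroup.mem_normalizer_iff.mp hg z).mp hz.1, ?_⟩
  exact (Subgroup.mem_normalizer_iff.mp (normalizer_le_normalizer_centralizer W hg) z).mp hz.2

theorem ES.not_comm (h : ES p R W) : ¬ ∀ a b : ↥W, a * b = b * a := by
  obtain ⟨u, hu, v, hv, huv⟩ := h.naW
  intro hcon
  exact huv (congrArg Subtype.val (hcon ⟨u, hu⟩ ⟨v, hv⟩))

variable [Finite G] [hp : Fact p.Prime]

theorem ES.card_ZW (h : ES p R W) : Nat.card (ZW W) = p := by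
  rw [ZW_eq_map, Nat.card_congr (Subgroup.equivMapOfInjective _ _ W.subtype_injective).toEquiv.symm]
  exact (Cfsg.Agent.H9P3.nonab_center p h.cardW h.not_comm).1

theorem ES.comm_mem_ZW (h : ES p R W) {u v : G} (hu : u ∈ W) (hv : v ∈ W) : ⁅u, v⁆ ∈ ZW W := by
  have h1 := (Cfsg.Agent.H9P3.nonab_center p h.cardW h.not_comm).2.1 ⟨u, hu⟩ ⟨v, hv⟩
  rw [ZW_eq_map]
  exact ⟨_, h1, rfl⟩

theorem ES.ZW_central (h : ES p R W) (hn : R ≤ Subgroup.normalizer (W : Set G)) {r z : G}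
    (hr : r ∈ R) (hz : z ∈ ZW W) : r * z = z * r := by
  have hZR : ZW W ≤ R := (ZW_le W).trans h.WR
  have : ((ZW W).subgroupOf R).Normal :=
    (Subgroup.normal_subgroupOf_iff_le_normalizer hZR).mpr (hn.trans (norm_ZW W))
  have hRp : IsPGroup p ↥R := h.pR
  have h1 := le_center_of_normal_of_card_prime hRp ((ZW W).subgroupOf R)
    (by rw [card_subgroupOf_of_le hZR]; exact h.card_ZW)
  have h2 : (⟨z, hZR hz⟩ : ↥R) ∈ (ZW W).subgroupOf R := by
    rw [Subgroup.mem_subgroupOf]; exact hz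
  have h3 := Subgroup.mem_center_iff.mp (h1 h2) ⟨r, hr⟩
  exact congrArg Subtype.val h3

end g1

end Cfsg.Agent.Lib.Helper4.RT
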