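import Mathlib
import Cfsg.Agent.Lib.Helper4.RT1

set_option autoImplicit false

/-! Rank two `p`-groups with an extraspecial `Ω₁`: commutator calculus in `W`, and the subgroup
`Lt`. -/

namespace Cfsg.Agent.Lib.Helper4.RT

open scoped commutatorElement
open Cfsg.Agent.Lib.Lead

section g2

variable {G : Type*} [Group G] [Finite G] {p : ℕ} [hp : Fact p.Prime] {R W : Subgroup G}

theorem ES.hc (h : ES p R W) : ∀ a b : ↥W, ⁅a, b⁆ ∈ Subgroup.center ↥W :=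
  (Cfsg.Agent.H9P3.nonab_center p h.cardW h.not_comm).2.1

theorem ES.comm_mul_left (h : ES p R W) {u v w : G} (hu : u ∈ W) (hv : v ∈ W) (hw : w ∈ W) :
    ⁅u * v, w⁆ = ⁅u, w⁆ * ⁅v, w⁆ :=
  congrArg Subtype.val
    (Cfsg.Agent.Lib.Helper4.MetaOdd.c2_mul_left h.hc ⟨u, hu⟩ ⟨v, hv⟩ ⟨w, hw⟩)

theorem ES.comm_mul_right (h : ES p R W) {u v w : G} (hu : u ∈ W) (hv : v ∈ W) (hw : w ∈ W) :
    ⁅u, v * w⁆ = ⁅u, v⁆ * ⁅u, w⁆ :=
  congrArg Subtype.val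
    (Cfsg.Agent.Lib.Helper4.MetaOdd.c2_mul_right h.hc ⟨u, hu⟩ ⟨v, hv⟩ ⟨w, hw⟩)

theorem ES.comm_pow_left (h : ES p R W) {u v : G} (hu : u ∈ W) (hv : v ∈ W) (n : ℕ) :
    ⁅u ^ n, v⁆ = ⁅u, v⁆ ^ n :=
  congrArg Subtype.val
    (Cfsg.Agent.Lib.Helper4.MetaOdd.c2_pow_left h.hc ⟨u, hu⟩ ⟨v, hv⟩ n)

theorem ES.comm_pow_right (h : ES p R W) {u v : G} (hu : u ∈ W) (hv : v ∈ W) (n : ℕ) :
    ⁅u, v ^ n⁆ = ⁅u, v⁆ ^ n :=
  congrArg Subtype.val
    (Cfsg.Agent.Lib.Helper4.MetaOdd.c2_pow_right h.hc ⟨u, hu⟩ ⟨v, hv⟩ n)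

omit [Finite G] in
/-- decomposition over a subgroup of index `p`. -/
theorem exists_pow_mul [Finite G] {H K : Subgroup G} (hHK : H ≤ K)
    (hn : K ≤ Subgroup.normalizer (H : Set G))
    (hcard : Nat.card K = p * Nat.card H) {y : G} (hy : y ∈ K) (hyH : y ∉ H) :
    ∀ k ∈ K, ∃ i : ℕ, ∃ h ∈ H, k = y ^ i * h := by
  haveI hN : (H.subgroupOf K).Normal := (Subgroup.normal_subgroupOf_iff_le_normalizer hHK).mpr hn
  have hcq : Nat.card (↥K ⧸ H.subgroupOf K) = p := by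
    have h1 := Subgroup.card_eq_card_quotient_mul_card_subgroup (H.subgroupOf K)
    rw [card_subgroupOf_of_le hHK, hcard] at h1
    have h2 : 0 < Nat.card H := Nat.card_pos
    exact (Nat.eq_of_mul_eq_mul_right h2 h1).symm
  have hy1 : (QuotientGroup.mk (⟨y, hy⟩ : ↥K) : ↥K ⧸ H.subgroupOf K) ≠ 1 := by
    intro h0
    rw [QuotientGroup.eq_one_iff, Subgroup.mem_subgroupOf] at h0
    exact hyH h0
  have htop := zpowers_eq_top_of_prime_card hcq hy1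
  intro k hk
  have h3 : (QuotientGroup.mk (⟨k, hk⟩ : ↥K) : ↥K ⧸ H.subgroupOf K) ∈
      Subgroup.zpowers (QuotientGroup.mk (⟨y, hy⟩ : ↥K) : ↥K ⧸ H.subgroupOf K) := by
    rw [htop]; exact Subgroup.mem_top _
  rw [← mem_powers_iff_mem_zpowers] at h3
  obtain ⟨i, hi⟩ := h3
  refine ⟨i, (y ^ i)⁻¹ * k, ?_, by group⟩
  have h4 : ((⟨y, hy⟩ : ↥K) ^ i)⁻¹ * ⟨k, hk⟩ ∈ H.subgroupOf K := by
    rw [← QuotientGroup.eq_one_iff, QuotientGroup.mk_mul, QuotientGroup.mk_inv,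
      QuotientGroup.mk_pow]
    simp only at hi
    rw [hi, inv_mul_cancel]
  rw [Subgroup.mem_subgroupOf] at h4
  simpa using h4

end g2

section g3

variable {G : Type*} [Group G]

/-- the preimage in `W` of the fixed points of `R` on `W / Z(W)`. -/
def Lt (R W : Subgroup G) : Subgroup G where
  carrier := {w | w ∈ W ∧ ∀ r ∈ R, ⁅w, r⁆ ∈ ZW W}
  one_mem' := ⟨W.one_mem, fun r _ => by rw [commutatorElement_one_left]; exact Subgroup.one_mem _⟩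
  mul_mem' := by
    rintro a b ⟨ha, ha'⟩ ⟨hb, hb'⟩
    refine ⟨W.mul_mem ha hb, fun r hr => ?_⟩
    rw [commutatorElement_mul_left_eq_conj_mul]
    apply Subgroup.mul_mem _ _ (ha' r hr)
    have h1 : a * ⁅b, r⁆ * a⁻¹ = ⁅b, r⁆ := by
      have := Subgroup.mem_centralizer_iff.mp (hb' r hr).2 a ha
      rw [this, mul_assoc, mul_inv_cancel, mul_one]
    rw [h1]
    exact hb' r hr
  inv_mem' := by
    rintro a ⟨ha, ha'⟩
    refine ⟨W.inv_mem ha, fun r hr => ?_⟩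
    rw [commutatorElement_inv_left]
    have h2 : ⁅r, a⁆ ∈ ZW W := by
      rw [← commutatorElement_inv]
      exact Subgroup.inv_mem _ (ha' r hr)
    have h1 : a⁻¹ * ⁅r, a⁆ * a = ⁅r, a⁆ := by
      have := Subgroup.mem_centralizer_iff.mp h2.2 a ha
      rw [mul_assoc, ← this, ← mul_assoc, inv_mul_cancel, one_mul]
    rw [h1]
    exact h2

theorem mem_Lt_iff {R W : Subgroup G} {w : G} :
    w ∈ Lt R W ↔ w ∈ W ∧ ∀ r ∈ R, ⁅w, r⁆ ∈ ZW W := Iff.rfl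

theorem Lt_le (R W : Subgroup G) : Lt R W ≤ W := fun _ hw => hw.1

end g3

end Cfsg.Agent.Lib.Helper4.RT
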