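import Mathlib
import Cfsg.Agent.Lib.Helper4.Rk2e
import Cfsg.Agent.Lib.Lead.HallTools
import Cfsg.Agent.Lib.Helper4.RT2

set_option autoImplicit false

/-! The action of the normaliser of a cyclic section `K / H` on that section. -/

namespace Cfsg.Agent.Lib.Helper4.NR

open scoped commutatorElement
open Cfsg.Agent.Lib.Lead

universe u

section s1

variable {G : Type u} [Group G]

/-- the common normaliser of a cyclic section `K / H` maps to a commutative group of order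
`φ(|K : H|)` with kernel acting trivially on the section -/
theorem sect_hom [Finite G] {H K : Subgroup G} (hHK : H ≤ K)
    (hKH : K ≤ Subgroup.normalizer (H : Set G))
    (hcyc : ∃ y ∈ K, ∀ k ∈ K, ∃ i : ℤ, ∃ h ∈ H, k = y ^ i * h) :
    ∃ (M : Type u) (_ : Group M)
      (ψ : ↥(Subgroup.normalizer (H : Set G) ⊓ Subgroup.normalizer (K : Set G)) →* M),
      (∀ x y : M, x * y = y * x) ∧
      (∃ n : ℕ, n * Nat.card H = Nat.card K ∧ Nat.card M = Nat.totient n) ∧
      ∀ g, ψ g = 1 → ∀ k ∈ K, ⁅(g : G), k⁆ ∈ H := by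
  classical
  set N : Subgroup G := Subgroup.normalizer (H : Set G) ⊓ Subgroup.normalizer (K : Set G) with hN
  have hHN : H ≤ N := le_inf Subgroup.le_normalizer (hHK.trans Subgroup.le_normalizer)
  have hKN : K ≤ N := le_inf hKH Subgroup.le_normalizer
  haveI hH'n : (H.subgroupOf N).Normal :=
    (Subgroup.normal_subgroupOf_iff_le_normalizer hHN).mpr inf_le_left
  haveI hK'n : (K.subgroupOf N).Normal :=
    (Subgroup.normal_subgroupOf_iff_le_normalizer hKN).mpr inf_le_right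
  set π := QuotientGroup.mk' (H.subgroupOf N) with hπ
  have hπs : Function.Surjective π := QuotientGroup.mk'_surjective _
  set Kb : Subgroup (↥N ⧸ H.subgroupOf N) := (K.subgroupOf N).map π with hKb
  haveI hKbn : Kb.Normal := Subgroup.Normal.map hK'n π hπs
  obtain ⟨y, hyK, hy⟩ := hcyc
  haveI hcycKb : IsCyclic ↥Kb := by
    refine ⟨⟨⟨π ⟨y, hKN hyK⟩, Subgroup.mem_map_of_mem _ (by rw [Subgroup.mem_subgroupOf]; exact hyK)⟩, ?_⟩⟩
    rintro ⟨x, hx⟩
    obtain ⟨k, hk, rfl⟩ := hx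
    rw [SetLike.mem_coe, Subgroup.mem_subgroupOf] at hk
    obtain ⟨i, h, hh, hkh⟩ := hy _ hk
    refine ⟨i, ?_⟩
    apply Subtype.ext
    simp only [Subgroup.coe_zpow]
    have e : k = (⟨y, hKN hyK⟩ : ↥N) ^ i * ⟨h, hHN hh⟩ := by
      apply Subtype.ext
      simp only [Subgroup.coe_mul, Subgroup.coe_zpow]
      exact hkh
    rw [e, map_mul, map_zpow]
    have : π ⟨h, hHN hh⟩ = 1 := by
      rw [hπ, QuotientGroup.mk'_apply, QuotientGroup.eq_one_iff, Subgroup.mem_subgroupOf]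
      exact hh
    rw [this, mul_one]
  refine ⟨MulAut ↥Kb, inferInstance, (MulAut.conjNormal (H := Kb)).comp π, ?_, ?_, ?_⟩
  · intro x y
    exact Cfsg.Agent.Lib.Helper4.Rk2.mulAut_comm_of_isCyclic x y
  · refine ⟨Nat.card ↥Kb, ?_, IsCyclic.card_mulAut ↥Kb⟩
    have h1 := card_map_mk_mul (H.subgroupOf N) (K.subgroupOf N)
    have h2 : K.subgroupOf N ⊓ H.subgroupOf N = H.subgroupOf N := by
      rw [inf_eq_right]
      intro x hx
      rw [Subgroup.mem_subgroupOf] at hx ⊢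
      exact hHK hx
    rw [h2, card_subgroupOf_of_le hHN, card_subgroupOf_of_le hKN] at h1
    exact h1
  · intro g hg k hk
    have h1 : (MulAut.conjNormal (H := Kb) (π g)) ⟨π ⟨k, hKN hk⟩,
        Subgroup.mem_map_of_mem _ (by rw [Subgroup.mem_subgroupOf]; exact hk)⟩ =
        ⟨π ⟨k, hKN hk⟩, Subgroup.mem_map_of_mem _ (by rw [Subgroup.mem_subgroupOf]; exact hk)⟩ := by
      have : (MulAut.conjNormal (H := Kb)) (π g) = 1 := hg
      rw [this]; rfl
    have h2 := congrArg Subtype.val h1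
    rw [MulAut.conjNormal_apply] at h2
    simp only at h2
    have h3 : π (g * ⟨k, hKN hk⟩ * g⁻¹ * (⟨k, hKN hk⟩ : ↥N)⁻¹) = 1 := by
      rw [map_mul, map_mul, map_mul, map_inv, map_inv, h2, mul_inv_cancel]
    rw [hπ, QuotientGroup.mk'_apply, QuotientGroup.eq_one_iff, Subgroup.mem_subgroupOf] at h3
    simpa [commutatorElement_def] using h3

/-- commutators of elements normalising a cyclic section act trivially on it -/
theorem sect_comm [Finite G] {H K : Subgroup G} (hHK : H ≤ K)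
    (hKH : K ≤ Subgroup.normalizer (H : Set G))
    (hcyc : ∃ y ∈ K, ∀ k ∈ K, ∃ i : ℤ, ∃ h ∈ H, k = y ^ i * h) {a b : G}
    (ha : a ∈ Subgroup.normalizer (H : Set G) ⊓ Subgroup.normalizer (K : Set G))
    (hb : b ∈ Subgroup.normalizer (H : Set G) ⊓ Subgroup.normalizer (K : Set G)) :
    ∀ k ∈ K, ⁅⁅a, b⁆, k⁆ ∈ H := by
  obtain ⟨M, _, ψ, hcomm, -, hker⟩ := sect_hom hHK hKH hcyc
  have h1 : ψ ⁅(⟨a, ha⟩ : ↥(Subgroup.normalizer (H : Set G) ⊓ Subgroup.normalizer (K : Set G))),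
      ⟨b, hb⟩⁆ = 1 := by
    rw [map_commutatorElement, commutatorElement_def, hcomm (ψ ⟨a, ha⟩) (ψ ⟨b, hb⟩)]
    group
  exact hker _ h1

variable {p : ℕ} [hp : Fact p.Prime]

/-- `(p-1)`-th powers act trivially on a section of order dividing `p` -/
theorem sect_pow [Finite G] {H K : Subgroup G} (hHK : H ≤ K)
    (hKH : K ≤ Subgroup.normalizer (H : Set G))
    (hcyc : ∃ y ∈ K, ∀ k ∈ K, ∃ i : ℤ, ∃ h ∈ H, k = y ^ i * h)
    (hcard : Nat.card K = Nat.card H ∨ Nat.card K = p * Nat.card H) {a : G}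
    (ha : a ∈ Subgroup.normalizer (H : Set G) ⊓ Subgroup.normalizer (K : Set G)) :
    ∀ k ∈ K, ⁅a ^ (p - 1), k⁆ ∈ H := by
  obtain ⟨M, _, ψ, -, ⟨n, hn, hM⟩, hker⟩ := sect_hom hHK hKH hcyc
  have hHpos : 0 < Nat.card H := Nat.card_pos
  have hMdvd : Nat.card M ∣ p - 1 := by
    rcases hcard with h | h
    · have : n = 1 := by
        have : n * Nat.card H = 1 * Nat.card H := by rw [hn, h, one_mul]
        exact Nat.eq_of_mul_eq_mul_right hHpos this
      rw [hM, this, Nat.totient_one]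
      exact one_dvd _
    · have : n = p := by
        have : n * Nat.card H = p * Nat.card H := by rw [hn, h]
        exact Nat.eq_of_mul_eq_mul_right hHpos this
      rw [hM, this, Nat.totient_prime hp.out]
  haveI : Finite M := by
    apply Nat.finite_of_card_ne_zero
    rw [hM]
    have hn0 : n ≠ 0 := by
      rintro rfl
      rw [zero_mul] at hn
      have : 0 < Nat.card K := Nat.card_pos
      omega
    exact (Nat.totient_pos.mpr (Nat.pos_of_ne_zero hn0)).ne'
  have h1 : ψ (⟨a, ha⟩ ^ (p - 1)) = 1 := by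
    rw [map_pow]
    obtain ⟨c, hc⟩ := hMdvd
    rw [hc, pow_mul, pow_card_eq_one', one_pow]
  have := hker _ h1
  simpa using this

/-- an element of prime order `q ∤ p (p - 1)` acts trivially on a cyclic section of a `p`-group -/
theorem sect_prime [Finite G] {H K : Subgroup G} (hHK : H ≤ K)
    (hKH : K ≤ Subgroup.normalizer (H : Set G))
    (hcyc : ∃ y ∈ K, ∀ k ∈ K, ∃ i : ℤ, ∃ h ∈ H, k = y ^ i * h)
    (hKp : IsPGroup p K) {q : ℕ} (hq : q.Prime) (hqp : ¬ q ∣ p * (p - 1)) {a : G}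
    (ha : a ∈ Subgroup.normalizer (H : Set G) ⊓ Subgroup.normalizer (K : Set G))
    (haq : a ^ q = 1) :
    ∀ k ∈ K, ⁅a, k⁆ ∈ H := by
  obtain ⟨M, _, ψ, -, ⟨n, hn, hM⟩, hker⟩ := sect_hom hHK hKH hcyc
  have hn0 : n ≠ 0 := by
    rintro rfl
    rw [zero_mul] at hn
    have : 0 < Nat.card K := Nat.card_pos
    omega
  haveI : Finite M := by
    apply Nat.finite_of_card_ne_zero
    rw [hM]
    exact (Nat.totient_pos.mpr (Nat.pos_of_ne_zero hn0)).ne'
  obtain ⟨m, hm⟩ := IsPGroup.iff_card.mp hKp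
  have hndvd : n ∣ p ^ m := by rw [← hm, ← hn]; exact Dvd.intro _ rfl
  obtain ⟨j, -, hj⟩ := (Nat.dvd_prime_pow hp.out).mp hndvd
  have hcop : Nat.Coprime q (Nat.card M) := by
    rw [hM, hj]
    rcases Nat.eq_zero_or_pos j with h0 | h0
    · rw [h0, pow_zero, Nat.totient_one]; exact Nat.coprime_one_right _
    · rw [Nat.totient_prime_pow hp.out h0]
      have h1 : ¬ q ∣ p := fun h => hqp (h.mul_right _)
      have h2 : ¬ q ∣ p - 1 := fun h => hqp (h.mul_left _)
      apply Nat.Coprime.mul_right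
      · exact Nat.Coprime.pow_right _ ((Nat.Prime.coprime_iff_not_dvd hq).mpr h1)
      · exact (Nat.Prime.coprime_iff_not_dvd hq).mpr h2
  have h1 : ψ ⟨a, ha⟩ = 1 := by
    have e1 : (ψ ⟨a, ha⟩) ^ q = 1 := by
      rw [← map_pow]
      have : (⟨a, ha⟩ : ↥(Subgroup.normalizer (H : Set G) ⊓ Subgroup.normalizer (K : Set G))) ^ q
          = 1 := Subtype.ext (by simpa using haq)
      rw [this, map_one]
    have e2 : (ψ ⟨a, ha⟩) ^ Nat.card M = 1 := pow_card_eq_one'
    have e3 := pow_gcd_eq_one.mpr ⟨e1, e2⟩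
    rw [Nat.Coprime] at hcop
    rwa [hcop, pow_one] at e3
  exact hker _ h1

/-- a section of order `1` or `p` is cyclic -/
theorem hcyc_of_card [Finite G] {H K : Subgroup G} (hHK : H ≤ K)
    (hKH : K ≤ Subgroup.normalizer (H : Set G))
    (hcard : Nat.card K = Nat.card H ∨ Nat.card K = p * Nat.card H) :
    ∃ y ∈ K, ∀ k ∈ K, ∃ i : ℤ, ∃ h ∈ H, k = y ^ i * h := by
  rcases hcard with h | h
  · have hKeq : H = K := Subgroup.eq_of_le_of_card_ge hHK h.le
    exact ⟨1, K.one_mem, fun k hk => ⟨0, k, hKeq ▸ hk, by simp⟩⟩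
  · have hne : ¬ K ≤ H := by
      intro hle
      have := Subgroup.card_le_of_le hle
      have hHpos : 0 < Nat.card H := Nat.card_pos
      have hp1 := hp.out.one_lt
      rw [h] at this
      nlinarith
    obtain ⟨y, hyK, hyH⟩ := SetLike.not_le_iff_exists.mp hne
    refine ⟨y, hyK, fun k hk => ?_⟩
    obtain ⟨i, h', hh', e⟩ := Cfsg.Agent.Lib.Helper4.RT.exists_pow_mul hHK hKH h hyK hyH k hk
    exact ⟨(i : ℤ), h', hh', by rw [zpow_natCast]; exact e⟩

end s1

end Cfsg.Agent.Lib.Helper4.NR
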