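import Mathlib
import Cfsg.Prelude.Def_CaseTheorems
import Cfsg.Prelude.Def_Transfer
import Cfsg.Agent.Lib.Lead.ClassTwo
import Cfsg.Agent.Lib.Lead.Nilpotent
import Cfsg.Agent.Lib.Helper3.NormalSq2

set_option autoImplicit false

namespace Cfsg.Agent.Lib.Helper4.Narrow

open Cfsg.Agent.Lib.Lead
open Cfsg.Agent.Lib.Helper3.NormalSq
open scoped commutatorElement

variable {R : Type*} [Group R]

/-- the subgroup generated by the elements of `H` of order dividing `p` -/
def Om (p : ℕ) (H : Subgroup R) : Subgroup R := Subgroup.closure {x : R | x ∈ H ∧ x ^ p = 1}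

theorem mem_Om_iff {p : ℕ} {H : Subgroup R}
    (hmul : ∀ x y : R, x ∈ H → y ∈ H → x ^ p = 1 → y ^ p = 1 → (x * y) ^ p = 1) (x : R) :
    x ∈ Om p H ↔ x ∈ H ∧ x ^ p = 1 := by
  constructor
  · intro hx
    let S : Subgroup R :=
      { carrier := {x | x ∈ H ∧ x ^ p = 1}
        one_mem' := ⟨H.one_mem, one_pow _⟩
        mul_mem' := fun {a b} ha hb => ⟨H.mul_mem ha.1 hb.1, hmul a b ha.1 hb.1 ha.2 hb.2⟩
        inv_mem' := fun {a} ha => ⟨H.inv_mem ha.1, by
          show a⁻¹ ^ p = 1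
          rw [inv_pow, ha.2, inv_one]⟩ }
    have : Om p H ≤ S := (Subgroup.closure_le S).mpr (fun y hy => hy)
    exact this hx
  · intro hx
    exact Subgroup.subset_closure hx

theorem center_mul_pow {p : ℕ} (x y : R) (hx : x ∈ Subgroup.center R) (_hy : y ∈ Subgroup.center R)
    (hxp : x ^ p = 1) (hyp : y ^ p = 1) : (x * y) ^ p = 1 := by
  have hc : Commute x y := (Subgroup.mem_center_iff.mp hx y).symm
  rw [hc.mul_pow, hxp, hyp, one_mul]

theorem ucs2_mul_pow {p : ℕ} [Fact p.Prime] (hp2 : p ≠ 2) (x y : R)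
    (hx : x ∈ Subgroup.upperCentralSeries R 2) (hy : y ∈ Subgroup.upperCentralSeries R 2)
    (hxp : x ^ p = 1) (hyp : y ^ p = 1) : (x * y) ^ p = 1 := by
  have hc : ∀ a b : ↥(Subgroup.upperCentralSeries R 2),
      ⁅a, b⁆ ∈ Subgroup.center ↥(Subgroup.upperCentralSeries R 2) := by
    intro a b
    rw [Subgroup.mem_center_iff]
    intro g
    have h1 : ⁅(a : R), (b : R)⁆ ∈ Subgroup.center R := by
      have := (Subgroup.mem_upperCentralSeries_succ_iff (n := 1)).mp a.2 (b : R)
      rwa [Subgroup.upperCentralSeries_one] at this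
    apply Subtype.ext
    have := Subgroup.mem_center_iff.mp h1 (g : R)
    simpa [commutatorElement_def] using this
  have h := mul_pow_eq_one_of_class_two hp2 hc ⟨x, hx⟩ ⟨y, hy⟩ (Subtype.ext hxp) (Subtype.ext hyp)
  have := congrArg Subtype.val h
  simpa using this

/-- if all commutators `[b, x]`, `b ∈ B`, lie in `Z` then `|B : C_B(x)| ≤ |Z|` -/
theorem card_le_mul_card_inf_centralizer_singleton [Finite R] (B Z : Subgroup R) (x : R)
    (h : ∀ b ∈ B, b * x * b⁻¹ * x⁻¹ ∈ Z) :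
    Nat.card B ≤ Nat.card Z * Nat.card ↥(B ⊓ Subgroup.centralizer ({x} : Set R)) := by
  classical
  set C' : Subgroup B := (Subgroup.centralizer ({x} : Set R)).subgroupOf B with hC'
  have h1 : C'.index * Nat.card C' = Nat.card B := Subgroup.index_mul_card C'
  have h2 : Nat.card C' = Nat.card ↥(B ⊓ Subgroup.centralizer ({x} : Set R)) := by
    rw [hC', ← Subgroup.inf_subgroupOf_right, inf_comm]
    exact card_subgroupOf_of_le' inf_le_left
  have h3 : C'.index ≤ Nat.card Z := by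
    rw [Subgroup.index]
    let F : B ⧸ C' → Z := fun q =>
      ⟨((q.out : B) : R) * x * ((q.out : B) : R)⁻¹ * x⁻¹, h _ (q.out).2⟩
    apply Nat.card_le_card_of_injective F
    intro q₁ q₂ hq
    have hq' : ((q₁.out : B) : R) * x * ((q₁.out : B) : R)⁻¹ * x⁻¹ =
        ((q₂.out : B) : R) * x * ((q₂.out : B) : R)⁻¹ * x⁻¹ := congrArg Subtype.val hq
    have e1 : ((q₁.out : B) : R) * x * ((q₁.out : B) : R)⁻¹ =
        ((q₂.out : B) : R) * x * ((q₂.out : B) : R)⁻¹ := mul_right_cancel hq'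
    have h4 : (q₁.out)⁻¹ * q₂.out ∈ C' := by
      show _ ∈ (Subgroup.centralizer ({x} : Set R)).subgroupOf B
      rw [Subgroup.mem_subgroupOf, Subgroup.mem_centralizer_singleton_iff]
      push_cast
      calc ((q₁.out : B) : R)⁻¹ * ((q₂.out : B) : R) * x
          = ((q₁.out : B) : R)⁻¹ * (((q₂.out : B) : R) * x * ((q₂.out : B) : R)⁻¹) *
              ((q₂.out : B) : R) := by group
        _ = ((q₁.out : B) : R)⁻¹ * (((q₁.out : B) : R) * x * ((q₁.out : B) : R)⁻¹) *
              ((q₂.out : B) : R) := by rw [e1]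
        _ = x * (((q₁.out : B) : R)⁻¹ * ((q₂.out : B) : R)) := by group
    rw [← QuotientGroup.out_eq' q₁, ← QuotientGroup.out_eq' q₂]
    exact QuotientGroup.eq.mpr h4
  calc Nat.card B = C'.index * Nat.card C' := h1.symm
    _ ≤ Nat.card Z * Nat.card C' := Nat.mul_le_mul_right _ h3
    _ = _ := by rw [h2]

end Cfsg.Agent.Lib.Helper4.Narrow
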