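import Mathlib
import Cfsg.Agent.Lib.Helper4.RT2

set_option autoImplicit false

/-! Rank two `p`-groups with an extraspecial `Ω₁`: the subgroup `Lt`. -/

namespace Cfsg.Agent.Lib.Helper4.RT

open scoped commutatorElement
open Cfsg.Agent.Lib.Lead

section g3

variable {G : Type*} [Group G] [Finite G] {p : ℕ} [hp : Fact p.Prime] {R W : Subgroup G}

theorem ES.ZW_le_Lt (h : ES p R W) (hn : R ≤ Subgroup.normalizer (W : Set G)) :
    ZW W ≤ Lt R W := by
  intro z hz
  refine ⟨hz.1, fun r hr => ?_⟩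
  have h1 : ⁅z, r⁆ = 1 := by
    rw [commutatorElement_eq_one_iff_mul_comm]
    exact (h.ZW_central hn hr hz).symm
  rw [h1]; exact Subgroup.one_mem _

theorem ES.comm_mem_W (hn : R ≤ Subgroup.normalizer (W : Set G)) {w r : G}
    (hw : w ∈ W) (hr : r ∈ R) : ⁅w, r⁆ ∈ W := by
  rw [commutatorElement_def, mul_assoc, mul_assoc]
  apply W.mul_mem hw
  rw [← mul_assoc]
  exact (Subgroup.mem_normalizer_iff.mp (hn hr) w⁻¹).mp (W.inv_mem hw)

theorem ES.comm_mem_Lt (h : ES p R W) (hn : R ≤ Subgroup.normalizer (W : Set G)) {w r : G}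
    (hw : w ∈ W) (hr : r ∈ R) : ⁅w, r⁆ ∈ Lt R W := by
  refine ⟨ES.comm_mem_W hn hw hr, fun s hs => ?_⟩
  have hZR : ZW W ≤ R := (ZW_le W).trans h.WR
  haveI hNn : (W.subgroupOf R).Normal :=
    (Subgroup.normal_subgroupOf_iff_le_normalizer h.WR).mpr hn
  haveI hTn : ((ZW W).subgroupOf R).Normal :=
    (Subgroup.normal_subgroupOf_iff_le_normalizer hZR).mpr (hn.trans (norm_ZW W))
  have hRp : IsPGroup p ↥R := h.pR
  have hTN : (ZW W).subgroupOf R ≤ W.subgroupOf R := by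
    intro x hx
    rw [Subgroup.mem_subgroupOf] at hx ⊢
    exact ZW_le W hx
  have hcard : Nat.card (W.subgroupOf R) ≤ p ^ 2 * Nat.card ((ZW W).subgroupOf R) := by
    rw [card_subgroupOf_of_le h.WR, card_subgroupOf_of_le hZR, h.cardW, h.card_ZW]
    exact le_of_eq (by ring)
  have h1 := Cfsg.Agent.Lib.Helper4.OQ.comm_comm_le hRp (W.subgroupOf R) ((ZW W).subgroupOf R)
    hTN hcard
  have h2 : ⁅⁅(⟨w, h.WR hw⟩ : ↥R), (⟨r, hr⟩ : ↥R)⁆, (⟨s, hs⟩ : ↥R)⁆ ∈
      ⁅⁅W.subgroupOf R, (⊤ : Subgroup ↥R)⁆, (⊤ : Subgroup ↥R)⁆ := by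
    apply Subgroup.commutator_mem_commutator _ (Subgroup.mem_top _)
    apply Subgroup.commutator_mem_commutator _ (Subgroup.mem_top _)
    rw [Subgroup.mem_subgroupOf]; exact hw
  have h3 := h1 h2
  rw [Subgroup.mem_subgroupOf] at h3
  exact h3

omit [Finite G] hp in
theorem ES.norm_Lt (h : ES p R W) :
    Subgroup.normalizer (R : Set G) ≤ Subgroup.normalizer ((Lt R W : Subgroup G) : Set G) := by
  apply Cfsg.Agent.Lib.Helper4.Rk2.le_normalizer_of_conj_mem
  intro g hg w hw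
  have hgW : g ∈ Subgroup.normalizer (W : Set G) := h.norm_W hg
  have hgZ : g ∈ Subgroup.normalizer ((ZW W : Subgroup G) : Set G) := norm_ZW W hgW
  refine ⟨(Subgroup.mem_normalizer_iff.mp hgW w).mp hw.1, fun r hr => ?_⟩
  have h1 : g⁻¹ * r * g ∈ R := by
    have := (Subgroup.mem_normalizer_iff.mp (Subgroup.inv_mem _ hg) r).mp hr
    rwa [inv_inv] at this
  have h2 : ⁅g * w * g⁻¹, r⁆ = g * ⁅w, g⁻¹ * r * g⁆ * g⁻¹ := by
    rw [conjugate_commutatorElement]
    congr 1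
    group
  rw [h2]
  exact (Subgroup.mem_normalizer_iff.mp hgZ _).mp (hw.2 _ h1)

/-- the action of `R` on `W / Z(W)` is not trivial. -/
def NT (R W : Subgroup G) : Prop := ∃ w ∈ W, ∃ r ∈ R, ⁅w, r⁆ ∉ ZW W

theorem ES.card_Lt (h : ES p R W) (hn : R ≤ Subgroup.normalizer (W : Set G)) (hnt : NT R W) :
    Nat.card (Lt R W) = p ^ 2 := by
  obtain ⟨w, hw, r, hr, hwr⟩ := hnt
  have hp1 := hp.out.one_lt
  have hWp : IsPGroup p ↥W := h.pR.to_le h.WR
  obtain ⟨k, hk⟩ := IsPGroup.iff_card.mp (hWp.to_le (Lt_le R W))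
  have h1 : ZW W ≤ Lt R W := h.ZW_le_Lt hn
  have h2 : Lt R W ≤ W := Lt_le R W
  have hne1 : ZW W ≠ Lt R W := by
    intro he
    apply hwr
    rw [he]
    exact h.comm_mem_Lt hn hw hr
  have hne2 : Lt R W ≠ W := by
    intro he
    have : w ∈ Lt R W := by rw [he]; exact hw
    exact hwr (this.2 r hr)
  have hc1 : Nat.card (ZW W) ≤ Nat.card (Lt R W) := Subgroup.card_le_of_le h1
  have hc2 : Nat.card (Lt R W) ≤ Nat.card W := Subgroup.card_le_of_le h2
  rw [h.card_ZW, hk] at hc1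
  rw [h.cardW, hk] at hc2
  have hk1 : 1 ≤ k := by
    have : p ^ 1 ≤ p ^ k := by rwa [pow_one]
    exact (Nat.pow_le_pow_iff_right hp1).mp this
  have hk3 : k ≤ 3 := (Nat.pow_le_pow_iff_right hp1).mp hc2
  have hk1' : k ≠ 1 := by
    intro he
    apply hne1
    apply Subgroup.eq_of_le_of_card_ge h1
    rw [hk, he, pow_one, h.card_ZW]
  have hk3' : k ≠ 3 := by
    intro he
    apply hne2
    apply Subgroup.eq_of_le_of_card_ge h2
    rw [hk, he, h.cardW]
  have : k = 2 := by omega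
  rw [hk, this]

theorem ES.Lt_comm (h : ES p R W) (hn : R ≤ Subgroup.normalizer (W : Set G)) (hnt : NT R W)
    {u v : G} (hu : u ∈ Lt R W) (hv : v ∈ Lt R W) : u * v = v * u := by
  have h1 := IsPGroup.isMulCommutative_of_card_eq_prime_sq (h.card_Lt hn hnt)
  exact congrArg Subtype.val (h1.is_comm.comm ⟨u, hu⟩ ⟨v, hv⟩)

theorem ES.inf_centralizer_Lt (h : ES p R W) (hn : R ≤ Subgroup.normalizer (W : Set G))
    (hnt : NT R W) : W ⊓ Subgroup.centralizer ((Lt R W : Subgroup G) : Set G) = Lt R W := by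
  have hp1 := hp.out.one_lt
  have hle : Lt R W ≤ W ⊓ Subgroup.centralizer ((Lt R W : Subgroup G) : Set G) := by
    intro u hu
    refine Subgroup.mem_inf.mpr ⟨Lt_le R W hu, ?_⟩
    rw [Subgroup.mem_centralizer_iff]
    intro v hv
    exact h.Lt_comm hn hnt hv hu
  symm
  apply Subgroup.eq_of_le_of_card_ge hle
  have hWp : IsPGroup p ↥W := h.pR.to_le h.WR
  obtain ⟨k, hk⟩ := IsPGroup.iff_card.mp
    (hWp.to_le (inf_le_left : W ⊓ Subgroup.centralizer ((Lt R W : Subgroup G) : Set G) ≤ W))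
  have hc2 : Nat.card ↥(W ⊓ Subgroup.centralizer ((Lt R W : Subgroup G) : Set G)) ≤ Nat.card W :=
    Subgroup.card_le_of_le inf_le_left
  rw [h.cardW, hk] at hc2
  have hk3 : k ≤ 3 := (Nat.pow_le_pow_iff_right hp1).mp hc2
  have hk3' : k ≠ 3 := by
    intro he
    have h3 : W ⊓ Subgroup.centralizer ((Lt R W : Subgroup G) : Set G) = W := by
      apply Subgroup.eq_of_le_of_card_ge inf_le_left
      rw [hk, he, h.cardW]
    have h4 : Lt R W ≤ ZW W := by
      intro u hu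
      refine Subgroup.mem_inf.mpr ⟨Lt_le R W hu, ?_⟩
      rw [Subgroup.mem_centralizer_iff]
      intro v hv
      have hv' : v ∈ W ⊓ Subgroup.centralizer ((Lt R W : Subgroup G) : Set G) := by
        rw [h3]; exact hv
      exact (Subgroup.mem_centralizer_iff.mp hv'.2 u hu).symm
    have h5 := Subgroup.card_le_of_le h4
    rw [h.card_Lt hn hnt, h.card_ZW] at h5
    nlinarith
  rw [hk, h.card_Lt hn hnt]
  exact Nat.pow_le_pow_right hp.out.pos (by omega)

end g3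

end Cfsg.Agent.Lib.Helper4.RT
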