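import Mathlib
import Cfsg.Agent.Lib.Helper4.RT3
import Cfsg.Agent.Lib.Helper4.ZP19

set_option autoImplicit false

/-! Rank two `p`-groups with an extraspecial `Ω₁`: the subgroups `Mc` and `Lc`. -/

namespace Cfsg.Agent.Lib.Helper4.RT

open scoped commutatorElement
open Cfsg.Agent.Lib.Lead

section g4a

variable {G : Type*} [Group G]

/-- the centralizer of `Lt` in `R`. -/
def Mc (R W : Subgroup G) : Subgroup G :=
  R ⊓ Subgroup.centralizer ((Lt R W : Subgroup G) : Set G)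

/-- the elements of `R` acting trivially on `W / Z(W)`. -/
def Lc (R W : Subgroup G) : Subgroup G where
  carrier := {g | g ∈ R ∧ g ∈ Subgroup.normalizer ((ZW W : Subgroup G) : Set G) ∧
    ∀ w ∈ W, ⁅w, g⁆ ∈ ZW W}
  one_mem' := ⟨R.one_mem, Subgroup.one_mem _, fun w _ => by
    rw [commutatorElement_one_right]; exact Subgroup.one_mem _⟩
  mul_mem' := by
    rintro a b ⟨ha, han, ha'⟩ ⟨hb, hbn, hb'⟩
    refine ⟨R.mul_mem ha hb, Subgroup.mul_mem _ han hbn, fun w hw => ?_⟩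
    rw [commutatorElement_mul_right_eq_mul_conj, mul_assoc, mul_assoc]
    apply Subgroup.mul_mem _ (ha' w hw)
    rw [← mul_assoc]
    exact (Subgroup.mem_normalizer_iff.mp han _).mp (hb' w hw)
  inv_mem' := by
    rintro a ⟨ha, han, ha'⟩
    refine ⟨R.inv_mem ha, Subgroup.inv_mem _ han, fun w hw => ?_⟩
    rw [commutatorElement_inv_right]
    have h2 : ⁅a, w⁆ ∈ ZW W := by
      rw [← commutatorElement_inv]
      exact Subgroup.inv_mem _ (ha' w hw)
    have := (Subgroup.mem_normalizer_iff.mp (Subgroup.inv_mem _ han) _).mp h2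
    rwa [inv_inv] at this

theorem Mc_le (R W : Subgroup G) : Mc R W ≤ R := inf_le_left

theorem Lc_le (R W : Subgroup G) : Lc R W ≤ R := fun _ hg => hg.1

theorem mem_Lc_iff {R W : Subgroup G} (hn : R ≤ Subgroup.normalizer (W : Set G)) {g : G} :
    g ∈ Lc R W ↔ g ∈ R ∧ ∀ w ∈ W, ⁅w, g⁆ ∈ ZW W := by
  constructor
  · intro hg
    exact ⟨hg.1, hg.2.2⟩
  · intro hg
    exact ⟨hg.1, norm_ZW W (hn hg.1), hg.2⟩

end g4a

section g4

variable {G : Type*} [Group G] [Finite G] {p : ℕ} [hp : Fact p.Prime] {R W : Subgroup G}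

omit [Finite G] hp in
theorem ES.norm_Mc (h : ES p R W) :
    Subgroup.normalizer (R : Set G) ≤ Subgroup.normalizer ((Mc R W : Subgroup G) : Set G) := by
  apply Cfsg.Agent.Lib.Helper4.Rk2.le_normalizer_of_conj_mem
  intro g hg x hx
  have hx' := Subgroup.mem_inf.mp hx
  refine Subgroup.mem_inf.mpr ⟨(Subgroup.mem_normalizer_iff.mp hg x).mp hx'.1, ?_⟩
  exact (Subgroup.mem_normalizer_iff.mp
    (normalizer_le_normalizer_centralizer (Lt R W) (h.norm_Lt hg)) x).mp hx'.2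

omit [Finite G] hp in
theorem ES.norm_Lc (h : ES p R W) :
    Subgroup.normalizer (R : Set G) ≤ Subgroup.normalizer ((Lc R W : Subgroup G) : Set G) := by
  apply Cfsg.Agent.Lib.Helper4.Rk2.le_normalizer_of_conj_mem
  intro g hg x hx
  have hgW : g ∈ Subgroup.normalizer (W : Set G) := h.norm_W hg
  have hgZ : g ∈ Subgroup.normalizer ((ZW W : Subgroup G) : Set G) := norm_ZW W hgW
  refine ⟨(Subgroup.mem_normalizer_iff.mp hg x).mp hx.1, ?_, fun w hw => ?_⟩
  · exact Subgroup.mul_mem _ (Subgroup.mul_mem _ hgZ hx.2.1) (Subgroup.inv_mem _ hgZ)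
  · have h1 : g⁻¹ * w * g ∈ W := by
      have := (Subgroup.mem_normalizer_iff.mp (Subgroup.inv_mem _ hgW) w).mp hw
      rwa [inv_inv] at this
    have h2 : ⁅w, g * x * g⁻¹⁆ = g * ⁅g⁻¹ * w * g, x⁆ * g⁻¹ := by
      rw [conjugate_commutatorElement]
      congr 1
      group
    rw [h2]
    exact (Subgroup.mem_normalizer_iff.mp hgZ _).mp (hx.2.2 _ h1)

theorem ES.W_le_Lc (h : ES p R W) (hn : R ≤ Subgroup.normalizer (W : Set G)) : W ≤ Lc R W := by
  intro w hw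
  rw [mem_Lc_iff hn]
  exact ⟨h.WR hw, fun u hu => h.comm_mem_ZW hu hw⟩

omit [Finite G] hp in
theorem exists_not_mem_Lc (hn : R ≤ Subgroup.normalizer (W : Set G)) (hnt : NT R W) :
    ∃ r ∈ R, r ∉ Lc R W := by
  obtain ⟨w, hw, r, hr, hwr⟩ := hnt
  refine ⟨r, hr, fun hcon => ?_⟩
  rw [mem_Lc_iff hn] at hcon
  exact hwr (hcon.2 w hw)

theorem ES.Lt_le_Mc (h : ES p R W) (hn : R ≤ Subgroup.normalizer (W : Set G)) (hnt : NT R W) :
    Lt R W ≤ Mc R W := by
  intro u hu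
  refine Subgroup.mem_inf.mpr ⟨h.WR (Lt_le R W hu), ?_⟩
  rw [Subgroup.mem_centralizer_iff]
  intro v hv
  exact h.Lt_comm hn hnt hv hu

theorem ES.mem_Lt_of_pow (h : ES p R W) (hn : R ≤ Subgroup.normalizer (W : Set G)) (hnt : NT R W)
    {x : G} (hx : x ∈ Mc R W) (hxp : x ^ p = 1) : x ∈ Lt R W := by
  have hx' := Subgroup.mem_inf.mp hx
  rw [← h.inf_centralizer_Lt hn hnt]
  exact Subgroup.mem_inf.mpr ⟨h.omega x hx'.1 hxp, hx'.2⟩

theorem ES.isMetacyclic_Mc (h : ES p R W) (hp3 : 3 < p) (hn : R ≤ Subgroup.normalizer (W : Set G))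
    (hnt : NT R W) : Cfsg.IsMetacyclic ↥(Mc R W) := by
  have hMp : IsPGroup p ↥(Mc R W) := h.pR.to_le (Mc_le R W)
  apply Cfsg.Agent.Lib.Helper4.HU.huppert hp3 _ _ rfl hMp
  have h1 : Cfsg.Agent.Lib.Helper4.OQ.Om p ↥(Mc R W) ≤ (Lt R W).subgroupOf (Mc R W) := by
    unfold Cfsg.Agent.Lib.Helper4.OQ.Om
    rw [Subgroup.closure_le]
    intro x hx
    rw [SetLike.mem_coe, Subgroup.mem_subgroupOf]
    apply h.mem_Lt_of_pow hn hnt x.2
    have hx' : x ^ p = 1 := hx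
    rw [← Subgroup.coe_pow, hx', Subgroup.coe_one]
  calc Nat.card (Cfsg.Agent.Lib.Helper4.OQ.Om p ↥(Mc R W))
      ≤ Nat.card ((Lt R W).subgroupOf (Mc R W)) := Subgroup.card_le_of_le h1
    _ = p ^ 2 := by rw [card_subgroupOf_of_le (h.Lt_le_Mc hn hnt), h.card_Lt hn hnt]

end g4

end Cfsg.Agent.Lib.Helper4.RT
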