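import Mathlib
import Cfsg.Agent.Lib.Helper4.RT4

set_option autoImplicit false

/-! Rank two `p`-groups with an extraspecial `Ω₁`: decompositions. -/

namespace Cfsg.Agent.Lib.Helper4.RT

open scoped commutatorElement
open Cfsg.Agent.Lib.Lead

section g5

variable {G : Type*} [Group G] [Finite G] {p : ℕ} [hp : Fact p.Prime] {R W : Subgroup G}

theorem ES.exists_y (h : ES p R W) (hn : R ≤ Subgroup.normalizer (W : Set G)) (hnt : NT R W) :
    ∃ y ∈ W, y ∉ Lt R W := by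
  by_contra hcon
  push Not at hcon
  have h1 : Lt R W = W := le_antisymm (Lt_le R W) hcon
  have h2 := h.card_Lt hn hnt
  rw [h1, h.cardW] at h2
  have := Nat.pow_right_injective hp.out.two_le h2
  omega

theorem ES.exists_x (h : ES p R W) (hn : R ≤ Subgroup.normalizer (W : Set G)) (hnt : NT R W) :
    ∃ x ∈ Lt R W, x ∉ ZW W := by
  by_contra hcon
  push Not at hcon
  have h1 : Lt R W = ZW W := le_antisymm hcon (h.ZW_le_Lt hn)
  have h2 := h.card_Lt hn hnt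
  rw [h1, h.card_ZW] at h2
  have h3 : p ^ 1 = p ^ 2 := by rw [pow_one]; exact h2
  have := Nat.pow_right_injective hp.out.two_le h3
  omega

theorem ES.W_decomp (h : ES p R W) (hn : R ≤ Subgroup.normalizer (W : Set G)) (hnt : NT R W)
    {y : G} (hy : y ∈ W) (hyL : y ∉ Lt R W) :
    ∀ w ∈ W, ∃ i : ℕ, ∃ l ∈ Lt R W, w = y ^ i * l := by
  apply exists_pow_mul (p := p) (Lt_le R W) _ _ hy hyL
  · exact (h.WR.trans Subgroup.le_normalizer).trans h.norm_Lt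
  · rw [h.cardW, h.card_Lt hn hnt]; ring

theorem ES.Lt_decomp (h : ES p R W) (hn : R ≤ Subgroup.normalizer (W : Set G)) (hnt : NT R W)
    {x : G} (hx : x ∈ Lt R W) (hxZ : x ∉ ZW W) :
    ∀ l ∈ Lt R W, ∃ j : ℕ, ∃ z ∈ ZW W, l = x ^ j * z := by
  apply exists_pow_mul (p := p) (h.ZW_le_Lt hn) _ _ hx hxZ
  · exact ((Lt_le R W).trans (h.WR.trans hn)).trans (norm_ZW W)
  · rw [h.card_ZW, h.card_Lt hn hnt]; ring

theorem ES.comm_ne_one (h : ES p R W) (hn : R ≤ Subgroup.normalizer (W : Set G)) (hnt : NT R W)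
    {x y : G} (hx : x ∈ Lt R W) (hxZ : x ∉ ZW W) (hy : y ∈ W) (hyL : y ∉ Lt R W) :
    ⁅x, y⁆ ≠ 1 := by
  intro hcon
  rw [commutatorElement_eq_one_iff_commute] at hcon
  apply hxZ
  refine Subgroup.mem_inf.mpr ⟨Lt_le R W hx, ?_⟩
  rw [Subgroup.mem_centralizer_iff]
  intro w hw
  obtain ⟨i, l, hl, rfl⟩ := h.W_decomp hn hnt hy hyL w hw
  have h1 : Commute x l := h.Lt_comm hn hnt hx hl
  exact ((hcon.pow_right i).mul_right h1).symm.eq

theorem ES.R_decomp (h : ES p R W) (hn : R ≤ Subgroup.normalizer (W : Set G)) (hnt : NT R W) :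
    ∀ r ∈ R, ∃ w ∈ W, ∃ g ∈ Mc R W, r = w * g := by
  obtain ⟨y, hy, hyL⟩ := h.exists_y hn hnt
  obtain ⟨x, hx, hxZ⟩ := h.exists_x hn hnt
  have hxW : x ∈ W := Lt_le R W hx
  have hc1 : ⁅x, y⁆ ≠ 1 := h.comm_ne_one hn hnt hx hxZ hy hyL
  have hcZ : ⁅x, y⁆ ∈ ZW W := h.comm_mem_ZW hxW hy
  have hZp : (Nat.card (ZW W)).Prime := by rw [h.card_ZW]; exact hp.out
  have hgen := Cfsg.Agent.Lib.Helper4.ZP.zpowers_eq_of_prime_card (ZW W) hZp _ hcZ hc1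
  intro r hr
  have h1 : ⁅x, r⁆ ∈ Subgroup.zpowers ⁅x, y⁆ := by rw [hgen]; exact hx.2 r hr
  rw [← mem_powers_iff_mem_zpowers] at h1
  obtain ⟨i, hi⟩ := h1
  simp only at hi
  rw [← h.comm_pow_right hxW hy i] at hi
  set v := y ^ i with hv
  have hvW : v ∈ W := W.pow_mem hy i
  refine ⟨v, hvW, v⁻¹ * r, ?_, by group⟩
  have hgR : v⁻¹ * r ∈ R := R.mul_mem (R.inv_mem (h.WR hvW)) hr
  -- `g` commutes with `x`
  have h2 : r * x⁻¹ * r⁻¹ = v * x⁻¹ * v⁻¹ := by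
    have h3 := hi
    rw [commutatorElement_def, commutatorElement_def] at h3
    have h4 : x⁻¹ * (x * v * x⁻¹ * v⁻¹) = x⁻¹ * (x * r * x⁻¹ * r⁻¹) := by rw [h3]
    have e1 : x⁻¹ * (x * v * x⁻¹ * v⁻¹) = v * x⁻¹ * v⁻¹ := by group
    have e2 : x⁻¹ * (x * r * x⁻¹ * r⁻¹) = r * x⁻¹ * r⁻¹ := by group
    rw [e1, e2] at h4
    exact h4.symm
  have h5 : Commute (v⁻¹ * r) x⁻¹ := by
    show v⁻¹ * r * x⁻¹ = x⁻¹ * (v⁻¹ * r)
    calc v⁻¹ * r * x⁻¹ = v⁻¹ * (r * x⁻¹ * r⁻¹) * r := by group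
      _ = v⁻¹ * (v * x⁻¹ * v⁻¹) * r := by rw [h2]
      _ = x⁻¹ * (v⁻¹ * r) := by group
  have h6 : Commute (v⁻¹ * r) x := by
    have := h5.inv_right
    rwa [inv_inv] at this
  refine Subgroup.mem_inf.mpr ⟨hgR, ?_⟩
  rw [Subgroup.mem_centralizer_iff]
  intro l hl
  obtain ⟨j, z, hz, rfl⟩ := h.Lt_decomp hn hnt hx hxZ l hl
  have h7 : Commute (v⁻¹ * r) z := h.ZW_central hn hgR hz
  exact ((h6.pow_right j).mul_right h7).symm.eq

end g5

end Cfsg.Agent.Lib.Helper4.RT
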