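import Mathlib
import Cfsg.Agent.Lib.Helper4.RT5

set_option autoImplicit false

/-! Rank two `p`-groups with an extraspecial `Ω₁`: the form `F g = ⁅y, ⁅y, g⁆⁆`. -/

namespace Cfsg.Agent.Lib.Helper4.RT

open scoped commutatorElement
open Cfsg.Agent.Lib.Lead

section g6

variable {G : Type*} [Group G] [Finite G] {p : ℕ} [hp : Fact p.Prime] {R W : Subgroup G}

/-- `⁅y, ·⁆` kills the centre. -/
theorem ES.psi_ZW (h : ES p R W) {y z : G} (hy : y ∈ W) (hz : z ∈ ZW W) : ⁅y, z⁆ = 1 := by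
  rw [commutatorElement_eq_one_iff_mul_comm]
  exact Subgroup.mem_centralizer_iff.mp hz.2 y hy

/-- the kernel of `⁅y, ·⁆` on `Lt`. -/
theorem ES.mem_ZW_of_psi (h : ES p R W) (hn : R ≤ Subgroup.normalizer (W : Set G)) (hnt : NT R W)
    {y u : G} (hy : y ∈ W) (hyL : y ∉ Lt R W) (hu : u ∈ Lt R W) (hyu : ⁅y, u⁆ = 1) :
    u ∈ ZW W := by
  rw [commutatorElement_eq_one_iff_commute] at hyu
  refine Subgroup.mem_inf.mpr ⟨Lt_le R W hu, ?_⟩
  rw [Subgroup.mem_centralizer_iff]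
  intro w hw
  obtain ⟨i, l, hl, rfl⟩ := h.W_decomp hn hnt hy hyL w hw
  have h1 : Commute l u := h.Lt_comm hn hnt hl hu
  exact ((hyu.pow_left i).mul_left h1).eq

/-- `g ↦ ⁅y, g⁆` is multiplicative on `Mc`. -/
theorem ES.kappa_mul (h : ES p R W) (hn : R ≤ Subgroup.normalizer (W : Set G))
    {y g k : G} (hy : y ∈ W) (hg : g ∈ Mc R W) (hk : k ∈ Mc R W) :
    ⁅y, g * k⁆ = ⁅y, g⁆ * ⁅y, k⁆ := by
  rw [commutatorElement_mul_right_eq_mul_conj]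
  have h1 : ⁅y, k⁆ ∈ Lt R W := h.comm_mem_Lt hn hy (Mc_le R W hk)
  have h2 : ⁅y, k⁆ * g = g * ⁅y, k⁆ :=
    Subgroup.mem_centralizer_iff.mp (Subgroup.mem_inf.mp hg).2 _ h1
  rw [mul_assoc ⁅y, g⁆ g, ← h2, mul_assoc, mul_assoc, mul_inv_cancel, mul_one]

/-- the form `F`. -/
def F (y g : G) : G := ⁅y, ⁅y, g⁆⁆

theorem ES.F_mem (h : ES p R W) (hn : R ≤ Subgroup.normalizer (W : Set G))
    {y g : G} (hy : y ∈ W) (hg : g ∈ R) : F y g ∈ ZW W :=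
  h.comm_mem_ZW hy (Lt_le R W (h.comm_mem_Lt hn hy hg))

theorem ES.F_mul (h : ES p R W) (hn : R ≤ Subgroup.normalizer (W : Set G))
    {y g k : G} (hy : y ∈ W) (hg : g ∈ Mc R W) (hk : k ∈ Mc R W) :
    F y (g * k) = F y g * F y k := by
  unfold F
  rw [h.kappa_mul hn hy hg hk]
  exact h.comm_mul_right hy (Lt_le R W (h.comm_mem_Lt hn hy (Mc_le R W hg)))
    (Lt_le R W (h.comm_mem_Lt hn hy (Mc_le R W hk)))

theorem ES.F_pow (h : ES p R W) (hn : R ≤ Subgroup.normalizer (W : Set G))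
    {y g : G} (hy : y ∈ W) (hg : g ∈ Mc R W) (n : ℕ) : F y (g ^ n) = F y g ^ n := by
  induction n with
  | zero =>
    unfold F
    simp
  | succ n ih =>
    rw [pow_succ, h.F_mul hn hy (Subgroup.pow_mem _ hg n) hg, ih, pow_succ]

theorem ES.F_pow_p (h : ES p R W) (hn : R ≤ Subgroup.normalizer (W : Set G))
    {y g : G} (hy : y ∈ W) (hg : g ∈ R) : F y g ^ p = 1 :=
  h.expW _ (ZW_le W (h.F_mem hn hy hg))

/-- `⁅y, ⁅y ^ n, g⁆⁆ = F y g ^ n`. -/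
theorem ES.psi_comm_pow (h : ES p R W) (hn : R ≤ Subgroup.normalizer (W : Set G))
    {y g : G} (hy : y ∈ W) (hg : g ∈ R) (n : ℕ) : ⁅y, ⁅y ^ n, g⁆⁆ = F y g ^ n := by
  induction n with
  | zero => simp
  | succ n ih =>
    have hun : ⁅y ^ n, g⁆ ∈ Lt R W := h.comm_mem_Lt hn (W.pow_mem hy n) hg
    have hu1 : ⁅y, g⁆ ∈ Lt R W := h.comm_mem_Lt hn hy hg
    have hz : ⁅y, ⁅y ^ n, g⁆⁆ ∈ ZW W := h.comm_mem_ZW hy (Lt_le R W hun)
    have h1 : ⁅y ^ (n + 1), g⁆ = ⁅y, ⁅y ^ n, g⁆⁆ * ⁅y ^ n, g⁆ * ⁅y, g⁆ := by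
      rw [pow_succ', commutatorElement_mul_left_eq_conj_mul]
      congr 1
      rw [commutatorElement_def y ⁅y ^ n, g⁆]
      group
    rw [h1, h.comm_mul_right hy (W.mul_mem (ZW_le W hz) (Lt_le R W hun)) (Lt_le R W hu1),
      h.comm_mul_right hy (ZW_le W hz) (Lt_le R W hun), h.psi_ZW hy hz, one_mul, ih, pow_succ]
    rfl

/-- the criterion for membership in `Lc`. -/
theorem ES.mem_Lc_of_F (h : ES p R W) (hn : R ≤ Subgroup.normalizer (W : Set G)) (hnt : NT R W)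
    {y g : G} (hy : y ∈ W) (hyL : y ∉ Lt R W) (hg : g ∈ Mc R W) (hF : F y g = 1) :
    g ∈ Lc R W := by
  rw [mem_Lc_iff hn]
  refine ⟨Mc_le R W hg, fun w hw => ?_⟩
  obtain ⟨i, l, hl, rfl⟩ := h.W_decomp hn hnt hy hyL w hw
  have h1 : ⁅l, g⁆ = 1 := by
    rw [commutatorElement_eq_one_iff_mul_comm]
    exact Subgroup.mem_centralizer_iff.mp (Subgroup.mem_inf.mp hg).2 l hl
  rw [commutatorElement_mul_left_eq_conj_mul, h1, mul_one, mul_inv_cancel, one_mul]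
  apply h.mem_ZW_of_psi hn hnt hy hyL (h.comm_mem_Lt hn (W.pow_mem hy i) (Mc_le R W hg))
  rw [h.psi_comm_pow hn hy (Mc_le R W hg), hF, one_pow]

end g6

end Cfsg.Agent.Lib.Helper4.RT
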