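import Mathlib
import Cfsg.Agent.Lib.Helper4.RT6

set_option autoImplicit false

/-! Rank two `p`-groups with an extraspecial `Ω₁`: the action of an operator. -/

namespace Cfsg.Agent.Lib.Helper4.RT

open scoped commutatorElement
open Cfsg.Agent.Lib.Lead

section g7

variable {G : Type*} [Group G] [Finite G] {p : ℕ} [hp : Fact p.Prime] {R W : Subgroup G}

theorem ES.exists_delta (h : ES p R W) {a : G} (ha : a ∈ Subgroup.normalizer (R : Set G)) :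
    ∃ δ : ℕ, ∀ c ∈ ZW W, a * c * a⁻¹ = c ^ δ := by
  have hZne : ZW W ≠ ⊥ := by
    intro h0
    have := h.card_ZW
    rw [h0, Subgroup.card_bot] at this
    exact hp.out.one_lt.ne this
  obtain ⟨c₀, hc₀, hc₀1⟩ : ∃ c₀ ∈ ZW W, c₀ ≠ 1 := by
    by_contra hall
    push Not at hall
    exact hZne ((Subgroup.eq_bot_iff_forall _).mpr hall)
  have hZp : (Nat.card (ZW W)).Prime := by rw [h.card_ZW]; exact hp.out
  have hgen := Cfsg.Agent.Lib.Helper4.ZP.zpowers_eq_of_prime_card (ZW W) hZp _ hc₀ hc₀1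
  have haZ : a ∈ Subgroup.normalizer ((ZW W : Subgroup G) : Set G) := norm_ZW W (h.norm_W ha)
  have h1 : a * c₀ * a⁻¹ ∈ Subgroup.zpowers c₀ := by
    rw [hgen]; exact (Subgroup.mem_normalizer_iff.mp haZ c₀).mp hc₀
  rw [← mem_powers_iff_mem_zpowers] at h1
  obtain ⟨δ, hδ⟩ := h1
  simp only at hδ
  refine ⟨δ, fun c hc => ?_⟩
  have h2 : c ∈ Subgroup.zpowers c₀ := by rw [hgen]; exact hc
  rw [← mem_powers_iff_mem_zpowers] at h2
  obtain ⟨k, hk⟩ := h2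
  simp only at hk
  rw [← hk, ← conj_pow, ← hδ, ← pow_mul, ← pow_mul, mul_comm]

theorem ES.exists_mu (h : ES p R W) (hn : R ≤ Subgroup.normalizer (W : Set G)) (hnt : NT R W)
    {a : G} (ha : a ∈ Subgroup.normalizer (R : Set G)) {y : G} (hy : y ∈ W) (hyL : y ∉ Lt R W) :
    ∃ μ : ℕ, ∃ l ∈ Lt R W, a * y * a⁻¹ = y ^ μ * l :=
  h.W_decomp hn hnt hy hyL _ ((Subgroup.mem_normalizer_iff.mp (h.norm_W ha) y).mp hy)

theorem ES.F_one (y : G) : F y (1 : G) = 1 := by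
  unfold F
  simp

theorem ES.F_conj (h : ES p R W) (hn : R ≤ Subgroup.normalizer (W : Set G)) (hnt : NT R W)
    {a : G} (ha : a ∈ Subgroup.normalizer (R : Set G)) {y : G} (hy : y ∈ W)
    {μ δ : ℕ} {l : G} (hl : l ∈ Lt R W) (hμ : a * y * a⁻¹ = y ^ μ * l)
    (hδ : ∀ c ∈ ZW W, a * c * a⁻¹ = c ^ δ) {g : G} (hg : g ∈ Mc R W) :
    F y (a * g * a⁻¹) ^ (μ * μ) = F y g ^ δ := by
  have hg' : a * g * a⁻¹ ∈ Mc R W := (Subgroup.mem_normalizer_iff.mp (h.norm_Mc ha) g).mp hg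
  have hg'R : a * g * a⁻¹ ∈ R := Mc_le R W hg'
  have e1 : a * F y g * a⁻¹ = F y g ^ δ := hδ _ (h.F_mem hn hy (Mc_le R W hg))
  have e2 : a * F y g * a⁻¹ = ⁅a * y * a⁻¹, ⁅a * y * a⁻¹, a * g * a⁻¹⁆⁆ := by
    unfold F
    rw [conjugate_commutatorElement, conjugate_commutatorElement]
  rw [hμ] at e2
  have hyμ : y ^ μ ∈ W := W.pow_mem hy μ
  have e3 : ⁅y ^ μ * l, a * g * a⁻¹⁆ = ⁅y ^ μ, a * g * a⁻¹⁆ := by
    have h1 : ⁅l, a * g * a⁻¹⁆ = 1 := by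
      rw [commutatorElement_eq_one_iff_mul_comm]
      exact Subgroup.mem_centralizer_iff.mp (Subgroup.mem_inf.mp hg').2 l hl
    rw [commutatorElement_mul_left_eq_conj_mul, h1, mul_one, mul_inv_cancel, one_mul]
  have hv : ⁅y ^ μ, a * g * a⁻¹⁆ ∈ Lt R W := h.comm_mem_Lt hn hyμ hg'R
  have e4 : ⁅y ^ μ * l, ⁅y ^ μ, a * g * a⁻¹⁆⁆ = (F y (a * g * a⁻¹) ^ μ) ^ μ := by
    rw [h.comm_mul_left hyμ (Lt_le R W hl) (Lt_le R W hv)]
    have h2 : ⁅l, ⁅y ^ μ, a * g * a⁻¹⁆⁆ = 1 := by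
      rw [commutatorElement_eq_one_iff_mul_comm]
      exact h.Lt_comm hn hnt hl hv
    rw [h2, mul_one, h.comm_pow_left hy (Lt_le R W hv), h.psi_comm_pow hn hy hg'R]
  rw [e3, e4, ← pow_mul] at e2
  rw [← e2, e1]

end g7

end Cfsg.Agent.Lib.Helper4.RT
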