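import Mathlib
import Cfsg.Agent.Lib.Helper4.RT7

set_option autoImplicit false

/-! Rank two `p`-groups with an extraspecial `Ω₁`: the twisted endomorphism. -/

namespace Cfsg.Agent.Lib.Helper4.RT

open scoped commutatorElement
open Cfsg.Agent.Lib.Lead

section g8a

variable {G : Type*} [Group G] {p : ℕ}

theorem pow_eq_pow_of_modEq {x : G} (hx : x ^ p = 1) {n m : ℕ} (h : n ≡ m [MOD p]) :
    x ^ n = x ^ m :=
  pow_eq_pow_iff_modEq.mpr (h.of_dvd (orderOf_dvd_of_pow_eq_one hx))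

theorem eq_one_of_pow_coprime {x : G} (hx : x ^ p = 1) {n : ℕ} (hxn : x ^ n = 1)
    (hcop : Nat.Coprime n p) : x = 1 := by
  have h1 : orderOf x ∣ p := orderOf_dvd_of_pow_eq_one hx
  have h2 : orderOf x ∣ n := orderOf_dvd_of_pow_eq_one hxn
  have h3 : orderOf x ∣ Nat.gcd n p := Nat.dvd_gcd h2 h1
  rw [hcop] at h3
  exact orderOf_eq_one_iff.mp (Nat.dvd_one.mp h3)

/-- an eigenvector of order `p` for a twisted endomorphism of an abelian `p`-group which is not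
onto. -/
theorem exists_eigen [Finite G] [hp : Fact p.Prime] {B : Subgroup G}
    (hBc : ∀ u ∈ B, ∀ v ∈ B, u * v = v * u)
    (hBp : IsPGroup p B) {a : G} (haB : a ∈ Subgroup.normalizer (B : Set G)) (m : ℕ)
    (L : Subgroup G) (hL : ∀ s ∈ B, a * s * a⁻¹ * (s ^ m)⁻¹ ∈ L) (hBL : ¬ B ≤ L) :
    ∃ x ∈ B, x ≠ 1 ∧ x ^ p = 1 ∧ a * x * a⁻¹ = x ^ m := by
  have hmem : ∀ s ∈ B, a * s * a⁻¹ * (s ^ m)⁻¹ ∈ B := by
    intro s hs
    exact B.mul_mem ((Subgroup.mem_normalizer_iff.mp haB s).mp hs) (B.inv_mem (B.pow_mem hs m))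
  let θ : ↥B →* ↥B :=
    { toFun := fun s => ⟨a * s * a⁻¹ * ((s : G) ^ m)⁻¹, hmem s s.2⟩
      map_one' := by
        apply Subtype.ext
        simp
      map_mul' := by
        intro s t
        apply Subtype.ext
        show a * ((s * t : ↥B) : G) * a⁻¹ * (((s * t : ↥B) : G) ^ m)⁻¹ =
          (a * s * a⁻¹ * ((s : G) ^ m)⁻¹) * (a * t * a⁻¹ * ((t : G) ^ m)⁻¹)
        rw [Subgroup.coe_mul]
        have hst : Commute (s : G) (t : G) := hBc _ s.2 _ t.2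
        have h1 : ((s : G) * t) ^ m = (s : G) ^ m * (t : G) ^ m := hst.mul_pow m
        have hat : a * t * a⁻¹ ∈ B := (Subgroup.mem_normalizer_iff.mp haB t).mp t.2
        have h2 : Commute ((s : G) ^ m)⁻¹ (a * t * a⁻¹) :=
          hBc _ (B.inv_mem (B.pow_mem s.2 m)) _ hat
        have h3 : Commute ((s : G) ^ m)⁻¹ ((t : G) ^ m)⁻¹ :=
          hBc _ (B.inv_mem (B.pow_mem s.2 m)) _ (B.inv_mem (B.pow_mem t.2 m))
        rw [h1, mul_inv_rev]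
        calc a * ((s : G) * t) * a⁻¹ * (((t : G) ^ m)⁻¹ * ((s : G) ^ m)⁻¹)
            = a * s * a⁻¹ * (a * t * a⁻¹) * (((t : G) ^ m)⁻¹ * ((s : G) ^ m)⁻¹) := by group
          _ = a * s * a⁻¹ * (a * t * a⁻¹) * (((s : G) ^ m)⁻¹ * ((t : G) ^ m)⁻¹) := by rw [h3.eq]
          _ = a * s * a⁻¹ * ((a * t * a⁻¹) * ((s : G) ^ m)⁻¹) * ((t : G) ^ m)⁻¹ := by
            simp only [mul_assoc]
          _ = a * s * a⁻¹ * (((s : G) ^ m)⁻¹ * (a * t * a⁻¹)) * ((t : G) ^ m)⁻¹ := by rw [h2.eq]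
          _ = a * s * a⁻¹ * ((s : G) ^ m)⁻¹ * (a * t * a⁻¹ * ((t : G) ^ m)⁻¹) := by
            simp only [mul_assoc] }
  have hθ : ∀ s : ↥B, ((θ s : ↥B) : G) = a * s * a⁻¹ * ((s : G) ^ m)⁻¹ := fun _ => rfl
  have hns : ¬ Function.Surjective θ := by
    intro hs
    apply hBL
    intro b hb
    obtain ⟨s, hs'⟩ := hs ⟨b, hb⟩
    have := congrArg Subtype.val hs'
    rw [hθ] at this
    simp only at this
    rw [← this]
    exact hL s s.2
  have hni : ¬ Function.Injective θ := fun hi => hns (Finite.injective_iff_surjective.mp hi)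
  have hker : θ.ker ≠ ⊥ := fun h0 => hni ((MonoidHom.ker_eq_bot_iff θ).mp h0)
  have hkp : IsPGroup p ↥θ.ker := hBp.to_subgroup θ.ker
  have hdvd : p ∣ Nat.card ↥θ.ker := by
    obtain ⟨k, hk⟩ := IsPGroup.iff_card.mp hkp
    rw [hk]
    apply dvd_pow_self
    intro h0
    rw [h0, pow_zero] at hk
    exact hker (Subgroup.card_eq_one.mp hk)
  obtain ⟨x, hx⟩ := exists_prime_orderOf_dvd_card' p hdvd
  have hxo : orderOf ((x : ↥B) : G) = p := by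
    rw [Subgroup.orderOf_coe, Subgroup.orderOf_coe]; exact hx
  refine ⟨((x : ↥B) : G), (x : ↥B).2, ?_, ?_, ?_⟩
  · intro h1
    rw [h1, orderOf_one] at hxo
    exact hp.out.one_lt.ne hxo
  · rw [← hxo]; exact pow_orderOf_eq_one _
  · have h1 : θ (x : ↥B) = 1 := MonoidHom.mem_ker.mp x.2
    have h2 := congrArg Subtype.val h1
    rw [hθ, Subgroup.coe_one] at h2
    exact mul_inv_eq_one.mp h2

end g8a

section g8

variable {G : Type*} [Group G] [Finite G] {p : ℕ} [hp : Fact p.Prime] {R W : Subgroup G}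

theorem ES.F_inv (h : ES p R W) (hn : R ≤ Subgroup.normalizer (W : Set G))
    {y g : G} (hy : y ∈ W) (hg : g ∈ Mc R W) : F y g⁻¹ = (F y g)⁻¹ := by
  have h1 := h.F_mul hn hy hg (Subgroup.inv_mem _ hg)
  rw [mul_inv_cancel, ES.F_one] at h1
  exact eq_inv_of_mul_eq_one_right h1.symm

omit [Finite G] hp in
theorem ZW_comm {c d : G} (hc : c ∈ ZW W) (hd : d ∈ ZW W) : c * d = d * c :=
  (Subgroup.mem_centralizer_iff.mp hc.2 d hd.1).symm

theorem ES.theta_mem_Lc (h : ES p R W) (hn : R ≤ Subgroup.normalizer (W : Set G)) (hnt : NT R W)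
    {a : G} (ha : a ∈ Subgroup.normalizer (R : Set G)) {y : G} (hy : y ∈ W) (hyL : y ∉ Lt R W)
    {μ δ : ℕ} {l : G} (hl : l ∈ Lt R W) (hμ : a * y * a⁻¹ = y ^ μ * l)
    (hδ : ∀ c ∈ ZW W, a * c * a⁻¹ = c ^ δ) {m : ℕ} (hm : m * (μ * μ) ≡ δ [MOD p])
    (hμp : ¬ p ∣ μ) {g : G} (hg : g ∈ Mc R W) :
    a * g * a⁻¹ * (g ^ m)⁻¹ ∈ Lc R W := by
  have hg' : a * g * a⁻¹ ∈ Mc R W := (Subgroup.mem_normalizer_iff.mp (h.norm_Mc ha) g).mp hg
  have hgm : g ^ m ∈ Mc R W := Subgroup.pow_mem _ hg m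
  have ht : a * g * a⁻¹ * (g ^ m)⁻¹ ∈ Mc R W := Subgroup.mul_mem _ hg' (Subgroup.inv_mem _ hgm)
  apply h.mem_Lc_of_F hn hnt hy hyL ht
  have hFt : F y (a * g * a⁻¹ * (g ^ m)⁻¹) = F y (a * g * a⁻¹) * (F y g ^ m)⁻¹ := by
    rw [h.F_mul hn hy hg' (Subgroup.inv_mem _ hgm), h.F_inv hn hy hgm, h.F_pow hn hy hg]
  have hZ1 : F y (a * g * a⁻¹) ∈ ZW W := h.F_mem hn hy (Mc_le R W hg')
  have hZ2 : F y g ∈ ZW W := h.F_mem hn hy (Mc_le R W hg)
  have hZ3 : (F y g ^ m)⁻¹ ∈ ZW W := Subgroup.inv_mem _ (Subgroup.pow_mem _ hZ2 m)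
  have hcomm : Commute (F y (a * g * a⁻¹)) (F y g ^ m)⁻¹ := ZW_comm hZ1 hZ3
  have hpow : F y (a * g * a⁻¹ * (g ^ m)⁻¹) ^ (μ * μ) = 1 := by
    rw [hFt, hcomm.mul_pow, h.F_conj hn hnt ha hy hl hμ hδ hg, inv_pow, ← pow_mul]
    rw [pow_eq_pow_of_modEq (h.F_pow_p hn hy (Mc_le R W hg)) hm, mul_inv_cancel]
  have hcop : Nat.Coprime (μ * μ) p := by
    have h1 : Nat.Coprime μ p := ((Nat.Prime.coprime_iff_not_dvd hp.out).mpr hμp).symm
    exact Nat.Coprime.mul_left h1 h1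
  exact eq_one_of_pow_coprime (h.F_pow_p hn hy (Mc_le R W ht)) hpow hcop

end g8

end Cfsg.Agent.Lib.Helper4.RT
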