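import Mathlib
import Cfsg.Agent.Lib.Helper4.RT8

set_option autoImplicit false

/-! Rank two `p`-groups with an extraspecial `Ω₁`: congruences modulo `Lt`. -/

namespace Cfsg.Agent.Lib.Helper4.RT

open scoped commutatorElement
open Cfsg.Agent.Lib.Lead

section g9

variable {G : Type*} [Group G] {p : ℕ} {R W : Subgroup G}

/-- congruence of elements of `W` modulo `Lt`. -/
def Cong (R W : Subgroup G) (u v : G) : Prop := u ∈ W ∧ v ∈ W ∧ u⁻¹ * v ∈ Lt R W

theorem Cong.refl' {u : G} (hu : u ∈ W) : Cong R W u u :=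
  ⟨hu, hu, by rw [inv_mul_cancel]; exact Subgroup.one_mem _⟩

theorem Cong.symm' {u v : G} (h : Cong R W u v) : Cong R W v u := by
  refine ⟨h.2.1, h.1, ?_⟩
  have : v⁻¹ * u = (u⁻¹ * v)⁻¹ := by group
  rw [this]; exact Subgroup.inv_mem _ h.2.2

theorem Cong.trans' {u v w : G} (h1 : Cong R W u v) (h2 : Cong R W v w) : Cong R W u w := by
  refine ⟨h1.1, h2.2.1, ?_⟩
  have : u⁻¹ * w = (u⁻¹ * v) * (v⁻¹ * w) := by group
  rw [this]; exact Subgroup.mul_mem _ h1.2.2 h2.2.2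

theorem cong_mul_right {u l : G} (hu : u ∈ W) (hl : l ∈ Lt R W) : Cong R W (u * l) u := by
  refine ⟨W.mul_mem hu (Lt_le R W hl), hu, ?_⟩
  have : (u * l)⁻¹ * u = l⁻¹ := by group
  rw [this]; exact Subgroup.inv_mem _ hl

theorem Cong.mul' (hWL : W ≤ Subgroup.normalizer ((Lt R W : Subgroup G) : Set G))
    {u v u' v' : G} (h1 : Cong R W u v) (h2 : Cong R W u' v') : Cong R W (u * u') (v * v') := by
  refine ⟨W.mul_mem h1.1 h2.1, W.mul_mem h1.2.1 h2.2.1, ?_⟩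
  have e : (u * u')⁻¹ * (v * v') = (u'⁻¹ * (u⁻¹ * v) * u'⁻¹⁻¹) * (u'⁻¹ * v') := by group
  rw [e]
  apply Subgroup.mul_mem _ _ h2.2.2
  exact (Subgroup.mem_normalizer_iff.mp (hWL (W.inv_mem h2.1)) _).mp h1.2.2

theorem Cong.pow' (hWL : W ≤ Subgroup.normalizer ((Lt R W : Subgroup G) : Set G))
    {u v : G} (h1 : Cong R W u v) (n : ℕ) : Cong R W (u ^ n) (v ^ n) := by
  induction n with
  | zero => simp only [pow_zero]; exact Cong.refl' W.one_mem
  | succ n ih => rw [pow_succ, pow_succ]; exact Cong.mul' hWL ih h1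

/-- conjugation by a normalizing element respects congruence. -/
theorem Cong.conj' {a : G} (haW : a ∈ Subgroup.normalizer (W : Set G))
    (haL : a ∈ Subgroup.normalizer ((Lt R W : Subgroup G) : Set G))
    {u v : G} (h1 : Cong R W u v) : Cong R W (a * u * a⁻¹) (a * v * a⁻¹) := by
  refine ⟨(Subgroup.mem_normalizer_iff.mp haW u).mp h1.1,
    (Subgroup.mem_normalizer_iff.mp haW v).mp h1.2.1, ?_⟩
  have e : (a * u * a⁻¹)⁻¹ * (a * v * a⁻¹) = a * (u⁻¹ * v) * a⁻¹ := by group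
  rw [e]
  exact (Subgroup.mem_normalizer_iff.mp haL _).mp h1.2.2

/-- the action on `W / Lt` is trivial. -/
def TrivOn (R W : Subgroup G) (b : G) : Prop := ∀ w ∈ W, Cong R W (b * w * b⁻¹) w

theorem TrivOn.pow' {b : G} (hbW : b ∈ Subgroup.normalizer (W : Set G)) (hb : TrivOn R W b)
    (k : ℕ) : TrivOn R W (b ^ k) := by
  induction k with
  | zero =>
    intro w hw
    simp only [pow_zero, one_mul, inv_one, mul_one]
    exact Cong.refl' hw
  | succ k ih =>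
    intro w hw
    have e : b ^ (k + 1) * w * (b ^ (k + 1))⁻¹ = b * (b ^ k * w * (b ^ k)⁻¹) * b⁻¹ := by
      rw [pow_succ']; group
    rw [e]
    have h1 := ih w hw
    exact Cong.trans' (hb _ h1.1) h1

end g9

section g9b

variable {G : Type*} [Group G] [Finite G] {p : ℕ} [hp : Fact p.Prime] {R W : Subgroup G}

omit [Finite G] hp in
theorem ES.W_le_norm_Lt (h : ES p R W) :
    W ≤ Subgroup.normalizer ((Lt R W : Subgroup G) : Set G) :=
  (h.WR.trans Subgroup.le_normalizer).trans h.norm_Lt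

/-- the operator acts on `W / Lt` by the scalar `μ`. -/
theorem ES.scalar_uniform (h : ES p R W) (hn : R ≤ Subgroup.normalizer (W : Set G)) (hnt : NT R W)
    {a : G} (ha : a ∈ Subgroup.normalizer (R : Set G)) {y : G} (hy : y ∈ W) (hyL : y ∉ Lt R W)
    {μ : ℕ} {l : G} (hl : l ∈ Lt R W) (hμ : a * y * a⁻¹ = y ^ μ * l) :
    ∀ w ∈ W, Cong R W (a * w * a⁻¹) (w ^ μ) := by
  have hWL := h.W_le_norm_Lt
  have haW := h.norm_W ha
  have haL := h.norm_Lt ha
  intro w hw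
  obtain ⟨i, l₀, hl₀, rfl⟩ := h.W_decomp hn hnt hy hyL w hw
  have hyi : y ^ i ∈ W := W.pow_mem hy i
  -- right hand side
  have h1 : Cong R W ((y ^ i * l₀) ^ μ) ((y ^ i) ^ μ) := Cong.pow' hWL (cong_mul_right hyi hl₀) μ
  -- left hand side
  have h2 : Cong R W (a * (y ^ i * l₀) * a⁻¹) (a * y ^ i * a⁻¹) :=
    Cong.conj' haW haL (cong_mul_right hyi hl₀)
  have h3 : Cong R W (a * y * a⁻¹) (y ^ μ) := by
    rw [hμ]; exact cong_mul_right (W.pow_mem hy μ) hl
  have h4 : Cong R W (a * y ^ i * a⁻¹) ((y ^ μ) ^ i) := by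
    rw [← conj_pow]; exact Cong.pow' hWL h3 i
  have e : (y ^ μ) ^ i = (y ^ i) ^ μ := by rw [← pow_mul, ← pow_mul, mul_comm]
  rw [e] at h4
  exact Cong.trans' (Cong.trans' h2 h4) (Cong.symm' h1)

theorem ES.trivOn_sq (h : ES p R W) (hn : R ≤ Subgroup.normalizer (W : Set G)) (hnt : NT R W)
    {a : G} (ha : a ∈ Subgroup.normalizer (R : Set G)) {y : G} (hy : y ∈ W) (hyL : y ∉ Lt R W)
    {μ : ℕ} {l : G} (hl : l ∈ Lt R W) (hμ : a * y * a⁻¹ = y ^ μ * l)
    (hμ2 : μ * μ ≡ 1 [MOD p]) : TrivOn R W (a * a) := by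
  have hWL := h.W_le_norm_Lt
  have haW := h.norm_W ha
  intro w hw
  have hw' : a * w * a⁻¹ ∈ W := (Subgroup.mem_normalizer_iff.mp haW w).mp hw
  have h1 := h.scalar_uniform hn hnt ha hy hyL hl hμ w hw
  have h2 := h.scalar_uniform hn hnt ha hy hyL hl hμ _ hw'
  have h3 : Cong R W ((a * w * a⁻¹) ^ μ) ((w ^ μ) ^ μ) := Cong.pow' hWL h1 μ
  have e1 : (w ^ μ) ^ μ = w := by
    rw [← pow_mul, pow_eq_pow_of_modEq (h.expW w hw) hμ2, pow_one]
  have e2 : a * a * w * (a * a)⁻¹ = a * (a * w * a⁻¹) * a⁻¹ := by group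
  rw [e1] at h3
  rw [e2]
  exact Cong.trans' h2 h3

/-- an operator acting trivially on `W / Lt` acts trivially on `R / Mc`. -/
theorem ES.comm_mem_Mc_of_trivOn (h : ES p R W) (hn : R ≤ Subgroup.normalizer (W : Set G))
    (hnt : NT R W) {a : G} (ha : a ∈ Subgroup.normalizer (R : Set G)) (hat : TrivOn R W a) :
    ∀ r ∈ R, ⁅r, a⁆ ∈ Mc R W := by
  intro r hr
  obtain ⟨w, hw, g, hg, rfl⟩ := h.R_decomp hn hnt r hr
  rw [commutatorElement_mul_left_eq_conj_mul]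
  have haM := h.norm_Mc ha
  have hwM : w ∈ Subgroup.normalizer ((Mc R W : Subgroup G) : Set G) :=
    h.norm_Mc (Subgroup.le_normalizer (h.WR hw))
  have h1 : ⁅g, a⁆ ∈ Mc R W := by
    rw [commutatorElement_def, mul_assoc, mul_assoc]
    apply Subgroup.mul_mem _ hg
    rw [← mul_assoc]
    exact (Subgroup.mem_normalizer_iff.mp haM _).mp (Subgroup.inv_mem _ hg)
  have h2 : ⁅w, a⁆ ∈ Mc R W := by
    apply h.Lt_le_Mc hn hnt
    have h3 := (hat w hw).2.2
    have e : ⁅w, a⁆ = w * ((a * w * a⁻¹)⁻¹ * w) * w⁻¹ := by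
      rw [commutatorElement_def]; group
    rw [e]
    exact (Subgroup.mem_normalizer_iff.mp (h.W_le_norm_Lt hw) _).mp h3
  exact Subgroup.mul_mem _ ((Subgroup.mem_normalizer_iff.mp hwM _).mp h1) h2

end g9b

end Cfsg.Agent.Lib.Helper4.RT
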