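import Mathlib
import Cfsg.Agent.Lib.Helper4.RT9

set_option autoImplicit false

/-! Rank two `p`-groups with an extraspecial `Ω₁`: the contradiction. -/

namespace Cfsg.Agent.Lib.Helper4.RT

open scoped commutatorElement
open Cfsg.Agent.Lib.Lead

universe u

section g10

variable {G : Type u} [Group G] [Finite G] {p : ℕ} [hp : Fact p.Prime] {R W : Subgroup G}

theorem ES.false_of_operator (h : ES p R W) (hp3 : 3 < p)
    (hn : R ≤ Subgroup.normalizer (W : Set G)) (hnt : NT R W)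
    {a : G} (ha : a ∈ Subgroup.normalizer (R : Set G)) (hcop : (orderOf a).Coprime p)
    (hk : ∃ k : ℕ, (a * a) ^ k = a)
    (h1 : ∃ r ∈ R, ⁅r, a⁆ ∉ Mc R W) (h2 : ∃ r ∈ R, ⁅r, a⁆ ∉ Lc R W) : False := by
  have hp2 : p ≠ 2 := by omega
  have hpp := hp.out
  obtain ⟨y, hy, hyL⟩ := h.exists_y hn hnt
  obtain ⟨μ, l, hl, hμ⟩ := h.exists_mu hn hnt ha hy hyL
  obtain ⟨δ, hδ⟩ := h.exists_delta ha
  have haW := h.norm_W ha
  have haL := h.norm_Lt ha
  -- the scalars are units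
  have hμp : ¬ p ∣ μ := by
    rintro ⟨j, rfl⟩
    rw [pow_mul, h.expW y hy, one_pow, one_mul] at hμ
    apply hyL
    have h3 := (Subgroup.mem_normalizer_iff.mp (Subgroup.inv_mem _ haL) _).mp hl
    rw [← hμ] at h3
    have e : a⁻¹ * (a * y * a⁻¹) * a⁻¹⁻¹ = y := by group
    rwa [e] at h3
  have hδp : ¬ p ∣ δ := by
    rintro ⟨j, rfl⟩
    obtain ⟨x, hx, hxZ⟩ := h.exists_x hn hnt
    have hc1 : ⁅x, y⁆ ≠ 1 := h.comm_ne_one hn hnt hx hxZ hy hyL
    have hcZ : ⁅x, y⁆ ∈ ZW W := h.comm_mem_ZW (Lt_le R W hx) hy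
    have h3 := hδ _ hcZ
    rw [pow_mul, h.expW _ (ZW_le W hcZ), one_pow] at h3
    apply hc1
    have e : ⁅x, y⁆ = a⁻¹ * (a * ⁅x, y⁆ * a⁻¹) * a := by group
    rw [e, h3]; group
  have hμμ : Nat.Coprime (μ * μ) p := by
    have h3 : Nat.Coprime μ p := ((Nat.Prime.coprime_iff_not_dvd hpp).mpr hμp).symm
    exact Nat.Coprime.mul_left h3 h3
  obtain ⟨m, -, hm'⟩ := Nat.exists_mul_mod_eq_of_coprime δ hμμ hpp.ne_zero
  have hm : m * (μ * μ) ≡ δ [MOD p] := by
    rw [mul_comm]; exact hm'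
  -- the abelian subgroup
  have hza : Subgroup.zpowers a ≤ Subgroup.normalizer ((Mc R W : Subgroup G) : Set G) :=
    Subgroup.zpowers_le.mpr (h.norm_Mc ha)
  set B : Subgroup G := ⁅Mc R W, Subgroup.zpowers a⁆ with hB
  have hBM : B ≤ Mc R W := commutator_le_left_of_le_normalizer _ _ hza
  have hMp : IsPGroup p ↥(Mc R W) := h.pR.to_le (Mc_le R W)
  have hcop' : (Nat.card (Subgroup.zpowers a)).Coprime p := by rw [Nat.card_zpowers]; exact hcop
  have hmain := Cfsg.Agent.Lib.Helper4.MetaOdd.main hp2 (Mc R W) (Subgroup.zpowers a) hMp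
    (h.isMetacyclic_Mc hp3 hn hnt) hza hcop'
  have hBc : ∀ u ∈ B, ∀ v ∈ B, u * v = v * u := by
    intro u hu v hv
    exact congrArg Subtype.val (hmain.1.is_comm.comm ⟨u, hu⟩ ⟨v, hv⟩)
  have hBp : IsPGroup p ↥B := hMp.to_le hBM
  have haB : a ∈ Subgroup.normalizer ((B : Subgroup G) : Set G) :=
    le_normalizer_commutator_right _ _ hza (Subgroup.mem_zpowers a)
  have hBL : ¬ B ≤ Lc R W := by
    intro hcon
    obtain ⟨r, hr, hra⟩ := h2
    apply hra
    obtain ⟨w, hw, g, hg, rfl⟩ := h.R_decomp hn hnt r hr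
    rw [commutatorElement_mul_left_eq_conj_mul]
    have hwL : w ∈ Subgroup.normalizer ((Lc R W : Subgroup G) : Set G) :=
      h.norm_Lc (Subgroup.le_normalizer (h.WR hw))
    have h3 : ⁅g, a⁆ ∈ Lc R W :=
      hcon (Subgroup.commutator_mem_commutator hg (Subgroup.mem_zpowers a))
    have h4 : ⁅w, a⁆ ∈ Lc R W := by
      apply h.W_le_Lc hn
      rw [commutatorElement_def, mul_assoc, mul_assoc]
      apply W.mul_mem hw
      rw [← mul_assoc]
      exact (Subgroup.mem_normalizer_iff.mp haW _).mp (W.inv_mem hw)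
    exact Subgroup.mul_mem _ ((Subgroup.mem_normalizer_iff.mp hwL _).mp h3) h4
  have hL : ∀ s ∈ B, a * s * a⁻¹ * (s ^ m)⁻¹ ∈ Lc R W := fun s hs =>
    h.theta_mem_Lc hn hnt ha hy hyL hl hμ hδ hm hμp (hBM hs)
  obtain ⟨x', hx'B, hx'1, hx'p, hx'a⟩ := exists_eigen hBc hBp haB m (Lc R W) hL hBL
  have hx'L : x' ∈ Lt R W := h.mem_Lt_of_pow hn hnt (hBM hx'B) hx'p
  have hx'o : orderOf x' = p := orderOf_eq_prime hx'p hx'1
  -- the square of the scalar
  have hμ2 : μ * μ ≡ 1 [MOD p] := by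
    by_cases hx'Z : x' ∈ ZW W
    · have h3 : x' ^ δ = x' ^ m := by rw [← hδ x' hx'Z, hx'a]
      have h4 : δ ≡ m [MOD p] := by
        have := pow_eq_pow_iff_modEq.mp h3
        rwa [hx'o] at this
      have h5 : m * (μ * μ) ≡ m * 1 [MOD p] := by
        rw [mul_one]; exact hm.trans h4
      have h6 : Nat.gcd p m = 1 := by
        rw [Nat.gcd_comm]
        have : Nat.Coprime δ p := ((Nat.Prime.coprime_iff_not_dvd hpp).mpr hδp).symm
        exact (Nat.ModEq.gcd_eq h4).symm.trans this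
      exact Nat.ModEq.cancel_left_of_coprime h6 h5
    · have hcZ : ⁅y, x'⁆ ∈ ZW W := h.comm_mem_ZW hy (Lt_le R W hx'L)
      have hc1 : ⁅y, x'⁆ ≠ 1 := fun h0 => hx'Z (h.mem_ZW_of_psi hn hnt hy hyL hx'L h0)
      have hco : orderOf ⁅y, x'⁆ = p := orderOf_eq_prime (h.expW _ (ZW_le W hcZ)) hc1
      have e1 : a * ⁅y, x'⁆ * a⁻¹ = ⁅y, x'⁆ ^ δ := hδ _ hcZ
      have hx'm : x' ^ m ∈ Lt R W := Subgroup.pow_mem _ hx'L m
      have e2 : a * ⁅y, x'⁆ * a⁻¹ = ⁅y, x'⁆ ^ (m * μ) := by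
        rw [conjugate_commutatorElement, hμ, hx'a,
          h.comm_mul_left (W.pow_mem hy μ) (Lt_le R W hl) (Lt_le R W hx'm)]
        have h3 : ⁅l, x' ^ m⁆ = 1 := by
          rw [commutatorElement_eq_one_iff_mul_comm]
          exact h.Lt_comm hn hnt hl hx'm
        rw [h3, mul_one, h.comm_pow_left hy (Lt_le R W hx'm),
          h.comm_pow_right hy (Lt_le R W hx'L), ← pow_mul]
      have h4 : δ ≡ m * μ [MOD p] := by
        have := pow_eq_pow_iff_modEq.mp (e1.symm.trans e2)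
        rwa [hco] at this
      have h5 : (m * μ) * μ ≡ (m * μ) * 1 [MOD p] := by
        rw [mul_one, mul_assoc]; exact hm.trans h4
      have h6 : Nat.gcd p (m * μ) = 1 := by
        rw [Nat.gcd_comm]
        have : Nat.Coprime δ p := ((Nat.Prime.coprime_iff_not_dvd hpp).mpr hδp).symm
        exact (Nat.ModEq.gcd_eq h4).symm.trans this
      have h7 : μ ≡ 1 [MOD p] := Nat.ModEq.cancel_left_of_coprime h6 h5
      have := Nat.ModEq.mul h7 h7
      rwa [mul_one] at this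
  -- the operator acts trivially on `W / Lt`
  have ht2 : TrivOn R W (a * a) := h.trivOn_sq hn hnt ha hy hyL hl hμ hμ2
  obtain ⟨k, hk⟩ := hk
  have hta : TrivOn R W a := by
    have := TrivOn.pow' (Subgroup.mul_mem _ haW haW) ht2 k
    rwa [hk] at this
  obtain ⟨r, hr, hra⟩ := h1
  exact hra (h.comm_mem_Mc_of_trivOn hn hnt ha hta r hr)

end g10

end Cfsg.Agent.Lib.Helper4.RT
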