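import Mathlib
import Cfsg.Agent.Lib.Helper4.RT10
import Cfsg.Agent.Lib.Helper4.Rk2c

set_option autoImplicit false

/-! Rank two `p`-groups with an extraspecial `Ω₁`: `R` acts trivially on `W / Z(W)`. -/

namespace Cfsg.Agent.Lib.Helper4.RT

open scoped commutatorElement
open Cfsg.Agent.Lib.Lead

universe u

section g11a

variable {G : Type u} [Group G]

/-- the kernel of the action of `A` on `R / N`. -/
def actKer (A R N : Subgroup G) : Subgroup G where
  carrier := {b | b ∈ A ∧ b ∈ Subgroup.normalizer (N : Set G) ∧ ∀ r ∈ R, ⁅r, b⁆ ∈ N}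
  one_mem' := ⟨A.one_mem, Subgroup.one_mem _, fun r _ => by
    rw [commutatorElement_one_right]; exact Subgroup.one_mem _⟩
  mul_mem' := by
    rintro a b ⟨ha, han, ha'⟩ ⟨hb, hbn, hb'⟩
    refine ⟨A.mul_mem ha hb, Subgroup.mul_mem _ han hbn, fun r hr => ?_⟩
    rw [commutatorElement_mul_right_eq_mul_conj, mul_assoc, mul_assoc]
    apply Subgroup.mul_mem _ (ha' r hr)
    rw [← mul_assoc]
    exact (Subgroup.mem_normalizer_iff.mp han _).mp (hb' r hr)
  inv_mem' := by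
    rintro a ⟨ha, han, ha'⟩
    refine ⟨A.inv_mem ha, Subgroup.inv_mem _ han, fun r hr => ?_⟩
    rw [commutatorElement_inv_right]
    have h2 : ⁅a, r⁆ ∈ N := by
      rw [← commutatorElement_inv]
      exact Subgroup.inv_mem _ (ha' r hr)
    have := (Subgroup.mem_normalizer_iff.mp (Subgroup.inv_mem _ han) _).mp h2
    rwa [inv_inv] at this

theorem exists_not_mem_actKer {A R N : Subgroup G} (hRA : ⁅R, A⁆ = R) (hN : ¬ R ≤ N) :
    ∃ b ∈ A, b ∉ actKer A R N := by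
  by_contra hcon
  push Not at hcon
  apply hN
  rw [← hRA, Subgroup.commutator_le]
  intro r hr b hb
  exact (hcon b hb).2.2 r hr

theorem exists_not_mem_of_two {A K₁ K₂ : Subgroup G} (h1 : ∃ b ∈ A, b ∉ K₁)
    (h2 : ∃ b ∈ A, b ∉ K₂) : ∃ a ∈ A, a ∉ K₁ ∧ a ∉ K₂ := by
  obtain ⟨b₁, hb₁, hb₁K⟩ := h1
  obtain ⟨b₂, hb₂, hb₂K⟩ := h2
  by_cases h3 : b₁ ∈ K₂
  · by_cases h4 : b₂ ∈ K₁
    · refine ⟨b₁ * b₂, A.mul_mem hb₁ hb₂, fun h5 => ?_, fun h5 => ?_⟩
      · apply hb₁K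
        have : b₁ = (b₁ * b₂) * b₂⁻¹ := by group
        rw [this]; exact K₁.mul_mem h5 (K₁.inv_mem h4)
      · apply hb₂K
        have : b₂ = b₁⁻¹ * (b₁ * b₂) := by group
        rw [this]; exact K₂.mul_mem (K₂.inv_mem h3) h5
    · exact ⟨b₂, hb₂, h4, hb₂K⟩
  · exact ⟨b₁, hb₁, hb₁K, h3⟩

end g11a

section g11

variable {G : Type u} [Group G] [Finite G] {p : ℕ} [hp : Fact p.Prime] {R W : Subgroup G}

theorem ES.not_NT (h : ES p R W) (hp3 : 3 < p) (A : Subgroup G)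
    (hA : A ≤ Subgroup.normalizer (R : Set G)) (hcop : (Nat.card A).Coprime p)
    (hodd : Odd (Nat.card A)) (hRA : ⁅R, A⁆ = R) : ¬ NT R W := by
  intro hnt
  have hn : R ≤ Subgroup.normalizer (W : Set G) := Subgroup.le_normalizer.trans h.norm_W
  -- the two kernels are proper
  have hM : ¬ R ≤ Mc R W := by
    intro hcon
    obtain ⟨y, hy, hyL⟩ := h.exists_y hn hnt
    apply hyL
    exact h.mem_Lt_of_pow hn hnt (hcon (h.WR hy)) (h.expW y hy)
  have hL : ¬ R ≤ Lc R W := by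
    intro hcon
    obtain ⟨r, hr, hrL⟩ := exists_not_mem_Lc hn hnt
    exact hrL (hcon hr)
  obtain ⟨a, haA, ha1, ha2⟩ := exists_not_mem_of_two (exists_not_mem_actKer hRA hM)
    (exists_not_mem_actKer hRA hL)
  have ha : a ∈ Subgroup.normalizer (R : Set G) := hA haA
  have h1 : ∃ r ∈ R, ⁅r, a⁆ ∉ Mc R W := by
    by_contra hcon
    push Not at hcon
    exact ha1 ⟨haA, h.norm_Mc ha, hcon⟩
  have h2 : ∃ r ∈ R, ⁅r, a⁆ ∉ Lc R W := by
    by_contra hcon
    push Not at hcon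
    exact ha2 ⟨haA, h.norm_Lc ha, hcon⟩
  have hk : ∃ k : ℕ, (a * a) ^ k = a := by
    obtain ⟨k, hk⟩ := Cfsg.Agent.Lib.Helper4.Rk2.mem_zpowers_sq_of_odd hodd (⟨a, haA⟩ : ↥A)
    exact ⟨k, congrArg Subtype.val hk⟩
  have hco : (orderOf a).Coprime p := by
    have h3 : orderOf a ∣ Nat.card A := by
      have := orderOf_dvd_natCard (⟨a, haA⟩ : ↥A)
      rwa [← Subgroup.orderOf_coe] at this
    exact Nat.Coprime.coprime_dvd_left h3 hcop
  exact h.false_of_operator hp3 hn hnt ha hco hk h1 h2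

end g11

end Cfsg.Agent.Lib.Helper4.RT
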