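import Mathlib
import Cfsg.Agent.Lib.Helper4.NR1
import Cfsg.Agent.Lib.Helper4.RT11
import Cfsg.Agent.Lib.Helper4.Narrow1
import Cfsg.Agent.Lib.Lead.CoprimeFrattini
import Cfsg.Agent.Lib.Lead.CoprimeAction2

set_option autoImplicit false

/-! The chain `D ∩ Z_i(R)` for a normal subgroup `D` of a `p`-group `R` on which some element has
at most `p` fixed points. -/

namespace Cfsg.Agent.Lib.Helper4.NR

open scoped commutatorElement
open Cfsg.Agent.Lib.Lead

universe u

section s2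

variable {G : Type u} [Group G]

/-- the chain `D ∩ Z_i(R)` -/
def Dch (R D : Subgroup G) (i : ℕ) : Subgroup G :=
  D ⊓ (Subgroup.upperCentralSeries ↥R i).map R.subtype

variable {R D : Subgroup G}

theorem Dch_zero : Dch R D 0 = ⊥ := by
  rw [Dch, Subgroup.upperCentralSeries_zero, Subgroup.map_bot, inf_bot_eq]

theorem Dch_le (i : ℕ) : Dch R D i ≤ D := inf_le_left

theorem Dch_mono (i : ℕ) : Dch R D i ≤ Dch R D (i + 1) :=
  inf_le_inf_left _ (Subgroup.map_mono (Subgroup.upperCentralSeries_mono _ (Nat.le_succ i)))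

theorem exists_Dch_eq [Finite G] {p : ℕ} [Fact p.Prime] (hR : IsPGroup p R) (hDR : D ≤ R) :
    ∃ n, Dch R D n = D := by
  haveI : Group.IsNilpotent ↥R := hR.isNilpotent
  obtain ⟨n, hn⟩ := (Group.IsNilpotent.nilpotent (G := ↥R))
  refine ⟨n, ?_⟩
  rw [Dch, hn, ← MonoidHom.range_eq_map, Subgroup.range_subtype]
  exact inf_eq_left.mpr hDR

theorem norm_Dch (i : ℕ) :
    Subgroup.normalizer (R : Set G) ⊓ Subgroup.normalizer (D : Set G) ≤
      Subgroup.normalizer ((Dch R D i : Subgroup G) : Set G) := by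
  intro g hg
  obtain ⟨hgR, hgD⟩ := Subgroup.mem_inf.mp hg
  have h1 := le_normalizer_map_characteristic R (Subgroup.upperCentralSeries ↥R i) hgR
  rw [Subgroup.mem_normalizer_iff] at hgD h1 ⊢
  intro x
  rw [Dch, Subgroup.mem_inf, Subgroup.mem_inf, ← hgD x, ← h1 x]

theorem comm_mem_Dch (hRD : R ≤ Subgroup.normalizer (D : Set G)) {i : ℕ} {d r : G}
    (hd : d ∈ Dch R D (i + 1)) (hr : r ∈ R) : ⁅d, r⁆ ∈ Dch R D i := by
  obtain ⟨hdD, hdZ⟩ := Subgroup.mem_inf.mp hd
  obtain ⟨d', hd', rfl⟩ := hdZ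
  refine Subgroup.mem_inf.mpr ⟨?_, ?_⟩
  · rw [commutatorElement_def, mul_assoc, mul_assoc]
    apply D.mul_mem hdD
    rw [← mul_assoc]
    exact (Subgroup.mem_normalizer_iff.mp (hRD hr) _).mp (D.inv_mem hdD)
  · have := (Subgroup.mem_upperCentralSeries_succ_iff.mp hd') ⟨r, hr⟩
    refine ⟨_, this, ?_⟩
    simp [commutatorElement_def]

theorem card_Dch_succ [Finite G] {p : ℕ} [hp : Fact p.Prime] (hDp : IsPGroup p D)
    (hRD : R ≤ Subgroup.normalizer (D : Set G)) {s : G} (hs : s ∈ R)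
    (hcs : Nat.card ↥(D ⊓ Subgroup.centralizer ({s} : Set G)) ≤ p) (i : ℕ) :
    Nat.card (Dch R D (i + 1)) = Nat.card (Dch R D i) ∨
      Nat.card (Dch R D (i + 1)) = p * Nat.card (Dch R D i) := by
  have hp1 := hp.out.one_lt
  have h1 := Cfsg.Agent.Lib.Helper4.Narrow.card_le_mul_card_inf_centralizer_singleton
    (Dch R D (i + 1)) (Dch R D i) s (fun b hb => by
      have := comm_mem_Dch hRD hb hs
      rwa [commutatorElement_def] at this)
  have h2 : Nat.card ↥(Dch R D (i + 1) ⊓ Subgroup.centralizer ({s} : Set G)) ≤ p :=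
    (Subgroup.card_le_of_le (inf_le_inf_right _ (Dch_le (i + 1)))).trans hcs
  have h3 : Nat.card (Dch R D (i + 1)) ≤ Nat.card (Dch R D i) * p :=
    h1.trans (Nat.mul_le_mul_left _ h2)
  obtain ⟨a, ha⟩ := IsPGroup.iff_card.mp (hDp.to_le (Dch_le (R := R) (i + 1)))
  obtain ⟨b, hb⟩ := IsPGroup.iff_card.mp (hDp.to_le (Dch_le (R := R) i))
  have h4 := Subgroup.card_le_of_le (Dch_mono (R := R) (D := D) i)
  rw [ha, hb] at h3 h4 ⊢
  have hba : b ≤ a := (Nat.pow_le_pow_iff_right hp1).mp h4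
  have hab : a ≤ b + 1 := by
    rw [← pow_succ] at h3
    exact (Nat.pow_le_pow_iff_right hp1).mp h3
  rcases Nat.eq_or_lt_of_le hba with h | h
  · left; rw [h]
  · right
    have : a = b + 1 := by omega
    rw [this, pow_succ, mul_comm]

/-- the elements of `A` acting trivially on all factors of the chain -/
def KD (A R D : Subgroup G) : Subgroup G :=
  ⨅ i : ℕ, Cfsg.Agent.Lib.Helper4.RT.actKer A (Dch R D (i + 1)) (Dch R D i)

theorem mem_KD_iff {A : Subgroup G} {g : G} :
    g ∈ KD A R D ↔ ∀ i : ℕ, g ∈ A ∧ g ∈ Subgroup.normalizer ((Dch R D i : Subgroup G) : Set G) ∧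
      ∀ r ∈ Dch R D (i + 1), ⁅r, g⁆ ∈ Dch R D i := by
  rw [KD, Subgroup.mem_iInf]
  exact Iff.rfl

theorem KD_le (A : Subgroup G) : KD A R D ≤ A := fun _ hg => ((mem_KD_iff.mp hg) 0).1

end s2

section s3

variable {G : Type u} [Group G] [Finite G] {p : ℕ} [hp : Fact p.Prime] {R D A : Subgroup G}

theorem Dch_succ_le_normalizer (hDR : D ≤ R) (i : ℕ) :
    Dch R D (i + 1) ≤ Subgroup.normalizer ((Dch R D i : Subgroup G) : Set G) := by
  intro x hx
  have hxD : x ∈ D := Dch_le (i + 1) hx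
  exact norm_Dch i (Subgroup.mem_inf.mpr ⟨Subgroup.le_normalizer (hDR hxD), Subgroup.le_normalizer hxD⟩)

theorem comm_mem_KD (hDp : IsPGroup p D) (hDR : D ≤ R)
    (hRD : R ≤ Subgroup.normalizer (D : Set G)) {s : G} (hs : s ∈ R)
    (hcs : Nat.card ↥(D ⊓ Subgroup.centralizer ({s} : Set G)) ≤ p)
    (hAR : A ≤ Subgroup.normalizer (R : Set G)) (hAD : A ≤ Subgroup.normalizer (D : Set G))
    {a b : G} (ha : a ∈ A) (hb : b ∈ A) : ⁅a, b⁆ ∈ KD A R D := by
  rw [mem_KD_iff]
  intro i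
  have hAN : ∀ j, A ≤ Subgroup.normalizer ((Dch R D j : Subgroup G) : Set G) :=
    fun j => (le_inf hAR hAD).trans (norm_Dch j)
  have hab : ⁅a, b⁆ ∈ A := by
    rw [commutatorElement_def]
    exact A.mul_mem (A.mul_mem (A.mul_mem ha hb) (A.inv_mem ha)) (A.inv_mem hb)
  refine ⟨hab, hAN i hab, fun r hr => ?_⟩
  have hHK := Dch_mono (R := R) (D := D) i
  have hKH := Dch_succ_le_normalizer (D := D) hDR i
  have hcard := card_Dch_succ hDp hRD hs hcs i
  have h1 := sect_comm hHK hKH (hcyc_of_card hHK hKH hcard)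
    (Subgroup.mem_inf.mpr ⟨hAN i ha, hAN (i + 1) ha⟩)
    (Subgroup.mem_inf.mpr ⟨hAN i hb, hAN (i + 1) hb⟩) r hr
  rw [← commutatorElement_inv]
  exact Subgroup.inv_mem _ h1

theorem pow_mem_KD (hDp : IsPGroup p D) (hDR : D ≤ R)
    (hRD : R ≤ Subgroup.normalizer (D : Set G)) {s : G} (hs : s ∈ R)
    (hcs : Nat.card ↥(D ⊓ Subgroup.centralizer ({s} : Set G)) ≤ p)
    (hAR : A ≤ Subgroup.normalizer (R : Set G)) (hAD : A ≤ Subgroup.normalizer (D : Set G))
    {a : G} (ha : a ∈ A) : a ^ (p - 1) ∈ KD A R D := by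
  rw [mem_KD_iff]
  intro i
  have hAN : ∀ j, A ≤ Subgroup.normalizer ((Dch R D j : Subgroup G) : Set G) :=
    fun j => (le_inf hAR hAD).trans (norm_Dch j)
  have hab : a ^ (p - 1) ∈ A := A.pow_mem ha _
  refine ⟨hab, hAN i hab, fun r hr => ?_⟩
  have hHK := Dch_mono (R := R) (D := D) i
  have hKH := Dch_succ_le_normalizer (D := D) hDR i
  have hcard := card_Dch_succ hDp hRD hs hcs i
  have h1 := sect_pow hHK hKH (hcyc_of_card hHK hKH hcard) hcard
    (Subgroup.mem_inf.mpr ⟨hAN i ha, hAN (i + 1) ha⟩) r hr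
  rw [← commutatorElement_inv]
  exact Subgroup.inv_mem _ h1

/-- a `p'`-element acting trivially on all factors of the chain centralises `D` -/
theorem centralizes_of_mem_KD (hR : IsPGroup p R) (hDR : D ≤ R) {g : G} (hg : g ∈ KD A R D)
    (hcop : (orderOf g).Coprime p) :
    Subgroup.zpowers g ≤ Subgroup.centralizer (D : Set G) := by
  have hDp : IsPGroup p D := hR.to_le hDR
  have key : ∀ i, Subgroup.zpowers g ≤ Subgroup.centralizer ((Dch R D i : Subgroup G) : Set G) := by
    intro i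
    induction i with
    | zero =>
      rw [Dch_zero]
      intro x _
      rw [Subgroup.mem_centralizer_iff]
      intro y hy
      rw [SetLike.mem_coe, Subgroup.mem_bot] at hy
      rw [hy, one_mul, mul_one]
    | succ i ih =>
      have hXK : Subgroup.zpowers g ≤ Cfsg.Agent.Lib.Helper4.RT.actKer A (Dch R D (i + 1)) (Dch R D i) := by
        rw [Subgroup.zpowers_le]
        have := (mem_KD_iff.mp hg) i
        exact this
      have hXN : Subgroup.zpowers g ≤ Subgroup.normalizer ((Dch R D (i + 1) : Subgroup G) : Set G) := by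
        rw [Subgroup.zpowers_le]
        exact ((mem_KD_iff.mp hg) (i + 1)).2.1
      have hcop' : (Nat.card (Subgroup.zpowers g)).Coprime (Nat.card (Dch R D (i + 1))) := by
        rw [Nat.card_zpowers]
        obtain ⟨a, ha⟩ := IsPGroup.iff_card.mp (hDp.to_le (Dch_le (R := R) (i + 1)))
        rw [ha]
        exact Nat.Coprime.pow_right _ hcop
      have hsolv : Group.IsSolvable ↥(Subgroup.zpowers g) ∨ Group.IsSolvable ↥(Dch R D (i + 1)) := by
        right
        haveI : Group.IsNilpotent ↥(Dch R D (i + 1)) :=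
          (hDp.to_le (Dch_le (R := R) (i + 1))).isNilpotent
        infer_instance
      have h1 := coprime_commutator_stable (Subgroup.zpowers g) (Dch R D (i + 1)) hXN hcop' hsolv
      have h2 : ⁅Dch R D (i + 1), Subgroup.zpowers g⁆ ≤ Dch R D i := by
        rw [Subgroup.commutator_le]
        intro k hk x hx
        exact (hXK hx).2.2 k hk
      have h3 : ⁅⁅Dch R D (i + 1), Subgroup.zpowers g⁆, Subgroup.zpowers g⁆ = ⊥ := by
        rw [eq_bot_iff]
        calc ⁅⁅Dch R D (i + 1), Subgroup.zpowers g⁆, Subgroup.zpowers g⁆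
            ≤ ⁅Dch R D i, Subgroup.zpowers g⁆ := Subgroup.commutator_mono h2 le_rfl
          _ = ⊥ := by
            rw [Subgroup.commutator_comm, Subgroup.commutator_eq_bot_iff_le_centralizer]
            exact ih
      rw [h3] at h1
      rw [← Subgroup.commutator_eq_bot_iff_le_centralizer, Subgroup.commutator_comm]
      exact h1.symm
  obtain ⟨n, hn⟩ := exists_Dch_eq hR hDR
  have := key n
  rwa [hn] at this

end s3

end Cfsg.Agent.Lib.Helper4.NR
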