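import Mathlib
import Cfsg.Agent.Lib.Helper4.Narrow1

set_option autoImplicit false

namespace Cfsg.Agent.Lib.Helper4.Narrow

open Cfsg.Agent.Lib.Lead
open Cfsg.Agent.Lib.Helper3.NormalSq
open scoped commutatorElement

section
variable {R : Type*} [Group R] [Finite R] {p : ℕ} [hp : Fact p.Prime]

theorem card_le_prime_of_lt_sq (hR : IsPGroup p R) (N : Subgroup R) (h : Nat.card N < p ^ 2) :
    Nat.card N ≤ p := by
  obtain ⟨k, hk⟩ := IsPGroup.iff_card.mp (hR.to_subgroup N)
  rw [hk] at h ⊢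
  have : k < 2 := (Nat.pow_lt_pow_iff_right hp.out.one_lt).mp h
  calc p ^ k ≤ p ^ 1 := Nat.pow_le_pow_right hp.out.pos (by omega)
    _ = p := pow_one p

theorem prime_le_card_of_ne_bot (hR : IsPGroup p R) (N : Subgroup R) (h : N ≠ ⊥) :
    p ≤ Nat.card N := by
  obtain ⟨k, hk⟩ := IsPGroup.iff_card.mp (hR.to_subgroup N)
  rw [hk]
  have hk0 : k ≠ 0 := by
    rintro rfl
    rw [pow_zero] at hk
    exact h (Subgroup.card_eq_one.mp hk)
  calc p = p ^ 1 := (pow_one p).symm
    _ ≤ p ^ k := Nat.pow_le_pow_right hp.out.pos (by omega)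

/-- a normal subgroup of order `p ^ 2` of a `p`-group lies in the second centre -/
theorem normal_sq_le_ucs2 (hR : IsPGroup p R) (U : Subgroup R) [hUn : U.Normal]
    (hU : Nat.card U = p ^ 2) : U ≤ Subgroup.upperCentralSeries R 2 := by
  have hnil : Group.IsNilpotent R := hR.isNilpotent
  have hp1 := hp.out.one_lt
  have hNn : (⁅U, (⊤ : Subgroup R)⁆).Normal := Subgroup.commutator_normal U ⊤
  have hNU : ⁅U, (⊤ : Subgroup R)⁆ ≤ U := Subgroup.commutator_le_left U ⊤
  have hne : ⁅U, (⊤ : Subgroup R)⁆ ≠ U := by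
    intro heq
    obtain ⟨n, hn⟩ := Subgroup.nilpotent_iff_lowerCentralSeries.mp hnil
    have hall : ∀ m, U ≤ Subgroup.lowerCentralSeries (⊤ : Subgroup R) m := by
      intro m
      induction m with
      | zero => simp
      | succ m ih =>
        rw [Subgroup.lowerCentralSeries_succ]
        calc U = ⁅U, (⊤ : Subgroup R)⁆ := heq.symm
          _ ≤ _ := Subgroup.commutator_mono ih le_rfl
    have h1 := hall n
    rw [hn, le_bot_iff] at h1
    rw [h1, Subgroup.card_bot] at hU
    have : 1 < p ^ 2 := Nat.one_lt_pow (by norm_num) hp1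
    omega
  have hlt : ⁅U, (⊤ : Subgroup R)⁆ < U := lt_of_le_of_ne hNU hne
  have hcardlt : Nat.card ↥⁅U, (⊤ : Subgroup R)⁆ < p ^ 2 := by
    rw [← hU]
    by_contra h
    push Not at h
    exact hne (Subgroup.eq_of_le_of_card_ge hNU h)
  have hcardle := card_le_prime_of_lt_sq hR _ hcardlt
  have hNc : ⁅U, (⊤ : Subgroup R)⁆ ≤ Subgroup.center R := by
    by_cases hbot : ⁅U, (⊤ : Subgroup R)⁆ = ⊥
    · rw [hbot]; exact bot_le
    · have h1 := inf_center_ne_bot _ hbot
      have h2 := prime_le_card_of_ne_bot hR _ h1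
      have h3 : ⁅U, (⊤ : Subgroup R)⁆ ⊓ Subgroup.center R = ⁅U, (⊤ : Subgroup R)⁆ :=
        Subgroup.eq_of_le_of_card_ge inf_le_left (by omega)
      rw [← h3]
      exact inf_le_right
  intro u hu
  rw [Subgroup.mem_upperCentralSeries_succ_iff]
  intro y
  rw [Subgroup.upperCentralSeries_one]
  exact hNc (Subgroup.commutator_mem_commutator hu (Subgroup.mem_top y))

end

end Cfsg.Agent.Lib.Helper4.Narrow
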