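import Mathlib
import Cfsg.Agent.Lib.Helper4.Narrow2
import Cfsg.Agent.Lib.Helper2.Basic

set_option autoImplicit false

namespace Cfsg.Agent.Lib.Helper4.Narrow

open Cfsg.Agent.Lib.Lead
open Cfsg.Agent.Lib.Helper3.NormalSq
open scoped commutatorElement

section
variable {R : Type*} [Group R] [Finite R] {p : ℕ} [hp : Fact p.Prime]

theorem isElementaryAbelian_zpowers {x : R} (hx : x ^ p = 1) :
    Cfsg.IsElementaryAbelian p (Subgroup.zpowers x) := by
  refine ⟨⟨⟨fun a b => ?_⟩⟩, ?_⟩
  · obtain ⟨i, hi⟩ := Subgroup.mem_zpowers_iff.mp a.2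
    obtain ⟨j, hj⟩ := Subgroup.mem_zpowers_iff.mp b.2
    apply Subtype.ext
    show (a : R) * (b : R) = (b : R) * (a : R)
    rw [← hi, ← hj, ← zpow_add, ← zpow_add, add_comm]
  · intro a ha
    obtain ⟨i, rfl⟩ := Subgroup.mem_zpowers_iff.mp ha
    rw [← zpow_natCast, ← zpow_mul, mul_comm, zpow_mul, zpow_natCast, hx, one_zpow]

variable (hp2 : p ≠ 2) (hR : IsPGroup p R)
  (E : Subgroup R) (hE : Cfsg.IsElementaryAbelian p E) (hE2 : Nat.card E = p ^ 2)
  (hEmax : ∀ B : Subgroup R, Cfsg.IsElementaryAbelian p B → E ≤ B → B = E)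

include hE hEmax in
/-- elements of order dividing `p` centralising `E` lie in `E` -/
theorem mem_of_pow_of_comm (x : R) (hx : x ^ p = 1) (hc : ∀ e ∈ E, e * x = x * e) : x ∈ E := by
  have h1 : Cfsg.IsElementaryAbelian p (E ⊔ Subgroup.zpowers x) := by
    apply isElementaryAbelian_sup hE (isElementaryAbelian_zpowers hx)
    intro a ha b hb
    obtain ⟨i, rfl⟩ := Subgroup.mem_zpowers_iff.mp hb
    exact ((Commute.zpow_right (hc a ha) i : Commute a (x ^ i))).eq
  have h2 := hEmax _ h1 le_sup_left
  rw [← h2]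
  exact (le_sup_right : Subgroup.zpowers x ≤ _) (Subgroup.mem_zpowers x)

include hE hEmax in
theorem omCenter_le : Om p (Subgroup.center R) ≤ E := by
  intro x hx
  obtain ⟨hxc, hxp⟩ := (mem_Om_iff (center_mul_pow) x).mp hx
  exact mem_of_pow_of_comm E hE hEmax x hxp (fun e _ => Subgroup.mem_center_iff.mp hxc e)

include hE hEmax in
/-- an abelian subgroup of exponent `p` which is too big cannot contain `E`, and cannot centralise
`E` -/
theorem abelian_exp_le (A : Subgroup R) (hA : IsMulCommutative A) (hexp : ∀ a ∈ A, a ^ p = 1)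
    (hAE : E ≤ A) : A = E := hEmax A ⟨hA, hexp⟩ hAE

include hR hE hE2 hEmax in
theorem card_omCenter (hr : ¬ Cfsg.PRankLE p 2 R) : Nat.card (Om p (Subgroup.center R)) = p := by
  have hp1 := hp.out.one_lt
  have hle := omCenter_le E hE hEmax
  -- nontrivial
  have hRnt : Nontrivial R := by
    rw [← Finite.one_lt_card_iff_nontrivial]
    have h1 : Nat.card E ≤ Nat.card R := Subgroup.card_le_card_group E
    have : 1 < p ^ 2 := Nat.one_lt_pow (by norm_num) hp1
    omega
  have hne : Om p (Subgroup.center R) ≠ ⊥ := by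
    have hZnt : Nontrivial (Subgroup.center R) := hR.center_nontrivial
    have hZp : IsPGroup p (Subgroup.center R) := hR.to_subgroup _
    obtain ⟨k, hk⟩ := IsPGroup.iff_card.mp hZp
    have hk0 : k ≠ 0 := by
      rintro rfl
      rw [pow_zero] at hk
      have := (Finite.one_lt_card_iff_nontrivial (α := Subgroup.center R)).mpr hZnt
      omega
    have hdvd : p ∣ Nat.card (Subgroup.center R) := by
      rw [hk]; exact dvd_pow_self p hk0
    obtain ⟨z, hz⟩ := exists_prime_orderOf_dvd_card' p hdvd
    have hz1 : (z : R) ≠ 1 := by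
      intro h
      have : z = 1 := Subtype.ext h
      rw [this, orderOf_one] at hz
      omega
    have hzp : (z : R) ^ p = 1 := by
      have := pow_orderOf_eq_one z
      rw [hz] at this
      exact congrArg Subtype.val this
    intro hbot
    have : (z : R) ∈ Om p (Subgroup.center R) :=
      (mem_Om_iff (center_mul_pow) _).mpr ⟨z.2, hzp⟩
    rw [hbot, Subgroup.mem_bot] at this
    exact hz1 this
  have h1 := prime_le_card_of_ne_bot hR _ hne
  by_contra hcard
  -- then the order is `p ^ 2`, so `E` is central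
  have h2 : ¬ Nat.card (Om p (Subgroup.center R)) < p ^ 2 := by
    intro h
    have := card_le_prime_of_lt_sq hR _ h
    omega
  push Not at h2
  have hEq : Om p (Subgroup.center R) = E := Subgroup.eq_of_le_of_card_ge hle (by omega)
  have hEc : ∀ e ∈ E, e ∈ Subgroup.center R := by
    intro e he
    rw [← hEq] at he
    exact ((mem_Om_iff (center_mul_pow) e).mp he).1
  unfold Cfsg.PRankLE at hr
  push Not at hr
  obtain ⟨A, hA, hexp, hcardA⟩ := hr
  have hAE : A ≤ E := by
    intro a ha
    exact mem_of_pow_of_comm E hE hEmax a (hexp a ha)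
      (fun e he => (Subgroup.mem_center_iff.mp (hEc e he) a).symm)
  have := Subgroup.card_le_of_le hAE
  omega

end

end Cfsg.Agent.Lib.Helper4.Narrow
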