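import Mathlib
import Cfsg.Agent.Lib.Helper4.Narrow3

set_option autoImplicit false

namespace Cfsg.Agent.Lib.Helper4.Narrow

open Cfsg.Agent.Lib.Lead
open Cfsg.Agent.Lib.Helper3.NormalSq
open scoped commutatorElement

section
variable {R : Type*} [Group R]

theorem om_characteristic (p : ℕ) (H : Subgroup R) [hH : H.Characteristic] :
    (Om p H).Characteristic := by
  rw [Subgroup.characteristic_iff_le_comap]
  intro φ
  unfold Om
  rw [Subgroup.closure_le]
  intro x hx
  rw [Subgroup.coe_comap, Set.mem_preimage, SetLike.mem_coe]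
  apply Subgroup.subset_closure
  refine ⟨?_, ?_⟩
  · have h1 := Subgroup.characteristic_iff_le_comap.mp hH φ
    exact h1 hx.1
  · show (φ x) ^ p = 1
    rw [← map_pow, hx.2, map_one]

end

section
variable {R : Type*} [Group R] [Finite R] {p : ℕ} [hp : Fact p.Prime]

theorem pow_succ_le_card_of_lt (hR : IsPGroup p R) (N : Subgroup R) (k : ℕ)
    (h : p ^ k < Nat.card N) : p ^ (k + 1) ≤ Nat.card N := by
  obtain ⟨j, hj⟩ := IsPGroup.iff_card.mp (hR.to_subgroup N)
  rw [hj] at h ⊢
  have : k < j := (Nat.pow_lt_pow_iff_right hp.out.one_lt).mp h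
  exact Nat.pow_le_pow_right hp.out.pos (by omega)

variable (hp2 : p ≠ 2) (hR : IsPGroup p R)
  (E : Subgroup R) (hE : Cfsg.IsElementaryAbelian p E) (hE2 : Nat.card E = p ^ 2)
  (hEmax : ∀ B : Subgroup R, Cfsg.IsElementaryAbelian p B → E ≤ B → B = E)

include hp2 in
theorem mem_omUcs_iff (x : R) : x ∈ Om p (Subgroup.upperCentralSeries R 2) ↔
    x ∈ Subgroup.upperCentralSeries R 2 ∧ x ^ p = 1 :=
  mem_Om_iff (ucs2_mul_pow hp2) x

include hp2 in
/-- commutators of elements of `W = Ω₁(Z₂(R))` lie in `Ω₁(Z(R))` -/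
theorem comm_mem_omCenter {w : R} (hw : w ∈ Om p (Subgroup.upperCentralSeries R 2)) (r : R) :
    ⁅w, r⁆ ∈ Om p (Subgroup.center R) := by
  obtain ⟨hw2, hwp⟩ := (mem_omUcs_iff hp2 w).mp hw
  have hc : ⁅w, r⁆ ∈ Subgroup.center R := by
    have := (Subgroup.mem_upperCentralSeries_succ_iff (n := 1)).mp hw2 r
    rwa [Subgroup.upperCentralSeries_one] at this
  refine (mem_Om_iff (center_mul_pow) _).mpr ⟨hc, ?_⟩
  have h1 : Commute ⁅w, r⁆ w := (Subgroup.mem_center_iff.mp hc w).symm
  rw [← commutatorElement_pow_left w r h1 p, hwp]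
  simp [commutatorElement_def]

include hp2 in
theorem comm_mem_omCenter' {w : R} (hw : w ∈ Om p (Subgroup.upperCentralSeries R 2)) (r : R) :
    r * w * r⁻¹ * w⁻¹ ∈ Om p (Subgroup.center R) := by
  have h1 := comm_mem_omCenter hp2 hw r
  have h2 : r * w * r⁻¹ * w⁻¹ = ⁅w, r⁆⁻¹ := by
    rw [commutatorElement_def]; group
  rw [h2]
  exact Subgroup.inv_mem _ h1

include hp2 hR in
/-- `W` contains a normal elementary abelian subgroup of order `p ^ 2` -/
theorem exists_normal_sq_le_omUcs (hr : ¬ Cfsg.PRankLE p 2 R) :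
    ∃ U : Subgroup R, U.Normal ∧ Cfsg.IsElementaryAbelian p U ∧ Nat.card U = p ^ 2 ∧
      U ≤ Om p (Subgroup.upperCentralSeries R 2) := by
  obtain ⟨U, hUn, hUe, hUc⟩ := exists_normal_sq_of_rank_three hR hr
  refine ⟨U, hUn, hUe, hUc, ?_⟩
  intro u hu
  exact (mem_omUcs_iff hp2 u).mpr ⟨normal_sq_le_ucs2 hR U hUc hu, hUe.2 u hu⟩

include hR hE hE2 hEmax in
/-- a generator of `E` modulo `Ω₁(Z(R))` -/
theorem exists_gen (hr : ¬ Cfsg.PRankLE p 2 R) :
    ∃ e ∈ E, e ∉ Om p (Subgroup.center R) ∧ Om p (Subgroup.center R) ⊔ Subgroup.zpowers e = E := by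
  have hp1 := hp.out.one_lt
  have hZ1 := card_omCenter hR E hE hE2 hEmax hr
  have hle := omCenter_le E hE hEmax
  obtain ⟨e, heE, heZ⟩ : ∃ e ∈ E, e ∉ Om p (Subgroup.center R) := by
    by_contra hcon
    push Not at hcon
    have h1 : E ≤ Om p (Subgroup.center R) := hcon
    have h2 := Subgroup.card_le_of_le h1
    have : p < p ^ 2 := by rw [sq]; nlinarith
    omega
  refine ⟨e, heE, heZ, ?_⟩
  have h1 : Om p (Subgroup.center R) ⊔ Subgroup.zpowers e ≤ E :=
    sup_le hle (Subgroup.zpowers_le.mpr heE)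
  apply Subgroup.eq_of_le_of_card_ge h1
  rw [hE2]
  have h2 : p ^ 1 < Nat.card ↥(Om p (Subgroup.center R) ⊔ Subgroup.zpowers e) := by
    rw [pow_one]
    by_contra hcon
    push Not at hcon
    have h3 : Om p (Subgroup.center R) = Om p (Subgroup.center R) ⊔ Subgroup.zpowers e :=
      Subgroup.eq_of_le_of_card_ge le_sup_left (by omega)
    apply heZ
    rw [h3]
    exact (le_sup_right : Subgroup.zpowers e ≤ _) (Subgroup.mem_zpowers e)
  exact pow_succ_le_card_of_lt hR _ 1 h2

include hp2 hE hEmax in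
/-- the centraliser in `W` of a generator `e` lies in `E` -/
theorem omUcs_inf_centralizer_le {e : R}
    (hgen : Om p (Subgroup.center R) ⊔ Subgroup.zpowers e = E) :
    Om p (Subgroup.upperCentralSeries R 2) ⊓ Subgroup.centralizer ({e} : Set R) ≤ E := by
  intro x hx
  obtain ⟨-, hxp⟩ := (mem_omUcs_iff hp2 x).mp hx.1
  have hxe : x * e = e * x := Subgroup.mem_centralizer_singleton_iff.mp hx.2
  apply mem_of_pow_of_comm E hE hEmax x hxp
  have hEle : E ≤ Subgroup.centralizer ({x} : Set R) := by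
    rw [← hgen]
    apply sup_le
    · intro z hz
      have hzc := ((mem_Om_iff (center_mul_pow) z).mp hz).1
      exact Subgroup.mem_centralizer_singleton_iff.mpr (Subgroup.mem_center_iff.mp hzc x).symm
    · rw [Subgroup.zpowers_le]
      exact Subgroup.mem_centralizer_singleton_iff.mpr hxe.symm
  intro a ha
  exact Subgroup.mem_centralizer_singleton_iff.mp (hEle ha)

include hp2 hR hE hE2 hEmax in
theorem card_omUcs_le (hr : ¬ Cfsg.PRankLE p 2 R) {e : R}
    (_heE : e ∈ E) :
    Nat.card (Om p (Subgroup.upperCentralSeries R 2)) ≤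
      p * Nat.card ↥(Om p (Subgroup.upperCentralSeries R 2) ⊓
        Subgroup.centralizer ({e} : Set R)) := by
  have hZ1 := card_omCenter hR E hE hE2 hEmax hr
  have h1 := card_le_mul_card_inf_centralizer_singleton
    (Om p (Subgroup.upperCentralSeries R 2)) (Om p (Subgroup.center R)) e
    (fun b hb => by
      have := comm_mem_omCenter hp2 hb e
      rwa [commutatorElement_def] at this)
  rwa [hZ1] at h1

end

end Cfsg.Agent.Lib.Helper4.Narrow
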