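import Mathlib
import Cfsg.Agent.Lib.Helper4.Narrow4

set_option autoImplicit false

namespace Cfsg.Agent.Lib.Helper4.Narrow

open Cfsg.Agent.Lib.Lead
open Cfsg.Agent.Lib.Helper3.NormalSq
open scoped commutatorElement

section
variable {R : Type*} [Group R] [Finite R] {p : ℕ} [hp : Fact p.Prime]

variable (hp2 : p ≠ 2) (hR : IsPGroup p R)
  (E : Subgroup R) (hE : Cfsg.IsElementaryAbelian p E) (hE2 : Nat.card E = p ^ 2)
  (hEmax : ∀ B : Subgroup R, Cfsg.IsElementaryAbelian p B → E ≤ B → B = E)

include hp2 hR hE hE2 hEmax in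
/-- `W = Ω₁(Z₂(R))` does not have order `p ^ 3` -/
theorem card_omUcs_ne_cube (hr : ¬ Cfsg.PRankLE p 2 R) :
    Nat.card (Om p (Subgroup.upperCentralSeries R 2)) ≠ p ^ 3 := by
  intro hW3
  have hp1 := hp.out.one_lt
  have hp0 := hp.out.pos
  have hZ1 := card_omCenter hR E hE hE2 hEmax hr
  obtain ⟨e, heE, heZ, hgen⟩ := exists_gen hR E hE hE2 hEmax hr
  have hWchar : (Om p (Subgroup.upperCentralSeries R 2)).Characteristic :=
    om_characteristic p _
  have hWn : (Om p (Subgroup.upperCentralSeries R 2)).Normal := inferInstance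
  have hCe_le := omUcs_inf_centralizer_le hp2 E hE hEmax hgen
  have hcard1 := card_omUcs_le hp2 hR E hE hE2 hEmax hr heE
  -- `C_W(e) = E`
  have hCe : Om p (Subgroup.upperCentralSeries R 2) ⊓ Subgroup.centralizer ({e} : Set R) = E := by
    apply Subgroup.eq_of_le_of_card_ge hCe_le
    rw [hE2]
    rw [hW3] at hcard1
    have : p * p ^ 2 ≤ p * Nat.card ↥(Om p (Subgroup.upperCentralSeries R 2) ⊓
        Subgroup.centralizer ({e} : Set R)) := by
      calc p * p ^ 2 = p ^ 3 := by ring
        _ ≤ _ := hcard1
    exact Nat.le_of_mul_le_mul_left this hp0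
  have hEW : E ≤ Om p (Subgroup.upperCentralSeries R 2) := by
    rw [← hCe]; exact inf_le_left
  -- a further generator `w`
  obtain ⟨w, hwW, hwE⟩ : ∃ w ∈ Om p (Subgroup.upperCentralSeries R 2), w ∉ E := by
    by_contra hcon
    push Not at hcon
    have h1 : Om p (Subgroup.upperCentralSeries R 2) ≤ E := hcon
    have h2 := Subgroup.card_le_of_le h1
    have : p ^ 2 < p ^ 3 := Nat.pow_lt_pow_right hp1 (by norm_num)
    omega
  have hgenW : E ⊔ Subgroup.zpowers w = Om p (Subgroup.upperCentralSeries R 2) := by
    have h1 : E ⊔ Subgroup.zpowers w ≤ Om p (Subgroup.upperCentralSeries R 2) :=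
      sup_le hEW (Subgroup.zpowers_le.mpr hwW)
    apply Subgroup.eq_of_le_of_card_ge h1
    rw [hW3]
    have h2 : p ^ 2 < Nat.card ↥(E ⊔ Subgroup.zpowers w) := by
      by_contra hcon
      push Not at hcon
      have h3 : E = E ⊔ Subgroup.zpowers w :=
        Subgroup.eq_of_le_of_card_ge le_sup_left (by omega)
      apply hwE
      rw [h3]
      exact (le_sup_right : Subgroup.zpowers w ≤ _) (Subgroup.mem_zpowers w)
    exact pow_succ_le_card_of_lt hR _ 2 h2
  -- the centraliser of `W`
  have hCchar : (Subgroup.centralizer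
      ((Om p (Subgroup.upperCentralSeries R 2) : Subgroup R) : Set R)).Characteristic :=
    Subgroup.characteristic_centralizer
  have hCn : (Subgroup.centralizer
      ((Om p (Subgroup.upperCentralSeries R 2) : Subgroup R) : Set R)).Normal := inferInstance
  have hCC : Subgroup.centralizer ({e} : Set R) ⊓ Subgroup.centralizer ({w} : Set R) ≤
      Subgroup.centralizer ((Om p (Subgroup.upperCentralSeries R 2) : Subgroup R) : Set R) := by
    intro g hg
    have hge : g * e = e * g := Subgroup.mem_centralizer_singleton_iff.mp hg.1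
    have hgw : g * w = w * g := Subgroup.mem_centralizer_singleton_iff.mp hg.2
    have hle : Om p (Subgroup.upperCentralSeries R 2) ≤ Subgroup.centralizer ({g} : Set R) := by
      rw [← hgenW, ← hgen]
      refine sup_le (sup_le ?_ ?_) ?_
      · intro z hz
        have hzc := ((mem_Om_iff (center_mul_pow) z).mp hz).1
        exact Subgroup.mem_centralizer_singleton_iff.mpr (Subgroup.mem_center_iff.mp hzc g).symm
      · rw [Subgroup.zpowers_le]
        exact Subgroup.mem_centralizer_singleton_iff.mpr hge.symm
      · rw [Subgroup.zpowers_le]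
        exact Subgroup.mem_centralizer_singleton_iff.mpr hgw.symm
    rw [Subgroup.mem_centralizer_iff]
    intro x hx
    exact Subgroup.mem_centralizer_singleton_iff.mp (hle hx)
  have hcardR : Nat.card R ≤ p ^ 2 * Nat.card ↥(Subgroup.centralizer
      ((Om p (Subgroup.upperCentralSeries R 2) : Subgroup R) : Set R)) := by
    have h1 := card_le_mul_card_inf_centralizer_singleton (⊤ : Subgroup R)
      (Om p (Subgroup.center R)) e
      (fun b _ => comm_mem_omCenter' hp2 (hEW heE) b)
    have h2 := card_le_mul_card_inf_centralizer_singleton (Subgroup.centralizer ({e} : Set R))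
      (Om p (Subgroup.center R)) w
      (fun b _ => comm_mem_omCenter' hp2 hwW b)
    rw [hZ1] at h1 h2
    rw [top_inf_eq] at h1
    have h3 := Subgroup.card_le_of_le hCC
    have h4 : Nat.card (⊤ : Subgroup R) = Nat.card R := Subgroup.card_top
    rw [h4] at h1
    calc Nat.card R ≤ p * Nat.card ↥(Subgroup.centralizer ({e} : Set R)) := h1
      _ ≤ p * (p * Nat.card ↥(Subgroup.centralizer ({e} : Set R) ⊓
            Subgroup.centralizer ({w} : Set R))) := Nat.mul_le_mul_left _ h2
      _ ≤ p * (p * Nat.card ↥(Subgroup.centralizer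
            ((Om p (Subgroup.upperCentralSeries R 2) : Subgroup R) : Set R))) :=
          Nat.mul_le_mul_left _ (Nat.mul_le_mul_left _ h3)
      _ = _ := by ring
  -- `W ∩ C` has order at most `p`
  have hWC : Nat.card ↥(Om p (Subgroup.upperCentralSeries R 2) ⊓ Subgroup.centralizer
      ((Om p (Subgroup.upperCentralSeries R 2) : Subgroup R) : Set R)) ≤ p := by
    apply card_le_prime_of_lt_sq hR
    have hle : Om p (Subgroup.upperCentralSeries R 2) ⊓ Subgroup.centralizer
        ((Om p (Subgroup.upperCentralSeries R 2) : Subgroup R) : Set R) ≤ E := by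
      rw [← hCe]
      apply inf_le_inf_left
      intro g hg
      rw [Subgroup.mem_centralizer_iff] at hg
      exact Subgroup.mem_centralizer_singleton_iff.mpr (hg e (hEW heE)).symm
    by_contra hcon
    push Not at hcon
    have heq : Om p (Subgroup.upperCentralSeries R 2) ⊓ Subgroup.centralizer
        ((Om p (Subgroup.upperCentralSeries R 2) : Subgroup R) : Set R) = E :=
      Subgroup.eq_of_le_of_card_ge hle (by omega)
    have heC : e ∈ Subgroup.centralizer
        ((Om p (Subgroup.upperCentralSeries R 2) : Subgroup R) : Set R) := by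
      have : e ∈ Om p (Subgroup.upperCentralSeries R 2) ⊓ Subgroup.centralizer
        ((Om p (Subgroup.upperCentralSeries R 2) : Subgroup R) : Set R) := by rw [heq]; exact heE
      exact this.2
    have hWle : Om p (Subgroup.upperCentralSeries R 2) ≤
        Om p (Subgroup.upperCentralSeries R 2) ⊓ Subgroup.centralizer ({e} : Set R) := by
      refine le_inf le_rfl ?_
      intro x hx
      rw [Subgroup.mem_centralizer_iff] at heC
      exact Subgroup.mem_centralizer_singleton_iff.mpr (heC x hx)
    rw [hCe] at hWle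
    have h2 := Subgroup.card_le_of_le hWle
    have : p ^ 2 < p ^ 3 := Nat.pow_lt_pow_right hp1 (by norm_num)
    omega
  -- `R = W C`
  have htop : Om p (Subgroup.upperCentralSeries R 2) ⊔ Subgroup.centralizer
      ((Om p (Subgroup.upperCentralSeries R 2) : Subgroup R) : Set R) = ⊤ := by
    apply Subgroup.eq_top_of_le_card
    have h1 := Cfsg.Agent.Lib.Helper2.card_sup_mul_card_inf
      (Om p (Subgroup.upperCentralSeries R 2)) (Subgroup.centralizer
      ((Om p (Subgroup.upperCentralSeries R 2) : Subgroup R) : Set R))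
      (by rw [Subgroup.normalizer_eq_top]; exact le_top)
    rw [hW3] at h1
    have hpos : 0 < Nat.card ↥(Om p (Subgroup.upperCentralSeries R 2) ⊓ Subgroup.centralizer
      ((Om p (Subgroup.upperCentralSeries R 2) : Subgroup R) : Set R)) := Nat.card_pos
    have h2 : Nat.card ↥(Om p (Subgroup.upperCentralSeries R 2) ⊔ Subgroup.centralizer
        ((Om p (Subgroup.upperCentralSeries R 2) : Subgroup R) : Set R)) * p ≥
        p ^ 3 * Nat.card ↥(Subgroup.centralizer
        ((Om p (Subgroup.upperCentralSeries R 2) : Subgroup R) : Set R)) := by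
      rw [← h1]
      exact Nat.mul_le_mul_left _ hWC
    have h3 : p * (p ^ 2 * Nat.card ↥(Subgroup.centralizer
        ((Om p (Subgroup.upperCentralSeries R 2) : Subgroup R) : Set R))) ≤
        p * Nat.card ↥(Om p (Subgroup.upperCentralSeries R 2) ⊔ Subgroup.centralizer
        ((Om p (Subgroup.upperCentralSeries R 2) : Subgroup R) : Set R)) := by
      calc _ = p ^ 3 * Nat.card ↥(Subgroup.centralizer
            ((Om p (Subgroup.upperCentralSeries R 2) : Subgroup R) : Set R)) := by ring
        _ ≤ _ := h2
        _ = _ := by ring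
    have h4 := Nat.le_of_mul_le_mul_left h3 hp0
    exact le_trans hcardR h4
  -- all elements of order `p` lie in `W`
  have hall : ∀ a : R, a ^ p = 1 → a ∈ Om p (Subgroup.upperCentralSeries R 2) := by
    intro a ha
    have ha' : a ∈ ((Om p (Subgroup.upperCentralSeries R 2) ⊔ Subgroup.centralizer
      ((Om p (Subgroup.upperCentralSeries R 2) : Subgroup R) : Set R) : Subgroup R) : Set R) := by
      rw [htop]; exact Set.mem_univ a
    rw [Subgroup.normal_mul] at ha'
    obtain ⟨x, hx, c, hc, rfl⟩ := Set.mem_mul.mp ha'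
    have hxc : Commute x c := by
      have := Subgroup.mem_centralizer_iff.mp hc x hx
      exact this
    have hxp : x ^ p = 1 := ((mem_omUcs_iff hp2 x).mp hx).2
    rw [hxc.mul_pow, hxp, one_mul] at ha
    have hcE : c ∈ E := by
      apply mem_of_pow_of_comm E hE hEmax c ha
      intro f hf
      exact Subgroup.mem_centralizer_iff.mp hc f (hEW hf)
    exact Subgroup.mul_mem _ hx (hEW hcE)
  -- contradiction with the rank
  have hr' := hr
  unfold Cfsg.PRankLE at hr'
  push Not at hr'
  obtain ⟨A, hA, hexp, hcardA⟩ := hr'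
  have hAW : A ≤ Om p (Subgroup.upperCentralSeries R 2) := fun a ha => hall a (hexp a ha)
  have hAeq : A = Om p (Subgroup.upperCentralSeries R 2) := by
    apply Subgroup.eq_of_le_of_card_ge hAW
    rw [hW3]
    exact pow_succ_le_card_of_lt hR _ 2 hcardA
  have hWE := abelian_exp_le E hE hEmax A hA hexp (by rw [hAeq]; exact hEW)
  rw [hWE, hE2] at hcardA
  omega

end

end Cfsg.Agent.Lib.Helper4.Narrow
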