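import Mathlib
import Cfsg.Agent.Lib.Helper4.Narrow5

set_option autoImplicit false

namespace Cfsg.Agent.Lib.Helper4.Narrow

open Cfsg.Agent.Lib.Lead
open Cfsg.Agent.Lib.Helper3.NormalSq
open scoped commutatorElement

section
variable {R : Type*} [Group R] [Finite R] {p : ℕ} [hp : Fact p.Prime]

variable (hp2 : p ≠ 2) (hR : IsPGroup p R)
  (E : Subgroup R) (hE : Cfsg.IsElementaryAbelian p E) (hE2 : Nat.card E = p ^ 2)
  (hEmax : ∀ B : Subgroup R, Cfsg.IsElementaryAbelian p B → E ≤ B → B = E)

include hp2 hR hE hE2 hEmax in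
theorem card_omUcs (hr : ¬ Cfsg.PRankLE p 2 R) :
    Nat.card (Om p (Subgroup.upperCentralSeries R 2)) = p ^ 2 := by
  have hp1 := hp.out.one_lt
  have hp0 := hp.out.pos
  obtain ⟨e, heE, heZ, hgen⟩ := exists_gen hR E hE hE2 hEmax hr
  have hCe_le := omUcs_inf_centralizer_le hp2 E hE hEmax hgen
  have hcard1 := card_omUcs_le hp2 hR E hE hE2 hEmax hr heE
  have h3 := card_omUcs_ne_cube hp2 hR E hE hE2 hEmax hr
  obtain ⟨U, hUn, hUe, hUc, hUW⟩ := exists_normal_sq_le_omUcs hp2 hR hr
  have hle3 : Nat.card (Om p (Subgroup.upperCentralSeries R 2)) ≤ p ^ 3 := by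
    have h1 := Subgroup.card_le_of_le hCe_le
    rw [hE2] at h1
    calc _ ≤ p * Nat.card ↥(Om p (Subgroup.upperCentralSeries R 2) ⊓
          Subgroup.centralizer ({e} : Set R)) := hcard1
      _ ≤ p * p ^ 2 := Nat.mul_le_mul_left _ h1
      _ = p ^ 3 := by ring
  have hge2 : p ^ 2 ≤ Nat.card (Om p (Subgroup.upperCentralSeries R 2)) := by
    rw [← hUc]; exact Subgroup.card_le_of_le hUW
  by_contra hne
  have hlt : p ^ 2 < Nat.card (Om p (Subgroup.upperCentralSeries R 2)) :=
    lt_of_le_of_ne hge2 (Ne.symm hne)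
  have := pow_succ_le_card_of_lt hR _ 2 hlt
  exact h3 (le_antisymm hle3 this)

include hp2 hR hE hE2 hEmax in
theorem isElementaryAbelian_omUcs (hr : ¬ Cfsg.PRankLE p 2 R) :
    Cfsg.IsElementaryAbelian p (Om p (Subgroup.upperCentralSeries R 2)) := by
  obtain ⟨U, hUn, hUe, hUc, hUW⟩ := exists_normal_sq_le_omUcs hp2 hR hr
  have hW := card_omUcs hp2 hR E hE hE2 hEmax hr
  have hUeq : U = Om p (Subgroup.upperCentralSeries R 2) :=
    Subgroup.eq_of_le_of_card_ge hUW (by rw [hW, hUc])
  rw [← hUeq]
  exact hUe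

include hp2 hR hE hE2 hEmax in
theorem not_le_centralizer_omUcs (hr : ¬ Cfsg.PRankLE p 2 R) :
    ¬ E ≤ Subgroup.centralizer ((Om p (Subgroup.upperCentralSeries R 2) : Subgroup R) : Set R) := by
  intro hEC
  have hp1 := hp.out.one_lt
  have hp0 := hp.out.pos
  have hW := card_omUcs hp2 hR E hE hE2 hEmax hr
  have hWe := isElementaryAbelian_omUcs hp2 hR E hE hE2 hEmax hr
  have hWchar : (Om p (Subgroup.upperCentralSeries R 2)).Characteristic :=
    om_characteristic p _
  have hWn : (Om p (Subgroup.upperCentralSeries R 2)).Normal := inferInstance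
  -- `W ≤ E`
  have hWE : Om p (Subgroup.upperCentralSeries R 2) ≤ E := by
    intro x hx
    apply mem_of_pow_of_comm E hE hEmax x (hWe.2 x hx)
    intro f hf
    exact (Subgroup.mem_centralizer_iff.mp (hEC hf) x hx).symm
  have hWeq : Om p (Subgroup.upperCentralSeries R 2) = E :=
    Subgroup.eq_of_le_of_card_ge hWE (by rw [hW, hE2])
  have hr' := hr
  unfold Cfsg.PRankLE at hr'
  push Not at hr'
  obtain ⟨A, hA, hexp, hcardA⟩ := hr'
  have h1 := card_le_mul_card_inf_centralizer hR (Om p (Subgroup.upperCentralSeries R 2)) hWe hW A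
  have hle : A ⊓ Subgroup.centralizer
      ((Om p (Subgroup.upperCentralSeries R 2) : Subgroup R) : Set R) ≤ E := by
    intro x hx
    apply mem_of_pow_of_comm E hE hEmax x (hexp x hx.1)
    intro f hf
    rw [← hWeq] at hf
    exact Subgroup.mem_centralizer_iff.mp hx.2 f hf
  have h2 : p ^ 1 < Nat.card ↥(A ⊓ Subgroup.centralizer
      ((Om p (Subgroup.upperCentralSeries R 2) : Subgroup R) : Set R)) := by
    rw [pow_one]
    by_contra hcon
    push Not at hcon
    have : p * Nat.card ↥(A ⊓ Subgroup.centralizer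
      ((Om p (Subgroup.upperCentralSeries R 2) : Subgroup R) : Set R)) ≤ p * p :=
      Nat.mul_le_mul_left _ hcon
    have h3 : p * p = p ^ 2 := by ring
    omega
  have h3 := pow_succ_le_card_of_lt hR _ 1 h2
  have heq : A ⊓ Subgroup.centralizer
      ((Om p (Subgroup.upperCentralSeries R 2) : Subgroup R) : Set R) = E :=
    Subgroup.eq_of_le_of_card_ge hle (by rw [hE2]; exact h3)
  have hEA : E ≤ A := by rw [← heq]; exact inf_le_left
  have := abelian_exp_le E hE hEmax A hA hexp hEA
  rw [this, hE2] at hcardA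
  omega

include hp2 hR hE hE2 hEmax in
theorem index_centralizer_omUcs (hr : ¬ Cfsg.PRankLE p 2 R) :
    (Subgroup.centralizer
      ((Om p (Subgroup.upperCentralSeries R 2) : Subgroup R) : Set R)).index = p := by
  have hp1 := hp.out.one_lt
  have hp0 := hp.out.pos
  have hW := card_omUcs hp2 hR E hE hE2 hEmax hr
  have hWe := isElementaryAbelian_omUcs hp2 hR E hE hE2 hEmax hr
  have hnot := not_le_centralizer_omUcs hp2 hR E hE hE2 hEmax hr
  have hWchar : (Om p (Subgroup.upperCentralSeries R 2)).Characteristic :=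
    om_characteristic p _
  have hWn : (Om p (Subgroup.upperCentralSeries R 2)).Normal := inferInstance
  have h1 := card_le_mul_card_inf_centralizer hR (Om p (Subgroup.upperCentralSeries R 2)) hWe hW ⊤
  rw [top_inf_eq, Subgroup.card_top] at h1
  have h2 := Subgroup.index_mul_card (Subgroup.centralizer
      ((Om p (Subgroup.upperCentralSeries R 2) : Subgroup R) : Set R))
  have hpos : 0 < Nat.card ↥(Subgroup.centralizer
      ((Om p (Subgroup.upperCentralSeries R 2) : Subgroup R) : Set R)) := Nat.card_pos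
  have hle : (Subgroup.centralizer
      ((Om p (Subgroup.upperCentralSeries R 2) : Subgroup R) : Set R)).index ≤ p := by
    rw [← h2] at h1
    exact Nat.le_of_mul_le_mul_right h1 hpos
  have hne1 : (Subgroup.centralizer
      ((Om p (Subgroup.upperCentralSeries R 2) : Subgroup R) : Set R)).index ≠ 1 := by
    intro h
    rw [Subgroup.index_eq_one] at h
    apply hnot
    rw [h]
    exact le_top
  obtain ⟨k, hk⟩ := IsPGroup.iff_card.mp hR
  have hdvd : (Subgroup.centralizer
      ((Om p (Subgroup.upperCentralSeries R 2) : Subgroup R) : Set R)).index ∣ p ^ k := by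
    rw [← hk]; exact Subgroup.index_dvd_card _
  obtain ⟨j, -, hj⟩ := (Nat.dvd_prime_pow hp.out).mp hdvd
  rw [hj] at hle hne1 ⊢
  have hj0 : j ≠ 0 := by
    rintro rfl
    exact hne1 (pow_zero p)
  have hj1 : j ≤ 1 := by
    by_contra hcon
    push Not at hcon
    have : p ^ 2 ≤ p ^ j := Nat.pow_le_pow_right hp0 hcon
    have : p < p ^ 2 := by rw [sq]; nlinarith
    omega
  have : j = 1 := by omega
  rw [this, pow_one]

include hp2 hR hE hE2 hEmax in
/-- **structure of a `p`-group of rank at least three with a maximal elementary abelian subgroup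
of order `p ^ 2`** -/
theorem narrow_structure (hr : ¬ Cfsg.PRankLE p 2 R) :
    ¬ E ≤ Subgroup.centralizer ((Om p (Subgroup.upperCentralSeries R 2) : Subgroup R) : Set R) ∧
      Nat.card ↥(Om p (Subgroup.center R)) = p ∧
      (Cfsg.IsElementaryAbelian p (Om p (Subgroup.upperCentralSeries R 2)) ∧
        Nat.card ↥(Om p (Subgroup.upperCentralSeries R 2)) = p ^ 2) ∧
      (Subgroup.centralizer
        ((Om p (Subgroup.upperCentralSeries R 2) : Subgroup R) : Set R)).Characteristic ∧
      (Subgroup.centralizer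
        ((Om p (Subgroup.upperCentralSeries R 2) : Subgroup R) : Set R)).index = p := by
  have hWchar : (Om p (Subgroup.upperCentralSeries R 2)).Characteristic :=
    om_characteristic p _
  exact ⟨not_le_centralizer_omUcs hp2 hR E hE hE2 hEmax hr,
    card_omCenter hR E hE hE2 hEmax hr,
    ⟨isElementaryAbelian_omUcs hp2 hR E hE hE2 hEmax hr, card_omUcs hp2 hR E hE hE2 hEmax hr⟩,
    Subgroup.characteristic_centralizer,
    index_centralizer_omUcs hp2 hR E hE hE2 hEmax hr⟩

end

end Cfsg.Agent.Lib.Helper4.Narrow
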