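import Mathlib
import Cfsg.Agent.Lib.Helper4.Narrow6
import Cfsg.Agent.Lib.Helper4.ZP19
import Cfsg.Agent.Lib.Lead.CoprimeTools
import Cfsg.Prelude.Def_OddOrderLocal

set_option autoImplicit false

/-! From the data of a narrow `p`-group of rank at least three to a maximal elementary abelian subgroup of
order `p ^ 2`. -/

namespace Cfsg.Agent.Lib.Helper4.NR

open scoped commutatorElement
open Cfsg.Agent.Lib.Lead
open Cfsg.Agent.Lib.Helper4.Narrow

section s4

variable {R : Type*} [Group R] [Finite R] {p : ℕ} [hp : Fact p.Prime]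
variable (R₀ R₁ : Subgroup R) (h0 : Nat.card R₀ = p) (h1 : IsCyclic R₁) (hd : R₀ ⊓ R₁ = ⊥)
  (hc : ∀ a ∈ R₀, ∀ b ∈ R₁, a * b = b * a)
  (hs : R₀ ⊔ R₁ = Subgroup.centralizer (R₀ : Set R))

include h0 in
theorem R₀_comm : ∀ a ∈ R₀, ∀ b ∈ R₀, a * b = b * a := by
  haveI : Fact (Nat.card ↥R₀).Prime := ⟨by rw [h0]; exact hp.out⟩
  haveI : IsCyclic ↥R₀ := isCyclic_of_prime_card rfl
  intro a ha b hb
  letI := IsCyclic.commGroup (α := ↥R₀)
  have := mul_comm (⟨a, ha⟩ : ↥R₀) ⟨b, hb⟩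
  exact congrArg Subtype.val this

include h1 in
theorem R₁_comm : ∀ a ∈ R₁, ∀ b ∈ R₁, a * b = b * a := by
  intro a ha b hb
  letI := IsCyclic.commGroup (α := ↥R₁)
  have := mul_comm (⟨a, ha⟩ : ↥R₁) ⟨b, hb⟩
  exact congrArg Subtype.val this

include h0 h1 hc hs in
theorem cent_comm : ∀ x ∈ Subgroup.centralizer (R₀ : Set R),
    ∀ y ∈ Subgroup.centralizer (R₀ : Set R), x * y = y * x := by
  have key : R₀ ⊔ R₁ ≤ Subgroup.centralizer ((R₀ ⊔ R₁ : Subgroup R) : Set R) := by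
    apply sup_le
    · rw [Subgroup.le_centralizer_iff]
      apply sup_le
      · intro a ha
        rw [Subgroup.mem_centralizer_iff]
        intro b hb
        exact R₀_comm R₀ h0 b hb a ha
      · intro b hb
        rw [Subgroup.mem_centralizer_iff]
        intro a ha
        exact hc a ha b hb
    · rw [Subgroup.le_centralizer_iff]
      apply sup_le
      · intro a ha
        rw [Subgroup.mem_centralizer_iff]
        intro b hb
        exact (hc a ha b hb).symm
      · intro a ha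
        rw [Subgroup.mem_centralizer_iff]
        intro b hb
        exact R₁_comm R₁ h1 b hb a ha
  intro x hx y hy
  rw [← hs] at hx hy
  exact ((Subgroup.mem_centralizer_iff.mp (key hx)) y hy).symm

/-- the elements of order dividing `p` of the centraliser of `R₀` -/
def Esub (p : ℕ) (h : ∀ x ∈ Subgroup.centralizer (R₀ : Set R),
    ∀ y ∈ Subgroup.centralizer (R₀ : Set R), x * y = y * x) : Subgroup R where
  carrier := {x | x ∈ Subgroup.centralizer (R₀ : Set R) ∧ x ^ p = 1}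
  one_mem' := ⟨Subgroup.one_mem _, one_pow _⟩
  mul_mem' := by
    rintro a b ⟨ha, ha'⟩ ⟨hb, hb'⟩
    refine ⟨Subgroup.mul_mem _ ha hb, ?_⟩
    have : Commute a b := h a ha b hb
    rw [this.mul_pow, ha', hb', mul_one]
  inv_mem' := by
    rintro a ⟨ha, ha'⟩
    exact ⟨Subgroup.inv_mem _ ha, by rw [inv_pow, ha', inv_one]⟩

theorem mem_Esub {h : ∀ x ∈ Subgroup.centralizer (R₀ : Set R),
    ∀ y ∈ Subgroup.centralizer (R₀ : Set R), x * y = y * x} {x : R} :
    x ∈ Esub R₀ p h ↔ x ∈ Subgroup.centralizer (R₀ : Set R) ∧ x ^ p = 1 := Iff.rfl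

include h0 in
theorem R₀_pow : ∀ a ∈ R₀, a ^ p = 1 := by
  intro a ha
  have := pow_card_eq_one' (G := ↥R₀) (x := ⟨a, ha⟩)
  rw [h0] at this
  exact congrArg Subtype.val this

include h0 in
theorem R₀_le_Esub (h : ∀ x ∈ Subgroup.centralizer (R₀ : Set R),
    ∀ y ∈ Subgroup.centralizer (R₀ : Set R), x * y = y * x) : R₀ ≤ Esub R₀ p h := by
  intro a ha
  refine ⟨?_, R₀_pow R₀ h0 a ha⟩
  rw [Subgroup.mem_centralizer_iff]
  intro b hb
  exact R₀_comm R₀ h0 b hb a ha

theorem isElementaryAbelian_Esub (h : ∀ x ∈ Subgroup.centralizer (R₀ : Set R),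
    ∀ y ∈ Subgroup.centralizer (R₀ : Set R), x * y = y * x) :
    Cfsg.IsElementaryAbelian p (Esub R₀ p h) := by
  refine ⟨⟨⟨fun a b => ?_⟩⟩, fun a ha => ha.2⟩
  apply Subtype.ext
  exact h a a.2.1 b b.2.1

include h0 in
theorem Esub_max (h : ∀ x ∈ Subgroup.centralizer (R₀ : Set R),
    ∀ y ∈ Subgroup.centralizer (R₀ : Set R), x * y = y * x) :
    ∀ B : Subgroup R, Cfsg.IsElementaryAbelian p B → Esub R₀ p h ≤ B → B = Esub R₀ p h := by
  intro B hB hEB
  apply le_antisymm _ hEB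
  intro b hb
  refine ⟨?_, hB.2 b hb⟩
  rw [Subgroup.mem_centralizer_iff]
  intro a ha
  have haB : a ∈ B := hEB (R₀_le_Esub R₀ h0 h ha)
  have := hB.1.is_comm.comm (⟨a, haB⟩ : ↥B) ⟨b, hb⟩
  exact congrArg Subtype.val this

include h0 h1 hd hc hs in
theorem card_Esub_le (h : ∀ x ∈ Subgroup.centralizer (R₀ : Set R),
    ∀ y ∈ Subgroup.centralizer (R₀ : Set R), x * y = y * x) :
    Nat.card (Esub R₀ p h) ≤ p ^ 2 := by
  have hp0 := hp.out.pos
  -- `E ⊓ R₁` has order at most `p`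
  have hER : Nat.card ↥(Esub R₀ p h ⊓ R₁) ≤ p := by
    haveI : IsCyclic ↥(Esub R₀ p h ⊓ R₁) :=
      isCyclic_of_injective (Subgroup.inclusion (inf_le_right : Esub R₀ p h ⊓ R₁ ≤ R₁))
        (Subgroup.inclusion_injective _)
    classical
    haveI : Fintype ↥(Esub R₀ p h ⊓ R₁) := Fintype.ofFinite _
    have hcy := IsCyclic.card_pow_eq_one_le (α := ↥(Esub R₀ p h ⊓ R₁)) hp0
    have hall : (Finset.univ.filter (fun a : ↥(Esub R₀ p h ⊓ R₁) => a ^ p = 1)) = Finset.univ := by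
      apply Finset.filter_true_of_mem
      intro a _
      apply Subtype.ext
      have := (Subgroup.mem_inf.mp a.2).1.2
      simpa using this
    rw [hall, Finset.card_univ, ← Nat.card_eq_fintype_card] at hcy
    exact hcy
  -- inside the abelian group `C(R₀)`
  have hEn : Esub R₀ p h ≤ Subgroup.normalizer (R₁ : Set R) := by
    intro e he
    rw [Subgroup.mem_normalizer_iff]
    intro x
    have hR₁c : R₁ ≤ Subgroup.centralizer (R₀ : Set R) := by rw [← hs]; exact le_sup_right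
    constructor
    · intro hx
      have : e * x * e⁻¹ = x := by
        rw [h e he.1 x (hR₁c hx)]; group
      rwa [this]
    · intro hx
      have hx' : x = e⁻¹ * (e * x * e⁻¹) * e := by group
      have h2 : e⁻¹ * (e * x * e⁻¹) * e = e * x * e⁻¹ := by
        rw [mul_assoc, h (e * x * e⁻¹) (hR₁c hx) e he.1]; group
      rw [hx', h2]; exact hx
  have h2 := card_sup_mul_card_inf (Esub R₀ p h) R₁ hEn
  have h3 : Esub R₀ p h ⊔ R₁ ≤ R₀ ⊔ R₁ := by
    apply sup_le _ le_sup_right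
    rw [hs]
    exact fun e he => he.1
  have hR₀n : R₀ ≤ Subgroup.normalizer (R₁ : Set R) :=
    (R₀_le_Esub R₀ h0 h).trans hEn
  have h4 := card_sup_of_disjoint R₀ R₁ hR₀n hd
  have h5 := Subgroup.card_le_of_le h3
  rw [h4, h0] at h5
  have hR₁pos : 0 < Nat.card R₁ := Nat.card_pos
  have h6 : Nat.card (Esub R₀ p h) * Nat.card R₁ ≤ p * p * Nat.card R₁ := by
    calc Nat.card (Esub R₀ p h) * Nat.card R₁
        = Nat.card ↥(Esub R₀ p h ⊔ R₁) * Nat.card ↥(Esub R₀ p h ⊓ R₁) := h2.symm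
      _ ≤ (p * Nat.card R₁) * p := Nat.mul_le_mul h5 hER
      _ = p * p * Nat.card R₁ := by ring
  have := Nat.le_of_mul_le_mul_right h6 hR₁pos
  rwa [← sq] at this

end s4

end Cfsg.Agent.Lib.Helper4.NR
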