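import Mathlib
import Cfsg.Agent.Lib.Helper4.NR3

set_option autoImplicit false

/-! Narrow `p`-groups of rank at least three: the element with few fixed points on `C_R(Ω₁(Z₂(R)))`. -/

namespace Cfsg.Agent.Lib.Helper4.NR

open scoped commutatorElement
open Cfsg.Agent.Lib.Lead
open Cfsg.Agent.Lib.Helper4.Narrow

section s5

variable {R : Type*} [Group R] [Finite R] {p : ℕ} [hp : Fact p.Prime]
variable (R₀ R₁ : Subgroup R) (h0 : Nat.card R₀ = p) (h1 : IsCyclic R₁) (hd : R₀ ⊓ R₁ = ⊥)
  (hc : ∀ a ∈ R₀, ∀ b ∈ R₁, a * b = b * a)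
  (hs : R₀ ⊔ R₁ = Subgroup.centralizer (R₀ : Set R))

include h0 h1 hd hc hs in
theorem cent_ne_top (hr : ¬ Cfsg.PRankLE p 2 R) : Subgroup.centralizer (R₀ : Set R) ≠ ⊤ := by
  intro htop
  apply hr
  intro A hA hAp
  have h := cent_comm R₀ R₁ h0 h1 hc hs
  have hle : A ≤ Esub R₀ p h := by
    intro a ha
    refine ⟨?_, hAp a ha⟩
    rw [htop]; exact Subgroup.mem_top _
  exact (Subgroup.card_le_of_le hle).trans (card_Esub_le R₀ R₁ h0 h1 hd hc hs h)

include h0 h1 hd hc hs in
theorem R₀_not_le_center (hr : ¬ Cfsg.PRankLE p 2 R) : ¬ R₀ ≤ Subgroup.center R := by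
  intro hle
  apply cent_ne_top R₀ R₁ h0 h1 hd hc hs hr
  rw [eq_top_iff]
  intro x _
  rw [Subgroup.mem_centralizer_iff]
  intro a ha
  exact (Subgroup.mem_center_iff.mp (hle ha) x).symm

include h0 h1 hd hc hs in
theorem card_Esub (hR : IsPGroup p R) (hr : ¬ Cfsg.PRankLE p 2 R)
    (h : ∀ x ∈ Subgroup.centralizer (R₀ : Set R),
      ∀ y ∈ Subgroup.centralizer (R₀ : Set R), x * y = y * x) :
    Nat.card (Esub R₀ p h) = p ^ 2 := by
  have hp1 := hp.out.one_lt
  have hle := card_Esub_le R₀ R₁ h0 h1 hd hc hs h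
  haveI : Nontrivial R := by
    by_contra hcon
    rw [not_nontrivial_iff_subsingleton] at hcon
    have : Nat.card R₀ = 1 := Nat.card_unique
    omega
  haveI : Nontrivial ↥(Subgroup.center R) := hR.center_nontrivial
  have hpc : p ∣ Nat.card ↥(Subgroup.center R) := by
    obtain ⟨k, hk⟩ := IsPGroup.iff_card.mp (hR.to_subgroup (Subgroup.center R))
    have hk0 : k ≠ 0 := by
      rintro rfl
      rw [pow_zero] at hk
      have := Finite.one_lt_card (α := ↥(Subgroup.center R))
      omega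
    rw [hk]
    exact dvd_pow_self p hk0
  obtain ⟨z, hz⟩ := exists_prime_orderOf_dvd_card' p hpc
  have hzp : (z : R) ^ p = 1 := by
    have := pow_orderOf_eq_one z
    rw [hz] at this
    exact congrArg Subtype.val this
  have hz1 : (z : R) ≠ 1 := by
    intro h1'
    have : z = 1 := Subtype.ext h1'
    rw [this, orderOf_one] at hz
    omega
  have hzE : (z : R) ∈ Esub R₀ p h := by
    refine ⟨?_, hzp⟩
    rw [Subgroup.mem_centralizer_iff]
    intro a _
    exact (Subgroup.mem_center_iff.mp z.2 a)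
  have hzR₀ : (z : R) ∉ R₀ := by
    intro hzR
    have := Cfsg.Agent.Lib.Helper4.ZP.zpowers_eq_of_prime_card R₀ (by rw [h0]; exact hp.out)
      (z : R) hzR hz1
    apply R₀_not_le_center R₀ R₁ h0 h1 hd hc hs hr
    rw [← this, Subgroup.zpowers_le]
    exact z.2
  have hlt : p < Nat.card (Esub R₀ p h) := by
    by_contra hcon
    push Not at hcon
    have := Subgroup.eq_of_le_of_card_ge (R₀_le_Esub R₀ h0 h) (by rw [h0]; exact hcon)
    apply hzR₀
    rw [this]; exact hzE
  obtain ⟨k, hk⟩ := IsPGroup.iff_card.mp (hR.to_subgroup (Esub R₀ p h))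
  rw [hk] at hlt hle ⊢
  have h2 : k ≤ 2 := (Nat.pow_le_pow_iff_right hp1).mp hle
  have h3 : 1 < k := by
    have : p ^ 1 < p ^ k := by rwa [pow_one]
    exact (Nat.pow_lt_pow_iff_right hp1).mp this
  have : k = 2 := by omega
  rw [this]

include h0 h1 hd hc hs in
/-- the key element of a narrow `p`-group of rank at least three -/
theorem exists_key (hp2 : p ≠ 2) (hR : IsPGroup p R) (hr : ¬ Cfsg.PRankLE p 2 R) :
    ∃ s : R, s ∉ Subgroup.centralizer ((Om p (Subgroup.upperCentralSeries R 2) : Subgroup R) : Set R) ∧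
      Om p (Subgroup.upperCentralSeries R 2) ≤
        Subgroup.centralizer ((Om p (Subgroup.upperCentralSeries R 2) : Subgroup R) : Set R) ∧
      ∀ D' : Subgroup R, D' ≤ Subgroup.centralizer
          ((Om p (Subgroup.upperCentralSeries R 2) : Subgroup R) : Set R) →
        (∀ d ∈ D', d ^ p = 1) → Nat.card ↥(D' ⊓ Subgroup.centralizer ({s} : Set R)) ≤ p := by
  have hp1 := hp.out.one_lt
  have h := cent_comm R₀ R₁ h0 h1 hc hs
  have hE := isElementaryAbelian_Esub (p := p) R₀ h
  have hE2 := card_Esub R₀ R₁ h0 h1 hd hc hs hR hr h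
  have hEmax := Esub_max R₀ h0 h
  obtain ⟨hnot, hZ, ⟨hTe, hT2⟩, hCchar, hCidx⟩ :=
    narrow_structure hp2 hR (Esub R₀ p h) hE hE2 hEmax hr
  set T' := Om p (Subgroup.upperCentralSeries R 2) with hT'
  set C' := Subgroup.centralizer (T' : Set R) with hC'
  -- `R₀ ≰ C'`
  have hR₀C : ¬ R₀ ≤ C' := by
    intro hle
    apply hnot
    have hZE : Om p (Subgroup.center R) ≤ Esub R₀ p h := omCenter_le (Esub R₀ p h) hE hEmax
    have hZc : Om p (Subgroup.center R) ≤ Subgroup.center R := by
      rw [Om, Subgroup.closure_le]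
      intro x hx
      exact hx.1
    have hZC : Om p (Subgroup.center R) ≤ C' := by
      intro x hx
      rw [hC', Subgroup.mem_centralizer_iff]
      intro t _
      exact (Subgroup.mem_center_iff.mp (hZc hx) t)
    have hdisj : R₀ ⊓ Om p (Subgroup.center R) = ⊥ := by
      by_contra hne
      have hge := prime_le_card_of_ne_bot hR _ hne
      have h2 : R₀ ⊓ Om p (Subgroup.center R) = R₀ :=
        Subgroup.eq_of_le_of_card_ge inf_le_left (by rw [h0]; exact hge)
      apply R₀_not_le_center R₀ R₁ h0 h1 hd hc hs hr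
      rw [← h2]
      exact inf_le_right.trans hZc
    have hn : R₀ ≤ Subgroup.normalizer ((Om p (Subgroup.center R) : Subgroup R) : Set R) := by
      intro a _
      rw [Subgroup.mem_normalizer_iff]
      intro x
      constructor
      · intro hx
        have : a * x * a⁻¹ = x := by
          rw [Subgroup.mem_center_iff.mp (hZc hx) a, mul_inv_cancel_right]
        rwa [this]
      · intro hx
        have e := (Subgroup.mem_center_iff.mp (hZc hx)) a⁻¹
        have hx' : x = a * x * a⁻¹ := by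
          calc x = a⁻¹ * (a * x * a⁻¹) * a := by group
            _ = (a * x * a⁻¹) * a⁻¹ * a := by rw [e]
            _ = a * x * a⁻¹ := by group
        rw [hx']; exact hx
    have hcard := card_sup_of_disjoint R₀ (Om p (Subgroup.center R)) hn hdisj
    rw [h0, hZ] at hcard
    have heq : R₀ ⊔ Om p (Subgroup.center R) = Esub R₀ p h :=
      Subgroup.eq_of_le_of_card_ge (sup_le (R₀_le_Esub R₀ h0 h) hZE) (by rw [hcard, hE2, sq])
    rw [← heq]
    exact sup_le hle hZC
  obtain ⟨s, hsR₀, hsC⟩ := SetLike.not_le_iff_exists.mp hR₀C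
  have hs1 : s ≠ 1 := by
    rintro rfl
    exact hsC (Subgroup.one_mem _)
  have hzp := Cfsg.Agent.Lib.Helper4.ZP.zpowers_eq_of_prime_card R₀ (by rw [h0]; exact hp.out)
    s hsR₀ hs1
  refine ⟨s, hsC, ?_, ?_⟩
  · intro x hx
    rw [Subgroup.mem_centralizer_iff]
    intro y hy
    have := hTe.1.is_comm.comm (⟨y, hy⟩ : ↥T') ⟨x, hx⟩
    exact congrArg Subtype.val this
  · intro D' hD'C hD'p
    have hle : D' ⊓ Subgroup.centralizer ({s} : Set R) ≤ Esub R₀ p h ⊓ C' := by
      intro x hx
      obtain ⟨hxD, hxs⟩ := Subgroup.mem_inf.mp hx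
      refine Subgroup.mem_inf.mpr ⟨⟨?_, hD'p x hxD⟩, hD'C hxD⟩
      rw [Subgroup.mem_centralizer_iff]
      intro a ha
      rw [← hzp] at ha
      obtain ⟨i, rfl⟩ := Subgroup.mem_zpowers_iff.mp ha
      have hcs : Commute s x := (Subgroup.mem_centralizer_singleton_iff.mp hxs).symm
      exact (hcs.zpow_left i).eq
    have hlt : Nat.card ↥(Esub R₀ p h ⊓ C') < p ^ 2 := by
      by_contra hcon
      push Not at hcon
      have := Subgroup.eq_of_le_of_card_ge (inf_le_left : Esub R₀ p h ⊓ C' ≤ Esub R₀ p h)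
        (by rw [hE2]; exact hcon)
      apply hnot
      rw [← this]
      exact inf_le_right
    exact (Subgroup.card_le_of_le hle).trans (card_le_prime_of_lt_sq hR _ hlt)

end s5

end Cfsg.Agent.Lib.Helper4.NR
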