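import Mathlib
import Cfsg.Agent.Lib.Helper4.NR2
import Cfsg.Agent.Lib.Helper4.NR4
import Cfsg.Agent.Lib.Helper4.Rk2f

set_option autoImplicit false

/-! Narrow `p`-groups of rank at least three: automorphism groups. -/

namespace Cfsg.Agent.Lib.Helper4.NR

open scoped commutatorElement
open Cfsg.Agent.Lib.Lead
open Cfsg.Agent.Lib.Helper4.Narrow

universe u

section s6

variable {G : Type u} [Group G] [Finite G]

/-- a group of coprime order centralising `C = C_R(T) ≥ T` centralises `R` -/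
theorem centralizes_of_centralizes_cent {R T C X : Subgroup G} (hTC : T ≤ C)
    (hC : ∀ x, x ∈ C ↔ x ∈ R ∧ ∀ t ∈ T, t * x = x * t)
    (hRC : R ≤ Subgroup.normalizer (C : Set G))
    (hXR : X ≤ Subgroup.normalizer (R : Set G))
    (hcop : (Nat.card X).Coprime (Nat.card R)) (hsolv : Group.IsSolvable ↥R)
    (hXC : X ≤ Subgroup.centralizer (C : Set G)) : X ≤ Subgroup.centralizer (R : Set G) := by
  have hXC0 : ⁅X, C⁆ = ⊥ := Subgroup.commutator_eq_bot_iff_le_centralizer.mpr hXC
  have hCX0 : ⁅C, X⁆ = ⊥ := by rw [Subgroup.commutator_comm]; exact hXC0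
  have h1 : ⁅⁅X, C⁆, R⁆ = ⊥ := by rw [hXC0, Subgroup.commutator_bot_left]
  have h2 : ⁅⁅C, R⁆, X⁆ = ⊥ := by
    rw [eq_bot_iff]
    calc ⁅⁅C, R⁆, X⁆ ≤ ⁅C, X⁆ :=
          Subgroup.commutator_mono (commutator_le_left_of_le_normalizer C R hRC) le_rfl
      _ = ⊥ := hCX0
  have h3 : ⁅⁅R, X⁆, C⁆ = ⊥ := Subgroup.commutator_commutator_eq_bot_of_rotate h1 h2
  have h4 : ⁅R, X⁆ ≤ C := by
    intro y hy
    rw [hC]
    refine ⟨commutator_le_left_of_le_normalizer R X hXR hy, fun t ht => ?_⟩
    have := Subgroup.commutator_eq_bot_iff_le_centralizer.mp h3 hy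
    exact (Subgroup.mem_centralizer_iff.mp this) t (hTC ht)
  have h5 : ⁅⁅R, X⁆, X⁆ = ⊥ := by
    rw [eq_bot_iff]
    calc ⁅⁅R, X⁆, X⁆ ≤ ⁅C, X⁆ := Subgroup.commutator_mono h4 le_rfl
      _ = ⊥ := hCX0
  have h6 := coprime_commutator_stable X R hXR hcop (Or.inr hsolv)
  rw [h5] at h6
  rw [← Subgroup.commutator_eq_bot_iff_le_centralizer, Subgroup.commutator_comm]
  exact h6.symm

variable {p : ℕ} [hp : Fact p.Prime]

/-- **narrow `p`-groups of rank at least three**: faithful groups of automorphisms have derived group a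
`p`-group, and `p'`-elements of order dividing `p - 1` -/
theorem rank3_main (hp2 : p ≠ 2) (R A : Subgroup G) (hR : IsPGroup p R)
    (hr : ¬ Cfsg.PRankLE p 2 R)
    (hnar : ∃ R₀ R₁ : Subgroup ↥R, Nat.card R₀ = p ∧ IsCyclic R₁ ∧ R₀ ⊓ R₁ = ⊥ ∧
      (∀ a ∈ R₀, ∀ b ∈ R₁, a * b = b * a) ∧ R₀ ⊔ R₁ = Subgroup.centralizer (R₀ : Set ↥R))
    (hA : A ≤ Subgroup.normalizer (R : Set G))
    (hfaith : A ⊓ Subgroup.centralizer (R : Set G) = ⊥) :
    IsPGroup p ↥⁅A, A⁆ ∧ ∀ a ∈ A, (orderOf a).Coprime p → orderOf a ∣ p - 1 := by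
  classical
  obtain ⟨R₀, R₁, h0, h1, hd, hc, hs⟩ := hnar
  obtain ⟨s', hsC', hTC', hbound⟩ := exists_key R₀ R₁ h0 h1 hd hc hs hp2 hR hr
  set T' : Subgroup ↥R := Om p (Subgroup.upperCentralSeries ↥R 2) with hT'
  haveI hT'char : T'.Characteristic := om_characteristic p _
  set C' : Subgroup ↥R := Subgroup.centralizer (T' : Set ↥R) with hC'
  haveI hC'char : C'.Characteristic := Subgroup.characteristic_centralizer
  set C : Subgroup G := C'.map R.subtype with hCdef
  set T : Subgroup G := T'.map R.subtype with hTdef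
  have hCR : C ≤ R := Subgroup.map_subtype_le _
  have hNC : Subgroup.normalizer (R : Set G) ≤ Subgroup.normalizer (C : Set G) :=
    le_normalizer_map_characteristic R C'
  have hCp : IsPGroup p C := hR.to_le hCR
  obtain ⟨D, hDC, hND, hDp, hDf⟩ := Cfsg.Agent.Lib.Helper4.Rk2.exists_omega_critical hp2 C hCp
  have hDR : D ≤ R := hDC.trans hCR
  have hRD : R ≤ Subgroup.normalizer (D : Set G) :=
    (Subgroup.le_normalizer.trans hNC).trans hND
  have hAD : A ≤ Subgroup.normalizer (D : Set G) := (hA.trans hNC).trans hND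
  have hDpg : IsPGroup p D := hR.to_le hDR
  set s : G := (s' : G) with hsdef
  have hsR : s ∈ R := s'.2
  have hinj : Function.Injective R.subtype := Subgroup.subtype_injective R
  -- the fixed points of `s` on `D`
  have hcs : Nat.card ↥(D ⊓ Subgroup.centralizer ({s} : Set G)) ≤ p := by
    have hD'C : D.subgroupOf R ≤ C' := by
      intro x hx
      rw [Subgroup.mem_subgroupOf] at hx
      have := hDC hx
      rw [hCdef] at this
      exact (Subgroup.mem_map_iff_mem hinj).mp this
    have hD'p : ∀ d ∈ D.subgroupOf R, d ^ p = 1 := by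
      intro d hd
      rw [Subgroup.mem_subgroupOf] at hd
      apply Subtype.ext
      simpa using hDp _ hd
    have hb := hbound (D.subgroupOf R) hD'C hD'p
    have hle : D ⊓ Subgroup.centralizer ({s} : Set G) ≤
        (D.subgroupOf R ⊓ Subgroup.centralizer ({s'} : Set ↥R)).map R.subtype := by
      intro x hx
      obtain ⟨hxD, hxs⟩ := Subgroup.mem_inf.mp hx
      refine ⟨⟨x, hDR hxD⟩, Subgroup.mem_inf.mpr ⟨?_, ?_⟩, rfl⟩
      · rw [Subgroup.mem_subgroupOf]; exact hxD
      · rw [Subgroup.mem_centralizer_singleton_iff] at hxs ⊢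
        apply Subtype.ext
        simpa using hxs
    calc Nat.card ↥(D ⊓ Subgroup.centralizer ({s} : Set G))
        ≤ Nat.card ↥((D.subgroupOf R ⊓ Subgroup.centralizer ({s'} : Set ↥R)).map R.subtype) :=
          Subgroup.card_le_of_le hle
      _ = Nat.card ↥(D.subgroupOf R ⊓ Subgroup.centralizer ({s'} : Set ↥R)) :=
          Subgroup.card_map_of_injective hinj
      _ ≤ p := hb
  -- `p'`-elements of the kernel are trivial
  have hTC : T ≤ C := Subgroup.map_mono hTC'
  have hCmem : ∀ x, x ∈ C ↔ x ∈ R ∧ ∀ t ∈ T, t * x = x * t := by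
    intro x
    constructor
    · rintro ⟨x', hx', rfl⟩
      refine ⟨x'.2, ?_⟩
      rintro t ⟨t', ht', rfl⟩
      have := (Subgroup.mem_centralizer_iff.mp hx') t' ht'
      have h2 := congrArg Subtype.val this
      simpa using h2
    · rintro ⟨hxR, hx⟩
      refine ⟨⟨x, hxR⟩, ?_, rfl⟩
      rw [SetLike.mem_coe, hC', Subgroup.mem_centralizer_iff]
      intro t' ht'
      apply Subtype.ext
      have := hx (t' : G) ⟨t', ht', rfl⟩
      simpa using this
  have htriv : ∀ g ∈ KD A R D, (orderOf g).Coprime p → g = 1 := by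
    intro g hg hcop
    have hgA : g ∈ A := KD_le A hg
    have h1' := centralizes_of_mem_KD hR hDR hg hcop
    have hXA : Subgroup.zpowers g ≤ A := Subgroup.zpowers_le.mpr hgA
    have hXcard : (Nat.card (Subgroup.zpowers g)).Coprime p := by
      rw [Nat.card_zpowers]; exact hcop
    have h2 := hDf (Subgroup.zpowers g) (hXA.trans (hA.trans hNC)) hXcard h1'
    have hcopR : (Nat.card (Subgroup.zpowers g)).Coprime (Nat.card R) := by
      obtain ⟨k, hk⟩ := IsPGroup.iff_card.mp hR
      rw [hk]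
      exact Nat.Coprime.pow_right _ hXcard
    have hsolv : Group.IsSolvable ↥R := by
      haveI : Group.IsNilpotent ↥R := hR.isNilpotent
      infer_instance
    have h3 := centralizes_of_centralizes_cent hTC hCmem (Subgroup.le_normalizer.trans hNC)
      (hXA.trans hA) hcopR hsolv h2
    have h4 : g ∈ A ⊓ Subgroup.centralizer (R : Set G) :=
      Subgroup.mem_inf.mpr ⟨hgA, h3 (Subgroup.mem_zpowers g)⟩
    rw [hfaith] at h4
    exact Subgroup.mem_bot.mp h4
  constructor
  · -- the derived group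
    have hle : ⁅A, A⁆ ≤ KD A R D := by
      rw [Subgroup.commutator_le]
      intro a ha b hb
      exact comm_mem_KD hDpg hDR hRD hsR hcs hA hAD ha hb
    have hKp : IsPGroup p ↥(KD A R D) := by
      intro g
      obtain ⟨k, m, hm, hkm⟩ := Nat.exists_eq_pow_mul_and_not_dvd
        (orderOf_pos (g : G)).ne' p hp.out.ne_one
      refine ⟨k, ?_⟩
      apply Subtype.ext
      have hmem : ((g : G)) ^ (p ^ k) ∈ KD A R D := Subgroup.pow_mem _ g.2 _
      have hord : orderOf ((g : G) ^ (p ^ k)) = m := by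
        rw [orderOf_pow' _ (pow_ne_zero _ hp.out.ne_zero), hkm]
        rw [Nat.gcd_eq_right (Dvd.intro _ rfl)]
        exact Nat.mul_div_cancel_left _ (pow_pos hp.out.pos _)
      have hcop : (orderOf ((g : G) ^ (p ^ k))).Coprime p := by
        rw [hord]
        exact ((Nat.Prime.coprime_iff_not_dvd hp.out).mpr hm).symm
      have := htriv _ hmem hcop
      simpa using this
    exact hKp.to_le hle
  · intro a ha hcop
    have hmem := pow_mem_KD hDpg hDR hRD hsR hcs hA hAD ha
    have hcop' : (orderOf (a ^ (p - 1))).Coprime p :=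
      Nat.Coprime.coprime_dvd_left (orderOf_pow_dvd _) hcop
    have := htriv _ hmem hcop'
    exact orderOf_dvd_of_pow_eq_one this

end s6

end Cfsg.Agent.Lib.Helper4.NR
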