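import Mathlib
import Cfsg.Agent.Lib.Helper4.NR5

set_option autoImplicit false

/-! `p`-groups of rank at least three with a maximal elementary abelian subgroup of order `p ^ 2`:
automorphism groups (not necessarily faithful). -/

namespace Cfsg.Agent.Lib.Helper4.NR

open scoped commutatorElement
open Cfsg.Agent.Lib.Lead
open Cfsg.Agent.Lib.Helper4.Narrow

universe u

section s8

variable {R : Type*} [Group R] [Finite R] {p : ℕ} [hp : Fact p.Prime]

/-- the key element, from a maximal elementary abelian subgroup of order `p ^ 2` -/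
theorem exists_key_of_max (hp2 : p ≠ 2) (hR : IsPGroup p R) (hr : ¬ Cfsg.PRankLE p 2 R)
    (E : Subgroup R) (hE : Cfsg.IsElementaryAbelian p E) (hE2 : Nat.card E = p ^ 2)
    (hEmax : ∀ B : Subgroup R, Cfsg.IsElementaryAbelian p B → E ≤ B → B = E) :
    ∃ s : R, s ∉ Subgroup.centralizer ((Om p (Subgroup.upperCentralSeries R 2) : Subgroup R) : Set R) ∧
      Om p (Subgroup.upperCentralSeries R 2) ≤
        Subgroup.centralizer ((Om p (Subgroup.upperCentralSeries R 2) : Subgroup R) : Set R) ∧
      ∀ D' : Subgroup R, D' ≤ Subgroup.centralizer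
          ((Om p (Subgroup.upperCentralSeries R 2) : Subgroup R) : Set R) →
        (∀ d ∈ D', d ^ p = 1) → Nat.card ↥(D' ⊓ Subgroup.centralizer ({s} : Set R)) ≤ p := by
  have hp1 := hp.out.one_lt
  obtain ⟨hnot, hZ, ⟨hTe, hT2⟩, hCchar, hCidx⟩ := narrow_structure hp2 hR E hE hE2 hEmax hr
  set T' := Om p (Subgroup.upperCentralSeries R 2) with hT'
  set C' := Subgroup.centralizer (T' : Set R) with hC'
  obtain ⟨s, hsE, hsC⟩ := SetLike.not_le_iff_exists.mp hnot
  have hs1 : s ≠ 1 := by
    rintro rfl
    exact hsC (Subgroup.one_mem _)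
  have hsp : s ^ p = 1 := hE.2 s hsE
  have hZE : Om p (Subgroup.center R) ≤ E := omCenter_le E hE hEmax
  have hZc : Om p (Subgroup.center R) ≤ Subgroup.center R := by
    rw [Om, Subgroup.closure_le]
    intro x hx
    exact hx.1
  have hZC : Om p (Subgroup.center R) ≤ C' := by
    intro x hx
    rw [hC', Subgroup.mem_centralizer_iff]
    intro t _
    exact (Subgroup.mem_center_iff.mp (hZc hx) t)
  have hcs : Nat.card (Subgroup.zpowers s) = p := by
    rw [Nat.card_zpowers]
    have h1 : orderOf s ∣ p := orderOf_dvd_of_pow_eq_one hsp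
    rcases (Nat.dvd_prime hp.out).mp h1 with h | h
    · exact absurd (orderOf_eq_one_iff.mp h) hs1
    · exact h
  have hdisj : Subgroup.zpowers s ⊓ Om p (Subgroup.center R) = ⊥ := by
    by_contra hne
    have hge := prime_le_card_of_ne_bot hR _ hne
    have h2 : Subgroup.zpowers s ⊓ Om p (Subgroup.center R) = Subgroup.zpowers s :=
      Subgroup.eq_of_le_of_card_ge inf_le_left (by rw [hcs]; exact hge)
    apply hsC
    apply hZC
    have : s ∈ Subgroup.zpowers s ⊓ Om p (Subgroup.center R) := by
      rw [h2]; exact Subgroup.mem_zpowers s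
    exact (Subgroup.mem_inf.mp this).2
  have hn : Subgroup.zpowers s ≤
      Subgroup.normalizer ((Om p (Subgroup.center R) : Subgroup R) : Set R) := by
    intro a _
    rw [Subgroup.mem_normalizer_iff]
    intro x
    constructor
    · intro hx
      have : a * x * a⁻¹ = x := by
        rw [Subgroup.mem_center_iff.mp (hZc hx) a, mul_inv_cancel_right]
      rwa [this]
    · intro hx
      have e := (Subgroup.mem_center_iff.mp (hZc hx)) a⁻¹
      have hx' : x = a * x * a⁻¹ := by
        calc x = a⁻¹ * (a * x * a⁻¹) * a := by group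
          _ = (a * x * a⁻¹) * a⁻¹ * a := by rw [e]
          _ = a * x * a⁻¹ := by group
      rw [hx']; exact hx
  have hcard := card_sup_of_disjoint (Subgroup.zpowers s) (Om p (Subgroup.center R)) hn hdisj
  rw [hcs, hZ] at hcard
  have heq : Subgroup.zpowers s ⊔ Om p (Subgroup.center R) = E :=
    Subgroup.eq_of_le_of_card_ge (sup_le (Subgroup.zpowers_le.mpr hsE) hZE)
      (by rw [hcard, hE2, sq])
  refine ⟨s, hsC, ?_, ?_⟩
  · intro x hx
    rw [Subgroup.mem_centralizer_iff]
    intro y hy
    have := hTe.1.is_comm.comm (⟨y, hy⟩ : ↥T') ⟨x, hx⟩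
    exact congrArg Subtype.val this
  · intro D' hD'C hD'p
    have hle : D' ⊓ Subgroup.centralizer ({s} : Set R) ≤ E ⊓ C' := by
      intro x hx
      obtain ⟨hxD, hxs⟩ := Subgroup.mem_inf.mp hx
      refine Subgroup.mem_inf.mpr ⟨?_, hD'C hxD⟩
      apply mem_of_pow_of_comm E hE hEmax x (hD'p x hxD)
      have hEle : E ≤ Subgroup.centralizer ({x} : Set R) := by
        rw [← heq]
        apply sup_le
        · rw [Subgroup.zpowers_le, Subgroup.mem_centralizer_singleton_iff]
          exact (Subgroup.mem_centralizer_singleton_iff.mp hxs).symm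
        · intro z hz
          rw [Subgroup.mem_centralizer_singleton_iff]
          exact (Subgroup.mem_center_iff.mp (hZc hz) x).symm
      intro e he
      exact (Subgroup.mem_centralizer_singleton_iff.mp (hEle he))
    have hlt : Nat.card ↥(E ⊓ C') < p ^ 2 := by
      by_contra hcon
      push Not at hcon
      have := Subgroup.eq_of_le_of_card_ge (inf_le_left : E ⊓ C' ≤ E) (by rw [hE2]; exact hcon)
      apply hnot
      rw [← this]
      exact inf_le_right
    exact (Subgroup.card_le_of_le hle).trans (card_le_prime_of_lt_sq hR _ hlt)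

end s8

section s9

variable {G : Type u} [Group G] [Finite G] {p : ℕ} [hp : Fact p.Prime]

/-- **rank at least three with a maximal elementary abelian subgroup of order `p ^ 2`**: the `p'`-elements
of `A'`, and the `(p-1)`-th powers of the `p'`-elements of `A`, centralise `R` -/
theorem rank3_core (hp2 : p ≠ 2) (R A : Subgroup G) (hR : IsPGroup p R)
    (hr : ¬ Cfsg.PRankLE p 2 R)
    (hmax : ∃ E : Subgroup ↥R, Cfsg.IsElementaryAbelian p E ∧ Nat.card E = p ^ 2 ∧
      ∀ B : Subgroup ↥R, Cfsg.IsElementaryAbelian p B → E ≤ B → B = E)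
    (hA : A ≤ Subgroup.normalizer (R : Set G)) :
    (∀ x ∈ ⁅A, A⁆, (orderOf x).Coprime p → x ∈ Subgroup.centralizer (R : Set G)) ∧
      ∀ a ∈ A, (orderOf a).Coprime p → a ^ (p - 1) ∈ Subgroup.centralizer (R : Set G) := by
  classical
  obtain ⟨E, hE, hE2, hEmax⟩ := hmax
  obtain ⟨s', hsC', hTC', hbound⟩ := exists_key_of_max hp2 hR hr E hE hE2 hEmax
  set T' : Subgroup ↥R := Om p (Subgroup.upperCentralSeries ↥R 2) with hT'
  haveI hT'char : T'.Characteristic := om_characteristic p _
  set C' : Subgroup ↥R := Subgroup.centralizer (T' : Set ↥R) with hC'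
  haveI hC'char : C'.Characteristic := Subgroup.characteristic_centralizer
  set C : Subgroup G := C'.map R.subtype with hCdef
  set T : Subgroup G := T'.map R.subtype with hTdef
  have hCR : C ≤ R := Subgroup.map_subtype_le _
  have hNC : Subgroup.normalizer (R : Set G) ≤ Subgroup.normalizer (C : Set G) :=
    le_normalizer_map_characteristic R C'
  have hCp : IsPGroup p C := hR.to_le hCR
  obtain ⟨D, hDC, hND, hDp, hDf⟩ := Cfsg.Agent.Lib.Helper4.Rk2.exists_omega_critical hp2 C hCp
  have hDR : D ≤ R := hDC.trans hCR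
  have hRD : R ≤ Subgroup.normalizer (D : Set G) :=
    (Subgroup.le_normalizer.trans hNC).trans hND
  have hAD : A ≤ Subgroup.normalizer (D : Set G) := (hA.trans hNC).trans hND
  have hDpg : IsPGroup p D := hR.to_le hDR
  set s : G := (s' : G) with hsdef
  have hsR : s ∈ R := s'.2
  have hinj : Function.Injective R.subtype := Subgroup.subtype_injective R
  have hcs : Nat.card ↥(D ⊓ Subgroup.centralizer ({s} : Set G)) ≤ p := by
    have hD'C : D.subgroupOf R ≤ C' := by
      intro x hx
      rw [Subgroup.mem_subgroupOf] at hx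
      have := hDC hx
      rw [hCdef] at this
      exact (Subgroup.mem_map_iff_mem hinj).mp this
    have hD'p : ∀ d ∈ D.subgroupOf R, d ^ p = 1 := by
      intro d hd
      rw [Subgroup.mem_subgroupOf] at hd
      apply Subtype.ext
      simpa using hDp _ hd
    have hb := hbound (D.subgroupOf R) hD'C hD'p
    have hle : D ⊓ Subgroup.centralizer ({s} : Set G) ≤
        (D.subgroupOf R ⊓ Subgroup.centralizer ({s'} : Set ↥R)).map R.subtype := by
      intro x hx
      obtain ⟨hxD, hxs⟩ := Subgroup.mem_inf.mp hx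
      refine ⟨⟨x, hDR hxD⟩, Subgroup.mem_inf.mpr ⟨?_, ?_⟩, rfl⟩
      · rw [Subgroup.mem_subgroupOf]; exact hxD
      · rw [Subgroup.mem_centralizer_singleton_iff] at hxs ⊢
        apply Subtype.ext
        simpa using hxs
    calc Nat.card ↥(D ⊓ Subgroup.centralizer ({s} : Set G))
        ≤ Nat.card ↥((D.subgroupOf R ⊓ Subgroup.centralizer ({s'} : Set ↥R)).map R.subtype) :=
          Subgroup.card_le_of_le hle
      _ = Nat.card ↥(D.subgroupOf R ⊓ Subgroup.centralizer ({s'} : Set ↥R)) :=
          Subgroup.card_map_of_injective hinj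
      _ ≤ p := hb
  have hTC : T ≤ C := Subgroup.map_mono hTC'
  have hCmem : ∀ x, x ∈ C ↔ x ∈ R ∧ ∀ t ∈ T, t * x = x * t := by
    intro x
    constructor
    · rintro ⟨x', hx', rfl⟩
      refine ⟨x'.2, ?_⟩
      rintro t ⟨t', ht', rfl⟩
      have := (Subgroup.mem_centralizer_iff.mp hx') t' ht'
      have h2 := congrArg Subtype.val this
      simpa using h2
    · rintro ⟨hxR, hx⟩
      refine ⟨⟨x, hxR⟩, ?_, rfl⟩
      rw [SetLike.mem_coe, hC', Subgroup.mem_centralizer_iff]
      intro t' ht'
      apply Subtype.ext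
      have := hx (t' : G) ⟨t', ht', rfl⟩
      simpa using this
  have htriv : ∀ g ∈ KD A R D, (orderOf g).Coprime p → g ∈ Subgroup.centralizer (R : Set G) := by
    intro g hg hcop
    have hgA : g ∈ A := KD_le A hg
    have h1' := centralizes_of_mem_KD hR hDR hg hcop
    have hXA : Subgroup.zpowers g ≤ A := Subgroup.zpowers_le.mpr hgA
    have hXcard : (Nat.card (Subgroup.zpowers g)).Coprime p := by
      rw [Nat.card_zpowers]; exact hcop
    have h2 := hDf (Subgroup.zpowers g) (hXA.trans (hA.trans hNC)) hXcard h1'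
    have hcopR : (Nat.card (Subgroup.zpowers g)).Coprime (Nat.card R) := by
      obtain ⟨k, hk⟩ := IsPGroup.iff_card.mp hR
      rw [hk]
      exact Nat.Coprime.pow_right _ hXcard
    have hsolv : Group.IsSolvable ↥R := by
      haveI : Group.IsNilpotent ↥R := hR.isNilpotent
      infer_instance
    have h3 := centralizes_of_centralizes_cent hTC hCmem (Subgroup.le_normalizer.trans hNC)
      (hXA.trans hA) hcopR hsolv h2
    exact h3 (Subgroup.mem_zpowers g)
  constructor
  · intro x hx hcop
    have hle : ⁅A, A⁆ ≤ KD A R D := by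
      rw [Subgroup.commutator_le]
      intro a ha b hb
      exact comm_mem_KD hDpg hDR hRD hsR hcs hA hAD ha hb
    exact htriv x (hle hx) hcop
  · intro a ha hcop
    have hmem := pow_mem_KD hDpg hDR hRD hsR hcs hA hAD ha
    have hcop' : (orderOf (a ^ (p - 1))).Coprime p :=
      Nat.Coprime.coprime_dvd_left (orderOf_pow_dvd _) hcop
    exact htriv _ hmem hcop'

/-- the data of a narrow group of rank at least three give a maximal elementary abelian subgroup of
order `p ^ 2` -/
theorem exists_max_of_narrow {R : Type*} [Group R] [Finite R] (hR : IsPGroup p R)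
    (hr : ¬ Cfsg.PRankLE p 2 R)
    (hnar : ∃ R₀ R₁ : Subgroup R, Nat.card R₀ = p ∧ IsCyclic R₁ ∧ R₀ ⊓ R₁ = ⊥ ∧
      (∀ a ∈ R₀, ∀ b ∈ R₁, a * b = b * a) ∧ R₀ ⊔ R₁ = Subgroup.centralizer (R₀ : Set R)) :
    ∃ E : Subgroup R, Cfsg.IsElementaryAbelian p E ∧ Nat.card E = p ^ 2 ∧
      ∀ B : Subgroup R, Cfsg.IsElementaryAbelian p B → E ≤ B → B = E := by
  obtain ⟨R₀, R₁, h0, h1, hd, hc, hs⟩ := hnar
  have h := cent_comm R₀ R₁ h0 h1 hc hs
  exact ⟨Esub R₀ p h, isElementaryAbelian_Esub R₀ h, card_Esub R₀ R₁ h0 h1 hd hc hs hR hr h,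
    Esub_max R₀ h0 h⟩

end s9

end Cfsg.Agent.Lib.Helper4.NR
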