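import Mathlib
import Cfsg.Agent.Lib.Helper4.Rk2h
import Cfsg.Prelude.Def_CaseTheorems
import Cfsg.Prelude.Def_Transfer

set_option autoImplicit false

/-! The `p`-rank of a group is that of its Sylow `p`-subgroups; transport of maximal elementary abelian
subgroups along an isomorphism. -/

namespace Cfsg.Agent.Lib.Helper4.NS

open Cfsg
open scoped Pointwise

section s2

variable {G : Type*} [Group G] [Finite G] {p : ℕ} [hp : Fact p.Prime]

theorem prankLE_of_sylow (S : Sylow p G) (k : ℕ) (h : PRankLE p k ↥(S : Subgroup G)) :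
    PRankLE p k G := by
  intro A hA hAp
  have hAP : IsPGroup p ↥A := by
    intro a
    refine ⟨1, ?_⟩
    apply Subtype.ext
    rw [pow_one]
    simpa using hAp a a.2
  obtain ⟨P, hP⟩ := hAP.exists_le_sylow
  obtain ⟨g, hg⟩ := MulAction.exists_smul_eq G P S
  have hgS : ∀ a ∈ A, g * a * g⁻¹ ∈ (S : Subgroup G) := by
    intro a ha
    have h1 : a ∈ (P : Subgroup G) := hP ha
    have h2 : g * a * g⁻¹ ∈ ((g • P : Sylow p G) : Subgroup G) := by
      rw [Sylow.coe_subgroup_smul]
      exact ⟨a, h1, by simp [MulAut.smul_def]⟩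
    rwa [hg] at h2
  -- the conjugate of `A` inside `S`
  let f : ↥A →* ↥(S : Subgroup G) :=
    { toFun := fun a => ⟨g * a * g⁻¹, hgS a a.2⟩
      map_one' := by apply Subtype.ext; simp
      map_mul' := fun a b => by apply Subtype.ext; simp }
  have hf : Function.Injective f := by
    intro a b hab
    have := congrArg Subtype.val hab
    simp only [f, MonoidHom.coe_mk, OneHom.coe_mk] at this
    apply Subtype.ext
    have h2 : g * (a : G) = g * (b : G) := mul_right_cancel this
    exact mul_left_cancel h2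
  have hB1 : IsMulCommutative ↥f.range := by
    refine ⟨⟨?_⟩⟩
    rintro ⟨x, ⟨a, rfl⟩⟩ ⟨y, ⟨b, rfl⟩⟩
    apply Subtype.ext
    show f a * f b = f b * f a
    rw [← map_mul, ← map_mul, hA.is_comm.comm a b]
  have hB2 : ∀ x ∈ f.range, x ^ p = 1 := by
    rintro x ⟨a, rfl⟩
    rw [← map_pow]
    have : a ^ p = 1 := Subtype.ext (by simpa using hAp a a.2)
    rw [this, map_one]
  have := h f.range hB1 hB2
  have hcard : Nat.card ↥f.range = Nat.card ↥A :=
    (Nat.card_congr (MonoidHom.ofInjective hf).toEquiv).symm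
  rwa [hcard] at this

end s2

section s3

variable {R R' : Type*} [Group R] [Group R'] {p : ℕ}

theorem isElementaryAbelian_map_equiv {X Y : Type*} [Group X] [Group Y] (f : X ≃* Y)
    (B : Subgroup X) (hB : Cfsg.IsElementaryAbelian p B) :
    Cfsg.IsElementaryAbelian p (B.map f.toMonoidHom) := by
  refine ⟨⟨⟨?_⟩⟩, ?_⟩
  · rintro ⟨x, ⟨a, ha, rfl⟩⟩ ⟨y, ⟨b, hb, rfl⟩⟩
    apply Subtype.ext
    show f.toMonoidHom a * f.toMonoidHom b = f.toMonoidHom b * f.toMonoidHom a
    rw [← map_mul, ← map_mul]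
    have := hB.1.is_comm.comm (⟨a, ha⟩ : ↥B) ⟨b, hb⟩
    rw [show a * b = b * a from congrArg Subtype.val this]
  · rintro x ⟨a, ha, rfl⟩
    rw [← map_pow, hB.2 a ha, map_one]

theorem exists_max_of_equiv (e : R ≃* R')
    (h : ∃ E : Subgroup R, Cfsg.IsElementaryAbelian p E ∧ Nat.card E = p ^ 2 ∧
      ∀ B : Subgroup R, Cfsg.IsElementaryAbelian p B → E ≤ B → B = E) :
    ∃ E : Subgroup R', Cfsg.IsElementaryAbelian p E ∧ Nat.card E = p ^ 2 ∧
      ∀ B : Subgroup R', Cfsg.IsElementaryAbelian p B → E ≤ B → B = E := by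
  obtain ⟨E, hE, hE2, hEmax⟩ := h
  refine ⟨E.map e.toMonoidHom, isElementaryAbelian_map_equiv e E hE, ?_, ?_⟩
  · rw [Subgroup.card_map_of_injective e.injective, hE2]
  · intro B hB hEB
    have h1 := isElementaryAbelian_map_equiv e.symm B hB
    have h2 : E ≤ B.map e.symm.toMonoidHom := by
      intro x hx
      refine ⟨e x, hEB ⟨x, hx, rfl⟩, ?_⟩
      simp
    have h3 := hEmax _ h1 h2
    apply le_antisymm
    · intro b hb
      have : e.symm b ∈ B.map e.symm.toMonoidHom := ⟨b, hb, rfl⟩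
      rw [h3] at this
      exact ⟨e.symm b, this, by simp⟩
    · exact hEB

end s3

end Cfsg.Agent.Lib.Helper4.NS
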