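import Mathlib
import Cfsg.Agent.Lib.Helper4.NS1
import Cfsg.Agent.Lib.Helper4.NS2
import Cfsg.Agent.Lib.Helper4.NR7
import Cfsg.Agent.Lib.Helper4.PLength
import Cfsg.Agent.Lib.Helper4.SolvBalance

set_option autoImplicit false

/-! BG Theorem 5.5: solvable groups of `p`-length one whose Sylow `p`-subgroups have rank at least three and a
maximal elementary abelian subgroup of order `p ^ 2`. -/

namespace Cfsg.Agent.Lib.Helper4.NS

open Cfsg Cfsg.Agent.Lib.Lead
open scoped commutatorElement

universe u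

section s4

variable {G : Type u} [Group G] [Finite G] {p : ℕ} [hp : Fact p.Prime]

/-- for `p`-length one, `O_{p',p}(G)` has index prime to `p` -/
theorem index_pPrimePCore_coprime (hpl : PLengthLE p 1 G) :
    ((pPrimePCore p G).index).Coprime p := by
  have h1 := Cfsg.Agent.Lib.Helper4.upperPSeries_two_index_coprime p hpl
  set U1 := (upperPSeries p G 1).1 with hU1
  set U2 := (upperPSeries p G 2).1 with hU2
  have hU1n : U1.Normal := (upperPSeries p G 1).2
  have hU2n : U2.Normal := (upperPSeries p G 2).2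
  have hU1c : (Nat.card U1).Coprime p := Cfsg.Agent.Lib.Helper4.upperPSeries_one_coprime p
  have hU1K : U1 ≤ pPrimeCore p G := Cfsg.Agent.Lib.Helper6.le_pPrimeCore hU1n hU1c
  set K := pPrimeCore p G with hK
  set π := QuotientGroup.mk' K with hπ
  have hmapn : (U2.map π).Normal := Subgroup.Normal.map hU2n π (QuotientGroup.mk'_surjective K)
  have hmapp : IsPGroup p ↥(U2.map π) := by
    rintro ⟨y, ⟨u, hu, rfl⟩⟩
    have hu' : u ∈ (pCore p (G ⧸ U1)).comap (QuotientGroup.mk' U1) := by
      have := Cfsg.Agent.Lib.Helper4.upperPSeries_succ_odd (G := G) p 1 (by decide)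
      rw [← this]; exact hu
    rw [Subgroup.mem_comap] at hu'
    obtain ⟨k, hk⟩ := (Cfsg.Agent.Lib.Helper6.pCore_isPGroup (G := G ⧸ U1) p) ⟨_, hu'⟩
    refine ⟨k, ?_⟩
    apply Subtype.ext
    have h2 : (QuotientGroup.mk' U1 u) ^ p ^ k = 1 := by
      have := congrArg Subtype.val hk
      simpa using this
    have h3 : u ^ p ^ k ∈ U1 := by
      rw [← QuotientGroup.eq_one_iff, QuotientGroup.mk_pow]
      exact h2
    have h4 : π (u ^ p ^ k) = 1 := (QuotientGroup.eq_one_iff _).mpr (hU1K h3)
    simpa using h4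
  have hle : U2.map π ≤ pCore p (G ⧸ K) := Cfsg.Agent.Lib.Helper6.le_pCore hmapn hmapp
  have hU2L : U2 ≤ pPrimePCore p G := by
    intro u hu
    show π u ∈ pCore p (G ⧸ K)
    exact hle ⟨u, hu, rfl⟩
  exact Nat.Coprime.coprime_dvd_left (Subgroup.index_dvd_of_le hU2L) h1

end s4

end Cfsg.Agent.Lib.Helper4.NS
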