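import Mathlib
import Cfsg.Agent.Lib.Helper4.NS3

set_option autoImplicit false

/-! BG Theorem 5.5: the core facts. -/

namespace Cfsg.Agent.Lib.Helper4.NS

open Cfsg Cfsg.Agent.Lib.Lead
open scoped commutatorElement

universe u

section s5

variable {G : Type u} [Group G] [Finite G] {p : ℕ} [hp : Fact p.Prime]

/-- a normal `p`-subgroup of index prime to `p` contains every `p`-subgroup -/
theorem le_of_normal_of_index_coprime {Q : Subgroup G} (hQn : Q.Normal) (hQp : IsPGroup p Q)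
    (hidx : (Q.index).Coprime p) {P : Subgroup G} (hP : IsPGroup p P) : P ≤ Q := by
  intro x hx
  obtain ⟨k, hk⟩ := hP ⟨x, hx⟩
  have hxk : x ^ p ^ k = 1 := by
    have := congrArg Subtype.val hk
    simpa using this
  have h1 : (QuotientGroup.mk' Q x) ^ p ^ k = 1 := by
    rw [← map_pow, hxk, map_one]
  have h2 : (QuotientGroup.mk' Q x) ^ Q.index = 1 := by
    rw [Subgroup.index_eq_card]
    exact pow_card_eq_one'
  have h3 := pow_gcd_eq_one.mpr ⟨h1, h2⟩
  have h4 : Nat.gcd (p ^ k) Q.index = 1 := (Nat.Coprime.pow_right k hidx).symm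
  rw [h4, pow_one] at h3
  exact (QuotientGroup.eq_one_iff x).mp h3

theorem facts_of_max [Group.IsSolvable G] (hp2 : p ≠ 2) (S : Sylow p G)
    (hr : ¬ PRankLE p 2 ↥(S : Subgroup G))
    (hmax : ∃ E : Subgroup ↥(S : Subgroup G), IsElementaryAbelian p E ∧ Nat.card E = p ^ 2 ∧
      ∀ B : Subgroup ↥(S : Subgroup G), IsElementaryAbelian p B → E ≤ B → B = E)
    (hpl : PLengthLE p 1 G) :
    (∀ x ∈ commutator G, (orderOf x).Coprime p → x ∈ pPrimeCore p G) ∧
    commutator G ≤ pPrimePCore p G ∧ ((pPrimePCore p G).index).Coprime p ∧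
    (∀ q : ℕ, q.Prime → q ∣ (pPrimeCore p G).index → q ≤ p) ∧
    IsPGroup p ↥((commutator G).map (QuotientGroup.mk' (pPrimeCore p G))) := by
  classical
  have hp1 := hp.out.one_lt
  set K := pPrimeCore p G with hK
  have hKc : (Nat.card K).Coprime p := Cfsg.Agent.Lib.Helper6.pPrimeCore_coprime p
  set π := QuotientGroup.mk' K with hπ
  set Q := pCore p (G ⧸ K) with hQ
  have hQ1 : pPrimeCore p (G ⧸ K) = ⊥ := Cfsg.Agent.Lib.Helper4.pPrimeCore_quotient_self p
  have hQ2 : Subgroup.centralizer (Q : Set (G ⧸ K)) ≤ Q := Cfsg.Agent.S0017.result p hQ1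
  have hQp : IsPGroup p Q := Cfsg.Agent.Lib.Helper6.pCore_isPGroup p
  have hQn : Q.Normal := inferInstance
  have h3 := index_pPrimePCore_coprime hpl
  have hidx : (pPrimePCore p G).index = Q.index := by
    change (Q.comap π).index = Q.index
    exact Subgroup.index_comap_of_surjective Q (QuotientGroup.mk'_surjective K)
  have hQidx : (Q.index).Coprime p := by rw [← hidx]; exact h3
  -- the image of `S` is `Q`
  set f : ↥(S : Subgroup G) →* G ⧸ K := π.comp (S : Subgroup G).subtype with hf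
  have hfinj : Function.Injective f := by
    rw [injective_iff_map_eq_one]
    intro s hs
    have h1 : (s : G) ∈ K := (QuotientGroup.eq_one_iff _).mp hs
    have h2 : orderOf (s : G) ∣ Nat.card K := by
      have := orderOf_dvd_natCard (⟨(s : G), h1⟩ : ↥K)
      rwa [Subgroup.orderOf_mk] at this
    obtain ⟨k, hk⟩ := S.isPGroup' s
    have h4 : orderOf (s : G) ∣ p ^ k := by
      apply orderOf_dvd_of_pow_eq_one
      have := congrArg Subtype.val hk
      simpa using this
    have h5 : orderOf (s : G) = 1 :=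
      Nat.eq_one_of_dvd_coprimes (Nat.Coprime.pow_right k hKc) h2 h4
    exact Subtype.ext (orderOf_eq_one_iff.mp h5)
  have hrange_le : f.range ≤ Q := by
    apply le_of_normal_of_index_coprime hQn hQp hQidx
    exact IsPGroup.of_surjective S.isPGroup' f.rangeRestrict f.rangeRestrict_surjective
  have hcardS : Nat.card ↥f.range = Nat.card ↥(S : Subgroup G) :=
    (Nat.card_congr (MonoidHom.ofInjective hfinj).toEquiv).symm
  have hQle : Nat.card Q ≤ Nat.card ↥(S : Subgroup G) := by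
    obtain ⟨j, hj⟩ := IsPGroup.iff_card.mp hQp
    have h1 : p ^ j ∣ Nat.card G := by
      rw [← hj]
      exact (Subgroup.card_subgroup_dvd_card Q).trans (Subgroup.card_quotient_dvd_card K)
    have h2 : j ≤ (Nat.card G).factorization p :=
      (hp.out.pow_dvd_iff_le_factorization Nat.card_pos.ne').mp h1
    rw [hj, Sylow.card_eq_multiplicity]
    exact Nat.pow_le_pow_right hp.out.pos h2
  have hrange : f.range = Q :=
    Subgroup.eq_of_le_of_card_ge hrange_le (by rw [hcardS]; exact hQle)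
  let e : ↥(S : Subgroup G) ≃* ↥Q :=
    (MonoidHom.ofInjective hfinj).trans (MulEquiv.subgroupCongr hrange)
  have hmaxQ := exists_max_of_equiv e hmax
  have hrQ : ¬ PRankLE p 2 ↥Q := by
    intro h
    exact hr (Cfsg.Agent.Lib.Helper4.Rk2.prankLE_of_injective e.toMonoidHom e.injective h)
  -- a complement
  have hQcop : Nat.Coprime (Nat.card Q) Q.index := by
    obtain ⟨j, hj⟩ := IsPGroup.iff_card.mp hQp
    rw [hj]
    exact Nat.Coprime.pow_left j hQidx.symm
  obtain ⟨A, hA⟩ := Subgroup.exists_right_complement'_of_coprime hQcop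
  have hAcard : Nat.card A = Q.index := by
    have h1 := hA.card_mul_card
    have h2 := Q.card_mul_index
    have hpos : 0 < Nat.card Q := Nat.card_pos
    exact Nat.eq_of_mul_eq_mul_left hpos (h1.trans h2.symm)
  have hAcop : (Nat.card A).Coprime p := by rw [hAcard]; exact hQidx
  have hAQ : A ⊓ Q = ⊥ := by
    have := hA.disjoint
    rw [disjoint_iff] at this
    rw [inf_comm]; exact this
  have hAN : A ≤ Subgroup.normalizer (Q : Set (G ⧸ K)) := by
    rw [Subgroup.normalizer_eq_top Q]; exact le_top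
  obtain ⟨hc1, hc2⟩ := Cfsg.Agent.Lib.Helper4.NR.rank3_core hp2 Q A hQp hrQ hmaxQ hAN
  have hAord : ∀ a ∈ A, (orderOf a).Coprime p := by
    intro a ha
    have h1 : orderOf a ∣ Nat.card A := by
      have := orderOf_dvd_natCard (⟨a, ha⟩ : ↥A)
      rwa [Subgroup.orderOf_mk] at this
    exact Nat.Coprime.coprime_dvd_left h1 hAcop
  have hAtriv : ∀ a ∈ A, a ∈ Subgroup.centralizer (Q : Set (G ⧸ K)) → a = 1 := by
    intro a ha hac
    have : a ∈ A ⊓ Q := Subgroup.mem_inf.mpr ⟨ha, hQ2 hac⟩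
    rw [hAQ] at this
    exact Subgroup.mem_bot.mp this
  have hAcomm : ∀ a ∈ A, ∀ b ∈ A, ⁅a, b⁆ = 1 := by
    intro a ha b hb
    have hab : ⁅a, b⁆ ∈ ⁅A, A⁆ := Subgroup.commutator_mem_commutator ha hb
    have habA : ⁅a, b⁆ ∈ A := by
      rw [commutatorElement_def]
      exact A.mul_mem (A.mul_mem (A.mul_mem ha hb) (A.inv_mem ha)) (A.inv_mem hb)
    exact hAtriv _ habA (hc1 _ hab (hAord _ habA))
  have hApow : ∀ a ∈ A, a ^ (p - 1) = 1 := by
    intro a ha
    exact hAtriv _ (A.pow_mem ha _) (hc2 a ha (hAord a ha))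
  -- the derived group of the quotient lies in `Q`
  have hdecomp : ∀ g : G ⧸ K, ∃ q ∈ Q, ∃ a ∈ A, g = q * a := by
    intro g
    have := hA.sup_eq_top
    have hg : g ∈ Q ⊔ A := by rw [this]; exact Subgroup.mem_top g
    rw [Subgroup.mem_sup_of_normal_left] at hg
    obtain ⟨q, hq, a, ha, rfl⟩ := hg
    exact ⟨q, hq, a, ha, rfl⟩
  have hderQ : commutator (G ⧸ K) ≤ Q := by
    rw [commutator_def, Subgroup.commutator_le]
    intro g₁ _ g₂ _
    obtain ⟨q₁, hq₁, a₁, ha₁, rfl⟩ := hdecomp g₁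
    obtain ⟨q₂, hq₂, a₂, ha₂, rfl⟩ := hdecomp g₂
    rw [← QuotientGroup.eq_one_iff]
    have e0 : ((⁅q₁ * a₁, q₂ * a₂⁆ : G ⧸ K) : (G ⧸ K) ⧸ Q) =
        ⁅(QuotientGroup.mk' Q) (q₁ * a₁), (QuotientGroup.mk' Q) (q₂ * a₂)⁆ :=
      map_commutatorElement (QuotientGroup.mk' Q) _ _
    rw [e0]
    have e1 : (QuotientGroup.mk' Q) (q₁ * a₁) = (QuotientGroup.mk' Q) a₁ := by
      have : (QuotientGroup.mk' Q) q₁ = 1 := (QuotientGroup.eq_one_iff q₁).mpr hq₁
      rw [map_mul, this, one_mul]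
    have e2 : (QuotientGroup.mk' Q) (q₂ * a₂) = (QuotientGroup.mk' Q) a₂ := by
      have : (QuotientGroup.mk' Q) q₂ = 1 := (QuotientGroup.eq_one_iff q₂).mpr hq₂
      rw [map_mul, this, one_mul]
    rw [e1, e2, ← map_commutatorElement, hAcomm a₁ ha₁ a₂ ha₂, map_one]
  have hQtriv : ∀ y ∈ Q, (orderOf y).Coprime p → y = 1 := by
    intro y hyQ hyo
    obtain ⟨k, hk⟩ := hQp ⟨y, hyQ⟩
    have h1 : y ^ p ^ k = 1 := by
      have := congrArg Subtype.val hk
      simpa using this
    have h2 : orderOf y ∣ p ^ k := orderOf_dvd_of_pow_eq_one h1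
    have h3 : orderOf y = 1 := Nat.Coprime.eq_one_of_dvd (Nat.Coprime.pow_right k hyo) h2
    exact orderOf_eq_one_iff.mp h3
  have hmapcomm : (commutator G).map π ≤ commutator (G ⧸ K) := by
    rw [commutator_def, commutator_def, Subgroup.map_commutator]
    exact Subgroup.commutator_mono le_top le_top
  refine ⟨?_, ?_, h3, ?_, ?_⟩
  · intro x hx hxo
    have h1 : π x ∈ Q := hderQ (hmapcomm ⟨x, hx, rfl⟩)
    have h2 : (orderOf (π x)).Coprime p :=
      Nat.Coprime.coprime_dvd_left (orderOf_map_dvd π x) hxo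
    exact (QuotientGroup.eq_one_iff x).mp (hQtriv _ h1 h2)
  · intro x hx
    change π x ∈ Q
    exact hderQ (hmapcomm ⟨x, hx, rfl⟩)
  · intro q hq hqdvd
    by_cases hqp : q = p
    · exact hqp.le
    have hqdvd' : q ∣ Nat.card (G ⧸ K) := by rwa [← Subgroup.index_eq_card]
    have hqA : q ∣ Nat.card A := by
      rw [← hA.card_mul_card] at hqdvd'
      rcases (Nat.Prime.dvd_mul hq).mp hqdvd' with h | h
      · exfalso
        obtain ⟨j, hj⟩ := IsPGroup.iff_card.mp hQp
        rw [hj] at h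
        exact hqp ((Nat.prime_dvd_prime_iff_eq hq hp.out).mp (hq.dvd_of_dvd_pow h))
      · exact h
    haveI : Fact q.Prime := ⟨hq⟩
    obtain ⟨a, ha⟩ := exists_prime_orderOf_dvd_card' q hqA
    have h1 : (a : G ⧸ K) ^ (p - 1) = 1 := hApow a a.2
    have h2 : orderOf (a : G ⧸ K) ∣ p - 1 := orderOf_dvd_of_pow_eq_one h1
    rw [Subgroup.orderOf_coe, ha] at h2
    have := Nat.le_of_dvd (by omega) h2
    omega
  · exact hQp.to_le (hmapcomm.trans hderQ)

end s5

end Cfsg.Agent.Lib.Helper4.NS
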