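import Mathlib
import Cfsg.Agent.Lib.Helper7.PSer
import Cfsg.Agent.Lib.Lead.CoprimeTools

set_option autoImplicit false

/-! A relative, internal notion of `p`-length at most one for a subgroup with operators. -/

namespace Cfsg.Agent.Lib.Helper4.ZP

open Cfsg
open scoped commutatorElement

universe u v

section basic

variable {G : Type u} [Group G]

/-- `H / U` has `p`-length at most one, witnessed by subgroups normalised by `Γ`. -/
def PL1 (p : ℕ) (Γ U H : Subgroup G) : Prop :=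
  ∃ A B : Subgroup G, U ≤ A ∧ A ≤ B ∧ B ≤ H ∧ Γ ≤ Subgroup.normalizer (A : Set G) ∧
    Γ ≤ Subgroup.normalizer (B : Set G) ∧ (U.relIndex A).Coprime p ∧
    (∃ k : ℕ, A.relIndex B = p ^ k) ∧ (B.relIndex H).Coprime p

theorem PL1.mono_left {p : ℕ} {Γ Γ' U H : Subgroup G} (h : PL1 p Γ U H) (hΓ : Γ' ≤ Γ) :
    PL1 p Γ' U H := by
  obtain ⟨A, B, h1, h2, h3, h4, h5, h6, h7, h8⟩ := h
  exact ⟨A, B, h1, h2, h3, hΓ.trans h4, hΓ.trans h5, h6, h7, h8⟩

theorem PL1.to_bot {p : ℕ} {Γ U H : Subgroup G} (h : PL1 p Γ U H)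
    (hU : (Nat.card U).Coprime p) : PL1 p Γ ⊥ H := by
  obtain ⟨A, B, h1, h2, h3, h4, h5, h6, h7, h8⟩ := h
  refine ⟨A, B, bot_le, h2, h3, h4, h5, ?_, h7, h8⟩
  have := Subgroup.relIndex_mul_relIndex ⊥ U A bot_le h1
  rw [← this, Subgroup.relIndex_bot_left]
  exact Nat.Coprime.mul_left hU h6

variable [Finite G]

/-- a `p`-subgroup lies in every normal subgroup of index prime to `p`. -/
theorem pgroup_le_of_coprime_index {p : ℕ} [hp : Fact p.Prime] {P B K : Subgroup G}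
    (hP : IsPGroup p P) (hPK : P ≤ K) (hBK : B ≤ K) (hKB : K ≤ Subgroup.normalizer (B : Set G))
    (hidx : (B.relIndex K).Coprime p) : P ≤ B := by
  have h1 := Cfsg.Agent.Lib.Lead.relIndex_sup_of_le_normalizer P B (hPK.trans hKB)
  have h2 : B.relIndex P ∣ Nat.card P := Subgroup.relIndex_dvd_card B P
  obtain ⟨n, hn⟩ := (IsPGroup.iff_card).mp hP
  rw [hn] at h2
  obtain ⟨j, -, hj⟩ := (Nat.dvd_prime_pow hp.out).mp h2
  have h3 : B.relIndex (P ⊔ B) ∣ B.relIndex K :=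
    Cfsg.Agent.Lib.Helper7.PSer.relIndex_dvd_of_between le_rfl le_sup_right (sup_le hPK hBK)
  rw [h1, hj] at h3
  have h4 : (p ^ j).Coprime p := Nat.Coprime.coprime_dvd_left h3 hidx
  have hj0 : j = 0 := by
    by_contra hne
    have : p ∣ Nat.gcd (p ^ j) p := Nat.dvd_gcd (dvd_pow_self p hne) dvd_rfl
    rw [h4] at this
    exact hp.out.one_lt.ne' (Nat.dvd_one.mp this)
  rw [hj0, pow_zero] at hj
  exact Subgroup.relIndex_eq_one.mp hj

/-- a `p'`-subgroup lies in every normal subgroup of `p`-power index. -/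
theorem coprime_le_of_pow_index {p : ℕ} [hp : Fact p.Prime] {Q A B : Subgroup G}
    (hQ : (Nat.card Q).Coprime p) (hQB : Q ≤ B) (hAB : A ≤ B)
    (hBA : B ≤ Subgroup.normalizer (A : Set G)) {k : ℕ} (hidx : A.relIndex B = p ^ k) :
    Q ≤ A := by
  have h1 := Cfsg.Agent.Lib.Lead.relIndex_sup_of_le_normalizer Q A (hQB.trans hBA)
  have h2 : A.relIndex Q ∣ Nat.card Q := Subgroup.relIndex_dvd_card A Q
  have h3 : A.relIndex (Q ⊔ A) ∣ A.relIndex B :=
    Cfsg.Agent.Lib.Helper7.PSer.relIndex_dvd_of_between le_rfl le_sup_right (sup_le hQB hAB)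
  rw [h1, hidx] at h3
  obtain ⟨j, -, hj⟩ := (Nat.dvd_prime_pow hp.out).mp h3
  have h4 : (p ^ j).Coprime p := Nat.Coprime.coprime_dvd_left (hj ▸ h2) hQ
  have hj0 : j = 0 := by
    by_contra hne
    have : p ∣ Nat.gcd (p ^ j) p := Nat.dvd_gcd (dvd_pow_self p hne) dvd_rfl
    rw [h4] at this
    exact hp.out.one_lt.ne' (Nat.dvd_one.mp this)
  rw [hj0, pow_zero] at hj
  exact Subgroup.relIndex_eq_one.mp hj

/-- In a group of `p`-length one, a `p'`-subgroup `Q = [Q, T]` with `T` a `p`-subgroup centralises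
every normal `p`-subgroup. -/
theorem PL1.centralizes {p : ℕ} [hp : Fact p.Prime] {Γ K : Subgroup G} (h : PL1 p Γ ⊥ K)
    (hKΓ : K ≤ Γ) (V T Q : Subgroup G) (hVK : V ≤ K)
    (hVn : K ≤ Subgroup.normalizer (V : Set G)) (hV : IsPGroup p V)
    (hTK : T ≤ K) (hT : IsPGroup p T) (hQK : Q ≤ K) (hQ : (Nat.card Q).Coprime p)
    (hQT : Q ≤ ⁅Q, T⁆) : Q ≤ Subgroup.centralizer (V : Set G) := by
  obtain ⟨A, B, -, hAB, hBK, hAn, hBn, hA, ⟨k, hk⟩, hB⟩ := h
  have hTB : T ≤ B := pgroup_le_of_coprime_index hT hTK hBK (hKΓ.trans hBn) hB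
  have hQB : Q ≤ B := by
    refine hQT.trans ?_
    rw [Subgroup.commutator_le]
    intro a ha t ht
    have hn := (hKΓ.trans hBn) (hQK ha)
    have h1 : a * t * a⁻¹ ∈ B := (Subgroup.mem_normalizer_iff.mp hn t).mp (hTB ht)
    have : ⁅a, t⁆ = a * t * a⁻¹ * t⁻¹ := rfl
    rw [this]
    exact B.mul_mem h1 (B.inv_mem (hTB ht))
  have hQA : Q ≤ A := coprime_le_of_pow_index hQ hQB hAB ((hBK.trans hKΓ).trans hAn) hk
  rw [Subgroup.relIndex_bot_left] at hA
  have hdisj : A ⊓ V = ⊥ := by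
    apply Subgroup.inf_eq_bot_of_coprime
    obtain ⟨n, hn⟩ := (IsPGroup.iff_card).mp hV
    rw [hn]
    exact Nat.Coprime.pow_right n hA
  have hAK : A ≤ K := hAB.trans hBK
  have hcomm : ⁅A, V⁆ = ⊥ := by
    rw [eq_bot_iff, ← hdisj]
    apply le_inf
    · rw [Subgroup.commutator_le]
      intro a ha v hv
      have hn := (hKΓ.trans hAn) (hVK hv)
      have h1 : v * a⁻¹ * v⁻¹ ∈ A :=
        (Subgroup.mem_normalizer_iff.mp hn a⁻¹).mp (A.inv_mem ha)
      have : ⁅a, v⁆ = a * (v * a⁻¹ * v⁻¹) := by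
        rw [commutatorElement_def]; group
      rw [this]
      exact A.mul_mem ha h1
    · rw [Subgroup.commutator_le]
      intro a ha v hv
      have hn := hVn (hAK ha)
      have h1 : a * v * a⁻¹ ∈ V := (Subgroup.mem_normalizer_iff.mp hn v).mp hv
      have : ⁅a, v⁆ = a * v * a⁻¹ * v⁻¹ := rfl
      rw [this]
      exact V.mul_mem h1 (V.inv_mem hv)
  exact hQA.trans (Subgroup.commutator_eq_bot_iff_le_centralizer.mp hcomm)

end basic

end Cfsg.Agent.Lib.Helper4.ZP
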