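import Mathlib
import Cfsg.Agent.Lib.Helper4.ZP1

set_option autoImplicit false

/-! Conversion of the internal notion to `PLengthLE`, and transport along homomorphisms. -/

namespace Cfsg.Agent.Lib.Helper4.ZP

open Cfsg
open scoped commutatorElement

universe u v

section conv

variable {G : Type u} [Group G] [Finite G]

theorem pLengthLE_of_PL1 {p : ℕ} [hp : Fact p.Prime] {Γ M : Subgroup G} (h : PL1 p Γ ⊥ M)
    (hMΓ : M ≤ Γ) : PLengthLE p 1 ↥M := by
  obtain ⟨A, B, -, hAB, hBM, hAn, hBn, hA, ⟨k, hk⟩, hB⟩ := h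
  haveI hAn' : (A.subgroupOf M).Normal :=
    Subgroup.normal_subgroupOf_of_le_normalizer (hMΓ.trans hAn)
  haveI hBn' : (B.subgroupOf M).Normal :=
    Subgroup.normal_subgroupOf_of_le_normalizer (hMΓ.trans hBn)
  apply Cfsg.Agent.Lib.Helper7.PSer.pLengthLE_of
  have h1 : Cfsg.Agent.Lib.Helper7.PSer.PSer p 0 (⊥ : Subgroup ↥M) (A.subgroupOf M) := by
    apply Cfsg.Agent.Lib.Helper7.PSer.of_coprime bot_le
    rw [Subgroup.relIndex_bot_left] at hA ⊢
    rw [Cfsg.Agent.Lib.Lead.card_subgroupOf_of_le (hAB.trans hBM)]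
    exact hA
  have h2 : Cfsg.Agent.Lib.Helper7.PSer.PSer p 1 (A.subgroupOf M) (B.subgroupOf M) := by
    apply Cfsg.Agent.Lib.Helper7.PSer.of_pow (m := k)
    · intro x hx
      exact hAB hx
    · rw [Subgroup.relIndex_subgroupOf hBM]
      exact hk
  have h3 : Cfsg.Agent.Lib.Helper7.PSer.PSer p 0 (B.subgroupOf M) (⊤ : Subgroup ↥M) := by
    apply Cfsg.Agent.Lib.Helper7.PSer.of_coprime le_top
    rw [Subgroup.relIndex_top_right]
    exact hB
  exact Cfsg.Agent.Lib.Helper7.PSer.concat (Cfsg.Agent.Lib.Helper7.PSer.concat h1 h2) h3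

end conv

section transport

variable {G : Type u} [Group G] {G' : Type v} [Group G']

/-- transport along an injective homomorphism. -/
theorem PL1.map_of_injective {p : ℕ} {Γ U H : Subgroup G'} (h : PL1 p Γ U H) (f : G' →* G)
    (hf : Function.Injective f) : PL1 p (Γ.map f) (U.map f) (H.map f) := by
  obtain ⟨A, B, h1, h2, h3, h4, h5, h6, ⟨k, h7⟩, h8⟩ := h
  refine ⟨A.map f, B.map f, Subgroup.map_mono h1, Subgroup.map_mono h2, Subgroup.map_mono h3,
    ?_, ?_, ?_, ⟨k, ?_⟩, ?_⟩
  · exact (Subgroup.map_mono h4).trans (Subgroup.le_normalizer_map f)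
  · exact (Subgroup.map_mono h5).trans (Subgroup.le_normalizer_map f)
  · rw [Subgroup.relIndex_map_map_of_injective _ _ hf]; exact h6
  · rw [Subgroup.relIndex_map_map_of_injective _ _ hf]; exact h7
  · rw [Subgroup.relIndex_map_map_of_injective _ _ hf]; exact h8

/-- pull back along a surjective homomorphism. -/
theorem PL1.comap_of_surjective {p : ℕ} {Γ U H : Subgroup G} (h : PL1 p Γ U H) (f : G' →* G)
    (hf : Function.Surjective f) : PL1 p (Γ.comap f) (U.comap f) (H.comap f) := by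
  obtain ⟨A, B, h1, h2, h3, h4, h5, h6, ⟨k, h7⟩, h8⟩ := h
  refine ⟨A.comap f, B.comap f, Subgroup.comap_mono h1, Subgroup.comap_mono h2,
    Subgroup.comap_mono h3, ?_, ?_, ?_, ⟨k, ?_⟩, ?_⟩
  · exact (Subgroup.comap_mono h4).trans (Subgroup.le_normalizer_comap f)
  · exact (Subgroup.comap_mono h5).trans (Subgroup.le_normalizer_comap f)
  · rw [Subgroup.relIndex_comap, Subgroup.map_comap_eq_self_of_surjective hf]; exact h6
  · rw [Subgroup.relIndex_comap, Subgroup.map_comap_eq_self_of_surjective hf]; exact h7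
  · rw [Subgroup.relIndex_comap, Subgroup.map_comap_eq_self_of_surjective hf]; exact h8

end transport

end Cfsg.Agent.Lib.Helper4.ZP
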