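import Mathlib
import Cfsg.Agent.Lib.Helper7.CoprimeHall
import Cfsg.Agent.Lib.Helper7.PSer
import Cfsg.Agent.Lib.Lead.CoprimeTools
import Cfsg.Agent.Lib.Lead.CoprimeSylow3

set_option autoImplicit false

/-! General lemmas for the reduction to the split configuration. -/

namespace Cfsg.Agent.Lib.Helper4.ZP

open Cfsg
open scoped commutatorElement Pointwise

universe u

section g1

variable {G : Type u} [Group G] [Finite G]

/-- `A = U X₀` for a complement `X₀` of the normal Hall subgroup `U` of `A`. -/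
theorem sup_eq_of_card (A U X₀ : Subgroup G) (hUA : U ≤ A) (hX₀A : X₀ ≤ A)
    (hX₀U : X₀ ≤ Subgroup.normalizer (U : Set G)) (m : ℕ)
    (hA : Nat.card A = m * Nat.card U) (hm : m.Coprime (Nat.card U)) (hX₀ : Nat.card X₀ = m) :
    U ⊔ X₀ = A := by
  apply Subgroup.eq_of_le_of_card_ge (sup_le hUA hX₀A)
  have hd : X₀ ⊓ U = ⊥ :=
    (Subgroup.disjoint_of_coprime_natCard (by rw [hX₀]; exact hm)).eq_bot
  have := Cfsg.Agent.Lib.Lead.card_sup_of_disjoint X₀ U hX₀U hd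
  rw [sup_comm, this, hX₀, hA]

/-- the Frattini argument for the Hall subgroup `X₀` of the normal subgroup `A`. -/
theorem frattini_hall (H A U X₀ : Subgroup G) [hAn : A.Normal] (hAH : A ≤ H) (hUA : U ≤ A)
    (hX₀A : X₀ ≤ A) (hX₀U : X₀ ≤ Subgroup.normalizer (U : Set G))
    (hsolvA : Group.IsSolvable ↥A) (m : ℕ)
    (hA : Nat.card A = m * Nat.card U) (hm : m.Coprime (Nat.card U)) (hX₀ : Nat.card X₀ = m) :
    U ⊔ (H ⊓ Subgroup.normalizer (X₀ : Set G)) = H := by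
  apply le_antisymm (sup_le (hUA.trans hAH) inf_le_left)
  intro h hh
  have hQA : MulAut.conj h • X₀ ≤ A := by
    rw [← Subgroup.Normal.conj_smul_eq_self h A]
    exact Subgroup.pointwise_smul_le_pointwise_smul_iff.mpr hX₀A
  obtain ⟨k, hkA, hk⟩ := Cfsg.Agent.Lib.Helper7.hall_conj_in_subgroup A hsolvA m (Nat.card U)
    hA hm X₀ (MulAut.conj h • X₀) hX₀A hQA hX₀
    ((Cfsg.Agent.Lib.Lead.card_conj_smul h X₀).trans hX₀)
  have h1 : k⁻¹ * h ∈ Subgroup.normalizer (X₀ : Set G) := by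
    rw [Cfsg.Agent.Lib.Lead.mem_normalizer_iff_conj_smul, map_mul, mul_smul, ← hk, ← mul_smul,
      ← map_mul, inv_mul_cancel, map_one, one_smul]
  have h2 : k⁻¹ * h ∈ H := H.mul_mem (H.inv_mem (hAH hkA)) hh
  have h3 : k ∈ U ⊔ X₀ := by
    rw [sup_eq_of_card A U X₀ hUA hX₀A hX₀U m hA hm hX₀]
    exact hkA
  have h4 : U ⊔ X₀ ≤ U ⊔ (H ⊓ Subgroup.normalizer (X₀ : Set G)) :=
    sup_le_sup_left (le_inf (hX₀A.trans hAH) Subgroup.le_normalizer) U
  have : h = k * (k⁻¹ * h) := by group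
  rw [this]
  exact Subgroup.mul_mem _ (h4 h3) (Subgroup.mem_sup_right (Subgroup.mem_inf.mpr ⟨h2, h1⟩))

/-- a normal Hall subgroup of a normal subgroup is normal. -/
theorem hall_normal_of_le_normalizer (A U X₀ : Subgroup G) [hAn : A.Normal]
    (hX₀A : X₀ ≤ A) (hAX₀ : A ≤ Subgroup.normalizer (X₀ : Set G))
    (hsolvA : Group.IsSolvable ↥A) (m : ℕ)
    (hA : Nat.card A = m * Nat.card U) (hm : m.Coprime (Nat.card U)) (hX₀ : Nat.card X₀ = m) :
    X₀.Normal := by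
  rw [← Subgroup.normalizer_eq_top_iff, eq_top_iff]
  intro g _
  have hQA : MulAut.conj g • X₀ ≤ A := by
    rw [← Subgroup.Normal.conj_smul_eq_self g A]
    exact Subgroup.pointwise_smul_le_pointwise_smul_iff.mpr hX₀A
  obtain ⟨k, hkA, hk⟩ := Cfsg.Agent.Lib.Helper7.hall_conj_in_subgroup A hsolvA m (Nat.card U)
    hA hm X₀ (MulAut.conj g • X₀) hX₀A hQA hX₀
    ((Cfsg.Agent.Lib.Lead.card_conj_smul g X₀).trans hX₀)
  rw [Cfsg.Agent.Lib.Lead.mem_normalizer_iff_conj_smul, ← hk]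
  exact (Cfsg.Agent.Lib.Lead.mem_normalizer_iff_conj_smul k X₀).mp (hAX₀ hkA)

/-- a normal `p'`-subgroup of `p`-power index and a Sylow `p`-subgroup generate. -/
theorem sup_sylow_eq (p : ℕ) [hp : Fact p.Prime] (B X : Subgroup G) (hXB : X ≤ B) (k : ℕ)
    (hidx : X.relIndex B = p ^ k) (P : Sylow p B) :
    X ⊔ (P : Subgroup B).map B.subtype = B := by
  set T := (P : Subgroup B).map B.subtype with hT
  have hTB : T ≤ B := Subgroup.map_subtype_le _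
  have hle : X ⊔ T ≤ B := sup_le hXB hTB
  have h1 : (X ⊔ T).relIndex B ∣ X.relIndex B :=
    Cfsg.Agent.Lib.Helper7.PSer.relIndex_dvd_of_between le_sup_left hle le_rfl
  have h2 : (X ⊔ T).relIndex B ∣ T.relIndex B :=
    Cfsg.Agent.Lib.Helper7.PSer.relIndex_dvd_of_between le_sup_right hle le_rfl
  have h3 : ¬ p ∣ T.relIndex B := by
    have : T.subgroupOf B = (P : Subgroup B) :=
      Subgroup.comap_map_eq_self_of_injective B.subtype_injective _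
    unfold Subgroup.relIndex
    rw [this]
    exact P.not_dvd_index
  rw [hidx] at h1
  obtain ⟨j, -, hj⟩ := (Nat.dvd_prime_pow hp.out).mp h1
  have hj0 : j = 0 := by
    by_contra hne
    apply h3
    exact (hj ▸ dvd_pow_self p hne : p ∣ (X ⊔ T).relIndex B).trans h2
  rw [hj0, pow_zero] at hj
  exact le_antisymm hle (Subgroup.relIndex_eq_one.mp hj)

/-- `N = [N, R]` when `H = U N = [H, R]` with `U` normal and `U ⊓ N = ⊥`. -/
theorem le_comm_of_split (H R U N : Subgroup G) (hUn : U.Normal) (hsup : U ⊔ N = H)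
    (hUN : U ⊓ N = ⊥) (hRN : R ≤ Subgroup.normalizer (N : Set G)) (hH : H ≤ ⁅H, R⁆) :
    N ≤ ⁅N, R⁆ := by
  haveI := hUn
  have hNH : N ≤ H := by rw [← hsup]; exact le_sup_right
  have hNRN : ⁅N, R⁆ ≤ N := Cfsg.Agent.Lib.Lead.commutator_le_left_of_le_normalizer N R hRN
  have h1 : ⁅H, R⁆ ≤ U ⊔ ⁅N, R⁆ := by
    rw [Subgroup.commutator_le]
    intro h hh g hg
    have h2 : h ∈ ((U ⊔ N : Subgroup G) : Set G) := by
      rw [hsup]; exact hh
    rw [Subgroup.normal_mul] at h2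
    obtain ⟨u, hu, n, hn, hun⟩ := Set.mem_mul.mp h2
    have e : ⁅h, g⁆ = (u * ⁅n, g⁆ * u⁻¹ * ⁅n, g⁆⁻¹) * ⁅n, g⁆ * ⁅u, g⁆ := by
      rw [← hun]
      simp only [commutatorElement_def]
      group
    rw [e]
    have hc : ⁅n, g⁆ ∈ ⁅N, R⁆ := Subgroup.commutator_mem_commutator hn hg
    have h3 : u * ⁅n, g⁆ * u⁻¹ * ⁅n, g⁆⁻¹ ∈ U := by
      have h4 : ⁅n, g⁆ * u⁻¹ * ⁅n, g⁆⁻¹ ∈ U := hUn.conj_mem _ (U.inv_mem hu) _
      have : u * ⁅n, g⁆ * u⁻¹ * ⁅n, g⁆⁻¹ = u * (⁅n, g⁆ * u⁻¹ * ⁅n, g⁆⁻¹) := by group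
      rw [this]
      exact U.mul_mem hu h4
    have h5 : ⁅u, g⁆ ∈ U := by
      have h4 : g * u⁻¹ * g⁻¹ ∈ U := hUn.conj_mem _ (U.inv_mem hu) _
      have : ⁅u, g⁆ = u * (g * u⁻¹ * g⁻¹) := by
        simp only [commutatorElement_def]; group
      rw [this]
      exact U.mul_mem hu h4
    have h6 : (u * ⁅n, g⁆ * u⁻¹ * ⁅n, g⁆⁻¹) * ⁅n, g⁆ ∈ U ⊔ ⁅N, R⁆ :=
      Subgroup.mul_mem _ (Subgroup.mem_sup_left h3) (Subgroup.mem_sup_right hc)
    exact Subgroup.mul_mem _ h6 (Subgroup.mem_sup_left h5)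
  intro n hn
  have h2 : n ∈ ((U ⊔ ⁅N, R⁆ : Subgroup G) : Set G) := h1 (hH (hNH hn))
  rw [Subgroup.normal_mul] at h2
  obtain ⟨u, hu, d, hd, hud⟩ := Set.mem_mul.mp h2
  have h3 : u ∈ N := by
    have : u = n * d⁻¹ := by rw [← hud]; group
    rw [this]
    exact N.mul_mem hn (N.inv_mem (hNRN hd))
  have h4 : u ∈ U ⊓ N := Subgroup.mem_inf.mpr ⟨hu, h3⟩
  rw [hUN, Subgroup.mem_bot] at h4
  rw [← hud, h4, one_mul]
  exact hd

end g1

end Cfsg.Agent.Lib.Helper4.ZP
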