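import Mathlib
import Cfsg.Agent.Lib.Helper4.FM10

set_option autoImplicit false

/-! A characteristic subgroup of a solvable group with elementary abelian quotient. -/

namespace Cfsg.Agent.Lib.Helper4.FM

universe u

open scoped commutatorElement

section K1

variable {X : Type u} [Group X] (H : Subgroup X) (ℓ : ℕ)

/-- the subgroup generated by commutators and `ℓ`-th powers. -/
def K1 : Subgroup X := ⁅H, H⁆ ⊔ Subgroup.closure {x | ∃ h ∈ H, h ^ ℓ = x}

theorem comm_mem_K1 (a b : X) (ha : a ∈ H) (hb : b ∈ H) : ⁅a, b⁆ ∈ K1 H ℓ :=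
  Subgroup.mem_sup_left (Subgroup.commutator_mem_commutator ha hb)

theorem pow_mem_K1 (h : X) (hh : h ∈ H) : h ^ ℓ ∈ K1 H ℓ :=
  Subgroup.mem_sup_right (Subgroup.subset_closure ⟨h, hh, rfl⟩)

theorem K1_le : K1 H ℓ ≤ H := by
  unfold K1
  apply sup_le
  · rw [Subgroup.commutator_le]
    intro a ha b hb
    exact H.mul_mem (H.mul_mem (H.mul_mem ha hb) (H.inv_mem ha)) (H.inv_mem hb)
  · rw [Subgroup.closure_le]
    rintro x ⟨h, hh, rfl⟩
    exact H.pow_mem hh ℓ

theorem conj_mem_K1 (f : X) (hf : ∀ x ∈ H, f * x * f⁻¹ ∈ H) :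
    ∀ k ∈ K1 H ℓ, f * k * f⁻¹ ∈ K1 H ℓ := by
  have key : K1 H ℓ ≤ (K1 H ℓ).comap (MulAut.conj f).toMonoidHom := by
    unfold K1
    apply sup_le
    · rw [Subgroup.commutator_le]
      intro a ha b hb
      rw [Subgroup.mem_comap]
      show MulAut.conj f ⁅a, b⁆ ∈ _
      rw [map_commutatorElement]
      apply Subgroup.mem_sup_left
      apply Subgroup.commutator_mem_commutator
      · rw [MulAut.conj_apply]
        exact hf a ha
      · rw [MulAut.conj_apply]
        exact hf b hb
    · rw [Subgroup.closure_le]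
      rintro x ⟨h, hh, rfl⟩
      rw [SetLike.mem_coe, Subgroup.mem_comap]
      show MulAut.conj f (h ^ ℓ) ∈ _
      rw [map_pow]
      apply Subgroup.mem_sup_right
      apply Subgroup.subset_closure
      refine ⟨_, ?_, rfl⟩
      rw [MulAut.conj_apply]
      exact hf h hh
  intro k hk
  have := key hk
  rw [Subgroup.mem_comap] at this
  exact this

instance K1_normal : ((K1 H ℓ).subgroupOf H).Normal :=
  normal_subgroupOf_of_forall H (K1 H ℓ)
    (fun h hh => conj_mem_K1 H ℓ h (fun x hx => H.mul_mem (H.mul_mem hh hx) (H.inv_mem hh)))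

theorem quot_K1_comm (x y : ↥H ⧸ (K1 H ℓ).subgroupOf H) : x * y = y * x := by
  induction x using QuotientGroup.induction_on with
  | H a =>
    induction y using QuotientGroup.induction_on with
    | H b =>
      rw [← QuotientGroup.mk_mul, ← QuotientGroup.mk_mul, QuotientGroup.eq,
        Subgroup.mem_subgroupOf]
      have h1 : (((a * b)⁻¹ * (b * a) : H) : X) = ⁅(b : X)⁻¹, (a : X)⁻¹⁆ := by
        rw [commutatorElement_def]
        simp only [Subgroup.coe_mul, Subgroup.coe_inv, mul_inv_rev, inv_inv]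
        group
      rw [h1]
      exact comm_mem_K1 H ℓ _ _ (H.inv_mem b.2) (H.inv_mem a.2)

theorem quot_K1_pow (x : ↥H ⧸ (K1 H ℓ).subgroupOf H) : x ^ ℓ = 1 := by
  induction x using QuotientGroup.induction_on with
  | H a =>
    rw [← QuotientGroup.mk_pow, QuotientGroup.eq_one_iff, Subgroup.mem_subgroupOf,
      Subgroup.coe_pow]
    exact pow_mem_K1 H ℓ _ a.2

theorem exists_K1_ne [Finite X] (hsolv : Group.IsSolvable H) (hH : H ≠ ⊥) :
    ∃ ℓ : ℕ, ℓ.Prime ∧ ℓ ∣ Nat.card H ∧ K1 H ℓ ≠ H := by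
  haveI : Nontrivial ↥H := (Subgroup.nontrivial_iff_ne_bot H).2 hH
  haveI := hsolv
  have hlt := Group.IsSolvable.commutator_lt_top_of_nontrivial ↥H
  have hcard : Nat.card (Abelianization ↥H) ≠ 1 := by
    intro h
    have h1 : (commutator ↥H).index = 1 := h
    rw [Subgroup.index_eq_one] at h1
    exact hlt.ne h1
  have hprime := Nat.minFac_prime hcard
  have hdvd := Nat.minFac_dvd (Nat.card (Abelianization ↥H))
  refine ⟨(Nat.card (Abelianization ↥H)).minFac, hprime, ?_, ?_⟩
  · refine hdvd.trans ?_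
    exact (commutator ↥H).index_dvd_card
  · haveI : Fact (Nat.card (Abelianization ↥H)).minFac.Prime := ⟨hprime⟩
    obtain ⟨x, hx⟩ := exists_prime_orderOf_dvd_card' _ hdvd
    set ℓ := (Nat.card (Abelianization ↥H)).minFac with hℓ
    let pw : Abelianization ↥H →* Abelianization ↥H := powMonoidHom ℓ
    have hninj : ¬ Function.Injective pw := by
      intro hinj
      have h1 : pw x = pw 1 := by
        show x ^ ℓ = 1 ^ ℓ
        rw [one_pow, ← hx, pow_orderOf_eq_one]
      have h2 := hinj h1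
      rw [h2, orderOf_one] at hx
      exact hprime.one_lt.ne hx
    have hnsurj : ¬ Function.Surjective pw := fun h => hninj (Finite.injective_iff_surjective.2 h)
    rw [Function.Surjective] at hnsurj
    push Not at hnsurj
    obtain ⟨q, hq⟩ := hnsurj
    obtain ⟨h₀, rfl⟩ := QuotientGroup.mk_surjective q
    intro heq
    have hle : K1 H ℓ ≤ (pw.range.comap Abelianization.of).map H.subtype := by
      unfold K1
      apply sup_le
      · rw [Subgroup.commutator_le]
        intro a ha b hb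
        refine ⟨⁅(⟨a, ha⟩ : H), (⟨b, hb⟩ : H)⁆, ?_, rfl⟩
        rw [SetLike.mem_coe, Subgroup.mem_comap]
        have h1 : Abelianization.of ⁅(⟨a, ha⟩ : H), (⟨b, hb⟩ : H)⁆ = 1 := by
          apply (QuotientGroup.eq_one_iff _).2
          exact Subgroup.commutator_mem_commutator (Subgroup.mem_top _) (Subgroup.mem_top _)
        rw [h1]
        exact Subgroup.one_mem _
      · rw [Subgroup.closure_le]
        rintro x ⟨h, hh, rfl⟩
        refine ⟨(⟨h, hh⟩ : H) ^ ℓ, ?_, rfl⟩
        rw [SetLike.mem_coe, Subgroup.mem_comap]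
        exact ⟨Abelianization.of ⟨h, hh⟩, (map_pow _ _ _).symm⟩
    have h1 : (h₀ : X) ∈ K1 H ℓ := by
      rw [heq]
      exact h₀.2
    obtain ⟨t, ht, hth⟩ := hle h1
    have h2 : t = h₀ := Subtype.ext hth
    rw [h2, SetLike.mem_coe, Subgroup.mem_comap] at ht
    obtain ⟨y, hy⟩ := ht
    exact hq y hy

end K1

end Cfsg.Agent.Lib.Helper4.FM
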