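import Mathlib
import Cfsg.Agent.Lib.Helper4.FM11
import Cfsg.Agent.Lib.Lead.Fpf4

set_option autoImplicit false

/-! The fixed point formula for a Frobenius-like group acting on a solvable group. -/

namespace Cfsg.Agent.Lib.Helper4.FM

open Cfsg.Agent.Lib.Lead

universe u

section nil

variable {X : Type u} [Group X] [Finite X] (U E : Subgroup X)

/-- conjugation by an element normalising `U`. -/
def conjU (e : X) (he : ∀ u ∈ U, e * u * e⁻¹ ∈ U) : ↥U →* ↥U where
  toFun u := ⟨e * (u : X) * e⁻¹, he u u.2⟩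
  map_one' := by
    apply Subtype.ext
    simp
  map_mul' a b := by
    apply Subtype.ext
    simp only [Subgroup.coe_mul]
    group

theorem conjU_iterate (e : X) (he : ∀ u ∈ U, e * u * e⁻¹ ∈ U) (n : ℕ) (u : U) :
    (((conjU U e he)^[n] u : U) : X) = e ^ n * (u : X) * (e ^ n)⁻¹ := by
  induction n with
  | zero => simp
  | succ n ih =>
    rw [Function.iterate_succ_apply']
    show e * (((conjU U e he)^[n] u : U) : X) * e⁻¹ = _
    rw [ih, pow_succ']
    group

theorem nilpotent_of_fpf_action (hE1 : E ≠ ⊥)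
    (hUn : ∀ e ∈ E, ∀ u ∈ U, e * u * e⁻¹ ∈ U)
    (hfpf : ∀ e ∈ E, e ≠ 1 → ∀ u ∈ U, e * u = u * e → u = 1) : Group.IsNilpotent U := by
  have hcard : Nat.card E ≠ 1 := by
    intro h
    exact hE1 (Subgroup.card_eq_one.1 h)
  have hp := Nat.minFac_prime hcard
  haveI : Fact (Nat.card E).minFac.Prime := ⟨hp⟩
  obtain ⟨e, he⟩ := exists_prime_orderOf_dvd_card' (G := E) _ (Nat.minFac_dvd _)
  have he1 : (e : X) ≠ 1 := by
    intro h
    have h2 : e = 1 := Subtype.ext h
    rw [h2, orderOf_one] at he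
    exact hp.one_lt.ne he
  have hpow : (e : X) ^ (Nat.card E).minFac = 1 := by
    have := pow_orderOf_eq_one e
    rw [he] at this
    have h2 := congrArg Subtype.val this
    rwa [Subgroup.coe_pow] at h2
  apply Fpf.nilpotent_of_fpf hp _ ↥U (conjU U (e : X) (hUn e e.2)) rfl
  constructor
  · intro u hu
    have h1 : (e : X) * (u : X) * (e : X)⁻¹ = u := congrArg Subtype.val hu
    have h2 : (e : X) * (u : X) = (u : X) * (e : X) := by
      have h3 : (e : X) * (u : X) = ((e : X) * (u : X) * (e : X)⁻¹) * (e : X) := by group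
      rw [h3, h1]
    exact Subtype.ext (hfpf e e.2 he1 u u.2 h2)
  · intro u
    apply Subtype.ext
    rw [conjU_iterate, hpow]
    simp

end nil

section transfer

variable {X : Type u} [Group X] (U E : Subgroup X)

theorem sup_normalizes (hUn : ∀ e ∈ E, ∀ u ∈ U, e * u * e⁻¹ ∈ U) :
    ∀ f ∈ U ⊔ E, ∀ u ∈ U, f * u * f⁻¹ ∈ U := by
  have h1 : U ⊔ E ≤ Subgroup.normalizer (U : Set X) :=
    sup_le Subgroup.le_normalizer (le_normalizer_of_forall E U hUn)
  intro f hf u hu
  exact (Subgroup.mem_normalizer_iff.1 (h1 hf) u).1 hu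

theorem normal_subgroupOf_sup (hUn : ∀ e ∈ E, ∀ u ∈ U, e * u * e⁻¹ ∈ U) :
    (U.subgroupOf (U ⊔ E)).Normal :=
  normal_subgroupOf_of_forall (U ⊔ E) U (sup_normalizes U E hUn)

theorem nilpotent_subgroupOf (hnil : Group.IsNilpotent U) :
    Group.IsNilpotent (U.subgroupOf (U ⊔ E)) := by
  haveI := hnil
  exact Group.nilpotent_of_mulEquiv (Subgroup.subgroupOfEquivOfLe (le_sup_left : U ≤ U ⊔ E)).symm

theorem fpf_subgroupOf (hfpf : ∀ e ∈ E, e ≠ 1 → ∀ u ∈ U, e * u = u * e → u = 1) :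
    ∀ e ∈ E.subgroupOf (U ⊔ E), e ≠ 1 → ∀ u ∈ U.subgroupOf (U ⊔ E), e * u = u * e → u = 1 := by
  intro e he he1 u hu heu
  apply Subtype.ext
  apply hfpf (e : X) (Subgroup.mem_subgroupOf.1 he) _ (u : X) (Subgroup.mem_subgroupOf.1 hu)
  · have := congrArg Subtype.val heu
    simpa using this
  · intro h
    exact he1 (Subtype.ext h)

theorem card_subgroupOf_of_le {A B : Subgroup X} (h : A ≤ B) :
    Nat.card (A.subgroupOf B) = Nat.card A :=
  Nat.card_congr (Subgroup.subgroupOfEquivOfLe h).toEquiv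

end transfer

section formula

variable {X : Type u} [Group X] [Finite X] (U E : Subgroup X)

theorem formula_aux (hnil : Group.IsNilpotent U)
    (hUn : ∀ e ∈ E, ∀ u ∈ U, e * u * e⁻¹ ∈ U)
    (hfpf : ∀ e ∈ E, e ≠ 1 → ∀ u ∈ U, e * u = u * e → u = 1) :
    ∀ (n : ℕ) (H : Subgroup X), Nat.card H = n →
      (∀ x ∈ U ⊔ E, ∀ h ∈ H, x * h * x⁻¹ ∈ H) → Group.IsSolvable H →
      (Nat.card H).Coprime (Nat.card ↥(U ⊔ E)) →
      Nat.card ↥(H ⊓ Subgroup.centralizer ((U ⊔ E : Subgroup X) : Set X)) ^ Nat.card E *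
          Nat.card H =
        Nat.card ↥(H ⊓ Subgroup.centralizer (E : Set X)) ^ Nat.card E *
          Nat.card ↥(H ⊓ Subgroup.centralizer (U : Set X)) := by
  intro n
  induction n using Nat.strong_induction_on with
  | _ n ih =>
    intro H hn hFH hsolv hcop
    by_cases hH : H = ⊥
    · subst hH
      simp
    · obtain ⟨ℓ, hℓ, hℓH, hK⟩ := exists_K1_ne H hsolv hH
      haveI : Fact ℓ.Prime := ⟨hℓ⟩
      have hKle := K1_le H ℓ
      have hlt : Nat.card (K1 H ℓ) < n := by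
        rw [← hn]
        apply lt_of_le_of_ne (Subgroup.card_le_of_le hKle)
        intro h
        exact hK (Subgroup.eq_of_le_of_card_ge hKle h.ge)
      have hFK : ∀ f ∈ U ⊔ E, ∀ k ∈ K1 H ℓ, f * k * f⁻¹ ∈ K1 H ℓ :=
        fun f hf => conj_mem_K1 H ℓ f (hFH f hf)
      have hHK : ∀ h ∈ H, ∀ k ∈ K1 H ℓ, h * k * h⁻¹ ∈ K1 H ℓ :=
        fun h hh => conj_mem_K1 H ℓ h
          (fun x hx => H.mul_mem (H.mul_mem hh hx) (H.inv_mem hh))
      have hsolvK : Group.IsSolvable (K1 H ℓ) := by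
        haveI := hsolv
        exact isSolvable_of_le hKle
      have hcopK : (Nat.card (K1 H ℓ)).Coprime (Nat.card ↥(U ⊔ E)) :=
        Nat.Coprime.coprime_dvd_left (Subgroup.card_dvd_of_le hKle) hcop
      have hIH := ih _ hlt (K1 H ℓ) rfl hFK hsolvK hcopK
      have hc1 := card_centralizer_eq (U ⊔ E) H (K1 H ℓ) hFH hKle hHK hFK hcop.symm hsolv
        (U ⊔ E) le_rfl
      have hc2 := card_centralizer_eq (U ⊔ E) H (K1 H ℓ) hFH hKle hHK hFK hcop.symm hsolv
        E le_sup_right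
      have hc3 := card_centralizer_eq (U ⊔ E) H (K1 H ℓ) hFH hKle hHK hFK hcop.symm hsolv
        U le_sup_left
      letI := qAct (U ⊔ E) H (K1 H ℓ) hFH hFK
      haveI := normal_subgroupOf_sup U E hUn
      haveI : Finite (U.subgroupOf (U ⊔ E)) := inferInstance
      have hℓF : ¬ ℓ ∣ Nat.card ↥(U ⊔ E) := by
        intro h
        have := Nat.dvd_gcd hℓH h
        rw [hcop] at this
        exact hℓ.one_lt.ne' (Nat.dvd_one.1 this)
      have hℓU : ¬ ℓ ∣ Nat.card (U.subgroupOf (U ⊔ E)) := fun h =>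
        hℓF (h.trans (Subgroup.card_subgroup_dvd_card _))
      have hℓE : ¬ ℓ ∣ Nat.card (E.subgroupOf (U ⊔ E)) := fun h =>
        hℓF (h.trans (Subgroup.card_subgroup_dvd_card _))
      have hℓUE : ¬ ℓ ∣ Nat.card ↥(U.subgroupOf (U ⊔ E) ⊔ E.subgroupOf (U ⊔ E)) := fun h =>
        hℓF (h.trans (Subgroup.card_subgroup_dvd_card _))
      have hform := card_fix_formula (V := ↥H ⧸ (K1 H ℓ).subgroupOf H)
        (U.subgroupOf (U ⊔ E)) (E.subgroupOf (U ⊔ E)) ℓ
        (nilpotent_subgroupOf U E hnil) (fpf_subgroupOf U E hfpf) (quot_K1_comm H ℓ)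
        (quot_K1_pow H ℓ) hℓU hℓE hℓUE
      rw [← Subgroup.subgroupOf_sup le_sup_left le_sup_right,
        card_subgroupOf_of_le (le_sup_right : E ≤ U ⊔ E)] at hform
      have hcardH : Nat.card H = Nat.card (K1 H ℓ) *
          Nat.card (↥H ⧸ (K1 H ℓ).subgroupOf H) := by
        rw [Subgroup.card_eq_card_quotient_mul_card_subgroup ((K1 H ℓ).subgroupOf H),
          card_subgroupOf_of_le hKle, mul_comm]
      rw [hc1, hc2, hc3, hcardH, mul_pow, mul_pow]
      have := congrArg₂ (· * ·) hIH hform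
      calc _ = _ := by ring
        _ = _ := this
        _ = _ := by ring

end formula

end Cfsg.Agent.Lib.Helper4.FM
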