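import Mathlib
import Cfsg.Agent.Lib.Helper4.FM8

set_option autoImplicit false

/-! The conjugation representation on endomorphisms, and a general criterion for the free
permutation of weights. -/

namespace Cfsg.Agent.Lib.Helper4.HH

open Module Cfsg.Agent.Lib.Helper4.FM

section ad

variable {K : Type*} [Field K] {G : Type*} [Group G] {Y : Type*} [AddCommGroup Y] [Module K Y]
  (ρ : Representation K G Y)

/-- the conjugation representation on endomorphisms. -/
noncomputable def ad : Representation K G (Module.End K Y) := Representation.linHom ρ ρ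

theorem ad_apply (g : G) (T : Module.End K Y) : ad ρ g T = ρ g * T * ρ g⁻¹ := by
  unfold ad
  rw [Representation.linHom_apply]
  rfl

theorem rho_mul_inv (g : G) : ρ g * ρ g⁻¹ = 1 := by
  rw [← map_mul, mul_inv_cancel, map_one]

theorem rho_inv_mul (g : G) : ρ g⁻¹ * ρ g = 1 := by
  rw [← map_mul, inv_mul_cancel, map_one]

theorem ad_eq_iff (g : G) (T : Module.End K Y) : ad ρ g T = T ↔ ρ g * T = T * ρ g := by
  rw [ad_apply]
  constructor
  · intro h
    calc ρ g * T = (ρ g * T * ρ g⁻¹) * ρ g := by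
          rw [mul_assoc, mul_assoc, rho_inv_mul, mul_one]
      _ = T * ρ g := by rw [h]
  · intro h
    rw [h, mul_assoc, rho_mul_inv, mul_one]

theorem mem_inv_ad (S : Subgroup G) (T : Module.End K Y) :
    T ∈ inv (ad ρ) S ↔ ∀ s ∈ S, ρ s * T = T * ρ s := by
  rw [mem_inv]
  constructor
  · intro h s hs
    exact (ad_eq_iff ρ s T).1 (h s hs)
  · intro h s hs
    exact (ad_eq_iff ρ s T).2 (h s hs)

theorem one_mem_inv_ad (S : Subgroup G) : (1 : Module.End K Y) ∈ inv (ad ρ) S := by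
  rw [mem_inv_ad]
  intro s _
  rw [mul_one, one_mul]

theorem ad_eq_one_of_scalar (g : G) (c : K) (h : ρ g = c • 1) : ad ρ g = 1 := by
  apply LinearMap.ext
  intro T
  rw [Module.End.one_apply, ad_eq_iff, h]
  rw [smul_mul_assoc, mul_smul_comm, one_mul, mul_one]

end ad

section free

variable {K : Type*} [Field K] {G : Type*} [Group G] {V : Type*} [AddCommGroup V] [Module K V]
  (ρ : Representation K G V) (M : Subgroup G) [hMn : M.Normal]

theorem free_of_gen (e : G)
    (hg : ∀ S : Subgroup G, (∀ m ∈ M, m⁻¹ * e⁻¹ * m * e ∈ S) → (∀ n ∈ M, ρ n = 1 → n ∈ S) → M ≤ S)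
    (hinv : inv ρ M = ⊥) :
    ∀ χ : M → K, wt ρ M χ ≠ ⊥ → conjWt M e χ ≠ χ := by
  intro χ hχ heq
  apply hχ
  rw [Submodule.eq_bot_iff]
  intro v hv
  have hle : M ≤ fixer ρ v := by
    apply hg
    · intro m hm
      show ρ (m⁻¹ * e⁻¹ * m * e) v = v
      have hmem : e⁻¹ * m * e ∈ M := by
        have := hMn.conj_mem m hm e⁻¹
        rwa [inv_inv] at this
      have h1 : ρ (e⁻¹ * m * e) v = ρ m v := by
        have h4 := (mem_wt ρ M χ v).1 hv ⟨e⁻¹ * m * e, hmem⟩
        have h2 := (mem_wt ρ M χ v).1 hv ⟨m, hm⟩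
        have h3 : conjWt M e χ ⟨m, hm⟩ = χ ⟨e⁻¹ * m * e, hmem⟩ := rfl
        rw [h4, h2, ← h3, heq]
      rw [show m⁻¹ * e⁻¹ * m * e = m⁻¹ * (e⁻¹ * m * e) by group, rho_mul_apply, h1,
        rho_inv_cancel']
    · intro n _ hn
      show ρ n v = v
      rw [hn, Module.End.one_apply]
  have hvi : v ∈ inv ρ M := fun m hm => hle hm
  rw [hinv] at hvi
  exact (Submodule.mem_bot K).1 hvi

/-- the stabiliser of a family of eigenvalues. -/
def wstab (χ : M → K) : Subgroup G where
  carrier := {g | conjWt M g χ = χ}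
  mul_mem' := by
    intro a b ha hb
    show conjWt M (a * b) χ = χ
    rw [conjWt_mul, hb, ha]
  one_mem' := conjWt_one M χ
  inv_mem' := by
    intro a ha
    show conjWt M a⁻¹ χ = χ
    have h : conjWt M a χ = χ := ha
    conv_lhs => rw [← h]
    rw [← conjWt_mul, inv_mul_cancel, conjWt_one]

theorem free_zpowers (x : G) (r : ℕ) (hr : r.Prime) (hx : x ^ r = 1)
    (h : ∀ χ : M → K, wt ρ M χ ≠ ⊥ → conjWt M x χ ≠ χ) :
    ∀ e ∈ Subgroup.zpowers x, e ≠ 1 → ∀ χ : M → K, wt ρ M χ ≠ ⊥ → conjWt M e χ ≠ χ := by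
  intro e he he1 χ hχ heq
  apply h χ hχ
  obtain ⟨i, rfl⟩ := Subgroup.mem_zpowers_iff.1 he
  have hnd : ¬ (r : ℤ) ∣ i := by
    rintro ⟨c, rfl⟩
    apply he1
    rw [zpow_mul, zpow_natCast, hx, one_zpow]
  have hcop : IsCoprime i (r : ℤ) := by
    rw [Int.isCoprime_iff_gcd_eq_one, Int.gcd_comm]
    have h1 : Nat.Coprime r i.natAbs := by
      rw [Nat.Prime.coprime_iff_not_dvd hr]
      intro h2
      exact hnd (Int.natCast_dvd.2 h2)
    simpa [Int.gcd] using h1
  obtain ⟨a, b, hab⟩ := hcop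
  have hxe : x = (x ^ i) ^ a := by
    have h1 : x ^ (a * i + b * (r : ℤ)) = x := by rw [hab, zpow_one]
    rw [zpow_add, mul_comm b, zpow_mul x (r : ℤ) b, zpow_natCast, hx, one_zpow, mul_one,
      mul_comm a, zpow_mul] at h1
    exact h1.symm
  have hmem : (x ^ i) ^ a ∈ wstab M χ := Subgroup.zpow_mem _ heq a
  rw [← hxe] at hmem
  exact hmem

end free

end Cfsg.Agent.Lib.Helper4.HH
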