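import Mathlib
import Cfsg.Agent.Lib.Helper4.HH1

set_option autoImplicit false

/-! The first inequality: the translates of the commutant by coset representatives are
independent. -/

namespace Cfsg.Agent.Lib.Helper4.HH

open Module Cfsg.Agent.Lib.Helper4.FM

open scoped commutatorElement

section indep

variable {K : Type*} [Field K] {V : Type*} [AddCommGroup V] [Module K V] [FiniteDimensional K V]
  {ι : Type*}

theorem finrank_biSup_of_indep (p : ι → Submodule K V) (h : iSupIndep p) (s : Finset ι) :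
    finrank K ↥(⨆ i ∈ s, p i) = ∑ i ∈ s, finrank K (p i) := by
  classical
  induction s using Finset.induction_on with
  | empty => simp
  | insert a s ha ih =>
    rw [Finset.iSup_insert, Finset.sum_insert ha, ← ih]
    have hd : Disjoint (p a) (⨆ i ∈ (s : Set ι), p i) := h.disjoint_biSup (by simpa using ha)
    simp only [Finset.mem_coe] at hd
    have h1 := Submodule.finrank_sup_add_finrank_inf_eq (p a) (⨆ i ∈ s, p i)
    rw [hd.eq_bot, finrank_bot, add_zero] at h1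
    exact h1

theorem sum_finrank_le_of_indep (p : ι → Submodule K V) (h : iSupIndep p) (s : Finset ι) :
    ∑ i ∈ s, finrank K (p i) ≤ finrank K V := by
  rw [← finrank_biSup_of_indep p h s]
  exact Submodule.finrank_le _

theorem sum_finrank_eq_of_indep (p : ι → Submodule K V) (h : iSupIndep p) (s : Finset ι)
    (htop : ⨆ i ∈ s, p i = ⊤) :
    ∑ i ∈ s, finrank K (p i) = finrank K V := by
  rw [← finrank_biSup_of_indep p h s, htop, finrank_top]

end indep

section sc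

variable {K : Type*} [Field K] {Y : Type*} [AddCommGroup Y] [Module K Y]

open Classical in
/-- the scalar of a scalar endomorphism. -/
noncomputable def sc (T : Module.End K Y) : K := if h : ∃ c : K, T = c • 1 then h.choose else 0

theorem sc_spec (T : Module.End K Y) (h : ∃ c : K, T = c • 1) : T = sc T • 1 := by
  unfold sc
  rw [dif_pos h]
  exact h.choose_spec

end sc

section first

variable {K : Type*} [Field K] {G : Type*} [Group G] {Y : Type*} [AddCommGroup Y] [Module K Y]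
  (ρ : Representation K G Y) (Q : Subgroup G)

/-- the weight attached to an element. -/
noncomputable def beta (v : G) : Q → K := fun u => sc (ρ ⁅(u : G), v⁆)

theorem beta_spec (H1 : ∀ u ∈ Q, ∀ v ∈ Q, ∃ c : K, ρ ⁅u, v⁆ = c • 1) (v : G) (hv : v ∈ Q)
    (u : Q) : ρ ⁅(u : G), v⁆ = beta ρ Q v u • 1 :=
  sc_spec _ (H1 u u.2 v hv)

theorem mul_mem_wt (H1 : ∀ u ∈ Q, ∀ v ∈ Q, ∃ c : K, ρ ⁅u, v⁆ = c • 1) (v : G) (hv : v ∈ Q)
    (T : Module.End K Y) (hT : T ∈ inv (ad ρ) Q) :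
    ρ v * T ∈ wt (ad ρ) Q (beta ρ Q v) := by
  rw [mem_wt]
  intro u
  rw [ad_apply]
  have h1 : T * ρ (u : G)⁻¹ = ρ (u : G)⁻¹ * T :=
    ((mem_inv_ad ρ Q T).1 hT _ (Q.inv_mem u.2)).symm
  have h2 : ρ (u : G) * ρ v * ρ (u : G)⁻¹ = ρ ⁅(u : G), v⁆ * ρ v := by
    rw [← map_mul, ← map_mul, ← map_mul]
    congr 1
    rw [commutatorElement_def]
    group
  calc ρ (u : G) * (ρ v * T) * ρ (u : G)⁻¹ = ρ (u : G) * ρ v * (T * ρ (u : G)⁻¹) := by
        simp only [mul_assoc]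
    _ = (ρ (u : G) * ρ v * ρ (u : G)⁻¹) * T := by
        rw [h1]
        simp only [mul_assoc]
    _ = beta ρ Q v u • (ρ v * T) := by
        rw [h2, beta_spec ρ Q H1 v hv u, smul_mul_assoc, smul_mul_assoc, one_mul]

theorem ad_commute (H1 : ∀ u ∈ Q, ∀ v ∈ Q, ∃ c : K, ρ ⁅u, v⁆ = c • 1) (a b : Q) :
    Commute (ad ρ (a : G)) (ad ρ (b : G)) := by
  obtain ⟨c, hc⟩ := H1 a a.2 b b.2
  have h1 : ad ρ ⁅(a : G), (b : G)⁆ = 1 := ad_eq_one_of_scalar ρ _ c hc
  have h2 : (a : G) * b = ⁅(a : G), (b : G)⁆ * (b * a) := by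
    rw [commutatorElement_def]
    group
  show ad ρ (a : G) * ad ρ (b : G) = ad ρ (b : G) * ad ρ (a : G)
  rw [← map_mul, h2, map_mul, h1, one_mul, map_mul]

theorem beta_inj (H1 : ∀ u ∈ Q, ∀ v ∈ Q, ∃ c : K, ρ ⁅u, v⁆ = c • 1)
    (Z₁ : Subgroup G) (H2 : ∀ v ∈ Q, (∀ u ∈ Q, ρ ⁅u, v⁆ = 1) → v ∈ Z₁)
    (v v' : G) (hv : v ∈ Q) (hv' : v' ∈ Q) (h : beta ρ Q v = beta ρ Q v') :
    v⁻¹ * v' ∈ Z₁ := by
  apply H2 _ (Q.mul_mem (Q.inv_mem hv) hv')
  intro u hu
  have h1 : ρ ⁅u, v⁆ = ρ ⁅u, v'⁆ := by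
    rw [beta_spec ρ Q H1 v hv ⟨u, hu⟩, beta_spec ρ Q H1 v' hv' ⟨u, hu⟩, h]
  have h2 : ⁅u, v⁻¹ * v'⁆ = v⁻¹ * ⁅u, v⁆⁻¹ * ⁅u, v'⁆ * v := by
    rw [commutatorElement_def, commutatorElement_def, commutatorElement_def]
    group
  rw [h2, map_mul, map_mul, map_mul, ← h1, mul_assoc (ρ v⁻¹), rho_inv_mul, mul_one, rho_inv_mul]

theorem first_ineq [FiniteDimensional K Y] [Finite Q]
    (H1 : ∀ u ∈ Q, ∀ v ∈ Q, ∃ c : K, ρ ⁅u, v⁆ = c • 1)
    (Z₁ : Subgroup G) (H2 : ∀ v ∈ Q, (∀ u ∈ Q, ρ ⁅u, v⁆ = 1) → v ∈ Z₁) :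
    (Z₁.subgroupOf Q).index * finrank K (inv (ad ρ) Q) ≤ finrank K Y * finrank K Y := by
  classical
  haveI : Finite (↥Q ⧸ Z₁.subgroupOf Q) := Quotient.finite _
  letI : Fintype (↥Q ⧸ Z₁.subgroupOf Q) := Fintype.ofFinite _
  let W : (↥Q ⧸ Z₁.subgroupOf Q) → (Q → K) := fun c => beta ρ Q ((Quotient.out c : Q) : G)
  have hW : Function.Injective W := by
    intro c c' h
    have h1 := beta_inj ρ Q H1 Z₁ H2 _ _ (Quotient.out c).2 (Quotient.out c').2 h
    have h2 : (QuotientGroup.mk (Quotient.out c) : ↥Q ⧸ Z₁.subgroupOf Q) =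
        QuotientGroup.mk (Quotient.out c') := by
      rw [QuotientGroup.eq]
      exact h1
    rw [QuotientGroup.out_eq', QuotientGroup.out_eq'] at h2
    exact h2
  have hind : iSupIndep (fun c => wt (ad ρ) Q (W c)) :=
    (iSupIndep_wt (ad ρ) Q (ad_commute ρ Q H1)).comp hW
  have hsum := sum_finrank_le_of_indep _ hind Finset.univ
  rw [Module.finrank_linearMap] at hsum
  have hge : ∀ c : ↥Q ⧸ Z₁.subgroupOf Q,
      finrank K (inv (ad ρ) Q) ≤ finrank K (wt (ad ρ) Q (W c)) := by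
    intro c
    have hinj : Function.Injective (LinearMap.mulLeft K (ρ ((Quotient.out c : Q) : G))) := by
      intro a b hab
      have h1 : ρ ((Quotient.out c : Q) : G) * a = ρ ((Quotient.out c : Q) : G) * b := hab
      have h2 := congrArg (fun T => ρ ((Quotient.out c : Q) : G)⁻¹ * T) h1
      simp only [← mul_assoc, rho_inv_mul, one_mul] at h2
      exact h2
    have hle : (inv (ad ρ) Q).map (LinearMap.mulLeft K (ρ ((Quotient.out c : Q) : G))) ≤
        wt (ad ρ) Q (W c) := by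
      rintro _ ⟨T, hT, rfl⟩
      exact mul_mem_wt ρ Q H1 _ (Quotient.out c).2 T hT
    calc finrank K (inv (ad ρ) Q)
        = finrank K ((inv (ad ρ) Q).map
            (LinearMap.mulLeft K (ρ ((Quotient.out c : Q) : G)))) :=
          (LinearEquiv.finrank_eq (Submodule.equivMapOfInjective _ hinj _))
      _ ≤ _ := Submodule.finrank_mono hle
  calc (Z₁.subgroupOf Q).index * finrank K (inv (ad ρ) Q)
      = ∑ _c : ↥Q ⧸ Z₁.subgroupOf Q, finrank K (inv (ad ρ) Q) := by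
        rw [Finset.sum_const, Finset.card_univ, smul_eq_mul, Subgroup.index,
          Nat.card_eq_fintype_card]
    _ ≤ ∑ c : ↥Q ⧸ Z₁.subgroupOf Q, finrank K (wt (ad ρ) Q (W c)) :=
        Finset.sum_le_sum (fun c _ => hge c)
    _ ≤ _ := hsum

end first

end Cfsg.Agent.Lib.Helper4.HH
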