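import Mathlib
import Cfsg.Agent.Lib.Helper4.HH2

set_option autoImplicit false

/-! The second inequality: the commutant of the cyclic group is small because the weights outside
the commutant of `Q` are permuted freely. -/

namespace Cfsg.Agent.Lib.Helper4.HH

open Module Cfsg.Agent.Lib.Helper4.FM

open scoped commutatorElement

section second

variable {K : Type*} [Field K] [IsAlgClosed K] {G : Type*} [Group G] {Y : Type*} [AddCommGroup Y]
  [Module K Y] [FiniteDimensional K Y] (ρ : Representation K G Y) (Q : Subgroup G)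
  [hQn : Q.Normal] [Finite Q]

theorem card_zpowers_of_prime (x : G) (r : ℕ) (hr : r.Prime) (hx : x ^ r = 1) (hx1 : x ≠ 1) :
    Nat.card (Subgroup.zpowers x) = r := by
  haveI : Fact r.Prime := ⟨hr⟩
  rw [Nat.card_zpowers, orderOf_eq_prime hx hx1]

theorem second_ineq (hQ : (Nat.card Q : K) ≠ 0)
    (H1 : ∀ u ∈ Q, ∀ v ∈ Q, ∃ c : K, ρ ⁅u, v⁆ = c • 1)
    (Z₁ : Subgroup G) (hZQ : Z₁ ≤ Q) (Hs : ∀ n ∈ Z₁, ∃ c : K, ρ n = c • 1)
    (x : G) (r : ℕ) (hr : r.Prime) (hx : x ^ r = 1) (hx1 : x ≠ 1)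
    (Hgen : ∀ S : Subgroup G, (∀ m ∈ Q, m⁻¹ * x⁻¹ * m * x ∈ S) → Z₁ ≤ S → Q ≤ S) :
    r * finrank K (inv (ad ρ) (Subgroup.zpowers x)) + finrank K (inv (ad ρ) Q) ≤
      r * finrank K (inv (ad ρ) Q) + finrank K Y * finrank K Y := by
  classical
  letI : Fintype Q := Fintype.ofFinite Q
  have hcard := card_zpowers_of_prime x r hr hx hx1
  haveI : Finite (Subgroup.zpowers x) := by
    apply Nat.finite_of_card_ne_zero
    rw [hcard]
    exact hr.ne_zero
  have hc : IsCompl (inv (ad ρ) Q) (ycomp (ad ρ) Q) := isCompl_inv_ycomp (ad ρ) Q hQ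
  have hZ : ∀ g, inv (ad ρ) Q ≤ (inv (ad ρ) Q).comap (ad ρ g) := inv_invariant (ad ρ) Q
  have hY : ∀ g, ycomp (ad ρ) Q ≤ (ycomp (ad ρ) Q).comap (ad ρ g) := ycomp_invariant (ad ρ) Q
  have hadd := finrank_inv_add (ad ρ) _ _ hZ hY hc (Subgroup.zpowers x)
  have hle1 : finrank K (inv ((ad ρ).subrepresentation _ hZ) (Subgroup.zpowers x)) ≤
      finrank K (inv (ad ρ) Q) := Submodule.finrank_le _
  have hcomm' : ∀ a b : Q, Commute ((ad ρ).subrepresentation _ hY (a : G))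
      ((ad ρ).subrepresentation _ hY (b : G)) :=
    fun a b => sub_commute (ad ρ) _ hY _ _ (ad_commute ρ Q H1 a b)
  have hindep := iSupIndep_wt ((ad ρ).subrepresentation _ hY) Q hcomm'
  have hspan := iSup_wt_eq_top ((ad ρ).subrepresentation _ hY) Q hcomm' hQ
  have hinv' : inv ((ad ρ).subrepresentation _ hY) Q = ⊥ :=
    inv_sub_eq_bot (ad ρ) _ hY Q hc.inf_eq_bot
  have hfree_x : ∀ χ : Q → K, wt ((ad ρ).subrepresentation _ hY) Q χ ≠ ⊥ →
      conjWt Q x χ ≠ χ := by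
    apply free_of_gen _ Q x _ hinv'
    intro S hS hn
    apply Hgen S hS
    intro n hnZ
    apply hn n (hZQ hnZ)
    obtain ⟨c, hc'⟩ := Hs n hnZ
    have h1 : ad ρ n = ad ρ 1 := by
      rw [ad_eq_one_of_scalar ρ n c hc', map_one]
    rw [sub_eq_of_eq (ad ρ) _ hY n 1 h1, map_one]
  have hfree := free_zpowers _ Q x r hr hx hfree_x
  obtain ⟨h1, h2⟩ := finrank_eq_of_free _ Q (Subgroup.zpowers x) hindep hspan hfree
  have h3 := finrank_add_of_isCompl _ _ hc
  rw [Module.finrank_linearMap] at h3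
  rw [hcard] at h1
  rw [hadd, h2, h3, h1, mul_add]
  have := Nat.mul_le_mul_left r hle1
  omega

end second

end Cfsg.Agent.Lib.Helper4.HH
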