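import Mathlib
import Cfsg.Agent.Lib.Helper4.HH3

set_option autoImplicit false

/-! The third inequality: a semisimple operator with at most `r - 1` eigenvalues has a large
commutant. -/

namespace Cfsg.Agent.Lib.Helper4.HH

open Module Cfsg.Agent.Lib.Helper4.FM

section emu

variable {K : Type*} [Field K] {Y : Type*} [AddCommGroup Y] [Module K Y]

/-- the endomorphisms with image in the `μ`-eigenspace that kill the image of `f - μ`. -/
def emu (f : Module.End K Y) (μ : K) : Submodule K (Module.End K Y) where
  carrier := {T | f * T = μ • T ∧ T * f = μ • T}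
  add_mem' := by
    rintro a b ⟨ha, ha'⟩ ⟨hb, hb'⟩
    exact ⟨by rw [mul_add, ha, hb, smul_add], by rw [add_mul, ha', hb', smul_add]⟩
  zero_mem' := ⟨by simp, by simp⟩
  smul_mem' := by
    rintro c a ⟨ha, ha'⟩
    exact ⟨by rw [mul_smul_comm, ha, smul_comm], by rw [smul_mul_assoc, ha', smul_comm]⟩

theorem emu_le_eigenspace (f : Module.End K Y) (μ : K) :
    emu f μ ≤ Module.End.eigenspace (LinearMap.mulLeft K f) μ := by
  intro T hT
  rw [Module.End.mem_eigenspace_iff]
  exact hT.1

theorem emu_indep (f : Module.End K Y) : iSupIndep (emu f) :=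
  (Module.End.eigenspaces_iSupIndep (LinearMap.mulLeft K f)).mono (emu_le_eigenspace f)

/-- the embedding of `Hom(Y / im (f - μ), ker (f - μ))` into the endomorphisms. -/
noncomputable def emuMap (f : Module.End K Y) (μ : K) :
    ((Y ⧸ LinearMap.range (f - μ • (1 : Module.End K Y))) →ₗ[K] Module.End.eigenspace f μ) →ₗ[K]
      Module.End K Y where
  toFun φ := (Module.End.eigenspace f μ).subtype ∘ₗ φ ∘ₗ
    (LinearMap.range (f - μ • (1 : Module.End K Y))).mkQ
  map_add' := by
    intro a b
    ext y
    simp
  map_smul' := by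
    intro c a
    ext y
    simp

theorem emuMap_apply (f : Module.End K Y) (μ : K)
    (φ : (Y ⧸ LinearMap.range (f - μ • (1 : Module.End K Y))) →ₗ[K] Module.End.eigenspace f μ)
    (y : Y) : emuMap f μ φ y =
      (φ ((LinearMap.range (f - μ • (1 : Module.End K Y))).mkQ y) : Y) := rfl

theorem emuMap_injective (f : Module.End K Y) (μ : K) : Function.Injective (emuMap f μ) := by
  intro a b hab
  apply LinearMap.ext
  intro z
  obtain ⟨y, rfl⟩ := Submodule.mkQ_surjective _ z
  apply Subtype.ext
  have := LinearMap.congr_fun hab y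
  rw [emuMap_apply, emuMap_apply] at this
  exact this

theorem emuMap_mem (f : Module.End K Y) (μ : K)
    (φ : (Y ⧸ LinearMap.range (f - μ • (1 : Module.End K Y))) →ₗ[K] Module.End.eigenspace f μ) :
    emuMap f μ φ ∈ emu f μ := by
  constructor
  · apply LinearMap.ext
    intro y
    rw [Module.End.mul_apply, LinearMap.smul_apply, emuMap_apply]
    exact Module.End.mem_eigenspace_iff.1 (φ _).2
  · apply LinearMap.ext
    intro y
    rw [Module.End.mul_apply, LinearMap.smul_apply, emuMap_apply, emuMap_apply]
    have h1 : (LinearMap.range (f - μ • (1 : Module.End K Y))).mkQ (f y) =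
        μ • (LinearMap.range (f - μ • (1 : Module.End K Y))).mkQ y := by
      rw [← map_smul]
      show Submodule.Quotient.mk (f y) = Submodule.Quotient.mk (μ • y)
      rw [Submodule.Quotient.eq]
      refine ⟨y, ?_⟩
      rw [LinearMap.sub_apply, LinearMap.smul_apply, Module.End.one_apply]
    rw [h1, map_smul]
    rfl

theorem finrank_emu_ge [FiniteDimensional K Y] (f : Module.End K Y) (μ : K) :
    finrank K (Module.End.eigenspace f μ) * finrank K (Module.End.eigenspace f μ) ≤
      finrank K (emu f μ) := by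
  have h1 : finrank K (Y ⧸ LinearMap.range (f - μ • (1 : Module.End K Y))) =
      finrank K (Module.End.eigenspace f μ) := by
    have h2 := Submodule.finrank_quotient_add_finrank
      (LinearMap.range (f - μ • (1 : Module.End K Y)))
    have h3 := LinearMap.finrank_range_add_finrank_ker (f - μ • (1 : Module.End K Y))
    rw [Module.End.eigenspace_def]
    omega
  have h4 : finrank K ((Y ⧸ LinearMap.range (f - μ • (1 : Module.End K Y))) →ₗ[K]
      Module.End.eigenspace f μ) = finrank K (LinearMap.range (emuMap f μ)) :=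
    (LinearMap.finrank_range_of_inj (emuMap_injective f μ)).symm
  have h5 : LinearMap.range (emuMap f μ) ≤ emu f μ := by
    rintro _ ⟨φ, rfl⟩
    exact emuMap_mem f μ φ
  have h6 := Submodule.finrank_mono h5
  rw [← h4, Module.finrank_linearMap, h1] at h6
  exact h6

end emu

section third

variable {K : Type*} [Field K] [IsAlgClosed K] {G : Type*} [Group G] {Y : Type*} [AddCommGroup Y]
  [Module K Y] [FiniteDimensional K Y] (ρ : Representation K G Y)

theorem iSup_eigenspace_eq_top (x : G) (r : ℕ) (hrK : (r : K) ≠ 0) (hx : x ^ r = 1) :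
    ⨆ μ : K, Module.End.eigenspace (ρ x) μ = ⊤ := by
  have hss : Module.End.IsFinitelySemisimple (ρ x) :=
    (isSemisimple_of_pow ρ x r hrK hx).isFinitelySemisimple
  rw [← Module.End.iSup_maxGenEigenspace_eq_top (ρ x)]
  congr 1
  funext μ
  rw [hss.maxGenEigenspace_eq_eigenspace]

theorem emu_le_inv (x : G) (μ : K) : emu (ρ x) μ ≤ inv (ad ρ) (Subgroup.zpowers x) := by
  intro T hT
  have hx : x ∈ fixer (ad ρ) T := by
    show ad ρ x T = T
    rw [ad_eq_iff, hT.1, hT.2]
  have hle : Subgroup.zpowers x ≤ fixer (ad ρ) T := (Subgroup.zpowers_le).2 hx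
  intro s hs
  exact hle hs

theorem third_ineq (x : G) (r : ℕ) (hr : r.Prime) (hx : x ^ r = 1) (hrK : (r : K) ≠ 0)
    (H4 : inv ρ (Subgroup.zpowers x) = ⊥) :
    finrank K Y * finrank K Y ≤ (r - 1) * finrank K (inv (ad ρ) (Subgroup.zpowers x)) := by
  classical
  set S : Finset K := (Polynomial.nthRootsFinset r (1 : K)).erase 1 with hS
  have hout : ∀ μ : K, μ ∉ S → Module.End.eigenspace (ρ x) μ = ⊥ := by
    intro μ hμ
    rw [Submodule.eq_bot_iff]
    intro v hv
    by_contra hv0
    apply hμ
    rw [Module.End.mem_eigenspace_iff] at hv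
    have hpow : ∀ n : ℕ, ρ (x ^ n) v = μ ^ n • v := by
      intro n
      induction n with
      | zero => simp
      | succ n ih => rw [pow_succ, rho_mul_apply, hv, map_smul, ih, smul_smul, pow_succ, mul_comm]
    have h1 := hpow r
    rw [hx, map_one, Module.End.one_apply] at h1
    have h2 : (μ ^ r - 1) • v = 0 := by rw [sub_smul, one_smul, ← h1, sub_self]
    have h3 : μ ^ r = 1 := by
      rcases smul_eq_zero.1 h2 with h | h
      · exact sub_eq_zero.1 h
      · exact absurd h hv0
    rw [hS, Finset.mem_erase, Polynomial.mem_nthRootsFinset hr.pos]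
    refine ⟨?_, h3⟩
    rintro rfl
    rw [one_smul] at hv
    have hxf : x ∈ fixer ρ v := hv
    have hle : Subgroup.zpowers x ≤ fixer ρ v := (Subgroup.zpowers_le).2 hxf
    have hvi : v ∈ inv ρ (Subgroup.zpowers x) := fun s hs => hle hs
    rw [H4] at hvi
    exact hv0 ((Submodule.mem_bot K).1 hvi)
  have htop : ⨆ μ ∈ S, Module.End.eigenspace (ρ x) μ = ⊤ := by
    rw [eq_top_iff, ← iSup_eigenspace_eq_top ρ x r hrK hx]
    apply iSup_le
    intro μ
    by_cases hμ : μ ∈ S
    · exact le_biSup (fun μ => Module.End.eigenspace (ρ x) μ) hμ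
    · rw [hout μ hμ]
      exact bot_le
  have hD := sum_finrank_eq_of_indep _ (Module.End.eigenspaces_iSupIndep (ρ x)) S htop
  have hE : ∑ μ ∈ S, finrank K (emu (ρ x) μ) ≤
      finrank K (inv (ad ρ) (Subgroup.zpowers x)) := by
    rw [← finrank_biSup_of_indep _ (emu_indep (ρ x)) S]
    apply Submodule.finrank_mono
    apply iSup₂_le
    intro μ _
    exact emu_le_inv ρ x μ
  have hcard : S.card ≤ r - 1 := by
    have h1 : (1 : K) ∈ Polynomial.nthRootsFinset r (1 : K) := by
      rw [Polynomial.mem_nthRootsFinset hr.pos, one_pow]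
    rw [hS, Finset.card_erase_of_mem h1]
    apply Nat.sub_le_sub_right
    rw [Polynomial.nthRootsFinset_def]
    exact le_trans (Multiset.toFinset_card_le _) (Polynomial.card_nthRoots r 1)
  have hcs := sq_sum_le_card_mul_sum_sq (s := S)
    (f := fun μ => finrank K (Module.End.eigenspace (ρ x) μ))
  rw [hD] at hcs
  calc finrank K Y * finrank K Y = finrank K Y ^ 2 := (sq _).symm
    _ ≤ S.card * ∑ μ ∈ S, finrank K (Module.End.eigenspace (ρ x) μ) ^ 2 := hcs
    _ ≤ (r - 1) * finrank K (inv (ad ρ) (Subgroup.zpowers x)) := by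
        apply Nat.mul_le_mul hcard
        refine le_trans ?_ hE
        apply Finset.sum_le_sum
        intro μ _
        rw [sq]
        exact finrank_emu_ge (ρ x) μ

end third

end Cfsg.Agent.Lib.Helper4.HH
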