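import Mathlib
import Cfsg.Agent.Lib.Helper4.HH4

set_option autoImplicit false

/-! The core bound: `|Q : Z₁| ≤ (r - 1) ^ 2`. -/

namespace Cfsg.Agent.Lib.Helper4.HH

open Module Cfsg.Agent.Lib.Helper4.FM

open scoped commutatorElement

section core

variable {K : Type*} [Field K] [IsAlgClosed K] {G : Type*} [Group G] {Y : Type*} [AddCommGroup Y]
  [Module K Y] [FiniteDimensional K Y] (ρ : Representation K G Y) (Q : Subgroup G)
  [hQn : Q.Normal] [Finite Q]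

theorem core_arith (M c D2 dE s : ℕ) (hc : 1 ≤ c) (h1 : M * c ≤ D2)
    (h2 : (s + 1) * dE + c ≤ (s + 1) * c + D2) (h3 : D2 ≤ s * dE) : M ≤ s ^ 2 := by
  have h4 : (s + 1) * dE ≤ s * c + D2 := by
    have : (s + 1) * c = s * c + c := by ring
    omega
  have h5 : s * ((s + 1) * dE) ≤ s * (s * c + D2) := Nat.mul_le_mul_left s h4
  have h6 : (s + 1) * D2 ≤ (s + 1) * (s * dE) := Nat.mul_le_mul_left (s + 1) h3
  have h7 : D2 ≤ s * s * c := by
    have e1 : (s + 1) * (s * dE) = s * ((s + 1) * dE) := by ring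
    have e2 : s * (s * c + D2) = s * s * c + s * D2 := by ring
    have e3 : (s + 1) * D2 = s * D2 + D2 := by ring
    omega
  have h8 : M * c ≤ s ^ 2 * c := by
    rw [sq]
    exact le_trans h1 h7
  exact Nat.le_of_mul_le_mul_right h8 hc

theorem core_bound [Nontrivial Y] (hQ : (Nat.card Q : K) ≠ 0)
    (H1 : ∀ u ∈ Q, ∀ v ∈ Q, ∃ c : K, ρ ⁅u, v⁆ = c • 1)
    (Z₁ : Subgroup G) (hZQ : Z₁ ≤ Q) (Hs : ∀ n ∈ Z₁, ∃ c : K, ρ n = c • 1)
    (H2 : ∀ v ∈ Q, (∀ u ∈ Q, ρ ⁅u, v⁆ = 1) → v ∈ Z₁)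
    (x : G) (r : ℕ) (hr : r.Prime) (hx : x ^ r = 1) (hrK : (r : K) ≠ 0)
    (Hgen : ∀ S : Subgroup G, (∀ m ∈ Q, m⁻¹ * x⁻¹ * m * x ∈ S) → Z₁ ≤ S → Q ≤ S)
    (H4 : inv ρ (Subgroup.zpowers x) = ⊥) :
    (Z₁.subgroupOf Q).index ≤ (r - 1) ^ 2 := by
  have hx1 : x ≠ 1 := by
    rintro rfl
    obtain ⟨y, hy⟩ := exists_ne (0 : Y)
    have hyi : y ∈ inv ρ (Subgroup.zpowers (1 : G)) := by
      intro s hs
      rw [Subgroup.zpowers_one_eq_bot, Subgroup.mem_bot] at hs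
      rw [hs, map_one, Module.End.one_apply]
    rw [H4] at hyi
    exact hy ((Submodule.mem_bot K).1 hyi)
  have h1 := first_ineq ρ Q H1 Z₁ H2
  have h2 := second_ineq ρ Q hQ H1 Z₁ hZQ Hs x r hr hx hx1 Hgen
  have h3 := third_ineq ρ x r hr hx hrK H4
  have hc : 1 ≤ finrank K (inv (ad ρ) Q) := by
    rw [Nat.one_le_iff_ne_zero]
    intro h0
    have hbot := Submodule.finrank_eq_zero.1 h0
    have h1m := one_mem_inv_ad ρ Q
    rw [hbot, Submodule.mem_bot] at h1m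
    obtain ⟨y, hy⟩ := exists_ne (0 : Y)
    apply hy
    have := LinearMap.congr_fun h1m y
    rwa [Module.End.one_apply, LinearMap.zero_apply] at this
  obtain ⟨s, hs⟩ : ∃ s, r = s + 1 := ⟨r - 1, by have := hr.two_le; omega⟩
  rw [hs] at h2 h3 ⊢
  rw [Nat.add_sub_cancel] at h3 ⊢
  exact core_arith _ _ _ _ s hc h1 h2 h3

end core

end Cfsg.Agent.Lib.Helper4.HH
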