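import Mathlib
import Cfsg.Agent.Lib.Helper4.HH5
import Cfsg.Agent.Lib.Helper4.FM11
import Cfsg.Agent.Lib.Lead.CoprimeAction

set_option autoImplicit false

/-! Group theoretic lemmas: generation by commutators with a cyclic group, and the structure of a
minimal non-centralised invariant subgroup. -/

namespace Cfsg.Agent.Lib.Helper4.HH

open Cfsg.Agent.Lib.Helper4.FM Cfsg.Agent.Lib.Lead

open scoped commutatorElement

universe u

section gen

variable {G : Type*} [Group G]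

theorem le_norm_iff (R B : Subgroup G) :
    R ≤ Subgroup.normalizer (B : Set G) ↔ ∀ r ∈ R, ∀ b ∈ B, r * b * r⁻¹ ∈ B := by
  constructor
  · intro h r hr b hb
    exact ((Subgroup.mem_normalizer_iff.mp (h hr)) b).mp hb
  · intro h r hr
    rw [Subgroup.mem_normalizer_iff]
    intro b
    constructor
    · exact h r hr b
    · intro hb
      have := h r⁻¹ (R.inv_mem hr) _ hb
      simpa [mul_assoc] using this

theorem le_normalizer_comm_right (A K : Subgroup G) :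
    K ≤ Subgroup.normalizer ((⁅A, K⁆ : Subgroup G) : Set G) := by
  rw [le_norm_iff]
  intro k' hk' z hz
  rw [Subgroup.commutator_def] at hz
  induction hz using Subgroup.closure_induction with
  | mem z hz =>
    obtain ⟨a, ha, k, hk, rfl⟩ := hz
    have e : k' * ⁅a, k⁆ * k'⁻¹ = ⁅a, k'⁆⁻¹ * ⁅a, k' * k⁆ := by
      rw [commutatorElement_def, commutatorElement_def, commutatorElement_def]; group
    rw [e]
    exact Subgroup.mul_mem _ (Subgroup.inv_mem _ (Subgroup.commutator_mem_commutator ha hk'))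
      (Subgroup.commutator_mem_commutator ha (K.mul_mem hk' hk))
  | one => simp
  | mul x y _ _ hx hy =>
    have e : k' * (x * y) * k'⁻¹ = (k' * x * k'⁻¹) * (k' * y * k'⁻¹) := by group
    rw [e]; exact Subgroup.mul_mem _ hx hy
  | inv x _ hx =>
    have e : k' * x⁻¹ * k'⁻¹ = (k' * x * k'⁻¹)⁻¹ := by group
    rw [e]; exact Subgroup.inv_mem _ hx

theorem le_normalizer_comm_left (A K : Subgroup G) :
    A ≤ Subgroup.normalizer ((⁅A, K⁆ : Subgroup G) : Set G) := by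
  rw [Subgroup.commutator_comm]
  exact le_normalizer_comm_right K A

theorem comm_le_left_of_normalizes (Q X : Subgroup G)
    (hXQ : X ≤ Subgroup.normalizer (Q : Set G)) : ⁅Q, X⁆ ≤ Q := by
  rw [Subgroup.commutator_le]
  intro m hm y hy
  rw [commutatorElement_def]
  have h1 : y * m⁻¹ * y⁻¹ ∈ Q := ((le_norm_iff X Q).1 hXQ) y hy m⁻¹ (Q.inv_mem hm)
  have e : m * y * m⁻¹ * y⁻¹ = m * (y * m⁻¹ * y⁻¹) := by group
  rw [e]
  exact Q.mul_mem hm h1

theorem gen_pow (Q S : Subgroup G) (x : G) (hxQ : ∀ m ∈ Q, x⁻¹ * m * x ∈ Q)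
    (hS : ∀ m ∈ Q, m⁻¹ * x⁻¹ * m * x ∈ S) (k : ℕ) :
    ∀ m ∈ Q, m⁻¹ * (x ^ k)⁻¹ * m * x ^ k ∈ S := by
  induction k with
  | zero =>
    intro m _
    simp [S.one_mem]
  | succ k ih =>
    intro m hm
    have e : m⁻¹ * (x ^ (k + 1))⁻¹ * m * x ^ (k + 1) = (m⁻¹ * x⁻¹ * m * x) *
        ((x⁻¹ * m * x)⁻¹ * (x ^ k)⁻¹ * (x⁻¹ * m * x) * x ^ k) := by
      rw [pow_succ']
      group
    rw [e]
    exact S.mul_mem (hS m hm) (ih _ (hxQ m hm))

theorem comm_le_of_gen (Q S : Subgroup G) (x : G) (hfin : IsOfFinOrder x)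
    (hxQ : ∀ m ∈ Q, x⁻¹ * m * x ∈ Q) (hS : ∀ m ∈ Q, m⁻¹ * x⁻¹ * m * x ∈ S) :
    ⁅Q, Subgroup.zpowers x⁆ ≤ S := by
  rw [Subgroup.commutator_le]
  intro m hm y hy
  have h1 : y⁻¹ ∈ Submonoid.powers x :=
    hfin.mem_powers_iff_mem_zpowers.2 ((Subgroup.zpowers x).inv_mem hy)
  obtain ⟨k, hk⟩ := h1
  have h2 := gen_pow Q S x hxQ hS k m⁻¹ (Q.inv_mem hm)
  have hk' : x ^ k = y⁻¹ := hk
  rw [hk', inv_inv, inv_inv] at h2
  rw [commutatorElement_def]
  exact h2

end gen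

section fin

variable {G : Type u} [Group G] [Finite G]

theorem exists_fixed_mul_comm (Q X : Subgroup G) (hXQ : X ≤ Subgroup.normalizer (Q : Set G))
    (hcop : (Nat.card X).Coprime (Nat.card Q))
    (hsolv : Group.IsSolvable X ∨ Group.IsSolvable Q) (k : G) (hk : k ∈ Q) :
    ∃ c ∈ Q ⊓ Subgroup.centralizer (X : Set G), k⁻¹ * c ∈ ⁅Q, X⁆ := by
  apply coprime_fixed_coset X Q hXQ hcop hsolv ⁅Q, X⁆ (comm_le_left_of_normalizes Q X hXQ)
    (le_normalizer_comm_left Q X) (le_normalizer_comm_right Q X) k hk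
  intro a ha
  have e : a * k * a⁻¹ * k⁻¹ = ⁅a, k⁆ := by rw [commutatorElement_def]
  rw [e, Subgroup.commutator_comm]
  exact Subgroup.commutator_mem_commutator ha hk

theorem gen_of_coprime (Q : Subgroup G) (x : G)
    (hXQ : Subgroup.zpowers x ≤ Subgroup.normalizer (Q : Set G))
    (hcop : (Nat.card (Subgroup.zpowers x)).Coprime (Nat.card Q))
    (hsolv : Group.IsSolvable Q) (Z₁ : Subgroup G)
    (hZ : Q ⊓ Subgroup.centralizer ((Subgroup.zpowers x : Subgroup G) : Set G) ≤ Z₁) :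
    ∀ S : Subgroup G, (∀ m ∈ Q, m⁻¹ * x⁻¹ * m * x ∈ S) → Z₁ ≤ S → Q ≤ S := by
  intro S hS hZS k hk
  obtain ⟨c, hc, hkc⟩ := exists_fixed_mul_comm Q (Subgroup.zpowers x) hXQ hcop (Or.inr hsolv) k hk
  have hxQ : ∀ m ∈ Q, x⁻¹ * m * x ∈ Q := by
    intro m hm
    have h1 : x⁻¹ ∈ Subgroup.normalizer (Q : Set G) :=
      hXQ ((Subgroup.zpowers x).inv_mem (Subgroup.mem_zpowers x))
    have := ((le_norm_iff _ Q).1 (le_refl _)) x⁻¹ h1 m hm
    rwa [inv_inv] at this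
  have h2 : ⁅Q, Subgroup.zpowers x⁆ ≤ S := comm_le_of_gen Q S x (isOfFinOrder_of_finite x) hxQ hS
  have h3 : k = c * (k⁻¹ * c)⁻¹ := by group
  rw [h3]
  exact S.mul_mem (hZS (hZ hc)) (S.inv_mem (h2 hkc))

end fin

end Cfsg.Agent.Lib.Helper4.HH
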