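import Mathlib
import Cfsg.Agent.Lib.Helper4.HH6

set_option autoImplicit false

/-! The structure of a minimal invariant subgroup that is not centralised by an element of prime
order. -/

namespace Cfsg.Agent.Lib.Helper4.HH

open Cfsg.Agent.Lib.Helper4.FM Cfsg.Agent.Lib.Lead

open scoped commutatorElement

universe u

section cz

variable {G : Type*} [Group G]

theorem mem_centralizer_zpowers_iff (m x : G) :
    m ∈ Subgroup.centralizer ((Subgroup.zpowers x : Subgroup G) : Set G) ↔ x * m = m * x := by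
  rw [Subgroup.mem_centralizer_iff]
  constructor
  · intro h
    exact h x (Subgroup.mem_zpowers x)
  · intro h y hy
    obtain ⟨i, rfl⟩ := Subgroup.mem_zpowers_iff.1 hy
    have hc : Commute x m := h
    exact (hc.zpow_left i).eq

end cz

section minimal

variable {G : Type u} [Group G] [Finite G] (Q : Subgroup G) [hQn : Q.Normal] (x : G) (q r : ℕ)

theorem min_coprime (hq : q.Prime) (hr : r.Prime) (hqr : q ≠ r) (hQ : IsPGroup q Q)
    (hx : x ^ r = 1) (hx1 : x ≠ 1) :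
    (Nat.card (Subgroup.zpowers x)).Coprime (Nat.card Q) := by
  haveI : Fact q.Prime := ⟨hq⟩
  rw [card_zpowers_of_prime x r hr hx hx1]
  obtain ⟨n, hn⟩ := IsPGroup.iff_card.1 hQ
  rw [hn]
  exact Nat.Coprime.pow_right n ((Nat.coprime_primes hr hq).2 hqr.symm)

theorem min_solvable (hq : q.Prime) (hQ : IsPGroup q Q) : Group.IsSolvable Q := by
  haveI : Fact q.Prime := ⟨hq⟩
  haveI := hQ.isNilpotent
  infer_instance

theorem min_normalizes : Subgroup.zpowers x ≤ Subgroup.normalizer (Q : Set G) := by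
  rw [Subgroup.normalizer_eq_top]
  exact le_top

theorem min_conj_mem (m : G) (hm : m ∈ Q) : x * m * x⁻¹ ∈ Q := hQn.conj_mem m hm x

theorem min_K1 (hq : q.Prime) (hQ : IsPGroup q Q)
    (hmin : ∀ P : Subgroup G, P ≤ Q → (∀ m ∈ P, x * m * x⁻¹ ∈ P) → P ≠ Q →
      ∀ m ∈ P, x * m = m * x)
    (hnc : ∃ u ∈ Q, x * u ≠ u * x) :
    ∀ m ∈ K1 Q q, x * m = m * x := by
  have hQbot : Q ≠ ⊥ := by
    rintro rfl
    obtain ⟨u, hu, hxu⟩ := hnc
    rw [Subgroup.mem_bot] at hu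
    apply hxu
    rw [hu, mul_one, one_mul]
  haveI : Fact q.Prime := ⟨hq⟩
  obtain ⟨ℓ, hℓ, hℓd, hne⟩ := exists_K1_ne Q (min_solvable Q q hq hQ) hQbot
  obtain ⟨n, hn⟩ := IsPGroup.iff_card.1 hQ
  rw [hn] at hℓd
  have hℓq : ℓ = q := (Nat.prime_dvd_prime_iff_eq hℓ hq).1 (hℓ.dvd_of_dvd_pow hℓd)
  rw [hℓq] at hne
  exact hmin (K1 Q q) (K1_le Q q) (conj_mem_K1 Q q x (min_conj_mem Q x)) hne

theorem min_comm (hq : q.Prime) (hr : r.Prime) (hqr : q ≠ r) (hQ : IsPGroup q Q)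
    (hx : x ^ r = 1) (hx1 : x ≠ 1)
    (hmin : ∀ P : Subgroup G, P ≤ Q → (∀ m ∈ P, x * m * x⁻¹ ∈ P) → P ≠ Q →
      ∀ m ∈ P, x * m = m * x)
    (hnc : ∃ u ∈ Q, x * u ≠ u * x) :
    ⁅Q, Subgroup.zpowers x⁆ = Q := by
  by_contra hne
  have hNQ : ⁅Q, Subgroup.zpowers x⁆ ≤ Q :=
    comm_le_left_of_normalizes Q _ (min_normalizes Q x)
  have hinv : ∀ m ∈ ⁅Q, Subgroup.zpowers x⁆, x * m * x⁻¹ ∈ ⁅Q, Subgroup.zpowers x⁆ := by
    intro m hm
    exact (le_norm_iff _ _).1 (le_normalizer_comm_right Q (Subgroup.zpowers x)) x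
      (Subgroup.mem_zpowers x) m hm
  have hN := hmin _ hNQ hinv hne
  obtain ⟨u, hu, hxu⟩ := hnc
  apply hxu
  obtain ⟨c, hc, hkc⟩ := exists_fixed_mul_comm Q (Subgroup.zpowers x) (min_normalizes Q x)
    (min_coprime Q x q r hq hr hqr hQ hx hx1) (Or.inr (min_solvable Q q hq hQ)) u hu
  have h1 : x * c = c * x := (mem_centralizer_zpowers_iff c x).1 hc.2
  have h2 := hN _ hkc
  have h3 : u = c * (u⁻¹ * c)⁻¹ := by group
  have h4 : x * (u⁻¹ * c)⁻¹ = (u⁻¹ * c)⁻¹ * x := by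
    have : Commute x (u⁻¹ * c) := h2
    exact this.inv_right.eq
  rw [h3, ← mul_assoc, h1, mul_assoc, h4, ← mul_assoc]

theorem min_central (hq : q.Prime) (hr : r.Prime) (hqr : q ≠ r) (hQ : IsPGroup q Q)
    (hx : x ^ r = 1) (hx1 : x ≠ 1)
    (hmin : ∀ P : Subgroup G, P ≤ Q → (∀ m ∈ P, x * m * x⁻¹ ∈ P) → P ≠ Q →
      ∀ m ∈ P, x * m = m * x)
    (hnc : ∃ u ∈ Q, x * u ≠ u * x) :
    ∀ c ∈ Q, x * c = c * x → ∀ m ∈ Q, c * m = m * c := by
  set C : Subgroup G := Q ⊓ Subgroup.centralizer ((Subgroup.zpowers x : Subgroup G) : Set G)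
    with hC
  have hK := min_K1 Q x q hq hQ hmin hnc
  have h1 : ⁅⁅Subgroup.zpowers x, C⁆, Q⁆ = ⊥ := by
    have : ⁅Subgroup.zpowers x, C⁆ = ⊥ := by
      rw [Subgroup.commutator_comm, Subgroup.commutator_eq_bot_iff_le_centralizer]
      exact inf_le_right
    rw [this, Subgroup.commutator_bot_left]
  have h2 : ⁅⁅C, Q⁆, Subgroup.zpowers x⁆ = ⊥ := by
    rw [Subgroup.commutator_eq_bot_iff_le_centralizer, Subgroup.commutator_le]
    intro c hc m hm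
    rw [mem_centralizer_zpowers_iff]
    exact hK _ (comm_mem_K1 Q q c m hc.1 hm)
  have h3 := Subgroup.commutator_commutator_eq_bot_of_rotate h1 h2
  rw [min_comm Q x q r hq hr hqr hQ hx hx1 hmin hnc,
    Subgroup.commutator_eq_bot_iff_le_centralizer] at h3
  intro c hc hxc m hm
  have hcC : c ∈ C := ⟨hc, (mem_centralizer_zpowers_iff c x).2 hxc⟩
  exact Subgroup.mem_centralizer_iff.1 (h3 hm) c hcC

theorem min_gen (hq : q.Prime) (hr : r.Prime) (hqr : q ≠ r) (hQ : IsPGroup q Q)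
    (hx : x ^ r = 1) (hx1 : x ≠ 1)
    (hmin : ∀ P : Subgroup G, P ≤ Q → (∀ m ∈ P, x * m * x⁻¹ ∈ P) → P ≠ Q →
      ∀ m ∈ P, x * m = m * x)
    (hnc : ∃ u ∈ Q, x * u ≠ u * x) :
    ∀ S : Subgroup G, (∀ m ∈ Q, m⁻¹ * x⁻¹ * m * x ∈ S) → Q ≤ S := by
  intro S hS
  have hxQ : ∀ m ∈ Q, x⁻¹ * m * x ∈ Q := by
    intro m hm
    have := hQn.conj_mem m hm x⁻¹
    rwa [inv_inv] at this
  have h := comm_le_of_gen Q S x (isOfFinOrder_of_finite x) hxQ hS
  rwa [min_comm Q x q r hq hr hqr hQ hx hx1 hmin hnc] at h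

end minimal

end Cfsg.Agent.Lib.Helper4.HH
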