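import Mathlib

set_option autoImplicit false

/-! A finite group with a nondegenerate alternating bimultiplicative pairing into the units of a
field, whose `q`-th powers lie in the radical, has radical of index `q ^ (2 j)`. -/

namespace Cfsg.Agent.Lib.Helper4.HH

universe u

section idx

variable {K : Type*} [Field K] {H : Type*} [Group H] [Finite H]

theorem index_ker_of_prime (q : ℕ) (hq : q.Prime) (ψ : H →* Kˣ) (hpow : ∀ h, ψ h ^ q = 1)
    (hne : ∃ h, ψ h ≠ 1) : ψ.ker.index = q := by
  haveI : Fact q.Prime := ⟨hq⟩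
  haveI : NeZero q := ⟨hq.ne_zero⟩
  haveI : Finite ψ.range := Finite.of_surjective ψ.rangeRestrict ψ.rangeRestrict_surjective
  rw [Subgroup.index_ker]
  obtain ⟨h, hh⟩ := hne
  have hle : ψ.range ≤ rootsOfUnity q K := by
    rintro _ ⟨a, rfl⟩
    rw [mem_rootsOfUnity]
    exact hpow a
  have h1 : Nat.card ψ.range ≤ q := le_trans (Subgroup.card_le_of_le hle) (card_rootsOfUnity K q)
  have h2 : Subgroup.zpowers (ψ h) ≤ ψ.range := by
    rw [Subgroup.zpowers_le]
    exact ⟨h, rfl⟩
  have h3 : q ≤ Nat.card ψ.range := by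
    have := Subgroup.card_le_of_le h2
    rwa [Nat.card_zpowers, orderOf_eq_prime (hpow h) hh] at this
  omega

end idx

section sympl

variable {K : Type*} [Field K]

theorem sympl_card (q : ℕ) (hq : q.Prime) :
    ∀ (n : ℕ) (H : Type u) [Group H] [Finite H] (β : H → H → Kˣ), Nat.card H = n →
      (∀ u u' v, β (u * u') v = β u v * β u' v) → (∀ u v v', β u (v * v') = β u v * β u v') →
      (∀ u, β u u = 1) → (∀ u v, β u (v ^ q) = 1) →
      ∀ R : Subgroup H, (∀ v, v ∈ R ↔ ∀ u, β u v = 1) → ∃ j : ℕ, R.index = q ^ (2 * j) := by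
  intro n
  induction n using Nat.strong_induction_on with
  | _ n ih =>
  intro H _ _ β hcard B1 B2 B3 B5 R hR
  haveI : Fact q.Prime := ⟨hq⟩
  haveI : NeZero q := ⟨hq.ne_zero⟩
  by_cases htriv : ∀ u v, β u v = 1
  · refine ⟨0, ?_⟩
    have hRtop : R = ⊤ := by
      ext v
      rw [hR]
      simp [htriv]
    rw [hRtop]
    simp
  · push Not at htriv
    obtain ⟨u, v, huv⟩ := htriv
    have B2one : ∀ a, β a 1 = 1 := by
      intro a
      have := B2 a 1 1
      rw [mul_one] at this
      exact mul_left_cancel (this.symm.trans (mul_one _).symm)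
    have B1one : ∀ a, β 1 a = 1 := by
      intro a
      have := B1 1 1 a
      rw [mul_one] at this
      exact mul_left_cancel (this.symm.trans (mul_one _).symm)
    have Binv2 : ∀ a b, β a b⁻¹ = (β a b)⁻¹ := by
      intro a b
      have := B2 a b b⁻¹
      rw [mul_inv_cancel, B2one] at this
      exact eq_inv_of_mul_eq_one_right this.symm
    have Bpow1 : ∀ (k : ℕ) a b, β (a ^ k) b = β a b ^ k := by
      intro k a b
      induction k with
      | zero => rw [pow_zero, pow_zero, B1one]
      | succ k ihk => rw [pow_succ, pow_succ, B1, ihk]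
    have Bpow2 : ∀ (k : ℕ) a b, β a (b ^ k) = β a b ^ k := by
      intro k a b
      induction k with
      | zero => rw [pow_zero, pow_zero, B2one]
      | succ k ihk => rw [pow_succ, pow_succ, B2, ihk]
    have Bsymm : ∀ a b, β b a = (β a b)⁻¹ := by
      intro a b
      have h1 := B3 (a * b)
      rw [B1, B2, B2, B3, B3, one_mul, mul_one] at h1
      exact eq_inv_of_mul_eq_one_right h1
    have hpowq : ∀ a b, β a b ^ q = 1 := by
      intro a b
      rw [← Bpow2, B5]
    let ψ : H → (H →* Kˣ) := fun a => MonoidHom.mk' (β a) (B2 a)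
    have hψ : ∀ a b, ψ a b = β a b := fun a b => rfl
    have idx1 : (ψ u).ker.index = q :=
      index_ker_of_prime q hq (ψ u) (fun h => hpowq u h) ⟨v, huv⟩
    set H₂ : Subgroup H := (ψ u).ker ⊓ (ψ v).ker with hH₂
    have hmemH₂ : ∀ a, a ∈ H₂ ↔ β u a = 1 ∧ β v a = 1 := by
      intro a
      rw [hH₂, Subgroup.mem_inf, MonoidHom.mem_ker, MonoidHom.mem_ker, hψ, hψ]
    have hvu : β v u ≠ 1 := by
      rw [Bsymm u v]
      intro h
      apply huv
      rw [← inv_inv (β u v), h, inv_one]
    have idx2 : H₂.relIndex (ψ u).ker = q := by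
      have h1 : H₂.subgroupOf (ψ u).ker = ((ψ v).comp (ψ u).ker.subtype).ker := by
        ext a
        rw [Subgroup.mem_subgroupOf, hmemH₂, MonoidHom.mem_ker, MonoidHom.comp_apply, hψ]
        constructor
        · intro h
          exact h.2
        · intro h
          refine ⟨?_, h⟩
          have := a.2
          rwa [MonoidHom.mem_ker, hψ] at this
      rw [Subgroup.relIndex, h1]
      apply index_ker_of_prime q hq
      · intro h
        exact hpowq v _
      · refine ⟨⟨u, ?_⟩, hvu⟩
        rw [MonoidHom.mem_ker, hψ, B3]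
    have idxH₂ : H₂.index = q * q := by
      rw [← Subgroup.relIndex_mul_index (inf_le_left : H₂ ≤ (ψ u).ker), idx2, idx1]
    have hRH₂ : R ≤ H₂ := by
      intro a ha
      rw [hmemH₂]
      exact ⟨(hR a).1 ha u, (hR a).1 ha v⟩
    -- the primitive root
    have hprim : IsPrimitiveRoot ((β u v : Kˣ) : K) q := by
      rw [IsPrimitiveRoot.coe_units_iff]
      have := IsPrimitiveRoot.orderOf (β u v)
      rwa [orderOf_eq_prime (hpowq u v) huv] at this
    have hcyc : ∀ y : Kˣ, y ^ q = 1 → ∃ i : ℕ, β u v ^ i = y := by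
      intro y hy
      have hy' : (y : K) ^ q = 1 := by
        rw [← Units.val_pow_eq_pow_val, hy, Units.val_one]
      obtain ⟨i, -, hi⟩ := hprim.eq_pow_of_pow_eq_one hy'
      refine ⟨i, ?_⟩
      apply Units.ext
      rw [Units.val_pow_eq_pow_val]
      exact hi
    -- the radical of the restriction
    have hR' : ∀ a : H₂, a ∈ R.subgroupOf H₂ ↔ ∀ b : H₂, β (b : H) (a : H) = 1 := by
      intro a
      rw [Subgroup.mem_subgroupOf, hR]
      constructor
      · intro h b
        exact h b
      · intro h b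
        obtain ⟨j, hj⟩ := hcyc (β u b) (hpowq u b)
        obtain ⟨i, hi⟩ := hcyc (β v b)⁻¹ (by rw [inv_pow, hpowq, inv_one])
        have hc : (u ^ i * v ^ j)⁻¹ * b ∈ H₂ := by
          rw [hmemH₂]
          constructor
          · rw [B2, Binv2, B2, Bpow2, Bpow2, B3, one_pow, one_mul, hj, inv_mul_cancel]
          · rw [B2, Binv2, B2, Bpow2, Bpow2, B3, one_pow, mul_one, Bsymm u v, inv_pow, inv_inv, hi,
              inv_mul_cancel]
        have hb : b = u ^ i * v ^ j * ((u ^ i * v ^ j)⁻¹ * b) := by group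
        have ha := (hmemH₂ a).1 a.2
        rw [hb, B1, B1, Bpow1, Bpow1, ha.1, ha.2, one_pow, one_pow, one_mul, one_mul]
        exact h ⟨_, hc⟩
    have hlt : Nat.card H₂ < n := by
      have h1 := Subgroup.card_mul_index H₂
      rw [idxH₂, hcard] at h1
      have h2 : 2 ≤ q := hq.two_le
      have h3 : 0 < Nat.card H₂ := Nat.card_pos
      have h4 : 2 * 2 ≤ q * q := Nat.mul_le_mul h2 h2
      have h5 : Nat.card H₂ * (2 * 2) ≤ Nat.card H₂ * (q * q) := Nat.mul_le_mul_left _ h4
      omega
    obtain ⟨j', hj'⟩ := ih (Nat.card H₂) hlt H₂ (fun a b => β (a : H) (b : H)) rfl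
      (fun a a' b => B1 _ _ _) (fun a b b' => B2 _ _ _) (fun a => B3 _)
      (fun a b => by
        show β (a : H) ((b ^ q : H₂) : H) = 1
        rw [Subgroup.coe_pow]
        exact B5 _ _) (R.subgroupOf H₂) hR'
    refine ⟨j' + 1, ?_⟩
    rw [← Subgroup.relIndex_mul_index hRH₂, Subgroup.relIndex, hj', idxH₂]
    ring

end sympl

end Cfsg.Agent.Lib.Helper4.HH
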