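import Mathlib
import Cfsg.Agent.Lib.Helper4.HH7
import Cfsg.Agent.Lib.Helper4.HH8

set_option autoImplicit false

/-! The bound and the square property on a weight space of a central subgroup; the commutative
case. -/

namespace Cfsg.Agent.Lib.Helper4.HH

open Module Cfsg.Agent.Lib.Helper4.FM

open scoped commutatorElement

section central

variable {K : Type*} [Field K] {G : Type*} [Group G] {W : Type*} [AddCommGroup W] [Module K W]
  (σ : Representation K G W) (Z₁ : Subgroup G)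

theorem normal_of_central (hcen : ∀ z ∈ Z₁, ∀ g : G, g * z = z * g) : Z₁.Normal := by
  constructor
  intro z hz g
  rw [hcen z hz g, mul_assoc, mul_inv_cancel, mul_one]
  exact hz

theorem wt_central_stable (hcen : ∀ z ∈ Z₁, ∀ g : G, g * z = z * g) (χ : Z₁ → K) (g : G) :
    wt σ Z₁ χ ≤ (wt σ Z₁ χ).comap (σ g) := by
  haveI := normal_of_central Z₁ hcen
  apply wt_stable σ Z₁ g _ χ
  intro m
  congr 1
  rw [mul_assoc, ← hcen m m.2 g, ← mul_assoc, inv_mul_cancel, one_mul]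

theorem sub_scalar (χ : Z₁ → K) (hYinv : ∀ g, wt σ Z₁ χ ≤ (wt σ Z₁ χ).comap (σ g))
    (n : G) (hn : n ∈ Z₁) :
    σ.subrepresentation _ hYinv n = χ ⟨n, hn⟩ • 1 := by
  apply LinearMap.ext
  intro y
  apply Subtype.ext
  exact (mem_wt σ Z₁ χ y).1 y.2 ⟨n, hn⟩

theorem commute_of_comm_eq_one {Y : Type*} [AddCommGroup Y] [Module K Y]
    (τ : Representation K G Y) (u v : G) (h : τ ⁅u, v⁆ = 1) : Commute (τ v) (τ u) := by
  have h1 : u * v = ⁅u, v⁆ * (v * u) := by
    rw [commutatorElement_def]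
    group
  show τ v * τ u = τ u * τ v
  rw [← map_mul τ u v, h1, map_mul, h, one_mul, map_mul]

end central

section bound

variable {K : Type*} [Field K] [IsAlgClosed K] {G : Type*} [Group G] {W : Type*} [AddCommGroup W]
  [Module K W] [FiniteDimensional K W] (σ : Representation K G W) (Q : Subgroup G)
  [hQn : Q.Normal] [Finite Q]

theorem wt_bound (hQ : (Nat.card Q : K) ≠ 0)
    (Z₁ : Subgroup G) (hZQ : Z₁ ≤ Q)
    (hder : ∀ u ∈ Q, ∀ v ∈ Q, ⁅u, v⁆ ∈ Z₁)
    (x : G) (r : ℕ) (hr : r.Prime) (hx : x ^ r = 1) (hrK : (r : K) ≠ 0)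
    (Hgen : ∀ S : Subgroup G, (∀ m ∈ Q, m⁻¹ * x⁻¹ * m * x ∈ S) → Z₁ ≤ S → Q ≤ S)
    (H4 : inv σ (Subgroup.zpowers x) = ⊥)
    (χ : Z₁ → K) (hYinv : ∀ g, wt σ Z₁ χ ≤ (wt σ Z₁ χ).comap (σ g))
    (hY : wt σ Z₁ χ ≠ ⊥)
    (hz : zker (σ.subrepresentation _ hYinv) Q ≤ Z₁) :
    (Z₁.subgroupOf Q).index ≤ (r - 1) ^ 2 := by
  haveI : Nontrivial ↥(wt σ Z₁ χ) := (Submodule.nontrivial_iff_ne_bot).2 hY
  have Hs : ∀ n ∈ Z₁, ∃ c : K, σ.subrepresentation _ hYinv n = c • 1 :=
    fun n hn => ⟨_, sub_scalar σ Z₁ χ hYinv n hn⟩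
  have H1 : ∀ u ∈ Q, ∀ v ∈ Q, ∃ c : K, σ.subrepresentation _ hYinv ⁅u, v⁆ = c • 1 :=
    fun u hu v hv => Hs _ (hder u hu v hv)
  have H2 : ∀ v ∈ Q, (∀ u ∈ Q, σ.subrepresentation _ hYinv ⁅u, v⁆ = 1) → v ∈ Z₁ := by
    intro v hv h
    apply hz
    exact ⟨hv, fun u hu => commute_of_comm_eq_one _ u v (h u hu)⟩
  have H4' : inv (σ.subrepresentation _ hYinv) (Subgroup.zpowers x) = ⊥ := by
    apply inv_sub_eq_bot
    rw [H4, bot_inf_eq]
  exact core_bound _ Q hQ H1 Z₁ hZQ Hs H2 x r hr hx hrK Hgen H4'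

theorem ab_trivial (hQ : (Nat.card Q : K) ≠ 0)
    (hcomm : ∀ a b : Q, Commute (σ (a : G)) (σ (b : G)))
    (x : G) (r : ℕ) (hr : r.Prime) (hx : x ^ r = 1)
    (Hgen : ∀ S : Subgroup G, (∀ m ∈ Q, m⁻¹ * x⁻¹ * m * x ∈ S) → Q ≤ S)
    (H4 : inv σ (Subgroup.zpowers x) = ⊥) :
    ∀ m ∈ Q, σ m = 1 := by
  classical
  by_cases hx1 : x = 1
  · have hsub : ∀ w : W, w = 0 := by
      intro w
      have hw : w ∈ inv σ (Subgroup.zpowers x) := by
        intro s hs
        rw [hx1, Subgroup.zpowers_one_eq_bot, Subgroup.mem_bot] at hs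
        rw [hs, map_one, Module.End.one_apply]
      rw [H4] at hw
      exact (Submodule.mem_bot K).1 hw
    intro m _
    apply LinearMap.ext
    intro w
    rw [hsub (σ m w), hsub ((1 : Module.End K W) w)]
  · letI : Fintype Q := Fintype.ofFinite Q
    have hcard := card_zpowers_of_prime x r hr hx hx1
    haveI : Finite (Subgroup.zpowers x) := by
      apply Nat.finite_of_card_ne_zero
      rw [hcard]
      exact hr.ne_zero
    have hc : IsCompl (inv σ Q) (ycomp σ Q) := isCompl_inv_ycomp σ Q hQ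
    have hYc : ∀ g, ycomp σ Q ≤ (ycomp σ Q).comap (σ g) := ycomp_invariant σ Q
    have hcomm' : ∀ a b : Q, Commute (σ.subrepresentation _ hYc (a : G))
        (σ.subrepresentation _ hYc (b : G)) :=
      fun a b => sub_commute σ _ hYc _ _ (hcomm a b)
    have hindep := iSupIndep_wt (σ.subrepresentation _ hYc) Q hcomm'
    have hspan := iSup_wt_eq_top (σ.subrepresentation _ hYc) Q hcomm' hQ
    have hinv' : inv (σ.subrepresentation _ hYc) Q = ⊥ :=
      inv_sub_eq_bot σ _ hYc Q hc.inf_eq_bot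
    have hfree_x := free_of_gen (σ.subrepresentation _ hYc) Q x (fun S hS _ => Hgen S hS) hinv'
    have hfree := free_zpowers _ Q x r hr hx hfree_x
    obtain ⟨h1, h2⟩ := finrank_eq_of_free _ Q (Subgroup.zpowers x) hindep hspan hfree
    have H4' : inv (σ.subrepresentation _ hYc) (Subgroup.zpowers x) = ⊥ := by
      apply inv_sub_eq_bot
      rw [H4, bot_inf_eq]
    rw [H4', finrank_bot] at h2
    rw [← h2, mul_zero] at h1
    have hbot : ycomp σ Q = ⊥ := Submodule.finrank_eq_zero.1 h1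
    have htop : inv σ Q = ⊤ := by
      have := hc.sup_eq_top
      rwa [hbot, sup_bot_eq] at this
    intro m hm
    apply LinearMap.ext
    intro w
    have hw : w ∈ inv σ Q := by
      rw [htop]
      exact Submodule.mem_top
    rw [hw m hm, Module.End.one_apply]

end bound

end Cfsg.Agent.Lib.Helper4.HH
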