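import Mathlib
import Cfsg.Agent.Lib.Helper4.HH9
import Cfsg.Agent.Lib.Helper4.FM10

set_option autoImplicit false

/-! The square property on a weight space, the congruence for the fixed points, and the final
arithmetic. -/

namespace Cfsg.Agent.Lib.Helper4.HH

open Module Cfsg.Agent.Lib.Helper4.FM

open scoped commutatorElement

universe u

section sq

variable {K : Type*} [Field K] {G : Type u} [Group G] {W : Type*} [AddCommGroup W]
  [Module K W] (σ : Representation K G W) (Q : Subgroup G) [Finite Q]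

theorem wt_sq (Z₁ : Subgroup G)
    (hcen : ∀ z ∈ Z₁, ∀ g : G, g * z = z * g)
    (hder : ∀ u ∈ Q, ∀ v ∈ Q, ⁅u, v⁆ ∈ Z₁)
    (q : ℕ) (hq : q.Prime) (hpow : ∀ m ∈ Q, m ^ q ∈ Z₁)
    (χ : Z₁ → K) (hYinv : ∀ g, wt σ Z₁ χ ≤ (wt σ Z₁ χ).comap (σ g))
    (hY : wt σ Z₁ χ ≠ ⊥)
    (hz : zker (σ.subrepresentation _ hYinv) Q ≤ Z₁) :
    ∃ j : ℕ, (Z₁.subgroupOf Q).index = q ^ (2 * j) := by
  obtain ⟨y₀, hy₀, hy₀0⟩ := Submodule.exists_mem_ne_zero_of_ne_bot hY
  have hχ : ∀ z : Z₁, σ (z : G) y₀ = χ z • y₀ := (mem_wt σ Z₁ χ y₀).1 hy₀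
  have χmul : ∀ z z' : Z₁, χ (z * z') = χ z * χ z' := by
    intro z z'
    have h1 : σ ((z * z' : Z₁) : G) y₀ = χ (z * z') • y₀ := hχ _
    rw [Subgroup.coe_mul, rho_mul_apply, hχ z', map_smul, hχ z, smul_smul] at h1
    have h2 : (χ z' * χ z - χ (z * z')) • y₀ = 0 := by rw [sub_smul, h1, sub_self]
    rcases smul_eq_zero.1 h2 with h | h
    · rw [mul_comm]
      exact (sub_eq_zero.1 h).symm
    · exact absurd h hy₀0
  have χone : χ 1 = 1 := by
    have h1 := hχ 1
    rw [Subgroup.coe_one, map_one, Module.End.one_apply] at h1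
    have h2 : (1 - χ 1) • y₀ = 0 := by rw [sub_smul, one_smul, ← h1, sub_self]
    rcases smul_eq_zero.1 h2 with h | h
    · exact (sub_eq_zero.1 h).symm
    · exact absurd h hy₀0
  have χne : ∀ z, χ z ≠ 0 := by
    intro z hz0
    have := χmul z z⁻¹
    rw [mul_inv_cancel, χone, hz0, zero_mul] at this
    exact one_ne_zero this
  let χu : Z₁ →* Kˣ :=
    { toFun := fun z => Units.mk0 (χ z) (χne z)
      map_one' := Units.ext χone
      map_mul' := fun z z' => Units.ext (χmul z z') }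
  have hχu : ∀ z, ((χu z : Kˣ) : K) = χ z := fun z => rfl
  have hconj : ∀ z ∈ Z₁, ∀ g : G, g * z * g⁻¹ = z := by
    intro z hz g
    rw [hcen z hz g, mul_assoc, mul_inv_cancel, mul_one]
  let β : Q → Q → Kˣ := fun a b => χu ⟨⁅(a : G), (b : G)⁆, hder a a.2 b b.2⟩
  have B1 : ∀ a a' b, β (a * a') b = β a b * β a' b := by
    intro a a' b
    have e : (⟨⁅((a * a' : Q) : G), (b : G)⁆, hder _ (a * a').2 b b.2⟩ : Z₁) =
        ⟨⁅(a' : G), (b : G)⁆, hder a' a'.2 b b.2⟩ * ⟨⁅(a : G), (b : G)⁆, hder a a.2 b b.2⟩ := by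
      apply Subtype.ext
      show ⁅(a : G) * (a' : G), (b : G)⁆ = ⁅(a' : G), (b : G)⁆ * ⁅(a : G), (b : G)⁆
      have h1 : ⁅(a : G) * (a' : G), (b : G)⁆ =
          ((a : G) * ⁅(a' : G), (b : G)⁆ * (a : G)⁻¹) * ⁅(a : G), (b : G)⁆ := by
        rw [commutatorElement_def, commutatorElement_def, commutatorElement_def]
        group
      rw [h1, hconj _ (hder a' a'.2 b b.2)]
    show χu _ = χu _ * χu _
    rw [e, map_mul, mul_comm]
  have B2 : ∀ a b b', β a (b * b') = β a b * β a b' := by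
    intro a b b'
    have e : (⟨⁅(a : G), ((b * b' : Q) : G)⁆, hder a a.2 _ (b * b').2⟩ : Z₁) =
        ⟨⁅(a : G), (b : G)⁆, hder a a.2 b b.2⟩ * ⟨⁅(a : G), (b' : G)⁆, hder a a.2 b' b'.2⟩ := by
      apply Subtype.ext
      show ⁅(a : G), (b : G) * (b' : G)⁆ = ⁅(a : G), (b : G)⁆ * ⁅(a : G), (b' : G)⁆
      have h1 : ⁅(a : G), (b : G) * (b' : G)⁆ =
          ⁅(a : G), (b : G)⁆ * ((b : G) * ⁅(a : G), (b' : G)⁆ * (b : G)⁻¹) := by
        rw [commutatorElement_def, commutatorElement_def, commutatorElement_def]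
        group
      rw [h1, hconj _ (hder a a.2 b' b'.2)]
    show χu _ = χu _ * χu _
    rw [e, map_mul]
  have B3 : ∀ a, β a a = 1 := by
    intro a
    have e : (⟨⁅(a : G), (a : G)⁆, hder a a.2 a a.2⟩ : Z₁) = 1 := by
      apply Subtype.ext
      show ⁅(a : G), (a : G)⁆ = 1
      exact commutatorElement_self _
    show χu _ = 1
    rw [e, map_one]
  have B5 : ∀ a b, β a (b ^ q) = 1 := by
    intro a b
    have e : (⟨⁅(a : G), ((b ^ q : Q) : G)⁆, hder a a.2 _ (b ^ q).2⟩ : Z₁) = 1 := by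
      apply Subtype.ext
      show ⁅(a : G), (b : G) ^ q⁆ = 1
      rw [commutatorElement_def, hconj _ (hpow b b.2), mul_inv_cancel]
    show χu _ = 1
    rw [e, map_one]
  have hRad : ∀ v : Q, v ∈ Z₁.subgroupOf Q ↔ ∀ a, β a v = 1 := by
    intro v
    rw [Subgroup.mem_subgroupOf]
    constructor
    · intro hv a
      have e : (⟨⁅(a : G), (v : G)⁆, hder a a.2 v v.2⟩ : Z₁) = 1 := by
        apply Subtype.ext
        show ⁅(a : G), (v : G)⁆ = 1
        rw [commutatorElement_def, hconj _ hv, mul_inv_cancel]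
      show χu _ = 1
      rw [e, map_one]
    · intro h
      apply hz
      refine ⟨v.2, fun a ha => ?_⟩
      apply commute_of_comm_eq_one
      rw [sub_scalar σ Z₁ χ hYinv _ (hder a ha v v.2)]
      have h1 := h ⟨a, ha⟩
      have h2 : ((β ⟨a, ha⟩ v : Kˣ) : K) = 1 := by rw [h1, Units.val_one]
      have h3 : χ ⟨⁅a, (v : G)⁆, hder a ha v v.2⟩ = 1 := h2
      rw [h3, one_smul]
  exact sympl_card q hq (Nat.card Q) Q β rfl B1 B2 B3 B5 (Z₁.subgroupOf Q) hRad

end sq

section modeq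

variable {G : Type u} [Group G] [Finite G] (Q : Subgroup G) (x : G) (r : ℕ)

theorem card_modEq_fixed (hr : r.Prime) (hx : x ^ r = 1)
    (hxQ : ∀ f ∈ Subgroup.zpowers x, ∀ m ∈ Q, f * m * f⁻¹ ∈ Q) :
    Nat.card Q ≡
      Nat.card ↥(Q ⊓ Subgroup.centralizer ((Subgroup.zpowers x : Subgroup G) : Set G)) [MOD r] := by
  haveI : Fact r.Prime := ⟨hr⟩
  have hP : IsPGroup r (Subgroup.zpowers x) := by
    intro g
    refine ⟨1, ?_⟩
    obtain ⟨i, hi⟩ := Subgroup.mem_zpowers_iff.1 g.2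
    apply Subtype.ext
    rw [pow_one, Subgroup.coe_pow, Subgroup.coe_one, ← hi, ← zpow_natCast, ← zpow_mul, mul_comm,
      zpow_mul, zpow_natCast, hx, one_zpow]
  letI := conjAct (Subgroup.zpowers x) Q hxQ
  have h1 := hP.card_modEq_card_fixedPoints (↥Q)
  have h2 : Nat.card (MulAction.fixedPoints (↥(Subgroup.zpowers x)) (↥Q)) =
      Nat.card ↥(Q ⊓ Subgroup.centralizer ((Subgroup.zpowers x : Subgroup G) : Set G)) := by
    apply Nat.card_congr
    refine
      { toFun := fun m => ⟨((m : Q) : G), Subgroup.mem_inf.2 ⟨(m : Q).2, ?_⟩⟩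
        invFun := fun g => ⟨⟨(g : G), g.2.1⟩, ?_⟩
        left_inv := fun m => rfl
        right_inv := fun g => rfl }
    · rw [Subgroup.mem_centralizer_iff]
      intro y hy
      have h3 := m.2 ⟨y, hy⟩
      have h4 : y * ((m : Q) : G) * y⁻¹ = ((m : Q) : G) := congrArg Subtype.val h3
      calc y * ((m : Q) : G) = (y * ((m : Q) : G) * y⁻¹) * y := by group
        _ = ((m : Q) : G) * y := by rw [h4]
    · intro y
      apply Subtype.ext
      show (y : G) * (g : G) * (y : G)⁻¹ = (g : G)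
      have h3 := Subgroup.mem_centralizer_iff.1 g.2.2 (y : G) y.2
      rw [h3, mul_assoc, mul_inv_cancel, mul_one]
  rw [h2] at h1
  exact h1

end modeq

section arith

theorem fermat_arith (q r j M : ℕ) (hq : q.Prime) (hr : r.Prime) (hM : M = q ^ (2 * j))
    (hle : M ≤ (r - 1) ^ 2) (hM1 : M ≠ 1) (hmod : M ≡ 1 [MOD r]) :
    q = 2 ∧ r = 2 ^ j + 1 := by
  have hj : j ≠ 0 := by
    rintro rfl
    apply hM1
    rw [hM, mul_zero, pow_zero]
  have hN2 : 2 ≤ q ^ j := by
    calc 2 ≤ q := hq.two_le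
      _ = q ^ 1 := (pow_one q).symm
      _ ≤ q ^ j := Nat.pow_le_pow_right hq.pos (Nat.one_le_iff_ne_zero.2 hj)
  have hMN : M = (q ^ j) ^ 2 := by rw [hM, ← pow_mul, mul_comm]
  have hNle : q ^ j ≤ r - 1 := by
    rw [hMN] at hle
    exact (Nat.pow_le_pow_iff_left (by norm_num)).1 hle
  have hr2 := hr.two_le
  have hdvd : r ∣ (q ^ j - 1) * (q ^ j + 1) := by
    have h1 : (q ^ j - 1) * (q ^ j + 1) = M - 1 := by
      rw [hMN]
      obtain ⟨t, ht⟩ : ∃ t, q ^ j = t + 1 := ⟨q ^ j - 1, by omega⟩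
      rw [ht, Nat.add_sub_cancel]
      have : (t + 1) ^ 2 = t * (t + 1 + 1) + 1 := by ring
      rw [this, Nat.add_sub_cancel]
    rw [h1]
    have hMpos : 1 ≤ M := by
      rw [hM]
      exact Nat.one_le_pow _ _ hq.pos
    exact (Nat.modEq_iff_dvd' hMpos).1 hmod.symm
  have hr_eq : r = q ^ j + 1 := by
    rcases (Nat.Prime.dvd_mul hr).1 hdvd with h | h
    · have := Nat.le_of_dvd (by omega) h
      omega
    · have := Nat.le_of_dvd (by omega) h
      omega
  refine ⟨?_, ?_⟩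
  · rcases hq.eq_two_or_odd' with h | h
    · exact h
    · exfalso
      have hodd : Odd (q ^ j) := h.pow
      have heven : Even r := by
        rw [hr_eq]
        exact hodd.add_one
      have hr2' : r = 2 := (Nat.Prime.even_iff hr).1 heven
      omega
  · rcases hq.eq_two_or_odd' with h | h
    · rw [hr_eq, h]
    · exfalso
      have hodd : Odd (q ^ j) := h.pow
      have heven : Even r := by
        rw [hr_eq]
        exact hodd.add_one
      have hr2' : r = 2 := (Nat.Prime.even_iff hr).1 heven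
      omega

end arith

end Cfsg.Agent.Lib.Helper4.HH
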