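import Mathlib
import Cfsg.Agent.Lib.Helper4.HH10
import Cfsg.Agent.Lib.Helper4.FM12

set_option autoImplicit false

/-! The minimal configuration: a faithful module for `Q ⋊ ⟨x⟩` on which `x` has no fixed points,
where every proper invariant subgroup of `Q` is centralised by `x`. -/

namespace Cfsg.Agent.Lib.Helper4.HH

open Module Cfsg.Agent.Lib.Helper4.FM

open scoped commutatorElement

universe u

section hhclosed

variable {K : Type*} [Field K] [IsAlgClosed K] {G : Type u} [Group G] [Finite G] {W : Type*}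
  [AddCommGroup W] [Module K W] [FiniteDimensional K W]

theorem hh_min_closed (σ : Representation K G W) (hσ : ∀ m : G, σ m = 1 → m = 1)
    (Q : Subgroup G) [hQn : Q.Normal] (x : G) (q r : ℕ) (hq : q.Prime) (hr : r.Prime)
    (hqr : q ≠ r) (hQ : IsPGroup q Q) (hx : x ^ r = 1) (hx1 : x ≠ 1)
    (hgen : ∀ S : Subgroup G, Q ≤ S → x ∈ S → S = ⊤)
    (hqK : (q : K) ≠ 0) (hrK : (r : K) ≠ 0)
    (hmin : ∀ P : Subgroup G, P ≤ Q → (∀ m ∈ P, x * m * x⁻¹ ∈ P) → P ≠ Q →
      ∀ m ∈ P, x * m = m * x)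
    (hnc : ∃ u ∈ Q, x * u ≠ u * x)
    (H4σ : inv σ (Subgroup.zpowers x) = ⊥) :
    q = 2 ∧ (∃ n : ℕ, r = 2 ^ n + 1) ∧ ∃ a ∈ Q, ∃ b ∈ Q, a * b ≠ b * a := by
  classical
  haveI : Fact q.Prime := ⟨hq⟩
  set C : Subgroup G :=
    Q ⊓ Subgroup.centralizer ((Subgroup.zpowers x : Subgroup G) : Set G) with hC
  have hK := min_K1 Q x q hq hQ hmin hnc
  have hcentral := min_central Q x q r hq hr hqr hQ hx hx1 hmin hnc
  have Hgen := min_gen Q x q r hq hr hqr hQ hx hx1 hmin hnc
  have hCQ : C ≤ Q := inf_le_left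
  have hCx : ∀ z ∈ C, x * z = z * x := fun z hz => (mem_centralizer_zpowers_iff z x).1 hz.2
  have hcen : ∀ z ∈ C, ∀ g : G, g * z = z * g := by
    intro z hz g
    have htop : Subgroup.centralizer {z} = ⊤ := by
      apply hgen
      · intro m hm
        rw [Subgroup.mem_centralizer_singleton_iff]
        exact (hcentral z hz.1 (hCx z hz) m hm).symm
      · rw [Subgroup.mem_centralizer_singleton_iff]
        exact hCx z hz
    have hg : g ∈ Subgroup.centralizer {z} := by
      rw [htop]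
      exact Subgroup.mem_top g
    exact (Subgroup.mem_centralizer_singleton_iff).1 hg
  have hder : ∀ u ∈ Q, ∀ v ∈ Q, ⁅u, v⁆ ∈ C := fun u hu v hv =>
    Subgroup.mem_inf.2 ⟨K1_le Q q (comm_mem_K1 Q q u v hu hv),
      (mem_centralizer_zpowers_iff _ x).2 (hK _ (comm_mem_K1 Q q u v hu hv))⟩
  have hpow : ∀ m ∈ Q, m ^ q ∈ C := fun m hm =>
    Subgroup.mem_inf.2 ⟨K1_le Q q (pow_mem_K1 Q q m hm),
      (mem_centralizer_zpowers_iff _ x).2 (hK _ (pow_mem_K1 Q q m hm))⟩
  obtain ⟨n, hn⟩ := IsPGroup.iff_card.1 hQ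
  have hQK : (Nat.card Q : K) ≠ 0 := by
    rw [hn, Nat.cast_pow]
    exact pow_ne_zero n hqK
  have hCK : (Nat.card C : K) ≠ 0 := cast_card_ne_zero_of_le hCQ hQK
  have hcommC : ∀ a b : C, Commute (σ (a : G)) (σ (b : G)) := by
    intro a b
    show σ (a : G) * σ (b : G) = σ (b : G) * σ (a : G)
    rw [← map_mul, ← map_mul, hcen b b.2 a]
  have hspan := iSup_wt_eq_top σ C hcommC hCK
  have hYinv : ∀ (χ : C → K) (g : G), wt σ C χ ≤ (wt σ C χ).comap (σ g) :=
    fun χ g => wt_central_stable _ C hcen χ g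
  by_cases hall : ∀ χ : C → K, ∀ a b : Q,
      Commute (σ.subrepresentation _ (hYinv χ) (a : G)) (σ.subrepresentation _ (hYinv χ) (b : G))
  · exfalso
    have htriv : ∀ m ∈ Q, σ m = 1 := by
      intro m hm
      apply LinearMap.ext
      intro w
      have hw : w ∈ ⨆ χ : C → K, wt σ C χ := by
        rw [hspan]
        exact Submodule.mem_top
      induction hw using Submodule.iSup_induction' with
      | mem χ y hy =>
        have H4χ : inv (σ.subrepresentation _ (hYinv χ)) (Subgroup.zpowers x) = ⊥ := by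
          apply inv_sub_eq_bot
          rw [H4σ, bot_inf_eq]
        have h1 := ab_trivial (σ.subrepresentation _ (hYinv χ)) Q hQK
          (hall χ) x r hr hx Hgen H4χ m hm
        have h2 := LinearMap.congr_fun h1 ⟨y, hy⟩
        exact congrArg Subtype.val h2
      | zero => simp
      | add a b _ _ ha hb =>
        rw [map_add, map_add, ha, hb]
    obtain ⟨u, hu, hxu⟩ := hnc
    apply hxu
    have h3 : u = 1 := hσ u (htriv u hu)
    rw [h3, mul_one, one_mul]
  · push Not at hall
    obtain ⟨χ, a, b, hab⟩ := hall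
    have hY : wt σ C χ ≠ ⊥ := by
      intro h
      apply hab
      haveI : Subsingleton ↥(wt σ C χ) := by
        rw [h]
        infer_instance
      apply LinearMap.ext
      intro y
      exact Subsingleton.elim _ _
    haveI hTn : (zker (σ.subrepresentation _ (hYinv χ)) Q).Normal := zker_normal _ Q
    have hTne : zker (σ.subrepresentation _ (hYinv χ)) Q ≠ Q := by
      intro h
      apply hab
      have ha : (a : G) ∈ zker (σ.subrepresentation _ (hYinv χ)) Q := by
        rw [h]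
        exact a.2
      exact ha.2 b b.2
    have hTC : zker (σ.subrepresentation _ (hYinv χ)) Q ≤ C := by
      intro m hm
      refine Subgroup.mem_inf.2 ⟨zker_le _ Q hm, (mem_centralizer_zpowers_iff m x).2 ?_⟩
      exact hmin _ (zker_le _ Q) (fun m hm => hTn.conj_mem m hm x) hTne m hm
    have hb := wt_bound σ Q hQK C hCQ hder x r hr hx hrK
      (fun S hS _ => Hgen S hS) H4σ χ (hYinv χ) hY hTC
    obtain ⟨j, hj⟩ := wt_sq σ Q C hcen hder q hq hpow χ (hYinv χ) hY hTC
    have hcardQ : Nat.card C * (C.subgroupOf Q).index = Nat.card Q := by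
      rw [← card_subgroupOf_of_le hCQ]
      exact Subgroup.card_mul_index _
    have hmod : (C.subgroupOf Q).index ≡ 1 [MOD r] := by
      have h1 := card_modEq_fixed Q x r hr hx (fun f _ m hm => hQn.conj_mem m hm f)
      rw [← hcardQ] at h1
      have hcop : Nat.gcd r (Nat.card C) = 1 := by
        have hdvd : Nat.card C ∣ q ^ n := by
          rw [← hn]
          exact Subgroup.card_dvd_of_le hCQ
        have h2 : Nat.Coprime r (q ^ n) :=
          Nat.Coprime.pow_right n ((Nat.coprime_primes hr hq).2 hqr.symm)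
        exact Nat.Coprime.coprime_dvd_right hdvd h2
      apply Nat.ModEq.cancel_left_of_coprime hcop
      rw [mul_one]
      exact h1
    have hM1 : (C.subgroupOf Q).index ≠ 1 := by
      intro h
      rw [Subgroup.index_eq_one, Subgroup.subgroupOf_eq_top] at h
      obtain ⟨u, hu, hxu⟩ := hnc
      exact hxu (hCx u (h hu))
    obtain ⟨hq2, hrj⟩ := fermat_arith q r j _ hq hr hj hb hM1 hmod
    refine ⟨hq2, ⟨j, hrj⟩, a, a.2, b, b.2, ?_⟩
    intro h
    apply hab
    show σ.subrepresentation _ (hYinv χ) (a : G) * σ.subrepresentation _ (hYinv χ) (b : G) =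
      σ.subrepresentation _ (hYinv χ) (b : G) * σ.subrepresentation _ (hYinv χ) (a : G)
    rw [← map_mul, ← map_mul, h]

end hhclosed

section hhmin

variable {k : Type*} [Field k] {G : Type u} [Group G] [Finite G] {V : Type*} [AddCommGroup V]
  [Module k V] [FiniteDimensional k V]

theorem hh_min (ρ : Representation k G V) (hρ : Function.Injective ρ)
    (Q : Subgroup G) [hQn : Q.Normal] (x : G) (q r : ℕ) (hq : q.Prime) (hr : r.Prime)
    (hqr : q ≠ r) (hQ : IsPGroup q Q) (hx : x ^ r = 1) (hx1 : x ≠ 1)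
    (hgen : ∀ S : Subgroup G, Q ≤ S → x ∈ S → S = ⊤)
    (hqk : (q : k) ≠ 0) (hrk : (r : k) ≠ 0)
    (hmin : ∀ P : Subgroup G, P ≤ Q → (∀ m ∈ P, x * m * x⁻¹ ∈ P) → P ≠ Q →
      ∀ m ∈ P, x * m = m * x)
    (hnc : ∃ u ∈ Q, x * u ≠ u * x)
    (H4 : inv ρ (Subgroup.zpowers x) = ⊥) :
    q = 2 ∧ (∃ n : ℕ, r = 2 ^ n + 1) ∧ ∃ a ∈ Q, ∃ b ∈ Q, a * b ≠ b * a := by
  have hqK : ((q : ℕ) : AlgebraicClosure k) ≠ 0 := cast_card_ne_zero_bc (AlgebraicClosure k) q hqk
  have hrK : ((r : ℕ) : AlgebraicClosure k) ≠ 0 := cast_card_ne_zero_bc (AlgebraicClosure k) r hrk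
  have hXk : (Nat.card (Subgroup.zpowers x) : k) ≠ 0 := by
    rw [card_zpowers_of_prime x r hr hx hx1]
    exact hrk
  have H4σ : inv (bc (AlgebraicClosure k) ρ) (Subgroup.zpowers x) = ⊥ := by
    rw [inv_bc (AlgebraicClosure k) ρ _ hXk, H4, Submodule.baseChange_bot]
  have hσ : ∀ m : G, bc (AlgebraicClosure k) ρ m = 1 → m = 1 := by
    intro m hm
    have h1 : ρ m = 1 := by
      have h2 : (ρ m).baseChange (AlgebraicClosure k) =
          (1 : V →ₗ[k] V).baseChange (AlgebraicClosure k) :=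
        hm.trans (LinearMap.baseChange_one k V).symm
      exact LinearMap.baseChangeHom_injective k V (AlgebraicClosure k) h2
    exact hρ (by rw [h1, map_one])
  exact hh_min_closed (bc (AlgebraicClosure k) ρ) hσ Q x q r hq hr hqr hQ hx hx1 hgen hqK hrK
    hmin hnc H4σ

end hhmin

end Cfsg.Agent.Lib.Helper4.HH
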