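import Mathlib
import Cfsg.Agent.Lib.Helper4.HH11

set_option autoImplicit false

/-! The non-modular Hall–Higman theorem for an element of prime order normalising a `q`-group, in
representation form. -/

namespace Cfsg.Agent.Lib.Helper4.HH

open Module Cfsg.Agent.Lib.Helper4.FM

open scoped commutatorElement

universe u

section conjpow

variable {A : Type*} [Group A]

theorem conj_pow_mem (P : Subgroup A) (x : A) (h : ∀ m ∈ P, x * m * x⁻¹ ∈ P) (j : ℕ) :
    ∀ m ∈ P, x ^ j * m * (x ^ j)⁻¹ ∈ P := by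
  induction j with
  | zero =>
    intro m hm
    simpa using hm
  | succ j ih =>
    intro m hm
    have e : x ^ (j + 1) * m * (x ^ (j + 1))⁻¹ = x * (x ^ j * m * (x ^ j)⁻¹) * x⁻¹ := by
      rw [pow_succ']
      group
    rw [e]
    exact h _ (ih m hm)

theorem conj_inv_mem (P : Subgroup A) (x : A) (r : ℕ) (hr : 0 < r) (hx : x ^ r = 1)
    (h : ∀ m ∈ P, x * m * x⁻¹ ∈ P) : ∀ m ∈ P, x⁻¹ * m * x ∈ P := by
  intro m hm
  have h1 := conj_pow_mem P x h (r - 1) m hm
  have h2 : x ^ (r - 1) = x⁻¹ := by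
    have h3 : x ^ (r - 1) * x = 1 := by
      rw [← pow_succ, Nat.sub_add_cancel hr, hx]
    exact eq_inv_of_mul_eq_one_left h3
  rwa [h2, inv_inv] at h1

end conjpow

section faith

variable {k : Type*} [Field k] {A : Type u} [Group A] [Finite A] {V : Type*} [AddCommGroup V]
  [Module k V] [FiniteDimensional k V]

theorem hh_faith (ρ : Representation k A V) (hρ : Function.Injective ρ) (x : A) (q r : ℕ)
    (hq : q.Prime) (hr : r.Prime) (hqr : q ≠ r) (hx : x ^ r = 1)
    (hqk : (q : k) ≠ 0) (hrk : (r : k) ≠ 0) (H4 : ∀ v : V, ρ x v = v → v = 0) :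
    ∀ (n : ℕ) (Q : Subgroup A), Nat.card Q = n → IsPGroup q Q → (∀ m ∈ Q, x * m * x⁻¹ ∈ Q) →
      (q = 2 → (∃ n : ℕ, r = 2 ^ n + 1) → ∀ a ∈ Q, ∀ b ∈ Q, a * b = b * a) →
      ∀ m ∈ Q, x * m = m * x := by
  intro n
  induction n using Nat.strong_induction_on with
  | _ n ih =>
  intro Q hcard hQ hxQ hexc
  by_contra hcon
  push Not at hcon
  obtain ⟨u, hu, hxu⟩ := hcon
  have hx1 : x ≠ 1 := by
    rintro rfl
    apply hxu
    rw [one_mul, mul_one]
  have hminA : ∀ P : Subgroup A, P ≤ Q → (∀ m ∈ P, x * m * x⁻¹ ∈ P) → P ≠ Q →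
      ∀ m ∈ P, x * m = m * x := by
    intro P hPQ hxP hne
    have hlt : Nat.card P < n := by
      rw [← hcard]
      by_contra hle
      push Not at hle
      exact hne (Subgroup.eq_of_le_of_card_ge hPQ hle)
    exact ih _ hlt P rfl (hQ.to_le hPQ) hxP
      (fun h2 hF a ha b hb => hexc h2 hF a (hPQ ha) b (hPQ hb))
  -- pass to the subgroup generated by `Q` and `x`
  set L : Subgroup A := Q ⊔ Subgroup.zpowers x with hL
  have hxL : x ∈ L := Subgroup.mem_sup_right (Subgroup.mem_zpowers x)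
  have hQL : Q ≤ L := le_sup_left
  have hzn : ∀ e ∈ Subgroup.zpowers x, ∀ m ∈ Q, e * m * e⁻¹ ∈ Q := by
    have hnorm : x ∈ Subgroup.normalizer (Q : Set A) := by
      rw [Subgroup.mem_normalizer_iff]
      intro m
      constructor
      · exact hxQ m
      · intro hm
        have := conj_inv_mem Q x r hr.pos hx hxQ _ hm
        have e : x⁻¹ * (x * m * x⁻¹) * x = m := by group
        rwa [e] at this
    have hle : Subgroup.zpowers x ≤ Subgroup.normalizer (Q : Set A) :=
      (Subgroup.zpowers_le).2 hnorm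
    exact (le_norm_iff _ _).1 hle
  haveI hQn : (Q.subgroupOf L).Normal := normal_subgroupOf_sup Q (Subgroup.zpowers x) hzn
  let ρ₁ : Representation k ↥L V := ρ.comp L.subtype
  have hρ₁ : Function.Injective ρ₁ := by
    intro a b hab
    exact Subtype.ext (hρ hab)
  have hres := hh_min ρ₁ hρ₁ (Q.subgroupOf L) ⟨x, hxL⟩ q r hq hr hqr hQ.comap_subtype
    (by apply Subtype.ext; rw [Subgroup.coe_pow]; exact hx)
    (by intro h; exact hx1 (congrArg Subtype.val h))
    (by
      intro S hQS hxS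
      rw [eq_top_iff]
      intro g _
      have hle : L ≤ S.map L.subtype := by
        apply sup_le
        · intro m hm
          exact ⟨⟨m, hQL hm⟩, hQS (Subgroup.mem_subgroupOf.2 hm), rfl⟩
        · rw [Subgroup.zpowers_le]
          exact ⟨⟨x, hxL⟩, hxS, rfl⟩
      obtain ⟨g', hg', hgg'⟩ := hle g.2
      have : g' = g := Subtype.ext hgg'
      rwa [this] at hg')
    hqk hrk
    (by
      intro P₁ hP₁ hxP₁ hne m hm
      have hP : P₁.map L.subtype ≤ Q := by
        rintro _ ⟨p, hp, rfl⟩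
        exact Subgroup.mem_subgroupOf.1 (hP₁ hp)
      have hxP : ∀ m ∈ P₁.map L.subtype, x * m * x⁻¹ ∈ P₁.map L.subtype := by
        rintro _ ⟨p, hp, rfl⟩
        exact ⟨_, hxP₁ p hp, rfl⟩
      have hne' : P₁.map L.subtype ≠ Q := by
        intro h
        apply hne
        rw [← Subgroup.comap_map_eq_self_of_injective L.subtype_injective P₁, h]
        rfl
      have := hminA _ hP hxP hne' (m : A) ⟨m, hm, rfl⟩
      exact Subtype.ext this)
    ⟨⟨u, hQL hu⟩, Subgroup.mem_subgroupOf.2 hu, by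
      intro h
      exact hxu (congrArg Subtype.val h)⟩
    (by
      rw [Submodule.eq_bot_iff]
      intro v hv
      exact H4 v (hv ⟨x, hxL⟩ (Subgroup.mem_zpowers _)))
  obtain ⟨hq2, hF, a, ha, b, hb, hab⟩ := hres
  apply hab
  apply Subtype.ext
  exact hexc hq2 hF (a : A) (Subgroup.mem_subgroupOf.1 ha) (b : A) (Subgroup.mem_subgroupOf.1 hb)

end faith

section rep

variable {k : Type*} [Field k] {A : Type*} [Group A] [Finite A] {V : Type*} [AddCommGroup V]
  [Module k V] [FiniteDimensional k V]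

theorem hh_rep (ρ : Representation k A V) (x : A) (q r : ℕ)
    (hq : q.Prime) (hr : r.Prime) (hqr : q ≠ r) (hx : x ^ r = 1)
    (hqk : (q : k) ≠ 0) (hrk : (r : k) ≠ 0) (H4 : ∀ v : V, ρ x v = v → v = 0)
    (Q : Subgroup A) (hQ : IsPGroup q Q) (hxQ : ∀ m ∈ Q, x * m * x⁻¹ ∈ Q)
    (hexc : q = 2 → (∃ n : ℕ, r = 2 ^ n + 1) → ∀ a ∈ Q, ∀ b ∈ Q, Commute (ρ a) (ρ b)) :
    ∀ m ∈ Q, Commute (ρ x) (ρ m) := by
  let f : A →* ↥ρ.asGroupHom.range := ρ.asGroupHom.rangeRestrict
  haveI : Finite ↥ρ.asGroupHom.range :=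
    Finite.of_surjective f ρ.asGroupHom.rangeRestrict_surjective
  let ρ' : Representation k ↥ρ.asGroupHom.range V :=
    (Units.coeHom (Module.End k V)).comp ρ.asGroupHom.range.subtype
  have hρ'f : ∀ a : A, ρ' (f a) = ρ a := fun a => rfl
  have hρ' : Function.Injective ρ' := by
    intro a b hab
    apply Subtype.ext
    apply Units.ext
    exact hab
  have hfcomm : ∀ a b : A, Commute (ρ a) (ρ b) → f a * f b = f b * f a := by
    intro a b h
    apply hρ'
    rw [map_mul, map_mul, hρ'f, hρ'f]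
    exact h.eq
  have hmain := hh_faith ρ' hρ' (f x) q r hq hr hqr (by rw [← map_pow, hx, map_one]) hqk hrk
    (fun v hv => H4 v hv) _ (Q.map f) rfl (hQ.map f)
    (by
      rintro _ ⟨m, hm, rfl⟩
      exact ⟨_, hxQ m hm, by rw [map_mul, map_mul, map_inv]⟩)
    (by
      rintro h2 hF _ ⟨a, ha, rfl⟩ _ ⟨b, hb, rfl⟩
      exact hfcomm a b (hexc h2 hF a ha b hb))
  intro m hm
  have h1 := hmain (f m) ⟨m, hm, rfl⟩
  have h2 := congrArg ρ' h1
  rw [map_mul, map_mul, hρ'f, hρ'f] at h2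
  exact h2

end rep

end Cfsg.Agent.Lib.Helper4.HH
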