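import Mathlib
import Cfsg.Agent.Lib.Helper4.HH12

set_option autoImplicit false

/-! The non-modular Hall–Higman theorem for actions on elementary abelian groups. -/

namespace Cfsg.Agent.Lib.Helper4.HH

open Module Cfsg.Agent.Lib.Helper4.FM Cfsg.Agent.Lib.Lead

universe u v

section actaux

variable {A : Type u} [Group A] [Finite A] {V : Type v} [CommGroup V] [Finite V]
  [MulDistribMulAction A V] (ℓ : ℕ) [hℓ : Fact ℓ.Prime] [Module (ZMod ℓ) (Additive V)]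

theorem hh_act_aux (x : A) (q r : ℕ) (hq : q.Prime) (hr : r.Prime) (hqr : q ≠ r)
    (hqℓ : q ≠ ℓ) (hrℓ : r ≠ ℓ) (hx : x ^ r = 1)
    (H4 : ∀ v : V, x • v = v → v = 1) (Q : Subgroup A) (hQ : IsPGroup q Q)
    (hxQ : ∀ m ∈ Q, x * m * x⁻¹ ∈ Q)
    (hexc : q = 2 → (∃ n : ℕ, r = 2 ^ n + 1) → ∀ a ∈ Q, ∀ b ∈ Q, ∀ v : V,
      a • b • v = b • a • v) :
    ∀ m ∈ Q, ∀ v : V, x • m • v = m • x • v := by
  have hqd : ¬ ℓ ∣ q := fun h => hqℓ ((Nat.prime_dvd_prime_iff_eq hℓ.out hq).1 h).symm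
  have hrd : ¬ ℓ ∣ r := fun h => hrℓ ((Nat.prime_dvd_prime_iff_eq hℓ.out hr).1 h).symm
  have hmain := hh_rep (ExtAct.addRep (A := A) (V := V) ℓ) x q r hq hr hqr hx
    (cast_ne_zero_of_not_dvd ℓ q hqd) (cast_ne_zero_of_not_dvd ℓ r hrd)
    (by
      intro v hv
      rw [ExtAct.addRep_apply] at hv
      have h1 := H4 (Additive.toMul v) (congrArg Additive.toMul hv)
      exact congrArg Additive.ofMul h1)
    Q hQ hxQ
    (by
      intro h2 hF a ha b hb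
      apply LinearMap.ext
      intro v
      rw [Module.End.mul_apply, Module.End.mul_apply, ExtAct.addRep_apply, ExtAct.addRep_apply,
        ExtAct.addRep_apply, ExtAct.addRep_apply]
      exact congrArg Additive.ofMul (hexc h2 hF a ha b hb _))
  intro m hm v
  have h2 := LinearMap.congr_fun (hmain m hm).eq (Additive.ofMul v)
  rw [Module.End.mul_apply, Module.End.mul_apply, ExtAct.addRep_apply, ExtAct.addRep_apply,
    ExtAct.addRep_apply, ExtAct.addRep_apply] at h2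
  exact congrArg Additive.toMul h2

end actaux

section act

variable {A : Type u} [Group A] [Finite A] {V : Type v} [Group V] [Finite V]
  [MulDistribMulAction A V] (ℓ : ℕ) [hℓ : Fact ℓ.Prime]

theorem hh_act (hcomm : ∀ a b : V, a * b = b * a) (hexp : ∀ a : V, a ^ ℓ = 1)
    (x : A) (q r : ℕ) (hq : q.Prime) (hr : r.Prime) (hqr : q ≠ r)
    (hqℓ : q ≠ ℓ) (hrℓ : r ≠ ℓ) (hx : x ^ r = 1)
    (H4 : ∀ v : V, x • v = v → v = 1) (Q : Subgroup A) (hQ : IsPGroup q Q)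
    (hxQ : ∀ m ∈ Q, x * m * x⁻¹ ∈ Q)
    (hexc : q = 2 → (∃ n : ℕ, r = 2 ^ n + 1) → ∀ a ∈ Q, ∀ b ∈ Q, ∀ v : V,
      a • b • v = b • a • v) :
    ∀ m ∈ Q, ∀ v : V, x • m • v = m • x • v := by
  let iC : CommGroup V := { (inferInstance : Group V) with mul_comm := hcomm }
  let iM : Module (ZMod ℓ) (Additive V) := @AddCommGroup.zmodModule ℓ (Additive V) _ (by
    intro x
    show Additive.ofMul (Additive.toMul x ^ ℓ) = 0
    rw [hexp]; rfl)
  exact @hh_act_aux A _ _ V iC _ _ ℓ hℓ iM x q r hq hr hqr hqℓ hrℓ hx H4 Q hQ hxQ hexc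

end act

section sub

variable {G : Type u} [Group G] [Finite G]

theorem hh_sub (V N : Subgroup G) (ℓ : ℕ) (hℓ : ℓ.Prime) (hV : Cfsg.IsElementaryAbelian ℓ V)
    (hNV : N ≤ Subgroup.normalizer (V : Set G))
    (x : G) (hxN : x ∈ N) (q r : ℕ) (hq : q.Prime) (hr : r.Prime) (hqr : q ≠ r)
    (hqℓ : q ≠ ℓ) (hrℓ : r ≠ ℓ) (hx : x ^ r = 1)
    (H4 : ∀ v ∈ V, x * v * x⁻¹ = v → v = 1) (Q : Subgroup G) (hQN : Q ≤ N) (hQ : IsPGroup q Q)
    (hxQ : ∀ m ∈ Q, x * m * x⁻¹ ∈ Q)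
    (hexc : q = 2 → (∃ n : ℕ, r = 2 ^ n + 1) → ∀ a ∈ Q, ∀ b ∈ Q, ∀ v ∈ V,
      (a * b) * v * (a * b)⁻¹ = (b * a) * v * (b * a)⁻¹) :
    ∀ m ∈ Q, ∀ v ∈ V, (x * m) * v * (x * m)⁻¹ = (m * x) * v * (m * x)⁻¹ := by
  haveI : Fact ℓ.Prime := ⟨hℓ⟩
  have hNV' : ∀ g ∈ N, ∀ v ∈ V, g * v * g⁻¹ ∈ V :=
    fun g hg v hv => (Subgroup.mem_normalizer_iff.1 (hNV hg) v).1 hv
  letI := conjAct N V hNV'
  have hsmul : ∀ (g : N) (v : V), ((g • v : V) : G) = (g : G) * (v : G) * (g : G)⁻¹ :=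
    fun g v => rfl
  have hcomm : ∀ a b : ↥V, a * b = b * a := by
    haveI := hV.1
    intro a b
    exact mul_comm' a b
  have hexp : ∀ a : ↥V, a ^ ℓ = 1 := by
    intro a
    apply Subtype.ext
    rw [Subgroup.coe_pow]
    exact hV.2 _ a.2
  have hmain := hh_act (A := ↥N) (V := ↥V) ℓ hcomm hexp ⟨x, hxN⟩ q r hq hr hqr hqℓ hrℓ
    (by apply Subtype.ext; rw [Subgroup.coe_pow]; exact hx)
    (by
      intro v hv
      apply Subtype.ext
      have h1 := congrArg Subtype.val hv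
      rw [hsmul] at h1
      exact H4 _ v.2 h1)
    (Q.subgroupOf N) hQ.comap_subtype
    (by
      intro m hm
      rw [Subgroup.mem_subgroupOf] at hm ⊢
      exact hxQ _ hm)
    (by
      intro h2 hF a ha b hb v
      apply Subtype.ext
      rw [hsmul, hsmul, hsmul, hsmul]
      have h1 := hexc h2 hF (a : G) (Subgroup.mem_subgroupOf.1 ha) (b : G)
        (Subgroup.mem_subgroupOf.1 hb) (v : G) v.2
      calc (a : G) * ((b : G) * (v : G) * (b : G)⁻¹) * (a : G)⁻¹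
          = ((a : G) * (b : G)) * (v : G) * ((a : G) * (b : G))⁻¹ := by group
        _ = ((b : G) * (a : G)) * (v : G) * ((b : G) * (a : G))⁻¹ := h1
        _ = (b : G) * ((a : G) * (v : G) * (a : G)⁻¹) * (b : G)⁻¹ := by group)
  intro m hm v hv
  have h1 := hmain ⟨m, hQN hm⟩ (Subgroup.mem_subgroupOf.2 hm) ⟨v, hv⟩
  have h2 := congrArg Subtype.val h1
  rw [hsmul, hsmul, hsmul, hsmul] at h2
  calc (x * m) * v * (x * m)⁻¹ = x * (m * v * m⁻¹) * x⁻¹ := by group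
    _ = m * (x * v * x⁻¹) * m⁻¹ := h2
    _ = (m * x) * v * (m * x)⁻¹ := by group

end sub

end Cfsg.Agent.Lib.Helper4.HH
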