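import Mathlib
import Cfsg.Agent.Lib.Helper4.HH13

set_option autoImplicit false

/-! Generators of subgroups of prime order. -/

namespace Cfsg.Agent.Lib.Helper4.HH

open Cfsg.Agent.Lib.Helper4.FM

section gen

variable {G : Type*} [Group G] [Finite G]

theorem exists_gen_of_prime_card (X : Subgroup G) (r : ℕ) (hr : r.Prime) (hX : Nat.card X = r) :
    ∃ x ∈ X, x ≠ 1 ∧ x ^ r = 1 ∧ Subgroup.zpowers x = X := by
  have hne : X ≠ ⊥ := by
    intro h
    rw [h, Subgroup.card_bot] at hX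
    exact hr.one_lt.ne hX
  obtain ⟨x, hx1⟩ := (Subgroup.ne_bot_iff_exists_ne_one).1 hne
  have hxr : (x : G) ^ r = 1 := by
    have h1 : x ^ Nat.card X = 1 := pow_card_eq_one'
    rw [hX] at h1
    have h2 := congrArg Subtype.val h1
    rwa [Subgroup.coe_pow] at h2
  have hx1' : (x : G) ≠ 1 := fun h => hx1 (Subtype.ext h)
  refine ⟨x, x.2, hx1', hxr, ?_⟩
  apply Subgroup.eq_of_le_of_card_ge
  · rw [Subgroup.zpowers_le]
    exact x.2
  · rw [card_zpowers_of_prime (x : G) r hr hxr hx1', hX]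

end gen

end Cfsg.Agent.Lib.Helper4.HH
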