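import Mathlib
import Cfsg.Agent.Lib.Helper4.BG8e
import Cfsg.Agent.Lib.Lead.CoprimeAction2

set_option autoImplicit false
open Pointwise
open scoped commutatorElement

/-! Bender–Glauberman Section 8: the subgroups `O_{r'}(F(H))` and `C_G(O_{r'}(F(H)))`. -/

namespace Cfsg.Agent.Lib.Helper4.BG8

open Cfsg Cfsg.Agent.Lib.Helper4 Cfsg.Agent.Lib.Lead Cfsg.Agent.Lib.Helper6 Cfsg.Agent.Lib.Helper7
open Cfsg.Agent.Lib.Helper4.BG7 Cfsg.Agent.Lib.Helper4.BG76 Cfsg.Agent.Lib.Helper4.ThreeStep

universe u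

variable {G : Type u} [Group G] [Finite G]

theorem le_cG {p : ℕ} {K H : Subgroup G} (hKH : K ≤ H)
    (hn : H ≤ Subgroup.normalizer (K : Set G)) (hc : (Nat.card K).Coprime p) : K ≤ cG p H := by
  apply le_cG_of_subgroupOf_le hKH
  apply le_pPrimeCore (subgroupOf_normal_of_le_normalizer hn)
  rw [Nat.card_congr (Subgroup.subgroupOfEquivOfLe hKH).toEquiv]
  exact hc

theorem mem_normalizer_of_map_le {W : Subgroup G} {g : G}
    (h : W.map (MulAut.conj g).toMonoidHom ≤ W) : g ∈ Subgroup.normalizer (W : Set G) := by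
  apply mem_normalizer_of_map_conj_eq
  apply Subgroup.eq_of_le_of_card_ge h
  rw [Subgroup.card_map_of_injective (MulAut.conj g).injective]

theorem normalizer_le_normalizer_cG (p : ℕ) (X : Subgroup G) :
    Subgroup.normalizer (X : Set G) ≤ Subgroup.normalizer (cG p X : Set G) := by
  intro g hg
  have hX : X.map (MulAut.conj g).toMonoidHom = X := map_conj_eq_of_mem_normalizer hg
  apply mem_normalizer_of_map_le
  apply le_cG
  · exact (Subgroup.map_mono (cG_le p X)).trans hX.le
  · have h2 := Subgroup.le_normalizer_map (H := cG p X) (MulAut.conj g).toMonoidHom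
    exact hX.symm.le.trans ((Subgroup.map_mono (le_normalizer_cG p X)).trans h2)
  · rw [Subgroup.card_map_of_injective (MulAut.conj g).injective]
    exact card_cG_coprime p X

theorem normalizer_le_normalizer_opOf (r : ℕ) (X : Subgroup G) :
    Subgroup.normalizer (X : Set G) ≤ Subgroup.normalizer (opOf r X : Set G) := by
  intro g hg
  have hX : X.map (MulAut.conj g).toMonoidHom = X := map_conj_eq_of_mem_normalizer hg
  apply mem_normalizer_of_map_le
  apply le_opOf
  · exact (Subgroup.map_mono (opOf_le r X)).trans hX.le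
  · have h2 := Subgroup.le_normalizer_map (H := opOf r X) (MulAut.conj g).toMonoidHom
    exact hX.symm.le.trans ((Subgroup.map_mono (le_normalizer_opOf r X)).trans h2)
  · exact (opOf_isPGroup r X).map _

/-- `O_{r'}(F(H))` -/
def Frp (r : ℕ) (H : Subgroup G) : Subgroup G := cG r (fittingOf H)

/-- `C_G(O_{r'}(F(H)))` -/
def Dr (r : ℕ) (H : Subgroup G) : Subgroup G := Subgroup.centralizer (Frp r H : Set G)

theorem Frp_le_fittingOf (r : ℕ) (H : Subgroup G) : Frp r H ≤ fittingOf H := cG_le _ _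

theorem Frp_le (r : ℕ) (H : Subgroup G) : Frp r H ≤ H := (cG_le _ _).trans (fittingOf_le H)

theorem card_Frp_coprime (r : ℕ) (H : Subgroup G) : (Nat.card (Frp r H)).Coprime r :=
  card_cG_coprime _ _

theorem coprime_of_isPGroup_ne {r s : ℕ} [hr : Fact r.Prime] [hs : Fact s.Prime] (hsr : s ≠ r)
    {K : Subgroup G} (hK : IsPGroup s K) : (Nat.card K).Coprime r := by
  obtain ⟨n, hn⟩ := IsPGroup.iff_card.mp hK
  rw [hn]
  exact Nat.Coprime.pow_left n ((Nat.coprime_primes hs.out hr.out).mpr hsr)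

theorem opOf_le_Frp {r s : ℕ} [Fact r.Prime] [Fact s.Prime] (hsr : s ≠ r) (H : Subgroup G) :
    opOf s H ≤ Frp r H :=
  le_cG (opOf_le_fittingOf s H) ((fittingOf_le H).trans (le_normalizer_opOf s H))
    (coprime_of_isPGroup_ne hsr (opOf_isPGroup s H))

theorem le_normalizer_Frp (r : ℕ) (H : Subgroup G) :
    H ≤ Subgroup.normalizer (Frp r H : Set G) :=
  (le_normalizer_fittingOf H).trans (normalizer_le_normalizer_cG r _)

theorem le_normalizer_Dr (r : ℕ) (H : Subgroup G) :
    H ≤ Subgroup.normalizer (Dr r H : Set G) :=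
  (le_normalizer_Frp r H).trans (BG7.normalizer_le_normalizer_centralizer _)

theorem opOf_inf_Frp {r : ℕ} [Fact r.Prime] {R : Subgroup G} (hR : IsPGroup r R) (H : Subgroup G) :
    R ⊓ Frp r H = ⊥ :=
  isPGroup_inf_coprime_eq_bot (card_Frp_coprime r H) hR

theorem opOf_le_Dr (r : ℕ) [Fact r.Prime] (H : Subgroup G) : opOf r H ≤ Dr r H :=
  le_centralizer_of_normalize ((opOf_le r H).trans (le_normalizer_Frp r H))
    ((Frp_le r H).trans (le_normalizer_opOf r H)) (opOf_inf_Frp (opOf_isPGroup r H) H)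

theorem Dr_le (hG : IsMinSimpleOddOrder G) {H : Subgroup G} (hH : IsCoatom H) {r : ℕ}
    (hne : Frp r H ≠ ⊥) : Dr r H ≤ H :=
  le_of_centralizes hG hH hne (Frp_le r H) (le_normalizer_Frp r H) le_rfl

theorem Frp_ne_bot {r s : ℕ} [Fact r.Prime] [Fact s.Prime] (hsr : s ≠ r) {H : Subgroup G}
    (hs : opOf s H ≠ ⊥) : Frp r H ≠ ⊥ := by
  intro h0
  apply hs
  have := opOf_le_Frp hsr H
  rw [h0] at this
  exact le_bot_iff.mp this

theorem cG_Dr_le_Frp (hG : IsMinSimpleOddOrder G) {H : Subgroup G} (hH : IsCoatom H) {r : ℕ}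
    [Fact r.Prime] (hne : Frp r H ≠ ⊥) : cG r (Dr r H) ≤ Frp r H := by
  set W := cG r (Dr r H) with hW
  have hDH := Dr_le hG hH hne
  have hWD : W ≤ Dr r H := cG_le _ _
  have hWH : W ≤ H := hWD.trans hDH
  have hHW : H ≤ Subgroup.normalizer (W : Set G) :=
    (le_normalizer_Dr r H).trans (normalizer_le_normalizer_cG r _)
  have hWc : (Nat.card W).Coprime r := card_cG_coprime _ _
  have hHsolv : Group.IsSolvable ↥H := solvable_of_ne_top hG hH.1
  have h1 : W ≤ Subgroup.centralizer (opOf r H : Set G) := by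
    apply le_centralizer_of_normalize (hWH.trans (le_normalizer_opOf r H))
      ((opOf_le r H).trans hHW)
    rw [inf_comm]
    exact isPGroup_inf_coprime_eq_bot hWc (opOf_isPGroup r H)
  have h2 : W ≤ Subgroup.centralizer (fittingOf H : Set G) := by
    apply le_centralizer_fittingOf
    intro s hs
    have : Fact s.Prime := ⟨hs⟩
    by_cases hsr : s = r
    · rw [hsr]; exact h1
    · exact hWD.trans (Subgroup.centralizer_le (opOf_le_Frp hsr H))
  have h3 : W ≤ fittingOf H := (le_inf hWH h2).trans (centralizer_fittingOf_le hHsolv)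
  exact le_cG h3 ((fittingOf_le H).trans hHW) hWc

theorem cG_Dr_le_centralizer (hG : IsMinSimpleOddOrder G) {H : Subgroup G} (hH : IsCoatom H)
    {r : ℕ} [Fact r.Prime] (hne : Frp r H ≠ ⊥) :
    cG r (Dr r H) ≤ Subgroup.centralizer (Dr r H : Set G) := by
  rw [Subgroup.le_centralizer_iff]
  exact Subgroup.centralizer_le (cG_Dr_le_Frp hG hH hne)

theorem opOf_Dr_eq (hG : IsMinSimpleOddOrder G) {H : Subgroup G} (hH : IsCoatom H)
    {r : ℕ} [Fact r.Prime] (hne : Frp r H ≠ ⊥) : opOf r (Dr r H) = opOf r H := by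
  have hDH := Dr_le hG hH hne
  apply le_antisymm
  · exact le_opOf ((opOf_le r _).trans hDH)
      ((le_normalizer_Dr r H).trans (normalizer_le_normalizer_opOf r _)) (opOf_isPGroup r _)
  · exact le_opOf (opOf_le_Dr r H) (hDH.trans (le_normalizer_opOf r H)) (opOf_isPGroup r H)

theorem Dr_solvable (hG : IsMinSimpleOddOrder G) {H : Subgroup G} (hH : IsCoatom H) {r : ℕ}
    (hne : Frp r H ≠ ⊥) : Group.IsSolvable ↥(Dr r H) := by
  apply solvable_of_ne_top hG
  intro h0
  have := Dr_le hG hH hne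
  rw [h0] at this
  exact hH.1 (eq_top_iff.mpr this)

end Cfsg.Agent.Lib.Helper4.BG8
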