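import Mathlib
import Cfsg.Agent.Lib.Helper4.FM12
import Cfsg.Agent.Lib.Lead.CoprimeFrattini
import Cfsg.Agent.Lib.Lead.Frattini

set_option autoImplicit false

/-! Commutativity of the action of a Frobenius kernel on a `p`-group when the complement has
cyclic fixed points. -/

namespace Cfsg.Agent.Lib.Helper4.FM

open Cfsg.Agent.Lib.Lead

open scoped commutatorElement

universe u

section range

variable {X : Type u} [Group X] [Finite X] (F H K₁ : Subgroup X)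

/-- the map from the centraliser to the quotient. -/
def quotHom [(K₁.subgroupOf H).Normal] (S : Subgroup X) :
    ↥(H ⊓ Subgroup.centralizer (S : Set X)) →* ↥H ⧸ K₁.subgroupOf H :=
  (QuotientGroup.mk' (K₁.subgroupOf H)).comp (Subgroup.inclusion inf_le_left)

theorem fixS_eq_range (hFH : ∀ f ∈ F, ∀ x ∈ H, f * x * f⁻¹ ∈ H) (hK₁H : K₁ ≤ H)
    (hHK : ∀ h ∈ H, ∀ k ∈ K₁, h * k * h⁻¹ ∈ K₁)
    [hN : (K₁.subgroupOf H).Normal] (hFK : ∀ f ∈ F, ∀ k ∈ K₁, f * k * f⁻¹ ∈ K₁)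
    (hcop : (Nat.card F).Coprime (Nat.card H)) (hsolv : Group.IsSolvable H)
    (S : Subgroup X) (hSF : S ≤ F) :
    @fixS ↥F _ (↥H ⧸ K₁.subgroupOf H) _ (qAct F H K₁ hFH hFK) (S.subgroupOf F) =
      (quotHom H K₁ S).range := by
  letI := qAct F H K₁ hFH hFK
  have hφ : ∀ c : ↥(H ⊓ Subgroup.centralizer (S : Set X)),
      quotHom H K₁ S c = ((⟨(c : X), c.2.1⟩ : H) : ↥H ⧸ K₁.subgroupOf H) := fun c => rfl
  symm
  ext q
  constructor
  · rintro ⟨c, rfl⟩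
    intro s hs
    rw [hφ]
    show (qAct F H K₁ hFH hFK).toMulAction.toSMul.smul s _ = _
    rw [qAct_mk]
    congr 1
    apply Subtype.ext
    show (s : X) * (c : X) * (s : X)⁻¹ = (c : X)
    have h1 := Subgroup.mem_centralizer_iff.1 c.2.2 (s : X) (Subgroup.mem_subgroupOf.1 hs)
    rw [h1, mul_assoc, mul_inv_cancel, mul_one]
  · intro hq
    induction q using QuotientGroup.induction_on with
    | H k =>
      have hfix : ∀ a ∈ S, a * (k : X) * a⁻¹ * (k : X)⁻¹ ∈ K₁ := by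
        intro a ha
        have h1 := hq ⟨a, hSF ha⟩ (Subgroup.mem_subgroupOf.2 ha)
        have h2 : ((⟨a * (k : X) * a⁻¹, hFH a (hSF ha) k k.2⟩ : H) : ↥H ⧸ K₁.subgroupOf H) =
            (k : ↥H ⧸ K₁.subgroupOf H) := h1
        rw [QuotientGroup.eq, Subgroup.mem_subgroupOf] at h2
        have h3 : ((⟨a * (k : X) * a⁻¹, hFH a (hSF ha) k k.2⟩ : H)⁻¹ * k : H) =
            (a * (k : X) * a⁻¹)⁻¹ * (k : X) := rfl
        rw [h3] at h2
        have h4 := hHK _ (hFH a (hSF ha) k k.2) _ h2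
        have h5 := K₁.inv_mem h4
        have h6 : (a * (k : X) * a⁻¹ * ((a * (k : X) * a⁻¹)⁻¹ * (k : X)) *
            (a * (k : X) * a⁻¹)⁻¹)⁻¹ = a * (k : X) * a⁻¹ * (k : X)⁻¹ := by group
        rwa [h6] at h5
      have hSH : S ≤ Subgroup.normalizer (H : Set X) :=
        hSF.trans (le_normalizer_of_forall F H hFH)
      have hcopS : (Nat.card S).Coprime (Nat.card H) :=
        Nat.Coprime.coprime_dvd_left (Subgroup.card_dvd_of_le hSF) hcop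
      obtain ⟨c, hc, hkc⟩ := coprime_fixed_coset S H hSH hcopS (Or.inr hsolv) K₁ hK₁H
        (le_normalizer_of_forall H K₁ hHK)
        (hSF.trans (le_normalizer_of_forall F K₁ hFK)) (k : X) k.2 hfix
      refine ⟨⟨c, hc⟩, ?_⟩
      rw [hφ]
      symm
      rw [QuotientGroup.eq, Subgroup.mem_subgroupOf]
      exact hkc

theorem card_fixS_le_of_cyclic (hFH : ∀ f ∈ F, ∀ x ∈ H, f * x * f⁻¹ ∈ H) (hK₁H : K₁ ≤ H)
    (hHK : ∀ h ∈ H, ∀ k ∈ K₁, h * k * h⁻¹ ∈ K₁)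
    [hN : (K₁.subgroupOf H).Normal] (hFK : ∀ f ∈ F, ∀ k ∈ K₁, f * k * f⁻¹ ∈ K₁)
    (hcop : (Nat.card F).Coprime (Nat.card H)) (hsolv : Group.IsSolvable H)
    (S : Subgroup X) (hSF : S ≤ F) (ℓ : ℕ) (hℓ : 0 < ℓ)
    (hexp : ∀ x : ↥H ⧸ K₁.subgroupOf H, x ^ ℓ = 1)
    (hcyc : IsCyclic ↥(H ⊓ Subgroup.centralizer (S : Set X))) :
    Nat.card (@fixS ↥F _ (↥H ⧸ K₁.subgroupOf H) _ (qAct F H K₁ hFH hFK) (S.subgroupOf F)) ≤ ℓ := by
  rw [fixS_eq_range F H K₁ hFH hK₁H hHK hFK hcop hsolv S hSF]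
  haveI : IsCyclic (quotHom H K₁ S).range :=
    isCyclic_of_surjective (quotHom H K₁ S).rangeRestrict
      (quotHom H K₁ S).rangeRestrict_surjective
  obtain ⟨g, hg⟩ := IsCyclic.exists_generator (α := (quotHom H K₁ S).range)
  rw [← orderOf_eq_card_of_forall_mem_zpowers hg]
  apply Nat.le_of_dvd hℓ
  apply orderOf_dvd_of_pow_eq_one
  apply Subtype.ext
  rw [Subgroup.coe_pow]
  exact hexp _

end range

section ab

variable {X : Type u} [Group X] [Finite X] (U E P : Subgroup X)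

/-- commutators of elements of `U` act trivially on `P` modulo `K1 P ℓ`. -/
theorem ab_mod_K1 (hnil : Group.IsNilpotent U)
    (hUn : ∀ e ∈ E, ∀ u ∈ U, e * u * e⁻¹ ∈ U)
    (hfpf : ∀ e ∈ E, e ≠ 1 → ∀ u ∈ U, e * u = u * e → u = 1)
    (hFP : ∀ x ∈ U ⊔ E, ∀ h ∈ P, x * h * x⁻¹ ∈ P) (hsolv : Group.IsSolvable P)
    (hcop : (Nat.card P).Coprime (Nat.card ↥(U ⊔ E))) (ℓ : ℕ) (hℓ : ℓ.Prime)
    (hℓP : ℓ ∣ Nat.card P)
    (hcyc : IsCyclic ↥(P ⊓ Subgroup.centralizer (E : Set X))) :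
    ∀ a ∈ U, ∀ b ∈ U, ∀ k ∈ P, ⁅a, b⁆ * k * ⁅a, b⁆⁻¹ * k⁻¹ ∈ K1 P ℓ := by
  haveI : Fact ℓ.Prime := ⟨hℓ⟩
  have hKle := K1_le P ℓ
  have hFK : ∀ f ∈ U ⊔ E, ∀ k ∈ K1 P ℓ, f * k * f⁻¹ ∈ K1 P ℓ :=
    fun f hf => conj_mem_K1 P ℓ f (hFP f hf)
  have hHK : ∀ h ∈ P, ∀ k ∈ K1 P ℓ, h * k * h⁻¹ ∈ K1 P ℓ :=
    fun h hh => conj_mem_K1 P ℓ h
      (fun x hx => P.mul_mem (P.mul_mem hh hx) (P.inv_mem hh))
  have hone := card_fixS_le_of_cyclic (U ⊔ E) P (K1 P ℓ) hFP hKle hHK hFK hcop.symm hsolv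
    E le_sup_right ℓ hℓ.pos (quot_K1_pow P ℓ) hcyc
  letI := qAct (U ⊔ E) P (K1 P ℓ) hFP hFK
  haveI := normal_subgroupOf_sup U E hUn
  have hℓF : ¬ ℓ ∣ Nat.card ↥(U ⊔ E) := by
    intro h
    have := Nat.dvd_gcd hℓP h
    rw [hcop] at this
    exact hℓ.one_lt.ne' (Nat.dvd_one.1 this)
  have hℓU : ¬ ℓ ∣ Nat.card (U.subgroupOf (U ⊔ E)) := fun h =>
    hℓF (h.trans (Subgroup.card_subgroup_dvd_card _))
  have hℓE : ¬ ℓ ∣ Nat.card (E.subgroupOf (U ⊔ E)) := fun h =>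
    hℓF (h.trans (Subgroup.card_subgroup_dvd_card _))
  have hab := fix_ab (V := ↥P ⧸ (K1 P ℓ).subgroupOf P)
    (U.subgroupOf (U ⊔ E)) (E.subgroupOf (U ⊔ E)) ℓ
    (nilpotent_subgroupOf U E hnil) (fpf_subgroupOf U E hfpf) (quot_K1_comm P ℓ)
    (quot_K1_pow P ℓ) hℓU hℓE hone
  intro a ha b hb k hk
  have haF : a ∈ U ⊔ E := Subgroup.mem_sup_left ha
  have hbF : b ∈ U ⊔ E := Subgroup.mem_sup_left hb
  -- the commutator acts trivially on the quotient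
  have h1 : ∀ v : ↥P ⧸ (K1 P ℓ).subgroupOf P,
      (⁅(⟨a, haF⟩ : ↥(U ⊔ E)), (⟨b, hbF⟩ : ↥(U ⊔ E))⁆) • v = v := by
    intro v
    rw [commutatorElement_def, mul_smul, mul_smul, mul_smul,
      hab ⟨a, haF⟩ (Subgroup.mem_subgroupOf.2 ha) ⟨b, hbF⟩ (Subgroup.mem_subgroupOf.2 hb),
      smul_inv_smul, smul_inv_smul]
  have h2 := h1 ((⟨k, hk⟩ : P) : ↥P ⧸ (K1 P ℓ).subgroupOf P)
  have hcF : ⁅a, b⁆ ∈ U ⊔ E := by
    rw [commutatorElement_def]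
    exact Subgroup.mul_mem _ (Subgroup.mul_mem _ (Subgroup.mul_mem _ haF hbF)
      (Subgroup.inv_mem _ haF)) (Subgroup.inv_mem _ hbF)
  have h3 : ((⟨⁅a, b⁆ * k * ⁅a, b⁆⁻¹, hFP _ hcF k hk⟩ : P) : ↥P ⧸ (K1 P ℓ).subgroupOf P) =
      ((⟨k, hk⟩ : P) : ↥P ⧸ (K1 P ℓ).subgroupOf P) := h2
  rw [QuotientGroup.eq, Subgroup.mem_subgroupOf] at h3
  have h4 : ((⟨⁅a, b⁆ * k * ⁅a, b⁆⁻¹, hFP _ hcF k hk⟩ : P)⁻¹ * (⟨k, hk⟩ : P) : P) =
      (⁅a, b⁆ * k * ⁅a, b⁆⁻¹)⁻¹ * k := rfl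
  rw [h4] at h3
  have h5 := hHK _ (hFP _ hcF k hk) _ h3
  have h6 := (K1 P ℓ).inv_mem h5
  have h7 : (⁅a, b⁆ * k * ⁅a, b⁆⁻¹ * ((⁅a, b⁆ * k * ⁅a, b⁆⁻¹)⁻¹ * k) *
      (⁅a, b⁆ * k * ⁅a, b⁆⁻¹)⁻¹)⁻¹ = ⁅a, b⁆ * k * ⁅a, b⁆⁻¹ * k⁻¹ := by group
  rwa [h7] at h6

theorem K1_le_frattini (ℓ : ℕ) [Fact ℓ.Prime] (hP : IsPGroup ℓ P) :
    K1 P ℓ ≤ (frattini ↥P).map P.subtype := by
  unfold K1
  apply sup_le
  · rw [Subgroup.commutator_le]
    intro a ha b hb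
    refine ⟨⁅(⟨a, ha⟩ : P), (⟨b, hb⟩ : P)⁆, ?_, rfl⟩
    apply commutator_le_frattini_of_isPGroup hP
    exact Subgroup.commutator_mem_commutator (Subgroup.mem_top _) (Subgroup.mem_top _)
  · rw [Subgroup.closure_le]
    rintro x ⟨h, hh, rfl⟩
    exact ⟨(⟨h, hh⟩ : P) ^ ℓ, pow_mem_frattini_of_isPGroup hP _, rfl⟩

/-- the derived subgroup of `U` centralises `P`. -/
theorem commutator_le_centralizer_of_cyclic (hnil : Group.IsNilpotent U)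
    (hUn : ∀ e ∈ E, ∀ u ∈ U, e * u * e⁻¹ ∈ U)
    (hfpf : ∀ e ∈ E, e ≠ 1 → ∀ u ∈ U, e * u = u * e → u = 1)
    (hFP : ∀ x ∈ U ⊔ E, ∀ h ∈ P, x * h * x⁻¹ ∈ P)
    (hcop : (Nat.card P).Coprime (Nat.card ↥(U ⊔ E))) (ℓ : ℕ) [hℓ : Fact ℓ.Prime]
    (hP : IsPGroup ℓ P)
    (hcyc : IsCyclic ↥(P ⊓ Subgroup.centralizer (E : Set X))) :
    ⁅U, U⁆ ≤ Subgroup.centralizer (P : Set X) := by
  by_cases hP1 : P = ⊥
  · rw [hP1]
    intro x _
    rw [Subgroup.mem_centralizer_iff]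
    intro y hy
    rw [SetLike.mem_coe, Subgroup.mem_bot] at hy
    rw [hy, one_mul, mul_one]
  have hℓP : ℓ ∣ Nat.card P := by
    obtain ⟨n, hn⟩ := IsPGroup.iff_card.1 hP
    rw [hn]
    have hn0 : n ≠ 0 := by
      intro h0
      rw [h0, pow_zero] at hn
      exact hP1 (Subgroup.card_eq_one.1 hn)
    exact dvd_pow_self ℓ hn0
  have hsolv : Group.IsSolvable P := by
    haveI := hP.isNilpotent
    infer_instance
  have hab := ab_mod_K1 U E P hnil hUn hfpf hFP hsolv hcop ℓ hℓ.out hℓP hcyc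
  have hUUF : ⁅U, U⁆ ≤ U ⊔ E := by
    refine le_trans ?_ (le_sup_left : U ≤ U ⊔ E)
    rw [Subgroup.commutator_le]
    intro a ha b hb
    exact U.mul_mem (U.mul_mem (U.mul_mem ha hb) (U.inv_mem ha)) (U.inv_mem hb)
  apply coprime_trivial_on_frattini_quotient ⁅U, U⁆ P
  · exact hUUF.trans (le_normalizer_of_forall (U ⊔ E) P hFP)
  · apply Nat.Coprime.coprime_dvd_left (Subgroup.card_dvd_of_le hUUF)
    apply Nat.Coprime.coprime_dvd_right _ hcop.symm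
    exact Subgroup.card_subgroup_dvd_card _
  · -- the set of elements acting trivially is a subgroup containing the commutators
    let T : Subgroup X :=
      { carrier := {x | x ∈ U ⊔ E ∧ ∀ k ∈ P, x * k * x⁻¹ * k⁻¹ ∈ (frattini ↥P).map P.subtype}
        mul_mem' := by
          rintro x y ⟨hx, hx'⟩ ⟨hy, hy'⟩
          refine ⟨Subgroup.mul_mem _ hx hy, fun k hk => ?_⟩
          have h1 := hx' _ (hFP y hy k hk)
          have h2 := hy' k hk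
          have h3 : x * y * k * (x * y)⁻¹ * k⁻¹ =
              (x * (y * k * y⁻¹) * x⁻¹ * (y * k * y⁻¹)⁻¹) * (y * k * y⁻¹ * k⁻¹) := by group
          rw [h3]
          exact Subgroup.mul_mem _ h1 h2
        one_mem' := by
          refine ⟨Subgroup.one_mem _, fun k _ => ?_⟩
          simp
        inv_mem' := by
          rintro x ⟨hx, hx'⟩
          refine ⟨Subgroup.inv_mem _ hx, fun k hk => ?_⟩
          have hk' : x⁻¹ * k * x ∈ P := by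
            have := hFP x⁻¹ (Subgroup.inv_mem _ hx) k hk
            rwa [inv_inv] at this
          have h1 := hx' _ hk'
          have h2 := Subgroup.inv_mem _ h1
          have h3 : (x * (x⁻¹ * k * x) * x⁻¹ * (x⁻¹ * k * x)⁻¹)⁻¹ = x⁻¹ * k * x⁻¹⁻¹ * k⁻¹ := by
            group
          rwa [h3] at h2 }
    have hT : ⁅U, U⁆ ≤ T := by
      rw [Subgroup.commutator_le]
      intro a ha b hb
      refine ⟨hUUF (Subgroup.commutator_mem_commutator ha hb), fun k hk => ?_⟩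
      exact K1_le_frattini P ℓ hP (hab a ha b hb k hk)
    intro a ha k hk
    exact (hT ha).2 k hk

end ab

end Cfsg.Agent.Lib.Helper4.FM
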