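import Mathlib
import Cfsg.Agent.Lib.Helper4.HH14
import Cfsg.Agent.Lib.Helper3.Gen2
import Cfsg.Agent.Lib.Lead.CoprimeSylow5

set_option autoImplicit false

/-! The elements whose action on a normalised subgroup commutes with that of a given element. -/

namespace Cfsg.Agent.Lib.Helper4.HH

open scoped commutatorElement

section commT

variable {X : Type*} [Group X]

/-- the elements `k` normalising `V` whose conjugation action on `V` commutes with that of `a`. -/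
def commT (V : Subgroup X) (a : X) : Subgroup X where
  carrier := {k | k ∈ Subgroup.normalizer (V : Set X) ∧
    ∀ v ∈ V, a * (k * v * k⁻¹) * a⁻¹ = k * (a * v * a⁻¹) * k⁻¹}
  mul_mem' := by
    rintro k k' ⟨hk, hk'⟩ ⟨hl, hl'⟩
    refine ⟨Subgroup.mul_mem _ hk hl, ?_⟩
    intro v hv
    have hv' : k' * v * k'⁻¹ ∈ V := (Subgroup.mem_normalizer_iff.1 hl v).1 hv
    calc a * (k * k' * v * (k * k')⁻¹) * a⁻¹ = a * (k * (k' * v * k'⁻¹) * k⁻¹) * a⁻¹ := by group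
      _ = k * (a * (k' * v * k'⁻¹) * a⁻¹) * k⁻¹ := hk' _ hv'
      _ = k * (k' * (a * v * a⁻¹) * k'⁻¹) * k⁻¹ := by rw [hl' v hv]
      _ = k * k' * (a * v * a⁻¹) * (k * k')⁻¹ := by group
  one_mem' := by
    refine ⟨Subgroup.one_mem _, ?_⟩
    intro v _
    simp
  inv_mem' := by
    rintro k ⟨hk, hk'⟩
    refine ⟨Subgroup.inv_mem _ hk, ?_⟩
    intro v hv
    have hw : k⁻¹ * v * k⁻¹⁻¹ ∈ V :=
      (Subgroup.mem_normalizer_iff.1 (Subgroup.inv_mem _ hk) v).1 hv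
    have h1 := hk' _ hw
    have h2 : k * (k⁻¹ * v * k⁻¹⁻¹) * k⁻¹ = v := by group
    rw [h2] at h1
    rw [h1]
    group

theorem mem_commT (V : Subgroup X) (a k : X) : k ∈ commT V a ↔
    k ∈ Subgroup.normalizer (V : Set X) ∧
      ∀ v ∈ V, a * (k * v * k⁻¹) * a⁻¹ = k * (a * v * a⁻¹) * k⁻¹ := Iff.rfl

theorem comm_mem_centralizer_of_mem_commT (V : Subgroup X) (a k : X)
    (ha : a ∈ Subgroup.normalizer (V : Set X)) (hk : k ∈ commT V a) :
    ⁅a, k⁆ ∈ Subgroup.centralizer (V : Set X) := by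
  rw [Subgroup.mem_centralizer_iff]
  intro v hv
  have hka : k * a ∈ Subgroup.normalizer (V : Set X) := Subgroup.mul_mem _ hk.1 ha
  have hw : (k * a)⁻¹ * v * (k * a)⁻¹⁻¹ ∈ V :=
    (Subgroup.mem_normalizer_iff.1 (Subgroup.inv_mem _ hka) v).1 hv
  have h1 := hk.2 _ hw
  have h2 : k * (a * ((k * a)⁻¹ * v * (k * a)⁻¹⁻¹) * a⁻¹) * k⁻¹ = v := by group
  rw [h2] at h1
  rw [commutatorElement_def]
  calc v * (a * k * a⁻¹ * k⁻¹)
      = (a * (k * ((k * a)⁻¹ * v * (k * a)⁻¹⁻¹) * k⁻¹) * a⁻¹) * (a * k * a⁻¹ * k⁻¹) := by rw [h1]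
    _ = a * k * a⁻¹ * k⁻¹ * v := by group

end commT

end Cfsg.Agent.Lib.Helper4.HH
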