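import Mathlib
import Cfsg.Agent.Lib.Helper4.HH15
import Cfsg.Agent.Lib.Helper4.FM13
import Cfsg.Agent.Lib.Lead.CoprimeFrattini

set_option autoImplicit false

/-! An element of prime order `r` acting without fixed points on an `ℓ`-group `P`, together with an
invariant `q`-group `Q` (`q` odd): `[Q, x]` centralises `P`. -/

namespace Cfsg.Agent.Lib.Helper4.HH

open Cfsg.Agent.Lib.Helper4.FM Cfsg.Agent.Lib.Lead

open scoped commutatorElement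

universe u

section trivT

variable {G : Type u} [Group G] (F P : Subgroup G)

/-- the elements of `F` acting trivially on `P` modulo its Frattini subgroup. -/
def trivT (hFP : ∀ x ∈ F, ∀ h ∈ P, x * h * x⁻¹ ∈ P) : Subgroup G where
  carrier := {x | x ∈ F ∧ ∀ k ∈ P, x * k * x⁻¹ * k⁻¹ ∈ (frattini ↥P).map P.subtype}
  mul_mem' := by
    rintro x y ⟨hx, hx'⟩ ⟨hy, hy'⟩
    refine ⟨Subgroup.mul_mem _ hx hy, fun k hk => ?_⟩
    have h1 := hx' _ (hFP y hy k hk)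
    have h2 := hy' k hk
    have h3 : x * y * k * (x * y)⁻¹ * k⁻¹ =
        (x * (y * k * y⁻¹) * x⁻¹ * (y * k * y⁻¹)⁻¹) * (y * k * y⁻¹ * k⁻¹) := by group
    rw [h3]
    exact Subgroup.mul_mem _ h1 h2
  one_mem' := by
    refine ⟨Subgroup.one_mem _, fun k _ => ?_⟩
    simp
  inv_mem' := by
    rintro x ⟨hx, hx'⟩
    refine ⟨Subgroup.inv_mem _ hx, fun k hk => ?_⟩
    have hk' : x⁻¹ * k * x ∈ P := by
      have := hFP x⁻¹ (Subgroup.inv_mem _ hx) k hk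
      rwa [inv_inv] at this
    have h1 := hx' _ hk'
    have h2 := Subgroup.inv_mem _ h1
    have h3 : (x * (x⁻¹ * k * x) * x⁻¹ * (x⁻¹ * k * x)⁻¹)⁻¹ = x⁻¹ * k * x⁻¹⁻¹ * k⁻¹ := by
      group
    rwa [h3] at h2

end trivT

section pgroup

variable {G : Type u} [Group G] [Finite G]

theorem hh_pgroup (Q P : Subgroup G) (x : G) (q r ℓ : ℕ) (hq : q.Prime) (hr : r.Prime)
    (hℓ : ℓ.Prime) (hqr : q ≠ r) (hqℓ : q ≠ ℓ) (hrℓ : r ≠ ℓ) (hQ : IsPGroup q Q)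
    (hP : IsPGroup ℓ P) (hx : x ^ r = 1) (hxQ : ∀ m ∈ Q, x * m * x⁻¹ ∈ Q)
    (hFP : ∀ g ∈ Q ⊔ Subgroup.zpowers x, ∀ h ∈ P, g * h * g⁻¹ ∈ P)
    (hCP : P ⊓ Subgroup.centralizer ((Subgroup.zpowers x : Subgroup G) : Set G) = ⊥)
    (hq2 : q ≠ 2) :
    ⁅Q, Subgroup.zpowers x⁆ ≤ Subgroup.centralizer (P : Set G) := by
  haveI : Fact ℓ.Prime := ⟨hℓ⟩
  haveI : Fact q.Prime := ⟨hq⟩
  by_cases hx1 : x = 1
  · rw [hx1, Subgroup.zpowers_one_eq_bot, Subgroup.commutator_bot_right]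
    exact bot_le
  have hcardX := card_zpowers_of_prime x r hr hx hx1
  have hxF : x ∈ Q ⊔ Subgroup.zpowers x := Subgroup.mem_sup_right (Subgroup.mem_zpowers x)
  have hQF : Q ≤ Q ⊔ Subgroup.zpowers x := le_sup_left
  have hKle := K1_le P ℓ
  have hFK : ∀ f ∈ Q ⊔ Subgroup.zpowers x, ∀ k ∈ K1 P ℓ, f * k * f⁻¹ ∈ K1 P ℓ :=
    fun f hf => conj_mem_K1 P ℓ f (hFP f hf)
  have hHK : ∀ h ∈ P, ∀ k ∈ K1 P ℓ, h * k * h⁻¹ ∈ K1 P ℓ :=
    fun h hh => conj_mem_K1 P ℓ h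
      (fun x hx => P.mul_mem (P.mul_mem hh hx) (P.inv_mem hh))
  have hsolvP : Group.IsSolvable P := by
    haveI := hP.isNilpotent
    infer_instance
  -- normalisation and coprimality
  have hzn : Subgroup.zpowers x ≤ Subgroup.normalizer (Q : Set G) := by
    rw [Subgroup.zpowers_le, Subgroup.mem_normalizer_iff]
    intro m
    constructor
    · exact hxQ m
    · intro hm
      have := conj_inv_mem Q x r hr.pos hx hxQ _ hm
      have e : x⁻¹ * (x * m * x⁻¹) * x = m := by group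
      rwa [e] at this
  obtain ⟨a, ha⟩ := IsPGroup.iff_card.1 hQ
  obtain ⟨b, hb⟩ := IsPGroup.iff_card.1 hP
  have hcardF : Nat.card ↥(Q ⊔ Subgroup.zpowers x) ∣ q ^ a * r := by
    have h1 := card_sup_mul_card_inf (Subgroup.zpowers x) Q hzn
    rw [sup_comm, hcardX, ha, mul_comm r] at h1
    exact Dvd.intro _ h1
  have hcop : (Nat.card ↥(Q ⊔ Subgroup.zpowers x)).Coprime (Nat.card P) := by
    apply Nat.Coprime.coprime_dvd_left hcardF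
    rw [hb]
    apply Nat.Coprime.pow_right
    apply Nat.Coprime.mul_left
    · exact Nat.Coprime.pow_left a ((Nat.coprime_primes hq hℓ).2 hqℓ)
    · exact (Nat.coprime_primes hr hℓ).2 hrℓ
  letI := qAct (Q ⊔ Subgroup.zpowers x) P (K1 P ℓ) hFP hFK
  -- fixed points of `x` on the quotient
  have hfix := card_centralizer_eq (Q ⊔ Subgroup.zpowers x) P (K1 P ℓ) hFP hKle hHK hFK hcop hsolvP
    (Subgroup.zpowers x) le_sup_right
  rw [hCP, Subgroup.card_bot] at hfix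
  have hfix1 : Nat.card (fixS (V := ↥P ⧸ (K1 P ℓ).subgroupOf P)
      ((Subgroup.zpowers x).subgroupOf (Q ⊔ Subgroup.zpowers x))) = 1 :=
    Nat.eq_one_of_mul_eq_one_left hfix.symm
  have H4 : ∀ v : ↥P ⧸ (K1 P ℓ).subgroupOf P,
      (⟨x, hxF⟩ : ↥(Q ⊔ Subgroup.zpowers x)) • v = v → v = 1 := by
    intro v hv
    have hmem : v ∈ fixS (V := ↥P ⧸ (K1 P ℓ).subgroupOf P)
        ((Subgroup.zpowers x).subgroupOf (Q ⊔ Subgroup.zpowers x)) := by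
      intro s hs
      rw [Subgroup.mem_subgroupOf] at hs
      obtain ⟨i, hi⟩ := Subgroup.mem_zpowers_iff.1 hs
      have hs' : s = (⟨x, hxF⟩ : ↥(Q ⊔ Subgroup.zpowers x)) ^ i := by
        apply Subtype.ext
        rw [Subgroup.coe_zpow]
        exact hi.symm
      have hstab : (⟨x, hxF⟩ : ↥(Q ⊔ Subgroup.zpowers x)) ∈
          MulAction.stabilizer ↥(Q ⊔ Subgroup.zpowers x) v := hv
      have := Subgroup.zpow_mem _ hstab i
      rw [← hs'] at this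
      exact this
    have hbot := Subgroup.eq_bot_of_card_eq _ hfix1
    rw [hbot] at hmem
    exact Subgroup.mem_bot.1 hmem
  have hmain := hh_act (A := ↥(Q ⊔ Subgroup.zpowers x)) (V := ↥P ⧸ (K1 P ℓ).subgroupOf P) ℓ
    (quot_K1_comm P ℓ) (quot_K1_pow P ℓ) ⟨x, hxF⟩ q r hq hr hqr hqℓ hrℓ
    (by apply Subtype.ext; rw [Subgroup.coe_pow]; exact hx) H4
    (Q.subgroupOf (Q ⊔ Subgroup.zpowers x)) hQ.comap_subtype
    (by
      intro m hm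
      rw [Subgroup.mem_subgroupOf] at hm ⊢
      exact hxQ _ hm)
    (fun h2 => absurd h2 hq2)
  -- the generators of `[Q, x]` act trivially modulo the Frattini subgroup
  have hS : ∀ m ∈ Q, m⁻¹ * x⁻¹ * m * x ∈ trivT (Q ⊔ Subgroup.zpowers x) P hFP := by
    intro m hm
    have hmF : m ∈ Q ⊔ Subgroup.zpowers x := hQF hm
    have hcF : m⁻¹ * x⁻¹ * m * x ∈ Q ⊔ Subgroup.zpowers x :=
      Subgroup.mul_mem _ (Subgroup.mul_mem _ (Subgroup.mul_mem _ (Subgroup.inv_mem _ hmF)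
        (Subgroup.inv_mem _ hxF)) hmF) hxF
    refine ⟨hcF, fun k hk => ?_⟩
    have h1 : ∀ v : ↥P ⧸ (K1 P ℓ).subgroupOf P,
        ((⟨m, hmF⟩ : ↥(Q ⊔ Subgroup.zpowers x))⁻¹ * (⟨x, hxF⟩ : ↥(Q ⊔ Subgroup.zpowers x))⁻¹ *
          ⟨m, hmF⟩ * ⟨x, hxF⟩) • v = v := by
      intro v
      rw [mul_smul, mul_smul, mul_smul,
        ← hmain ⟨m, hmF⟩ (Subgroup.mem_subgroupOf.2 hm) v, inv_smul_smul, inv_smul_smul]
    have h2 := h1 ((⟨k, hk⟩ : P) : ↥P ⧸ (K1 P ℓ).subgroupOf P)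
    have h3 : ((⟨(m⁻¹ * x⁻¹ * m * x) * k * (m⁻¹ * x⁻¹ * m * x)⁻¹, hFP _ hcF k hk⟩ : P) :
        ↥P ⧸ (K1 P ℓ).subgroupOf P) = ((⟨k, hk⟩ : P) : ↥P ⧸ (K1 P ℓ).subgroupOf P) := h2
    rw [QuotientGroup.eq, Subgroup.mem_subgroupOf] at h3
    have h4 : ((⟨(m⁻¹ * x⁻¹ * m * x) * k * (m⁻¹ * x⁻¹ * m * x)⁻¹, hFP _ hcF k hk⟩ : P)⁻¹ *
        (⟨k, hk⟩ : P) : P) = ((m⁻¹ * x⁻¹ * m * x) * k * (m⁻¹ * x⁻¹ * m * x)⁻¹)⁻¹ * k := rfl
    rw [h4] at h3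
    have h5 := hHK _ (hFP _ hcF k hk) _ h3
    have h6 := (K1 P ℓ).inv_mem h5
    have h7 : ((m⁻¹ * x⁻¹ * m * x) * k * (m⁻¹ * x⁻¹ * m * x)⁻¹ *
        (((m⁻¹ * x⁻¹ * m * x) * k * (m⁻¹ * x⁻¹ * m * x)⁻¹)⁻¹ * k) *
        ((m⁻¹ * x⁻¹ * m * x) * k * (m⁻¹ * x⁻¹ * m * x)⁻¹)⁻¹)⁻¹ =
        (m⁻¹ * x⁻¹ * m * x) * k * (m⁻¹ * x⁻¹ * m * x)⁻¹ * k⁻¹ := by group
    rw [h7] at h6
    exact K1_le_frattini P ℓ hP h6
  have hxQ' : ∀ m ∈ Q, x⁻¹ * m * x ∈ Q := conj_inv_mem Q x r hr.pos hx hxQ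
  have hT := comm_le_of_gen Q (trivT (Q ⊔ Subgroup.zpowers x) P hFP) x
    (isOfFinOrder_of_finite x) hxQ' hS
  have hcommQ : ⁅Q, Subgroup.zpowers x⁆ ≤ Q := comm_le_left_of_normalizes Q _ hzn
  apply coprime_trivial_on_frattini_quotient ⁅Q, Subgroup.zpowers x⁆ P
  · exact (hcommQ.trans hQF).trans (le_normalizer_of_forall _ P hFP)
  · apply Nat.Coprime.coprime_dvd_left (Subgroup.card_dvd_of_le hcommQ)
    apply Nat.Coprime.coprime_dvd_right (Subgroup.card_subgroup_dvd_card _)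
    rw [ha, hb]
    exact Nat.Coprime.pow _ _ ((Nat.coprime_primes hq hℓ).2 hqℓ)
  · intro a ha k hk
    exact (hT ha).2 k hk

end pgroup

end Cfsg.Agent.Lib.Helper4.HH
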