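import Mathlib
import Cfsg.Agent.Lib.Helper4.HH19
import Cfsg.Agent.Lib.Helper4.BG8f

set_option autoImplicit false

/-! Prime action: basics on `O_p(K)` and `F(K)` for a normal subgroup `K`, and the fact that a
coprime automorphism centralising `F(K)` centralises the solvable group `K`. -/

namespace Cfsg.Agent.Lib.Helper4.PA

open Cfsg Cfsg.Agent.Lib.Helper4.BG8 Cfsg.Agent.Lib.Helper4.HH Cfsg.Agent.Lib.Lead
open Cfsg.Agent.Lib.Helper4.ThreeStep

open scoped commutatorElement

universe u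

variable {G : Type u} [Group G] [Finite G]

theorem opOf_normal (p : ℕ) (K : Subgroup G) [hK : K.Normal] : (opOf p K).Normal := by
  apply Subgroup.normalizer_eq_top_iff.mp
  apply top_le_iff.mp
  rw [← Subgroup.normalizer_eq_top_iff.mpr hK]
  exact normalizer_le_normalizer_opOf p K

theorem fittingOf_normal (K : Subgroup G) [hK : K.Normal] : (fittingOf K).Normal := by
  rw [fittingOf_eq_iSup]
  haveI : ∀ p : Nat.Primes, (opOf (p : ℕ) K).Normal := fun p => opOf_normal p K
  exact Subgroup.iSup_normal _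

theorem eq_bot_of_isPGroup_of_not_dvd {r : ℕ} (hr : r.Prime) {Q K : Subgroup G} (hQK : Q ≤ K)
    (hQ : IsPGroup r Q) (h : ¬ r ∣ Nat.card K) : Q = ⊥ := by
  haveI : Fact r.Prime := ⟨hr⟩
  obtain ⟨n, hn⟩ := (IsPGroup.iff_card).mp hQ
  apply Subgroup.eq_bot_of_card_eq
  rcases Nat.eq_zero_or_pos n with h0 | h0
  · rw [hn, h0, pow_zero]
  · exfalso
    apply h
    have h1 : r ∣ Nat.card Q := by
      rw [hn]
      exact dvd_pow_self r (Nat.pos_iff_ne_zero.mp h0)
    exact h1.trans (Subgroup.card_dvd_of_le hQK)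

theorem le_normalizer_sup {A B C : Subgroup G} (hB : A ≤ Subgroup.normalizer (B : Set G))
    (hC : A ≤ Subgroup.normalizer (C : Set G)) :
    A ≤ Subgroup.normalizer ((B ⊔ C : Subgroup G) : Set G) := by
  intro a ha
  apply mem_normalizer_of_map_le
  rw [Subgroup.map_sup]
  rw [map_conj_eq_of_mem_normalizer (hB ha), map_conj_eq_of_mem_normalizer (hC ha)]

theorem cent_of_cent_fitting (K : Subgroup G) [hKn : K.Normal] (hK : Group.IsSolvable K) (x : G)
    (hcop : (orderOf x).Coprime (Nat.card K))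
    (hF : ∀ f ∈ fittingOf K, x * f = f * x) : ∀ k ∈ K, x * k = k * x := by
  have := fittingOf_normal K
  have hXF : Subgroup.zpowers x ≤ Subgroup.centralizer (fittingOf K : Set G) := by
    rw [Subgroup.zpowers_le]
    rw [Subgroup.mem_centralizer_iff]
    intro f hf
    exact (hF f hf).symm
  have h1 : ⁅Subgroup.zpowers x, fittingOf K⁆ = ⊥ :=
    Subgroup.commutator_eq_bot_iff_le_centralizer.mpr hXF
  have h2 : ⁅⁅fittingOf K, Subgroup.zpowers x⁆, K⁆ = ⊥ := by
    rw [Subgroup.commutator_comm (fittingOf K), h1, Subgroup.commutator_bot_left]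
  have h3 : ⁅⁅K, fittingOf K⁆, Subgroup.zpowers x⁆ = ⊥ := by
    apply le_bot_iff.mp
    have : ⁅K, fittingOf K⁆ ≤ fittingOf K := Subgroup.commutator_le_right _ _
    calc ⁅⁅K, fittingOf K⁆, Subgroup.zpowers x⁆ ≤ ⁅fittingOf K, Subgroup.zpowers x⁆ :=
          Subgroup.commutator_mono this le_rfl
      _ = ⊥ := by rw [Subgroup.commutator_comm, h1]
  have h4 : ⁅⁅Subgroup.zpowers x, K⁆, fittingOf K⁆ = ⊥ :=
    Subgroup.commutator_commutator_eq_bot_of_rotate h3 h2
  have h5 : ⁅Subgroup.zpowers x, K⁆ ≤ Subgroup.centralizer (fittingOf K : Set G) :=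
    Subgroup.commutator_eq_bot_iff_le_centralizer.mp h4
  have h6 : ⁅Subgroup.zpowers x, K⁆ ≤ K := Subgroup.commutator_le_right _ _
  have h7 : ⁅K, Subgroup.zpowers x⁆ ≤ fittingOf K := by
    rw [Subgroup.commutator_comm]
    exact (le_inf h6 h5).trans (centralizer_fittingOf_le hK)
  have hXK : Subgroup.zpowers x ≤ Subgroup.normalizer (K : Set G) := by
    rw [Subgroup.normalizer_eq_top_iff.mpr hKn]
    exact le_top
  have hcop' : (Nat.card (Subgroup.zpowers x)).Coprime (Nat.card K) := by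
    rw [Nat.card_zpowers]
    exact hcop
  intro k hk
  obtain ⟨c, hc, hkc⟩ := exists_fixed_mul_comm K (Subgroup.zpowers x) hXK hcop' (Or.inr hK) k hk
  have hn : k⁻¹ * c ∈ fittingOf K := h7 hkc
  have hcx : c * x = x * c :=
    Subgroup.mem_centralizer_iff.mp hc.2 x (Subgroup.mem_zpowers x) |>.symm ▸ rfl
  have hnx := hF _ hn
  -- k = c * (k⁻¹ * c)⁻¹
  have e : k = c * (k⁻¹ * c)⁻¹ := by group
  have hnx' : x * (k⁻¹ * c)⁻¹ = (k⁻¹ * c)⁻¹ * x := by
    have := hF _ ((fittingOf K).inv_mem hn)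
    exact this
  rw [e, ← mul_assoc, ← hcx, mul_assoc, hnx', ← mul_assoc]

end Cfsg.Agent.Lib.Helper4.PA
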