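import Mathlib
import Cfsg.Agent.Lib.Helper4.PA1

set_option autoImplicit false

/-! Prime action: an element `x` of prime order acting on the normal subgroup `K` of the odd order
group `G` with `C_{F(K)}(x) = 1`; invariant `q`-subgroups. -/

namespace Cfsg.Agent.Lib.Helper4.PA

open Cfsg Cfsg.Agent.Lib.Helper4.BG8 Cfsg.Agent.Lib.Helper4.HH Cfsg.Agent.Lib.Lead
open Cfsg.Agent.Lib.Helper4.ThreeStep

open scoped commutatorElement

universe u

variable {G : Type u} [Group G] [Finite G]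

theorem step1 (hodd : Odd (Nat.card G)) (K : Subgroup G) [K.Normal] (x : G) (r : ℕ)
    (hr : r.Prime) (hx : x ^ r = 1) (hrK : ¬ r ∣ Nat.card K)
    (hCF : fittingOf K ⊓ Subgroup.centralizer ((Subgroup.zpowers x : Subgroup G) : Set G) = ⊥)
    (q : ℕ) (hq : q.Prime) (Q : Subgroup G) (hQK : Q ≤ K) (hQ : IsPGroup q Q)
    (hxQ : ∀ m ∈ Q, x * m * x⁻¹ ∈ Q) (p : ℕ) (hp : p.Prime) (hpq : p ≠ q) :
    ⁅Q, Subgroup.zpowers x⁆ ≤ Subgroup.centralizer (opOf p K : Set G) := by
  haveI : Fact p.Prime := ⟨hp⟩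
  haveI : Fact q.Prime := ⟨hq⟩
  by_cases hQ1 : Q = ⊥
  · rw [hQ1, Subgroup.commutator_bot_left]
    exact bot_le
  by_cases hqr : q = r
  · exfalso
    apply hQ1
    exact eq_bot_of_isPGroup_of_not_dvd hr hQK (hqr ▸ hQ) hrK
  by_cases hpr : p = r
  · have : opOf p K = ⊥ :=
      eq_bot_of_isPGroup_of_not_dvd hr (opOf_le p K) (hpr ▸ opOf_isPGroup p K) hrK
    rw [this]
    intro y _
    rw [Subgroup.mem_centralizer_iff]
    intro h hh
    have h1 : h = 1 := Subgroup.mem_bot.mp hh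
    rw [h1, one_mul, mul_one]
  have hq2 : q ≠ 2 := by
    intro h2
    obtain ⟨n, hn⟩ := (IsPGroup.iff_card).mp hQ
    have hn0 : n ≠ 0 := by
      intro h0
      apply hQ1
      apply Subgroup.eq_bot_of_card_eq
      rw [hn, h0, pow_zero]
    have h1 : q ∣ Nat.card Q := by
      rw [hn]
      exact dvd_pow_self q hn0
    have h3 : 2 ∣ Nat.card G := by
      rw [← h2]
      exact h1.trans (Subgroup.card_subgroup_dvd_card Q)
    exact (Nat.not_even_iff_odd.mpr hodd) (even_iff_two_dvd.mpr h3)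
  have hN := opOf_normal p K
  apply hh_pgroup Q (opOf p K) x q r p hq hr hp hqr (Ne.symm hpq) (Ne.symm hpr) hQ
    (opOf_isPGroup p K) hx hxQ
  · intro g _ h hh
    exact hN.conj_mem h hh g
  · apply le_bot_iff.mp
    rw [← hCF]
    exact inf_le_inf_right _ (opOf_le_fittingOf p K)
  · exact hq2

theorem step2 (hodd : Odd (Nat.card G)) (K : Subgroup G) [K.Normal] (x : G) (r : ℕ)
    (hr : r.Prime) (hx : x ^ r = 1) (hrK : ¬ r ∣ Nat.card K)
    (hCF : fittingOf K ⊓ Subgroup.centralizer ((Subgroup.zpowers x : Subgroup G) : Set G) = ⊥)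
    (q : ℕ) (hq : q.Prime) (Q L : Subgroup G) (hLK : L ≤ K)
    (hKL : K ≤ Subgroup.normalizer (L : Set G)) (hFL : fittingOf K ≤ L) (hQL : Q ≤ L) (hQ : IsPGroup q Q)
    (hxQ : ∀ m ∈ Q, x * m * x⁻¹ ∈ Q) (hQF : L ≤ Q ⊔ fittingOf K) :
    ⁅Q, Subgroup.zpowers x⁆ ≤ fittingOf K := by
  haveI : Fact q.Prime := ⟨hq⟩
  have hNq := opOf_normal q K
  have hXQ : Subgroup.zpowers x ≤ Subgroup.normalizer (Q : Set G) := by
    rw [Subgroup.zpowers_le, Subgroup.mem_normalizer_iff]
    intro m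
    constructor
    · exact hxQ m
    · intro hm
      -- conjugation by x is injective on the finite set Q
      have hinj : Function.Injective (fun m : Q => (⟨x * m * x⁻¹, hxQ m m.2⟩ : Q)) := by
        intro a b hab
        have := congrArg Subtype.val hab
        simp only [mul_left_inj, mul_right_inj] at this
        exact Subtype.ext this
      have hsurj := Finite.surjective_of_injective hinj
      obtain ⟨a, ha⟩ := hsurj ⟨x * m * x⁻¹, hm⟩
      have := congrArg Subtype.val ha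
      simp only [mul_left_inj, mul_right_inj] at this
      rw [← this]
      exact a.2
  have hQ1Q : ⁅Q, Subgroup.zpowers x⁆ ≤ Q := comm_le_left_of_normalizes Q _ hXQ
  have hS : IsPGroup q (⁅Q, Subgroup.zpowers x⁆ ⊔ opOf q K : Subgroup G) :=
    IsPGroup.to_sup_of_normal_right (hQ.to_le hQ1Q) (opOf_isPGroup q K)
  have hSL : ⁅Q, Subgroup.zpowers x⁆ ⊔ opOf q K ≤ L :=
    sup_le (hQ1Q.trans hQL) ((opOf_le_fittingOf q K).trans hFL)
  -- `L` normalises `S`
  have hQS : Q ≤ Subgroup.normalizer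
      ((⁅Q, Subgroup.zpowers x⁆ ⊔ opOf q K : Subgroup G) : Set G) := by
    apply le_normalizer_sup (le_normalizer_comm_left Q _)
    rw [Subgroup.normalizer_eq_top_iff.mpr hNq]
    exact le_top
  have hFS : fittingOf K ≤ Subgroup.normalizer
      ((⁅Q, Subgroup.zpowers x⁆ ⊔ opOf q K : Subgroup G) : Set G) := by
    rw [fittingOf_eq_iSup]
    apply iSup_le
    intro p
    by_cases hpq : (p : ℕ) = q
    · rw [hpq]
      exact le_sup_right.trans Subgroup.le_normalizer
    · apply le_normalizer_sup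
      · have h1 := step1 hodd K x r hr hx hrK hCF q hq Q (hQL.trans hLK) hQ hxQ p p.2 hpq
        have h2 : opOf (p : ℕ) K ≤
            Subgroup.centralizer ((⁅Q, Subgroup.zpowers x⁆ : Subgroup G) : Set G) :=
          Subgroup.le_centralizer_iff.mp h1
        exact h2.trans (Subgroup.centralizer_le_normalizer _)
      · rw [Subgroup.normalizer_eq_top_iff.mpr hNq]
        exact le_top
  have hLS : L ≤ Subgroup.normalizer
      ((⁅Q, Subgroup.zpowers x⁆ ⊔ opOf q K : Subgroup G) : Set G) :=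
    hQF.trans (sup_le hQS hFS)
  have h1 : ⁅Q, Subgroup.zpowers x⁆ ⊔ opOf q K ≤ opOf q L := le_opOf hSL hLS hS
  have h2 : opOf q L ≤ opOf q K :=
    le_opOf ((opOf_le q L).trans hLK) (hKL.trans (normalizer_le_normalizer_opOf q L))
      (opOf_isPGroup q L)
  exact le_sup_left.trans (h1.trans (h2.trans (opOf_le_fittingOf q K)))

end Cfsg.Agent.Lib.Helper4.PA
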