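import Mathlib
import Cfsg.Agent.Lib.Helper4.PA2
import Cfsg.Agent.Lib.Lead.CoprimeSylow5

set_option autoImplicit false

/-! Prime action: an element `x` of prime order acting on the solvable normal subgroup `K` of the
odd order group `G` with `C_{F(K)}(x) = 1` satisfies `[K, x] ≤ F(K)`. -/

namespace Cfsg.Agent.Lib.Helper4.PA

open Cfsg Cfsg.Agent.Lib.Helper4.BG8 Cfsg.Agent.Lib.Helper4.HH Cfsg.Agent.Lib.Lead
open Cfsg.Agent.Lib.Helper4.ThreeStep

open scoped commutatorElement Pointwise

universe u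

variable {G : Type u} [Group G] [Finite G]

theorem step3 (hodd : Odd (Nat.card G)) (K : Subgroup G) [K.Normal] (x : G) (r : ℕ)
    (hr : r.Prime) (hx : x ^ r = 1) (hrK : ¬ r ∣ Nat.card K)
    (hCF : fittingOf K ⊓ Subgroup.centralizer ((Subgroup.zpowers x : Subgroup G) : Set G) = ⊥)
    (q : ℕ) (hq : q.Prime) (Q L : Subgroup G) (hLK : L ≤ K)
    (hKL : K ≤ Subgroup.normalizer (L : Set G)) (hFL : fittingOf K ≤ L) (hQL : Q ≤ L)
    (hQ : IsPGroup q Q)
    (hxQ : ∀ m ∈ Q, x * m * x⁻¹ ∈ Q) (hQF : L ≤ Q ⊔ fittingOf K) :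
    ∀ l ∈ L, x * l * x⁻¹ * l⁻¹ ∈ fittingOf K := by
  have hFn := fittingOf_normal K
  have h2 := step2 hodd K x r hr hx hrK hCF q hq Q L hLK hKL hFL hQL hQ hxQ hQF
  intro l hl
  have hl' : l ∈ ((Q ⊔ fittingOf K : Subgroup G) : Set G) := hQF hl
  rw [Subgroup.mul_normal] at hl'
  obtain ⟨a, ha, f, hf, rfl⟩ := Set.mem_mul.mp hl'
  have h3 : x * a * x⁻¹ * a⁻¹ ∈ fittingOf K := by
    apply h2
    rw [Subgroup.commutator_comm]
    have e : x * a * x⁻¹ * a⁻¹ = ⁅x, a⁆ := by rw [commutatorElement_def]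
    rw [e]
    exact Subgroup.commutator_mem_commutator (Subgroup.mem_zpowers x) ha
  have h4 : x * f * x⁻¹ * f⁻¹ ∈ fittingOf K :=
    (fittingOf K).mul_mem (hFn.conj_mem f hf x) ((fittingOf K).inv_mem hf)
  have e : x * (a * f) * x⁻¹ * (a * f)⁻¹ =
      (x * a * x⁻¹ * a⁻¹) * (a * (x * f * x⁻¹ * f⁻¹) * a⁻¹) := by group
  rw [e]
  exact (fittingOf K).mul_mem h3 (hFn.conj_mem _ h4 a)

theorem prime_elt_aux (hodd : Odd (Nat.card G)) (K : Subgroup G) [hKn : K.Normal]
    (hK : Group.IsSolvable K) (x : G) (r : ℕ)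
    (hr : r.Prime) (hx : x ^ r = 1) (hrK : ¬ r ∣ Nat.card K)
    (hCF : fittingOf K ⊓ Subgroup.centralizer ((Subgroup.zpowers x : Subgroup G) : Set G) = ⊥)
    {G' : Type u} [Group G'] [Finite G'] (π : G →* G') (hπs : Function.Surjective π)
    (hker : π.ker = fittingOf K) (hx1 : x ≠ 1) :
    ∀ k ∈ K, x * k * x⁻¹ * k⁻¹ ∈ fittingOf K := by
  haveI : Fact r.Prime := ⟨hr⟩
  have hFn := fittingOf_normal K
  have hKbn : (K.map π).Normal := Subgroup.Normal.map hKn π hπs
  have hKbs : Group.IsSolvable (K.map π) :=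
    solvable_of_surjective (MonoidHom.subgroupMap_surjective π K)
  have hord : orderOf x = r := orderOf_eq_prime hx hx1
  have hcopK : r.Coprime (Nat.card K) := (Nat.Prime.coprime_iff_not_dvd hr).mpr hrK
  have hcop : (orderOf (π x)).Coprime (Nat.card (K.map π)) := by
    apply Nat.Coprime.coprime_dvd_left (orderOf_map_dvd π x)
    rw [hord]
    exact Nat.Coprime.coprime_dvd_right (Subgroup.card_map_dvd K π) hcopK
  have key : ∀ f ∈ fittingOf (K.map π), π x * f = f * π x := by
    have h1 : fittingOf (K.map π) ≤ Subgroup.centralizer ({π x} : Set G') := by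
      rw [fittingOf_eq_iSup]
      apply iSup_le
      intro q
      haveI : Fact (q : ℕ).Prime := ⟨q.2⟩
      have hOn : (opOf (q : ℕ) (K.map π)).Normal := opOf_normal q (K.map π)
      obtain ⟨L, hL⟩ : ∃ L : Subgroup G, L = (opOf (q : ℕ) (K.map π)).comap π := ⟨_, rfl⟩
      have hLn : L.Normal := by rw [hL]; exact Subgroup.Normal.comap hOn π
      have hFL : fittingOf K ≤ L := by
        intro f hf
        rw [hL, Subgroup.mem_comap]
        have : π f = 1 := by rw [← MonoidHom.mem_ker, hker]; exact hf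
        rw [this]
        exact Subgroup.one_mem _
      have hLK : L ≤ K := by
        intro l hl
        rw [hL, Subgroup.mem_comap] at hl
        obtain ⟨k, hk, hkl⟩ := (opOf_le (q : ℕ) (K.map π)) hl
        have h2 : k⁻¹ * l ∈ fittingOf K := by
          rw [← hker, MonoidHom.mem_ker, map_mul, map_inv, hkl, inv_mul_cancel]
        have e : l = k * (k⁻¹ * l) := by group
        rw [e]
        exact K.mul_mem hk (fittingOf_le K h2)
      have hKL : K ≤ Subgroup.normalizer (L : Set G) := by
        rw [Subgroup.normalizer_eq_top_iff.mpr hLn]; exact le_top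
      have hXL : Subgroup.zpowers x ≤ Subgroup.normalizer (L : Set G) := by
        rw [Subgroup.normalizer_eq_top_iff.mpr hLn]; exact le_top
      have hcopL : (Nat.card (Subgroup.zpowers x)).Coprime (Nat.card L) := by
        rw [Nat.card_zpowers, hord]
        exact Nat.Coprime.coprime_dvd_right (Subgroup.card_dvd_of_le hLK) hcopK
      have hXsolv : Group.IsSolvable (Subgroup.zpowers x) := inferInstance
      obtain ⟨P, -, hXP⟩ := coprime_invariant_pgroup_le_sylow (Subgroup.zpowers x) L hXL hcopL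
        (Or.inl hXsolv) q ⊥ bot_le IsPGroup.of_bot (by
          intro y _
          rw [Subgroup.mem_normalizer_iff]
          intro h
          simp [Subgroup.mem_bot])
      obtain ⟨Q, hQdef⟩ : ∃ Q : Subgroup G, Q = (P : Subgroup L).map L.subtype := ⟨_, rfl⟩
      rw [← hQdef] at hXP
      have hQL : Q ≤ L := by rw [hQdef]; exact Subgroup.map_subtype_le _
      have hQ : IsPGroup (q : ℕ) Q := by rw [hQdef]; exact P.isPGroup'.map _
      have hxQ : ∀ m ∈ Q, x * m * x⁻¹ ∈ Q :=
        fun m hm => ((le_norm_iff _ Q).1 hXP) x (Subgroup.mem_zpowers x) m hm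
      have hQF : L ≤ Q ⊔ fittingOf K := by
        rw [← Subgroup.relIndex_eq_one]
        have d1 : (Q ⊔ fittingOf K).relIndex L ∣ Q.relIndex L :=
          Subgroup.relIndex_dvd_of_le_left L le_sup_left
        have d2 : (Q ⊔ fittingOf K).relIndex L ∣ (fittingOf K).relIndex L :=
          Subgroup.relIndex_dvd_of_le_left L le_sup_right
        have e1 : Q.relIndex L = (P : Subgroup L).index := by
          rw [Subgroup.relIndex, hQdef, Subgroup.subgroupOf,
            Subgroup.comap_map_eq_self_of_injective L.subtype_injective]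
        have e2 : (fittingOf K).relIndex L = Nat.card (opOf (q : ℕ) (K.map π)) := by
          rw [← hker, Subgroup.relIndex_ker, hL, Subgroup.map_comap_eq_self_of_surjective hπs]
        obtain ⟨n, hn⟩ := (IsPGroup.iff_card).mp (opOf_isPGroup (q : ℕ) (K.map π))
        rw [e2, hn] at d2
        rw [e1] at d1
        obtain ⟨m, -, hm⟩ := (Nat.dvd_prime_pow q.2).mp d2
        rcases Nat.eq_zero_or_pos m with h0 | h0
        · rw [hm, h0, pow_zero]
        · exfalso
          apply P.not_dvd_index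
          refine dvd_trans ?_ d1
          rw [hm]
          exact dvd_pow_self _ (Nat.pos_iff_ne_zero.mp h0)
      have h3 := step3 hodd K x r hr hx hrK hCF q q.2 Q L hLK hKL hFL hQL hQ hxQ hQF
      intro y hy
      obtain ⟨l, rfl⟩ := hπs y
      have hl : l ∈ L := by rw [hL, Subgroup.mem_comap]; exact hy
      have h4 := h3 l hl
      rw [← hker, MonoidHom.mem_ker] at h4
      rw [Subgroup.mem_centralizer_singleton_iff]
      have e : π l * π x = (π (x * l * x⁻¹ * l⁻¹))⁻¹ * (π x * π l) := by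
        simp only [map_mul, map_inv]; group
      rw [e, h4, inv_one, one_mul]
    intro f hf
    exact ((Subgroup.mem_centralizer_singleton_iff).mp (h1 hf)).symm
  have hmain := cent_of_cent_fitting (K.map π) hKbs (π x) hcop key
  intro k hk
  have h1 := hmain (π k) (Subgroup.mem_map_of_mem π hk)
  rw [← hker, MonoidHom.mem_ker]
  simp only [map_mul, map_inv]
  rw [h1]
  group

theorem prime_elt (hodd : Odd (Nat.card G)) (K : Subgroup G) [hKn : K.Normal]
    (hK : Group.IsSolvable K) (x : G) (r : ℕ)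
    (hr : r.Prime) (hx : x ^ r = 1) (hrK : ¬ r ∣ Nat.card K)
    (hCF : fittingOf K ⊓ Subgroup.centralizer ((Subgroup.zpowers x : Subgroup G) : Set G) = ⊥) :
    ∀ k ∈ K, x * k * x⁻¹ * k⁻¹ ∈ fittingOf K := by
  by_cases hx1 : x = 1
  · intro k _
    rw [hx1]
    simp
  have hFn := fittingOf_normal K
  exact prime_elt_aux hodd K hK x r hr hx hrK hCF (QuotientGroup.mk' (fittingOf K))
    (QuotientGroup.mk'_surjective _) (QuotientGroup.ker_mk' _) hx1

end Cfsg.Agent.Lib.Helper4.PA
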