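import Mathlib
import Cfsg.Agent.Lib.Lead.CyclicP
import Cfsg.Agent.Lib.Lead.CoprimeAction3
import Cfsg.Agent.Lib.Lead.CoprimeTools

set_option autoImplicit false

/-! Facts about `Z`-groups with operators. -/

namespace Cfsg.Agent.Lib.Helper4.ZP

open scoped commutatorElement

universe u

section cyc

variable {G : Type u} [Group G]

/-- commutators of elements normalising a cyclic subgroup centralise it. -/
theorem comm_mem_centralizer_of_cyclic (D : Subgroup G) (hD : IsCyclic ↥D) (a b : G)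
    (ha : a ∈ Subgroup.normalizer (D : Set G)) (hb : b ∈ Subgroup.normalizer (D : Set G)) :
    ⁅a, b⁆ ∈ Subgroup.centralizer (D : Set G) := by
  obtain ⟨⟨d, hd⟩, hgen⟩ := hD.exists_generator
  have hpow : ∀ g ∈ Subgroup.normalizer (D : Set G), ∃ i : ℤ, g * d * g⁻¹ = d ^ i := by
    intro g hg
    have h1 : g * d * g⁻¹ ∈ D := (Subgroup.mem_normalizer_iff.mp hg d).mp hd
    obtain ⟨i, hi⟩ := Subgroup.mem_zpowers_iff.mp (hgen ⟨g * d * g⁻¹, h1⟩)
    refine ⟨i, ?_⟩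
    have := congrArg Subtype.val hi
    rw [Subgroup.coe_zpow] at this
    exact this.symm
  have ha' := Subgroup.inv_mem _ ha
  have hb' := Subgroup.inv_mem _ hb
  obtain ⟨i, hi⟩ := hpow a⁻¹ ha'
  obtain ⟨j, hj⟩ := hpow b⁻¹ hb'
  rw [inv_inv] at hi hj
  have h1 : a⁻¹ * b⁻¹ * d * b * a = d ^ (i * j) := by
    calc a⁻¹ * b⁻¹ * d * b * a = a⁻¹ * (b⁻¹ * d * b) * a := by group
      _ = a⁻¹ * d ^ j * a := by rw [hj]
      _ = (a⁻¹ * d * a) ^ j := by
        have : a⁻¹ * d ^ j * a = a⁻¹ * d ^ j * a⁻¹⁻¹ := by rw [inv_inv]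
        rw [this, ← conj_zpow, inv_inv]
      _ = d ^ (i * j) := by rw [hi, zpow_mul]
  have h2 : b⁻¹ * a⁻¹ * d * a * b = d ^ (i * j) := by
    calc b⁻¹ * a⁻¹ * d * a * b = b⁻¹ * (a⁻¹ * d * a) * b := by group
      _ = b⁻¹ * d ^ i * b := by rw [hi]
      _ = (b⁻¹ * d * b) ^ i := by
        have : b⁻¹ * d ^ i * b = b⁻¹ * d ^ i * b⁻¹⁻¹ := by rw [inv_inv]
        rw [this, ← conj_zpow, inv_inv]
      _ = d ^ (i * j) := by rw [hj, mul_comm, zpow_mul]
  have h3 : ⁅a, b⁆ * d = d * ⁅a, b⁆ := by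
    have h4 : a⁻¹ * b⁻¹ * d * b * a = b⁻¹ * a⁻¹ * d * a * b := by rw [h1, h2]
    calc ⁅a, b⁆ * d = a * b * (a⁻¹ * b⁻¹ * d * b * a) * b⁻¹ * a⁻¹ * ⁅a, b⁆ := by
          rw [commutatorElement_def]; group
      _ = a * b * (b⁻¹ * a⁻¹ * d * a * b) * b⁻¹ * a⁻¹ * ⁅a, b⁆ := by rw [h4]
      _ = d * ⁅a, b⁆ := by group
  rw [Subgroup.mem_centralizer_iff]
  intro y hy
  obtain ⟨k, hk⟩ := Subgroup.mem_zpowers_iff.mp (hgen ⟨y, hy⟩)
  have hyk : y = d ^ k := by
    have := congrArg Subtype.val hk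
    rw [Subgroup.coe_zpow] at this
    exact this.symm
  rw [hyk]
  have hc : Commute ⁅a, b⁆ d := h3
  exact (hc.zpow_right k).eq.symm

end cyc

section zn

variable {G : Type u} [Group G] [Finite G]

/-- a `Z`-group `N = [N, R]` is abelian. -/
theorem zgroup_comm_of_commutator_eq (N R : Subgroup G) (hZ : IsZGroup ↥N)
    (hRN : R ≤ Subgroup.normalizer (N : Set G)) (hNR : N ≤ ⁅N, R⁆) :
    ∀ a ∈ N, ∀ b ∈ N, a * b = b * a := by
  have hmap : (commutator ↥N).map N.subtype = ⁅N, N⁆ := by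
    rw [commutator_def, Subgroup.map_commutator, ← MonoidHom.range_eq_map, Subgroup.range_subtype]
  have hDcyc : IsCyclic ↥(⁅N, N⁆ : Subgroup G) := by
    haveI : IsCyclic ↥(commutator ↥N) := IsZGroup.isCyclic_commutator ↥N
    rw [← hmap]
    exact isCyclic_of_surjective ((N.subtype).subgroupMap (commutator ↥N))
      (MonoidHom.subgroupMap_surjective _ _)
  have hNnorm : N ≤ Subgroup.normalizer ((⁅N, N⁆ : Subgroup G) : Set G) := by
    refine le_trans ?_ (Cfsg.Agent.Lib.Lead.normalizer_inf_le_normalizer_commutator N N)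
    exact le_inf Subgroup.le_normalizer Subgroup.le_normalizer
  have hRnorm : R ≤ Subgroup.normalizer ((⁅N, N⁆ : Subgroup G) : Set G) := by
    refine le_trans ?_ (Cfsg.Agent.Lib.Lead.normalizer_inf_le_normalizer_commutator N N)
    exact le_inf hRN hRN
  have hcent : ⁅N, R⁆ ≤ Subgroup.centralizer ((⁅N, N⁆ : Subgroup G) : Set G) := by
    rw [Subgroup.commutator_le]
    intro a ha b hb
    exact comm_mem_centralizer_of_cyclic _ hDcyc a b (hNnorm ha) (hRnorm hb)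
  have hNcent : N ≤ Subgroup.centralizer ((⁅N, N⁆ : Subgroup G) : Set G) := hNR.trans hcent
  have hker : (Abelianization.of (G := ↥N)).ker ≤ Subgroup.center ↥N := by
    rw [Abelianization.ker_of]
    intro y hy
    rw [Subgroup.mem_center_iff]
    intro g
    have h1 : (y : G) ∈ ⁅N, N⁆ := by
      rw [← hmap]
      exact ⟨y, hy, rfl⟩
    have h2 := Subgroup.mem_centralizer_iff.mp (hNcent g.2) (y : G) h1
    apply Subtype.ext
    rw [Subgroup.coe_mul, Subgroup.coe_mul]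
    exact h2.symm
  haveI : IsCyclic (Abelianization ↥N) := IsZGroup.isCyclic_abelianization
  have hcomm := MonoidHom.isMulCommutative_of_isCyclic_of_ker_le_center
    (Abelianization.of (G := ↥N)) hker
  intro a ha b hb
  have := mul_comm' (⟨a, ha⟩ : ↥N) ⟨b, hb⟩
  exact congrArg Subtype.val this

end zn

section cp

variable {G : Type u} [Group G] [Finite G]

theorem isPGroup_sup_of_le_normalizer (p : ℕ) [hp : Fact p.Prime] (W Y : Subgroup G)
    (hW : IsPGroup p W) (hY : IsPGroup p Y) (hYW : Y ≤ Subgroup.normalizer (W : Set G)) :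
    IsPGroup p ↥(W ⊔ Y) := by
  obtain ⟨a, ha⟩ := (IsPGroup.iff_card).mp hW
  obtain ⟨b, hb⟩ := (IsPGroup.iff_card).mp hY
  have h1 := Cfsg.Agent.Lib.Lead.card_sup_mul_card_inf Y W hYW
  rw [sup_comm, ha, hb, ← pow_add] at h1
  have h2 : Nat.card ↥(W ⊔ Y) ∣ p ^ (b + a) := Dvd.intro _ h1
  obtain ⟨c, -, hc⟩ := (Nat.dvd_prime_pow hp.out).mp h2
  exact IsPGroup.of_card hc

/-- in a `Z`-group two `p`-subgroups meeting trivially, one normalising the other, cannot both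
be nontrivial. -/
theorem eq_bot_of_zgroup_pgroups (p : ℕ) [hp : Fact p.Prime] (C W Y : Subgroup G)
    (hZ : IsZGroup ↥C) (hWC : W ≤ C) (hYC : Y ≤ C) (hW : IsPGroup p W) (hY : IsPGroup p Y)
    (hYW : Y ≤ Subgroup.normalizer (W : Set G)) (hWY : W ⊓ Y = ⊥) (hW1 : W ≠ ⊥) : Y = ⊥ := by
  have hP : IsPGroup p ↥(W ⊔ Y) := isPGroup_sup_of_le_normalizer p W Y hW hY hYW
  have hPC : W ⊔ Y ≤ C := sup_le hWC hYC
  have hP' : IsPGroup p ↥((W ⊔ Y).subgroupOf C) := hP.comap_subtype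
  haveI hcyc' : IsCyclic ↥((W ⊔ Y).subgroupOf C) := hP'.isCyclic_of_isZGroup
  haveI hcyc : IsCyclic ↥(W ⊔ Y) :=
    isCyclic_of_surjective (Subgroup.subgroupOfEquivOfLe hPC).toMonoidHom
      (Subgroup.subgroupOfEquivOfLe hPC).surjective
  rcases Cfsg.Agent.Lib.Lead.le_total_of_isCyclic_of_isPGroup (C := ↥(W ⊔ Y)) hP
    (W.subgroupOf (W ⊔ Y)) (Y.subgroupOf (W ⊔ Y)) with h | h
  · exfalso
    apply hW1
    rw [eq_bot_iff, ← hWY]
    intro w hw
    refine Subgroup.mem_inf.mpr ⟨hw, ?_⟩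
    have : (⟨w, (le_sup_left : W ≤ W ⊔ Y) hw⟩ : ↥(W ⊔ Y)) ∈ W.subgroupOf (W ⊔ Y) := hw
    exact h this
  · rw [eq_bot_iff, ← hWY]
    intro y hy
    refine Subgroup.mem_inf.mpr ⟨?_, hy⟩
    have : (⟨y, (le_sup_right : Y ≤ W ⊔ Y) hy⟩ : ↥(W ⊔ Y)) ∈ Y.subgroupOf (W ⊔ Y) := hy
    exact h this

end cp

end Cfsg.Agent.Lib.Helper4.ZP
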