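import Mathlib
import Cfsg.Agent.Lib.Helper4.ZP2
import Cfsg.Agent.Lib.Lead.CoprimeAction
import Cfsg.Agent.Lib.Lead.HallTools

set_option autoImplicit false

/-! The inductive statement, and its consequences for subgroups and quotients. -/

namespace Cfsg.Agent.Lib.Helper4.ZP

open Cfsg
open scoped commutatorElement

universe u

/-- the statement for all groups of order less than `n`. -/
def MainStmt (p n : ℕ) : Prop :=
  ∀ (G : Type u) [Group G] [Finite G], Nat.card G < n → Group.IsSolvable G → Odd (Nat.card G) →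
    ∀ (H R R₀ : Subgroup G), H.Normal → H ⊔ R = ⊤ → (Nat.card H).Coprime (Nat.card R) →
      R₀ ≤ R → (Nat.card R₀).Prime → IsZGroup ↥(H ⊓ Subgroup.centralizer (R₀ : Set G)) →
      PL1 p (⁅H, R⁆ ⊔ R) ⊥ ⁅H, R⁆

section sub

variable {X : Type u} [Group X] [Finite X]

theorem sub_of_main {p n : ℕ} (hmain : MainStmt.{u} p n) [hsolv : Group.IsSolvable X]
    (hodd : Odd (Nat.card X)) (K R₁ R₀ : Subgroup X)
    (hRK : R₁ ≤ Subgroup.normalizer (K : Set X)) (hcop : (Nat.card K).Coprime (Nat.card R₁))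
    (hlt : Nat.card K * Nat.card R₁ < n) (hR₀ : R₀ ≤ R₁) (hR₀p : (Nat.card R₀).Prime)
    (hZ : IsZGroup ↥(K ⊓ Subgroup.centralizer (R₀ : Set X))) :
    PL1 p (⁅K, R₁⁆ ⊔ R₁) ⊥ ⁅K, R₁⁆ := by
  set L := K ⊔ R₁ with hL
  have hKL : K ≤ L := le_sup_left
  have hRL : R₁ ≤ L := le_sup_right
  have hR₀L : R₀ ≤ L := hR₀.trans hRL
  have hLK : L ≤ Subgroup.normalizer (K : Set X) := sup_le Subgroup.le_normalizer hRK
  have hdisj : R₁ ⊓ K = ⊥ := by
    exact (Subgroup.disjoint_of_coprime_natCard hcop.symm).eq_bot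
  have hcardL : Nat.card L = Nat.card K * Nat.card R₁ := by
    rw [hL, sup_comm, Cfsg.Agent.Lib.Lead.card_sup_of_disjoint R₁ K hRK hdisj, mul_comm]
  have hoddL : Odd (Nat.card L) := by
    have h1 : Nat.card L ∣ Nat.card X := Subgroup.card_subgroup_dvd_card L
    exact Odd.of_dvd_nat hodd h1
  have hnorm : (K.subgroupOf L).Normal := Subgroup.normal_subgroupOf_of_le_normalizer hLK
  have hsup : K.subgroupOf L ⊔ R₁.subgroupOf L = ⊤ := by
    rw [← Subgroup.subgroupOf_sup hKL hRL, ← hL, Subgroup.subgroupOf_self]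
  have hcop' : (Nat.card (K.subgroupOf L)).Coprime (Nat.card (R₁.subgroupOf L)) := by
    rw [Cfsg.Agent.Lib.Lead.card_subgroupOf_of_le hKL, Cfsg.Agent.Lib.Lead.card_subgroupOf_of_le hRL]
    exact hcop
  have hle' : R₀.subgroupOf L ≤ R₁.subgroupOf L := by
    intro x hx
    exact hR₀ hx
  have hprime' : (Nat.card (R₀.subgroupOf L)).Prime := by
    rw [Cfsg.Agent.Lib.Lead.card_subgroupOf_of_le hR₀L]
    exact hR₀p
  have hZ' : IsZGroup ↥(K.subgroupOf L ⊓ Subgroup.centralizer ((R₀.subgroupOf L : Subgroup L) : Set L)) := by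
    have hmem : ∀ x : ↥(K.subgroupOf L ⊓ Subgroup.centralizer ((R₀.subgroupOf L : Subgroup L) : Set L)),
        ((x : L) : X) ∈ K ⊓ Subgroup.centralizer (R₀ : Set X) := by
      intro x
      obtain ⟨hx1, hx2⟩ := Subgroup.mem_inf.mp x.2
      refine Subgroup.mem_inf.mpr ⟨hx1, ?_⟩
      rw [Subgroup.mem_centralizer_iff]
      intro a ha
      have := Subgroup.mem_centralizer_iff.mp hx2 ⟨a, hR₀L ha⟩ (by
        show (⟨a, hR₀L ha⟩ : L) ∈ R₀.subgroupOf L
        exact ha)
      exact congrArg Subtype.val this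
    let f : ↥(K.subgroupOf L ⊓ Subgroup.centralizer ((R₀.subgroupOf L : Subgroup L) : Set L)) →*
        ↥(K ⊓ Subgroup.centralizer (R₀ : Set X)) :=
      (L.subtype.comp (Subgroup.subtype _)).codRestrict _ hmem
    have hf : Function.Injective f := by
      intro a b hab
      have h1 : (f a : X) = (f b : X) := congrArg Subtype.val hab
      exact Subtype.ext (Subtype.ext h1)
    exact IsZGroup.of_injective hf
  have hres := hmain ↥L (by rw [hcardL]; exact hlt) inferInstance hoddL (K.subgroupOf L)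
    (R₁.subgroupOf L) (R₀.subgroupOf L) hnorm hsup hcop' hle' hprime' hZ'
  have hmap := hres.map_of_injective L.subtype L.subtype_injective
  rw [Subgroup.map_sup, Subgroup.map_commutator, Subgroup.map_subgroupOf_eq_of_le hKL,
    Subgroup.map_subgroupOf_eq_of_le hRL, Subgroup.map_bot] at hmap
  exact hmap

end sub

section quot

variable {G : Type u} [Group G] [Finite G]

theorem quot_of_main {p n : ℕ} (hmain : MainStmt.{u} p n) [hsolv : Group.IsSolvable G]
    (hodd : Odd (Nat.card G)) (hn : Nat.card G ≤ n) (H R R₀ : Subgroup G) [hHn : H.Normal]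
    (hHR : H ⊔ R = ⊤) (hcop : (Nat.card H).Coprime (Nat.card R)) (hR₀ : R₀ ≤ R)
    (hR₀p : (Nat.card R₀).Prime)
    (hZ : IsZGroup ↥(H ⊓ Subgroup.centralizer (R₀ : Set G)))
    (N₀ : Subgroup G) [hN₀n : N₀.Normal] (hN₀H : N₀ ≤ H) (hN₀ : N₀ ≠ ⊥) :
    PL1 p (⁅H, R⁆ ⊔ R) N₀ (⁅H, R⁆ ⊔ N₀) := by
  set π := QuotientGroup.mk' N₀ with hπ
  have hπs : Function.Surjective π := QuotientGroup.mk'_surjective N₀
  have hcard : Nat.card (G ⧸ N₀) < n := by
    have h1 := Cfsg.Agent.Lib.Lead.card_quotient_mul N₀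
    have h2 : 1 < Nat.card N₀ := by
      rw [Subgroup.one_lt_card_iff_ne_bot]
      exact hN₀
    have h3 : 0 < Nat.card (G ⧸ N₀) := Nat.card_pos
    have : Nat.card (G ⧸ N₀) < Nat.card G := by
      rw [← h1]
      nlinarith
    omega
  have hsolv' : Group.IsSolvable (G ⧸ N₀) := inferInstance
  have hodd' : Odd (Nat.card (G ⧸ N₀)) := by
    have h1 := Cfsg.Agent.Lib.Lead.card_quotient_mul N₀
    exact Odd.of_dvd_nat hodd (Dvd.intro _ h1)
  have hnorm : (H.map π).Normal := Subgroup.Normal.map hHn π hπs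
  have hsup : H.map π ⊔ R.map π = ⊤ := by
    rw [← Subgroup.map_sup, hHR, ← MonoidHom.range_eq_map, MonoidHom.range_eq_top]
    exact hπs
  have hcop' : (Nat.card (H.map π)).Coprime (Nat.card (R.map π)) :=
    Nat.Coprime.coprime_dvd_left (Subgroup.card_map_dvd H π)
      (Nat.Coprime.coprime_dvd_right (Subgroup.card_map_dvd R π) hcop)
  have hle' : R₀.map π ≤ R.map π := Subgroup.map_mono hR₀
  have hcopR₀ : (Nat.card R₀).Coprime (Nat.card H) :=
    Nat.Coprime.coprime_dvd_left (Subgroup.card_dvd_of_le hR₀) hcop.symm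
  have hprime' : (Nat.card (R₀.map π)).Prime := by
    have hd : R₀ ⊓ N₀ = ⊥ := by
      exact (Subgroup.disjoint_of_coprime_natCard
        (Nat.Coprime.coprime_dvd_right (Subgroup.card_dvd_of_le hN₀H) hcopR₀)).eq_bot
    rw [hπ, Cfsg.Agent.Lib.Lead.card_map_mk_of_inf_eq_bot N₀ R₀ hd]
    exact hR₀p
  have hZ' : IsZGroup ↥(H.map π ⊓ Subgroup.centralizer ((R₀.map π : Subgroup (G ⧸ N₀)) : Set (G ⧸ N₀))) := by
    have hmem : ∀ x : ↥(H ⊓ Subgroup.centralizer (R₀ : Set G)),
        π (x : G) ∈ H.map π ⊓ Subgroup.centralizer ((R₀.map π : Subgroup (G ⧸ N₀)) : Set (G ⧸ N₀)) := by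
      intro x
      obtain ⟨hx1, hx2⟩ := Subgroup.mem_inf.mp x.2
      refine Subgroup.mem_inf.mpr ⟨⟨_, hx1, rfl⟩, ?_⟩
      rw [Subgroup.mem_centralizer_iff]
      rintro _ ⟨a, ha, rfl⟩
      have := Subgroup.mem_centralizer_iff.mp hx2 a ha
      rw [← map_mul, ← map_mul, this]
    let f : ↥(H ⊓ Subgroup.centralizer (R₀ : Set G)) →*
        ↥(H.map π ⊓ Subgroup.centralizer ((R₀.map π : Subgroup (G ⧸ N₀)) : Set (G ⧸ N₀))) :=
      (π.comp (Subgroup.subtype _)).codRestrict _ hmem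
    have hf : Function.Surjective f := by
      rintro ⟨y, hy⟩
      obtain ⟨⟨k, hk, rfl⟩, hy2⟩ := Subgroup.mem_inf.mp hy
      have hfix : ∀ a ∈ R₀, a * k * a⁻¹ * k⁻¹ ∈ N₀ := by
        intro a ha
        have h1 := Subgroup.mem_centralizer_iff.mp hy2 (π a) ⟨a, ha, rfl⟩
        rw [← QuotientGroup.ker_mk' N₀, MonoidHom.mem_ker]
        have h2 : π a * π k = π k * π a := h1
        rw [map_mul, map_mul, map_mul, map_inv, map_inv, h2, mul_assoc (π k), mul_inv_cancel,
          mul_one, mul_inv_cancel]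
      obtain ⟨c, hc, hkc⟩ := Cfsg.Agent.Lib.Lead.coprime_fixed_coset R₀ H
        (by
          intro a _
          rw [Subgroup.normalizer_eq_top_iff.mpr hHn]
          trivial)
        hcopR₀ (Or.inr inferInstance) N₀ hN₀H
        (by
          intro a _
          rw [Subgroup.normalizer_eq_top_iff.mpr hN₀n]
          trivial)
        (by
          intro a _
          rw [Subgroup.normalizer_eq_top_iff.mpr hN₀n]
          trivial) k hk hfix
      refine ⟨⟨c, hc⟩, ?_⟩
      apply Subtype.ext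
      show π c = π k
      have h3 : π (k⁻¹ * c) = 1 := by
        rw [← MonoidHom.mem_ker, QuotientGroup.ker_mk']
        exact hkc
      rw [map_mul, map_inv] at h3
      exact (inv_mul_eq_one.mp h3).symm
    exact IsZGroup.of_surjective hf
  have hres := hmain (G ⧸ N₀) hcard hsolv' hodd' (H.map π) (R.map π) (R₀.map π) hnorm hsup hcop'
    hle' hprime' hZ'
  have hco := hres.comap_of_surjective π hπs
  rw [← Subgroup.map_commutator, Subgroup.comap_map_eq, QuotientGroup.ker_mk'] at hco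
  have hbot : (⊥ : Subgroup (G ⧸ N₀)).comap π = N₀ := by
    have := QuotientGroup.ker_mk' N₀
    rw [MonoidHom.ker] at this
    exact this
  rw [hbot] at hco
  refine hco.mono_left ?_
  rw [← Subgroup.map_sup]
  exact Subgroup.le_comap_map π _

end quot

end Cfsg.Agent.Lib.Helper4.ZP
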