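import Mathlib
import Cfsg.Agent.Lib.Helper4.ZP3
import Cfsg.Agent.Lib.Helper4.ZP10
import Cfsg.Agent.Lib.Helper4.PA1
import Cfsg.Agent.Lib.Helper4.FM10

set_option autoImplicit false

/-! The split configuration `H = U ⋊ N` and the final step. -/

namespace Cfsg.Agent.Lib.Helper4.ZP

open Cfsg
open scoped commutatorElement

universe u

section cfg

variable {G : Type u} [Group G] [Finite G]

/-- the split configuration. -/
structure SplitCfg (p : ℕ) (H R U N X T : Subgroup G) : Prop where
  hHn : H.Normal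
  hHR : H ⊔ R = ⊤
  hcop : (Nat.card H).Coprime (Nat.card R)
  hUn : U.Normal
  hUH : U ≤ H
  hUcomm : ∀ a ∈ U, ∀ b ∈ U, a * b = b * a
  hUexp : ∀ a ∈ U, a ^ p = 1
  hU1 : U ≠ ⊥
  hUmin : ∀ K : Subgroup G, K.Normal → K ≤ U → K = ⊥ ∨ K = U
  hNH : N ≤ H
  hUN : U ⊓ N = ⊥
  hsup : U ⊔ N = H
  hRN : R ≤ Subgroup.normalizer (N : Set G)
  hXN : X ≤ N
  hNX : N ≤ Subgroup.normalizer (X : Set G)
  hRX : R ≤ Subgroup.normalizer (X : Set G)
  hXp : (Nat.card X).Coprime p
  hTN : T ≤ N
  hTp : IsPGroup p T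
  hRT : R ≤ Subgroup.normalizer (T : Set G)
  hNXT : N ≤ Subgroup.normalizer ((X ⊔ T : Subgroup G) : Set G)
  hidx : ((X ⊔ T).relIndex N).Coprime p
  hNP : ∀ A : Subgroup G, A ≤ H → A.Normal → (Nat.card A).Coprime p → A = ⊥

variable {p : ℕ} [hp : Fact p.Prime] {H R U N X T : Subgroup G}

theorem SplitCfg.normal_of_normalized (c : SplitCfg p H R U N X T) (K : Subgroup G)
    (hKU : U ≤ Subgroup.normalizer (K : Set G)) (hKN : N ≤ Subgroup.normalizer (K : Set G))
    (hKR : R ≤ Subgroup.normalizer (K : Set G)) : K.Normal := by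
  rw [← Subgroup.normalizer_eq_top_iff, eq_top_iff, ← c.hHR, ← c.hsup]
  exact sup_le (sup_le hKU hKN) hKR

theorem SplitCfg.isPGroup_U (c : SplitCfg p H R U N X T) : IsPGroup p U := by
  intro u
  refine ⟨1, ?_⟩
  apply Subtype.ext
  rw [pow_one, Subgroup.coe_pow]
  exact c.hUexp _ u.2

theorem SplitCfg.le_normalizer_U (c : SplitCfg p H R U N X T) (K : Subgroup G) :
    K ≤ Subgroup.normalizer (U : Set G) := by
  rw [Subgroup.normalizer_eq_top_iff.mpr c.hUn]
  exact le_top

theorem SplitCfg.card_H (c : SplitCfg p H R U N X T) :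
    Nat.card H = Nat.card U * Nat.card N := by
  have h1 := Cfsg.Agent.Lib.Lead.card_sup_of_disjoint N U (c.le_normalizer_U N)
    (by rw [inf_comm]; exact c.hUN)
  rw [sup_comm, c.hsup] at h1
  rw [h1, mul_comm]

theorem SplitCfg.faithful (c : SplitCfg p H R U N X T) :
    X ⊓ Subgroup.centralizer (U : Set G) = ⊥ := by
  haveI := c.hUn
  have hCn : (Subgroup.centralizer (U : Set G)).Normal := Subgroup.normal_centralizer
  have hall : ∀ K : Subgroup G, K ≤ Subgroup.normalizer ((Subgroup.centralizer (U : Set G) : Subgroup G) : Set G) := by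
    intro K
    rw [Subgroup.normalizer_eq_top_iff.mpr hCn]
    exact le_top
  apply c.hNP _ (inf_le_left.trans (c.hXN.trans c.hNH))
  · apply c.normal_of_normalized
    · intro u hu
      rw [Subgroup.mem_normalizer_iff]
      intro y
      have hu' : ∀ z ∈ Subgroup.centralizer (U : Set G), u * z * u⁻¹ = z := by
        intro z hz
        have := Subgroup.mem_centralizer_iff.mp hz u hu
        rw [this]; group
      constructor
      · intro hy
        rw [hu' y (Subgroup.mem_inf.mp hy).2]
        exact hy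
      · intro hy
        have h2 := hu' _ (Subgroup.mem_inf.mp hy).2
        have h3 : u * (u * y * u⁻¹) * u⁻¹ = u * y * u⁻¹ := h2
        have h4 : u * y * u⁻¹ = y := by
          have := congrArg (fun z => u⁻¹ * z * u) h3
          have e1 : u⁻¹ * (u * (u * y * u⁻¹) * u⁻¹) * u = u * y * u⁻¹ := by group
          have e2 : u⁻¹ * (u * y * u⁻¹) * u = y := by group
          have e3 : u⁻¹ * (u * (u * y * u⁻¹) * u⁻¹) * u = u⁻¹ * (u * y * u⁻¹) * u := this
          rw [e1, e2] at e3
          exact e3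
        rw [← h4]
        exact hy
    · exact le_trans (le_inf c.hNX (hall N)) Subgroup.inf_normalizer_le_normalizer_inf
    · exact le_trans (le_inf c.hRX (hall R)) Subgroup.inf_normalizer_le_normalizer_inf
  · exact Nat.Coprime.coprime_dvd_left (Subgroup.card_dvd_of_le inf_le_left) c.hXp

end cfg

end Cfsg.Agent.Lib.Helper4.ZP
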