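import Mathlib
import Cfsg.Agent.Lib.Helper4.ZP11

set_option autoImplicit false

/-! The final step: if the `p`-subgroup `T` centralises `X` then `H` has `p`-length one. -/

namespace Cfsg.Agent.Lib.Helper4.ZP

open Cfsg
open scoped commutatorElement

universe u

section g1

variable {G : Type u} [Group G] [Finite G] {p : ℕ} [hp : Fact p.Prime]
  {H R U N X T : Subgroup G}

theorem SplitCfg.inf_XT (c : SplitCfg p H R U N X T) : X ⊓ T = ⊥ := by
  apply (Subgroup.disjoint_of_coprime_natCard _).eq_bot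
  obtain ⟨a, ha⟩ := (IsPGroup.iff_card).mp c.hTp
  rw [ha]
  exact Nat.Coprime.pow_right a c.hXp

theorem SplitCfg.T_normal_of_comm (c : SplitCfg p H R U N X T) (hXT : ⁅X, T⁆ = ⊥) :
    N ≤ Subgroup.normalizer (T : Set G) := by
  apply Cfsg.Agent.Lib.Helper4.FM.le_normalizer_of_forall
  intro n hn t ht
  have h1 : n * t * n⁻¹ ∈ X ⊔ T :=
    (Subgroup.mem_normalizer_iff.mp (c.hNXT hn) t).mp (Subgroup.mem_sup_right ht)
  have h2 : n * t * n⁻¹ ∈ ((X ⊔ T : Subgroup G) : Set G) := h1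
  rw [Subgroup.coe_mul_of_right_le_normalizer_left X T (c.hTN.trans c.hNX)] at h2
  obtain ⟨x', hx', t', ht', hxt⟩ := Set.mem_mul.mp h2
  have hcomm : Commute x' t' := by
    have h3 := Subgroup.commutator_eq_bot_iff_le_centralizer.mp hXT hx'
    exact (Subgroup.mem_centralizer_iff.mp h3 t' ht').symm
  set m := Nat.card T with hm
  have ht1 : t ^ m = 1 := by
    have := pow_card_eq_one' (G := ↥T) (x := ⟨t, ht⟩)
    have h4 := congrArg Subtype.val this
    rwa [Subgroup.coe_pow] at h4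
  have ht'1 : t' ^ m = 1 := by
    have := pow_card_eq_one' (G := ↥T) (x := ⟨t', ht'⟩)
    have h4 := congrArg Subtype.val this
    rwa [Subgroup.coe_pow] at h4
  have h5 : (n * t * n⁻¹) ^ m = 1 := by
    rw [conj_pow, ht1]; group
  rw [← hxt, hcomm.mul_pow, ht'1, mul_one] at h5
  have h6 : orderOf x' ∣ m := orderOf_dvd_of_pow_eq_one h5
  have h7 : orderOf x' ∣ Nat.card X := by
    have := orderOf_dvd_natCard (⟨x', hx'⟩ : ↥X)
    rwa [Subgroup.orderOf_mk] at this
  have h8 : (Nat.card X).Coprime m := by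
    obtain ⟨a, ha⟩ := (IsPGroup.iff_card).mp c.hTp
    rw [hm, ha]
    exact Nat.Coprime.pow_right a c.hXp
  have h9 : orderOf x' = 1 := Nat.eq_one_of_dvd_coprimes h8 h7 h6
  have h10 : x' = 1 := orderOf_eq_one_iff.mp h9
  rw [h10, one_mul] at hxt
  rw [← hxt]
  exact ht'

theorem SplitCfg.pl1_of_comm (c : SplitCfg p H R U N X T) (hXT : ⁅X, T⁆ = ⊥) :
    PL1 p ⊤ ⊥ H := by
  have hNT := c.T_normal_of_comm hXT
  have hPn : (U ⊔ T).Normal := by
    apply c.normal_of_normalized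
    · exact le_sup_left.trans Subgroup.le_normalizer
    · exact Cfsg.Agent.Lib.Helper4.PA.le_normalizer_sup (c.le_normalizer_U N) hNT
    · exact Cfsg.Agent.Lib.Helper4.PA.le_normalizer_sup (c.le_normalizer_U R) c.hRT
  have hPp : IsPGroup p ↥(U ⊔ T) :=
    isPGroup_sup_of_le_normalizer p U T c.isPGroup_U c.hTp (c.le_normalizer_U T)
  have hPH : U ⊔ T ≤ H := sup_le c.hUH (c.hTN.trans c.hNH)
  have hUT : T ⊓ U = ⊥ := by
    rw [eq_bot_iff, ← c.hUN]
    intro y hy
    exact Subgroup.mem_inf.mpr ⟨(Subgroup.mem_inf.mp hy).2, c.hTN (Subgroup.mem_inf.mp hy).1⟩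
  have hcardP : Nat.card ↥(U ⊔ T) = Nat.card U * Nat.card T := by
    have := Cfsg.Agent.Lib.Lead.card_sup_of_disjoint T U (c.le_normalizer_U T) hUT
    rw [sup_comm] at this
    rw [this, mul_comm]
  have hcardXT : Nat.card ↥(X ⊔ T) = Nat.card X * Nat.card T := by
    have := Cfsg.Agent.Lib.Lead.card_sup_of_disjoint T X (c.hTN.trans c.hNX)
      (by rw [inf_comm]; exact c.inf_XT)
    rw [sup_comm] at this
    rw [this, mul_comm]
  have hXTN : X ⊔ T ≤ N := sup_le c.hXN c.hTN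
  have hcardN : Nat.card N = Nat.card ↥(X ⊔ T) * (X ⊔ T).relIndex N := by
    have := ((X ⊔ T).subgroupOf N).card_mul_index
    rw [Cfsg.Agent.Lib.Lead.card_subgroupOf_of_le hXTN] at this
    exact this.symm
  have hcardH' : Nat.card H = Nat.card ↥(U ⊔ T) * (U ⊔ T).relIndex H := by
    have := ((U ⊔ T).subgroupOf H).card_mul_index
    rw [Cfsg.Agent.Lib.Lead.card_subgroupOf_of_le hPH] at this
    exact this.symm
  have hrel : (U ⊔ T).relIndex H = Nat.card X * (X ⊔ T).relIndex N := by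
    have h1 := c.card_H
    rw [hcardH', hcardN, hcardP, hcardXT] at h1
    have hpos : 0 < Nat.card U * Nat.card T := Nat.mul_pos Nat.card_pos Nat.card_pos
    apply Nat.eq_of_mul_eq_mul_left hpos
    rw [h1]; ring
  obtain ⟨k, hk⟩ := (IsPGroup.iff_card).mp hPp
  refine ⟨⊥, U ⊔ T, le_rfl, bot_le, hPH, ?_, ?_, ?_, ⟨k, ?_⟩, ?_⟩
  · intro g _
    rw [Subgroup.mem_normalizer_iff]
    intro h
    simp [Subgroup.mem_bot]
  · rw [Subgroup.normalizer_eq_top_iff.mpr hPn]
  · rw [Subgroup.relIndex_self]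
    exact Nat.coprime_one_left p
  · rw [Subgroup.relIndex_bot_left]
    exact hk
  · rw [hrel]
    exact Nat.Coprime.mul_left c.hXp c.hidx

end g1

end Cfsg.Agent.Lib.Helper4.ZP
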