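import Mathlib
import Cfsg.Agent.Lib.Helper4.ZP12
import Cfsg.Agent.Lib.Helper4.PA3
import Cfsg.Agent.Lib.Lead.CoprimeAction2

set_option autoImplicit false

/-! General lemmas in the split configuration. -/

namespace Cfsg.Agent.Lib.Helper4.ZP

open Cfsg
open scoped commutatorElement

universe u

section g1

variable {G : Type u} [Group G] [Finite G] {p : ℕ} [hp : Fact p.Prime]
  {H R U N X T : Subgroup G}

theorem SplitCfg.le_normalizer_centralizer_U (c : SplitCfg p H R U N X T) (K : Subgroup G) :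
    K ≤ Subgroup.normalizer ((Subgroup.centralizer (U : Set G) : Subgroup G) : Set G) := by
  haveI := c.hUn
  have hCn : (Subgroup.centralizer (U : Set G)).Normal := Subgroup.normal_centralizer
  rw [Subgroup.normalizer_eq_top_iff.mpr hCn]
  exact le_top

theorem SplitCfg.U_le_centralizer (c : SplitCfg p H R U N X T) :
    U ≤ Subgroup.centralizer (U : Set G) := by
  intro u hu
  rw [Subgroup.mem_centralizer_iff]
  intro v hv
  exact c.hUcomm v hv u hu

theorem SplitCfg.inf_centralizer_normal (c : SplitCfg p H R U N X T) (K : Subgroup G)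
    (hKN : N ≤ Subgroup.normalizer (K : Set G)) (hKR : R ≤ Subgroup.normalizer (K : Set G)) :
    (K ⊓ Subgroup.centralizer (U : Set G)).Normal := by
  apply c.normal_of_normalized
  · intro u hu
    rw [Subgroup.mem_normalizer_iff]
    intro y
    have hu' : ∀ z ∈ Subgroup.centralizer (U : Set G), u * z * u⁻¹ = z := by
      intro z hz
      have := Subgroup.mem_centralizer_iff.mp hz u hu
      rw [this]; group
    constructor
    · intro hy
      rw [hu' y (Subgroup.mem_inf.mp hy).2]
      exact hy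
    · intro hy
      have h2 := hu' _ (Subgroup.mem_inf.mp hy).2
      have h3 : u * (u * y * u⁻¹) * u⁻¹ = u * y * u⁻¹ := h2
      have h4 : u * y * u⁻¹ = y := by
        have := congrArg (fun z => u⁻¹ * z * u) h3
        have e1 : u⁻¹ * (u * (u * y * u⁻¹) * u⁻¹) * u = u * y * u⁻¹ := by group
        have e2 : u⁻¹ * (u * y * u⁻¹) * u = y := by group
        have e3 : u⁻¹ * (u * (u * y * u⁻¹) * u⁻¹) * u = u⁻¹ * (u * y * u⁻¹) * u := this
        rw [e1, e2] at e3
        exact e3
      rw [← h4]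
      exact hy
  · exact le_trans (le_inf hKN (c.le_normalizer_centralizer_U N))
      Subgroup.inf_normalizer_le_normalizer_inf
  · exact le_trans (le_inf hKR (c.le_normalizer_centralizer_U R))
      Subgroup.inf_normalizer_le_normalizer_inf

theorem SplitCfg.card_U (c : SplitCfg p H R U N X T) : ∃ k, Nat.card U = p ^ k :=
  (IsPGroup.iff_card).mp c.isPGroup_U

theorem SplitCfg.coprime_card_U (c : SplitCfg p H R U N X T) (Q : Subgroup G) (hQ : Q ≤ X) :
    (Nat.card Q).Coprime (Nat.card U) := by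
  obtain ⟨k, hk⟩ := c.card_U
  rw [hk]
  exact Nat.Coprime.pow_right k
    (Nat.Coprime.coprime_dvd_left (Subgroup.card_dvd_of_le hQ) c.hXp)

theorem SplitCfg.isSolvable_U (c : SplitCfg p H R U N X T) : Group.IsSolvable ↥U := by
  exact isSolvable_of_comm (fun a b => Subtype.ext (c.hUcomm a a.2 b b.2))

/-- a subgroup of `X` centralising its commutator with `U` is trivial. -/
theorem SplitCfg.eq_bot_of_le_centralizer_comm (c : SplitCfg p H R U N X T) (Q : Subgroup G)
    (hQX : Q ≤ X) (h : Q ≤ Subgroup.centralizer ((⁅U, Q⁆ : Subgroup G) : Set G)) : Q = ⊥ := by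
  have h1 := Cfsg.Agent.Lib.Lead.coprime_commutator_stable Q U (c.le_normalizer_U Q)
    (c.coprime_card_U Q hQX) (Or.inr c.isSolvable_U)
  have h2 : ⁅⁅U, Q⁆, Q⁆ = ⊥ := by
    rw [Subgroup.commutator_comm]
    exact Subgroup.commutator_eq_bot_iff_le_centralizer.mpr h
  rw [h2] at h1
  have h3 : Q ≤ Subgroup.centralizer (U : Set G) := by
    rw [← Subgroup.commutator_eq_bot_iff_le_centralizer, Subgroup.commutator_comm]
    exact h1.symm
  rw [eq_bot_iff, ← c.faithful]
  exact le_inf hQX h3

/-- the standard application of `PL1.centralizes`. -/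
theorem SplitCfg.eq_bot_of_PL1 (c : SplitCfg p H R U N X T) {Γ K : Subgroup G}
    (h : PL1 p Γ ⊥ K) (hKΓ : K ≤ Γ) (hUK : U ≤ Subgroup.normalizer (K : Set G))
    (T₁ Q : Subgroup G) (hT₁K : T₁ ≤ K) (hT₁ : IsPGroup p T₁) (hQX : Q ≤ X) (hQK : Q ≤ K)
    (hQT : Q ≤ ⁅Q, T₁⁆) : Q = ⊥ := by
  have hVn : K ≤ Subgroup.normalizer ((U ⊓ K : Subgroup G) : Set G) :=
    le_trans (le_inf (c.le_normalizer_U K) Subgroup.le_normalizer)
      Subgroup.inf_normalizer_le_normalizer_inf
  have hVp : IsPGroup p ↥(U ⊓ K) := c.isPGroup_U.to_le inf_le_left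
  have hQp : (Nat.card Q).Coprime p :=
    Nat.Coprime.coprime_dvd_left (Subgroup.card_dvd_of_le hQX) c.hXp
  have h1 := h.centralizes hKΓ (U ⊓ K) T₁ Q inf_le_right hVn hVp hT₁K hT₁ hQK hQp hQT
  apply c.eq_bot_of_le_centralizer_comm Q hQX
  refine h1.trans (Subgroup.centralizer_le ?_)
  have h2 : ⁅U, Q⁆ ≤ U ⊓ K := by
    apply le_inf
    · haveI := c.hUn
      exact Subgroup.commutator_le_left U Q
    · rw [Subgroup.commutator_le]
      intro u hu q hq
      have h3 : u * q * u⁻¹ ∈ K := (Subgroup.mem_normalizer_iff.mp (hUK hu) q).mp (hQK hq)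
      have : ⁅u, q⁆ = u * q * u⁻¹ * q⁻¹ := rfl
      rw [this]
      exact K.mul_mem h3 (K.inv_mem (hQK hq))
  exact h2

end g1

end Cfsg.Agent.Lib.Helper4.ZP
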