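import Mathlib
import Cfsg.Agent.Lib.Helper4.ZP13

set_option autoImplicit false

/-! The case `N ⊓ C(U) ≠ ⊥` and the Fitting subgroup when `N ⊓ C(U) = ⊥`. -/

namespace Cfsg.Agent.Lib.Helper4.ZP

open Cfsg
open scoped commutatorElement

universe u

section g1

variable {G : Type u} [Group G] [Finite G] {p : ℕ} [hp : Fact p.Prime]
  {H R U N X T : Subgroup G}

theorem SplitCfg.comm_XT_le (c : SplitCfg p H R U N X T) : ⁅X, T⁆ ≤ X :=
  Cfsg.Agent.Lib.Lead.commutator_le_left_of_le_normalizer X T (c.hTN.trans c.hNX)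

/-- the case where `N ⊓ C(U)` is nontrivial: the quotient by it has `p`-length one. -/
theorem SplitCfg.comm_eq_bot_of_quot (c : SplitCfg p H R U N X T)
    (h : PL1 p ⊤ (N ⊓ Subgroup.centralizer (U : Set G)) H) : ⁅X, T⁆ = ⊥ := by
  obtain ⟨A, B, hN₀A, hAB, hBH, hAn, hBn, hA, ⟨k, hk⟩, hB⟩ := h
  have hAn' : A.Normal := Subgroup.normalizer_eq_top_iff.mp (top_le_iff.mp hAn)
  have hBn' : B.Normal := Subgroup.normalizer_eq_top_iff.mp (top_le_iff.mp hBn)
  haveI := c.hUn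
  -- `U ⊓ A ≤ N₀`
  have h1 : U ⊓ A ≤ N ⊓ Subgroup.centralizer (U : Set G) :=
    pgroup_le_of_coprime_index (c.isPGroup_U.to_le inf_le_left) inf_le_right hN₀A
      ((le_top : A ≤ ⊤).trans (by
        haveI := c.inf_centralizer_normal N Subgroup.le_normalizer c.hRN
        rw [Subgroup.normalizer_eq_top_iff.mpr
          (c.inf_centralizer_normal N Subgroup.le_normalizer c.hRN)])) hA
  have h2 : U ⊓ A = ⊥ := by
    rw [eq_bot_iff, ← c.hUN]
    exact le_inf inf_le_left (h1.trans inf_le_left)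
  -- `A ≤ C(U)`
  have h3 : ⁅A, U⁆ = ⊥ := by
    rw [eq_bot_iff, ← h2]
    exact le_inf (Subgroup.commutator_le_right A U) (Subgroup.commutator_le_left A U)
  have h4 : A ≤ Subgroup.centralizer (U : Set G) :=
    Subgroup.commutator_eq_bot_iff_le_centralizer.mp h3
  -- `T ≤ B`
  have hTB : T ≤ B :=
    pgroup_le_of_coprime_index c.hTp (c.hTN.trans c.hNH) hBH ((le_top : H ≤ ⊤).trans hBn) hB
  have h5 : ⁅X, T⁆ ≤ B := (Subgroup.commutator_mono le_rfl hTB).trans
    (Subgroup.commutator_le_right X B)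
  have h6 : X ⊓ B ≤ A :=
    coprime_le_of_pow_index
      (Nat.Coprime.coprime_dvd_left (Subgroup.card_dvd_of_le inf_le_left) c.hXp)
      inf_le_right hAB ((le_top : B ≤ ⊤).trans hAn) hk
  rw [eq_bot_iff, ← c.faithful]
  exact le_inf c.comm_XT_le ((le_inf c.comm_XT_le h5).trans (h6.trans h4))

/-- if `N ⊓ C(U) = ⊥` then `C_H(U) = U`. -/
theorem SplitCfg.inf_centralizer_le (c : SplitCfg p H R U N X T)
    (h0 : N ⊓ Subgroup.centralizer (U : Set G) = ⊥) :
    H ⊓ Subgroup.centralizer (U : Set G) ≤ U := by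
  intro h hh
  obtain ⟨hH, hC⟩ := Subgroup.mem_inf.mp hh
  haveI := c.hUn
  have h1 : h ∈ ((U ⊔ N : Subgroup G) : Set G) := by
    rw [c.hsup]; exact hH
  rw [Subgroup.normal_mul] at h1
  obtain ⟨u, hu, n, hn, hun⟩ := Set.mem_mul.mp h1
  have h2 : n ∈ Subgroup.centralizer (U : Set G) := by
    have : n = u⁻¹ * h := by rw [← hun]; group
    rw [this]
    exact Subgroup.mul_mem _ (Subgroup.inv_mem _ (c.U_le_centralizer hu)) hC
  have h3 : n ∈ N ⊓ Subgroup.centralizer (U : Set G) := Subgroup.mem_inf.mpr ⟨hn, h2⟩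
  rw [h0, Subgroup.mem_bot] at h3
  rw [← hun, h3, mul_one]
  exact hu

/-- if `N ⊓ C(U) = ⊥` then `F(H) = U`. -/
theorem SplitCfg.fittingOf_le (c : SplitCfg p H R U N X T)
    (h0 : N ⊓ Subgroup.centralizer (U : Set G) = ⊥) :
    Cfsg.fittingOf H ≤ U := by
  haveI := c.hUn
  haveI := c.hHn
  set F := Cfsg.fittingOf H with hF
  haveI hFn : F.Normal := Cfsg.Agent.Lib.Helper4.PA.fittingOf_normal H
  haveI hFnil : Group.IsNilpotent ↥F := Cfsg.Agent.Lib.Helper4.BG8.isNilpotent_fittingOf H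
  have hUnil : Group.IsNilpotent ↥U := c.isPGroup_U.isNilpotent
  have hUF : U ≤ F :=
    Cfsg.Agent.Lib.Helper4.BG8.le_fittingOf c.hUH (c.le_normalizer_U H) hUnil
  have h1 : ⁅U, F⁆ = ⊥ := by
    rcases c.hUmin ⁅U, F⁆ (Subgroup.commutator_normal U F) (Subgroup.commutator_le_left U F)
      with h | h
    · exact h
    · exfalso
      apply c.hU1
      exact Cfsg.Agent.Lib.Lead.eq_bot_of_le_commutator_nilpotent F U hUF (by rw [h])
  have h2 : F ≤ Subgroup.centralizer (U : Set G) := by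
    rw [← Subgroup.commutator_eq_bot_iff_le_centralizer, Subgroup.commutator_comm]
    exact h1
  exact (le_inf (Cfsg.Agent.Lib.Helper4.BG8.fittingOf_le H) h2).trans (c.inf_centralizer_le h0)

end g1

end Cfsg.Agent.Lib.Helper4.ZP
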