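import Mathlib
import Cfsg.Agent.Lib.Helper4.ZP14
import Cfsg.Agent.Lib.Helper4.HH14

set_option autoImplicit false

/-! Cases A and B1. -/

namespace Cfsg.Agent.Lib.Helper4.ZP

open Cfsg
open scoped commutatorElement

universe u

section g1

variable {G : Type u} [Group G] [Finite G] {p : ℕ} [hp : Fact p.Prime]
  {H R U N X T : Subgroup G}

/-- `N = [N, R]` when `H = [H, R]`. -/
theorem SplitCfg.N_le_comm (c : SplitCfg p H R U N X T) (hH : H ≤ ⁅H, R⁆) : N ≤ ⁅N, R⁆ := by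
  haveI := c.hUn
  have hNRN : ⁅N, R⁆ ≤ N := Cfsg.Agent.Lib.Lead.commutator_le_left_of_le_normalizer N R c.hRN
  have h1 : ⁅H, R⁆ ≤ U ⊔ ⁅N, R⁆ := by
    rw [Subgroup.commutator_le]
    intro h hh g hg
    have h2 : h ∈ ((U ⊔ N : Subgroup G) : Set G) := by
      rw [c.hsup]; exact hh
    rw [Subgroup.normal_mul] at h2
    obtain ⟨u, hu, n, hn, hun⟩ := Set.mem_mul.mp h2
    have e : ⁅h, g⁆ = (u * ⁅n, g⁆ * u⁻¹ * ⁅n, g⁆⁻¹) * ⁅n, g⁆ * ⁅u, g⁆ := by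
      rw [← hun]
      simp only [commutatorElement_def]
      group
    rw [e]
    have hc : ⁅n, g⁆ ∈ ⁅N, R⁆ := Subgroup.commutator_mem_commutator hn hg
    have h3 : u * ⁅n, g⁆ * u⁻¹ * ⁅n, g⁆⁻¹ ∈ U := by
      have h4 : ⁅n, g⁆ * u⁻¹ * ⁅n, g⁆⁻¹ ∈ U := c.hUn.conj_mem _ (U.inv_mem hu) _
      have : u * ⁅n, g⁆ * u⁻¹ * ⁅n, g⁆⁻¹ = u * (⁅n, g⁆ * u⁻¹ * ⁅n, g⁆⁻¹) := by group
      rw [this]
      exact U.mul_mem hu h4
    have h5 : ⁅u, g⁆ ∈ U := by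
      have h4 : g * u⁻¹ * g⁻¹ ∈ U := c.hUn.conj_mem _ (U.inv_mem hu) _
      have : ⁅u, g⁆ = u * (g * u⁻¹ * g⁻¹) := by
        simp only [commutatorElement_def]; group
      rw [this]
      exact U.mul_mem hu h4
    -- `U * C * U ⊆ U ⊔ C`
    have h6 : (u * ⁅n, g⁆ * u⁻¹ * ⁅n, g⁆⁻¹) * ⁅n, g⁆ ∈ U ⊔ ⁅N, R⁆ :=
      Subgroup.mul_mem _ (Subgroup.mem_sup_left h3) (Subgroup.mem_sup_right hc)
    exact Subgroup.mul_mem _ h6 (Subgroup.mem_sup_left h5)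
  intro n hn
  have h2 : n ∈ ((U ⊔ ⁅N, R⁆ : Subgroup G) : Set G) := h1 (hH (c.hNH hn))
  rw [Subgroup.normal_mul] at h2
  obtain ⟨u, hu, d, hd, hud⟩ := Set.mem_mul.mp h2
  have h3 : u ∈ N := by
    have : u = n * d⁻¹ := by rw [← hud]; group
    rw [this]
    exact N.mul_mem hn (N.inv_mem (hNRN hd))
  have h4 : u ∈ U ⊓ N := Subgroup.mem_inf.mpr ⟨hu, h3⟩
  rw [c.hUN, Subgroup.mem_bot] at h4
  rw [← hud, h4, one_mul]
  exact hd

/-- Case A: a generator `x` of `R₀` has no fixed points on `U`. -/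
theorem SplitCfg.comm_eq_bot_of_A (c : SplitCfg p H R U N X T) [hsolv : Group.IsSolvable G]
    (hodd : Odd (Nat.card G)) (h0 : N ⊓ Subgroup.centralizer (U : Set G) = ⊥)
    (hNR : N ≤ ⁅N, R⁆) (R₀ : Subgroup G) (hR₀ : R₀ ≤ R) (hR₀p : (Nat.card R₀).Prime)
    (hZ : IsZGroup ↥(H ⊓ Subgroup.centralizer (R₀ : Set G)))
    (hA : U ⊓ Subgroup.centralizer (R₀ : Set G) = ⊥) : ⁅X, T⁆ = ⊥ := by
  haveI := c.hHn
  obtain ⟨x, hxR₀, hx1, hxr, hxgen⟩ :=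
    Cfsg.Agent.Lib.Helper4.HH.exists_gen_of_prime_card R₀ _ hR₀p rfl
  have hF := c.fittingOf_le h0
  have hrH : ¬ Nat.card R₀ ∣ Nat.card H := by
    intro hdvd
    have h1 : Nat.card R₀ ∣ Nat.card R := Subgroup.card_dvd_of_le hR₀
    have h2 := Nat.eq_one_of_dvd_coprimes c.hcop hdvd h1
    exact hR₀p.one_lt.ne' h2
  have hsolvH : Group.IsSolvable ↥H :=
    solvable_of_solvable_injective (Subgroup.subtype_injective H)
  have hCF : Cfsg.fittingOf H ⊓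
      Subgroup.centralizer ((Subgroup.zpowers x : Subgroup G) : Set G) = ⊥ := by
    rw [eq_bot_iff, ← hA, hxgen]
    exact inf_le_inf_right _ hF
  have key := Cfsg.Agent.Lib.Helper4.PA.prime_elt hodd H hsolvH x _ hR₀p hxr hrH hCF
  have hNC : N ≤ H ⊓ Subgroup.centralizer (R₀ : Set G) := by
    intro n hn
    refine Subgroup.mem_inf.mpr ⟨c.hNH hn, ?_⟩
    rw [← hxgen, Cfsg.Agent.Lib.Helper4.HH.mem_centralizer_zpowers_iff]
    have h1 : x * n * x⁻¹ * n⁻¹ ∈ U := hF (key n (c.hNH hn))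
    have h2 : x * n * x⁻¹ * n⁻¹ ∈ N := by
      have h3 : x * n * x⁻¹ ∈ N :=
        (Subgroup.mem_normalizer_iff.mp (c.hRN (hR₀ hxR₀)) n).mp hn
      exact N.mul_mem h3 (N.inv_mem hn)
    have h4 : x * n * x⁻¹ * n⁻¹ ∈ U ⊓ N := Subgroup.mem_inf.mpr ⟨h1, h2⟩
    rw [c.hUN, Subgroup.mem_bot] at h4
    have : x * n = (x * n * x⁻¹ * n⁻¹) * (n * x) := by group
    rw [this, h4, one_mul]
  have hZN : IsZGroup ↥N :=
    IsZGroup.of_injective (f := Subgroup.inclusion hNC) (Subgroup.inclusion_injective hNC)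
  have hab := zgroup_comm_of_commutator_eq N R hZN c.hRN hNR
  rw [Subgroup.commutator_eq_bot_iff_le_centralizer]
  intro a ha
  rw [Subgroup.mem_centralizer_iff]
  intro t ht
  exact hab t (c.hTN ht) a (c.hXN ha)

/-- Case B: if `C_U(R₀) ≠ ⊥` then `C_T(R₀) = ⊥`. -/
theorem SplitCfg.T_inf_centralizer (c : SplitCfg p H R U N X T) (R₀ : Subgroup G)
    (hZ : IsZGroup ↥(H ⊓ Subgroup.centralizer (R₀ : Set G)))
    (hB : U ⊓ Subgroup.centralizer (R₀ : Set G) ≠ ⊥) :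
    T ⊓ Subgroup.centralizer (R₀ : Set G) = ⊥ := by
  apply eq_bot_of_zgroup_pgroups p (H ⊓ Subgroup.centralizer (R₀ : Set G))
    (U ⊓ Subgroup.centralizer (R₀ : Set G)) (T ⊓ Subgroup.centralizer (R₀ : Set G)) hZ
    (inf_le_inf_right _ c.hUH) (inf_le_inf_right _ (c.hTN.trans c.hNH))
    (c.isPGroup_U.to_le inf_le_left) (c.hTp.to_le inf_le_left)
  · exact le_trans (le_inf (c.le_normalizer_U _) (inf_le_right.trans Subgroup.le_normalizer))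
      Subgroup.inf_normalizer_le_normalizer_inf
  · rw [eq_bot_iff, ← c.hUN]
    exact le_inf (inf_le_left.trans inf_le_left) (inf_le_right.trans (inf_le_left.trans c.hTN))
  · exact hB

/-- Case B1: `T = [T, R₀]` lies in `[H, R₀]` which has `p`-length one. -/
theorem SplitCfg.comm_eq_bot_of_B1 (c : SplitCfg p H R U N X T) [hsolv : Group.IsSolvable G]
    (R₀ : Subgroup G) (hR₀ : R₀ ≤ R)
    (hT : T ⊓ Subgroup.centralizer (R₀ : Set G) = ⊥)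
    (h : PL1 p (⁅H, R₀⁆ ⊔ R₀) ⊥ ⁅H, R₀⁆) : ⁅X, T⁆ = ⊥ := by
  have hsolvT : Group.IsSolvable ↥T :=
    solvable_of_solvable_injective (Subgroup.subtype_injective T)
  have hcopT : (Nat.card R₀).Coprime (Nat.card T) :=
    Nat.Coprime.coprime_dvd_left (Subgroup.card_dvd_of_le hR₀)
      (Nat.Coprime.coprime_dvd_right (Subgroup.card_dvd_of_le (c.hTN.trans c.hNH)) c.hcop.symm)
  have h1 := Cfsg.Agent.Lib.Lead.coprime_commutator_sup_centralizer R₀ T (hR₀.trans c.hRT)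
    hcopT (Or.inr hsolvT)
  rw [hT, sup_bot_eq] at h1
  have hTL : T ≤ ⁅H, R₀⁆ := by
    rw [← h1]
    exact Subgroup.commutator_mono (c.hTN.trans c.hNH) le_rfl
  have hHL := Cfsg.Agent.Lib.Lead.le_normalizer_commutator_left H R₀
  have hcopXT : (Nat.card T).Coprime (Nat.card X) := by
    obtain ⟨a, ha⟩ := (IsPGroup.iff_card).mp c.hTp
    rw [ha]
    exact (Nat.Coprime.pow_right a c.hXp).symm
  have h2 := Cfsg.Agent.Lib.Lead.coprime_commutator_stable T X (c.hTN.trans c.hNX) hcopXT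
    (Or.inl hsolvT)
  apply c.eq_bot_of_PL1 h le_sup_left (c.hUH.trans hHL) T ⁅X, T⁆ hTL c.hTp c.comm_XT_le
  · rw [Subgroup.commutator_le]
    intro a ha t ht
    have h3 : a * t * a⁻¹ ∈ ⁅H, R₀⁆ :=
      (Subgroup.mem_normalizer_iff.mp (hHL (c.hNH (c.hXN ha))) t).mp (hTL ht)
    have : ⁅a, t⁆ = a * t * a⁻¹ * t⁻¹ := rfl
    rw [this]
    exact Subgroup.mul_mem _ h3 (Subgroup.inv_mem _ (hTL ht))
  · rw [h2]

end g1

end Cfsg.Agent.Lib.Helper4.ZP
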