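import Mathlib
import Cfsg.Agent.Lib.Helper4.ZP15
import Cfsg.Agent.Lib.Lead.SCN
import Cfsg.Agent.Lib.Lead.CoprimeSylow3
import Cfsg.Agent.Lib.Helper3.Gen2

set_option autoImplicit false

/-! Case B2: tightness. -/

namespace Cfsg.Agent.Lib.Helper4.ZP

open Cfsg
open scoped commutatorElement

universe u

section g1

variable {G : Type u} [Group G] [Finite G]

/-- the configuration of case B2 (a minimal counterexample with `R₀ = R`). -/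
structure B2Cfg (p : ℕ) (H R U N X T : Subgroup G) : Prop
    extends SplitCfg p H R U N X T where
  hsolv : Group.IsSolvable G
  hodd : Odd (Nat.card G)
  hRp : (Nat.card R).Prime
  hZ : IsZGroup ↥(H ⊓ Subgroup.centralizer (R : Set G))
  hTR : T ⊓ Subgroup.centralizer (R : Set G) = ⊥
  h0 : N ⊓ Subgroup.centralizer (U : Set G) = ⊥
  hsub : ∀ H₁ : Subgroup G, H₁ ≤ H → R ≤ Subgroup.normalizer (H₁ : Set G) →
    Nat.card H₁ < Nat.card H → PL1 p (⁅H₁, R⁆ ⊔ R) ⊥ ⁅H₁, R⁆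
  hne : ⁅X, T⁆ ≠ ⊥

variable {p : ℕ} [hp : Fact p.Prime] {H R U N X T : Subgroup G}

theorem comm_le_of_le_normalizer {A K' K : Subgroup G} (hA : A ≤ Subgroup.normalizer (K : Set G))
    (hK : K' ≤ K) : ⁅A, K'⁆ ≤ K := by
  refine (Subgroup.commutator_mono le_rfl hK).trans ?_
  rw [Subgroup.commutator_comm]
  exact Cfsg.Agent.Lib.Lead.commutator_le_left_of_le_normalizer K A hA

theorem B2Cfg.isSolvable (b : B2Cfg p H R U N X T) (K : Subgroup G) : Group.IsSolvable ↥K := by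
  haveI := b.hsolv
  exact solvable_of_solvable_injective (Subgroup.subtype_injective K)

theorem B2Cfg.coprime_R (b : B2Cfg p H R U N X T) (K : Subgroup G) (hK : K ≤ H) :
    (Nat.card R).Coprime (Nat.card K) :=
  Nat.Coprime.coprime_dvd_right (Subgroup.card_dvd_of_le hK) b.hcop.symm

theorem B2Cfg.coprime_TX (b : B2Cfg p H R U N X T) (T₁ Q : Subgroup G) (hT₁ : T₁ ≤ T)
    (hQ : Q ≤ X) : (Nat.card T₁).Coprime (Nat.card Q) := by
  obtain ⟨a, ha⟩ := (IsPGroup.iff_card).mp (b.hTp.to_le hT₁)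
  rw [ha]
  exact (Nat.Coprime.pow_right a
    (Nat.Coprime.coprime_dvd_left (Subgroup.card_dvd_of_le hQ) b.hXp)).symm

/-- tightness: cardinality form. -/
theorem B2Cfg.tight (b : B2Cfg p H R U N X T) (Q T₁ : Subgroup G) (hQX : Q ≤ X) (hT₁T : T₁ ≤ T)
    (hTQ : T₁ ≤ Subgroup.normalizer (Q : Set G)) (hRQ : R ≤ Subgroup.normalizer (Q : Set G))
    (hRT₁ : R ≤ Subgroup.normalizer (T₁ : Set G)) (hne : ⁅Q, T₁⁆ ≠ ⊥) :
    Nat.card Q * Nat.card T₁ = Nat.card N := by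
  have c := b.toSplitCfg
  by_contra hcard
  apply hne
  have hMN : T₁ ⊔ Q ≤ N := sup_le (hT₁T.trans c.hTN) (hQX.trans c.hXN)
  have hTQ0 : T₁ ⊓ Q = ⊥ := by
    rw [eq_bot_iff, ← c.inf_XT]
    exact le_inf (inf_le_right.trans hQX) (inf_le_left.trans hT₁T)
  have hcardM : Nat.card ↥(T₁ ⊔ Q) = Nat.card T₁ * Nat.card Q :=
    Cfsg.Agent.Lib.Lead.card_sup_of_disjoint T₁ Q hTQ hTQ0
  have hMU0 : (T₁ ⊔ Q) ⊓ U = ⊥ := by
    rw [eq_bot_iff, ← c.hUN]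
    exact le_inf inf_le_right (inf_le_left.trans hMN)
  have hcardH₁ : Nat.card ↥((T₁ ⊔ Q) ⊔ U) = Nat.card ↥(T₁ ⊔ Q) * Nat.card U :=
    Cfsg.Agent.Lib.Lead.card_sup_of_disjoint (T₁ ⊔ Q) U (c.le_normalizer_U _) hMU0
  have hlt : Nat.card ↥(T₁ ⊔ Q) < Nat.card N := by
    apply lt_of_le_of_ne (Nat.le_of_dvd Nat.card_pos (Subgroup.card_dvd_of_le hMN))
    rw [hcardM, mul_comm]
    exact hcard
  have hH₁H : (T₁ ⊔ Q) ⊔ U ≤ H := sup_le (hMN.trans c.hNH) c.hUH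
  have hRH₁ : R ≤ Subgroup.normalizer (((T₁ ⊔ Q) ⊔ U : Subgroup G) : Set G) :=
    Cfsg.Agent.Lib.Helper4.PA.le_normalizer_sup
      (Cfsg.Agent.Lib.Helper4.PA.le_normalizer_sup hRT₁ hRQ) (c.le_normalizer_U R)
  have hlt' : Nat.card ↥((T₁ ⊔ Q) ⊔ U) < Nat.card H := by
    rw [hcardH₁, c.card_H, mul_comm]
    exact Nat.mul_lt_mul_of_pos_left hlt Nat.card_pos
  have hPL := b.hsub _ hH₁H hRH₁ hlt'
  set H₁ := (T₁ ⊔ Q) ⊔ U with hH₁
  have hsolvT : Group.IsSolvable ↥T₁ := b.isSolvable T₁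
  have h1 := Cfsg.Agent.Lib.Lead.coprime_commutator_sup_centralizer R T₁ hRT₁
    (b.coprime_R T₁ (hT₁T.trans (c.hTN.trans c.hNH))) (Or.inr hsolvT)
  have h2 : T₁ ⊓ Subgroup.centralizer (R : Set G) = ⊥ := by
    rw [eq_bot_iff, ← b.hTR]
    exact inf_le_inf_right _ hT₁T
  rw [h2, sup_bot_eq] at h1
  have hT₁K : T₁ ≤ ⁅H₁, R⁆ := by
    rw [← h1]
    exact Subgroup.commutator_mono (le_sup_left.trans le_sup_left) le_rfl
  have hH₁K := Cfsg.Agent.Lib.Lead.le_normalizer_commutator_left H₁ R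
  have h3 := Cfsg.Agent.Lib.Lead.coprime_commutator_stable T₁ Q hTQ
    (b.coprime_TX T₁ Q hT₁T hQX) (Or.inl hsolvT)
  have hQQ : ⁅Q, T₁⁆ ≤ Q := Cfsg.Agent.Lib.Lead.commutator_le_left_of_le_normalizer Q T₁ hTQ
  apply c.eq_bot_of_PL1 hPL le_sup_left ((le_sup_right : U ≤ H₁).trans hH₁K) T₁ ⁅Q, T₁⁆ hT₁K
    (c.hTp.to_le hT₁T) (hQQ.trans hQX)
  · exact comm_le_of_le_normalizer (((le_sup_right : Q ≤ T₁ ⊔ Q).trans le_sup_left).trans hH₁K)
      hT₁K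
  · rw [h3]

end g1

end Cfsg.Agent.Lib.Helper4.ZP
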