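import Mathlib
import Cfsg.Agent.Lib.Helper4.ZP16

set_option autoImplicit false

/-! Case B2: consequences of tightness. -/

namespace Cfsg.Agent.Lib.Helper4.ZP

open Cfsg
open scoped commutatorElement

universe u

section g1

variable {G : Type u} [Group G] [Finite G] {p : ℕ} [hp : Fact p.Prime]
  {H R U N X T : Subgroup G}

theorem B2Cfg.card_N (b : B2Cfg p H R U N X T) : Nat.card X * Nat.card T = Nat.card N :=
  b.tight X T le_rfl le_rfl (b.hTN.trans b.hNX) b.hRX b.hRT b.hne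

/-- tightness: equality form. -/
theorem B2Cfg.tight_eq (b : B2Cfg p H R U N X T) (Q T₁ : Subgroup G) (hQX : Q ≤ X) (hT₁T : T₁ ≤ T)
    (hTQ : T₁ ≤ Subgroup.normalizer (Q : Set G)) (hRQ : R ≤ Subgroup.normalizer (Q : Set G))
    (hRT₁ : R ≤ Subgroup.normalizer (T₁ : Set G)) (hne : ⁅Q, T₁⁆ ≠ ⊥) :
    Q = X ∧ T₁ = T := by
  have h1 := b.tight Q T₁ hQX hT₁T hTQ hRQ hRT₁ hne
  rw [← b.card_N] at h1
  have hq : Nat.card Q ≤ Nat.card X := Nat.le_of_dvd Nat.card_pos (Subgroup.card_dvd_of_le hQX)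
  have ht : Nat.card T₁ ≤ Nat.card T := Nat.le_of_dvd Nat.card_pos (Subgroup.card_dvd_of_le hT₁T)
  have hq' : Nat.card Q = Nat.card X := by
    by_contra hne'
    have hlt : Nat.card Q < Nat.card X := lt_of_le_of_ne hq hne'
    have : Nat.card Q * Nat.card T₁ < Nat.card X * Nat.card T :=
      Nat.mul_lt_mul_of_lt_of_le hlt ht Nat.card_pos
    omega
  have ht' : Nat.card T₁ = Nat.card T := by
    rw [hq'] at h1
    exact Nat.eq_of_mul_eq_mul_left Nat.card_pos h1
  exact ⟨Subgroup.eq_of_le_of_card_ge hQX hq'.ge, Subgroup.eq_of_le_of_card_ge hT₁T ht'.ge⟩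

theorem B2Cfg.sup_XT (b : B2Cfg p H R U N X T) : X ⊔ T = N := by
  have c := b.toSplitCfg
  apply Subgroup.eq_of_le_of_card_ge (sup_le c.hXN c.hTN)
  have := Cfsg.Agent.Lib.Lead.card_sup_of_disjoint T X (c.hTN.trans c.hNX)
    (by rw [inf_comm]; exact c.inf_XT)
  rw [sup_comm, this, mul_comm, b.card_N]

theorem B2Cfg.coprime_TR_X (b : B2Cfg p H R U N X T) :
    (Nat.card ↥(T ⊔ R)).Coprime (Nat.card X) := by
  have c := b.toSplitCfg
  have h1 := Cfsg.Agent.Lib.Lead.card_sup_mul_card_inf R T c.hRT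
  have h2 : Nat.card ↥(T ⊔ R) ∣ Nat.card R * Nat.card T := by
    rw [sup_comm]
    exact Dvd.intro _ h1
  apply Nat.Coprime.coprime_dvd_left h2
  exact Nat.Coprime.mul_left (b.coprime_R X (c.hXN.trans c.hNH)) (b.coprime_TX T X le_rfl le_rfl)

/-- `X` is a `q`-group for some prime `q`. -/
theorem B2Cfg.exists_prime (b : B2Cfg p H R U N X T) : ∃ q : ℕ, q.Prime ∧ IsPGroup q X := by
  have c := b.toSplitCfg
  by_contra hcon
  push Not at hcon
  apply b.hne
  rw [Subgroup.commutator_eq_bot_iff_le_centralizer]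
  apply Cfsg.Agent.Lib.Helper3.Gen.le_of_forall_sylow_le
  intro q hq
  haveI := hq
  obtain ⟨P, hP⟩ := Cfsg.Agent.Lib.Lead.coprime_invariant_sylow_exists (T ⊔ R) X
    (sup_le (c.hTN.trans c.hNX) c.hRX) b.coprime_TR_X (Or.inr (b.isSolvable X)) q
  refine ⟨P, ?_⟩
  by_contra hPT
  rw [← Subgroup.commutator_eq_bot_iff_le_centralizer] at hPT
  have h1 := b.tight_eq ((P : Subgroup X).map X.subtype) T (Subgroup.map_subtype_le _) le_rfl
    (le_sup_left.trans hP) (le_sup_right.trans hP) c.hRT hPT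
  apply hcon q hq.out
  rw [← h1.1]
  exact P.isPGroup'.map _

theorem B2Cfg.T_inf_centralizer_X (b : B2Cfg p H R U N X T) :
    T ⊓ Subgroup.centralizer (X : Set G) = ⊥ := by
  have c := b.toSplitCfg
  set Y := T ⊓ Subgroup.centralizer (X : Set G) with hY
  have hXY : X ≤ Subgroup.normalizer (Y : Set G) := by
    refine le_trans ?_ (Subgroup.centralizer_le_normalizer (Y : Set G))
    intro a ha
    rw [Subgroup.mem_centralizer_iff]
    intro y hy
    exact (Subgroup.mem_centralizer_iff.mp (Subgroup.mem_inf.mp hy).2 a ha).symm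
  have hnc : ∀ K : Subgroup G, K ≤ Subgroup.normalizer (X : Set G) →
      K ≤ Subgroup.normalizer (T : Set G) → K ≤ Subgroup.normalizer (Y : Set G) := by
    intro K hKX hKT
    exact le_trans (le_inf hKT
      (hKX.trans (Cfsg.Agent.Lib.Lead.normalizer_le_normalizer_centralizer X)))
      Subgroup.inf_normalizer_le_normalizer_inf
  have hTY : T ≤ Subgroup.normalizer (Y : Set G) :=
    hnc T (c.hTN.trans c.hNX) Subgroup.le_normalizer
  have hRY : R ≤ Subgroup.normalizer (Y : Set G) := hnc R c.hRX c.hRT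
  have hNY : N ≤ Subgroup.normalizer (Y : Set G) := by
    rw [← b.sup_XT]
    exact sup_le hXY hTY
  have hWn : (U ⊔ Y).Normal := by
    apply c.normal_of_normalized
    · exact le_sup_left.trans Subgroup.le_normalizer
    · exact Cfsg.Agent.Lib.Helper4.PA.le_normalizer_sup (c.le_normalizer_U N) hNY
    · exact Cfsg.Agent.Lib.Helper4.PA.le_normalizer_sup (c.le_normalizer_U R) hRY
  have hWp : IsPGroup p ↥(U ⊔ Y) :=
    isPGroup_sup_of_le_normalizer p U Y c.isPGroup_U (c.hTp.to_le inf_le_left)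
      (c.le_normalizer_U Y)
  have hWH : U ⊔ Y ≤ H := sup_le c.hUH (inf_le_left.trans (c.hTN.trans c.hNH))
  have hWF : U ⊔ Y ≤ Cfsg.fittingOf H :=
    Cfsg.Agent.Lib.Helper4.BG8.le_fittingOf hWH
      (by rw [Subgroup.normalizer_eq_top_iff.mpr hWn]; exact le_top) hWp.isNilpotent
  have hYU : Y ≤ U := (le_sup_right.trans hWF).trans (c.fittingOf_le b.h0)
  rw [eq_bot_iff, ← c.hUN]
  exact le_inf hYU (inf_le_left.trans c.hTN)

/-- `T` is a minimal `R`-invariant subgroup. -/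
theorem B2Cfg.T_min (b : B2Cfg p H R U N X T) (T₁ : Subgroup G) (hT₁T : T₁ ≤ T)
    (hRT₁ : R ≤ Subgroup.normalizer (T₁ : Set G)) : T₁ = ⊥ ∨ T₁ = T := by
  have c := b.toSplitCfg
  by_cases h1 : T₁ = ⊥
  · exact Or.inl h1
  · right
    have hne : ⁅X, T₁⁆ ≠ ⊥ := by
      intro h2
      apply h1
      rw [Subgroup.commutator_comm, Subgroup.commutator_eq_bot_iff_le_centralizer] at h2
      rw [eq_bot_iff, ← b.T_inf_centralizer_X]
      exact le_inf hT₁T h2
    exact (b.tight_eq X T₁ le_rfl hT₁T (hT₁T.trans (c.hTN.trans c.hNX)) c.hRX hRT₁ hne).2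

/-- `X = [X, T]`. -/
theorem B2Cfg.X_eq_comm (b : B2Cfg p H R U N X T) : ⁅X, T⁆ = X := by
  have c := b.toSplitCfg
  have hTX : T ≤ Subgroup.normalizer (X : Set G) := c.hTN.trans c.hNX
  have h3 := Cfsg.Agent.Lib.Lead.coprime_commutator_stable T X hTX
    (b.coprime_TX T X le_rfl le_rfl) (Or.inl (b.isSolvable T))
  have hT' : T ≤ Subgroup.normalizer ((⁅X, T⁆ : Subgroup G) : Set G) :=
    le_trans (le_inf hTX Subgroup.le_normalizer)
      (Cfsg.Agent.Lib.Lead.normalizer_inf_le_normalizer_commutator X T)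
  have hR' : R ≤ Subgroup.normalizer ((⁅X, T⁆ : Subgroup G) : Set G) :=
    le_trans (le_inf c.hRX c.hRT)
      (Cfsg.Agent.Lib.Lead.normalizer_inf_le_normalizer_commutator X T)
  exact (b.tight_eq ⁅X, T⁆ T c.comm_XT_le le_rfl hT' hR' c.hRT (by rw [h3]; exact b.hne)).1

theorem B2Cfg.T_ne_bot (b : B2Cfg p H R U N X T) : T ≠ ⊥ := by
  intro h
  apply b.hne
  rw [h, Subgroup.commutator_bot_right]

theorem B2Cfg.X_ne_bot (b : B2Cfg p H R U N X T) : X ≠ ⊥ := by
  intro h
  apply b.hne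
  rw [h, Subgroup.commutator_bot_left]

end g1

end Cfsg.Agent.Lib.Helper4.ZP
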