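import Mathlib
import Cfsg.Agent.Lib.Helper4.HH1
import Cfsg.Agent.Lib.Helper4.FM8

set_option autoImplicit false

/-! Weights of an abelian normal subgroup permuted by a Frobenius group: basic lemmas. -/

namespace Cfsg.Agent.Lib.Helper4.ZP

open Module Cfsg.Agent.Lib.Helper4.FM Cfsg.Agent.Lib.Helper4.HH
open scoped commutatorElement

section wtlemmas

variable {K : Type*} [Field K] {Γ : Type*} [Group Γ] {W : Type*} [AddCommGroup W] [Module K W]
  (ρ : Representation K Γ W) (M : Subgroup Γ)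

theorem rho_injective (g : Γ) : Function.Injective (ρ g) := by
  intro a b h
  have := congrArg (ρ g⁻¹) h
  rwa [rho_inv_cancel', rho_inv_cancel'] at this

theorem rho_ne_zero (g : Γ) {v : W} (hv : v ≠ 0) : ρ g v ≠ 0 := by
  intro h
  apply hv
  apply rho_injective ρ g
  rw [h, map_zero]

theorem exists_ne_zero_of_wt_ne_bot (χ : M → K) (h : wt ρ M χ ≠ ⊥) :
    ∃ v : W, v ∈ wt ρ M χ ∧ v ≠ 0 := by
  obtain ⟨v, hv, hv0⟩ := Submodule.exists_mem_ne_zero_of_ne_bot h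
  exact ⟨v, hv, hv0⟩

theorem wt_ne_bot_of_mem (χ : M → K) {v : W} (hv : v ∈ wt ρ M χ) (hv0 : v ≠ 0) :
    wt ρ M χ ≠ ⊥ := by
  intro h
  rw [h] at hv
  exact hv0 ((Submodule.mem_bot K).1 hv)

theorem wt_char_mul (χ : M → K) (h : wt ρ M χ ≠ ⊥) (a b : M) : χ (a * b) = χ a * χ b := by
  obtain ⟨v, hv, hv0⟩ := exists_ne_zero_of_wt_ne_bot ρ M χ h
  have h1 := (mem_wt ρ M χ v).1 hv (a * b)
  have h2 := (mem_wt ρ M χ v).1 hv a
  have h3 := (mem_wt ρ M χ v).1 hv b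
  have h4 : ρ ((a * b : M) : Γ) v = (χ a * χ b) • v := by
    rw [Subgroup.coe_mul, rho_mul_apply, h3, map_smul, h2, smul_smul, mul_comm]
  rw [h1] at h4
  exact smul_left_injective K hv0 h4

theorem wt_char_one (χ : M → K) (h : wt ρ M χ ≠ ⊥) : χ 1 = 1 := by
  obtain ⟨v, hv, hv0⟩ := exists_ne_zero_of_wt_ne_bot ρ M χ h
  have h1 := (mem_wt ρ M χ v).1 hv 1
  rw [Subgroup.coe_one, map_one, Module.End.one_apply] at h1
  have h2 : (1 : K) • v = χ 1 • v := by rw [one_smul]; exact h1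
  exact (smul_left_injective K hv0 h2).symm

theorem wt_char_inv (χ : M → K) (h : wt ρ M χ ≠ ⊥) (a : M) : χ a⁻¹ * χ a = 1 := by
  rw [← wt_char_mul ρ M χ h, inv_mul_cancel, wt_char_one ρ M χ h]

theorem wt_one_le_inv : wt ρ M (fun _ => 1) ≤ inv ρ M := by
  intro v hv m hm
  have := (mem_wt ρ M (fun _ => 1) v).1 hv ⟨m, hm⟩
  rw [one_smul] at this
  exact this

variable [hMn : M.Normal]

/-- a weight fixed by `T` is trivial when `M = [M, T]`. -/
theorem char_eq_one_of_fixed (T : Subgroup Γ) (hMT : M ≤ ⁅M, T⁆) (χ : M → K)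
    (h : wt ρ M χ ≠ ⊥) (hfix : ∀ t ∈ T, conjWt M t χ = χ) : χ = fun _ => 1 := by
  let S : Subgroup Γ :=
    { carrier := {g | ∃ hg : g ∈ M, χ ⟨g, hg⟩ = 1}
      one_mem' := ⟨M.one_mem, wt_char_one ρ M χ h⟩
      mul_mem' := by
        rintro a b ⟨ha, ha'⟩ ⟨hb, hb'⟩
        refine ⟨M.mul_mem ha hb, ?_⟩
        have := wt_char_mul ρ M χ h ⟨a, ha⟩ ⟨b, hb⟩
        rw [ha', hb', mul_one] at this
        exact this
      inv_mem' := by
        rintro a ⟨ha, ha'⟩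
        refine ⟨M.inv_mem ha, ?_⟩
        have := wt_char_inv ρ M χ h ⟨a, ha⟩
        rw [ha', mul_one] at this
        exact this }
  have hS : ⁅M, T⁆ ≤ S := by
    rw [Subgroup.commutator_le]
    intro m hm t ht
    have hmem : t * m⁻¹ * t⁻¹ ∈ M := hMn.conj_mem m⁻¹ (M.inv_mem hm) t
    have hc : ⁅m, t⁆ = m * (t * m⁻¹ * t⁻¹) := by
      rw [commutatorElement_def]; group
    have hcm : ⁅m, t⁆ ∈ M := by
      rw [hc]; exact M.mul_mem hm hmem
    refine ⟨hcm, ?_⟩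
    have h1 : (⟨⁅m, t⁆, hcm⟩ : M) = ⟨m, hm⟩ * ⟨t * m⁻¹ * t⁻¹, hmem⟩ := by
      apply Subtype.ext
      exact hc
    rw [h1, wt_char_mul ρ M χ h]
    have h2 := hfix t⁻¹ (T.inv_mem ht)
    have h3 : conjWt M t⁻¹ χ ⟨m⁻¹, M.inv_mem hm⟩ = χ ⟨t * m⁻¹ * t⁻¹, hmem⟩ := by
      unfold conjWt
      congr 1
      apply Subtype.ext
      simp
    rw [h2] at h3
    rw [← h3]
    have h4 := wt_char_inv ρ M χ h ⟨m, hm⟩
    rw [mul_comm] at h4
    exact h4
  funext m
  obtain ⟨_, hm⟩ := hS (hMT m.2)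
  exact hm

theorem wstab_conj (χ : M → K) (g s : Γ) (hg : g ∈ wstab M χ) :
    conjWt M (g * s) χ = conjWt M (g * s * g⁻¹) χ := by
  have h1 : g * s = (g * s * g⁻¹) * g := by group
  have hg' : conjWt M g χ = χ := hg
  conv_lhs => rw [h1, conjWt_mul, hg']

end wtlemmas

section primepow

variable {Γ : Type*} [Group Γ]

/-- in a cyclic group of prime order every nonidentity element is a generator. -/
theorem mem_zpowers_of_prime (x : Γ) (r : ℕ) (hr : r.Prime) (hx : x ^ r = 1) (e : Γ)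
    (he : e ∈ Subgroup.zpowers x) (he1 : e ≠ 1) : x ∈ Subgroup.zpowers e := by
  obtain ⟨i, rfl⟩ := Subgroup.mem_zpowers_iff.1 he
  have hnd : ¬ (r : ℤ) ∣ i := by
    rintro ⟨c, rfl⟩
    apply he1
    rw [zpow_mul, zpow_natCast, hx, one_zpow]
  have hcop : IsCoprime i (r : ℤ) := by
    rw [Int.isCoprime_iff_gcd_eq_one, Int.gcd_comm]
    have h1 : Nat.Coprime r i.natAbs := by
      rw [Nat.Prime.coprime_iff_not_dvd hr]
      intro h2
      exact hnd (Int.natCast_dvd.2 h2)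
    simpa [Int.gcd] using h1
  obtain ⟨a, b, hab⟩ := hcop
  have hxe : x = (x ^ i) ^ a := by
    have h1 : x ^ (a * i + b * (r : ℤ)) = x := by rw [hab, zpow_one]
    rw [zpow_add, mul_comm b, zpow_mul x (r : ℤ) b, zpow_natCast, hx, one_zpow, mul_one,
      mul_comm a, zpow_mul] at h1
    exact h1.symm
  rw [Subgroup.mem_zpowers_iff]
  exact ⟨a, hxe.symm⟩

end primepow

end Cfsg.Agent.Lib.Helper4.ZP
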