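import Mathlib
import Cfsg.Agent.Lib.Helper4.ZP4

set_option autoImplicit false

/-! Two free orbits of weights give a two dimensional fixed space. -/

namespace Cfsg.Agent.Lib.Helper4.ZP

open Module Cfsg.Agent.Lib.Helper4.FM Cfsg.Agent.Lib.Helper4.HH
open scoped commutatorElement

section li

variable {K : Type*} [Field K] {Γ : Type*} [Group Γ] {W : Type*} [AddCommGroup W] [Module K W]
  [FiniteDimensional K W] (ρ : Representation K Γ W) (M : Subgroup Γ) [hMn : M.Normal]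

theorem sum_pow_mem_inv (x : Γ) (r : ℕ) (hx : x ^ r = 1) (v : W) :
    (∑ i ∈ Finset.range r, ρ (x ^ i) v) ∈ inv ρ (Subgroup.zpowers x) := by
  have hxw : x ∈ fixer ρ (∑ i ∈ Finset.range r, ρ (x ^ i) v) := by
    show ρ x (∑ i ∈ Finset.range r, ρ (x ^ i) v) = ∑ i ∈ Finset.range r, ρ (x ^ i) v
    rw [map_sum]
    have h1 : ∀ i, ρ x (ρ (x ^ i) v) = ρ (x ^ (i + 1)) v := by
      intro i
      rw [← rho_mul_apply, ← pow_succ']
    simp only [h1]
    have h2 := Finset.sum_range_succ' (fun i => ρ (x ^ i) v) r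
    have h3 := Finset.sum_range_succ (fun i => ρ (x ^ i) v) r
    rw [h3] at h2
    simp only [hx, pow_zero] at h2
    exact (add_right_cancel h2).symm
  intro s hs
  exact (Subgroup.zpowers_le.mpr hxw) hs

theorem finrank_inv_ge_two (hcomm : ∀ a b : M, Commute (ρ (a : Γ)) (ρ (b : Γ))) (x : Γ) (r : ℕ)
    (hr : 0 < r) (hx : x ^ r = 1) (χ₁ χ₂ : M → K) (v₁ v₂ : W) (hv₁ : v₁ ∈ wt ρ M χ₁)
    (hv₁0 : v₁ ≠ 0) (hv₂ : v₂ ∈ wt ρ M χ₂) (hv₂0 : v₂ ≠ 0)
    (hinj : Function.Injective (fun ai : Bool × Fin r =>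
      conjWt M (x ^ (ai.2 : ℕ)) (if ai.1 then χ₁ else χ₂))) :
    2 ≤ finrank K (inv ρ (Subgroup.zpowers x)) := by
  set f : Bool × Fin r → (M → K) := fun ai =>
    conjWt M (x ^ (ai.2 : ℕ)) (if ai.1 then χ₁ else χ₂) with hf
  set u : Bool × Fin r → W := fun ai => ρ (x ^ (ai.2 : ℕ)) (if ai.1 then v₁ else v₂) with hu
  have hmem : ∀ ai, u ai ∈ wt ρ M (f ai) := by
    rintro ⟨a, i⟩
    cases a
    · exact map_mem_wt ρ M _ _ _ hv₂
    · exact map_mem_wt ρ M _ _ _ hv₁
  have hne : ∀ ai, u ai ≠ 0 := by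
    rintro ⟨a, i⟩
    cases a
    · exact rho_ne_zero ρ _ hv₂0
    · exact rho_ne_zero ρ _ hv₁0
  have hind : iSupIndep (wt ρ M ∘ f) := (iSupIndep_wt ρ M hcomm).comp hinj
  have hli : LinearIndependent K u := iSupIndep.linearIndependent _ hind hmem hne
  set w : Bool → W := fun a => ∑ i ∈ Finset.range r, ρ (x ^ i) (if a then v₁ else v₂) with hw
  have hwinv : ∀ a, w a ∈ inv ρ (Subgroup.zpowers x) := fun a => sum_pow_mem_inv ρ x r hx _
  have hwu : ∀ a, w a = ∑ i : Fin r, u (a, i) := by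
    intro a
    rw [hw]
    simp only
    rw [← Fin.sum_univ_eq_sum_range (fun i => ρ (x ^ i) (if a then v₁ else v₂)) r]
  have hwli : LinearIndependent K w := by
    rw [Fintype.linearIndependent_iff]
    intro g hg
    have h1 : ∑ ai : Bool × Fin r, g ai.1 • u ai = 0 := by
      rw [Fintype.sum_prod_type]
      rw [← hg]
      apply Finset.sum_congr rfl
      intro a _
      rw [hwu, Finset.smul_sum]
    have h2 := (Fintype.linearIndependent_iff.mp hli) (fun ai => g ai.1) h1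
    intro a
    exact h2 (a, ⟨0, hr⟩)
  have hwli' : LinearIndependent K (fun a : Bool => (⟨w a, hwinv a⟩ : inv ρ (Subgroup.zpowers x))) := by
    apply LinearIndependent.of_comp (inv ρ (Subgroup.zpowers x)).subtype
    exact hwli
  have := hwli'.fintype_card_le_finrank
  simpa using this

end li

end Cfsg.Agent.Lib.Helper4.ZP
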