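import Mathlib
import Cfsg.Agent.Lib.Helper4.ZP5
import Cfsg.Agent.Lib.Helper4.HH12

set_option autoImplicit false

/-! The endgame: a Frobenius group `T⟨x⟩` permuting the weights of an abelian normal subgroup
`M = [M, T]` cannot have a one dimensional fixed space of `x`. -/

namespace Cfsg.Agent.Lib.Helper4.ZP

open Module Cfsg.Agent.Lib.Helper4.FM Cfsg.Agent.Lib.Helper4.HH
open scoped commutatorElement

section frob

variable {Γ : Type*} [Group Γ]

theorem mem_normalizer_of_conj_mem [Finite Γ] (T : Subgroup Γ) (x : Γ)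
    (hxT : ∀ t ∈ T, x * t * x⁻¹ ∈ T) : x ∈ Subgroup.normalizer (T : Set Γ) := by
  have hpos : 0 < orderOf x := orderOf_pos x
  have hinv := conj_inv_mem T x (orderOf x) hpos (pow_orderOf_eq_one x) hxT
  rw [Subgroup.mem_normalizer_iff]
  intro h
  constructor
  · exact hxT h
  · intro hh
    have := hinv _ hh
    have e : x⁻¹ * (x * h * x⁻¹) * x = h := by group
    rwa [e] at this

/-- the key rigidity of a Frobenius group of odd order: a nonidentity element of the kernel is
conjugate under the complement neither to itself (nontrivially) nor to its inverse. -/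
theorem frob_rigid [Finite Γ] (T : Subgroup Γ) (x : Γ) (r : ℕ) (hr : r.Prime) (hr2 : r ≠ 2)
    (hx : x ^ r = 1) (hfix : ∀ t ∈ T, x * t = t * x → t = 1)
    (p : ℕ) [hp : Fact p.Prime] (hTp : IsPGroup p T) (hp2 : p ≠ 2)
    (e : Γ) (he : e ∈ Subgroup.zpowers x) (s s' : Γ) (hs : s ∈ T) (hs1 : s ≠ 1)
    (hss' : s' = s ∨ s' = s⁻¹) (hes : e * s * e⁻¹ = s') : e = 1 ∧ s' = s := by
  have hfix' : ∀ e ∈ Subgroup.zpowers x, e ≠ 1 → ∀ s ∈ T, e * s = s * e → s = 1 := by
    intro e he he1 s hs hes
    apply hfix s hs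
    have hxe := mem_zpowers_of_prime x r hr hx e he he1
    have h1 : e ∈ Subgroup.centralizer ({s} : Set Γ) := by
      rw [Subgroup.mem_centralizer_singleton_iff]
      exact hes
    have h2 : x ∈ Subgroup.centralizer ({s} : Set Γ) := (Subgroup.zpowers_le.mpr h1) hxe
    rw [Subgroup.mem_centralizer_singleton_iff] at h2
    exact h2
  rcases hss' with h | h
  · rw [h] at hes ⊢
    refine ⟨?_, rfl⟩
    by_contra he1
    apply hs1
    apply hfix' e he he1 s hs
    calc e * s = e * s * e⁻¹ * e := by group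
      _ = s * e := by rw [hes]
  · exfalso
    rw [h] at hes
    have h3 : e * s⁻¹ * e⁻¹ = s := by
      have h9 : (e * s * e⁻¹)⁻¹ = (s⁻¹)⁻¹ := by rw [hes]
      rw [inv_inv] at h9
      have h10 : (e * s * e⁻¹)⁻¹ = e * s⁻¹ * e⁻¹ := by group
      rw [← h10]; exact h9
    have h2 : (e * e) * s = s * (e * e) := by
      calc (e * e) * s = e * (e * s * e⁻¹) * e := by group
        _ = e * s⁻¹ * e := by rw [hes]
        _ = (e * s⁻¹ * e⁻¹) * (e * e) := by group
        _ = s * (e * e) := by rw [h3]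
    have hee : e * e ∈ Subgroup.zpowers x := Subgroup.mul_mem _ he he
    by_cases h4 : e * e = 1
    · -- then e = 1
      have her : e ^ r = 1 := by
        obtain ⟨i, rfl⟩ := Subgroup.mem_zpowers_iff.1 he
        rw [← zpow_natCast, ← zpow_mul, mul_comm, zpow_mul, zpow_natCast, hx, one_zpow]
      have h5 : orderOf e ∣ 2 := by
        apply orderOf_dvd_of_pow_eq_one
        rw [pow_two]; exact h4
      have h6 : orderOf e ∣ r := orderOf_dvd_of_pow_eq_one her
      have h8 : Nat.Coprime 2 r := by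
        rw [Nat.coprime_primes Nat.prime_two hr]
        exact fun h => hr2 h.symm
      have h7 : orderOf e = 1 := Nat.eq_one_of_dvd_coprimes h8 h5 h6
      have he1 : e = 1 := orderOf_eq_one_iff.mp h7
      rw [he1, one_mul, inv_one, mul_one] at hes
      -- s = s⁻¹
      have hs2 : s ^ 2 = 1 := by
        rw [pow_two]
        nth_rewrite 1 [hes]
        exact inv_mul_cancel s
      obtain ⟨k, hk⟩ := hTp ⟨s, hs⟩
      have hk' : s ^ (p ^ k) = 1 := by
        have := congrArg Subtype.val hk
        simpa using this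
      have h10 : orderOf s ∣ 2 := orderOf_dvd_of_pow_eq_one hs2
      have h11 : orderOf s ∣ p ^ k := orderOf_dvd_of_pow_eq_one hk'
      have h12 : Nat.Coprime 2 (p ^ k) := by
        apply Nat.Coprime.pow_right
        rw [Nat.coprime_primes Nat.prime_two hp.out]
        exact fun h => hp2 h.symm
      have h13 : orderOf s = 1 := Nat.eq_one_of_dvd_coprimes h12 h10 h11
      exact hs1 (orderOf_eq_one_iff.mp h13)
    · exact hs1 (hfix' _ hee h4 s hs h2)

theorem inv_ne_self_of_odd_pgroup (T : Subgroup Γ) (p : ℕ) [hp : Fact p.Prime]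
    (hTp : IsPGroup p T) (hp2 : p ≠ 2) (s : Γ) (hs : s ∈ T) (hs1 : s ≠ 1) : s⁻¹ ≠ s := by
  intro hes
  have hs2 : s ^ 2 = 1 := by
    rw [pow_two]
    nth_rewrite 1 [← hes]
    exact inv_mul_cancel s
  obtain ⟨k, hk⟩ := hTp ⟨s, hs⟩
  have hk' : s ^ (p ^ k) = 1 := by
    have := congrArg Subtype.val hk
    simpa using this
  have h10 : orderOf s ∣ 2 := orderOf_dvd_of_pow_eq_one hs2
  have h11 : orderOf s ∣ p ^ k := orderOf_dvd_of_pow_eq_one hk'
  have h12 : Nat.Coprime 2 (p ^ k) := by
    apply Nat.Coprime.pow_right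
    rw [Nat.coprime_primes Nat.prime_two hp.out]
    exact fun h => hp2 h.symm
  have h13 : orderOf s = 1 := Nat.eq_one_of_dvd_coprimes h12 h10 h11
  exact hs1 (orderOf_eq_one_iff.mp h13)

end frob

end Cfsg.Agent.Lib.Helper4.ZP
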