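import Mathlib
import Cfsg.Agent.Lib.Helper4.ZP6

set_option autoImplicit false

/-! The endgame in representation form. -/

namespace Cfsg.Agent.Lib.Helper4.ZP

open Module Cfsg.Agent.Lib.Helper4.FM Cfsg.Agent.Lib.Helper4.HH
open scoped commutatorElement

section we

variable {K : Type*} [Field K] [IsAlgClosed K] {Γ : Type*} [Group Γ] [Finite Γ] {W : Type*}
  [AddCommGroup W] [Module K W] [FiniteDimensional K W] [Nontrivial W]
  (ρ : Representation K Γ W) (M : Subgroup Γ) [hMn : M.Normal]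

theorem conjWt_eq_iff (χ : M → K) (g h : Γ) :
    conjWt M g χ = conjWt M h χ ↔ h⁻¹ * g ∈ wstab M χ := by
  constructor
  · intro heq
    show conjWt M (h⁻¹ * g) χ = χ
    rw [conjWt_mul, heq, ← conjWt_mul, inv_mul_cancel, conjWt_one]
  · intro hmem
    have h1 : conjWt M (h⁻¹ * g) χ = χ := hmem
    have h2 : g = h * (h⁻¹ * g) := by group
    conv_lhs => rw [h2, conjWt_mul, h1]

theorem weights_endgame
    (hcomm : ∀ a b : M, Commute (ρ (a : Γ)) (ρ (b : Γ))) (hMK : (Nat.card M : K) ≠ 0)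
    (hinv : inv ρ M = ⊥) (T : Subgroup Γ) (x : Γ) (r : ℕ) (hr : r.Prime) (hr2 : r ≠ 2)
    (hx : x ^ r = 1) (hx1 : finrank K (inv ρ (Subgroup.zpowers x)) ≤ 1)
    (hxT : ∀ t ∈ T, x * t * x⁻¹ ∈ T) (hfix : ∀ t ∈ T, x * t = t * x → t = 1)
    (hTmin : ∀ S : Subgroup Γ, S ≤ T → (∀ s ∈ S, x * s * x⁻¹ ∈ S) → S = ⊥ ∨ S = T)
    (hT1 : T ≠ ⊥) (p : ℕ) [hp : Fact p.Prime] (hTp : IsPGroup p T) (hpr : p ≠ r) (hp2 : p ≠ 2)
    (hMT : M ≤ ⁅M, T⁆) : False := by
  have hxne : x ≠ 1 := by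
    intro h
    apply hT1
    rw [eq_bot_iff]
    intro t ht
    rw [Subgroup.mem_bot]
    exact hfix t ht (by rw [h, one_mul, mul_one])
  haveI : Fact r.Prime := ⟨hr⟩
  have hord : orderOf x = r := orderOf_eq_prime hx hxne
  have hxN : x ∈ Subgroup.normalizer (T : Set Γ) := mem_normalizer_of_conj_mem T x hxT
  have hET : ∀ e ∈ Subgroup.zpowers x, ∀ t ∈ T, e * t * e⁻¹ ∈ T := by
    intro e he t ht
    exact (Subgroup.mem_normalizer_iff.mp ((Subgroup.zpowers_le.mpr hxN) he) t).mp ht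
  have htop := iSup_wt_eq_top ρ M hcomm hMK
  obtain ⟨χ₀, hχ₀⟩ : ∃ χ : M → K, wt ρ M χ ≠ ⊥ := by
    by_contra hcon
    push Not at hcon
    have h1 : (⊤ : Submodule K W) = ⊥ := by
      rw [← htop]
      simp [hcon]
    exact top_ne_bot h1
  -- no weight is fixed by all of `T`
  have hnoT : ∀ χ : M → K, wt ρ M χ ≠ ⊥ → ¬ (∀ t ∈ T, conjWt M t χ = χ) := by
    intro χ hχ hall
    have h1 := char_eq_one_of_fixed ρ M T hMT χ hχ hall
    apply hχ
    rw [h1, eq_bot_iff, ← hinv]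
    exact wt_one_le_inv ρ M
  -- the elements of `zpowers x` as powers
  have hpow_inj : ∀ i j : Fin r, x ^ (i : ℕ) = x ^ (j : ℕ) → i = j := by
    intro i j hij
    apply Fin.ext
    have hi : (i : ℕ) ∈ Set.Iio (orderOf x) := by rw [Set.mem_Iio, hord]; exact i.2
    have hj : (j : ℕ) ∈ Set.Iio (orderOf x) := by rw [Set.mem_Iio, hord]; exact j.2
    exact pow_injOn_Iio_orderOf hi hj hij
  have hzp : ∀ i j : ℕ, (x ^ j)⁻¹ * x ^ i ∈ Subgroup.zpowers x := by
    intro i j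
    exact Subgroup.mul_mem _ (Subgroup.inv_mem _ (Subgroup.pow_mem _ (Subgroup.mem_zpowers x) j))
      (Subgroup.pow_mem _ (Subgroup.mem_zpowers x) i)
  -- step 1: no weight is fixed by `x`
  have hstep1 : ∀ χ : M → K, wt ρ M χ ≠ ⊥ → conjWt M x χ ≠ χ := by
    intro χ hχ hxχ
    have hxw : x ∈ wstab M χ := hxχ
    have hEw : Subgroup.zpowers x ≤ wstab M χ := Subgroup.zpowers_le.mpr hxw
    have hSx : ∀ s ∈ T ⊓ wstab M χ, x * s * x⁻¹ ∈ T ⊓ wstab M χ := by
      intro s hs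
      obtain ⟨hsT, hsw⟩ := Subgroup.mem_inf.mp hs
      refine Subgroup.mem_inf.mpr ⟨hxT s hsT, ?_⟩
      exact (wstab M χ).mul_mem ((wstab M χ).mul_mem hxw hsw) ((wstab M χ).inv_mem hxw)
    rcases hTmin (T ⊓ wstab M χ) inf_le_left hSx with hS | hS
    · obtain ⟨t, ht1⟩ := (Subgroup.ne_bot_iff_exists_ne_one.mp hT1)
      have htT : (t : Γ) ∈ T := t.2
      have ht1' : (t : Γ) ≠ 1 := by
        intro h
        apply ht1
        exact Subtype.ext h
      have htinv : (t : Γ)⁻¹ ∈ T := T.inv_mem htT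
      have htinv1 : (t : Γ)⁻¹ ≠ 1 := by
        intro h
        apply ht1'
        rw [inv_eq_one] at h
        exact h
      obtain ⟨v, hv, hv0⟩ := exists_ne_zero_of_wt_ne_bot ρ M χ hχ
      -- injectivity
      have hkey : ∀ (i j : Fin r) (s s' : Γ), s ∈ T → s ≠ 1 → (s' = s ∨ s' = s⁻¹) →
          conjWt M (x ^ (i : ℕ)) (conjWt M s χ) = conjWt M (x ^ (j : ℕ)) (conjWt M s' χ) →
          i = j ∧ s' = s := by
        intro i j s s' hs hs1 hss' heq
        have hs'T : s' ∈ T := by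
          rcases hss' with h | h
          · rw [h]; exact hs
          · rw [h]; exact T.inv_mem hs
        rw [← conjWt_mul, ← conjWt_mul, conjWt_eq_iff] at heq
        set e := (x ^ (j : ℕ))⁻¹ * x ^ (i : ℕ) with he
        have heE : e ∈ Subgroup.zpowers x := hzp i j
        have hew : e ∈ wstab M χ := hEw heE
        have h1 : (x ^ (j : ℕ) * s')⁻¹ * (x ^ (i : ℕ) * s) = e * (e⁻¹ * s'⁻¹ * e * s) := by
          rw [he]; group
        rw [h1] at heq
        have h2 : e⁻¹ * s'⁻¹ * e * s ∈ wstab M χ := by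
          have := (wstab M χ).mul_mem ((wstab M χ).inv_mem hew) heq
          rwa [← mul_assoc, inv_mul_cancel, one_mul] at this
        have h3 : e⁻¹ * s'⁻¹ * e * s ∈ T := by
          have h4 := hET e⁻¹ (Subgroup.inv_mem _ heE) s'⁻¹ (T.inv_mem hs'T)
          rw [inv_inv] at h4
          exact T.mul_mem h4 hs
        have h5 : e⁻¹ * s'⁻¹ * e * s ∈ T ⊓ wstab M χ := Subgroup.mem_inf.mpr ⟨h3, h2⟩
        rw [hS, Subgroup.mem_bot] at h5
        have h6 : e * s * e⁻¹ = s' := by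
          have h7 : s = (e⁻¹ * s'⁻¹ * e)⁻¹ := (eq_inv_of_mul_eq_one_right h5)
          rw [h7]; group
        obtain ⟨he1, hs'⟩ := frob_rigid T x r hr hr2 hx hfix p hTp hp2 e heE s s' hs hs1 hss' h6
        refine ⟨?_, hs'⟩
        apply hpow_inj
        rw [he] at he1
        have := inv_mul_eq_one.mp he1
        exact this.symm
      have hinj : Function.Injective (fun ai : Bool × Fin r =>
          conjWt M (x ^ (ai.2 : ℕ)) (if ai.1 then conjWt M (t : Γ) χ else conjWt M (t : Γ)⁻¹ χ)) := by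
        rintro ⟨a, i⟩ ⟨b, j⟩ hab
        simp only at hab
        cases a <;> cases b
        · simp only [Bool.false_eq_true, if_false] at hab
          obtain ⟨hij, -⟩ := hkey i j _ _ htinv htinv1 (Or.inl rfl) hab
          rw [hij]
        · simp only [Bool.false_eq_true, if_false, if_true] at hab
          obtain ⟨-, h2⟩ := hkey i j _ _ htinv htinv1 (Or.inr (inv_inv _).symm) hab
          exact absurd h2.symm (inv_ne_self_of_odd_pgroup T p hTp hp2 _ htT ht1')
        · simp only [Bool.false_eq_true, if_false, if_true] at hab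
          obtain ⟨-, h2⟩ := hkey i j _ _ htT ht1' (Or.inr rfl) hab
          exact absurd h2 (inv_ne_self_of_odd_pgroup T p hTp hp2 _ htT ht1')
        · simp only [if_true] at hab
          obtain ⟨hij, -⟩ := hkey i j _ _ htT ht1' (Or.inl rfl) hab
          rw [hij]
      have h2 := finrank_inv_ge_two ρ M hcomm x r hr.pos hx (conjWt M (t : Γ) χ)
        (conjWt M (t : Γ)⁻¹ χ) (ρ t v) (ρ (t : Γ)⁻¹ v) (map_mem_wt ρ M _ χ v hv)
        (rho_ne_zero ρ _ hv0) (map_mem_wt ρ M _ χ v hv) (rho_ne_zero ρ _ hv0) hinj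
      omega
    · apply hnoT χ hχ
      intro t ht
      have : t ∈ T ⊓ wstab M χ := by rw [hS]; exact ht
      exact (Subgroup.mem_inf.mp this).2
  have hfree : ∀ χ : M → K, wt ρ M χ ≠ ⊥ → ∀ e ∈ Subgroup.zpowers x, e ≠ 1 →
      conjWt M e χ ≠ χ := fun χ hχ e he he1 => free_zpowers ρ M x r hr hx hstep1 e he he1 χ hχ
  have hsame : ∀ χ : M → K, wt ρ M χ ≠ ⊥ → ∀ i j : Fin r,
      conjWt M (x ^ (i : ℕ)) χ = conjWt M (x ^ (j : ℕ)) χ → i = j := by
    intro χ hχ i j hij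
    rw [conjWt_eq_iff] at hij
    by_contra hne
    have he1 : (x ^ (j : ℕ))⁻¹ * x ^ (i : ℕ) ≠ 1 := by
      intro h
      apply hne
      apply hpow_inj
      exact (inv_mul_eq_one.mp h).symm
    exact hfree χ hχ _ (hzp i j) he1 hij
  have hcross : ∀ (χ χ' : M → K) (i j : Fin r),
      conjWt M (x ^ (i : ℕ)) χ' = conjWt M (x ^ (j : ℕ)) χ →
      conjWt M ((x ^ (i : ℕ))⁻¹ * x ^ (j : ℕ)) χ = χ' := by
    intro χ χ' i j h
    have h1 := congrArg (conjWt M (x ^ (i : ℕ))⁻¹) h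
    rw [← conjWt_mul, ← conjWt_mul, inv_mul_cancel, conjWt_one] at h1
    exact h1.symm
  -- step 2: a single orbit
  have horb : ∀ χ' : M → K, wt ρ M χ' ≠ ⊥ →
      ∃ e ∈ Subgroup.zpowers x, conjWt M e χ₀ = χ' := by
    intro χ' hχ'
    by_contra hcon
    push Not at hcon
    obtain ⟨v₀, hv₀, hv₀0⟩ := exists_ne_zero_of_wt_ne_bot ρ M χ₀ hχ₀
    obtain ⟨v', hv', hv'0⟩ := exists_ne_zero_of_wt_ne_bot ρ M χ' hχ'
    have hinj : Function.Injective (fun ai : Bool × Fin r =>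
        conjWt M (x ^ (ai.2 : ℕ)) (if ai.1 then χ₀ else χ')) := by
      rintro ⟨a, i⟩ ⟨b, j⟩ hab
      simp only at hab
      cases a <;> cases b
      · simp only [Bool.false_eq_true, if_false] at hab
        rw [hsame χ' hχ' i j hab]
      · simp only [Bool.false_eq_true, if_false, if_true] at hab
        exact absurd (hcross χ₀ χ' i j hab) (hcon _ (hzp j i))
      · simp only [Bool.false_eq_true, if_false, if_true] at hab
        exact absurd (hcross χ₀ χ' j i hab.symm) (hcon _ (hzp i j))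
      · simp only [if_true] at hab
        rw [hsame χ₀ hχ₀ i j hab]
    have h2 := finrank_inv_ge_two ρ M hcomm x r hr.pos hx χ₀ χ' v₀ v' hv₀ hv₀0 hv' hv'0 hinj
    omega
  -- step 3: `T` has a fixed weight
  let act : MulAction T {χ : M → K // wt ρ M χ ≠ ⊥} :=
    { smul := fun t χ => ⟨conjWt M (t : Γ) χ.1, wt_ne_bot_conj ρ M t χ.1 χ.2⟩
      one_smul := fun χ => Subtype.ext (conjWt_one M χ.1)
      mul_smul := fun a b χ => Subtype.ext (conjWt_mul M a b χ.1) }
  have hcard : Nat.card {χ : M → K // wt ρ M χ ≠ ⊥} = r := by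
    rw [← hord, ← Nat.card_zpowers x]
    symm
    apply Nat.card_congr
    refine Equiv.ofBijective
      (fun e : Subgroup.zpowers x => (⟨conjWt M (e : Γ) χ₀, wt_ne_bot_conj ρ M e χ₀ hχ₀⟩ :
        {χ : M → K // wt ρ M χ ≠ ⊥})) ⟨?_, ?_⟩
    · intro e e' hee
      have h1 : conjWt M (e : Γ) χ₀ = conjWt M (e' : Γ) χ₀ := congrArg Subtype.val hee
      rw [conjWt_eq_iff] at h1
      by_contra hne
      have he1 : (e' : Γ)⁻¹ * e ≠ 1 := by
        intro h
        apply hne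
        apply Subtype.ext
        exact (inv_mul_eq_one.mp h).symm
      exact hfree χ₀ hχ₀ _ (Subgroup.mul_mem _ (Subgroup.inv_mem _ e'.2) e.2) he1 h1
    · rintro ⟨χ', hχ'⟩
      obtain ⟨e, he, hee⟩ := horb χ' hχ'
      exact ⟨⟨e, he⟩, Subtype.ext hee⟩
  have hnd : ¬ p ∣ Nat.card {χ : M → K // wt ρ M χ ≠ ⊥} := by
    rw [hcard]
    intro h
    exact hpr ((Nat.prime_dvd_prime_iff_eq hp.out hr).mp h)
  obtain ⟨χ₁, hχ₁⟩ := hTp.nonempty_fixed_point_of_prime_not_dvd_card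
    {χ : M → K // wt ρ M χ ≠ ⊥} hnd
  apply hnoT χ₁.1 χ₁.2
  intro t ht
  have := hχ₁ ⟨t, ht⟩
  exact congrArg Subtype.val this

end we

end Cfsg.Agent.Lib.Helper4.ZP
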