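import Mathlib
import Cfsg.Agent.Lib.Helper4.ZP7
import Cfsg.Agent.Lib.Helper4.FM10

set_option autoImplicit false

/-! The endgame for actions on elementary abelian groups. -/

namespace Cfsg.Agent.Lib.Helper4.ZP

open Module Cfsg.Agent.Lib.Helper4.FM Cfsg.Agent.Lib.Helper4.HH Cfsg.Agent.Lib.Lead
open scoped commutatorElement TensorProduct

section act

universe u v

variable {A : Type u} [Group A] [Finite A] {V : Type v} [CommGroup V] [Finite V] [Nontrivial V]
  [MulDistribMulAction A V] (p : ℕ) [hp : Fact p.Prime] [Module (ZMod p) (Additive V)]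

theorem weights_endgame_act_aux (M T : Subgroup A) [hMn : M.Normal] (x : A) (r : ℕ)
    (hr : r.Prime) (hr2 : r ≠ 2) (hpr : p ≠ r) (hp2 : p ≠ 2) (hx : x ^ r = 1)
    (hMcomm : ∀ a b : M, a * b = b * a) (hMp : ¬ p ∣ Nat.card M)
    (hfixM : ∀ v : V, (∀ m ∈ M, m • v = v) → v = 1)
    (hfixx : Nat.card (fixS (V := V) (Subgroup.zpowers x)) ≤ p)
    (hxT : ∀ t ∈ T, x * t * x⁻¹ ∈ T) (hfix : ∀ t ∈ T, x * t = t * x → t = 1)
    (hTmin : ∀ S : Subgroup A, S ≤ T → (∀ s ∈ S, x * s * x⁻¹ ∈ S) → S = ⊥ ∨ S = T)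
    (hT1 : T ≠ ⊥) (hTp : IsPGroup p T) (hMT : M ≤ ⁅M, T⁆) : False := by
  set ρ₀ : Representation (ZMod p) A (Additive V) := ExtAct.addRep (A := A) (V := V) p with hρ₀
  set ρ := bc (AlgebraicClosure (ZMod p)) ρ₀ with hρ
  have hMK0 : (Nat.card M : ZMod p) ≠ 0 := cast_ne_zero_of_not_dvd p _ hMp
  have hrp : ¬ p ∣ r := by
    intro h
    exact hpr ((Nat.prime_dvd_prime_iff_eq hp.out hr).mp h)
  have hxcard : Nat.card (Subgroup.zpowers x) ∣ r := by
    rw [Nat.card_zpowers]
    exact orderOf_dvd_of_pow_eq_one hx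
  have hxK0 : (Nat.card (Subgroup.zpowers x) : ZMod p) ≠ 0 := by
    apply cast_ne_zero_of_not_dvd
    intro h
    exact hrp (h.trans hxcard)
  haveI : Nontrivial (Additive V) := inferInstanceAs (Nontrivial V)
  haveI : Finite (Additive V) := inferInstanceAs (Finite V)
  haveI : Module.Finite (ZMod p) (Additive V) := Module.Finite.of_finite
  have hpos : 0 < finrank (ZMod p) (Additive V) := Module.finrank_pos
  haveI : Nontrivial ((AlgebraicClosure (ZMod p)) ⊗[ZMod p] Additive V) := by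
    apply Module.nontrivial_of_finrank_pos (R := AlgebraicClosure (ZMod p))
    rw [finrank_bc]
    exact hpos
  apply weights_endgame ρ M ?_ ?_ ?_ T x r hr hr2 hx ?_ hxT hfix hTmin hT1 p hTp hpr hp2 hMT
  · intro a b
    show ρ (a : A) * ρ (b : A) = ρ (b : A) * ρ (a : A)
    rw [← map_mul, ← map_mul]
    have := congrArg Subtype.val (hMcomm a b)
    rw [Subgroup.coe_mul, Subgroup.coe_mul] at this
    rw [this]
  · exact cast_card_ne_zero_bc _ _ hMK0
  · rw [hρ, inv_bc _ ρ₀ M hMK0]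
    have h1 : inv ρ₀ M = ⊥ := by
      rw [eq_bot_iff]
      intro v hv
      rw [Submodule.mem_bot]
      have h2 := hfixM (Additive.toMul v) (by
        intro m hm
        have := hv m hm
        rw [hρ₀, ExtAct.addRep_apply] at this
        exact congrArg Additive.toMul this)
      exact congrArg Additive.ofMul h2
    rw [h1, Submodule.baseChange_bot]
  · rw [hρ, finrank_inv_bc _ ρ₀ _ hxK0]
    have h1 := card_inv_addRep (A := A) (V := V) p (Subgroup.zpowers x)
    rw [h1] at hfixx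
    by_contra hlt
    push Not at hlt
    have h2 : p ^ 2 ≤ p ^ finrank (ZMod p) (inv (ExtAct.addRep (A := A) (V := V) p)
        (Subgroup.zpowers x)) := Nat.pow_le_pow_right hp.out.pos hlt
    have h3 : p < p ^ 2 := by
      have := hp.out.one_lt
      nlinarith
    omega

end act

section act2

universe u v

variable {A : Type u} [Group A] [Finite A] {V : Type v} [Group V] [Finite V] [Nontrivial V]
  [MulDistribMulAction A V] (p : ℕ) [hp : Fact p.Prime]

theorem weights_endgame_act (hcomm : ∀ a b : V, a * b = b * a) (hexp : ∀ a : V, a ^ p = 1)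
    (M T : Subgroup A) [hMn : M.Normal] (x : A) (r : ℕ)
    (hr : r.Prime) (hr2 : r ≠ 2) (hpr : p ≠ r) (hp2 : p ≠ 2) (hx : x ^ r = 1)
    (hMcomm : ∀ a b : M, a * b = b * a) (hMp : ¬ p ∣ Nat.card M)
    (hfixM : ∀ v : V, (∀ m ∈ M, m • v = v) → v = 1)
    (hfixx : Nat.card (fixS (V := V) (Subgroup.zpowers x)) ≤ p)
    (hxT : ∀ t ∈ T, x * t * x⁻¹ ∈ T) (hfix : ∀ t ∈ T, x * t = t * x → t = 1)
    (hTmin : ∀ S : Subgroup A, S ≤ T → (∀ s ∈ S, x * s * x⁻¹ ∈ S) → S = ⊥ ∨ S = T)
    (hT1 : T ≠ ⊥) (hTp : IsPGroup p T) (hMT : M ≤ ⁅M, T⁆) : False := by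
  let iC : CommGroup V := { (inferInstance : Group V) with mul_comm := hcomm }
  let iM : Module (ZMod p) (Additive V) := @AddCommGroup.zmodModule p (Additive V) _ (by
    intro x
    show Additive.ofMul (Additive.toMul x ^ p) = 0
    rw [hexp]; rfl)
  exact @weights_endgame_act_aux A _ _ V iC _ _ _ p hp iM M T hMn x r hr hr2 hpr hp2 hx hMcomm hMp
    hfixM hfixx hxT hfix hTmin hT1 hTp hMT

end act2

end Cfsg.Agent.Lib.Helper4.ZP
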