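import Mathlib
import Cfsg.Agent.Lib.Helper4.ZP8

set_option autoImplicit false

/-! The endgame for subgroups of a finite group. -/

namespace Cfsg.Agent.Lib.Helper4.ZP

open Module Cfsg.Agent.Lib.Helper4.FM Cfsg.Agent.Lib.Helper4.HH Cfsg.Agent.Lib.Lead
open scoped commutatorElement

section grp

universe u

variable {G : Type u} [Group G] [Finite G]

theorem weights_endgame_group (p : ℕ) [hp : Fact p.Prime] (hp2 : p ≠ 2)
    (V Q T : Subgroup G) (x : G) (r : ℕ) (hr : r.Prime) (hr2 : r ≠ 2) (hpr : p ≠ r)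
    (hx : x ^ r = 1)
    (hVcomm : ∀ a ∈ V, ∀ b ∈ V, a * b = b * a) (hVexp : ∀ a ∈ V, a ^ p = 1) (hV1 : V ≠ ⊥)
    (hQV : Q ≤ Subgroup.normalizer (V : Set G)) (hTV : T ≤ Subgroup.normalizer (V : Set G))
    (hxV : x ∈ Subgroup.normalizer (V : Set G))
    (hQcomm : ∀ a ∈ Q, ∀ b ∈ Q, a * b = b * a) (hQp : (Nat.card Q).Coprime p)
    (hTQ : T ≤ Subgroup.normalizer (Q : Set G)) (hxQ : x ∈ Subgroup.normalizer (Q : Set G))
    (hCVQ : V ⊓ Subgroup.centralizer (Q : Set G) = ⊥)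
    (hCVx : Nat.card ↥(V ⊓ Subgroup.centralizer ((Subgroup.zpowers x : Subgroup G) : Set G)) ≤ p)
    (hxT : ∀ t ∈ T, x * t * x⁻¹ ∈ T) (hfix : ∀ t ∈ T, x * t = t * x → t = 1)
    (hTmin : ∀ S : Subgroup G, S ≤ T → (∀ s ∈ S, x * s * x⁻¹ ∈ S) → S = ⊥ ∨ S = T)
    (hT1 : T ≠ ⊥) (hTp : IsPGroup p T) (hQT : Q ≤ ⁅Q, T⁆) : False := by
  set Γ₀ : Subgroup G := Subgroup.normalizer (Q : Set G) ⊓ Subgroup.normalizer (V : Set G) with hΓ₀
  have hQΓ : Q ≤ Γ₀ := le_inf Subgroup.le_normalizer hQV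
  have hTΓ : T ≤ Γ₀ := le_inf hTQ hTV
  have hxΓ : x ∈ Γ₀ := Subgroup.mem_inf.mpr ⟨hxQ, hxV⟩
  have hΓV : ∀ f ∈ Γ₀, ∀ v ∈ V, f * v * f⁻¹ ∈ V := by
    intro f hf v hv
    exact (Subgroup.mem_normalizer_iff.mp (Subgroup.mem_inf.mp hf).2 v).mp hv
  letI := conjAct Γ₀ V hΓV
  have hsmul : ∀ (g : Γ₀) (v : V), ((g • v : V) : G) = (g : G) * (v : G) * (g : G)⁻¹ :=
    fun g v => rfl
  haveI hMn : (Q.subgroupOf Γ₀).Normal :=
    Subgroup.normal_subgroupOf_of_le_normalizer inf_le_left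
  haveI : Nontrivial ↥V := (Subgroup.nontrivial_iff_ne_bot V).mpr hV1
  have hcomm : ∀ a b : ↥V, a * b = b * a := fun a b => Subtype.ext (hVcomm a a.2 b b.2)
  have hexp : ∀ a : ↥V, a ^ p = 1 := by
    intro a
    apply Subtype.ext
    rw [Subgroup.coe_pow]
    exact hVexp _ a.2
  have hxpow : ∀ i : ℤ, ((⟨x, hxΓ⟩ : Γ₀) ^ i : Γ₀) = ⟨x ^ i, Γ₀.zpow_mem hxΓ i⟩ := by
    intro i
    apply Subtype.ext
    rw [Subgroup.coe_zpow]
  apply weights_endgame_act (A := ↥Γ₀) (V := ↥V) p hcomm hexp (Q.subgroupOf Γ₀)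
    (T.subgroupOf Γ₀) ⟨x, hxΓ⟩ r hr hr2 hpr hp2
  · apply Subtype.ext
    rw [Subgroup.coe_pow]
    exact hx
  · intro a b
    apply Subtype.ext
    apply Subtype.ext
    exact hQcomm _ a.2 _ b.2
  · rw [Cfsg.Agent.Lib.Lead.card_subgroupOf_of_le hQΓ]
    intro h
    have := Nat.Coprime.eq_one_of_dvd hQp.symm h
    exact hp.out.one_lt.ne' this
  · intro v hv
    have h1 : (v : G) ∈ V ⊓ Subgroup.centralizer (Q : Set G) := by
      refine Subgroup.mem_inf.mpr ⟨v.2, ?_⟩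
      rw [Subgroup.mem_centralizer_iff]
      intro q hq
      have h2 := hv ⟨q, hQΓ hq⟩ (by
        show (⟨q, hQΓ hq⟩ : Γ₀) ∈ Q.subgroupOf Γ₀
        exact hq)
      have h3 := congrArg Subtype.val h2
      rw [hsmul] at h3
      calc q * (v : G) = q * (v : G) * q⁻¹ * q := by group
        _ = (v : G) * q := by rw [h3]
    rw [hCVQ, Subgroup.mem_bot] at h1
    exact Subtype.ext h1
  · refine le_trans ?_ hCVx
    apply Nat.card_le_card_of_injective
      (fun v : fixS (V := ↥V) (Subgroup.zpowers (⟨x, hxΓ⟩ : Γ₀)) =>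
        (⟨((v : V) : G), by
          refine Subgroup.mem_inf.mpr ⟨(v : V).2, ?_⟩
          rw [Subgroup.mem_centralizer_iff]
          intro e he
          obtain ⟨i, rfl⟩ := Subgroup.mem_zpowers_iff.mp he
          have h2 := v.2 (⟨x, hxΓ⟩ ^ i) (Subgroup.zpow_mem _ (Subgroup.mem_zpowers _) i)
          have h3 := congrArg Subtype.val h2
          rw [hsmul, hxpow] at h3
          simp only at h3
          calc x ^ i * ((v : V) : G) = x ^ i * ((v : V) : G) * (x ^ i)⁻¹ * x ^ i := by group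
            _ = ((v : V) : G) * x ^ i := by rw [h3]⟩ :
          ↥(V ⊓ Subgroup.centralizer ((Subgroup.zpowers x : Subgroup G) : Set G))))
    intro a b hab
    have := congrArg Subtype.val hab
    exact Subtype.ext (Subtype.ext this)
  · intro t ht
    rw [Subgroup.mem_subgroupOf] at ht ⊢
    exact hxT _ ht
  · intro t ht htx
    rw [Subgroup.mem_subgroupOf] at ht
    apply Subtype.ext
    apply hfix _ ht
    have := congrArg Subtype.val htx
    exact this
  · intro S hS hSx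
    have h1 := hTmin (S.map Γ₀.subtype) (by
      rintro _ ⟨s, hs, rfl⟩
      exact hS hs) (by
      rintro _ ⟨s, hs, rfl⟩
      exact ⟨_, hSx s hs, rfl⟩)
    rcases h1 with h1 | h1
    · left
      rw [eq_bot_iff]
      intro s hs
      have : (s : G) ∈ S.map Γ₀.subtype := ⟨s, hs, rfl⟩
      rw [h1, Subgroup.mem_bot] at this
      rw [Subgroup.mem_bot]
      exact Subtype.ext this
    · right
      apply le_antisymm hS
      intro t ht
      rw [Subgroup.mem_subgroupOf, ← h1] at ht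
      obtain ⟨s, hs, hst⟩ := ht
      have : s = t := Subtype.ext hst
      rw [← this]
      exact hs
  · intro h
    apply hT1
    rw [eq_bot_iff]
    intro t ht
    have : (⟨t, hTΓ ht⟩ : Γ₀) ∈ T.subgroupOf Γ₀ := ht
    rw [h, Subgroup.mem_bot] at this
    rw [Subgroup.mem_bot]
    exact congrArg Subtype.val this
  · exact hTp.comap_subtype
  · intro m hm
    rw [Subgroup.mem_subgroupOf] at hm
    have h1 : (m : G) ∈ ⁅Q, T⁆ := hQT hm
    have h2 : (⁅Q.subgroupOf Γ₀, T.subgroupOf Γ₀⁆).map Γ₀.subtype = ⁅Q, T⁆ := by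
      rw [Subgroup.map_commutator, Subgroup.map_subgroupOf_eq_of_le hQΓ,
        Subgroup.map_subgroupOf_eq_of_le hTΓ]
    rw [← h2] at h1
    obtain ⟨y, hy, hym⟩ := h1
    have : y = m := Subtype.ext hym
    rw [← this]
    exact hy

end grp

end Cfsg.Agent.Lib.Helper4.ZP
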