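import Mathlib
import Cfsg.Agent.Lib.Helper4.ZP17
import Cfsg.Agent.Lib.Helper4.ZP9
import Cfsg.Agent.Lib.Lead.Coprime

set_option autoImplicit false

/-! Case B2: the abelian case. -/

namespace Cfsg.Agent.Lib.Helper4.ZP

open Cfsg
open scoped commutatorElement

universe u

section g0

variable {G : Type u} [Group G] [Finite G]

theorem card_le_of_cyclic_exp (W : Subgroup G) [hW : IsCyclic ↥W] (m : ℕ) (hm : 0 < m)
    (h : ∀ a ∈ W, a ^ m = 1) : Nat.card W ≤ m := by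
  obtain ⟨g, hg⟩ := hW.exists_generator
  have h1 : orderOf g = Nat.card W := orderOf_eq_card_of_forall_mem_zpowers hg
  have h2 : g ^ m = 1 := by
    apply Subtype.ext
    rw [Subgroup.coe_pow]
    exact h _ g.2
  rw [← h1]
  exact Nat.le_of_dvd hm (orderOf_dvd_of_pow_eq_one h2)

end g0

section g1

variable {G : Type u} [Group G] [Finite G] {p : ℕ} [hp : Fact p.Prime]
  {H R U N X T : Subgroup G}

theorem B2Cfg.p_dvd_card_U (b : B2Cfg p H R U N X T) : p ∣ Nat.card U := by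
  obtain ⟨k, hk⟩ := b.toSplitCfg.card_U
  rw [hk]
  apply dvd_pow_self
  intro h0
  rw [h0, pow_zero] at hk
  exact b.hU1 (Subgroup.card_eq_one.mp hk)

theorem B2Cfg.p_ne_two (b : B2Cfg p H R U N X T) : p ≠ 2 := by
  intro h2
  have h1 : p ∣ Nat.card G := b.p_dvd_card_U.trans (Subgroup.card_subgroup_dvd_card U)
  rw [h2] at h1
  exact (Nat.not_even_iff_odd.mpr b.hodd) (even_iff_two_dvd.mpr h1)

theorem B2Cfg.r_ne_two (b : B2Cfg p H R U N X T) : Nat.card R ≠ 2 := by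
  intro h2
  have h1 : Nat.card R ∣ Nat.card G := Subgroup.card_subgroup_dvd_card R
  rw [h2] at h1
  exact (Nat.not_even_iff_odd.mpr b.hodd) (even_iff_two_dvd.mpr h1)

theorem B2Cfg.p_ne_r (b : B2Cfg p H R U N X T) : p ≠ Nat.card R := by
  intro h
  have h1 : p ∣ Nat.card H := b.p_dvd_card_U.trans (Subgroup.card_dvd_of_le b.hUH)
  have h2 : p ∣ Nat.card R := by rw [← h]
  have := Nat.eq_one_of_dvd_coprimes b.hcop h1 h2
  exact hp.out.one_lt.ne' this

/-- `C_U(R)` has order at most `p`. -/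
theorem B2Cfg.card_CU_le (b : B2Cfg p H R U N X T) :
    Nat.card ↥(U ⊓ Subgroup.centralizer (R : Set G)) ≤ p := by
  have c := b.toSplitCfg
  set W := U ⊓ Subgroup.centralizer (R : Set G) with hW
  set C := H ⊓ Subgroup.centralizer (R : Set G) with hC
  have hWC : W ≤ C := inf_le_inf_right _ c.hUH
  have hWp : IsPGroup p ↥W := c.isPGroup_U.to_le inf_le_left
  have hP' : IsPGroup p ↥(W.subgroupOf C) := hWp.comap_subtype
  haveI := b.hZ
  haveI hcyc' : IsCyclic ↥(W.subgroupOf C) := hP'.isCyclic_of_isZGroup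
  haveI hcyc : IsCyclic ↥W :=
    isCyclic_of_surjective (Subgroup.subgroupOfEquivOfLe hWC).toMonoidHom
      (Subgroup.subgroupOfEquivOfLe hWC).surjective
  exact card_le_of_cyclic_exp W p hp.out.pos (fun a ha => c.hUexp a (Subgroup.mem_inf.mp ha).1)

theorem B2Cfg.comm_UQ_ne_bot (b : B2Cfg p H R U N X T) (Q : Subgroup G) (hQX : Q ≤ X)
    (hQ1 : Q ≠ ⊥) : ⁅U, Q⁆ ≠ ⊥ := by
  intro h
  apply hQ1
  apply b.toSplitCfg.eq_bot_of_le_centralizer_comm Q hQX
  rw [h]
  intro a _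
  rw [Subgroup.mem_centralizer_iff]
  intro y hy
  have : y = 1 := hy
  rw [this, one_mul, mul_one]

theorem B2Cfg.le_normalizer_comm_U (b : B2Cfg p H R U N X T) (K Q : Subgroup G)
    (hKQ : K ≤ Subgroup.normalizer (Q : Set G)) :
    K ≤ Subgroup.normalizer ((⁅U, Q⁆ : Subgroup G) : Set G) :=
  le_trans (le_inf (b.toSplitCfg.le_normalizer_U K) hKQ)
    (Cfsg.Agent.Lib.Lead.normalizer_inf_le_normalizer_commutator U Q)

theorem B2Cfg.comm_UQ_inf_centralizer (b : B2Cfg p H R U N X T) (Q : Subgroup G) (hQX : Q ≤ X) :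
    ⁅U, Q⁆ ⊓ Subgroup.centralizer (Q : Set G) = ⊥ := by
  have c := b.toSplitCfg
  haveI : IsMulCommutative ↥U := ⟨⟨fun a b' => Subtype.ext (c.hUcomm a a.2 b' b'.2)⟩⟩
  have h1 := (Cfsg.Agent.Lib.Lead.coprime_abelian_decomp Q U (c.le_normalizer_U Q)
    (c.coprime_card_U Q hQX)).1
  haveI := c.hUn
  rw [eq_bot_iff, ← h1]
  exact le_inf (le_inf (inf_le_left.trans (Subgroup.commutator_le_left U Q)) inf_le_right)
    inf_le_left

/-- the abelian case is impossible. -/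
theorem B2Cfg.false_of_comm (b : B2Cfg p H R U N X T)
    (hXab : ∀ a ∈ X, ∀ y ∈ X, a * y = y * a) : False := by
  have c := b.toSplitCfg
  haveI := c.hUn
  obtain ⟨x, hxR, hx1, hxr, hxgen⟩ :=
    Cfsg.Agent.Lib.Helper4.HH.exists_gen_of_prime_card R _ b.hRp rfl
  have hVU : ⁅U, X⁆ ≤ U := Subgroup.commutator_le_left U X
  have hTX : T ≤ Subgroup.normalizer (X : Set G) := c.hTN.trans c.hNX
  apply weights_endgame_group p b.p_ne_two ⁅U, X⁆ X T x (Nat.card R) b.hRp b.r_ne_two b.p_ne_r hxr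
    (fun a ha y hy => c.hUcomm a (hVU ha) y (hVU hy)) (fun a ha => c.hUexp a (hVU ha))
    (b.comm_UQ_ne_bot X le_rfl b.X_ne_bot)
    (b.le_normalizer_comm_U X X Subgroup.le_normalizer)
    (b.le_normalizer_comm_U T X hTX)
    (b.le_normalizer_comm_U R X c.hRX hxR)
    hXab c.hXp hTX (c.hRX hxR) (b.comm_UQ_inf_centralizer X le_rfl)
  · rw [hxgen]
    refine le_trans ?_ b.card_CU_le
    exact Nat.le_of_dvd Nat.card_pos (Subgroup.card_dvd_of_le (inf_le_inf_right _ hVU))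
  · intro t ht
    exact (Subgroup.mem_normalizer_iff.mp (c.hRT hxR) t).mp ht
  · intro t ht hxt
    have h1 : t ∈ Subgroup.centralizer ((Subgroup.zpowers x : Subgroup G) : Set G) :=
      (Cfsg.Agent.Lib.Helper4.HH.mem_centralizer_zpowers_iff t x).mpr hxt
    rw [hxgen] at h1
    have h2 : t ∈ T ⊓ Subgroup.centralizer (R : Set G) := Subgroup.mem_inf.mpr ⟨ht, h1⟩
    rw [b.hTR, Subgroup.mem_bot] at h2
    exact h2
  · intro S hST hS
    apply b.T_min S hST
    rw [← hxgen, Subgroup.zpowers_le]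
    exact mem_normalizer_of_conj_mem S x hS
  · exact b.T_ne_bot
  · exact c.hTp
  · rw [b.X_eq_comm]

end g1

end Cfsg.Agent.Lib.Helper4.ZP
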