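import Mathlib
import Cfsg.Agent.Lib.Helper4.ZP18
import Cfsg.Agent.Lib.Helper4.ZP19
import Cfsg.Agent.S1545

set_option autoImplicit false

/-! Case B2: the nonabelian case, first part. -/

namespace Cfsg.Agent.Lib.Helper4.ZP

open Cfsg
open scoped commutatorElement

universe u

section g1

variable {G : Type u} [Group G] [Finite G] {p : ℕ} [hp : Fact p.Prime]
  {H R U N X T : Subgroup G}

theorem B2Cfg.R_ne_bot (b : B2Cfg p H R U N X T) : R ≠ ⊥ := by
  intro h
  have := b.hRp
  rw [h, Subgroup.card_bot] at this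
  exact Nat.not_prime_one this

/-- `T` centralises the centre of `X` when `X` is nonabelian. -/
theorem B2Cfg.comm_ZT (b : B2Cfg p H R U N X T)
    (hnab : ¬ ∀ a ∈ X, ∀ y ∈ X, a * y = y * a) :
    ⁅X ⊓ Subgroup.centralizer (X : Set G), T⁆ = ⊥ := by
  have c := b.toSplitCfg
  have hn : Subgroup.normalizer (X : Set G) ≤
      Subgroup.normalizer ((X ⊓ Subgroup.centralizer (X : Set G) : Subgroup G) : Set G) :=
    le_trans (le_inf le_rfl (Cfsg.Agent.Lib.Lead.normalizer_le_normalizer_centralizer X))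
      Subgroup.inf_normalizer_le_normalizer_inf
  by_contra h
  have h1 := (b.tight_eq _ T inf_le_left le_rfl ((c.hTN.trans c.hNX).trans hn) (c.hRX.trans hn)
    c.hRT h).1
  apply hnab
  intro a ha y hy
  have h2 : a ∈ X ⊓ Subgroup.centralizer (X : Set G) := by rw [h1]; exact ha
  exact (Subgroup.mem_centralizer_iff.mp (Subgroup.mem_inf.mp h2).2 y hy).symm

/-- `T` centralises the derived subgroup of `X`. -/
theorem B2Cfg.comm_X'T (b : B2Cfg p H R U N X T) (q : ℕ) [hq : Fact q.Prime]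
    (hXq : IsPGroup q X) : ⁅⁅X, X⁆, T⁆ = ⊥ := by
  have c := b.toSplitCfg
  have hn : Subgroup.normalizer (X : Set G) ≤
      Subgroup.normalizer ((⁅X, X⁆ : Subgroup G) : Set G) :=
    le_trans (le_inf le_rfl le_rfl)
      (Cfsg.Agent.Lib.Lead.normalizer_inf_le_normalizer_commutator X X)
  have hle : ⁅X, X⁆ ≤ X :=
    Cfsg.Agent.Lib.Lead.commutator_le_left_of_le_normalizer X X Subgroup.le_normalizer
  by_contra h
  have h1 := (b.tight_eq _ T hle le_rfl ((c.hTN.trans c.hNX).trans hn) (c.hRX.trans hn)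
    c.hRT h).1
  haveI : Group.IsNilpotent ↥X := hXq.isNilpotent
  apply b.X_ne_bot
  exact Cfsg.Agent.Lib.Lead.eq_bot_of_le_commutator_nilpotent X X le_rfl (by rw [h1])

/-- `X` has class at most two. -/
theorem B2Cfg.X'_le (b : B2Cfg p H R U N X T) (q : ℕ) [hq : Fact q.Prime]
    (hXq : IsPGroup q X) : ⁅X, X⁆ ≤ Subgroup.centralizer (X : Set G) := by
  have h0 := b.comm_X'T q hXq
  have h1 : ⁅⁅T, ⁅X, X⁆⁆, X⁆ = ⊥ := by
    rw [Subgroup.commutator_comm T, h0, Subgroup.commutator_bot_left]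
  have h2 : ⁅⁅⁅X, X⁆, X⁆, T⁆ = ⊥ := by
    rw [eq_bot_iff, ← h0]
    apply Subgroup.commutator_mono _ le_rfl
    apply Cfsg.Agent.Lib.Lead.commutator_le_left_of_le_normalizer
    exact le_trans (le_inf Subgroup.le_normalizer Subgroup.le_normalizer)
      (Cfsg.Agent.Lib.Lead.normalizer_inf_le_normalizer_commutator X X)
  have h3 := Subgroup.commutator_commutator_eq_bot_of_rotate h1 h2
  rw [b.X_eq_comm, Subgroup.commutator_comm] at h3
  exact Subgroup.commutator_eq_bot_iff_le_centralizer.mp h3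

theorem B2Cfg.X'_le_centralizer_T (b : B2Cfg p H R U N X T) (q : ℕ) [hq : Fact q.Prime]
    (hXq : IsPGroup q X) : ⁅X, X⁆ ≤ Subgroup.centralizer (T : Set G) :=
  Subgroup.commutator_eq_bot_iff_le_centralizer.mp (b.comm_X'T q hXq)

/-- the Frobenius group `T R` acting on `X` has a fixed point of `R` outside the centre. -/
theorem B2Cfg.exists_noncentral (b : B2Cfg p H R U N X T)
    (hnab : ¬ ∀ a ∈ X, ∀ y ∈ X, a * y = y * a) :
    ∃ c ∈ X ⊓ Subgroup.centralizer (R : Set G), c ∉ Subgroup.centralizer (X : Set G) := by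
  have c := b.toSplitCfg
  by_contra hcon
  push Not at hcon
  have hTR0 : T ⊓ R = ⊥ :=
    (Subgroup.disjoint_of_coprime_natCard (b.coprime_R T (c.hTN.trans c.hNH)).symm).eq_bot
  have hform := Cfsg.Agent.S1545.result T R X b.T_ne_bot b.R_ne_bot hTR0
    (fun e he t ht => (Subgroup.mem_normalizer_iff.mp (c.hRT he) t).mp ht)
    (by
      intro e he he1 t ht het
      have h1 := zpowers_eq_of_prime_card R b.hRp e he he1
      have h2 : t ∈ Subgroup.centralizer ((Subgroup.zpowers e : Subgroup G) : Set G) :=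
        (Cfsg.Agent.Lib.Helper4.HH.mem_centralizer_zpowers_iff t e).mpr het
      rw [h1] at h2
      have h3 : t ∈ T ⊓ Subgroup.centralizer (R : Set G) := Subgroup.mem_inf.mpr ⟨ht, h2⟩
      rw [b.hTR, Subgroup.mem_bot] at h3
      exact h3)
    (by
      intro y hy a ha
      have hy' : y ∈ Subgroup.normalizer (X : Set G) :=
        (sup_le (c.hTN.trans c.hNX) c.hRX) hy
      exact (Subgroup.mem_normalizer_iff.mp hy' a).mp ha)
    ((Subgroup.disjoint_of_coprime_natCard b.coprime_TR_X.symm).eq_bot)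
    (b.isSolvable X) b.coprime_TR_X.symm
  have hZT : X ⊓ Subgroup.centralizer (X : Set G) ≤ Subgroup.centralizer (T : Set G) :=
    Subgroup.commutator_eq_bot_iff_le_centralizer.mp (b.comm_ZT hnab)
  have heq : X ⊓ Subgroup.centralizer ((T ⊔ R : Subgroup G) : Set G) =
      X ⊓ Subgroup.centralizer (R : Set G) := by
    apply le_antisymm
    · apply inf_le_inf_left
      apply Subgroup.centralizer_le
      exact (le_sup_right : R ≤ T ⊔ R)
    · intro y hy
      have hyX := (Subgroup.mem_inf.mp hy).1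
      have hyC := hcon y hy
      exact Subgroup.mem_inf.mpr ⟨hyX, mem_centralizer_sup
        (hZT (Subgroup.mem_inf.mpr ⟨hyX, hyC⟩)) (Subgroup.mem_inf.mp hy).2⟩
  rw [heq] at hform
  have hpos : 0 < Nat.card ↥(X ⊓ Subgroup.centralizer (R : Set G)) ^ Nat.card R :=
    pow_pos Nat.card_pos _
  have h1 : Nat.card X = Nat.card ↥(X ⊓ Subgroup.centralizer (T : Set G)) :=
    Nat.eq_of_mul_eq_mul_left hpos hform
  have h2 : X ⊓ Subgroup.centralizer (T : Set G) = X :=
    Subgroup.eq_of_le_of_card_ge inf_le_left h1.le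
  apply b.hne
  rw [Subgroup.commutator_eq_bot_iff_le_centralizer, ← h2]
  exact inf_le_right

/-- `C_X(R)` is abelian. -/
theorem B2Cfg.CXR_comm (b : B2Cfg p H R U N X T) (q : ℕ) [hq : Fact q.Prime]
    (hXq : IsPGroup q X) : ∀ a ∈ X ⊓ Subgroup.centralizer (R : Set G),
    ∀ y ∈ X ⊓ Subgroup.centralizer (R : Set G), a * y = y * a := by
  have c := b.toSplitCfg
  set W := X ⊓ Subgroup.centralizer (R : Set G) with hW
  set C := H ⊓ Subgroup.centralizer (R : Set G) with hC
  have hWC : W ≤ C := inf_le_inf_right _ (c.hXN.trans c.hNH)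
  have hWp : IsPGroup q ↥W := hXq.to_le inf_le_left
  have hP' : IsPGroup q ↥(W.subgroupOf C) := hWp.comap_subtype
  haveI := b.hZ
  haveI hcyc' : IsCyclic ↥(W.subgroupOf C) := hP'.isCyclic_of_isZGroup
  haveI hcyc : IsCyclic ↥W :=
    isCyclic_of_surjective (Subgroup.subgroupOfEquivOfLe hWC).toMonoidHom
      (Subgroup.subgroupOfEquivOfLe hWC).surjective
  intro a ha y hy
  have := (IsCyclic.isMulCommutative (α := ↥W)).is_comm.comm ⟨a, ha⟩ ⟨y, hy⟩
  exact congrArg Subtype.val this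

end g1

end Cfsg.Agent.Lib.Helper4.ZP
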