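import Mathlib
import Cfsg.Agent.Lib.Helper4.ZP20
import Cfsg.Agent.Lib.Lead.CoprimeAction

set_option autoImplicit false

/-! Case B2: the nonabelian case, the subgroup `D = [c, X]`. -/

namespace Cfsg.Agent.Lib.Helper4.ZP

open Cfsg
open scoped commutatorElement

universe u

section g1

variable {G : Type u} [Group G] [Finite G] {p : ℕ} [hp : Fact p.Prime]
  {H R U N X T : Subgroup G}

theorem conj_comm_eq (y c a : G) (hyc : y * c = c * y) :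
    y * ⁅c, a⁆ * y⁻¹ = ⁅c, y * a * y⁻¹⁆ := by
  have h1 : y * c * y⁻¹ = c := by rw [hyc]; group
  have h2 : y * ⁅c, a⁆ * y⁻¹ = ⁅y * c * y⁻¹, y * a * y⁻¹⁆ := by
    simp only [commutatorElement_def]; group
  rw [h2, h1]

/-- an `R`-invariant subgroup of `X'` on which `R` acts without fixed points. -/
theorem B2Cfg.exists_D (b : B2Cfg p H R U N X T) (q : ℕ) [hq : Fact q.Prime]
    (hXq : IsPGroup q X) (hnab : ¬ ∀ a ∈ X, ∀ y ∈ X, a * y = y * a) :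
    ∃ D : Subgroup G, D ≤ ⁅X, X⁆ ∧ D ≠ ⊥ ∧ R ≤ Subgroup.normalizer (D : Set G) ∧
      D ⊓ Subgroup.centralizer (R : Set G) = ⊥ := by
  have c := b.toSplitCfg
  obtain ⟨c₀, hc₀, hc₀Z⟩ := b.exists_noncentral hnab
  have hc₀X : c₀ ∈ X := (Subgroup.mem_inf.mp hc₀).1
  have hc₀R : ∀ y ∈ R, y * c₀ = c₀ * y :=
    fun y hy => Subgroup.mem_centralizer_iff.mp (Subgroup.mem_inf.mp hc₀).2 y hy
  have hX' := b.X'_le q hXq
  have hcl : ∀ v ∈ X, ∀ d ∈ X, ⁅c₀, v⁆ * d = d * ⁅c₀, v⁆ := by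
    intro v hv d hd
    have h1 : ⁅c₀, v⁆ ∈ Subgroup.centralizer (X : Set G) :=
      hX' (Subgroup.commutator_mem_commutator hc₀X hv)
    exact (Subgroup.mem_centralizer_iff.mp h1 d hd).symm
  set φ := commHom X c₀ hcl with hφ
  have hφ1 : ∀ w : ↥X, φ w = 1 ↔ c₀ * (w : G) = (w : G) * c₀ :=
    fun w => commHom_eq_one_iff X c₀ hcl w
  have hRX' : ∀ y ∈ R, ∀ a ∈ X, y * a * y⁻¹ ∈ X :=
    fun y hy a ha => (Subgroup.mem_normalizer_iff.mp (c.hRX hy) a).mp ha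
  have hφ2 : ∀ (y : G) (hy : y ∈ R) (w : ↥X),
      φ ⟨y * (w : G) * y⁻¹, hRX' y hy w w.2⟩ = y * φ w * y⁻¹ := by
    intro y hy w
    show ⁅c₀, y * (w : G) * y⁻¹⁆ = y * ⁅c₀, (w : G)⁆ * y⁻¹
    rw [conj_comm_eq y c₀ w (hc₀R y hy)]
  refine ⟨φ.range, ?_, ?_, ?_, ?_⟩
  · rintro d ⟨a, rfl⟩
    exact Subgroup.commutator_mem_commutator hc₀X a.2
  · intro hbot
    apply hc₀Z
    rw [Subgroup.mem_centralizer_iff]
    intro a ha
    have h1 : φ ⟨a, ha⟩ ∈ φ.range := ⟨_, rfl⟩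
    rw [hbot, Subgroup.mem_bot, hφ1] at h1
    exact h1.symm
  · apply Cfsg.Agent.Lib.Helper4.FM.le_normalizer_of_forall
    rintro y hy d ⟨a, rfl⟩
    exact ⟨⟨y * (a : G) * y⁻¹, hRX' y hy a a.2⟩, hφ2 y hy a⟩
  · rw [eq_bot_iff]
    rintro d hd
    obtain ⟨⟨a, rfl⟩, hdR⟩ := Subgroup.mem_inf.mp hd
    rw [Subgroup.mem_bot]
    set K₀ : Subgroup G := X ⊓ Subgroup.centralizer ({c₀} : Set G) with hK₀
    have hK₀mem : ∀ v : G, v ∈ K₀ ↔ ∃ hv : v ∈ X, φ ⟨v, hv⟩ = 1 := by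
      intro v
      constructor
      · intro hv
        obtain ⟨hvX, hvc⟩ := Subgroup.mem_inf.mp hv
        refine ⟨hvX, ?_⟩
        rw [hφ1]
        exact (Subgroup.mem_centralizer_singleton_iff.mp hvc).symm
      · rintro ⟨hvX, hv⟩
        rw [hφ1] at hv
        exact Subgroup.mem_inf.mpr ⟨hvX, Subgroup.mem_centralizer_singleton_iff.mpr hv.symm⟩
    have hXK₀ : X ≤ Subgroup.normalizer (K₀ : Set G) := by
      apply Cfsg.Agent.Lib.Helper4.FM.le_normalizer_of_forall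
      intro g hg v hv
      obtain ⟨hvX, hv1⟩ := (hK₀mem v).mp hv
      rw [hK₀mem]
      refine ⟨X.mul_mem (X.mul_mem hg hvX) (X.inv_mem hg), ?_⟩
      have e : (⟨g * v * g⁻¹, X.mul_mem (X.mul_mem hg hvX) (X.inv_mem hg)⟩ : ↥X) =
          ⟨g, hg⟩ * ⟨v, hvX⟩ * ⟨g, hg⟩⁻¹ := rfl
      rw [e, map_mul, map_mul, hv1, mul_one, map_inv, mul_inv_cancel]
    have hRK₀ : R ≤ Subgroup.normalizer (K₀ : Set G) := by
      apply Cfsg.Agent.Lib.Helper4.FM.le_normalizer_of_forall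
      intro y hy v hv
      obtain ⟨hvX, hv1⟩ := (hK₀mem v).mp hv
      rw [hK₀mem]
      refine ⟨hRX' y hy v hvX, ?_⟩
      have := hφ2 y hy ⟨v, hvX⟩
      rw [hv1, mul_one, mul_inv_cancel] at this
      exact this
    have hfix : ∀ y ∈ R, y * (a : G) * y⁻¹ * (a : G)⁻¹ ∈ K₀ := by
      intro y hy
      rw [hK₀mem]
      refine ⟨X.mul_mem (hRX' y hy a a.2) (X.inv_mem a.2), ?_⟩
      have e : (⟨y * (a : G) * y⁻¹ * (a : G)⁻¹,
          X.mul_mem (hRX' y hy a a.2) (X.inv_mem a.2)⟩ : ↥X) =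
          ⟨y * (a : G) * y⁻¹, hRX' y hy a a.2⟩ * a⁻¹ := rfl
      rw [e, map_mul, hφ2 y hy a, map_inv]
      have h1 : y * φ a = φ a * y := Subgroup.mem_centralizer_iff.mp hdR y hy
      rw [h1]
      group
    obtain ⟨c', hc', hac'⟩ := Cfsg.Agent.Lib.Lead.coprime_fixed_coset R X c.hRX
      (b.coprime_R X (c.hXN.trans c.hNH)) (Or.inr (b.isSolvable X)) K₀ inf_le_left hXK₀ hRK₀
      (a : G) a.2 hfix
    obtain ⟨hmem, h1⟩ := (hK₀mem _).mp hac'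
    have hc'X : c' ∈ X := (Subgroup.mem_inf.mp hc').1
    have e : (⟨(a : G)⁻¹ * c', hmem⟩ : ↥X) = a⁻¹ * ⟨c', hc'X⟩ := rfl
    rw [e, map_mul, map_inv, inv_mul_eq_one] at h1
    rw [h1, hφ1]
    exact b.CXR_comm q hXq c₀ hc₀ c' hc'

end g1

end Cfsg.Agent.Lib.Helper4.ZP
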