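import Mathlib
import Cfsg.Agent.Lib.Helper4.ZP21
import Cfsg.Agent.S1446

set_option autoImplicit false

/-! Case B2: the nonabelian case, conclusion. -/

namespace Cfsg.Agent.Lib.Helper4.ZP

open Cfsg
open scoped commutatorElement

universe u

section g1

variable {G : Type u} [Group G] [Finite G] {p : ℕ} [hp : Fact p.Prime]
  {H R U N X T : Subgroup G}

theorem centralizer_singleton_eq (R : Subgroup G) (hRp : (Nat.card R).Prime) (y : G) (hy : y ∈ R)
    (hy1 : y ≠ 1) :
    Subgroup.centralizer ({y} : Set G) = Subgroup.centralizer (R : Set G) := by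
  ext m
  rw [Subgroup.mem_centralizer_singleton_iff, ← zpowers_eq_of_prime_card R hRp y hy hy1,
    Cfsg.Agent.Lib.Helper4.HH.mem_centralizer_zpowers_iff]
  exact eq_comm

/-- the order of a `D R`-module inside `U` on which `D` has no fixed points. -/
theorem B2Cfg.card_M (b : B2Cfg p H R U N X T) (D M : Subgroup G) (hDX : D ≤ X) (hD1 : D ≠ ⊥)
    (hRD : R ≤ Subgroup.normalizer (D : Set G))
    (hDR : D ⊓ Subgroup.centralizer (R : Set G) = ⊥) (hMU : M ≤ U) (hM1 : M ≠ ⊥)
    (hDM : D ≤ Subgroup.normalizer (M : Set G)) (hRM : R ≤ Subgroup.normalizer (M : Set G))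
    (hCK : M ⊓ Subgroup.centralizer (D : Set G) = ⊥) : Nat.card M = p ^ Nat.card R := by
  have c := b.toSplitCfg
  have hDH : D ≤ H := hDX.trans (c.hXN.trans c.hNH)
  have hMH : M ≤ H := hMU.trans c.hUH
  have hcopDM : (Nat.card D).Coprime (Nat.card M) :=
    Nat.Coprime.coprime_dvd_right (Subgroup.card_dvd_of_le hMU) (c.coprime_card_U D hDX)
  have hcop : (Nat.card ↥(D ⊔ R)).Coprime (Nat.card M) := by
    have h1 := Cfsg.Agent.Lib.Lead.card_sup_mul_card_inf R D hRD
    have h2 : Nat.card ↥(D ⊔ R) ∣ Nat.card R * Nat.card D := by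
      rw [sup_comm]
      exact Dvd.intro _ h1
    apply Nat.Coprime.coprime_dvd_left h2
    exact Nat.Coprime.mul_left (b.coprime_R M hMH) hcopDM
  have hodd : Odd (Nat.card ↥(D ⊔ R)) :=
    Odd.of_dvd_nat b.hodd (Subgroup.card_subgroup_dvd_card _)
  obtain ⟨-, h2, -⟩ := Cfsg.Agent.S1446.result D R M hD1 b.R_ne_bot
    ((Subgroup.disjoint_of_coprime_natCard (b.coprime_R D hDH).symm).eq_bot) hRD
    (by
      intro y hy hy1
      rw [centralizer_singleton_eq R b.hRp y hy hy1]
      exact hDR)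
    (b.isSolvable _) hodd hM1 (c.isPGroup_U.to_le hMU).isNilpotent hDM hRM hcop hCK
    (by
      intro y hy hy1
      rw [centralizer_singleton_eq R b.hRp y hy hy1])
  have h3 : Nat.card ↥(M ⊓ Subgroup.centralizer (R : Set G)) ≤ p :=
    le_trans (Nat.le_of_dvd Nat.card_pos (Subgroup.card_dvd_of_le (inf_le_inf_right _ hMU)))
      b.card_CU_le
  obtain ⟨j, hj⟩ := (IsPGroup.iff_card).mp
    (c.isPGroup_U.to_le ((inf_le_left : M ⊓ Subgroup.centralizer (R : Set G) ≤ M).trans hMU))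
  rw [hj] at h2 h3
  have hj1 : j = 1 := by
    have hle : j ≤ 1 := by
      by_contra hlt
      push Not at hlt
      have : p ^ 2 ≤ p ^ j := Nat.pow_le_pow_right hp.out.pos hlt
      have h4 : p ^ 2 ≤ p := this.trans h3
      have h5 : 1 < p := hp.out.one_lt
      nlinarith
    have hne : j ≠ 0 := by
      intro h0
      rw [h0, pow_zero, one_pow] at h2
      exact hM1 (Subgroup.card_eq_one.mp h2)
    omega
  rw [hj1, pow_one] at h2
  exact h2

/-- the nonabelian case is impossible. -/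
theorem B2Cfg.false_of_noncomm (b : B2Cfg p H R U N X T) (q : ℕ) [hq : Fact q.Prime]
    (hXq : IsPGroup q X) (hnab : ¬ ∀ a ∈ X, ∀ y ∈ X, a * y = y * a) : False := by
  have c := b.toSplitCfg
  haveI := c.hUn
  obtain ⟨D, hDX', hD1, hRD, hDR⟩ := b.exists_D q hXq hnab
  have hDX : D ≤ X := hDX'.trans
    (Cfsg.Agent.Lib.Lead.commutator_le_left_of_le_normalizer X X Subgroup.le_normalizer)
  have hDCX : D ≤ Subgroup.centralizer (X : Set G) := hDX'.trans (b.X'_le q hXq)
  have hDCT : D ≤ Subgroup.centralizer (T : Set G) :=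
    hDX'.trans (b.X'_le_centralizer_T q hXq)
  have hMU : ⁅U, D⁆ ≤ U := Subgroup.commutator_le_left U D
  have hM1 := b.comm_UQ_ne_bot D hDX hD1
  have hDM := b.le_normalizer_comm_U D D Subgroup.le_normalizer
  have hRM := b.le_normalizer_comm_U R D hRD
  have hCK := b.comm_UQ_inf_centralizer D hDX
  have h1 := b.card_M D ⁅U, D⁆ hDX hD1 hRD hDR hMU hM1 hDM hRM hCK
  have hTD : T ≤ Subgroup.normalizer (D : Set G) :=
    (Subgroup.le_centralizer_iff.mp hDCT).trans (Subgroup.centralizer_le_normalizer _)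
  have hTM := b.le_normalizer_comm_U T D hTD
  have hM'1 := pgroup_fixed_ne_bot p ⁅U, D⁆ T (c.isPGroup_U.to_le hMU) c.hTp hTM hM1
  have hDM' : D ≤ Subgroup.normalizer
      ((⁅U, D⁆ ⊓ Subgroup.centralizer (T : Set G) : Subgroup G) : Set G) :=
    le_trans (le_inf hDM ((hDCT.trans (Subgroup.centralizer_le_normalizer _)).trans
      (Cfsg.Agent.Lib.Lead.normalizer_le_normalizer_centralizer T)))
      Subgroup.inf_normalizer_le_normalizer_inf
  have hRM' : R ≤ Subgroup.normalizer
      ((⁅U, D⁆ ⊓ Subgroup.centralizer (T : Set G) : Subgroup G) : Set G) :=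
    le_trans (le_inf hRM (c.hRT.trans
      (Cfsg.Agent.Lib.Lead.normalizer_le_normalizer_centralizer T)))
      Subgroup.inf_normalizer_le_normalizer_inf
  have hCK' : (⁅U, D⁆ ⊓ Subgroup.centralizer (T : Set G)) ⊓
      Subgroup.centralizer (D : Set G) = ⊥ := by
    rw [eq_bot_iff, ← hCK]
    exact inf_le_inf_right _ inf_le_left
  have h2 := b.card_M D _ hDX hD1 hRD hDR (inf_le_left.trans hMU) hM'1 hDM' hRM' hCK'
  have h3 : ⁅U, D⁆ ⊓ Subgroup.centralizer (T : Set G) = ⁅U, D⁆ :=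
    Subgroup.eq_of_le_of_card_ge inf_le_left (by rw [h1, h2])
  have hMT : ⁅U, D⁆ ≤ Subgroup.centralizer (T : Set G) := by
    rw [← h3]; exact inf_le_right
  have hTCM : T ≤ Subgroup.centralizer ((⁅U, D⁆ : Subgroup G) : Set G) :=
    Subgroup.le_centralizer_iff.mp hMT
  have hXD : X ≤ Subgroup.normalizer (D : Set G) :=
    (Subgroup.le_centralizer_iff.mp hDCX).trans (Subgroup.centralizer_le_normalizer _)
  have hXM := b.le_normalizer_comm_U X D hXD
  have hXCM : X ≤ Subgroup.normalizer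
      ((Subgroup.centralizer ((⁅U, D⁆ : Subgroup G) : Set G) : Subgroup G) : Set G) :=
    hXM.trans (Cfsg.Agent.Lib.Lead.normalizer_le_normalizer_centralizer _)
  have h4 : ⁅X, T⁆ ≤ Subgroup.centralizer ((⁅U, D⁆ : Subgroup G) : Set G) :=
    comm_le_of_le_normalizer hXCM hTCM
  rw [b.X_eq_comm] at h4
  exact hD1 (c.eq_bot_of_le_centralizer_comm D hDX (hDX.trans h4))

/-- Case B2 is impossible. -/
theorem B2Cfg.false (b : B2Cfg p H R U N X T) : False := by
  obtain ⟨q, hq, hXq⟩ := b.exists_prime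
  haveI : Fact q.Prime := ⟨hq⟩
  by_cases hab : ∀ a ∈ X, ∀ y ∈ X, a * y = y * a
  · exact b.false_of_comm hab
  · exact b.false_of_noncomm q hXq hab

end g1

end Cfsg.Agent.Lib.Helper4.ZP
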