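import Mathlib
import Cfsg.Agent.Lib.Helper4.ZP22

set_option autoImplicit false

/-! The inductive step in the split configuration. -/

namespace Cfsg.Agent.Lib.Helper4.ZP

open Cfsg
open scoped commutatorElement

universe u

section g1

variable {G : Type u} [Group G] [Finite G]

theorem le_normalizer_of_normal (H K : Subgroup G) [hHn : H.Normal] :
    K ≤ Subgroup.normalizer (H : Set G) := by
  rw [Subgroup.normalizer_eq_top_iff.mpr hHn]
  exact le_top

theorem card_eq_of_compl (H R : Subgroup G) [hHn : H.Normal] (hHR : H ⊔ R = ⊤)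
    (hcop : (Nat.card H).Coprime (Nat.card R)) : Nat.card G = Nat.card H * Nat.card R := by
  have hd : R ⊓ H = ⊥ := (Subgroup.disjoint_of_coprime_natCard hcop.symm).eq_bot
  have := Cfsg.Agent.Lib.Lead.card_sup_of_disjoint R H (le_normalizer_of_normal H R) hd
  rw [sup_comm, hHR, Subgroup.card_top] at this
  rw [this, mul_comm]

variable {p n : ℕ} [hp : Fact p.Prime]

theorem sub_gen (hmain : MainStmt.{u} p n) [hsolv : Group.IsSolvable G]
    (hodd : Odd (Nat.card G)) (hn : Nat.card G ≤ n) (H R R₀ : Subgroup G) [hHn : H.Normal]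
    (hHR : H ⊔ R = ⊤) (hcop : (Nat.card H).Coprime (Nat.card R))
    (hR₀p : (Nat.card R₀).Prime)
    (hZ : IsZGroup ↥(H ⊓ Subgroup.centralizer (R₀ : Set G)))
    (H₁ R₁ : Subgroup G) (hH₁ : H₁ ≤ H) (hR₁ : R₁ ≤ R) (hR₀R₁ : R₀ ≤ R₁)
    (hn₁ : R₁ ≤ Subgroup.normalizer (H₁ : Set G))
    (hlt : Nat.card H₁ * Nat.card R₁ < Nat.card H * Nat.card R) :
    PL1 p (⁅H₁, R₁⁆ ⊔ R₁) ⊥ ⁅H₁, R₁⁆ := by
  have hle : H₁ ⊓ Subgroup.centralizer (R₀ : Set G) ≤ H ⊓ Subgroup.centralizer (R₀ : Set G) :=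
    inf_le_inf_right _ hH₁
  apply sub_of_main hmain hodd H₁ R₁ R₀ hn₁ _ _ hR₀R₁ hR₀p
    (IsZGroup.of_injective (f := Subgroup.inclusion hle) (Subgroup.inclusion_injective hle))
  · exact Nat.Coprime.coprime_dvd_left (Subgroup.card_dvd_of_le hH₁)
      (Nat.Coprime.coprime_dvd_right (Subgroup.card_dvd_of_le hR₁) hcop)
  · rw [← card_eq_of_compl H R hHR hcop] at hlt
    exact hlt.trans_le hn

theorem quot_gen (hmain : MainStmt.{u} p n) [hsolv : Group.IsSolvable G]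
    (hodd : Odd (Nat.card G)) (hn : Nat.card G ≤ n) (H R R₀ : Subgroup G) [hHn : H.Normal]
    (hHR : H ⊔ R = ⊤) (hcop : (Nat.card H).Coprime (Nat.card R)) (hR₀ : R₀ ≤ R)
    (hR₀p : (Nat.card R₀).Prime)
    (hZ : IsZGroup ↥(H ⊓ Subgroup.centralizer (R₀ : Set G))) (hHcomm : ⁅H, R⁆ = H)
    (N₀ : Subgroup G) (hN₀n : N₀.Normal) (hN₀H : N₀ ≤ H) (hN₀1 : N₀ ≠ ⊥) :
    PL1 p ⊤ N₀ H := by
  haveI := hN₀n
  have := quot_of_main hmain hodd hn H R R₀ hHR hcop hR₀ hR₀p hZ N₀ hN₀H hN₀1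
  rw [hHcomm, hHR, sup_eq_left.mpr hN₀H] at this
  exact this

/-- the inductive step in the split configuration. -/
theorem cfg_step (hmain : MainStmt.{u} p n) [hsolv : Group.IsSolvable G]
    (hodd : Odd (Nat.card G)) (hn : Nat.card G ≤ n) (H R R₀ : Subgroup G) [hHn : H.Normal]
    (hHR : H ⊔ R = ⊤) (hcop : (Nat.card H).Coprime (Nat.card R)) (hR₀ : R₀ ≤ R)
    (hR₀p : (Nat.card R₀).Prime)
    (hZ : IsZGroup ↥(H ⊓ Subgroup.centralizer (R₀ : Set G))) (hHcomm : ⁅H, R⁆ = H)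
    {U N X T : Subgroup G} (c : SplitCfg p H R U N X T) : PL1 p ⊤ ⊥ H := by
  have hNR : N ≤ ⁅N, R⁆ := c.N_le_comm (by rw [hHcomm])
  by_cases h0 : N ⊓ Subgroup.centralizer (U : Set G) = ⊥
  swap
  · have hn0 := c.inf_centralizer_normal N Subgroup.le_normalizer c.hRN
    have := quot_gen hmain hodd hn H R R₀ hHR hcop hR₀ hR₀p hZ hHcomm _ hn0
      (inf_le_left.trans c.hNH) h0
    exact c.pl1_of_comm (c.comm_eq_bot_of_quot this)
  by_cases hA : U ⊓ Subgroup.centralizer (R₀ : Set G) = ⊥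
  · exact c.pl1_of_comm (c.comm_eq_bot_of_A hodd h0 hNR R₀ hR₀ hR₀p hZ hA)
  have hT := c.T_inf_centralizer R₀ hZ hA
  by_cases hRR : R₀ = R
  swap
  · have hlt : Nat.card R₀ < Nat.card R :=
      lt_of_le_of_ne (Nat.le_of_dvd Nat.card_pos (Subgroup.card_dvd_of_le hR₀))
        (fun h => hRR (Subgroup.eq_of_le_of_card_ge hR₀ h.ge))
    have h := sub_gen hmain hodd hn H R R₀ hHR hcop hR₀p hZ H R₀ le_rfl hR₀ le_rfl
      (le_normalizer_of_normal H R₀) (Nat.mul_lt_mul_of_pos_left hlt Nat.card_pos)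
    exact c.pl1_of_comm (c.comm_eq_bot_of_B1 R₀ hR₀ hT h)
  · by_contra hcon
    have hne : ⁅X, T⁆ ≠ ⊥ := fun h => hcon (c.pl1_of_comm h)
    have hZ' := hZ
    have hT' := hT
    have hRp := hR₀p
    rw [hRR] at hZ' hT' hRp
    have b : B2Cfg p H R U N X T :=
      { toSplitCfg := c
        hsolv := hsolv
        hodd := hodd
        hRp := hRp
        hZ := hZ'
        hTR := hT'
        h0 := h0
        hsub := fun H₁ hH₁ hR₁ hlt =>
          sub_gen hmain hodd hn H R R₀ hHR hcop hR₀p hZ H₁ R hH₁ le_rfl hR₀ hR₁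
            (Nat.mul_lt_mul_of_pos_right hlt Nat.card_pos)
        hne := hne }
    exact b.false

end g1

end Cfsg.Agent.Lib.Helper4.ZP
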