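import Mathlib
import Cfsg.Agent.Lib.Helper4.ZP24
import Cfsg.Agent.Lib.Helper4.ZP23
import Cfsg.Agent.Lib.Helper2.CoreFree

set_option autoImplicit false

/-! The reduction to the split configuration. -/

namespace Cfsg.Agent.Lib.Helper4.ZP

open Cfsg
open scoped commutatorElement

universe u

section g1

variable {G : Type u} [Group G] [Finite G] {p n : ℕ} [hp : Fact p.Prime]

set_option maxHeartbeats 800000 in
/-- the inductive step when `H = [H, R]` has no nontrivial normal `p'`-subgroup of `G`. -/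
theorem split_step (hmain : MainStmt.{u} p n) [hsolv : Group.IsSolvable G]
    (hodd : Odd (Nat.card G)) (hn : Nat.card G ≤ n) (H R R₀ : Subgroup G) [hHn : H.Normal]
    (hHR : H ⊔ R = ⊤) (hcop : (Nat.card H).Coprime (Nat.card R)) (hR₀ : R₀ ≤ R)
    (hR₀p : (Nat.card R₀).Prime)
    (hZ : IsZGroup ↥(H ⊓ Subgroup.centralizer (R₀ : Set G))) (hHcomm : ⁅H, R⁆ = H)
    (hNP : ∀ A : Subgroup G, A ≤ H → A.Normal → (Nat.card A).Coprime p → A = ⊥)
    (hH1 : H ≠ ⊥) : PL1 p ⊤ ⊥ H := by
  have hsolvK : ∀ K : Subgroup G, Group.IsSolvable ↥K := fun K =>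
    solvable_of_solvable_injective (Subgroup.subtype_injective K)
  -- a minimal normal subgroup
  obtain ⟨U, hUH, hUn, hU1, hUmin⟩ := Cfsg.Agent.Lib.Helper2.exists_minNormal_le H hH1
  haveI := hUn
  have hUc := Cfsg.Agent.Lib.Helper2.isMulCommutative_of_minNormal_of_solvable U hU1 hUmin
  obtain ⟨p', hp', hexp, d, hd, hcardU⟩ :=
    Cfsg.Agent.Lib.Helper2.exists_prime_pow_of_minNormal_abelian U hU1 hUmin hUc
  have hpp : p' = p := by
    by_contra hne
    apply hU1
    apply hNP U hUH hUn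
    rw [hcardU]
    exact Nat.Coprime.pow_left d ((Nat.coprime_primes hp' hp.out).mpr hne)
  rw [hpp] at hexp hcardU
  have hUcomm : ∀ a ∈ U, ∀ y ∈ U, a * y = y * a := fun a ha y hy =>
    congrArg Subtype.val (hUc.is_comm.comm ⟨a, ha⟩ ⟨y, hy⟩)
  have hnU : ∀ K : Subgroup G, K ≤ Subgroup.normalizer (U : Set G) :=
    fun K => le_normalizer_of_normal U K
  -- the quotient by `U`
  obtain ⟨A, B, hUA, hAB, hBH, hAn, hBn, hA, ⟨k, hk⟩, hB⟩ :=
    quot_gen hmain hodd hn H R R₀ hHR hcop hR₀ hR₀p hZ hHcomm U hUn hUH hU1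
  have hAn' : A.Normal := Subgroup.normalizer_eq_top_iff.mp (top_le_iff.mp hAn)
  have hBn' : B.Normal := Subgroup.normalizer_eq_top_iff.mp (top_le_iff.mp hBn)
  haveI := hAn'
  have hAH : A ≤ H := hAB.trans hBH
  have hcardA : Nat.card A = U.relIndex A * Nat.card U := by
    have := (U.subgroupOf A).card_mul_index
    rw [Cfsg.Agent.Lib.Lead.card_subgroupOf_of_le hUA] at this
    rw [← this, mul_comm]
    rfl
  have hm : (U.relIndex A).Coprime (Nat.card U) := by
    rw [hcardU]; exact Nat.Coprime.pow_right d hA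
  obtain ⟨X₀, hX₀A, hX₀, hRX₀⟩ := Cfsg.Agent.Lib.Helper7.coprime_hall_exists R A
    (le_normalizer_of_normal A R)
    (Nat.Coprime.coprime_dvd_right (Subgroup.card_dvd_of_le hAH) hcop.symm) (hsolvK A)
    (U.relIndex A) (Nat.card U) hcardA hm
  by_cases hX₀1 : X₀ = ⊥
  · -- `A = U`
    have hm1 : U.relIndex A = 1 := by rw [← hX₀, hX₀1, Subgroup.card_bot]
    have hAU : U = A :=
      Subgroup.eq_of_le_of_card_ge hUA (by rw [hcardA, hm1, one_mul])
    refine ⟨⊥, B, le_rfl, bot_le, hBH, ?_, hBn, ?_, ⟨d + k, ?_⟩, hB⟩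
    · intro g _
      rw [Subgroup.mem_normalizer_iff]
      intro h
      simp [Subgroup.mem_bot]
    · rw [Subgroup.relIndex_self]
      exact Nat.coprime_one_left p
    · rw [Subgroup.relIndex_bot_left]
      have := (A.subgroupOf B).card_mul_index
      rw [Cfsg.Agent.Lib.Lead.card_subgroupOf_of_le hAB] at this
      have h2 : (A.subgroupOf B).index = p ^ k := hk
      rw [h2, ← hAU, hcardU] at this
      rw [← this, pow_add]
  -- `X₀ ≠ ⊥`
  set N := H ⊓ Subgroup.normalizer (X₀ : Set G) with hN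
  have hsup : U ⊔ N = H :=
    frattini_hall H A U X₀ hAH hUA hX₀A (hnU X₀) (hsolvK A) _ hcardA hm hX₀
  have hX₀N : X₀ ≤ N := le_inf (hX₀A.trans hAH) Subgroup.le_normalizer
  have hX₀U0 : U ⊓ X₀ = ⊥ :=
    (Subgroup.disjoint_of_coprime_natCard (by rw [hX₀]; exact hm.symm)).eq_bot
  have hRN : R ≤ Subgroup.normalizer (N : Set G) :=
    le_trans (le_inf (le_normalizer_of_normal H R) (hRX₀.trans Subgroup.le_normalizer))
      Subgroup.inf_normalizer_le_normalizer_inf
  have hUN : U ⊓ N = ⊥ := by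
    have h1 : U ⊓ N ≤ Subgroup.centralizer (X₀ : Set G) := by
      apply Cfsg.Agent.Lib.Helper4.BG8.le_centralizer_of_normalize
      · exact inf_le_right.trans inf_le_right
      · exact le_trans (le_inf (hnU X₀) (hX₀N.trans Subgroup.le_normalizer))
          Subgroup.inf_normalizer_le_normalizer_inf
      · rw [eq_bot_iff, ← hX₀U0]
        exact le_inf (inf_le_left.trans inf_le_left) inf_le_right
    have hC₀n : (U ⊓ Subgroup.centralizer (X₀ : Set G)).Normal := by
      rw [← Subgroup.normalizer_eq_top_iff, eq_top_iff, ← hHR, ← hsup]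
      have hnc : ∀ K : Subgroup G, K ≤ Subgroup.normalizer (X₀ : Set G) →
          K ≤ Subgroup.normalizer
            ((U ⊓ Subgroup.centralizer (X₀ : Set G) : Subgroup G) : Set G) := by
        intro K hK
        exact le_trans (le_inf (hnU K)
          (hK.trans (Cfsg.Agent.Lib.Lead.normalizer_le_normalizer_centralizer X₀)))
          Subgroup.inf_normalizer_le_normalizer_inf
      refine sup_le (sup_le ?_ (hnc N inf_le_right)) (hnc R hRX₀)
      refine le_trans ?_ (Subgroup.centralizer_le_normalizer _)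
      intro a ha
      rw [Subgroup.mem_centralizer_iff]
      intro y hy
      exact hUcomm y (Subgroup.mem_inf.mp hy).1 a ha
    rcases hUmin _ hC₀n inf_le_left with h | h
    · rw [eq_bot_iff, ← h]
      exact le_inf inf_le_left h1
    · exfalso
      apply hX₀1
      have hUCX₀ : U ≤ Subgroup.centralizer (X₀ : Set G) := by
        rw [← h]; exact inf_le_right
      have hAX₀ : A ≤ Subgroup.normalizer (X₀ : Set G) := by
        rw [← sup_eq_of_card A U X₀ hUA hX₀A (hnU X₀) _ hcardA hm hX₀]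
        exact sup_le (hUCX₀.trans (Subgroup.centralizer_le_normalizer _)) Subgroup.le_normalizer
      have hX₀n := hall_normal_of_le_normalizer A U X₀ hX₀A hAX₀ (hsolvK A) _ hcardA hm hX₀
      exact hNP X₀ (hX₀A.trans hAH) hX₀n (by rw [hX₀]; exact hA)
  have hNH : N ≤ H := inf_le_left
  have hNR : N ≤ ⁅N, R⁆ := le_comm_of_split H R U N hUn hsup hUN hRN (by rw [hHcomm])
  have hNRN : ⁅N, R⁆ = N :=
    le_antisymm (Cfsg.Agent.Lib.Lead.commutator_le_left_of_le_normalizer N R hRN) hNR
  have hcardH : Nat.card H = Nat.card U * Nat.card N := by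
    have h1 := Cfsg.Agent.Lib.Lead.card_sup_of_disjoint N U (hnU N)
      (by rw [inf_comm]; exact hUN)
    rw [sup_comm, hsup] at h1
    rw [h1, mul_comm]
  have hcardU1 : 1 < Nat.card U := by
    rw [Subgroup.one_lt_card_iff_ne_bot]; exact hU1
  have hltN : Nat.card N * Nat.card R < Nat.card H * Nat.card R := by
    apply Nat.mul_lt_mul_of_pos_right _ Nat.card_pos
    rw [hcardH]
    have hpos : 0 < Nat.card N := Nat.card_pos
    nlinarith
  have hPLN := sub_gen hmain hodd hn H R R₀ hHR hcop hR₀p hZ N R hNH le_rfl hR₀ hRN hltN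
  rw [hNRN] at hPLN
  obtain ⟨X, B', -, hXB', hB'N, hXn, hB'n, hXp, ⟨k', hk'⟩, hB'idx⟩ := hPLN
  rw [Subgroup.relIndex_bot_left] at hXp
  have hRB' : R ≤ Subgroup.normalizer (B' : Set G) := le_sup_right.trans hB'n
  have hB'H : B' ≤ H := hB'N.trans hNH
  obtain ⟨P, hP⟩ := Cfsg.Agent.Lib.Lead.coprime_invariant_sylow_exists R B' hRB'
    (Nat.Coprime.coprime_dvd_right (Subgroup.card_dvd_of_le hB'H) hcop.symm)
    (Or.inr (hsolvK B')) p
  set T := (P : Subgroup B').map B'.subtype with hT
  have hXT : X ⊔ T = B' := sup_sylow_eq p B' X hXB' k' hk' P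
  have hTB' : T ≤ B' := Subgroup.map_subtype_le _
  have c : SplitCfg p H R U N X T :=
    { hHn := hHn
      hHR := hHR
      hcop := hcop
      hUn := hUn
      hUH := hUH
      hUcomm := hUcomm
      hUexp := hexp
      hU1 := hU1
      hUmin := hUmin
      hNH := hNH
      hUN := hUN
      hsup := hsup
      hRN := hRN
      hXN := hXB'.trans hB'N
      hNX := le_sup_left.trans hXn
      hRX := le_sup_right.trans hXn
      hXp := hXp
      hTN := hTB'.trans hB'N
      hTp := P.isPGroup'.map _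
      hRT := hP
      hNXT := by rw [hXT]; exact le_sup_left.trans hB'n
      hidx := by rw [hXT]; exact hB'idx
      hNP := hNP }
  exact cfg_step hmain hodd hn H R R₀ hHR hcop hR₀ hR₀p hZ hHcomm c

end g1

end Cfsg.Agent.Lib.Helper4.ZP
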