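import Mathlib
import Cfsg.Agent.Lib.Helper4.ZP25
import Cfsg.Agent.Lib.Helper4.ZP2

set_option autoImplicit false

/-! The main induction. -/

namespace Cfsg.Agent.Lib.Helper4.ZP

open Cfsg
open scoped commutatorElement

universe u

section g1

variable {p n : ℕ} [hp : Fact p.Prime]

theorem main_step (hmain : MainStmt.{u} p n) : MainStmt.{u} p (n + 1) := by
  intro G _ _ hcard hsolv hodd H R R₀ hHn hHR hcop hR₀ hR₀p hZ
  haveI := hsolv
  haveI := hHn
  have hn : Nat.card G ≤ n := Nat.lt_succ_iff.mp hcard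
  have hHRH : ⁅H, R⁆ ≤ H := Subgroup.commutator_le_left H R
  by_cases hHcomm : ⁅H, R⁆ = H
  swap
  · have hRK : R ≤ Subgroup.normalizer ((⁅H, R⁆ : Subgroup G) : Set G) :=
      le_trans (le_inf (le_normalizer_of_normal H R) Subgroup.le_normalizer)
        (Cfsg.Agent.Lib.Lead.normalizer_inf_le_normalizer_commutator H R)
    have hlt : Nat.card ↥⁅H, R⁆ < Nat.card H :=
      lt_of_le_of_ne (Nat.le_of_dvd Nat.card_pos (Subgroup.card_dvd_of_le hHRH))
        (fun h => hHcomm (Subgroup.eq_of_le_of_card_ge hHRH h.ge))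
    have h := sub_gen hmain hodd hn H R R₀ hHR hcop hR₀p hZ ⁅H, R⁆ R hHRH le_rfl hR₀ hRK
      (Nat.mul_lt_mul_of_pos_right hlt Nat.card_pos)
    have hst := Cfsg.Agent.Lib.Lead.coprime_commutator_stable R H (le_normalizer_of_normal H R)
      hcop.symm (Or.inr (solvable_of_solvable_injective (Subgroup.subtype_injective H)))
    rw [hst] at h
    exact h
  · rw [hHcomm, hHR]
    by_cases hNP : ∀ A : Subgroup G, A ≤ H → A.Normal → (Nat.card A).Coprime p → A = ⊥
    swap
    · push Not at hNP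
      obtain ⟨A, hAH, hAn, hAp, hA1⟩ := hNP
      exact (quot_gen hmain hodd hn H R R₀ hHR hcop hR₀ hR₀p hZ hHcomm A hAn hAH hA1).to_bot hAp
    by_cases hH1 : H = ⊥
    · rw [hH1]
      refine ⟨⊥, ⊥, le_rfl, le_rfl, le_rfl, ?_, ?_, ?_, ⟨0, ?_⟩, ?_⟩
      · intro g _
        rw [Subgroup.mem_normalizer_iff]
        intro h
        simp [Subgroup.mem_bot]
      · intro g _
        rw [Subgroup.mem_normalizer_iff]
        intro h
        simp [Subgroup.mem_bot]
      · rw [Subgroup.relIndex_self]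
        exact Nat.coprime_one_left p
      · rw [Subgroup.relIndex_self, pow_zero]
      · rw [Subgroup.relIndex_self]
        exact Nat.coprime_one_left p
    exact split_step hmain hodd hn H R R₀ hHR hcop hR₀ hR₀p hZ hHcomm hNP hH1

theorem main (p : ℕ) [hp : Fact p.Prime] : ∀ n : ℕ, MainStmt.{u} p n := by
  intro n
  induction n with
  | zero =>
    intro G _ _ hcard
    exact absurd hcard (Nat.not_lt_zero _)
  | succ n ih => exact main_step ih

/-- Bender–Glauberman, Theorem 3.6. -/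
theorem bg36 {G : Type u} [Group G] [Finite G] [hsolv : Group.IsSolvable G]
    (hodd : Odd (Nat.card G)) (H R R₀ : Subgroup G) [hHn : H.Normal] (hHR : H ⊔ R = ⊤)
    (hcop : (Nat.card H).Coprime (Nat.card R)) (hR₀ : R₀ ≤ R) (hR₀p : (Nat.card R₀).Prime)
    (hZ : IsZGroup ↥(H ⊓ Subgroup.centralizer (R₀ : Set G))) (p : ℕ) [hp : Fact p.Prime] :
    Cfsg.PLengthLE p 1 ↥⁅H, R⁆ := by
  have h := main.{u} p (Nat.card G + 1) G (Nat.lt_succ_self _) hsolv hodd H R R₀ hHn hHR hcop
    hR₀ hR₀p hZ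
  exact pLengthLE_of_PL1 h le_sup_left

end g1

end Cfsg.Agent.Lib.Helper4.ZP
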