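import Mathlib

set_option autoImplicit false

namespace Cfsg.Agent.Lib.Helper4

/-- In a finite cyclic group, a subgroup is determined by its order. -/
theorem cyclic_subgroup_eq_of_card_eq {C : Type*} [Group C] [Finite C] [IsCyclic C]
    (K₁ K₂ : Subgroup C) (h : Nat.card K₁ = Nat.card K₂) : K₁ = K₂ := by
  classical
  haveI : Fintype C := Fintype.ofFinite C
  set n := Nat.card K₁ with hn
  have hn0 : 0 < n := Nat.card_pos
  have hS := IsCyclic.card_pow_eq_one_le (α := C) hn0
  have key : ∀ K : Subgroup C, Nat.card K = n →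
      (Finset.univ.filter (fun a : C => a ∈ K)) = Finset.univ.filter (fun a : C => a ^ n = 1) := by
    intro K hK
    apply Finset.eq_of_subset_of_card_le
    · intro a ha
      simp only [Finset.mem_filter, Finset.mem_univ, true_and] at ha ⊢
      have h1 : (⟨a, ha⟩ : K) ^ Nat.card K = 1 := pow_card_eq_one'
      rw [hK] at h1
      have := congrArg Subtype.val h1
      simpa using this
    · have : (Finset.univ.filter (fun a : C => a ∈ K)).card = n := by
        rw [← hK, Nat.card_eq_fintype_card, Fintype.card_subtype]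
      rw [this]
      exact hS
  have h1 := key K₁ rfl
  have h2 := key K₂ h.symm
  ext a
  have e1 : a ∈ K₁ ↔ a ∈ Finset.univ.filter (fun a : C => a ∈ K₁) := by simp
  have e2 : a ∈ K₂ ↔ a ∈ Finset.univ.filter (fun a : C => a ∈ K₂) := by simp
  rw [e1, e2, h1, h2]

/-- Subgroups of equal order inside a cyclic subgroup coincide. -/
theorem subgroup_eq_of_card_eq_of_le_cyclic {G : Type*} [Group G] [Finite G] (C K₁ K₂ : Subgroup G)
    (hC : IsCyclic C) (h₁ : K₁ ≤ C) (h₂ : K₂ ≤ C) (h : Nat.card K₁ = Nat.card K₂) : K₁ = K₂ := by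
  haveI := hC
  have e1 : Nat.card (K₁.subgroupOf C) = Nat.card K₁ :=
    Nat.card_congr (Subgroup.subgroupOfEquivOfLe h₁).toEquiv
  have e2 : Nat.card (K₂.subgroupOf C) = Nat.card K₂ :=
    Nat.card_congr (Subgroup.subgroupOfEquivOfLe h₂).toEquiv
  have := cyclic_subgroup_eq_of_card_eq (K₁.subgroupOf C) (K₂.subgroupOf C) (by rw [e1, e2, h])
  have h3 := congrArg (Subgroup.map C.subtype) this
  rwa [Subgroup.map_subgroupOf_eq_of_le h₁, Subgroup.map_subgroupOf_eq_of_le h₂] at h3

end Cfsg.Agent.Lib.Helper4
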