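import Mathlib
import Cfsg.Agent.Lib.Helper4.BG8f
import Cfsg.Agent.S0027

set_option autoImplicit false
open Pointwise
open scoped commutatorElement

/-! Bender–Glauberman Section 8: two maximal subgroups each containing the Fitting subgroup
of the other. -/

namespace Cfsg.Agent.Lib.Helper4.BG8

open Cfsg Cfsg.Agent.Lib.Helper4 Cfsg.Agent.Lib.Lead Cfsg.Agent.Lib.Helper6 Cfsg.Agent.Lib.Helper7
open Cfsg.Agent.Lib.Helper4.BG7 Cfsg.Agent.Lib.Helper4.BG76 Cfsg.Agent.Lib.Helper4.ThreeStep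

universe u

variable {G : Type u} [Group G] [Finite G]

/-- two maximal subgroups, each containing the Fitting subgroup of the other -/
structure BPair (H L : Subgroup G) : Prop where
  hH : IsCoatom H
  hL : IsCoatom L
  hFL : fittingOf H ≤ L
  hKH : fittingOf L ≤ H

theorem BPair.symm {H L : Subgroup G} (h : BPair H L) : BPair L H := ⟨h.hL, h.hH, h.hKH, h.hFL⟩

theorem BPair.opOf_le {H L : Subgroup G} (h : BPair H L) (r : ℕ) [Fact r.Prime] : opOf r H ≤ L :=
  (opOf_le_fittingOf r H).trans h.hFL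

theorem BPair.comm {H L : Subgroup G} (h : BPair H L) {r s : ℕ} [Fact r.Prime] [Fact s.Prime]
    (hrs : r ≠ s) : opOf r H ≤ Subgroup.centralizer (opOf s L : Set G) :=
  le_centralizer_of_normalize ((h.opOf_le r).trans (le_normalizer_opOf s L))
    ((h.symm.opOf_le s).trans (le_normalizer_opOf r H))
    (inf_eq_bot_of_ne hrs (opOf_isPGroup r H) (opOf_isPGroup s L))

theorem BPair.ne_bot (hG : IsMinSimpleOddOrder G) {H L : Subgroup G} (h : BPair H L) {r : ℕ}
    [Fact r.Prime] (hr : opOf r H ≠ ⊥) : opOf r L ≠ ⊥ := by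
  intro h0
  apply hr
  have hLsolv : Group.IsSolvable ↥L := solvable_of_ne_top hG h.hL.1
  have h1 : opOf r H ≤ Subgroup.centralizer (fittingOf L : Set G) := by
    apply le_centralizer_fittingOf
    intro s hs
    have : Fact s.Prime := ⟨hs⟩
    by_cases hsr : r = s
    · rw [← hsr, h0]
      intro x _
      apply Subgroup.mem_centralizer_iff.mpr
      intro y hy
      have hy' : y ∈ (⊥ : Subgroup G) := hy
      rw [Subgroup.mem_bot.mp hy']; simp
    · exact h.comm hsr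
  have h2 : opOf r H ≤ fittingOf L := (le_inf (h.opOf_le r) h1).trans (centralizer_fittingOf_le hLsolv)
  have h3 := le_opOf_of_le_fittingOf h2 (opOf_isPGroup r H)
  rw [h0] at h3
  exact le_bot_iff.mp h3

/-- `O_r(L)` centralizes `O_{r'}(F(H))` -/
theorem BPair.opOf_le_Dr {H L : Subgroup G} (h : BPair H L) (r : ℕ) [Fact r.Prime] :
    opOf r L ≤ Dr r H :=
  le_centralizer_of_normalize ((h.symm.opOf_le r).trans (le_normalizer_Frp r H))
    (((Frp_le_fittingOf r H).trans h.hFL).trans (le_normalizer_opOf r L))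
    (opOf_inf_Frp (opOf_isPGroup r L) H)

/-- the centre of `O_r(L)` -/
def zOf (r : ℕ) (L : Subgroup G) : Subgroup G :=
  opOf r L ⊓ Subgroup.centralizer (opOf r L : Set G)

theorem le_normalizer_zOf (r : ℕ) (L : Subgroup G) : L ≤ Subgroup.normalizer (zOf r L : Set G) := by
  have h1 := le_normalizer_opOf r L
  have h2 := h1.trans (BG7.normalizer_le_normalizer_centralizer _)
  exact (le_inf h1 h2).trans (normalizer_inf_le' _ _)

theorem zOf_ne_bot {r : ℕ} [Fact r.Prime] {L : Subgroup G} (h : opOf r L ≠ ⊥) : zOf r L ≠ ⊥ := by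
  have hp := opOf_isPGroup r L
  have : Nontrivial ↥(opOf r L) := (Subgroup.nontrivial_iff_ne_bot _).mpr h
  have h1 : Nontrivial ↥(Subgroup.center ↥(opOf r L)) := hp.center_nontrivial
  obtain ⟨z, hz1⟩ := exists_ne (1 : ↥(Subgroup.center ↥(opOf r L)))
  intro h0
  have hz : ((z : ↥(opOf r L)) : G) ∈ zOf r L := by
    refine ⟨(z : ↥(opOf r L)).2, ?_⟩
    apply Subgroup.mem_centralizer_iff.mpr
    intro y hy
    have := Subgroup.mem_center_iff.mp z.2 ⟨y, hy⟩
    exact congrArg Subtype.val this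
  rw [h0, Subgroup.mem_bot] at hz
  apply hz1
  apply Subtype.ext
  apply Subtype.ext
  exact hz

theorem zOf_comm (r : ℕ) (L : Subgroup G) : ⁅zOf r L, zOf r L⁆ = ⊥ := by
  rw [Subgroup.commutator_eq_bot_iff_le_centralizer]
  exact inf_le_right.trans (Subgroup.centralizer_le inf_le_left)

/-- `Z(O_r(L)) ≤ O_r(H)` -/
theorem BPair.zOf_le (hG : IsMinSimpleOddOrder G) {H L : Subgroup G} (h : BPair H L) {r : ℕ}
    [Fact r.Prime] (hr2 : r ≠ 2) (hne : Frp r H ≠ ⊥) : zOf r L ≤ opOf r H := by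
  set Y := zOf r L with hY
  have hYD : Y ≤ Dr r H := inf_le_left.trans (h.opOf_le_Dr r)
  have hYr : IsPGroup r Y := (opOf_isPGroup r L).to_le inf_le_left
  have hFY : opOf r H ≤ Subgroup.normalizer (Y : Set G) :=
    (h.opOf_le r).trans (le_normalizer_zOf r L)
  have h1 : ⁅opOf r H, Y⁆ ≤ Y := by
    rw [Subgroup.commutator_comm]
    exact commutator_le_left_of_le_normalizer Y (opOf r H) hFY
  have hq : ⁅⁅opOf r (Dr r H), Y⁆, Y⁆ = ⊥ := by
    rw [opOf_Dr_eq hG h.hH hne]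
    have h2 : ⁅⁅opOf r H, Y⁆, Y⁆ ≤ ⁅Y, Y⁆ := Subgroup.commutator_mono h1 le_rfl
    rw [zOf_comm] at h2
    exact le_bot_iff.mp h2
  have h3 := quadratic_le_opOf hG.1 hr2 (Dr_solvable hG h.hH hne)
    (cG_Dr_le_centralizer hG h.hH hne) hYD hYr hq
  rw [opOf_Dr_eq hG h.hH hne] at h3
  exact h3

/-- `C_G(O_{r'}(F(H))) ≤ L` -/
theorem BPair.Dr_le_other (hG : IsMinSimpleOddOrder G) {H L : Subgroup G} (h : BPair H L)
    {r s : ℕ} [Fact r.Prime] [Fact s.Prime] (hs2 : s ≠ 2) (hsr : s ≠ r) (hr : opOf r H ≠ ⊥)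
    (hs : opOf s H ≠ ⊥) : Dr r H ≤ L := by
  have hneS : Frp s H ≠ ⊥ := Frp_ne_bot (Ne.symm hsr) hr
  have h1 : zOf s L ≤ opOf s H := h.zOf_le hG hs2 hneS
  have h2 : zOf s L ≠ ⊥ := zOf_ne_bot (h.ne_bot hG hs)
  have h3 : zOf s L ≤ Frp r H := h1.trans (opOf_le_Frp hsr H)
  have h4 : Dr r H ≤ Subgroup.centralizer (zOf s L : Set G) := Subgroup.centralizer_le h3
  exact le_of_centralizes hG h.hL h2 (inf_le_left.trans (BG8.opOf_le s L)) (le_normalizer_zOf s L) h4

theorem isSolvable_of_isPGroup' {r : ℕ} [Fact r.Prime] {R : Subgroup G} (hR : IsPGroup r R) :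
    Group.IsSolvable ↥R := by
  have := hR.isNilpotent
  infer_instance

/-- a Sylow `r`-subgroup of `C_G(O_{r'}(F(H)))` centralizes `O_{r'}(F(L))` -/
theorem BPair.sylow_le_Dr (hG : IsMinSimpleOddOrder G) {H L : Subgroup G} (h : BPair H L)
    {r s : ℕ} [Fact r.Prime] [Fact s.Prime] (hs2 : s ≠ 2) (hsr : s ≠ r) (hr : opOf r H ≠ ⊥)
    (hs : opOf s H ≠ ⊥) {R₁ : Subgroup G} (hR₁D : R₁ ≤ Dr r H) (hR₁ : IsPGroup r R₁) :
    R₁ ≤ Dr r L := by
  have hne : Frp r H ≠ ⊥ := Frp_ne_bot hsr hs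
  set D := Dr r H with hD
  set U := Frp r L with hU
  have hDL : D ≤ L := h.Dr_le_other hG hs2 hsr hr hs
  have hUH : U ≤ H := (Frp_le_fittingOf r L).trans h.hKH
  have hUD : U ≤ Subgroup.normalizer (D : Set G) := hUH.trans (le_normalizer_Dr r H)
  have hDU : D ≤ Subgroup.normalizer (U : Set G) := hDL.trans (le_normalizer_Frp r L)
  have hUc : (Nat.card U).Coprime r := card_Frp_coprime r L
  -- `U ∩ D` is a normal `r'`-subgroup of `D`, hence central in `D`
  have hI : U ⊓ D ≤ Subgroup.centralizer (D : Set G) := by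
    have h1 : U ⊓ D ≤ cG r D := by
      apply le_cG inf_le_right
      · exact (le_inf hDU Subgroup.le_normalizer).trans (normalizer_inf_le' _ _)
      · exact Nat.Coprime.coprime_dvd_left (Subgroup.card_dvd_of_le inf_le_left) hUc
    exact h1.trans (cG_Dr_le_centralizer hG h.hH hne)
  have h2 : ⁅U, D⁆ ≤ U ⊓ D := by
    apply le_inf
    · exact commutator_le_left_of_le_normalizer U D hDU
    · rw [Subgroup.commutator_comm]
      exact commutator_le_left_of_le_normalizer D U hUD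
  have h3 : ⁅U, R₁⁆ ≤ Subgroup.centralizer (R₁ : Set G) :=
    ((Subgroup.commutator_mono le_rfl hR₁D).trans (h2.trans hI)).trans (Subgroup.centralizer_le hR₁D)
  have h4 : ⁅⁅U, R₁⁆, R₁⁆ = ⊥ := by
    rw [Subgroup.commutator_eq_bot_iff_le_centralizer]; exact h3
  have hcop : (Nat.card R₁).Coprime (Nat.card U) := by
    obtain ⟨n, hn⟩ := IsPGroup.iff_card.mp hR₁
    rw [hn]
    exact (Nat.Coprime.pow_right n hUc).symm
  have h5 := Cfsg.Agent.S0027.result R₁ U (hR₁D.trans hDU) hcop (Or.inl (isSolvable_of_isPGroup' hR₁))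
  rw [h4] at h5
  have h6 : U ≤ Subgroup.centralizer (R₁ : Set G) :=
    Subgroup.commutator_eq_bot_iff_le_centralizer.mp h5.symm
  exact Subgroup.le_centralizer_iff.mp h6

/-- the main result on pairs -/
theorem BPair.eq (hG : IsMinSimpleOddOrder G) {H L : Subgroup G} (h : BPair H L)
    (hF2 : 2 ≤ (Nat.card (fittingOf H)).primeFactors.card) : H = L := by
  obtain ⟨r, hr, s, hs, hrs⟩ := Finset.one_lt_card.mp hF2
  have hrp : r.Prime := Nat.prime_of_mem_primeFactors hr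
  have hsp : s.Prime := Nat.prime_of_mem_primeFactors hs
  have : Fact r.Prime := ⟨hrp⟩
  have : Fact s.Prime := ⟨hsp⟩
  have hrF : opOf r H ≠ ⊥ := (opOf_ne_bot_iff H).mpr (Nat.dvd_of_mem_primeFactors hr)
  have hsF : opOf s H ≠ ⊥ := (opOf_ne_bot_iff H).mpr (Nat.dvd_of_mem_primeFactors hs)
  have hr2 : r ≠ 2 := ne_two_of_odd hG
    ((Nat.dvd_of_mem_primeFactors hr).trans (Subgroup.card_subgroup_dvd_card _))
  have hs2 : s ≠ 2 := ne_two_of_odd hG
    ((Nat.dvd_of_mem_primeFactors hs).trans (Subgroup.card_subgroup_dvd_card _))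
  have hsr : s ≠ r := Ne.symm hrs
  have hrL : opOf r L ≠ ⊥ := h.ne_bot hG hrF
  have hsL : opOf s L ≠ ⊥ := h.ne_bot hG hsF
  have hneH : Frp r H ≠ ⊥ := Frp_ne_bot hsr hsF
  have hneL : Frp r L ≠ ⊥ := Frp_ne_bot hsr hsL
  -- a common Sylow `r`-subgroup
  obtain ⟨R₁, -, hR₁⟩ := exists_sylIn_ge (p := r) (bot_le : (⊥ : Subgroup G) ≤ Dr r H)
    IsPGroup.of_bot
  have hR₁L : R₁ ≤ Dr r L := h.sylow_le_Dr hG hs2 hsr hrF hsF hR₁.1 hR₁.2.1
  obtain ⟨R₂, hR₁₂, hR₂⟩ := exists_sylIn_ge hR₁L hR₁.2.1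
  have hR₂H : R₂ ≤ Dr r H := h.symm.sylow_le_Dr hG hs2 hsr hrL hsL hR₂.1 hR₂.2.1
  have e : R₂ = R₁ := eq_of_isPGroup_of_relIndex hR₁₂ hR₂H hR₂.2.1 hR₁.2.2
  rw [e] at hR₂
  -- `ZJ(R₁)` is normal in both
  have hZH : H ≤ Subgroup.normalizer (centerThompsonAOf R₁ : Set G) :=
    le_normalizer_zj_of_normal (le_normalizer_Dr r H) hR₁
      (le_normalizer_zj_of_central hG.1 hr2 (Dr_solvable hG h.hH hneH)
        (cG_Dr_le_centralizer hG h.hH hneH) hR₁)
  have hZL : L ≤ Subgroup.normalizer (centerThompsonAOf R₁ : Set G) :=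
    le_normalizer_zj_of_normal (le_normalizer_Dr r L) hR₂
      (le_normalizer_zj_of_central hG.1 hr2 (Dr_solvable hG h.hL hneL)
        (cG_Dr_le_centralizer hG h.hL hneL) hR₂)
  have hFR : opOf r H ≤ R₁ :=
    SylIn.normal_le hR₁ (BG8.opOf_le_Dr r H)
      ((Dr_le hG h.hH hneH).trans (le_normalizer_opOf r H)) (opOf_isPGroup r H)
  have hR₁ne : R₁ ≠ ⊥ := by
    intro h0
    rw [h0] at hFR
    exact hrF (le_bot_iff.mp hFR)
  have hZne : centerThompsonAOf R₁ ≠ ⊥ := zj_ne_bot hR₁.2.1 hR₁ne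
  have hZR : centerThompsonAOf R₁ ≤ R₁ := zj_le hR₁.2.1
  have e1 := normalizer_eq_of_isCoatom hG h.hH hZne
    (hZR.trans (hR₁.1.trans (Dr_le hG h.hH hneH))) hZH
  have e2 := normalizer_eq_of_isCoatom hG h.hL hZne
    (hZR.trans (hR₂.1.trans (Dr_le hG h.hL hneL))) hZL
  rw [← e1, e2]

end Cfsg.Agent.Lib.Helper4.BG8
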