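import Mathlib
import Cfsg.Agent.Lib.Helper4.BG8g
import Cfsg.Agent.S0028

set_option autoImplicit false
open Pointwise
open scoped commutatorElement

/-! Bender–Glauberman Section 8: uniqueness for subgroups of `F(H)` containing `Z(F(H))`. -/

namespace Cfsg.Agent.Lib.Helper4.BG8

open Cfsg Cfsg.Agent.Lib.Helper4 Cfsg.Agent.Lib.Lead Cfsg.Agent.Lib.Helper6 Cfsg.Agent.Lib.Helper7
open Cfsg.Agent.Lib.Helper4.BG7 Cfsg.Agent.Lib.Helper4.BG76 Cfsg.Agent.Lib.Helper4.ThreeStep

universe u

variable {G : Type u} [Group G] [Finite G]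

/-- a `P × Q` step: `P` a nontrivial normal `p`-subgroup of the maximal subgroup `H`,
`Q` a normal `p'`-subgroup of `H`, both acting on the `p`-group `U` -/
theorem pq_step (hG : IsMinSimpleOddOrder G) {H : Subgroup G} (hH : IsCoatom H) {p : ℕ}
    [Fact p.Prime] {P Q U : Subgroup G} (hP : IsPGroup p P) (hQ : (Nat.card Q).Coprime p)
    (hU : IsPGroup p U) (hPQ : P ≤ Subgroup.centralizer (Q : Set G))
    (hPU : P ≤ Subgroup.normalizer (U : Set G)) (hQU : Q ≤ Subgroup.normalizer (U : Set G))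
    (hP1 : P ≠ ⊥) (hPH : P ≤ H) (hHP : H ≤ Subgroup.normalizer (P : Set G))
    (hHQ : H ≤ Subgroup.normalizer (Q : Set G)) : Q ≤ Subgroup.centralizer (U : Set G) := by
  apply Cfsg.Agent.S0028.result p P Q U hP hQ hU hPQ hPU hQU
  set X₀ := U ⊓ Subgroup.centralizer (P : Set G) with hX₀
  have h1 : X₀ ≤ H := le_of_centralizes hG hH hP1 hPH hHP inf_le_right
  have h2 : Q ≤ Subgroup.normalizer (X₀ : Set G) := by
    have h3 : Q ≤ Subgroup.normalizer ((Subgroup.centralizer (P : Set G) : Subgroup G) : Set G) :=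
      ((Subgroup.le_centralizer_iff.mp hPQ).trans (Subgroup.centralizer_le_normalizer _)).trans
        (BG7.normalizer_le_normalizer_centralizer _)
    exact (le_inf hQU h3).trans (normalizer_inf_le' _ _)
  have h4 : X₀ ⊓ Q = ⊥ := isPGroup_inf_coprime_eq_bot hQ (hU.to_le inf_le_left)
  exact le_centralizer_of_normalize (h1.trans hHQ) h2 h4

/-- `Z(F(H)) ∩ O_r(H)` -/
def zF (r : ℕ) (H : Subgroup G) : Subgroup G :=
  opOf r H ⊓ Subgroup.centralizer (fittingOf H : Set G)

theorem zF_le_opOf (r : ℕ) (H : Subgroup G) : zF r H ≤ opOf r H := inf_le_left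

theorem zF_isPGroup (r : ℕ) (H : Subgroup G) : IsPGroup r (zF r H) :=
  (opOf_isPGroup r H).to_le inf_le_left

theorem zF_le (r : ℕ) [Fact r.Prime] (H : Subgroup G) :
    zF r H ≤ fittingOf H ⊓ Subgroup.centralizer (fittingOf H : Set G) :=
  le_inf (inf_le_left.trans (opOf_le_fittingOf r H)) inf_le_right

theorem le_normalizer_zF (r : ℕ) (H : Subgroup G) : H ≤ Subgroup.normalizer (zF r H : Set G) := by
  have h1 := le_normalizer_opOf r H
  have h2 := (le_normalizer_fittingOf H).trans (BG7.normalizer_le_normalizer_centralizer _)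
  exact (le_inf h1 h2).trans (normalizer_inf_le' _ _)

theorem zOf_le_zF (r : ℕ) [Fact r.Prime] (H : Subgroup G) : zOf r H ≤ zF r H := by
  apply le_inf inf_le_left
  apply le_centralizer_fittingOf
  intro s hs
  have : Fact s.Prime := ⟨hs⟩
  by_cases hsr : r = s
  · rw [← hsr]; exact inf_le_right
  · exact inf_le_left.trans (opOf_comm hsr H)

theorem zF_ne_bot {r : ℕ} [Fact r.Prime] {H : Subgroup G} (h : opOf r H ≠ ⊥) : zF r H ≠ ⊥ := by
  intro h0
  have := zOf_le_zF r H
  rw [h0] at this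
  exact zOf_ne_bot h (le_bot_iff.mp this)

theorem exists_other_prime {n : ℕ} (h2 : 2 ≤ n.primeFactors.card) (s : ℕ) :
    ∃ r : ℕ, r.Prime ∧ r ∣ n ∧ r ≠ s := by
  obtain ⟨a, ha, b, hb, hab⟩ := Finset.one_lt_card.mp h2
  by_cases h : a = s
  · exact ⟨b, Nat.prime_of_mem_primeFactors hb, Nat.dvd_of_mem_primeFactors hb,
      fun hbs => hab (h.trans hbs.symm)⟩
  · exact ⟨a, Nat.prime_of_mem_primeFactors ha, Nat.dvd_of_mem_primeFactors ha, h⟩

theorem le_centralizer_bot (X : Subgroup G) :
    X ≤ Subgroup.centralizer (((⊥ : Subgroup G) : Subgroup G) : Set G) := by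
  intro x _
  apply Subgroup.mem_centralizer_iff.mpr
  intro y hy
  have hy' : y ∈ (⊥ : Subgroup G) := hy
  rw [Subgroup.mem_bot.mp hy']; simp

/-- BG Theorem 8.? : the main uniqueness statement -/
theorem unique_of_center_le (hG : IsMinSimpleOddOrder G) {H : Subgroup G} (hH : IsCoatom H)
    (hF2 : 2 ≤ (Nat.card (fittingOf H)).primeFactors.card)
    {M : Subgroup G} (hZM : fittingOf H ⊓ Subgroup.centralizer (fittingOf H : Set G) ≤ M)
    (hinv : ∀ Y ∈ invSubgroups ⊤ M (primesNotDvd (Nat.card (fittingOf H))), Y = ⊥)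
    {L : Subgroup G} (hL : IsCoatom L) (hML : M ≤ L) : L = H := by
  have hLsolv : Group.IsSolvable ↥L := solvable_of_ne_top hG hL.1
  -- (a)
  have ha : ∀ s : ℕ, s.Prime → opOf s H = ⊥ → opOf s L = ⊥ := by
    intro s hs h0
    have : Fact s.Prime := ⟨hs⟩
    apply hinv
    refine ⟨le_top, ?_, hML.trans (le_normalizer_opOf s L)⟩
    intro p hp hpd
    have hps : p = s := by
      obtain ⟨n, hn⟩ := IsPGroup.iff_card.mp (opOf_isPGroup s L)
      rw [hn] at hpd
      exact (Nat.prime_dvd_prime_iff_eq hp hs).mp (hp.dvd_of_dvd_pow hpd)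
    rw [hps]
    refine ⟨hs, ?_⟩
    intro hd
    exact (opOf_ne_bot_iff H).mpr hd h0
  have hzM : ∀ r : ℕ, r.Prime → zF r H ≤ L := by
    intro r hr
    have : Fact r.Prime := ⟨hr⟩
    exact ((zF_le r H).trans hZM).trans hML
  -- (c)
  have hc : ∀ r s : ℕ, r.Prime → s.Prime → r ≠ s → opOf r H ≠ ⊥ →
      zF r H ≤ Subgroup.centralizer (opOf s L : Set G) := by
    intro r s hr hs hrs hrF
    have : Fact r.Prime := ⟨hr⟩
    have : Fact s.Prime := ⟨hs⟩
    by_cases hsF : opOf s H = ⊥
    · rw [ha s hs hsF]; exact le_centralizer_bot _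
    · apply pq_step hG hH (p := s) (P := zF s H) (zF_isPGroup s H)
        (coprime_of_isPGroup_ne hrs (zF_isPGroup r H)) (opOf_isPGroup s L)
      · rw [Subgroup.le_centralizer_iff]
        exact inf_le_right.trans (Subgroup.centralizer_le
          (inf_le_left.trans (opOf_le_fittingOf s H)))
      · exact (hzM s hs).trans (le_normalizer_opOf s L)
      · exact (hzM r hr).trans (le_normalizer_opOf s L)
      · exact zF_ne_bot hsF
      · exact inf_le_left.trans (BG8.opOf_le s H)
      · exact le_normalizer_zF s H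
      · exact le_normalizer_zF r H
  -- (c')
  have hKs : ∀ s : ℕ, s.Prime → opOf s L ≤ H := by
    intro s hs
    obtain ⟨r, hr, hrd, hrs⟩ := exists_other_prime hF2 s
    have : Fact r.Prime := ⟨hr⟩
    have hrF : opOf r H ≠ ⊥ := (opOf_ne_bot_iff H).mpr hrd
    have h1 := Subgroup.le_centralizer_iff.mp (hc r s hr hs hrs hrF)
    exact le_of_centralizes hG hH (zF_ne_bot hrF) (inf_le_left.trans (BG8.opOf_le r H))
      (le_normalizer_zF r H) h1
  have hKH : fittingOf L ≤ H := by
    rw [fittingOf_eq_iSup]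
    apply iSup_le
    intro p
    exact hKs p p.2
  -- (d)
  have hd : ∀ r : ℕ, r.Prime → opOf r H ≠ ⊥ → opOf r L ≠ ⊥ := by
    intro r hr hrF h0
    have : Fact r.Prime := ⟨hr⟩
    have h1 : zF r H ≤ Subgroup.centralizer (fittingOf L : Set G) := by
      apply le_centralizer_fittingOf
      intro s hs
      by_cases hrs : r = s
      · rw [← hrs, h0]; exact le_centralizer_bot _
      · exact hc r s hr hs hrs hrF
    have h2 : zF r H ≤ fittingOf L :=
      (le_inf (hzM r hr) h1).trans (centralizer_fittingOf_le hLsolv)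
    have h3 := le_opOf_of_le_fittingOf h2 (zF_isPGroup r H)
    rw [h0] at h3
    exact zF_ne_bot hrF (le_bot_iff.mp h3)
  -- (e)
  have he : ∀ r : ℕ, r.Prime → opOf r H ≤ L := by
    intro r hr
    have : Fact r.Prime := ⟨hr⟩
    by_cases hrF : opOf r H = ⊥
    · rw [hrF]; exact bot_le
    · obtain ⟨s, hs, hsd, hsr⟩ := exists_other_prime hF2 r
      have : Fact s.Prime := ⟨hs⟩
      have hsF : opOf s H ≠ ⊥ := (opOf_ne_bot_iff H).mpr hsd
      have hsL := hd s hs hsF
      have hrL := hd r hr hrF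
      have h1 : opOf s L ≤ Subgroup.centralizer (opOf r H : Set G) := by
        apply pq_step hG hL (p := r) (P := opOf r L) (opOf_isPGroup r L)
          (coprime_of_isPGroup_ne hsr (opOf_isPGroup s L)) (opOf_isPGroup r H)
        · exact opOf_comm (Ne.symm hsr) L
        · exact (hKs r hr).trans (le_normalizer_opOf r H)
        · exact (hKs s hs).trans (le_normalizer_opOf r H)
        · exact hrL
        · exact BG8.opOf_le r L
        · exact le_normalizer_opOf r L
        · exact le_normalizer_opOf s L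
      exact le_of_centralizes hG hL hsL (BG8.opOf_le s L) (le_normalizer_opOf s L)
        (Subgroup.le_centralizer_iff.mp h1)
  have hFL : fittingOf H ≤ L := by
    rw [fittingOf_eq_iSup]
    apply iSup_le
    intro p
    exact he p p.2
  exact (BPair.eq hG ⟨hH, hL, hFL, hKH⟩ hF2).symm

end Cfsg.Agent.Lib.Helper4.BG8
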