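import Mathlib
import Cfsg.Agent.Lib.Helper4.BG8h
import Cfsg.Agent.Lib.Helper4.PiCore
import Cfsg.Agent.Lib.Lead.Thom1
import Cfsg.Agent.S0026

set_option autoImplicit false
open Pointwise
open scoped commutatorElement

/-! Bender–Glauberman Section 8: invariant subgroups on which every Sylow subgroup of a nilpotent
group acts without fixed points lie in the `π'`-core. -/

namespace Cfsg.Agent.Lib.Helper4.BG8

open Cfsg Cfsg.Agent.Lib.Helper4 Cfsg.Agent.Lib.Lead Cfsg.Agent.Lib.Helper6 Cfsg.Agent.Lib.Helper7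
open Cfsg.Agent.Lib.Helper4.BG7 Cfsg.Agent.Lib.Helper4.BG76 Cfsg.Agent.Lib.Helper4.ThreeStep

universe u

theorem le_piCore_of_fpf {Y : Type u} [Group Y] [Finite Y] [Group.IsSolvable Y]
    {π' : Set ℕ} {T : Set ℕ} (A R : ℕ → Subgroup Y)
    (hT : ∀ s ∈ T, s.Prime) (hT' : ∀ s ∈ T, s ∉ π') (hcompl : ∀ q : ℕ, q.Prime → q ∉ T → q ∈ π')
    (hT2 : ∀ s ∈ T, ∃ r ∈ T, r ≠ s)
    (hA : ∀ s ∈ T, IsPGroup s (A s)) (hR : ∀ r ∈ T, IsPGroup r (R r))
    (hAcomm : ∀ r ∈ T, ∀ s ∈ T, r ≠ s → A s ≤ Subgroup.centralizer (A r : Set Y))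
    (hCR : ∀ r ∈ T, ∀ s ∈ T, r ≠ s → ∀ c ∈ Subgroup.centralizer (A s : Set Y), ∀ a ∈ A r,
      c * a * c⁻¹ * a⁻¹ ∈ R r)
    {X : Subgroup Y} (hXπ : IsPiNum π' (Nat.card X))
    (hAX : ∀ s ∈ T, A s ≤ Subgroup.normalizer (X : Set Y))
    (hfpf : ∀ r ∈ T, X ⊓ Subgroup.centralizer (A r : Set Y) = ⊥) :
    X ≤ Cfsg.piCore π' Y := by
  set N := Cfsg.piCore π' Y with hN
  set φ := QuotientGroup.mk' N with hφ
  have hφs : Function.Surjective φ := QuotientGroup.mk'_surjective N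
  have hNπ : IsPiNum π' (Nat.card N) := isPiNum_card_piCore π'
  have hNs : ∀ s ∈ T, (Nat.card N).Coprime s := by
    intro s hs
    apply Nat.Coprime.symm
    rw [Nat.Prime.coprime_iff_not_dvd (hT s hs)]
    intro hd
    exact hT' s hs (hNπ s (hT s hs) hd)
  have hred : Cfsg.piCore π' (Y ⧸ N) = ⊥ := piCore_quotient_piCore π'
  -- Step A
  have hA0 : ∀ q : ℕ, q.Prime → q ∉ T → Cfsg.pCore q (Y ⧸ N) = ⊥ := by
    intro q hq hqT
    have : Fact q.Prime := ⟨hq⟩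
    have h1 : Cfsg.pCore q (Y ⧸ N) ≤ Cfsg.piCore π' (Y ⧸ N) := by
      apply le_piCore (Lead.pCore_normal q)
      obtain ⟨n, hn⟩ := IsPGroup.iff_card.mp (Lead.pCore_isPGroup (G := Y ⧸ N) q)
      rw [hn]
      exact IsPiNum.pow (hcompl q hq hqT) hq n
    rw [hred] at h1
    exact le_bot_iff.mp h1
  -- Step B
  have hB : ∀ s ∈ T, ∀ r ∈ T, r ≠ s →
      (A r).map φ ≤ Subgroup.centralizer (Cfsg.pCore s (Y ⧸ N) : Set (Y ⧸ N)) := by
    intro s hs r hr hrs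
    have : Fact s.Prime := ⟨hT s hs⟩
    have : Fact r.Prime := ⟨hT r hr⟩
    have hUn : (Cfsg.pCore s (Y ⧸ N)).Normal := Lead.pCore_normal s
    have hNtop : Subgroup.normalizer ((Cfsg.pCore s (Y ⧸ N) : Subgroup (Y ⧸ N)) : Set (Y ⧸ N)) = ⊤ :=
      Subgroup.normalizer_eq_top_iff.mpr hUn
    apply Cfsg.Agent.S0028.result s ((A s).map φ) ((A r).map φ) (Cfsg.pCore s (Y ⧸ N))
      ((hA s hs).map φ) (coprime_of_isPGroup_ne hrs ((hA r hr).map φ)) (Lead.pCore_isPGroup s)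
    · rintro _ ⟨a, ha, rfl⟩
      apply Subgroup.mem_centralizer_iff.mpr
      rintro _ ⟨b, hb, rfl⟩
      have := Subgroup.mem_centralizer_iff.mp (hAcomm r hr s hs hrs ha) b hb
      rw [← map_mul, ← map_mul, this]
    · rw [hNtop]; exact le_top
    · rw [hNtop]; exact le_top
    · rintro cb ⟨hcU, hcC⟩
      have hcC' : cb ∈ Subgroup.centralizer (((A s).map φ : Subgroup (Y ⧸ N)) : Set (Y ⧸ N)) := hcC
      rw [Thom.centralizer_map_mk N (hNs s hs) (A s) (hA s hs)] at hcC'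
      obtain ⟨c, hc, rfl⟩ := hcC'
      apply Subgroup.mem_centralizer_iff.mpr
      rintro _ ⟨a, ha, rfl⟩
      have hw := hCR r hr s hs hrs c hc a ha
      have h1 : φ (c * a * c⁻¹ * a⁻¹) ∈ (R r).map φ := ⟨_, hw, rfl⟩
      have h2 : φ (c * a * c⁻¹ * a⁻¹) ∈ Cfsg.pCore s (Y ⧸ N) := by
        have e : φ (c * a * c⁻¹ * a⁻¹) = φ c * (φ a * (φ c)⁻¹ * (φ a)⁻¹) := by
          simp only [map_mul, map_inv]; group
        rw [e]
        exact Subgroup.mul_mem _ hcU (hUn.conj_mem _ (Subgroup.inv_mem _ hcU) _)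
      have h3 : (R r).map φ ⊓ Cfsg.pCore s (Y ⧸ N) = ⊥ :=
        inf_eq_bot_of_ne hrs ((hR r hr).map φ) (Lead.pCore_isPGroup s)
      have h4 : φ (c * a * c⁻¹ * a⁻¹) = 1 := by
        have : φ (c * a * c⁻¹ * a⁻¹) ∈ (R r).map φ ⊓ Cfsg.pCore s (Y ⧸ N) := ⟨h1, h2⟩
        rw [h3] at this
        exact Subgroup.mem_bot.mp this
      have h5 : φ c * φ a * (φ c)⁻¹ * (φ a)⁻¹ = 1 := by
        rw [← h4]; simp only [map_mul, map_inv]
      have h6 : φ c * φ a = φ a * φ c := by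
        have h7 : φ c * φ a * (φ c)⁻¹ * (φ a)⁻¹ * (φ a * φ c) = φ a * φ c := by
          rw [h5, one_mul]
        rw [← h7]; group
      exact h6.symm
  -- Step C
  have hC : ∀ r ∈ T, ⁅X, A r⁆ = X := by
    intro r hr
    have : Fact r.Prime := ⟨hT r hr⟩
    have hcop : (Nat.card (A r)).Coprime (Nat.card X) := by
      obtain ⟨n, hn⟩ := IsPGroup.iff_card.mp (hA r hr)
      rw [hn]
      apply Nat.Coprime.pow_left
      rw [Nat.Prime.coprime_iff_not_dvd (hT r hr)]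
      intro hd
      exact hT' r hr (hXπ r (hT r hr) hd)
    have h1 := Cfsg.Agent.S0026.result (A r) X (hAX r hr) hcop
      (Or.inl (isSolvable_of_isPGroup' (hA r hr)))
    rw [hfpf r hr, sup_bot_eq] at h1
    exact h1
  -- Step D
  have hD : ∀ s ∈ T, X.map φ ≤ Subgroup.centralizer (Cfsg.pCore s (Y ⧸ N) : Set (Y ⧸ N)) := by
    intro s hs
    obtain ⟨r, hr, hrs⟩ := hT2 s hs
    have hUn : (Cfsg.pCore s (Y ⧸ N)).Normal := Lead.pCore_normal s
    have hCn : (Subgroup.centralizer (Cfsg.pCore s (Y ⧸ N) : Set (Y ⧸ N))).Normal :=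
      Subgroup.normal_centralizer
    have h1 : X.map φ = ⁅X.map φ, (A r).map φ⁆ := by
      rw [← Subgroup.map_commutator, hC r hr]
    rw [h1]
    exact (Subgroup.commutator_mono le_rfl (hB s hs r hr hrs)).trans (Subgroup.commutator_le_right _ _)
  -- Step E
  have hE : X.map φ ≤ Subgroup.centralizer (Cfsg.fittingSubgroup (Y ⧸ N) : Set (Y ⧸ N)) := by
    rw [Subgroup.le_centralizer_iff, Lead.fittingSubgroup_eq_iSup_pCore]
    apply iSup_le
    intro q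
    by_cases hqT : (q : ℕ) ∈ T
    · rw [← Subgroup.le_centralizer_iff]; exact hD q hqT
    · rw [hA0 q q.2 hqT]; exact bot_le
  have hF : X.map φ ≤ Cfsg.fittingSubgroup (Y ⧸ N) := hE.trans Cfsg.Agent.S0044.result
  -- Step G
  have hG' : X.map φ = ⊥ := by
    by_contra hne
    have hcard : Nat.card (X.map φ) ≠ 1 := fun h => hne (Subgroup.card_eq_one.mp h)
    obtain ⟨q, hq, hqd⟩ := Nat.exists_prime_and_dvd hcard
    have : Fact q.Prime := ⟨hq⟩
    have hqπ : q ∈ π' := hXπ q hq (hqd.trans (Subgroup.card_map_dvd X φ))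
    have hqT : q ∉ T := fun h => hT' q h hqπ
    obtain ⟨x, hx⟩ := exists_prime_orderOf_dvd_card' (G := ↥(X.map φ)) q hqd
    have hxo : orderOf (x : Y ⧸ N) = q := by rw [Subgroup.orderOf_coe]; exact hx
    have hz : IsPGroup q (Subgroup.zpowers (x : Y ⧸ N)) := by
      rw [IsPGroup.iff_card, Nat.card_zpowers, hxo]; exact ⟨1, (pow_one q).symm⟩
    have h2 : Subgroup.zpowers (x : Y ⧸ N) ≤ Cfsg.pCore q (Y ⧸ N) :=
      le_pCore_of_le_fitting ((Subgroup.zpowers_le.mpr x.2).trans hF) hz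
    rw [hA0 q hq hqT] at h2
    have h3 : (x : Y ⧸ N) = 1 := Subgroup.mem_bot.mp (h2 (Subgroup.mem_zpowers _))
    rw [h3, orderOf_one] at hxo
    exact hq.one_lt.ne hxo
  intro x hx
  have h1 : φ x ∈ X.map φ := ⟨x, hx, rfl⟩
  rw [hG', Subgroup.mem_bot] at h1
  exact (QuotientGroup.eq_one_iff x).mp h1

end Cfsg.Agent.Lib.Helper4.BG8
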