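import Mathlib
import Cfsg.Agent.Lib.Helper4.BG8i
import Cfsg.Agent.Lib.Helper8.Fitting
import Cfsg.Agent.S0023

set_option autoImplicit false
open Pointwise
open scoped commutatorElement

/-! Bender–Glauberman Section 8: from transitivity to the triviality of invariant subgroups. -/

namespace Cfsg.Agent.Lib.Helper4.BG8

open Cfsg Cfsg.Agent.Lib.Helper4 Cfsg.Agent.Lib.Lead Cfsg.Agent.Lib.Helper6 Cfsg.Agent.Lib.Helper7
open Cfsg.Agent.Lib.Helper4.BG7 Cfsg.Agent.Lib.Helper4.BG76 Cfsg.Agent.Lib.Helper4.ThreeStep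

universe u

variable {G : Type u} [Group G] [Finite G]

theorem isPGroup_ne_top (hG : IsMinSimpleOddOrder G) {q : ℕ} [Fact q.Prime] {Q : Subgroup G}
    (hQ : IsPGroup q Q) : Q ≠ ⊤ := by
  intro h0
  have hsimp := hG.2.1
  have hGp : IsPGroup q G := by
    intro g
    obtain ⟨k, hk⟩ := hQ ⟨g, by rw [h0]; trivial⟩
    exact ⟨k, by simpa using congrArg Subtype.val hk⟩
  apply hG.2.2.1
  have hc : Subgroup.center G ≠ ⊥ := by
    have : Nontrivial G := hsimp.toNontrivial
    exact (Subgroup.nontrivial_iff_ne_bot _).mp hGp.center_nontrivial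
  rcases (Subgroup.Normal.eq_bot_or_eq_top (inferInstance : (Subgroup.center G).Normal)) with h1 | h1
  · exact absurd h1 hc
  · exact ⟨⟨fun a b => by
      have : a ∈ Subgroup.center G := by rw [h1]; trivial
      exact ((Subgroup.mem_center_iff.mp this) b).symm⟩⟩

theorem eq_one_of_isPiNum_of_dvd {n m : ℕ} (h : IsPiNum (primesNotDvd m) n) (hd : n ∣ m) : n = 1 := by
  by_contra hne
  obtain ⟨q, hq, hqd⟩ := Nat.exists_prime_and_dvd hne
  exact (h q hq hqd).2 (hqd.trans hd)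

/-- the centralizer of `F(M)` in `G` lies in `F(M)` -/
theorem centralizer_fittingOf_le' (hG : IsMinSimpleOddOrder G) {M : Subgroup G} (hM : IsCoatom M)
    (hF1 : fittingOf M ≠ ⊥) : Subgroup.centralizer (fittingOf M : Set G) ≤ fittingOf M := by
  have h1 : Subgroup.centralizer (fittingOf M : Set G) ≤ M :=
    le_of_centralizes hG hM hF1 (fittingOf_le M) (le_normalizer_fittingOf M) le_rfl
  exact (le_inf h1 le_rfl).trans (centralizer_fittingOf_le (solvable_of_ne_top hG hM.1))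

/-- Lemma E -/
theorem inv_eq_bot_of_transitive (hG : IsMinSimpleOddOrder G) {M : Subgroup G} (hM : IsCoatom M)
    {A : Subgroup G} (hAF : A ≤ fittingOf M)
    (hπ : ∀ r : ℕ, r.Prime → r ∣ Nat.card (fittingOf M) → r ∣ Nat.card A)
    (hTH : TransitivityHypothesis A)
    (htr : ∀ q : ℕ, q.Prime → ¬ q ∣ Nat.card A → Transitive A q) :
    ∀ Y ∈ invSubgroups ⊤ A (cpi A), Y = ⊥ := by
  set F := fittingOf M with hF
  have hF1 : F ≠ ⊥ := fun h0 => hTH.1 (le_bot_iff.mp (h0 ▸ hAF))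
  have hFtop : F ≠ ⊤ := fun h0 => hM.1 (eq_top_iff.mpr (h0 ▸ fittingOf_le M))
  have hnil : Group.IsNilpotent ↥F := isNilpotent_fittingOf M
  have hsn : (A.subgroupOf F).IsSubnormal := Cfsg.Agent.Lib.Helper8.isSubnormal_of_isNilpotent _
  have hAsolv : Group.IsSolvable ↥A := by
    have : Group.IsNilpotent ↥A := isNilpotent_of_le hnil hAF
    infer_instance
  -- step 1 : for each `q`, the only `A`-invariant `q`-subgroup is trivial
  have hq : ∀ q : ℕ, q.Prime → ¬ q ∣ Nat.card A → ∀ Y ∈ invSubgroups ⊤ A {q}, Y = ⊥ := by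
    intro q hqp hqA Y hY
    have : Fact q.Prime := ⟨hqp⟩
    obtain ⟨-, hcpi, htrF, hsub⟩ := theorem_7_5 hG hTH hqp hqA hFtop hπ hAF hsn (htr q hqp hqA)
    have hKA : KA F = ⊥ := by
      have h1 : KA F ≤ F := (piCoreOf_le _ _).trans (centralizer_fittingOf_le' hG hM hF1)
      have h2 : IsPiNum (cpi F) (Nat.card (KA F)) := isPiNum_card_piCoreOf _ _
      have h3 := eq_one_of_isPiNum_of_dvd h2 (Subgroup.card_dvd_of_le h1)
      exact Subgroup.card_eq_one.mp h3
    obtain ⟨Q, hQ, -⟩ := exists_maxInv_ge (bot_mem_inv F {q})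
    have hMQ : M ≤ Subgroup.normalizer (Q : Set G) := by
      intro m hm
      have h1 := map_conj_mem_maxInv' (le_normalizer_fittingOf M hm) hQ
      obtain ⟨k, hk, hkQ⟩ := htrF Q hQ _ h1
      rw [hKA, Subgroup.mem_bot] at hk
      rw [hk, map_one] at hkQ
      have h2 : Q.map (MulAut.conj m).toMonoidHom = Q := by
        rw [hkQ]; exact (Subgroup.map_id Q)
      exact mem_normalizer_of_map_conj_eq h2
    have hQq : IsPGroup q Q := isPGroup_of_mem_maxInv hQ
    have hQ0 : Q = ⊥ := by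
      by_contra hne
      have h1 := normalizer_ne_top hG hne (isPGroup_ne_top hG hQq)
      have h2 : Subgroup.normalizer (Q : Set G) = M := by
        by_contra h3
        exact h1 (hM.2 _ (lt_of_le_of_ne hMQ (Ne.symm h3)))
      have hQM : Q ≤ M := by rw [← h2]; exact Subgroup.le_normalizer
      have h4 : Q ≤ opOf q M := le_opOf hQM hMQ hQq
      have h5 : opOf q M ≠ ⊥ := fun h0 => hne (le_bot_iff.mp (h0 ▸ h4))
      exact hqA (hπ q hqp ((opOf_ne_bot_iff M).mp h5))
    have hbot : (⊥ : Subgroup G) ∈ maxInvSubgroups ⊤ A {q} := by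
      apply hsub
      rw [← hQ0]; exact hQ
    obtain ⟨Q', hQ', hYQ'⟩ := exists_maxInv_ge hY
    obtain ⟨k, -, hkQ⟩ := htr q hqp hqA ⊥ hbot Q' hQ'
    rw [Subgroup.map_bot] at hkQ
    rw [hkQ] at hYQ'
    exact le_bot_iff.mp hYQ'
  -- step 2
  intro Y hY
  by_contra hne
  have hcard : Nat.card Y ≠ 1 := fun h => hne (Subgroup.card_eq_one.mp h)
  obtain ⟨q, hqp, hqd⟩ := Nat.exists_prime_and_dvd hcard
  have : Fact q.Prime := ⟨hqp⟩
  have hqA : ¬ q ∣ Nat.card A := (hY.2.1 q hqp hqd).2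
  have hcop : (Nat.card A).Coprime (Nat.card Y) := coprime_of_isPiNum A hY.2.1
  obtain ⟨P, hP⟩ := Cfsg.Agent.S0023.result A Y hY.2.2 hcop (Or.inl hAsolv) q
  have h1 : (P : Subgroup ↥Y).map Y.subtype ∈ invSubgroups ⊤ A {q} :=
    ⟨le_top, isPiNum_singleton_of_isPGroup (P.isPGroup'.map _), hP⟩
  have h2 := hq q hqp hqA _ h1
  have h3 : (P : Subgroup ↥Y) = ⊥ := (Subgroup.map_eq_bot_iff_of_injective _ Y.subtype_injective).mp h2
  have h4 : Nat.card (P : Subgroup ↥Y) = 1 := by rw [h3]; exact Subgroup.card_bot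
  rw [Sylow.card_eq_multiplicity] at h4
  have h5 : (Nat.card ↥Y).factorization q = 0 := by
    by_contra h6
    have : 1 < q ^ (Nat.card ↥Y).factorization q := Nat.one_lt_pow h6 hqp.one_lt
    omega
  have h7 := (Nat.factorization_eq_zero_iff _ _).mp h5
  rcases h7 with h7 | h7 | h7
  · exact h7 hqp
  · exact h7 hqd
  · exact Nat.card_pos.ne' h7

end Cfsg.Agent.Lib.Helper4.BG8
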