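import Mathlib
import Cfsg.Agent.Lib.Helper4.BG8j

set_option autoImplicit false
open Pointwise
open scoped commutatorElement

/-! Bender–Glauberman Section 8: `F(M) ∩ C_G(A₀)` when `F(M)` is not a `p`-group. -/

namespace Cfsg.Agent.Lib.Helper4.BG8

open Cfsg Cfsg.Agent.Lib.Helper4 Cfsg.Agent.Lib.Lead Cfsg.Agent.Lib.Helper6 Cfsg.Agent.Lib.Helper7
open Cfsg.Agent.Lib.Helper4.BG7 Cfsg.Agent.Lib.Helper4.BG76 Cfsg.Agent.Lib.Helper4.ThreeStep

universe u

variable {G : Type u} [Group G] [Finite G]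

theorem le_centralizer_of_normalize' {X D U : Subgroup G}
    (hD : D ≤ Subgroup.normalizer (X : Set G)) (hDU : D ≤ U)
    (hX : X ≤ Subgroup.normalizer (U : Set G)) (h : X ⊓ U = ⊥) :
    X ≤ Subgroup.centralizer (D : Set G) := by
  intro x hx
  apply Subgroup.mem_centralizer_iff.mpr
  intro d hd
  have hd' : d ∈ D := hd
  have h1 : x * d * x⁻¹ * d⁻¹ ∈ X ⊓ U := by
    constructor
    · have h2 : d * x⁻¹ * d⁻¹ ∈ X := (Subgroup.mem_normalizer_iff.mp (hD hd') x⁻¹).mp (X.inv_mem hx)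
      have e : x * d * x⁻¹ * d⁻¹ = x * (d * x⁻¹ * d⁻¹) := by group
      rw [e]; exact X.mul_mem hx h2
    · have h2 : x * d * x⁻¹ ∈ U := (Subgroup.mem_normalizer_iff.mp (hX hx) d).mp (hDU hd')
      exact U.mul_mem h2 (U.inv_mem (hDU hd'))
  rw [h, Subgroup.mem_bot] at h1
  have h3 : x * d * x⁻¹ * d⁻¹ * (d * x) = d * x := by rw [h1, one_mul]
  rw [← h3]; group

theorem isPGroup_of_elementary {p : ℕ} {E : Subgroup G} (hE : IsElementaryAbelian p E) :
    IsPGroup p E := by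
  intro g
  refine ⟨1, ?_⟩
  rw [pow_one]
  exact Subtype.ext (by simpa using hE.2 g.1 g.2)

theorem le_centralizer_self_of_elementary {p : ℕ} {E : Subgroup G} (hE : IsElementaryAbelian p E) :
    E ≤ Subgroup.centralizer (E : Set G) := by
  intro x hx
  apply Subgroup.mem_centralizer_iff.mpr
  intro y hy
  have := hE.1.is_comm.comm ⟨y, hy⟩ ⟨x, hx⟩
  exact congrArg Subtype.val this

theorem not_pRankLE_of_elementary {p k : ℕ} {Z E : Subgroup G} (hEZ : E ≤ Z)
    (hE : IsElementaryAbelian p E) (hcard : p ^ k < Nat.card E) : ¬ PRankLE p k ↥Z := by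
  intro h
  have h1 := h (E.subgroupOf Z) ?_ ?_
  · rw [card_subgroupOf_of_le hEZ] at h1
    omega
  · refine ⟨⟨?_⟩⟩
    rintro ⟨a, ha⟩ ⟨b, hb⟩
    apply Subtype.ext
    rw [Subgroup.mem_subgroupOf] at ha hb
    have := hE.1.is_comm.comm ⟨a.1, ha⟩ ⟨b.1, hb⟩
    have h2 : (a : G) * b = b * a := congrArg Subtype.val this
    exact Subtype.ext h2
  · intro a ha
    rw [Subgroup.mem_subgroupOf] at ha
    exact Subtype.ext (by simpa using hE.2 a.1 ha)

/-- the subgroup `F(M) ∩ C_G(A₀)` -/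
def AA (M A₀ : Subgroup G) : Subgroup G := fittingOf M ⊓ Subgroup.centralizer (A₀ : Set G)

structure SetupA (M : Subgroup G) (p : ℕ) (A₀ : Subgroup G) : Prop where
  hG : IsMinSimpleOddOrder G
  hM : IsCoatom M
  hA₀ : A₀ ≤ fittingOf M
  hA₀e : IsElementaryAbelian p A₀
  hA₀3 : p ^ 3 ≤ Nat.card A₀
  hnp : ¬ IsPGroup p ↥(fittingOf M)

namespace SetupA

variable {M A₀ : Subgroup G} {p : ℕ} [hp : Fact p.Prime]

theorem A₀_le_opOf (h : SetupA M p A₀) : A₀ ≤ opOf p M :=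
  le_opOf_of_le_fittingOf h.hA₀ (isPGroup_of_elementary h.hA₀e)

theorem A₀_le (h : SetupA M p A₀) : A₀ ≤ AA M A₀ :=
  le_inf h.hA₀ (le_centralizer_self_of_elementary h.hA₀e)

theorem AA_le_F (_h : SetupA M p A₀) : AA M A₀ ≤ fittingOf M := inf_le_left

theorem AA_le_M (_h : SetupA M p A₀) : AA M A₀ ≤ M := inf_le_left.trans (fittingOf_le M)

theorem card_A₀_gt (h : SetupA M p A₀) : p ^ 2 < Nat.card A₀ := by
  have h1 : p ^ 2 < p ^ 3 := Nat.pow_lt_pow_right hp.out.one_lt (by norm_num)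
  exact lt_of_lt_of_le h1 h.hA₀3

theorem A₀_ne_bot (h : SetupA M p A₀) : A₀ ≠ ⊥ := by
  intro h0
  have h1 := h.card_A₀_gt
  rw [h0, Subgroup.card_bot] at h1
  have := Nat.one_le_pow 2 p hp.out.pos
  omega

theorem opOf_le_AA (h : SetupA M p A₀) {s : ℕ} [Fact s.Prime] (hsp : s ≠ p) :
    opOf s M ≤ AA M A₀ :=
  le_inf (opOf_le_fittingOf s M)
    ((opOf_comm hsp M).trans (Subgroup.centralizer_le h.A₀_le_opOf))

theorem zOf_le_AA (h : SetupA M p A₀) (s : ℕ) [Fact s.Prime] : zOf s M ≤ AA M A₀ ⊓ opOf s M := by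
  refine le_inf (le_inf ?_ ?_) inf_le_left
  · exact inf_le_left.trans (opOf_le_fittingOf s M)
  · exact ((zOf_le_zF s M).trans inf_le_right).trans (Subgroup.centralizer_le h.hA₀)

theorem dvd_card_AA (h : SetupA M p A₀) {r : ℕ} (hr : r.Prime)
    (hd : r ∣ Nat.card (fittingOf M)) : r ∣ Nat.card (AA M A₀) := by
  have : Fact r.Prime := ⟨hr⟩
  by_cases hrp : r = p
  · rw [hrp]
    have h1 : p ∣ Nat.card A₀ := by
      rcases (isPGroup_of_elementary h.hA₀e).card_eq_or_dvd with h2 | h2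
      · exact absurd (Subgroup.card_eq_one.mp h2) h.A₀_ne_bot
      · exact h2
    exact h1.trans (Subgroup.card_dvd_of_le h.A₀_le)
  · have h1 : opOf r M ≠ ⊥ := (opOf_ne_bot_iff M).mpr hd
    have h2 : r ∣ Nat.card (opOf r M) := by
      rcases (opOf_isPGroup r M).card_eq_or_dvd with h2 | h2
      · exact absurd (Subgroup.card_eq_one.mp h2) h1
      · exact h2
    exact h2.trans (Subgroup.card_dvd_of_le (h.opOf_le_AA hrp))

theorem AA_ne_bot (h : SetupA M p A₀) : AA M A₀ ≠ ⊥ := fun h0 =>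
  h.A₀_ne_bot (le_bot_iff.mp (h0 ▸ h.A₀_le))

theorem AA_ne_top (h : SetupA M p A₀) : AA M A₀ ≠ ⊤ := fun h0 =>
  h.hM.1 (eq_top_iff.mpr (h0 ▸ h.AA_le_M))

theorem exists_other (h : SetupA M p A₀) : ∃ r : ℕ, r.Prime ∧ r ≠ p ∧ opOf r M ≠ ⊥ := by
  by_contra hcon
  push Not at hcon
  apply h.hnp
  have h1 : fittingOf M ≤ opOf p M := by
    rw [fittingOf_eq_iSup]
    apply iSup_le
    intro r
    by_cases hrp : (r : ℕ) = p
    · rw [hrp]
    · rw [hcon r r.2 hrp]; exact bot_le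
  exact (opOf_isPGroup p M).to_le h1

theorem opOf_p_ne_bot (h : SetupA M p A₀) : opOf p M ≠ ⊥ := fun h0 =>
  h.A₀_ne_bot (le_bot_iff.mp (h0 ▸ h.A₀_le_opOf))

theorem two_le (h : SetupA M p A₀) : 2 ≤ (Nat.card (fittingOf M)).primeFactors.card := by
  obtain ⟨r, hr, hrp, hrF⟩ := h.exists_other
  have : Fact r.Prime := ⟨hr⟩
  apply Finset.one_lt_card.mpr
  refine ⟨p, ?_, r, ?_, Ne.symm hrp⟩
  · exact Nat.mem_primeFactors.mpr ⟨hp.out, (opOf_ne_bot_iff M).mp h.opOf_p_ne_bot, Nat.card_pos.ne'⟩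
  · exact Nat.mem_primeFactors.mpr ⟨hr, (opOf_ne_bot_iff M).mp hrF, Nat.card_pos.ne'⟩

/-- (i) -/
theorem centralizer_le (h : SetupA M p A₀) {s : ℕ} [Fact s.Prime] (hs : opOf s M ≠ ⊥) :
    Subgroup.centralizer ((AA M A₀ ⊓ opOf s M : Subgroup G) : Set G) ≤ M :=
  le_of_centralizes h.hG h.hM (zOf_ne_bot hs) (inf_le_left.trans (BG8.opOf_le s M))
    (le_normalizer_zOf s M) (Subgroup.centralizer_le (h.zOf_le_AA s))

theorem inf_opOf_eq_bot (h : SetupA M p A₀) {X : Subgroup G}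
    (hXπ : IsPiNum (cpi (AA M A₀)) (Nat.card X)) (s : ℕ) [hs : Fact s.Prime] :
    X ⊓ opOf s M = ⊥ := by
  by_cases h0 : opOf s M = ⊥
  · rw [h0]; exact inf_bot_eq _
  · have h1 : s ∣ Nat.card (AA M A₀) := h.dvd_card_AA hs.out ((opOf_ne_bot_iff M).mp h0)
    have h2 : (Nat.card X).Coprime s := by
      apply Nat.Coprime.symm
      rw [Nat.Prime.coprime_iff_not_dvd hs.out]
      intro hd
      exact (hXπ s hs.out hd).2 h1
    rw [inf_comm]
    exact isPGroup_inf_coprime_eq_bot h2 (opOf_isPGroup s M)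

/-- (ii) -/
theorem inv_in_M_eq_bot (h : SetupA M p A₀) {X : Subgroup G} (hXM : X ≤ M)
    (hAX : AA M A₀ ≤ Subgroup.normalizer (X : Set G))
    (hXπ : IsPiNum (cpi (AA M A₀)) (Nat.card X)) : X = ⊥ := by
  have hXs : ∀ s : ℕ, s.Prime → s ≠ p → X ≤ Subgroup.centralizer (opOf s M : Set G) := by
    intro s hs hsp
    have : Fact s.Prime := ⟨hs⟩
    exact le_centralizer_of_normalize (hXM.trans (le_normalizer_opOf s M))
      ((h.opOf_le_AA hsp).trans hAX) (h.inf_opOf_eq_bot hXπ s)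
  set D := opOf p M ⊓ Subgroup.centralizer (A₀ : Set G) with hD
  have hDA : D ≤ AA M A₀ := le_inf (inf_le_left.trans (opOf_le_fittingOf p M)) inf_le_right
  have hXD : X ≤ Subgroup.centralizer (D : Set G) :=
    le_centralizer_of_normalize' (hDA.trans hAX) inf_le_left
      (hXM.trans (le_normalizer_opOf p M)) (h.inf_opOf_eq_bot hXπ p)
  have hXp : X ≤ Subgroup.centralizer (opOf p M : Set G) := by
    have hcop : (Nat.card X).Coprime p := by
      apply Nat.Coprime.symm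
      rw [Nat.Prime.coprime_iff_not_dvd hp.out]
      intro hd
      exact (hXπ p hp.out hd).2
        (h.dvd_card_AA hp.out ((opOf_ne_bot_iff M).mp h.opOf_p_ne_bot))
    apply Cfsg.Agent.S0028.result p A₀ X (opOf p M) (isPGroup_of_elementary h.hA₀e) hcop
      (opOf_isPGroup p M)
    · have h1 : A₀ ≤ D := le_inf h.A₀_le_opOf (le_centralizer_self_of_elementary h.hA₀e)
      exact h1.trans (Subgroup.le_centralizer_iff.mp hXD)
    · exact h.A₀_le_opOf.trans Subgroup.le_normalizer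
    · exact hXM.trans (le_normalizer_opOf p M)
    · exact Subgroup.le_centralizer_iff.mp hXD
  have hXF : X ≤ Subgroup.centralizer (fittingOf M : Set G) := by
    apply le_centralizer_fittingOf
    intro s hs
    by_cases hsp : s = p
    · rw [hsp]; exact hXp
    · exact hXs s hs hsp
  have h1 : X ≤ fittingOf M :=
    (le_inf hXM hXF).trans (centralizer_fittingOf_le (solvable_of_ne_top h.hG h.hM.1))
  have h2 : Nat.card X = 1 := by
    by_contra hne
    obtain ⟨q, hq, hqd⟩ := Nat.exists_prime_and_dvd hne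
    exact (hXπ q hq hqd).2 (h.dvd_card_AA hq (hqd.trans (Subgroup.card_dvd_of_le h1)))
  exact Subgroup.card_eq_one.mp h2

end SetupA

end Cfsg.Agent.Lib.Helper4.BG8
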