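import Mathlib
import Cfsg.Agent.Lib.Helper4.BG8k

set_option autoImplicit false
open Pointwise
open scoped commutatorElement

/-! Bender–Glauberman Section 8: `F(M) ∩ C_G(A₀)` is a uniqueness subgroup when `F(M)` is not a
`p`-group. -/

namespace Cfsg.Agent.Lib.Helper4.BG8

open Cfsg Cfsg.Agent.Lib.Helper4 Cfsg.Agent.Lib.Lead Cfsg.Agent.Lib.Helper6 Cfsg.Agent.Lib.Helper7
open Cfsg.Agent.Lib.Helper4.BG7 Cfsg.Agent.Lib.Helper4.BG76 Cfsg.Agent.Lib.Helper4.ThreeStep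

universe u

variable {G : Type u} [Group G] [Finite G]

namespace SetupA

variable {M A₀ : Subgroup G} {p : ℕ} [hp : Fact p.Prime]

theorem dvd_card_F_of_dvd_card_AA (h : SetupA M p A₀) {s : ℕ} (hd : s ∣ Nat.card (AA M A₀)) :
    s ∣ Nat.card (fittingOf M) := hd.trans (Subgroup.card_dvd_of_le h.AA_le_F)

theorem AA_le_normalizer_inf (h : SetupA M p A₀) (s : ℕ) :
    AA M A₀ ≤ Subgroup.normalizer ((AA M A₀ ⊓ opOf s M : Subgroup G) : Set G) :=
  (le_inf Subgroup.le_normalizer (h.AA_le_M.trans (le_normalizer_opOf s M))).trans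
    (normalizer_inf_le' _ _)

theorem inv_le_piCoreOf (h : SetupA M p A₀) {H : Subgroup G} (hH : H ≠ ⊤) (hAH : AA M A₀ ≤ H)
    {X : Subgroup G} (hXH : X ≤ H) (hXπ : IsPiNum (cpi (AA M A₀)) (Nat.card X))
    (hAX : AA M A₀ ≤ Subgroup.normalizer (X : Set G)) : X ≤ piCoreOf (cpi (AA M A₀)) H := by
  have hHsolv : Group.IsSolvable ↥H := solvable_of_ne_top h.hG hH
  set A := AA M A₀ with hA
  set T : Set ℕ := {s | s.Prime ∧ s ∣ Nat.card A} with hT
  have hne : ∀ s ∈ T, opOf s M ≠ ⊥ := by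
    intro s hs
    have : Fact s.Prime := ⟨hs.1⟩
    exact (opOf_ne_bot_iff M).mpr (h.dvd_card_F_of_dvd_card_AA hs.2)
  have key := le_piCore_of_fpf (Y := ↥H) (π' := cpi A) (T := T)
    (fun s => (A ⊓ opOf s M).subgroupOf H) (fun r => (opOf r M).subgroupOf H)
    (fun s hs => hs.1) (fun s hs hs' => hs'.2 hs.2)
    (fun q hq hqT => ⟨hq, fun hd => hqT ⟨hq, hd⟩⟩) ?_ ?_ ?_ ?_ ?_ (X := X.subgroupOf H) ?_ ?_ ?_
  · intro x hx
    exact ⟨⟨x, hXH hx⟩, key (Subgroup.mem_subgroupOf.mpr hx), rfl⟩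
  · -- hT2
    intro s hs
    by_cases hsp : s = p
    · obtain ⟨r, hr, hrp, hrF⟩ := h.exists_other
      have : Fact r.Prime := ⟨hr⟩
      exact ⟨r, ⟨hr, h.dvd_card_AA hr ((opOf_ne_bot_iff M).mp hrF)⟩, by rw [hsp]; exact hrp⟩
    · exact ⟨p, ⟨hp.out, h.dvd_card_AA hp.out ((opOf_ne_bot_iff M).mp h.opOf_p_ne_bot)⟩,
        Ne.symm hsp⟩
  · intro s _
    exact ((opOf_isPGroup s M).to_le inf_le_right).comap_subtype
  · intro r _
    exact (opOf_isPGroup r M).comap_subtype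
  · -- hAcomm
    intro r hr s hs hrs x hx
    have : Fact r.Prime := ⟨hr.1⟩
    have : Fact s.Prime := ⟨hs.1⟩
    apply Subgroup.mem_centralizer_iff.mpr
    intro y hy
    have hx' : (x : G) ∈ opOf s M := (Subgroup.mem_subgroupOf.mp hx).2
    have hy' : (y : G) ∈ opOf r M := (Subgroup.mem_subgroupOf.mp hy).2
    have := Subgroup.mem_centralizer_iff.mp (opOf_comm (Ne.symm hrs) M hx') (y : G) hy'
    exact Subtype.ext this
  · -- hCR
    intro r hr s hs hrs c hc a ha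
    have : Fact r.Prime := ⟨hr.1⟩
    have : Fact s.Prime := ⟨hs.1⟩
    have hcM : (c : G) ∈ M := by
      apply h.centralizer_le (hne s hs)
      apply Subgroup.mem_centralizer_iff.mpr
      intro y hy
      have hy' : y ∈ A ⊓ opOf s M := hy
      have hyH : y ∈ H := hAH hy'.1
      have := Subgroup.mem_centralizer_iff.mp hc ⟨y, hyH⟩ (Subgroup.mem_subgroupOf.mpr hy')
      exact congrArg Subtype.val this
    have ha' : (a : G) ∈ opOf r M := (Subgroup.mem_subgroupOf.mp ha).2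
    have h1 : (c : G) * a * (c : G)⁻¹ ∈ opOf r M :=
      (Subgroup.mem_normalizer_iff.mp (le_normalizer_opOf r M hcM) (a : G)).mp ha'
    rw [Subgroup.mem_subgroupOf]
    have e : ((c * a * c⁻¹ * a⁻¹ : ↥H) : G) = (c : G) * a * (c : G)⁻¹ * (a : G)⁻¹ := by simp
    rw [e]
    exact Subgroup.mul_mem _ h1 (Subgroup.inv_mem _ ha')
  · -- hXπ
    rw [card_subgroupOf_of_le hXH]; exact hXπ
  · -- hAX
    intro s _
    exact subgroupOf_le_normalizer_subgroupOf H (inf_le_left.trans hAX)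
  · -- hfpf
    intro r hr
    have : Fact r.Prime := ⟨hr.1⟩
    rw [Subgroup.eq_bot_iff_forall]
    rintro x ⟨hxX, hxC⟩
    set X₁ := X ⊓ Subgroup.centralizer ((A ⊓ opOf r M : Subgroup G) : Set G) with hX₁
    have hX₁M : X₁ ≤ M := inf_le_right.trans (h.centralizer_le (hne r hr))
    have hAX₁ : A ≤ Subgroup.normalizer (X₁ : Set G) :=
      (le_inf hAX ((h.AA_le_normalizer_inf r).trans
        (BG7.normalizer_le_normalizer_centralizer _))).trans (normalizer_inf_le' _ _)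
    have hX₁π : IsPiNum (cpi A) (Nat.card X₁) := hXπ.of_dvd (Subgroup.card_dvd_of_le inf_le_left)
    have h0 := h.inv_in_M_eq_bot hX₁M hAX₁ hX₁π
    have hx1 : (x : G) ∈ X₁ := by
      refine ⟨Subgroup.mem_subgroupOf.mp hxX, ?_⟩
      apply Subgroup.mem_centralizer_iff.mpr
      intro y hy
      have hy' : y ∈ A ⊓ opOf r M := hy
      have hyH : y ∈ H := hAH hy'.1
      have := Subgroup.mem_centralizer_iff.mp hxC ⟨y, hyH⟩ (Subgroup.mem_subgroupOf.mpr hy')
      exact congrArg Subtype.val this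
    rw [h0, Subgroup.mem_bot] at hx1
    exact Subtype.ext hx1

theorem transHyp (h : SetupA M p A₀) : TransitivityHypothesis (AA M A₀) := by
  refine ⟨h.AA_ne_bot, h.AA_ne_top, ?_⟩
  intro H hH hAH
  apply le_antisymm
  · apply sSup_le
    rintro X ⟨hXH, hXπ, hAX⟩
    exact h.inv_le_piCoreOf hH hAH hXH hXπ hAX
  · apply le_sSup
    exact ⟨piCoreOf_le _ _, isPiNum_card_piCoreOf _ _, hAH.trans (le_normalizer_piCoreOf _ _)⟩

theorem A₀_le_center (h : SetupA M p A₀) :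
    A₀ ≤ AA M A₀ ⊓ Subgroup.centralizer (AA M A₀ : Set G) :=
  le_inf h.A₀_le (Subgroup.le_centralizer_iff.mp inf_le_right)

theorem transitive (h : SetupA M p A₀) {q : ℕ} (hq : q.Prime) (hqA : ¬ q ∣ Nat.card (AA M A₀)) :
    Transitive (AA M A₀) q := by
  apply theorem_7_3 h.hG h.transHyp _ hq hqA
  intro hR
  exact not_pRankLE_of_elementary h.A₀_le_center h.hA₀e h.card_A₀_gt (hR p hp.out)

/-- part (a) of BG Theorem 8.? -/
theorem inUniqueMaximal (h : SetupA M p A₀) : InUniqueMaximal (AA M A₀) := by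
  refine ⟨M, ⟨h.hM, h.AA_le_M⟩, ?_⟩
  rintro L ⟨hL, hAL⟩
  have hinv := inv_eq_bot_of_transitive h.hG h.hM h.AA_le_F (fun r hr hd => h.dvd_card_AA hr hd)
    h.transHyp (fun q hq hqA => h.transitive hq hqA)
  have hcpi : cpi (fittingOf M) = cpi (AA M A₀) :=
    cpi_eq h.AA_le_F (fun r hr hd => h.dvd_card_AA hr hd)
  apply unique_of_center_le h.hG h.hM h.two_le (M := AA M A₀) _ _ hL hAL
  · exact le_inf inf_le_left (inf_le_right.trans (Subgroup.centralizer_le h.hA₀))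
  · intro Y hY
    apply hinv
    rw [← hcpi]; exact hY

end SetupA

end Cfsg.Agent.Lib.Helper4.BG8
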