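import Mathlib
import Cfsg.Agent.Lib.Helper4.BG8l
import Cfsg.Agent.Lib.Helper4.CNMax2

set_option autoImplicit false
open Pointwise
open scoped commutatorElement

/-! Bender–Glauberman Section 8: the Sylow-intersection argument for uniqueness. -/

namespace Cfsg.Agent.Lib.Helper4.BG8

open Cfsg Cfsg.Agent.Lib.Helper4 Cfsg.Agent.Lib.Lead Cfsg.Agent.Lib.Helper6 Cfsg.Agent.Lib.Helper7
open Cfsg.Agent.Lib.Helper4.BG7 Cfsg.Agent.Lib.Helper4.BG76 Cfsg.Agent.Lib.Helper4.ThreeStep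

universe u

variable {G : Type u} [Group G] [Finite G]

theorem SylIn.card_eq_pow {p : ℕ} [Fact p.Prime] {X S : Subgroup G} (h : SylIn p X S) :
    Nat.card S = p ^ (Nat.card ↥X).factorization p := by
  obtain ⟨T, hT⟩ := SylIn.exists_sylow h
  rw [← hT, Subgroup.card_map_of_injective X.subtype_injective]
  exact Sylow.card_eq_multiplicity T

theorem card_le_of_isPGroup_le {p : ℕ} [hp : Fact p.Prime] {X Q : Subgroup G} (hQ : IsPGroup p Q)
    (hQX : Q ≤ X) : Nat.card Q ≤ p ^ (Nat.card ↥X).factorization p := by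
  obtain ⟨R, hQR, hR⟩ := exists_sylIn_ge hQX hQ
  rw [← SylIn.card_eq_pow hR]
  exact Subgroup.card_le_of_le hQR

theorem SylIn.of_card {p : ℕ} [hp : Fact p.Prime] {X Q : Subgroup G} (hQ : IsPGroup p Q)
    (hQX : Q ≤ X) (hc : p ^ (Nat.card ↥X).factorization p ≤ Nat.card Q) : SylIn p X Q := by
  obtain ⟨R, hQR, hR⟩ := exists_sylIn_ge hQX hQ
  have h1 : Nat.card R ≤ Nat.card Q := by rw [SylIn.card_eq_pow hR]; exact hc
  have h2 : Q = R := Subgroup.eq_of_le_of_card_ge hQR h1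
  rw [h2]; exact hR

/-- the facts on a maximal subgroup in which `ZJ` of a Sylow subgroup is normal -/
theorem sylow_of_zj_normal (hG : IsMinSimpleOddOrder G) {p : ℕ} [Fact p.Prime] {K S : Subgroup G}
    (hK : IsCoatom K) (hS : SylIn p K S) (hS1 : S ≠ ⊥)
    (hn : K ≤ Subgroup.normalizer (centerThompsonAOf S : Set G)) :
    Subgroup.normalizer (centerThompsonAOf S : Set G) = K ∧
      Subgroup.normalizer (S : Set G) ≤ K ∧ ∃ T : Sylow p G, (T : Subgroup G) = S := by
  have h1 : Subgroup.normalizer (centerThompsonAOf S : Set G) = K :=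
    normalizer_eq_of_isCoatom hG hK (zj_ne_bot hS.2.1 hS1) ((zj_le hS.2.1).trans hS.1) hn
  have h2 : Subgroup.normalizer (S : Set G) ≤ K := by
    rw [← h1]; exact normalizer_le_normalizer_zj hS.2.1
  refine ⟨h1, h2, ?_⟩
  apply exists_sylow_eq hS.2.1
  intro Q hQ hSQ hQN
  exact eq_of_isPGroup_of_relIndex hSQ (hQN.trans h2) hQ hS.2.2

theorem card_eq_of_sylow {p : ℕ} [Fact p.Prime] {S : Subgroup G}
    (h : ∃ T : Sylow p G, (T : Subgroup G) = S) :
    Nat.card S = p ^ (Nat.card G).factorization p := by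
  obtain ⟨T, hT⟩ := h
  rw [← hT]; exact Sylow.card_eq_multiplicity T

/-- the Sylow-intersection argument -/
theorem unique_of_sylow_intersection (hG : IsMinSimpleOddOrder G) {p : ℕ} [hp : Fact p.Prime]
    {A : Subgroup G} (hA : IsPGroup p A) (hA1 : A ≠ ⊥)
    (hWn : ∀ K : Subgroup G, IsCoatom K → A ≤ K → ∀ S : Subgroup G, SylIn p K S →
      K ≤ Subgroup.normalizer (centerThompsonAOf S : Set G))
    {M : Subgroup G} (hM : IsCoatom M) (hAM : A ≤ M) :
    ∀ H : Subgroup G, IsCoatom H → A ≤ H → H = M := by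
  -- general facts
  have hne : ∀ K : Subgroup G, IsCoatom K → A ≤ K → ∀ S : Subgroup G, SylIn p K S → S ≠ ⊥ := by
    intro K hK hAK S hS h0
    obtain ⟨S', hAS', hS'⟩ := exists_sylIn_ge hAK hA
    have h1 := SylIn.card_eq hS hS'
    rw [h0, Subgroup.card_bot] at h1
    have h2 : S' = ⊥ := Subgroup.card_eq_one.mp h1.symm
    exact hA1 (le_bot_iff.mp (h2 ▸ hAS'))
  have hstar : ∀ K : Subgroup G, IsCoatom K → A ≤ K → ∀ S : Subgroup G, SylIn p K S →
      Subgroup.normalizer (centerThompsonAOf S : Set G) = K ∧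
      Subgroup.normalizer (S : Set G) ≤ K ∧ Nat.card S = p ^ (Nat.card G).factorization p := by
    intro K hK hAK S hS
    obtain ⟨h1, h2, h3⟩ := sylow_of_zj_normal hG hK hS (hne K hK hAK S hS) (hWn K hK hAK S hS)
    exact ⟨h1, h2, card_eq_of_sylow h3⟩
  by_contra hcon
  push Not at hcon
  obtain ⟨H₀, hH₀, hAH₀, hH₀M⟩ := hcon
  let 𝒯 := {H : Subgroup G // IsCoatom H ∧ A ≤ H ∧ H ≠ M}
  have : Nonempty 𝒯 := ⟨⟨H₀, hH₀, hAH₀, hH₀M⟩⟩
  have : Finite 𝒯 := Subtype.finite
  obtain ⟨⟨H, hH, hAH, hHM⟩, hmax⟩ :=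
    Finite.exists_max (fun H : 𝒯 => (Nat.card ↥(H.1 ⊓ M)).factorization p)
  obtain ⟨S, hAS, hS⟩ := exists_sylIn_ge (le_inf hAH hAM) hA
  have hSp : IsPGroup p S := hS.2.1
  have hSH : S ≤ H := hS.1.trans inf_le_left
  have hSM : S ≤ M := hS.1.trans inf_le_right
  have hS1 : S ≠ ⊥ := fun h0 => hA1 (le_bot_iff.mp (h0 ▸ hAS))
  -- if `S` has the order of a Sylow subgroup of `G` we are done
  have hfull : Nat.card S ≠ p ^ (Nat.card G).factorization p := by
    intro hc
    have hSylM : SylIn p M S := by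
      apply SylIn.of_card hSp hSM
      rw [hc]
      apply Nat.pow_le_pow_right hp.out.pos
      exact (Nat.factorization_le_iff_dvd Nat.card_pos.ne' Nat.card_pos.ne').mpr
        (Subgroup.card_subgroup_dvd_card M) p
    have hSylH : SylIn p H S := by
      apply SylIn.of_card hSp hSH
      rw [hc]
      apply Nat.pow_le_pow_right hp.out.pos
      exact (Nat.factorization_le_iff_dvd Nat.card_pos.ne' Nat.card_pos.ne').mpr
        (Subgroup.card_subgroup_dvd_card H) p
    have e1 := (hstar M hM hAM S hSylM).1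
    have e2 := (hstar H hH hAH S hSylH).1
    exact hHM (e2.symm.trans e1)
  have hnotM : ¬ SylIn p M S := fun h => hfull (hstar M hM hAM S h).2.2
  have hnotH : ¬ SylIn p H S := fun h => hfull (hstar H hH hAH S h).2.2
  -- the normalizer of `S` lies in `M`
  have hNM : Subgroup.normalizer (S : Set G) ≤ M := by
    obtain ⟨S_M, hSS_M, hS_M⟩ := exists_sylIn_ge hSM hSp
    have hneq : S ≠ S_M := fun h => hnotM (h ▸ hS_M)
    obtain ⟨y, hyS_M, hyS, hyN⟩ := CNMax.exists_normalizer_not_mem hS_M.2.1.isNilpotent hSS_M hneq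
    have hNtop : Subgroup.normalizer (S : Set G) ≠ ⊤ :=
      normalizer_ne_top hG hS1 (isPGroup_ne_top hG hSp)
    obtain ⟨L, hL, hNL⟩ := exists_coatom_ge hNtop
    have hAL : A ≤ L := hAS.trans (Subgroup.le_normalizer.trans hNL)
    by_cases hLM : L = M
    · rw [← hLM]; exact hNL
    · exfalso
      have h1 := hmax ⟨L, hL, hAL, hLM⟩
      simp only at h1
      set S₁ := S ⊔ Subgroup.zpowers y with hS₁
      have hS₁le : S₁ ≤ S_M := sup_le hSS_M (Subgroup.zpowers_le.mpr hyS_M)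
      have hS₁p : IsPGroup p S₁ := hS_M.2.1.to_le hS₁le
      have hS₁LM : S₁ ≤ L ⊓ M := by
        apply le_inf
        · exact sup_le (Subgroup.le_normalizer.trans hNL) (Subgroup.zpowers_le.mpr (hNL hyN))
        · exact hS₁le.trans hS_M.1
      have h2 := card_le_of_isPGroup_le hS₁p hS₁LM
      have h3 : Nat.card S₁ ≤ Nat.card S := by
        rw [SylIn.card_eq_pow hS]
        exact h2.trans (Nat.pow_le_pow_right hp.out.pos h1)
      have h4 : S₁ = S :=
        (Subgroup.eq_of_le_of_card_ge (le_sup_left : S ≤ S₁) h3).symm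
      apply hyS
      rw [← h4]
      exact Subgroup.mem_sup_right (Subgroup.mem_zpowers y)
  -- contradiction inside `H`
  obtain ⟨S_H, hSS_H, hS_H⟩ := exists_sylIn_ge hSH hSp
  have hneq : S ≠ S_H := fun h => hnotH (h ▸ hS_H)
  obtain ⟨y, hyS_H, hyS, hyN⟩ := CNMax.exists_normalizer_not_mem hS_H.2.1.isNilpotent hSS_H hneq
  set S₂ := S ⊔ Subgroup.zpowers y with hS₂
  have hS₂le : S₂ ≤ S_H := sup_le hSS_H (Subgroup.zpowers_le.mpr hyS_H)
  have hS₂p : IsPGroup p S₂ := hS_H.2.1.to_le hS₂le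
  have hS₂HM : S₂ ≤ H ⊓ M := by
    apply le_inf (hS₂le.trans hS_H.1)
    exact sup_le hSM (Subgroup.zpowers_le.mpr (hNM hyN))
  have h5 : S₂ = S := eq_of_isPGroup_of_relIndex le_sup_left hS₂HM hS₂p hS.2.2
  apply hyS
  rw [← h5]
  exact Subgroup.mem_sup_right (Subgroup.mem_zpowers y)

end Cfsg.Agent.Lib.Helper4.BG8
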