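import Mathlib
import Cfsg.Agent.Lib.Helper4.BG8m

set_option autoImplicit false
open Pointwise
open scoped commutatorElement

/-! Bender–Glauberman Section 8: the case where `F(M)` is a `p`-group. -/

namespace Cfsg.Agent.Lib.Helper4.BG8

open Cfsg Cfsg.Agent.Lib.Helper4 Cfsg.Agent.Lib.Lead Cfsg.Agent.Lib.Helper6 Cfsg.Agent.Lib.Helper7
open Cfsg.Agent.Lib.Helper4.BG7 Cfsg.Agent.Lib.Helper4.BG76 Cfsg.Agent.Lib.Helper4.ThreeStep

universe u

variable {G : Type u} [Group G] [Finite G]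

theorem exists_elementary_of_not_pRankLE {p k : ℕ} {Z : Subgroup G} (h : ¬ PRankLE p k ↥Z) :
    ∃ E : Subgroup G, E ≤ Z ∧ IsElementaryAbelian p E ∧ p ^ k < Nat.card E := by
  unfold PRankLE at h
  push Not at h
  obtain ⟨E', hc, he, hcard⟩ := h
  refine ⟨E'.map Z.subtype, Subgroup.map_subtype_le _, ⟨?_, ?_⟩, ?_⟩
  · refine ⟨⟨?_⟩⟩
    rintro ⟨_, ⟨a, ha, rfl⟩⟩ ⟨_, ⟨b, hb, rfl⟩⟩
    apply Subtype.ext
    have := hc.is_comm.comm ⟨a, ha⟩ ⟨b, hb⟩
    have h2 : a * b = b * a := congrArg Subtype.val this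
    show Z.subtype a * Z.subtype b = Z.subtype b * Z.subtype a
    rw [← map_mul, ← map_mul, h2]
  · rintro _ ⟨a, ha, rfl⟩
    rw [← map_pow, he a ha, map_one]
  · rw [Subgroup.card_map_of_injective Z.subtype_injective]
    exact hcard

/-- in a maximal subgroup with `O_{p'} = 1`, `ZJ` of a Sylow `p`-subgroup is normal -/
theorem le_normalizer_zj_of_cG_eq_bot (hG : IsMinSimpleOddOrder G) {p : ℕ} [Fact p.Prime]
    (hp2 : p ≠ 2) {K S : Subgroup G} (hK : IsCoatom K) (hc : cG p K = ⊥) (hS : SylIn p K S) :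
    K ≤ Subgroup.normalizer (centerThompsonAOf S : Set G) :=
  le_normalizer_zj_of_central hG.1 hp2 (solvable_of_ne_top hG hK.1) (by rw [hc]; exact bot_le) hS

structure SetupB (M : Subgroup G) (p : ℕ) : Prop where
  hG : IsMinSimpleOddOrder G
  hM : IsCoatom M
  hFp : IsPGroup p ↥(fittingOf M)
  hF1 : fittingOf M ≠ ⊥

namespace SetupB

variable {M : Subgroup G} {p : ℕ} [hp : Fact p.Prime]

theorem opOf_eq (h : SetupB M p) : opOf p M = fittingOf M :=
  le_antisymm (opOf_le_fittingOf p M) (le_opOf_of_le_fittingOf le_rfl h.hFp)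

theorem p_dvd (h : SetupB M p) : p ∣ Nat.card G := by
  have h1 : p ∣ Nat.card (fittingOf M) := by
    rcases h.hFp.card_eq_or_dvd with h2 | h2
    · exact absurd (Subgroup.card_eq_one.mp h2) h.hF1
    · exact h2
  exact h1.trans (Subgroup.card_subgroup_dvd_card _)

theorem p_ne_two (h : SetupB M p) : p ≠ 2 := ne_two_of_odd h.hG h.p_dvd

theorem opOf_other (h : SetupB M p) {s : ℕ} [Fact s.Prime] (hsp : s ≠ p) : opOf s M = ⊥ := by
  have h1 : opOf s M ≤ opOf s M ⊓ fittingOf M := le_inf le_rfl (opOf_le_fittingOf s M)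
  rw [inf_eq_bot_of_ne hsp (opOf_isPGroup s M) h.hFp] at h1
  exact le_bot_iff.mp h1

theorem cG_eq_bot (h : SetupB M p) : cG p M = ⊥ := by
  set W := cG p M with hW
  have hWM : W ≤ M := cG_le p M
  have hMW : M ≤ Subgroup.normalizer (W : Set G) := le_normalizer_cG p M
  have hWc : (Nat.card W).Coprime p := card_cG_coprime p M
  have h1 : W ≤ Subgroup.centralizer (fittingOf M : Set G) := by
    apply le_centralizer_fittingOf
    intro s hs
    have : Fact s.Prime := ⟨hs⟩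
    by_cases hsp : s = p
    · rw [hsp]
      apply le_centralizer_of_normalize (hWM.trans (le_normalizer_opOf p M))
        ((BG8.opOf_le p M).trans hMW)
      rw [inf_comm]
      exact isPGroup_inf_coprime_eq_bot hWc (opOf_isPGroup p M)
    · rw [h.opOf_other hsp]; exact le_centralizer_bot _
  have h2 : W ≤ fittingOf M :=
    (le_inf hWM h1).trans (centralizer_fittingOf_le (solvable_of_ne_top h.hG h.hM.1))
  have h3 : W ≤ fittingOf M ⊓ W := le_inf h2 le_rfl
  rw [isPGroup_inf_coprime_eq_bot hWc h.hFp] at h3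
  exact le_bot_iff.mp h3

theorem sylow_ne_bot (h : SetupB M p) {S : Subgroup G} (hS : SylIn p M S) : S ≠ ⊥ := by
  intro h0
  have h1 : opOf p M ≤ S :=
    SylIn.normal_le hS (BG8.opOf_le p M) (le_normalizer_opOf p M) (opOf_isPGroup p M)
  rw [h0, h.opOf_eq] at h1
  exact h.hF1 (le_bot_iff.mp h1)

theorem sylow_facts (h : SetupB M p) {S : Subgroup G} (hS : SylIn p M S) :
    Subgroup.normalizer (centerThompsonAOf S : Set G) = M ∧
      Subgroup.normalizer (S : Set G) ≤ M ∧ ∃ T : Sylow p G, (T : Subgroup G) = S :=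
  sylow_of_zj_normal h.hG h.hM hS (h.sylow_ne_bot hS)
    (le_normalizer_zj_of_cG_eq_bot h.hG h.p_ne_two h.hM h.cG_eq_bot hS)

/-- an abelian normal subgroup of a Sylow `p`-subgroup of `M` lies in `F(M)` -/
theorem scn_le (h : SetupB M p) {S A : Subgroup G} (hS : SylIn p M S) (hA : IsSCN S A) :
    A ≤ fittingOf M := by
  rw [← h.opOf_eq]
  have hAS : A ≤ S := hA.1
  have hAp : IsPGroup p A := hS.2.1.to_le hAS
  have hFS : opOf p M ≤ S :=
    SylIn.normal_le hS (BG8.opOf_le p M) (le_normalizer_opOf p M) (opOf_isPGroup p M)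
  have hAA : ⁅A, A⁆ = ⊥ := by
    rw [Subgroup.commutator_eq_bot_iff_le_centralizer]
    have : A ≤ S ⊓ Subgroup.centralizer (A : Set G) := by rw [hA.2.2]
    exact this.trans inf_le_right
  have h1 : ⁅opOf p M, A⁆ ≤ A := by
    rw [Subgroup.commutator_comm]
    exact commutator_le_left_of_le_normalizer A (opOf p M) (hFS.trans hA.2.1)
  have hq : ⁅⁅opOf p M, A⁆, A⁆ = ⊥ := by
    have h2 : ⁅⁅opOf p M, A⁆, A⁆ ≤ ⁅A, A⁆ := Subgroup.commutator_mono h1 le_rfl
    rw [hAA] at h2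
    exact le_bot_iff.mp h2
  exact quadratic_le_opOf h.hG.1 h.p_ne_two (solvable_of_ne_top h.hG h.hM.1)
    (by rw [h.cG_eq_bot]; exact bot_le) (hAS.trans hS.1) hAp hq

theorem scn_unique (h : SetupB M p) {S A : Subgroup G} (hS : SylIn p M S) (hA : IsSCN S A)
    (hr : ¬ PRankLE p 2 ↥A) : InUniqueMaximal A := by
  have hAS : A ≤ S := hA.1
  have hAp : IsPGroup p A := hS.2.1.to_le hAS
  have hAF := h.scn_le hS hA
  have hAM : A ≤ M := hAS.trans hS.1
  obtain ⟨E, hEA, hE, hEcard⟩ := exists_elementary_of_not_pRankLE hr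
  have hA1 : A ≠ ⊥ := by
    intro h0
    rw [h0] at hEA
    have : E = ⊥ := le_bot_iff.mp hEA
    rw [this, Subgroup.card_bot] at hEcard
    have := Nat.one_le_pow 2 p hp.out.pos
    omega
  obtain ⟨-, -, T, hT⟩ := h.sylow_facts hS
  have hr1 : ¬ PRankLE p 1 ↥A := by
    intro h1
    apply hr
    intro B hB hBe
    have h2 := h1 B hB hBe
    have h3 : p ^ 1 ≤ p ^ 2 := Nat.pow_le_pow_right hp.out.pos (by norm_num)
    omega
  have hTH : TransitivityHypothesis A :=
    theorem_7_6 h.hG h.p_dvd hAp (Or.inr ⟨T, by rw [hT]; exact hA, hr1⟩)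
  have hAcent : A ≤ Subgroup.centralizer (A : Set G) := by
    have : A ≤ S ⊓ Subgroup.centralizer (A : Set G) := by rw [hA.2.2]
    exact this.trans inf_le_right
  have htr : ∀ q : ℕ, q.Prime → ¬ q ∣ Nat.card A → Transitive A q := by
    intro q hq hqA
    apply theorem_7_3 h.hG hTH _ hq hqA
    intro hR
    exact not_pRankLE_of_elementary (le_inf hEA (hEA.trans hAcent)) hE hEcard (hR p hp.out)
  have hpA : p ∣ Nat.card A := by
    rcases hAp.card_eq_or_dvd with h2 | h2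
    · exact absurd (Subgroup.card_eq_one.mp h2) hA1
    · exact h2
  have hπ : ∀ r : ℕ, r.Prime → r ∣ Nat.card (fittingOf M) → r ∣ Nat.card A := by
    intro r hr hd
    obtain ⟨n, hn⟩ := IsPGroup.iff_card.mp h.hFp
    rw [hn] at hd
    have : r = p := (Nat.prime_dvd_prime_iff_eq hr hp.out).mp (hr.dvd_of_dvd_pow hd)
    rw [this]; exact hpA
  have hinv := inv_eq_bot_of_transitive h.hG h.hM hAF hπ hTH htr
  have hcG : ∀ K : Subgroup G, IsCoatom K → A ≤ K → cG p K = ⊥ := by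
    intro K _ hAK
    apply hinv
    exact ⟨le_top, (isPiNum_cpi_iff hAp hA1 _).mpr (card_cG_coprime p K),
      hAK.trans (le_normalizer_cG p K)⟩
  refine ⟨M, ⟨h.hM, hAM⟩, ?_⟩
  rintro L ⟨hL, hAL⟩
  exact unique_of_sylow_intersection h.hG hAp hA1
    (fun K hK hAK S' hS' => le_normalizer_zj_of_cG_eq_bot h.hG h.p_ne_two hK (hcG K hK hAK) hS')
    h.hM hAM L hL hAL

end SetupB

end Cfsg.Agent.Lib.Helper4.BG8
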