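import Mathlib
import Cfsg.Agent.Lib.Helper4.BG8n
import Cfsg.Agent.Lib.Helper3.Components6
import Cfsg.Agent.Lib.Helper3.Sig1

set_option autoImplicit false
open Pointwise
open scoped commutatorElement

/-! Maximal local subgroups: general facts (no simplicity assumption). -/

namespace Cfsg.Agent.Lib.Helper4.BG8

open Cfsg Cfsg.Agent.Lib.Helper4 Cfsg.Agent.Lib.Lead Cfsg.Agent.Lib.Helper6 Cfsg.Agent.Lib.Helper7
open Cfsg.Agent.Lib.Helper4.BG7 Cfsg.Agent.Lib.Helper4.BG76 Cfsg.Agent.Lib.Helper4.ThreeStep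

universe u

variable {G : Type u} [Group G] [Finite G]

structure MaxLocal (H : Subgroup G) : Prop where
  hloc : IsLocalSubgroup H
  hmax : ∀ L : Subgroup G, IsLocalSubgroup L → H ≤ L → L = H

theorem MaxLocal.normalizer_eq {H : Subgroup G} (h : MaxLocal H) {r : ℕ} (hr : r.Prime)
    {N : Subgroup G} (hN : IsPGroup r N) (hN1 : N ≠ ⊥)
    (hn : H ≤ Subgroup.normalizer (N : Set G)) : Subgroup.normalizer (N : Set G) = H :=
  h.hmax _ ⟨r, N, hr, hN, hN1, rfl⟩ hn

theorem MaxLocal.le_of_centralizes {H : Subgroup G} (h : MaxLocal H) {r : ℕ} (hr : r.Prime)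
    {N X : Subgroup G} (hN : IsPGroup r N) (hN1 : N ≠ ⊥)
    (hn : H ≤ Subgroup.normalizer (N : Set G)) (hX : X ≤ Subgroup.centralizer (N : Set G)) :
    X ≤ H := by
  rw [← h.normalizer_eq hr hN hN1 hn]
  exact hX.trans (Subgroup.centralizer_le_normalizer _)

/-- a subgroup of `F(H)` is generated by its intersections with the `O_p(H)` -/
theorem le_iSup_inf_opOf {M H : Subgroup G} (hM : M ≤ fittingOf H) :
    M ≤ ⨆ p : Nat.Primes, M ⊓ opOf (p : ℕ) H := by
  have h1 : M = (⨆ p : Nat.Primes, ⨆ P : Sylow (p : ℕ) ↥M, (P : Subgroup ↥M)).map M.subtype := by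
    rw [Lead.iSup_sylow_eq_top, ← MonoidHom.range_eq_map, Subgroup.range_subtype]
  conv_lhs => rw [h1]
  rw [Subgroup.map_iSup]
  apply iSup_le
  intro p
  rw [Subgroup.map_iSup]
  apply iSup_le
  intro P
  have : Fact (p : ℕ).Prime := ⟨p.2⟩
  refine le_trans ?_ (le_iSup (fun p : Nat.Primes => M ⊓ opOf (p : ℕ) H) p)
  have h2 : (P : Subgroup ↥M).map M.subtype ≤ M := Subgroup.map_subtype_le _
  exact le_inf h2 (le_opOf_of_le_fittingOf (h2.trans hM) (P.isPGroup'.map _))

theorem le_centralizer_of_forall_inf {M H Y : Subgroup G} (hM : M ≤ fittingOf H)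
    (h : ∀ s : ℕ, s.Prime → Y ≤ Subgroup.centralizer ((M ⊓ opOf s H : Subgroup G) : Set G)) :
    Y ≤ Subgroup.centralizer (M : Set G) := by
  rw [Subgroup.le_centralizer_iff]
  refine (le_iSup_inf_opOf hM).trans ?_
  apply iSup_le
  intro p
  rw [← Subgroup.le_centralizer_iff]
  exact h p p.2

/-- a solvable subgroup normalized by `C_H(F(H))` meets it inside `F(H)` -/
theorem centralizer_inf_le_fittingOf {H R : Subgroup G} (hR : Group.IsSolvable ↥R)
    (hXR : H ⊓ Subgroup.centralizer (fittingOf H : Set G) ≤ Subgroup.normalizer (R : Set G)) :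
    (H ⊓ Subgroup.centralizer (fittingOf H : Set G)) ⊓ R ≤ fittingOf H := by
  set X := H ⊓ Subgroup.centralizer (fittingOf H : Set G) with hX
  set I := X ⊓ R with hI
  have hXH : X ≤ H := inf_le_left
  have hIH : I ≤ H := inf_le_left.trans hXH
  have hHX : H ≤ Subgroup.normalizer (X : Set G) :=
    (le_inf Subgroup.le_normalizer ((le_normalizer_fittingOf H).trans
      (BG7.normalizer_le_normalizer_centralizer _))).trans (normalizer_inf_le' _ _)
  have hXI : X ≤ Subgroup.normalizer (I : Set G) :=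
    (le_inf Subgroup.le_normalizer hXR).trans (normalizer_inf_le' _ _)
  set X' := X.subgroupOf H with hX'
  set I' := I.subgroupOf H with hI'
  have hX'n : X'.Normal := subgroupOf_normal_of_le_normalizer hHX
  have hI'X' : I' ≤ X' := by
    intro x hx
    rw [Subgroup.mem_subgroupOf] at hx ⊢
    exact hx.1
  have hI'n : (I'.subgroupOf X').Normal := by
    rw [Subgroup.normal_subgroupOf_iff_le_normalizer hI'X']
    exact subgroupOf_le_normalizer_subgroupOf H hXI
  have hI'sub : I'.IsSubnormal := Subgroup.IsSubnormal.step I' X' hI'X' hX'n.isSubnormal hI'n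
  have hI'solv : Group.IsSolvable ↥I' := by
    have e : ↥I' ≃* ↥I := Subgroup.subgroupOfEquivOfLe hIH
    have hIs : Group.IsSolvable ↥I :=
      solvable_of_solvable_injective (Subgroup.inclusion_injective (inf_le_right : I ≤ R))
    exact solvable_of_solvable_injective (f := e.toMonoidHom) e.injective
  have h1 := Cfsg.Agent.Lib.Helper3.fittingSubgroup_map_subtype_le_of_isSubnormal hI'sub
  have h2 : (⊤ : Subgroup ↥I') ≤ Subgroup.centralizer (Cfsg.fittingSubgroup ↥I' : Set ↥I') := by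
    intro a _
    apply Subgroup.mem_centralizer_iff.mpr
    intro b hb
    have hb' : (b : ↥H) ∈ Cfsg.fittingSubgroup ↥H := h1 ⟨b, hb, rfl⟩
    have hbF : ((b : ↥H) : G) ∈ fittingOf H := ⟨(b : ↥H), hb', rfl⟩
    have ha : ((a : ↥H) : G) ∈ X := (Subgroup.mem_subgroupOf.mp a.2).1
    have := Subgroup.mem_centralizer_iff.mp ha.2 _ hbF
    apply Subtype.ext
    apply Subtype.ext
    exact this
  have h3 : (⊤ : Subgroup ↥I') ≤ Cfsg.fittingSubgroup ↥I' := h2.trans Cfsg.Agent.S0044.result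
  have hnil : Group.IsNilpotent ↥I' := by
    have h4 : Group.IsNilpotent ↥(Cfsg.fittingSubgroup ↥I') := Lead.fittingSubgroup_isNilpotent
    have h5 : Cfsg.fittingSubgroup ↥I' = ⊤ := eq_top_iff.mpr h3
    rw [h5] at h4
    exact (Group.isNilpotent_congr Subgroup.topEquiv).mp h4
  have h6 := Cfsg.Agent.Lib.Helper3.le_fittingSubgroup_of_isSubnormal hI'sub hnil
  intro x hx
  exact ⟨⟨x, hIH hx⟩, h6 (Subgroup.mem_subgroupOf.mpr hx), rfl⟩

end Cfsg.Agent.Lib.Helper4.BG8
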