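import Mathlib
import Cfsg.Agent.Lib.Helper4.BG8o
import Cfsg.Agent.S0024
import Cfsg.Agent.S0025

set_option autoImplicit false
open Pointwise
open scoped commutatorElement

/-! A maximal local subgroup `H` with `|π(F(H))| ≥ 2`: invariant subgroups of a solvable group
normalized by `M` and `C_H(F(H))`. -/

namespace Cfsg.Agent.Lib.Helper4.BG8

open Cfsg Cfsg.Agent.Lib.Helper4 Cfsg.Agent.Lib.Lead Cfsg.Agent.Lib.Helper6 Cfsg.Agent.Lib.Helper7
open Cfsg.Agent.Lib.Helper4.BG7 Cfsg.Agent.Lib.Helper4.BG76 Cfsg.Agent.Lib.Helper4.ThreeStep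

universe u

variable {G : Type u} [Group G] [Finite G]

structure SetupL (H M R : Subgroup G) : Prop where
  hH : MaxLocal H
  hF2 : 2 ≤ (Nat.card (fittingOf H)).primeFactors.card
  hM : M ≤ fittingOf H
  hCM : fittingOf H ⊓ Subgroup.centralizer (M : Set G) ≤ M
  hR : Group.IsSolvable ↥R
  hMR : M ≤ Subgroup.normalizer (R : Set G)
  hXR : H ⊓ Subgroup.centralizer (fittingOf H : Set G) ≤ Subgroup.normalizer (R : Set G)

namespace SetupL

variable {H M R : Subgroup G}

theorem M_le_H (h : SetupL H M R) : M ≤ H := h.hM.trans (fittingOf_le H)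

theorem zF_le (h : SetupL H M R) (s : ℕ) [Fact s.Prime] : zF s H ≤ M ⊓ opOf s H := by
  refine le_inf ?_ inf_le_left
  refine le_trans ?_ h.hCM
  exact le_inf (inf_le_left.trans (opOf_le_fittingOf s H))
    (inf_le_right.trans (Subgroup.centralizer_le h.hM))

/-- (b) -/
theorem centralizer_le (h : SetupL H M R) {s : ℕ} [hs : Fact s.Prime] (hsF : opOf s H ≠ ⊥) :
    Subgroup.centralizer ((M ⊓ opOf s H : Subgroup G) : Set G) ≤ H :=
  h.hH.le_of_centralizes hs.out (zF_isPGroup s H) (zF_ne_bot hsF) (le_normalizer_zF s H)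
    (Subgroup.centralizer_le (h.zF_le s))

/-- (c) -/
theorem opOf_inf_centralizer_le (h : SetupL H M R) (s : ℕ) [Fact s.Prime] :
    opOf s H ⊓ Subgroup.centralizer ((M ⊓ opOf s H : Subgroup G) : Set G) ≤ M ⊓ opOf s H := by
  set Y := opOf s H ⊓ Subgroup.centralizer ((M ⊓ opOf s H : Subgroup G) : Set G) with hY
  have h1 : Y ≤ Subgroup.centralizer (M : Set G) := by
    apply le_centralizer_of_forall_inf h.hM
    intro t ht
    have : Fact t.Prime := ⟨ht⟩
    by_cases hts : s = t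
    · rw [← hts]; exact inf_le_right
    · exact inf_le_left.trans ((opOf_comm hts H).trans (Subgroup.centralizer_le inf_le_right))
  have h2 : Y ≤ M := (le_inf (inf_le_left.trans (opOf_le_fittingOf s H)) h1).trans h.hCM
  exact le_inf h2 inf_le_left

/-- (d) -/
theorem le_centralizer_opOf (h : SetupL H M R) {s : ℕ} [Fact s.Prime] {Y : Subgroup G}
    (hYH : Y ≤ H) (hYc : (Nat.card Y).Coprime s)
    (hYM : Y ≤ Subgroup.centralizer ((M ⊓ opOf s H : Subgroup G) : Set G)) :
    Y ≤ Subgroup.centralizer (opOf s H : Set G) := by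
  apply Cfsg.Agent.S0028.result s (M ⊓ opOf s H) Y (opOf s H)
    ((opOf_isPGroup s H).to_le inf_le_right) hYc (opOf_isPGroup s H)
  · exact Subgroup.le_centralizer_iff.mp hYM
  · exact inf_le_right.trans Subgroup.le_normalizer
  · exact hYH.trans (le_normalizer_opOf s H)
  · exact (h.opOf_inf_centralizer_le s).trans (Subgroup.le_centralizer_iff.mp hYM)

theorem M_le_normalizer_inf (h : SetupL H M R) (s : ℕ) :
    M ≤ Subgroup.normalizer ((M ⊓ opOf s H : Subgroup G) : Set G) :=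
  (le_inf Subgroup.le_normalizer (h.M_le_H.trans (le_normalizer_opOf s H))).trans
    (normalizer_inf_le' _ _)

theorem coprime_of_isPiNum' {Y : Subgroup G} {n : ℕ}
    (hYπ : IsPiNum (primesNotDvd n) (Nat.card Y)) {s : ℕ} (hs : s.Prime) (hsd : s ∣ n) :
    (Nat.card Y).Coprime s := by
  apply Nat.Coprime.symm
  rw [Nat.Prime.coprime_iff_not_dvd hs]
  intro hd
  exact (hYπ s hs hd).2 hsd

/-- (e) -/
theorem fpf (h : SetupL H M R) {Y : Subgroup G} (hYR : Y ≤ R)
    (hMY : M ≤ Subgroup.normalizer (Y : Set G))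
    (hYπ : IsPiNum (primesNotDvd (Nat.card (fittingOf H))) (Nat.card Y))
    {r : ℕ} [hr : Fact r.Prime] (hrF : opOf r H ≠ ⊥) :
    Y ⊓ Subgroup.centralizer ((M ⊓ opOf r H : Subgroup G) : Set G) = ⊥ := by
  set Y₁ := Y ⊓ Subgroup.centralizer ((M ⊓ opOf r H : Subgroup G) : Set G) with hY₁
  have hY₁H : Y₁ ≤ H := inf_le_right.trans (h.centralizer_le hrF)
  have hMY₁ : M ≤ Subgroup.normalizer (Y₁ : Set G) :=
    (le_inf hMY ((h.M_le_normalizer_inf r).trans
      (BG7.normalizer_le_normalizer_centralizer _))).trans (normalizer_inf_le' _ _)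
  have hY₁π : IsPiNum (primesNotDvd (Nat.card (fittingOf H))) (Nat.card Y₁) :=
    hYπ.of_dvd (Subgroup.card_dvd_of_le inf_le_left)
  have hcop : ∀ s : ℕ, [Fact s.Prime] → opOf s H ≠ ⊥ → (Nat.card Y₁).Coprime s := by
    intro s hs hsF
    exact coprime_of_isPiNum' hY₁π hs.out ((opOf_ne_bot_iff H).mp hsF)
  have h1 : ∀ s : ℕ, s.Prime →
      Y₁ ≤ Subgroup.centralizer ((M ⊓ opOf s H : Subgroup G) : Set G) := by
    intro s hs
    have : Fact s.Prime := ⟨hs⟩
    by_cases hsr : s = r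
    · rw [hsr]; exact inf_le_right
    · apply le_centralizer_of_normalize' (inf_le_left.trans hMY₁) inf_le_right
        (hY₁H.trans (le_normalizer_opOf s H))
      by_cases hsF : opOf s H = ⊥
      · rw [hsF]; exact inf_bot_eq _
      · rw [inf_comm]
        exact isPGroup_inf_coprime_eq_bot (hcop s hsF) (opOf_isPGroup s H)
  have h2 : Y₁ ≤ Subgroup.centralizer (fittingOf H : Set G) := by
    apply le_centralizer_fittingOf
    intro s hs
    have : Fact s.Prime := ⟨hs⟩
    by_cases hsF : opOf s H = ⊥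
    · rw [hsF]; exact le_centralizer_bot _
    · exact h.le_centralizer_opOf hY₁H (hcop s hsF) (h1 s hs)
  have h3 : Y₁ ≤ fittingOf H :=
    (le_inf (le_inf hY₁H h2) (inf_le_left.trans hYR)).trans
      (centralizer_inf_le_fittingOf h.hR h.hXR)
  have h4 := eq_one_of_isPiNum_of_dvd hY₁π (Subgroup.card_dvd_of_le h3)
  exact Subgroup.card_eq_one.mp h4

theorem M_solvable (h : SetupL H M R) : Group.IsSolvable ↥M := by
  have : Group.IsNilpotent ↥M := isNilpotent_of_le (isNilpotent_fittingOf H) h.hM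
  infer_instance

/-- (f) -/
theorem inv_le_piCoreOf (h : SetupL H M R) {Y : Subgroup G} (hYR : Y ≤ R)
    (hMY : M ≤ Subgroup.normalizer (Y : Set G))
    (hYπ : IsPiNum (primesNotDvd (Nat.card (fittingOf H))) (Nat.card Y)) :
    Y ≤ piCoreOf (primesNotDvd (Nat.card (fittingOf H))) R := by
  set π' := primesNotDvd (Nat.card (fittingOf H)) with hπ'
  set B := R ⊔ M with hB
  have hRB : R ≤ B := le_sup_left
  have hMB : M ≤ B := le_sup_right
  have hBsolv : Group.IsSolvable ↥B :=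
    Cfsg.Agent.Lib.Helper3.Sig.isSolvable_sup_of_le_normalizer h.hR h.M_solvable h.hMR
  set T : Set ℕ := {s | s.Prime ∧ s ∣ Nat.card (fittingOf H)} with hT
  have hne : ∀ s ∈ T, opOf s H ≠ ⊥ := by
    intro s hs
    have : Fact s.Prime := ⟨hs.1⟩
    exact (opOf_ne_bot_iff H).mpr hs.2
  have key := le_piCore_of_fpf (Y := ↥B) (π' := π') (T := T)
    (fun s => (M ⊓ opOf s H).subgroupOf B) (fun r => (opOf r H).subgroupOf B)
    (fun s hs => hs.1) (fun s hs hs' => hs'.2 hs.2)
    (fun q hq hqT => ⟨hq, fun hd => hqT ⟨hq, hd⟩⟩) ?_ ?_ ?_ ?_ ?_ (X := Y.subgroupOf B) ?_ ?_ ?_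
  · -- conclusion
    have h1 : Y ≤ piCoreOf π' B ⊓ R := by
      intro y hy
      exact ⟨⟨⟨y, hRB (hYR hy)⟩, key (Subgroup.mem_subgroupOf.mpr hy), rfl⟩, hYR hy⟩
    refine h1.trans ?_
    apply le_piCoreOf inf_le_right
    · exact (le_inf (hRB.trans (le_normalizer_piCoreOf π' B)) Subgroup.le_normalizer).trans
        (normalizer_inf_le' _ _)
    · exact (isPiNum_card_piCoreOf π' B).of_dvd (Subgroup.card_dvd_of_le inf_le_left)
  · -- hT2
    intro s _
    obtain ⟨r, hr, hrd, hrs⟩ := exists_other_prime h.hF2 s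
    exact ⟨r, ⟨hr, hrd⟩, hrs⟩
  · intro s _
    exact ((opOf_isPGroup s H).to_le inf_le_right).comap_subtype
  · intro r _
    exact (opOf_isPGroup r H).comap_subtype
  · -- hAcomm
    intro r hr s hs hrs x hx
    have : Fact r.Prime := ⟨hr.1⟩
    have : Fact s.Prime := ⟨hs.1⟩
    apply Subgroup.mem_centralizer_iff.mpr
    intro y hy
    have hx' : (x : G) ∈ opOf s H := (Subgroup.mem_subgroupOf.mp hx).2
    have hy' : (y : G) ∈ opOf r H := (Subgroup.mem_subgroupOf.mp hy).2
    have := Subgroup.mem_centralizer_iff.mp (opOf_comm (Ne.symm hrs) H hx') (y : G) hy'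
    exact Subtype.ext this
  · -- hCR
    intro r hr s hs hrs c hc a ha
    have : Fact r.Prime := ⟨hr.1⟩
    have : Fact s.Prime := ⟨hs.1⟩
    have hcH : (c : G) ∈ H := by
      apply h.centralizer_le (hne s hs)
      apply Subgroup.mem_centralizer_iff.mpr
      intro y hy
      have hy' : y ∈ M ⊓ opOf s H := hy
      have hyB : y ∈ B := hMB hy'.1
      have := Subgroup.mem_centralizer_iff.mp hc ⟨y, hyB⟩ (Subgroup.mem_subgroupOf.mpr hy')
      exact congrArg Subtype.val this
    have ha' : (a : G) ∈ opOf r H := (Subgroup.mem_subgroupOf.mp ha).2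
    have h1 : (c : G) * a * (c : G)⁻¹ ∈ opOf r H :=
      (Subgroup.mem_normalizer_iff.mp (le_normalizer_opOf r H hcH) (a : G)).mp ha'
    rw [Subgroup.mem_subgroupOf]
    have e : ((c * a * c⁻¹ * a⁻¹ : ↥B) : G) = (c : G) * a * (c : G)⁻¹ * (a : G)⁻¹ := by simp
    rw [e]
    exact Subgroup.mul_mem _ h1 (Subgroup.inv_mem _ ha')
  · rw [card_subgroupOf_of_le (hYR.trans hRB)]; exact hYπ
  · intro s _
    exact subgroupOf_le_normalizer_subgroupOf B (inf_le_left.trans hMY)
  · -- hfpf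
    intro r hr
    have : Fact r.Prime := ⟨hr.1⟩
    rw [Subgroup.eq_bot_iff_forall]
    rintro x ⟨hxX, hxC⟩
    have h0 := h.fpf hYR hMY hYπ (hne r hr)
    have hx1 : (x : G) ∈ Y ⊓ Subgroup.centralizer ((M ⊓ opOf r H : Subgroup G) : Set G) := by
      refine ⟨Subgroup.mem_subgroupOf.mp hxX, ?_⟩
      apply Subgroup.mem_centralizer_iff.mpr
      intro y hy
      have hy' : y ∈ M ⊓ opOf r H := hy
      have hyB : y ∈ B := hMB hy'.1
      have := Subgroup.mem_centralizer_iff.mp hxC ⟨y, hyB⟩ (Subgroup.mem_subgroupOf.mpr hy')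
      exact congrArg Subtype.val this
    rw [h0, Subgroup.mem_bot] at hx1
    exact Subtype.ext hx1

end SetupL

end Cfsg.Agent.Lib.Helper4.BG8
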