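import Mathlib
import Cfsg.Agent.Lib.Helper4.BG8p

set_option autoImplicit false
open Pointwise
open scoped commutatorElement

/-! A maximal local subgroup `H` with `|π(F(H))| ≥ 2`: the unique maximal invariant `q`-subgroup. -/

namespace Cfsg.Agent.Lib.Helper4.BG8

open Cfsg Cfsg.Agent.Lib.Helper4 Cfsg.Agent.Lib.Lead Cfsg.Agent.Lib.Helper6 Cfsg.Agent.Lib.Helper7
open Cfsg.Agent.Lib.Helper4.BG7 Cfsg.Agent.Lib.Helper4.BG76 Cfsg.Agent.Lib.Helper4.ThreeStep

universe u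

variable {G : Type u} [Group G] [Finite G]

namespace SetupL

variable {H M R : Subgroup G}

theorem main (h : SetupL H M R) {q : ℕ} [hqf : Fact q.Prime]
    (hq : ¬ q ∣ Nat.card (fittingOf H)) :
    ∃! Q : Subgroup G, Q ∈ maxInvSubgroups R M {q} ∧
      (∀ Q' : Subgroup G, Q' ∈ maxInvSubgroups R M {q} →
        Q' ≤ piCoreOf (primesNotDvd (Nat.card (fittingOf H))) R ∧
        ¬ q ∣ Q'.relIndex (piCoreOf (primesNotDvd (Nat.card (fittingOf H))) R)) := by
  set π' := primesNotDvd (Nat.card (fittingOf H)) with hπ'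
  set K := piCoreOf π' R with hK
  have hKR : K ≤ R := piCoreOf_le _ _
  have hKπ : IsPiNum π' (Nat.card K) := isPiNum_card_piCoreOf _ _
  have hMK : M ≤ Subgroup.normalizer (K : Set G) :=
    h.hMR.trans (normalizer_le_normalizer_piCoreOf _ _)
  have hcop : (Nat.card M).Coprime (Nat.card K) := by
    apply Nat.coprime_of_dvd
    intro p hp h1 h2
    exact (hKπ p hp h2).2 (h1.trans (Subgroup.card_dvd_of_le h.hM))
  have hqπ : q ∈ π' := ⟨hqf.out, hq⟩
  have hqnum : ∀ Y : Subgroup G, IsPiNum {q} (Nat.card Y) → IsPiNum π' (Nat.card Y) := by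
    intro Y hY p hp hpd
    have : p = q := hY p hp hpd
    rw [this]; exact hqπ
  -- every invariant `q`-subgroup lies in `K`
  have hle : ∀ Y ∈ invSubgroups R M {q}, Y ≤ K := by
    rintro Y ⟨hYR, hYq, hMY⟩
    exact h.inv_le_piCoreOf hYR hMY (hqnum Y hYq)
  -- invariant Sylow subgroups of `K` are maximal invariant
  have hsyl : ∀ P : Sylow q ↥K, M ≤ Subgroup.normalizer ((P : Subgroup ↥K).map K.subtype : Set G) →
      (P : Subgroup ↥K).map K.subtype ∈ maxInvSubgroups R M {q} := by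
    intro P hP
    have hPin : (P : Subgroup ↥K).map K.subtype ∈ invSubgroups R M {q} :=
      ⟨(Subgroup.map_subtype_le _).trans hKR, isPiNum_singleton_of_isPGroup (P.isPGroup'.map _), hP⟩
    refine ⟨hPin, ?_⟩
    intro Y hY hPY
    have hYK := hle Y hY
    have hYq : IsPGroup q Y := isPGroup_of_isPiNum_singleton hY.2.1
    exact eq_of_isPGroup_of_relIndex hPY hYK hYq (sylIn_map_sylow P).2.2
  -- every maximal invariant subgroup is an invariant Sylow subgroup of `K`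
  have hmaxsyl : ∀ Q' ∈ maxInvSubgroups R M {q}, ∃ P : Sylow q ↥K,
      (P : Subgroup ↥K).map K.subtype = Q' ∧
      M ≤ Subgroup.normalizer ((P : Subgroup ↥K).map K.subtype : Set G) := by
    intro Q' hQ'
    have hQ'K := hle Q' hQ'.1
    have hQ'q : IsPGroup q Q' := isPGroup_of_isPiNum_singleton hQ'.1.2.1
    obtain ⟨P, hP1, hP2⟩ := Cfsg.Agent.S0025.result M K hMK hcop (Or.inl h.M_solvable) q Q'
      hQ'K hQ'q hQ'.1.2.2
    refine ⟨P, ?_, hP2⟩
    exact hQ'.2 _ (hsyl P hP2).1 hP1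
  obtain ⟨P₀, hP₀⟩ := Cfsg.Agent.S0023.result M K hMK hcop (Or.inl h.M_solvable) q
  refine ⟨(P₀ : Subgroup ↥K).map K.subtype, ⟨hsyl P₀ hP₀, ?_⟩, ?_⟩
  · intro Q' hQ'
    obtain ⟨P, hPQ, -⟩ := hmaxsyl Q' hQ'
    rw [← hPQ]
    exact ⟨Subgroup.map_subtype_le _, (sylIn_map_sylow P).2.2⟩
  · rintro Q₂ ⟨hQ₂, -⟩
    obtain ⟨P₂, hPQ₂, hP₂⟩ := hmaxsyl Q₂ hQ₂
    obtain ⟨c, hcM, hc⟩ := Cfsg.Agent.S0024.result M K hMK hcop (Or.inl h.M_solvable) q P₀ P₂ hP₀ hP₂
    -- `c` is trivial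
    obtain ⟨r, hr, hrd, -⟩ := exists_other_prime h.hF2 0
    have : Fact r.Prime := ⟨hr⟩
    have hrF : opOf r H ≠ ⊥ := (opOf_ne_bot_iff H).mpr hrd
    have h0 := h.fpf hKR hMK hKπ hrF
    have hc1 : (c : G) ∈ K ⊓ Subgroup.centralizer ((M ⊓ opOf r H : Subgroup G) : Set G) :=
      ⟨c.2, Subgroup.centralizer_le inf_le_left hcM⟩
    rw [h0, Subgroup.mem_bot] at hc1
    have hc2 : c = 1 := Subtype.ext hc1
    rw [hc2, map_one, one_smul] at hc
    rw [← hPQ₂, ← hc]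

end SetupL

end Cfsg.Agent.Lib.Helper4.BG8
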