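import Mathlib
import Cfsg.Agent.Lib.Helper4.BG8q
import Cfsg.Agent.Lib.Helper4.Rk2j
import Cfsg.Agent.S0126
import Cfsg.Agent.S1452

set_option autoImplicit false
open Pointwise
open scoped commutatorElement

/-! Bender–Glauberman Section 9: general lemmas. -/

namespace Cfsg.Agent.Lib.Helper4.BG9

open Cfsg Cfsg.Agent.Lib.Helper4 Cfsg.Agent.Lib.Lead Cfsg.Agent.Lib.Helper6 Cfsg.Agent.Lib.Helper7
open Cfsg.Agent.Lib.Helper4.BG7 Cfsg.Agent.Lib.Helper4.BG76 Cfsg.Agent.Lib.Helper4.ThreeStep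
open Cfsg.Agent.Lib.Helper4.BG8

universe u

section typelevel

variable {X : Type u} [Group X] [Finite X]

/-- a `p'`-subgroup normalized by a Sylow `p`-subgroup of a solvable group lies in `O_{p'}` -/
theorem sylow_inv_le_pPrimeCore [Group.IsSolvable X] {p : ℕ} [Fact p.Prime] (T : Sylow p X)
    {K₀ : Subgroup X} (hK₀ : (Nat.card K₀).Coprime p)
    (hT : (T : Subgroup X) ≤ Subgroup.normalizer (K₀ : Set X)) : K₀ ≤ pPrimeCore p X := by
  set φ := QuotientGroup.mk' (pPrimeCore p X) with hφ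
  set R := pCore p (X ⧸ pPrimeCore p X) with hR
  have hRn : R.Normal := Lead.pCore_normal p
  have hRT : R ≤ (T : Subgroup X).map φ := pCore_le_map_sylow T
  have hcop : (Nat.card (K₀.map φ)).Coprime p :=
    Nat.Coprime.coprime_dvd_left (Subgroup.card_map_dvd K₀ φ) hK₀
  have hRK : R ⊓ K₀.map φ = ⊥ := isPGroup_inf_coprime_eq_bot hcop (Lead.pCore_isPGroup p)
  have h1 : R ≤ Subgroup.normalizer ((K₀.map φ : Subgroup _) : Set _) := by
    refine hRT.trans ?_
    refine (Subgroup.map_mono hT).trans ?_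
    exact Subgroup.le_normalizer_map φ
  have h2 : K₀.map φ ≤ Subgroup.normalizer (R : Set _) := by
    rw [Subgroup.normalizer_eq_top]; exact le_top
  have h3 : K₀.map φ ≤ Subgroup.centralizer (R : Set _) :=
    BG8.le_centralizer_of_normalize h2 h1 (by rw [inf_comm]; exact hRK)
  have h4 : K₀.map φ ≤ R := h3.trans (Cfsg.Agent.S0017.result p (pPrimeCore_quotient_self p))
  have h5 : K₀.map φ = ⊥ := by
    have : K₀.map φ = R ⊓ K₀.map φ := (inf_eq_right.mpr h4).symm
    rw [this, hRK]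
  intro k hk
  have : φ k ∈ K₀.map φ := ⟨k, hk, rfl⟩
  rw [h5, Subgroup.mem_bot] at this
  exact (QuotientGroup.eq_one_iff k).mp this

end typelevel

variable {G : Type u} [Group G] [Finite G]

/-- subgroup-level version -/
theorem le_cG_of_sylIn_normalizes {p : ℕ} [Fact p.Prime] {D P Y : Subgroup G}
    (hD : Group.IsSolvable ↥D) (hP : SylIn p D P) (hYD : Y ≤ D) (hY : (Nat.card Y).Coprime p)
    (hPY : P ≤ Subgroup.normalizer (Y : Set G)) : Y ≤ cG p D := by
  obtain ⟨T, hT⟩ := SylIn.exists_sylow hP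
  apply le_cG_of_subgroupOf_le hYD
  apply sylow_inv_le_pPrimeCore T
  · rw [Nat.card_congr (Subgroup.subgroupOfEquivOfLe hYD).toEquiv]
    exact hY
  · intro t ht
    have htP : (t : G) ∈ P := by rw [← hT]; exact ⟨t, ht, rfl⟩
    have h1 := hPY htP
    rw [Subgroup.mem_normalizer_iff] at h1 ⊢
    intro y
    rw [Subgroup.mem_subgroupOf, Subgroup.mem_subgroupOf]
    have := h1 (y : G)
    simpa using this

/-- Glauberman's ZJ-factorization at the subgroup level -/
theorem le_of_zj_factorization (hodd : Odd (Nat.card G)) {r : ℕ} [Fact r.Prime] (hr : r ≠ 2)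
    {D R M : Subgroup G} (hD : Group.IsSolvable ↥D) (hR : SylIn r D R) (hK : cG r D ≤ M)
    (hN : D ⊓ Subgroup.normalizer (centerThompsonAOf R : Set G) ≤ M) : D ≤ M := by
  have hoddD : Odd (Nat.card ↥D) := Odd.of_dvd_nat hodd (Subgroup.card_subgroup_dvd_card D)
  obtain ⟨T, hT⟩ := SylIn.exists_sylow hR
  have hfac := zj_factorization_odd hoddD hr T
  have e := ThreeStep.centerThompsonAOf_map D.subtype D.subtype_injective (T : Subgroup ↥D)
  rw [hT] at e
  intro d hd
  have hd' : (⟨d, hd⟩ : ↥D) ∈ pPrimeCore r ↥D ⊔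
      Subgroup.normalizer (centerThompsonAOf (T : Subgroup ↥D) : Set ↥D) := by
    rw [hfac]; trivial
  rw [← SetLike.mem_coe, Subgroup.normal_mul] at hd'
  obtain ⟨k, hk, n, hn, hkn⟩ := Set.mem_mul.mp hd'
  have hkM : (k : G) ∈ M := hK ⟨k, hk, rfl⟩
  have hnM : (n : G) ∈ M := by
    apply hN
    refine ⟨n.2, ?_⟩
    rw [e]
    exact Subgroup.le_normalizer_map D.subtype ⟨n, hn, rfl⟩
  have : d = (k : G) * (n : G) := by
    have := congrArg Subtype.val hkn
    simpa using this.symm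
  rw [this]
  exact M.mul_mem hkM hnM

/-- a Sylow subgroup of a subgroup containing its normalizer is a Sylow subgroup of `G` -/
theorem sylow_of_normalizer_le {p : ℕ} [Fact p.Prime] {K S : Subgroup G} (hS : SylIn p K S)
    (hN : Subgroup.normalizer (S : Set G) ≤ K) : ∃ T : Sylow p G, (T : Subgroup G) = S := by
  apply exists_sylow_eq hS.2.1
  intro Q hQ hSQ hQN
  exact eq_of_isPGroup_of_relIndex hSQ (hQN.trans hN) hQ hS.2.2

/-- a Sylow subgroup of `G` inside `H` is a Sylow subgroup of `H` -/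
theorem sylIn_of_sylow {p : ℕ} [hp : Fact p.Prime] {H S : Subgroup G}
    (hS : ∃ T : Sylow p G, (T : Subgroup G) = S) (hSH : S ≤ H) : SylIn p H S := by
  obtain ⟨T, hT⟩ := hS
  have hSp : IsPGroup p S := by rw [← hT]; exact T.isPGroup'
  apply SylIn.of_card hSp hSH
  rw [card_eq_of_sylow ⟨T, hT⟩]
  apply Nat.pow_le_pow_right hp.out.pos
  exact (Nat.factorization_le_iff_dvd Nat.card_pos.ne' Nat.card_pos.ne').mpr
    (Subgroup.card_subgroup_dvd_card H) p

/-- the rank of a subgroup is controlled by a Sylow subgroup -/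
theorem prankLE_of_sylIn {p k : ℕ} [Fact p.Prime] {H P : Subgroup G} (hP : SylIn p H P)
    (hr : PRankLE p k ↥P) : PRankLE p k ↥H := by
  intro E' hE'c hE'e
  set E : Subgroup G := E'.map H.subtype with hE
  have hEH : E ≤ H := Subgroup.map_subtype_le _
  have hEe : ∀ x ∈ E, x ^ p = 1 := by
    rintro _ ⟨x, hx, rfl⟩
    rw [← map_pow, hE'e x hx, map_one]
  have hEp : IsPGroup p E := by
    rintro ⟨x, hx⟩
    refine ⟨1, ?_⟩
    apply Subtype.ext
    rw [pow_one, Subgroup.coe_pow, hEe x hx, Subgroup.coe_one]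
  obtain ⟨c, hc, hcE⟩ := SylIn.exists_conj_le hP hEH hEp
  have hcard : Nat.card E' = Nat.card ((cj c E).subgroupOf P) := by
    rw [Nat.card_congr (Subgroup.subgroupOfEquivOfLe hcE).toEquiv, card_cj, hE,
      Subgroup.card_map_of_injective H.subtype_injective]
  rw [hcard]
  apply hr
  · refine ⟨⟨?_⟩⟩
    rintro ⟨⟨a, haP⟩, ha⟩ ⟨⟨b, hbP⟩, hb⟩
    rw [Subgroup.mem_subgroupOf] at ha hb
    obtain ⟨a', ⟨a'', ha'', rfl⟩, rfl⟩ := ha
    obtain ⟨b', ⟨b'', hb'', rfl⟩, rfl⟩ := hb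
    apply Subtype.ext
    apply Subtype.ext
    have h1 := hE'c.is_comm.comm ⟨a'', ha''⟩ ⟨b'', hb''⟩
    have h2 : a'' * b'' = b'' * a'' := congrArg Subtype.val h1
    have h3 : (a'' : G) * (b'' : G) = (b'' : G) * (a'' : G) := by
      rw [← Subgroup.coe_mul, h2, Subgroup.coe_mul]
    show (MulAut.conj c) (a'' : G) * (MulAut.conj c) (b'' : G) =
      (MulAut.conj c) (b'' : G) * (MulAut.conj c) (a'' : G)
    rw [← map_mul, ← map_mul, h3]
  · rintro ⟨a, haP⟩ ha
    rw [Subgroup.mem_subgroupOf] at ha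
    obtain ⟨a', ha', rfl⟩ := ha
    apply Subtype.ext
    show ((MulAut.conj c) a') ^ p = 1
    rw [← map_pow, hEe a' ha', map_one]

/-- `p`-length one factorization at the subgroup level -/
theorem le_of_rank_two (hodd : Odd (Nat.card G)) {p : ℕ} [Fact p.Prime]
    {H P M : Subgroup G} (hH : Group.IsSolvable ↥H) (hP : SylIn p H P) (hr : PRankLE p 2 ↥P)
    (hK : cG p H ≤ M) (hN : H ⊓ Subgroup.normalizer (P : Set G) ≤ M) : H ≤ M := by
  have hoddH : Odd (Nat.card ↥H) := Odd.of_dvd_nat hodd (Subgroup.card_subgroup_dvd_card H)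
  have hrH : PRankLE p 2 ↥H := prankLE_of_sylIn hP hr
  have hpl : PLengthLE p 1 ↥H := Rk2.pLengthLE_one_of_prankLE hoddH hrH
  obtain ⟨T, hT⟩ := SylIn.exists_sylow hP
  obtain ⟨h1, -, h3⟩ := plength_one_frattini p hpl T
  have hU₁n : (upperPSeries p ↥H 1).1.Normal := (upperPSeries p ↥H 1).2
  have hU₁ : (upperPSeries p ↥H 1).1 ≤ pPrimeCore p ↥H := le_pPrimeCore hU₁n h1
  intro d hd
  have hd' : (⟨d, hd⟩ : ↥H) ∈ (upperPSeries p ↥H 1).1 ⊔
      Subgroup.normalizer ((T : Subgroup ↥H) : Set ↥H) := by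
    rw [h3]; trivial
  rw [← SetLike.mem_coe, Subgroup.normal_mul] at hd'
  obtain ⟨k, hk, n, hn, hkn⟩ := Set.mem_mul.mp hd'
  have hkM : (k : G) ∈ M := hK ⟨k, hU₁ hk, rfl⟩
  have hnM : (n : G) ∈ M := by
    apply hN
    refine ⟨n.2, ?_⟩
    rw [← hT]
    exact Subgroup.le_normalizer_map H.subtype ⟨n, hn, rfl⟩
  have : d = (k : G) * (n : G) := by
    have := congrArg Subtype.val hkn
    simpa using this.symm
  rw [this]
  exact M.mul_mem hkM hnM

/-- existence of a member of `SCN₃(P)` -/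
theorem exists_scn3 {p : ℕ} [Fact p.Prime] (hp2 : p ≠ 2) {P : Subgroup G} (hP : IsPGroup p P)
    (hr : ¬ PRankLE p 2 ↥P) : ∃ A : Subgroup G, IsSCN P A ∧ ¬ PRankLE p 2 ↥A := by
  have hnc : ¬ IsCyclic ↥P := by
    intro hc
    apply hr
    intro B hB hBe
    -- a cyclic group has at most `p` elements of order dividing `p`
    have h1 : Nat.card B ≤ p := by
      have hBc : IsCyclic ↥B := Subgroup.isCyclic B
      classical
      have := Fintype.ofFinite ↥B
      have h2 : ∀ b : ↥B, b ^ p = 1 := fun b => Subtype.ext (by simpa using hBe b b.2)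
      have h3 := IsCyclic.card_pow_eq_one_le (α := ↥B) (Fact.out : p.Prime).pos
      have h4 : (Finset.univ.filter (fun a : ↥B => a ^ p = 1)) = Finset.univ := by
        ext b; simp [h2 b]
      rw [h4, Finset.card_univ] at h3
      rw [Nat.card_eq_fintype_card]; exact h3
    have h5 : p ≤ p ^ 2 := by
      have := (Fact.out : p.Prime).one_lt
      nlinarith
    omega
  obtain ⟨E, hEn, hE, hE2⟩ := Cfsg.Agent.S0126.result hp2 hP hnc
  obtain ⟨A₀, hEA₀, hA₀n, hA₀c, hA₀r⟩ := Cfsg.Agent.S1452.result p hp2 hP hr E hE hE2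
  refine ⟨A₀.map P.subtype, ⟨Subgroup.map_subtype_le _, ?_, ?_⟩, ?_⟩
  · have h1 := Subgroup.le_normalizer_map (H := A₀) P.subtype
    rw [Subgroup.normalizer_eq_top_iff.mpr hA₀n] at h1
    intro x hx
    apply h1
    exact ⟨⟨x, hx⟩, Subgroup.mem_top _, rfl⟩
  · apply le_antisymm
    · rintro x ⟨hxP, hxC⟩
      have h1 : (⟨x, hxP⟩ : ↥P) ∈ Subgroup.centralizer (A₀ : Set ↥P) := by
        rw [Subgroup.mem_centralizer_iff]
        intro a ha
        apply Subtype.ext
        exact (Subgroup.mem_centralizer_iff.mp hxC) (a : G) ⟨a, ha, rfl⟩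
      rw [hA₀c] at h1
      exact ⟨⟨x, hxP⟩, h1, rfl⟩
    · rintro _ ⟨a, ha, rfl⟩
      refine ⟨a.2, ?_⟩
      apply Subgroup.mem_centralizer_iff.mpr
      rintro _ ⟨b, hb, rfl⟩
      have h1 : a ∈ Subgroup.centralizer (A₀ : Set ↥P) := by rw [hA₀c]; exact ha
      have := (Subgroup.mem_centralizer_iff.mp h1) b hb
      exact congrArg Subtype.val this
  · intro h
    apply hA₀r
    exact Rk2.prankLE_of_injective
      (A₀.equivMapOfInjective P.subtype P.subtype_injective).toMonoidHom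
      (A₀.equivMapOfInjective P.subtype P.subtype_injective).injective h

end Cfsg.Agent.Lib.Helper4.BG9
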