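import Mathlib
import Cfsg.Agent.Lib.Helper4.BG9a
import Cfsg.Agent.Lib.Helper4.FusionLift1
import Cfsg.Agent.Lib.Helper2.PConstrained
import Cfsg.Agent.S0023
import Cfsg.Agent.Lib.Helper7.PiClosed1

set_option autoImplicit false
open Pointwise
open scoped commutatorElement

/-! Bender–Glauberman Lemma 9.1. -/

namespace Cfsg.Agent.Lib.Helper4.BG9

open Cfsg Cfsg.Agent.Lib.Helper4 Cfsg.Agent.Lib.Lead Cfsg.Agent.Lib.Helper6 Cfsg.Agent.Lib.Helper7
open Cfsg.Agent.Lib.Helper4.BG7 Cfsg.Agent.Lib.Helper4.BG76 Cfsg.Agent.Lib.Helper4.ThreeStep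
open Cfsg.Agent.Lib.Helper4.BG8

universe u

section typelevel

variable {X : Type u} [Group X] [Finite X]

theorem sylIn_top_of_sylow {p : ℕ} [Fact p.Prime] (T : Sylow p X) : SylIn p ⊤ (T : Subgroup X) :=
  ⟨le_top, T.isPGroup', by rw [Subgroup.relIndex_top_right]; exact T.not_dvd_index⟩

/-- the Frattini factorization over `P ∩ O_{p',p}` which contains every abelian normal subgroup
of the Sylow subgroup `P` -/
theorem exists_mul_normalizer [Group.IsSolvable X] (hodd : Odd (Nat.card X)) {p : ℕ} [Fact p.Prime]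
    (hp : p ≠ 2) (T : Sylow p X) {A : Subgroup X} (hAT : A ≤ (T : Subgroup X))
    (hTN : (T : Subgroup X) ≤ Subgroup.normalizer (A : Set X))
    (hAc : ∀ a ∈ A, ∀ b ∈ A, a * b = b * a) :
    A ≤ (T : Subgroup X) ⊓ pPrimePCore p X ∧
    ∀ x : X, ∃ k ∈ pPrimeCore p X, ∃ n ∈ Subgroup.normalizer
      ((((T : Subgroup X) ⊓ pPrimePCore p X : Subgroup X)) : Set X), x = k * n := by
  constructor
  · intro a ha
    refine ⟨hAT ha, ?_⟩
    show a ∈ pPrimePCore p X
    rw [Cfsg.Agent.Lib.Helper2.PConstrained.pPrimePCore_def, Subgroup.mem_comap]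
    exact map_mem_pCore_of_central hodd hp T hAT hTN ha (fun y hy => hAc a ha y hy)
  · intro x
    have hLn : (pPrimePCore p X).Normal := Cfsg.Agent.Lib.Helper2.PConstrained.pPrimePCore_normal
    have hL : SylIn p (pPrimePCore p X) ((T : Subgroup X) ⊓ pPrimePCore p X) :=
      sylIn_inf_normal (X := ⊤) le_top
        (by rw [Subgroup.normalizer_eq_top (pPrimePCore p X)]) (sylIn_top_of_sylow T)
    obtain ⟨T', hT'⟩ := SylIn.exists_sylow hL
    obtain ⟨n, hn, hnx⟩ := Cfsg.Agent.Lib.Helper2.PConstrained.exists_mem_normalizer_map_eq T'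
      (QuotientGroup.mk' (pPrimeCore p X) x)
    rw [hT'] at hn
    refine ⟨x * n⁻¹, ?_, n, hn, by group⟩
    rw [← QuotientGroup.eq_one_iff, ← QuotientGroup.mk'_apply, map_mul, map_inv, hnx]
    exact mul_inv_cancel _

end typelevel

variable {G : Type u} [Group G] [Finite G]

/-- subgroup-level version -/
theorem exists_frattini_sub (hodd : Odd (Nat.card G)) {p : ℕ} [Fact p.Prime] (hp : p ≠ 2)
    {H P A : Subgroup G} (hH : Group.IsSolvable ↥H) (hP : SylIn p H P) (hAP : A ≤ P)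
    (hPN : P ≤ Subgroup.normalizer (A : Set G)) (hAc : ∀ a ∈ A, ∀ b ∈ A, a * b = b * a) :
    ∃ P₁ : Subgroup G, A ≤ P₁ ∧ P₁ ≤ P ∧
      ∀ h ∈ H, ∃ k ∈ cG p H, ∃ n ∈ Subgroup.normalizer (P₁ : Set G), n ∈ H ∧ h = k * n := by
  have hoddH : Odd (Nat.card ↥H) := Odd.of_dvd_nat hodd (Subgroup.card_subgroup_dvd_card H)
  obtain ⟨T, hT⟩ := SylIn.exists_sylow hP
  have hAH : A ≤ H := hAP.trans hP.1
  have hAT : A.subgroupOf H ≤ (T : Subgroup ↥H) := by
    intro a ha
    rw [Subgroup.mem_subgroupOf] at ha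
    have h1 : (a : G) ∈ P := hAP ha
    rw [← hT] at h1
    obtain ⟨t, ht, hta⟩ := h1
    have : t = a := Subtype.ext hta
    rw [← this]; exact ht
  have hTN : (T : Subgroup ↥H) ≤ Subgroup.normalizer ((A.subgroupOf H : Subgroup ↥H) : Set ↥H) := by
    intro t ht
    have htP : (t : G) ∈ P := by rw [← hT]; exact ⟨t, ht, rfl⟩
    have h1 := hPN htP
    rw [Subgroup.mem_normalizer_iff] at h1 ⊢
    intro y
    rw [Subgroup.mem_subgroupOf, Subgroup.mem_subgroupOf]
    have := h1 (y : G)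
    simpa using this
  have hAc' : ∀ a ∈ A.subgroupOf H, ∀ b ∈ A.subgroupOf H, a * b = b * a := by
    intro a ha b hb
    rw [Subgroup.mem_subgroupOf] at ha hb
    exact Subtype.ext (hAc _ ha _ hb)
  obtain ⟨h1, h2⟩ := exists_mul_normalizer hoddH hp T hAT hTN hAc'
  refine ⟨((T : Subgroup ↥H) ⊓ pPrimePCore p ↥H).map H.subtype, ?_, ?_, ?_⟩
  · intro a ha
    exact ⟨⟨a, hAH ha⟩, h1 (by rw [Subgroup.mem_subgroupOf]; exact ha), rfl⟩
  · rw [← hT]; exact Subgroup.map_mono inf_le_left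
  · intro x hx
    obtain ⟨k, hk, n, hn, hxkn⟩ := h2 ⟨x, hx⟩
    refine ⟨(k : G), ⟨k, hk, rfl⟩, (n : G), ?_, n.2, ?_⟩
    · exact Subgroup.le_normalizer_map H.subtype ⟨n, hn, rfl⟩
    · have := congrArg Subtype.val hxkn
      simpa using this

/-- a `p'`-group normalized by the `p`-group `A` lies in `W` as soon as its `A`-invariant subgroups of
prime power order do -/
theorem le_of_inv_sylows {p : ℕ} [hp : Fact p.Prime] {A Y W : Subgroup G} (hA : IsPGroup p A)
    (hY : (Nat.card Y).Coprime p) (hAY : A ≤ Subgroup.normalizer (Y : Set G))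
    (hq : ∀ q : ℕ, q.Prime → q ≠ p → ∀ Q : Subgroup G, IsPGroup q Q →
      A ≤ Subgroup.normalizer (Q : Set G) → Q ≤ W) : Y ≤ W := by
  apply Cfsg.Agent.Lib.Helper7.PiClosed.le_of_forall_sylow Y W
  intro r hr
  by_cases hrp : r = p
  · refine ⟨⊥, bot_le, bot_le, ?_⟩
    rw [Subgroup.relIndex_bot_left, hrp]
    exact fun hd => (Nat.Prime.coprime_iff_not_dvd hp.out).mp hY.symm hd
  · haveI : Fact r.Prime := ⟨hr⟩
    have hcop : (Nat.card A).Coprime (Nat.card Y) := by
      obtain ⟨n, hn⟩ := IsPGroup.iff_card.mp hA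
      rw [hn]
      exact Nat.Coprime.pow_left n hY.symm
    have hAs : Group.IsSolvable ↥A := isSolvable_of_isPGroup' hA
    obtain ⟨Q, hQ⟩ := Cfsg.Agent.S0023.result A Y hAY hcop (Or.inl hAs) r
    exact ⟨(Q : Subgroup ↥Y).map Y.subtype, Subgroup.map_subtype_le _,
      hq r hr hrp _ (Q.isPGroup'.map _) hQ, (sylIn_map_sylow Q).2.2⟩

/-- the hypotheses of BG Lemma 9.1 in the form (b) -/
structure S91 (M : Subgroup G) (p : ℕ) (B : Subgroup G) : Prop where
  hG : IsMinSimpleOddOrder G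
  hM : IsCoatom M
  hBM : B ≤ M
  hBp : IsPGroup p B
  hB1 : B ≠ ⊥
  hb : ∀ Y : Subgroup G, (Nat.card Y).Coprime p → B ≤ Subgroup.normalizer (Y : Set G) → Y ≤ M

namespace S91

variable {M B : Subgroup G} {p : ℕ} [hp : Fact p.Prime]

theorem p_dvd (h : S91 M p B) : p ∣ Nat.card G := by
  rcases h.hBp.card_eq_or_dvd with h1 | h1
  · exact absurd (Subgroup.card_eq_one.mp h1) h.hB1
  · exact h1.trans (Subgroup.card_subgroup_dvd_card B)

theorem p_ne_two (h : S91 M p B) : p ≠ 2 := ne_two_of_odd h.hG h.p_dvd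

theorem inv_le_cG (h : S91 M p B) {P Y : Subgroup G} (hP : SylIn p M P) (hBP : B ≤ P)
    (hY : (Nat.card Y).Coprime p) (hPY : P ≤ Subgroup.normalizer (Y : Set G)) : Y ≤ cG p M :=
  le_cG_of_sylIn_normalizes (solvable_of_ne_top h.hG h.hM.1) hP (h.hb Y hY (hBP.trans hPY)) hY hPY

theorem sylow_facts (h : S91 M p B) {P : Subgroup G} (hP : SylIn p M P) (hBP : B ≤ P) :
    Subgroup.normalizer (P : Set G) ≤ M ∧ ∃ T : Sylow p G, (T : Subgroup G) = P := by
  have hP1 : P ≠ ⊥ := fun h0 => h.hB1 (le_bot_iff.mp (h0 ▸ hBP))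
  by_cases hW : cG p M = ⊥
  · obtain ⟨-, h2, h3⟩ := sylow_of_zj_normal h.hG h.hM hP hP1
      (le_normalizer_zj_of_cG_eq_bot h.hG h.p_ne_two h.hM hW hP)
    exact ⟨h2, h3⟩
  · have hNW : Subgroup.normalizer (cG p M : Set G) = M :=
      normalizer_eq_of_isCoatom h.hG h.hM hW (cG_le p M) (le_normalizer_cG p M)
    have hN : Subgroup.normalizer (P : Set G) ≤ M := by
      intro n hn
      rw [← hNW, mem_normalizer_iff_cj]
      apply cj_eq_of_le
      apply h.inv_le_cG hP hBP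
      · rw [card_cj]; exact card_cG_coprime p M
      · have h1 : cj n P = P := mem_normalizer_iff_cj.mp hn
        have h2 := le_normalizer_cj (g := n) (hP.1.trans (le_normalizer_cG p M))
        rw [h1] at h2
        exact h2
    exact ⟨hN, sylow_of_normalizer_le hP hN⟩

theorem main (h : S91 M p B) : ∀ H : Subgroup G, IsCoatom H → B ≤ H → H = M := by
  have hodd := h.hG.1
  have hp2 := h.p_ne_two
  by_contra hcon
  push Not at hcon
  obtain ⟨H₀, hH₀, hBH₀, hH₀M⟩ := hcon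
  let 𝒯 := {H : Subgroup G // IsCoatom H ∧ B ≤ H ∧ H ≠ M}
  have : Nonempty 𝒯 := ⟨⟨H₀, hH₀, hBH₀, hH₀M⟩⟩
  have : Finite 𝒯 := Subtype.finite
  obtain ⟨⟨H, hH, hBH, hHM⟩, hmax⟩ :=
    Finite.exists_max (fun H : 𝒯 => (Nat.card ↥(H.1 ⊓ M)).factorization p)
  have hHsolv := solvable_of_ne_top h.hG hH.1
  have hHnle : ¬ H ≤ M := fun hle => h.hM.1 (hH.2 M (lt_of_le_of_ne hle hHM))
  have hK : cG p H ≤ M := h.hb _ (card_cG_coprime p H) (hBH.trans (le_normalizer_cG p H))
  obtain ⟨R, hBR, hR⟩ := exists_sylIn_ge (le_inf hBH h.hBM) h.hBp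
  have hRp : IsPGroup p R := hR.2.1
  have hRH : R ≤ H := hR.1.trans inf_le_left
  have hRM : R ≤ M := hR.1.trans inf_le_right
  have hR1 : R ≠ ⊥ := fun h0 => h.hB1 (le_bot_iff.mp (h0 ▸ hBR))
  -- `R` is a Sylow subgroup of `M`
  have hRsylM : SylIn p M R := by
    by_contra hnot
    obtain ⟨S_M, hRS_M, hS_M⟩ := exists_sylIn_ge hRM hRp
    have hneq : R ≠ S_M := fun e => hnot (e ▸ hS_M)
    obtain ⟨y, hyS_M, hyR, hyN⟩ := CNMax.exists_normalizer_not_mem hS_M.2.1.isNilpotent hRS_M hneq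
    have key : ∀ X : Subgroup G, X ≠ ⊤ → Subgroup.normalizer (R : Set G) ≤ X → X ≤ M := by
      intro X hX hNX
      obtain ⟨L, hL, hXL⟩ := exists_coatom_ge hX
      have hBL : B ≤ L := hBR.trans (Subgroup.le_normalizer.trans (hNX.trans hXL))
      by_cases hLM : L = M
      · rw [← hLM]; exact hXL
      · exfalso
        have h1 := hmax ⟨L, hL, hBL, hLM⟩
        simp only at h1
        set S₁ := R ⊔ Subgroup.zpowers y with hS₁
        have hS₁le : S₁ ≤ S_M := sup_le hRS_M (Subgroup.zpowers_le.mpr hyS_M)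
        have hS₁p : IsPGroup p S₁ := hS_M.2.1.to_le hS₁le
        have hS₁LM : S₁ ≤ L ⊓ M := by
          apply le_inf
          · exact sup_le (Subgroup.le_normalizer.trans (hNX.trans hXL))
              (Subgroup.zpowers_le.mpr (hXL (hNX hyN)))
          · exact hS₁le.trans hS_M.1
        have h2 := card_le_of_isPGroup_le hS₁p hS₁LM
        have h3 : Nat.card S₁ ≤ Nat.card R := by
          rw [SylIn.card_eq_pow hR]
          exact h2.trans (Nat.pow_le_pow_right hp.out.pos h1)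
        have h4 : S₁ = R := (Subgroup.eq_of_le_of_card_ge (le_sup_left : R ≤ S₁) h3).symm
        apply hyR
        rw [← h4]
        exact Subgroup.mem_sup_right (Subgroup.mem_zpowers y)
    have hNR : Subgroup.normalizer (R : Set G) ≤ M :=
      key _ (normalizer_ne_top h.hG hR1 (isPGroup_ne_top h.hG hRp)) le_rfl
    have hZp : IsPGroup p (centerThompsonAOf R) := hRp.to_le (zj_le hRp)
    have hNZ : Subgroup.normalizer (centerThompsonAOf R : Set G) ≤ M :=
      key _ (normalizer_ne_top h.hG (zj_ne_bot hRp hR1) (isPGroup_ne_top h.hG hZp))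
        (normalizer_le_normalizer_zj hRp)
    have hRsylH : SylIn p H R := by
      by_contra hnotH
      obtain ⟨S_H, hRS_H, hS_H⟩ := exists_sylIn_ge hRH hRp
      have hneq' : R ≠ S_H := fun e => hnotH (e ▸ hS_H)
      obtain ⟨y', hyS_H, hyR', hyN'⟩ :=
        CNMax.exists_normalizer_not_mem hS_H.2.1.isNilpotent hRS_H hneq'
      set S₂ := R ⊔ Subgroup.zpowers y' with hS₂
      have hS₂le : S₂ ≤ S_H := sup_le hRS_H (Subgroup.zpowers_le.mpr hyS_H)
      have hS₂p : IsPGroup p S₂ := hS_H.2.1.to_le hS₂le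
      have hS₂HM : S₂ ≤ H ⊓ M := by
        apply le_inf (hS₂le.trans hS_H.1)
        exact sup_le hRM (Subgroup.zpowers_le.mpr (hNR hyN'))
      have h5 : S₂ = R := eq_of_isPGroup_of_relIndex le_sup_left hS₂HM hS₂p hR.2.2
      apply hyR'
      rw [← h5]
      exact Subgroup.mem_sup_right (Subgroup.mem_zpowers y')
    exact hHnle (le_of_zj_factorization hodd hp2 hHsolv hRsylH hK (inf_le_right.trans hNZ))
  obtain ⟨hNP, hPsyl⟩ := h.sylow_facts hRsylM hBR
  have hRsylH : SylIn p H R := sylIn_of_sylow hPsyl hRH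
  -- `O_{p'}(M) ≠ 1`
  have hW : cG p M ≠ ⊥ := by
    intro hW
    obtain ⟨hNZ, -, -⟩ := sylow_of_zj_normal h.hG h.hM hRsylM hR1
      (le_normalizer_zj_of_cG_eq_bot h.hG hp2 h.hM hW hRsylM)
    exact hHnle (le_of_zj_factorization hodd hp2 hHsolv hRsylH hK (inf_le_right.trans hNZ.le))
  have hNW : Subgroup.normalizer (cG p M : Set G) = M :=
    normalizer_eq_of_isCoatom h.hG h.hM hW (cG_le p M) (le_normalizer_cG p M)
  by_cases hr : PRankLE p 2 ↥R
  · exact hHnle (le_of_rank_two hodd hHsolv hRsylH hr hK (inf_le_right.trans hNP))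
  -- rank at least three
  obtain ⟨A, hA, hrA⟩ := exists_scn3 hp2 hRp hr
  obtain ⟨T, hT⟩ := hPsyl
  have hAR : A ≤ R := hA.1
  have hAp : IsPGroup p A := hRp.to_le hAR
  obtain ⟨E, hEA, hE, hEcard⟩ := exists_elementary_of_not_pRankLE hrA
  have hA1 : A ≠ ⊥ := by
    intro h0
    rw [h0] at hEA
    have : E = ⊥ := le_bot_iff.mp hEA
    rw [this, Subgroup.card_bot] at hEcard
    have := Nat.one_le_pow 2 p hp.out.pos
    omega
  have hr1 : ¬ PRankLE p 1 ↥A := by
    intro h1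
    apply hrA
    intro B' hB' hBe'
    have h2 := h1 B' hB' hBe'
    have h3 : p ^ 1 ≤ p ^ 2 := Nat.pow_le_pow_right hp.out.pos (by norm_num)
    omega
  have hTH : TransitivityHypothesis A :=
    theorem_7_6 h.hG h.p_dvd hAp (Or.inr ⟨T, by rw [hT]; exact hA, hr1⟩)
  have hAc : ∀ a ∈ A, ∀ b ∈ A, a * b = b * a := scn_comm hA
  have hAcent : A ≤ Subgroup.centralizer (A : Set G) := by
    have : A ≤ R ⊓ Subgroup.centralizer (A : Set G) := by rw [hA.2.2]
    exact this.trans inf_le_right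
  have htr : ∀ q : ℕ, q.Prime → ¬ q ∣ Nat.card A → Transitive A q := by
    intro q hq hqA
    apply theorem_7_3 h.hG hTH _ hq hqA
    intro hR'
    exact not_pRankLE_of_elementary (le_inf hEA (hEA.trans hAcent)) hE hEcard (hR' p hp.out)
  have hpA : p ∣ Nat.card A := by
    rcases hAp.card_eq_or_dvd with h2 | h2
    · exact absurd (Subgroup.card_eq_one.mp h2) hA1
    · exact h2
  have hPπ : ∀ r : ℕ, r.Prime → r ∣ Nat.card R → r ∣ Nat.card A := by
    intro r hr' hd
    obtain ⟨n, hn⟩ := IsPGroup.iff_card.mp hRp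
    rw [hn] at hd
    have : r = p := (Nat.prime_dvd_prime_iff_eq hr' hp.out).mp (hr'.dvd_of_dvd_pow hd)
    rw [this]; exact hpA
  have hsn : (A.subgroupOf R).IsSubnormal := by
    have : (A.subgroupOf R).Normal := Subgroup.normal_subgroupOf_of_le_normalizer hA.2.1
    exact Subgroup.Normal.isSubnormal this
  have hKAW : KA A ≤ cG p M := by
    apply h.inv_le_cG hRsylM hBR
    · exact (isPiNum_cpi_iff hAp hA1 _).mp (isPiNum_card_piCoreOf (cpi A) _)
    · exact hA.2.1.trans (normalizer_le_normalizer_KA A)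
  -- every `A`-invariant subgroup of prime power order prime to `p` lies in `O_{p'}(M)`
  have hinvq : ∀ q : ℕ, q.Prime → q ≠ p → ∀ Q : Subgroup G, IsPGroup q Q →
      A ≤ Subgroup.normalizer (Q : Set G) → Q ≤ cG p M := by
    intro q hq hqp Q hQ hAQ
    have : Fact q.Prime := ⟨hq⟩
    have hqA : ¬ q ∣ Nat.card A := by
      intro hd
      obtain ⟨n, hn⟩ := IsPGroup.iff_card.mp hAp
      rw [hn] at hd
      exact hqp ((Nat.prime_dvd_prime_iff_eq hq hp.out).mp (hq.dvd_of_dvd_pow hd))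
    have hQinv : Q ∈ invSubgroups ⊤ A {q} := ⟨le_top, isPiNum_singleton_of_isPGroup hQ, hAQ⟩
    obtain ⟨Qs, hQs, hQle⟩ := exists_maxInv_ge hQinv
    obtain ⟨QP, hQP, -⟩ := exists_maxInv_ge (bot_mem_inv R {q})
    obtain ⟨-, -, -, hsub⟩ := theorem_7_5 h.hG hTH hq hqA (isPGroup_ne_top h.hG hRp) hPπ hAR hsn
      (htr q hq hqA)
    have hQP' := hsub hQP
    obtain ⟨k, hk, hkQ⟩ := htr q hq hqA QP hQP' Qs hQs
    have hQPW : QP ≤ cG p M :=
      h.inv_le_cG hRsylM hBR (coprime_of_isPGroup_ne hqp (isPGroup_of_mem_maxInv hQP)) hQP.1.2.2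
    have hQsW : Qs ≤ cG p M := by
      rw [hkQ]
      have h1 : cj k (cG p M) = cG p M := cj_eq_self_of_mem (hKAW hk)
      rw [← h1]; exact cj_mono k hQPW
    exact hQle.trans hQsW
  have hinv : ∀ Y : Subgroup G, (Nat.card Y).Coprime p →
      A ≤ Subgroup.normalizer (Y : Set G) → Y ≤ cG p M :=
    fun Y hY hAY => le_of_inv_sylows hAp hY hAY hinvq
  obtain ⟨P₁, hAP₁, hP₁R, hfr⟩ := exists_frattini_sub hodd hp2 hHsolv hRsylH hAR hA.2.1 hAc
  have hNP₁ : Subgroup.normalizer (P₁ : Set G) ≤ M := by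
    intro n hn
    rw [← hNW, mem_normalizer_iff_cj]
    apply cj_eq_of_le
    apply hinv
    · rw [card_cj]; exact card_cG_coprime p M
    · have h1 : cj n P₁ = P₁ := mem_normalizer_iff_cj.mp hn
      have h2 := le_normalizer_cj (g := n) ((hP₁R.trans hRM).trans (le_normalizer_cG p M))
      rw [h1] at h2
      exact hAP₁.trans h2
  apply hHnle
  intro x hx
  obtain ⟨k, hk, n, hn, -, rfl⟩ := hfr x hx
  exact M.mul_mem (hK hk) (hNP₁ hn)

end S91

end Cfsg.Agent.Lib.Helper4.BG9
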