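import Mathlib
import Cfsg.Agent.Lib.Helper4.BG9b
import Cfsg.Agent.S1398

set_option autoImplicit false
open Pointwise
open scoped commutatorElement

/-! Bender–Glauberman Corollary 9.2 and basic facts on the class `𝒰`. -/

namespace Cfsg.Agent.Lib.Helper4.BG9

open Cfsg Cfsg.Agent.Lib.Helper4 Cfsg.Agent.Lib.Lead Cfsg.Agent.Lib.Helper6 Cfsg.Agent.Lib.Helper7
open Cfsg.Agent.Lib.Helper4.BG7 Cfsg.Agent.Lib.Helper4.BG76 Cfsg.Agent.Lib.Helper4.ThreeStep
open Cfsg.Agent.Lib.Helper4.BG8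

universe u

variable {G : Type u} [Group G]

/-- an elementary abelian group of order more than `p` is not cyclic -/
theorem not_isCyclic_of_elementary {p : ℕ} [hp : Fact p.Prime] {E : Subgroup G}
    (hE : IsElementaryAbelian p E) (hcard : p < Nat.card E) : ¬ IsCyclic ↥E := by
  intro hc
  have : Finite ↥E := Nat.finite_of_card_ne_zero (by omega)
  classical
  have := Fintype.ofFinite ↥E
  have h2 : ∀ b : ↥E, b ^ p = 1 := fun b => Subtype.ext (by simpa using hE.2 b b.2)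
  have h3 := IsCyclic.card_pow_eq_one_le (α := ↥E) hp.out.pos
  have h4 : (Finset.univ.filter (fun a : ↥E => a ^ p = 1)) = Finset.univ := by
    ext b; simp [h2 b]
  rw [h4, Finset.card_univ] at h3
  rw [Nat.card_eq_fintype_card] at hcard
  omega

theorem inUniqueMaximal_mono {X Y : Subgroup G} (hX : InUniqueMaximal X) (hXY : X ≤ Y) (hY : Y ≠ ⊤)
    [Finite G] : InUniqueMaximal Y := by
  obtain ⟨M, ⟨hM, hXM⟩, huniq⟩ := hX
  obtain ⟨M', hM', hYM'⟩ := exists_coatom_ge hY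
  have e : M' = M := huniq M' ⟨hM', hXY.trans hYM'⟩
  refine ⟨M, ⟨hM, e ▸ hYM'⟩, ?_⟩
  rintro L ⟨hL, hYL⟩
  exact huniq L ⟨hL, hXY.trans hYL⟩

theorem isCoatom_cj {M : Subgroup G} (hM : IsCoatom M) (g : G) : IsCoatom (cj g M) := by
  have h1 := (OrderIso.isCoatom_iff (MulAut.conj g).mapSubgroup M).mpr hM
  exact h1

theorem inUniqueMaximal_cj {X : Subgroup G} (hX : InUniqueMaximal X) (g : G) :
    InUniqueMaximal (cj g X) := by
  obtain ⟨M, ⟨hM, hXM⟩, huniq⟩ := hX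
  refine ⟨cj g M, ⟨isCoatom_cj hM g, cj_mono g hXM⟩, ?_⟩
  rintro L ⟨hL, hXL⟩
  have h1 : cj g⁻¹ L = M := by
    apply huniq
    refine ⟨isCoatom_cj hL g⁻¹, ?_⟩
    have := cj_mono g⁻¹ hXL
    rw [cj_inv_cj] at this
    exact this
  rw [← h1, cj_cj_inv]

variable [Finite G]

/-- in a minimal simple group of odd order no cyclic subgroup is everything -/
theorem zpowers_ne_top (hG : IsMinSimpleOddOrder G) (g : G) : Subgroup.zpowers g ≠ ⊤ := by
  intro h0
  apply hG.2.2.1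
  refine ⟨⟨fun a b => ?_⟩⟩
  have ha : a ∈ Subgroup.zpowers g := by rw [h0]; trivial
  have hb : b ∈ Subgroup.zpowers g := by rw [h0]; trivial
  obtain ⟨i, rfl⟩ := Subgroup.mem_zpowers_iff.mp ha
  obtain ⟨j, rfl⟩ := Subgroup.mem_zpowers_iff.mp hb
  exact zpow_mul_comm g i j

theorem ne_bot_of_inUniqueMaximal (hG : IsMinSimpleOddOrder G) {L : Subgroup G}
    (hL : InUniqueMaximal L) : L ≠ ⊥ := by
  intro h0
  obtain ⟨M, ⟨hM, -⟩, huniq⟩ := hL
  apply hM.1
  rw [eq_top_iff]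
  intro g _
  obtain ⟨M', hM', hgM'⟩ := exists_coatom_ge (zpowers_ne_top hG g)
  have e : M' = M := huniq M' ⟨hM', by rw [h0]; exact bot_le⟩
  rw [← e]
  exact hgM' (Subgroup.mem_zpowers g)

/-- BG Corollary 9.2 -/
theorem cor_9_2 (hG : IsMinSimpleOddOrder G) {L K : Subgroup G} (hL : InUniqueMaximal L)
    (hK : K ≤ Subgroup.centralizer (L : Set G)) (hKr : ¬ RankLE 1 ↥K) : InUniqueMaximal K := by
  have hL1 := ne_bot_of_inUniqueMaximal hG hL
  obtain ⟨M, ⟨hM, hLM⟩, huniq⟩ := hL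
  obtain ⟨p, hp, E, hEK, hE, hEcard⟩ := exists_elementary_of_not_rankLE hKr
  have : Fact p.Prime := ⟨hp⟩
  rw [pow_one] at hEcard
  have hEnc := not_isCyclic_of_elementary hE hEcard
  -- every proper subgroup containing `L` lies in `M`
  have key : ∀ X : Subgroup G, X ≠ ⊤ → L ≤ X → X ≤ M := by
    intro X hX hLX
    obtain ⟨M', hM', hXM'⟩ := exists_coatom_ge hX
    have e : M' = M := huniq M' ⟨hM', hLX.trans hXM'⟩
    rw [← e]; exact hXM'
  have hcent : ∀ b ∈ E, b ≠ 1 → Subgroup.centralizer ({b} : Set G) ≤ M := by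
    intro b hb hb1
    apply key _ (center_ne_top hG hb1)
    intro l hl
    rw [Subgroup.mem_centralizer_singleton_iff]
    have h1 := Subgroup.mem_centralizer_iff.mp (hK (hEK hb)) l hl
    exact h1
  have hE1 : E ≠ ⊥ := by
    intro h0
    rw [h0, Subgroup.card_bot] at hEcard
    have := hp.one_lt
    omega
  obtain ⟨b, hb1⟩ := (Subgroup.ne_bot_iff_exists_ne_one.mp hE1)
  have hb1' : (b : G) ≠ 1 := fun h0 => hb1 (Subtype.ext h0)
  have hEM : E ≤ M := by
    refine le_trans ?_ (hcent b b.2 hb1')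
    intro e he
    rw [Subgroup.mem_centralizer_singleton_iff]
    have := hE.1.is_comm.comm ⟨e, he⟩ b
    exact congrArg Subtype.val this
  have hEU : InUniqueMaximal E :=
    Cfsg.Agent.S1398.result hG M hM p E hEM hE hEnc (Or.inl hcent)
  apply inUniqueMaximal_mono hEU hEK
  -- `K ≠ ⊤`
  obtain ⟨l, hl1⟩ := (Subgroup.ne_bot_iff_exists_ne_one.mp hL1)
  have hl1' : (l : G) ≠ 1 := fun h0 => hl1 (Subtype.ext h0)
  intro h0
  apply center_ne_top hG hl1'
  rw [eq_top_iff, ← h0]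
  intro k hk
  rw [Subgroup.mem_centralizer_singleton_iff]
  exact (Subgroup.mem_centralizer_iff.mp (hK hk) l l.2).symm

end Cfsg.Agent.Lib.Helper4.BG9
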