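import Mathlib
import Cfsg.Agent.Lib.Helper4.BG9c
import Cfsg.Agent.S1337

set_option autoImplicit false
open Pointwise
open scoped commutatorElement

/-! Bender–Glauberman Lemma 9.3. -/

namespace Cfsg.Agent.Lib.Helper4.BG9

open Cfsg Cfsg.Agent.Lib.Helper4 Cfsg.Agent.Lib.Lead Cfsg.Agent.Lib.Helper6 Cfsg.Agent.Lib.Helper7
open Cfsg.Agent.Lib.Helper4.BG7 Cfsg.Agent.Lib.Helper4.BG76 Cfsg.Agent.Lib.Helper4.ThreeStep
open Cfsg.Agent.Lib.Helper4.BG8

universe u v

theorem chain_transfer {α : Type v} {r : α → α → Prop} {Q : α → Prop}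
    (hsymm : ∀ a b, r a b → r b a) (hstep : ∀ a b, r a b → Q a → Q b) {a b c : α}
    (ha : Relation.ReflTransGen r a c) (hb : Relation.ReflTransGen r b c) (hQ : Q a) : Q b := by
  have hc : Q c := by
    clear hb
    induction ha with
    | refl => exact hQ
    | tail _ hbc ih => exact hstep _ _ hbc ih
  clear ha hQ
  induction hb using Relation.ReflTransGen.head_induction_on with
  | refl => exact hc
  | head h' _ ih => exact hstep _ _ (hsymm _ _ h') ih

variable {G : Type u} [Group G]

theorem isElementaryAbelian_map {H : Type v} [Group H] {p : ℕ} {E : Subgroup G}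
    (hE : IsElementaryAbelian p E) (f : G →* H) : IsElementaryAbelian p (E.map f) := by
  refine ⟨⟨⟨?_⟩⟩, ?_⟩
  · rintro ⟨_, a, ha, rfl⟩ ⟨_, b, hb, rfl⟩
    apply Subtype.ext
    have h1 := hE.1.is_comm.comm ⟨a, ha⟩ ⟨b, hb⟩
    have h2 : a * b = b * a := congrArg Subtype.val h1
    show f a * f b = f b * f a
    rw [← map_mul, ← map_mul, h2]
  · rintro _ ⟨a, ha, rfl⟩
    rw [← map_pow, hE.2 a ha, map_one]

theorem isElementaryAbelian_subgroupOf {p : ℕ} {E : Subgroup G}
    (hE : IsElementaryAbelian p E) (P : Subgroup G) : IsElementaryAbelian p (E.subgroupOf P) := by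
  refine ⟨⟨⟨?_⟩⟩, ?_⟩
  · rintro ⟨a, ha⟩ ⟨b, hb⟩
    rw [Subgroup.mem_subgroupOf] at ha hb
    apply Subtype.ext
    apply Subtype.ext
    have h1 := hE.1.is_comm.comm ⟨a, ha⟩ ⟨b, hb⟩
    show (a : G) * (b : G) = (b : G) * (a : G)
    exact congrArg Subtype.val h1
  · intro a ha
    rw [Subgroup.mem_subgroupOf] at ha
    apply Subtype.ext
    have := hE.2 a ha
    simpa using this

variable [Finite G]

/-- BG Lemma 9.3 -/
theorem lemma_9_3 (hG : IsMinSimpleOddOrder G) {p : ℕ} [hp : Fact p.Prime] {A B : Subgroup G}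
    (hAp : IsPGroup p A) (hAc : IsMulCommutative A) (hA3 : ¬ PRankLE p 2 ↥A)
    (hAU : InUniqueMaximal A) (hBp : IsPGroup p B) (hBnc : ¬ IsCyclic B)
    (hB3 : ¬ PRankLE p 2 ↥(Subgroup.centralizer (B : Set G))) : InUniqueMaximal B := by
  have hA1 : A ≠ ⊥ := ne_bot_of_inUniqueMaximal hG hAU
  have hpG : p ∣ Nat.card G := by
    rcases hAp.card_eq_or_dvd with h1 | h1
    · exact absurd (Subgroup.card_eq_one.mp h1) hA1
    · exact h1.trans (Subgroup.card_subgroup_dvd_card A)
  have hp2 : p ≠ 2 := ne_two_of_odd hG hpG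
  have hpp : p < p ^ 2 := by
    have := hp.out.one_lt
    nlinarith
  -- the elementary abelian subgroup of `A`
  obtain ⟨E, hEA, hE, hEcard⟩ := exists_elementary_of_not_pRankLE hA3
  have hEU : InUniqueMaximal E := by
    apply cor_9_2 hG hAU
    · intro e he
      rw [Subgroup.mem_centralizer_iff]
      intro a ha
      exact congrArg Subtype.val (hAc.is_comm.comm ⟨a, ha⟩ ⟨e, hEA he⟩)
    · intro hR
      exact not_pRankLE_of_elementary le_rfl hE (by rw [pow_one]; omega) (hR p hp.out)
  -- the elementary abelian subgroup of `C_G(B)`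
  obtain ⟨E₃, hE₃C, hE₃, hE₃card⟩ := exists_elementary_of_not_pRankLE hB3
  have hE₃p : IsPGroup p E₃ := isPGroup_of_elementary hE₃
  have hBE₃ : B ≤ Subgroup.normalizer (E₃ : Set G) := by
    intro b hb
    rw [Subgroup.mem_normalizer_iff]
    intro x
    constructor
    · intro hx
      have h1 := Subgroup.mem_centralizer_iff.mp (hE₃C hx) b hb
      have : b * x * b⁻¹ = x := by rw [h1]; group
      rw [this]; exact hx
    · intro hx
      have h1 := Subgroup.mem_centralizer_iff.mp (hE₃C hx) b hb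
      have h2 : b * (b * x * b⁻¹) = b * x := by rw [h1]; group
      have h3 := mul_left_cancel h2
      rw [← h3]; exact hx
  have hDp : IsPGroup p (B ⊔ E₃ : Subgroup G) := IsPGroup.to_sup_of_normal_right' hBp hE₃p hBE₃
  obtain ⟨P, hDP⟩ := hDp.exists_le_sylow
  have hBP : B ≤ (P : Subgroup G) := le_sup_left.trans hDP
  have hE₃P : E₃ ≤ (P : Subgroup G) := le_sup_right.trans hDP
  have hEp : IsPGroup p E := hAp.to_le hEA
  obtain ⟨g, -, hgE⟩ := SylIn.exists_conj_le (sylIn_top_of_sylow P) (le_top : E ≤ ⊤) hEp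
  have hE'U : InUniqueMaximal (cj g E) := inUniqueMaximal_cj hEU g
  have hE'e : IsElementaryAbelian p (cj g E) := isElementaryAbelian_map hE _
  have hE'card : p ^ 2 < Nat.card (cj g E) := by rw [card_cj]; exact hEcard
  -- structure of the Sylow subgroup
  have hPp : IsPGroup p ↥(P : Subgroup G) := P.isPGroup'
  have hPr : ¬ PRankLE p 2 ↥(P : Subgroup G) := not_pRankLE_of_elementary hgE hE'e hE'card
  obtain ⟨U, -, -, -, hU⟩ := Cfsg.Agent.S1337.result p hPp hPr
  -- the two end points
  set XA : Subgroup ↥(P : Subgroup G) := (cj g E).subgroupOf (P : Subgroup G) with hXA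
  have hXAe : IsElementaryAbelian p XA := isElementaryAbelian_subgroupOf hE'e _
  have hXAcard : Nat.card XA = Nat.card (cj g E) := card_subgroupOf_of_le hgE
  have hXAmap : XA.map (P : Subgroup G).subtype = cj g E := Subgroup.map_subgroupOf_eq_of_le hgE
  have hXAcent : XA ≤ Subgroup.centralizer (XA : Set ↥(P : Subgroup G)) :=
    le_centralizer_self_of_elementary hXAe
  have hchainA := (hU XA hXAe (by omega)).mpr
    (not_pRankLE_of_elementary hXAcent hXAe (by omega))
  obtain ⟨EB, -, hEBe, hEBcard⟩ := Cfsg.Agent.S0126.result hp2 hBp hBnc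
  have hEB'e : IsElementaryAbelian p (EB.map B.subtype) := isElementaryAbelian_map hEBe _
  have hEB'card : Nat.card (EB.map B.subtype) = p ^ 2 := by
    rw [Subgroup.card_map_of_injective B.subtype_injective]; exact hEBcard
  have hEB'B : EB.map B.subtype ≤ B := Subgroup.map_subtype_le _
  have hEB'P : EB.map B.subtype ≤ (P : Subgroup G) := hEB'B.trans hBP
  set XB : Subgroup ↥(P : Subgroup G) := (EB.map B.subtype).subgroupOf (P : Subgroup G) with hXB
  have hXBe : IsElementaryAbelian p XB := isElementaryAbelian_subgroupOf hEB'e _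
  have hXBcard : Nat.card XB = p ^ 2 := by rw [hXB, card_subgroupOf_of_le hEB'P]; exact hEB'card
  have hXBmap : XB.map (P : Subgroup G).subtype = EB.map B.subtype :=
    Subgroup.map_subgroupOf_eq_of_le hEB'P
  have hE₃cent : E₃.subgroupOf (P : Subgroup G) ≤
      Subgroup.centralizer (XB : Set ↥(P : Subgroup G)) := by
    intro x hx
    rw [Subgroup.mem_subgroupOf] at hx
    rw [Subgroup.mem_centralizer_iff]
    intro y hy
    have hy' : (y : G) ∈ EB.map B.subtype := by
      have : y ∈ XB := hy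
      rw [hXB, Subgroup.mem_subgroupOf] at this
      exact this
    apply Subtype.ext
    exact Subgroup.mem_centralizer_iff.mp (hE₃C hx) (y : G) (hEB'B hy')
  have hchainB := (hU XB hXBe (by omega)).mpr
    (not_pRankLE_of_elementary hE₃cent (isElementaryAbelian_subgroupOf hE₃ _)
      (by rw [card_subgroupOf_of_le hE₃P]; exact hE₃card))
  -- transfer along the chain
  have hfin : InUniqueMaximal (XB.map (P : Subgroup G).subtype) := by
    refine chain_transfer (Q := fun X : Subgroup ↥(P : Subgroup G) =>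
      InUniqueMaximal (X.map (P : Subgroup G).subtype)) ?_ ?_ hchainA hchainB ?_
    · rintro X Y ⟨h1, h2, h3, h4, h5⟩
      exact ⟨h3, h4, h1, h2, fun a ha b hb => (h5 b hb a ha).symm⟩
    · rintro X Y ⟨-, -, hYe, hYcard, hcomm⟩ hXU
      apply cor_9_2 hG hXU
      · rintro _ ⟨y, hy, rfl⟩
        rw [Subgroup.mem_centralizer_iff]
        rintro _ ⟨x, hx, rfl⟩
        exact congrArg Subtype.val (hcomm x hx y hy)
      · intro hR
        have hYe' : IsElementaryAbelian p (Y.map (P : Subgroup G).subtype) :=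
          isElementaryAbelian_map hYe _
        have hYc' : Nat.card (Y.map (P : Subgroup G).subtype) = Nat.card Y :=
          Subgroup.card_map_of_injective (P : Subgroup G).subtype_injective
        exact not_pRankLE_of_elementary le_rfl hYe' (by rw [pow_one, hYc']; omega) (hR p hp.out)
    · show InUniqueMaximal (XA.map (P : Subgroup G).subtype)
      rw [hXAmap]; exact hE'U
  rw [hXBmap] at hfin
  exact inUniqueMaximal_mono hfin hEB'B (isPGroup_ne_top hG hBp)

end Cfsg.Agent.Lib.Helper4.BG9
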