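import Mathlib
import Cfsg.Agent.Lib.Helper4.BG9d
import Cfsg.Agent.S1397

set_option autoImplicit false
open Pointwise
open scoped commutatorElement

/-! Bender–Glauberman Lemma 9.4. -/

namespace Cfsg.Agent.Lib.Helper4.BG9

open Cfsg Cfsg.Agent.Lib.Helper4 Cfsg.Agent.Lib.Lead Cfsg.Agent.Lib.Helper6 Cfsg.Agent.Lib.Helper7
open Cfsg.Agent.Lib.Helper4.BG7 Cfsg.Agent.Lib.Helper4.BG76 Cfsg.Agent.Lib.Helper4.ThreeStep
open Cfsg.Agent.Lib.Helper4.BG8

universe u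

variable {G : Type u} [Group G] [Finite G]

theorem exists_max_elementary {p : ℕ} {F E : Subgroup G} (hEF : E ≤ F)
    (hE : IsElementaryAbelian p E) :
    ∃ A₀ : Subgroup G, A₀ ≤ F ∧ IsElementaryAbelian p A₀ ∧ E ≤ A₀ ∧
      ∀ B : Subgroup G, B ≤ F → IsElementaryAbelian p B → A₀ ≤ B → B = A₀ := by
  let 𝒯 := {B : Subgroup G // B ≤ F ∧ IsElementaryAbelian p B ∧ E ≤ B}
  have : Nonempty 𝒯 := ⟨⟨E, hEF, hE, le_rfl⟩⟩
  have : Finite 𝒯 := Subtype.finite
  obtain ⟨⟨A₀, h1, h2, h3⟩, hmax⟩ := Finite.exists_max (fun B : 𝒯 => Nat.card ↥B.1)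
  refine ⟨A₀, h1, h2, h3, ?_⟩
  intro B hBF hBe hAB
  have := hmax ⟨B, hBF, hBe, h3.trans hAB⟩
  exact (Subgroup.eq_of_le_of_card_ge hAB this).symm

/-- an abelian `p`-group of rank at least three satisfies the hypotheses on `B` in Lemma 9.3 -/
theorem abelian_rank_three_facts {p : ℕ} [hp : Fact p.Prime] {A : Subgroup G}
    (hAc : IsMulCommutative A) (hA3 : ¬ PRankLE p 2 ↥A) :
    ¬ IsCyclic ↥A ∧ ¬ PRankLE p 2 ↥(Subgroup.centralizer (A : Set G)) := by
  obtain ⟨E, hEA, hE, hEcard⟩ := exists_elementary_of_not_pRankLE hA3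
  have hpp : p < p ^ 2 := by
    have := hp.out.one_lt
    nlinarith
  constructor
  · intro hc
    have h1 : IsCyclic ↥(E.subgroupOf A) := Subgroup.isCyclic _
    have h2 : IsCyclic ↥E := (Subgroup.subgroupOfEquivOfLe hEA).isCyclic.mp h1
    exact not_isCyclic_of_elementary hE (by omega) h2
  · apply not_pRankLE_of_elementary _ hE hEcard
    intro e he
    rw [Subgroup.mem_centralizer_iff]
    intro a ha
    exact congrArg Subtype.val (hAc.is_comm.comm ⟨a, ha⟩ ⟨e, hEA he⟩)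

/-- BG Lemma 9.4 -/
theorem lemma_9_4 (hG : IsMinSimpleOddOrder G) {M : Subgroup G} (hM : IsCoatom M) {p : ℕ}
    [hp : Fact p.Prime] (hF : ¬ PRankLE p 2 ↥(fittingOf M)) {A : Subgroup G} (hAp : IsPGroup p A)
    (hAc : IsMulCommutative A) (hA3 : ¬ PRankLE p 2 ↥A) : InUniqueMaximal A := by
  obtain ⟨hAnc, hAC3⟩ := abelian_rank_three_facts hAc hA3
  obtain ⟨E, hEF, hE, hEcard⟩ := exists_elementary_of_not_pRankLE hF
  have hE1 : E ≠ ⊥ := by
    intro h0
    rw [h0, Subgroup.card_bot] at hEcard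
    have := Nat.one_le_pow 2 p hp.out.pos
    omega
  have hEp : IsPGroup p E := isPGroup_of_elementary hE
  have hpG : p ∣ Nat.card G := by
    rcases hEp.card_eq_or_dvd with h1 | h1
    · exact absurd (Subgroup.card_eq_one.mp h1) hE1
    · exact h1.trans (Subgroup.card_subgroup_dvd_card E)
  have hp2 : p ≠ 2 := ne_two_of_odd hG hpG
  have hpp : p < p ^ 2 := by
    have := hp.out.one_lt
    nlinarith
  obtain ⟨A₀, hA₀F, hA₀e, hEA₀, hA₀max⟩ := exists_max_elementary hEF hE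
  have hA₀p : IsPGroup p A₀ := isPGroup_of_elementary hA₀e
  have hA₀card : p ^ 2 < Nat.card A₀ := lt_of_lt_of_le hEcard (Subgroup.card_le_of_le hEA₀)
  have hA₀3 : p ^ 3 ≤ Nat.card A₀ := by
    obtain ⟨k, hk⟩ := IsPGroup.iff_card.mp hA₀p
    rw [hk] at hA₀card ⊢
    have h1 : 2 < k := (Nat.pow_lt_pow_iff_right hp.out.one_lt).mp hA₀card
    exact Nat.pow_le_pow_right hp.out.pos h1
  obtain ⟨ha, hb⟩ := Cfsg.Agent.S1397.result hG M hM p A₀ hA₀F hA₀e hA₀3 hA₀max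
  by_cases hFp : IsPGroup p ↥(fittingOf M)
  · obtain ⟨P⟩ : Nonempty (Sylow p ↥M) := inferInstance
    obtain ⟨-, hall⟩ := hb hFp P
    set P' := (P : Subgroup ↥M).map M.subtype with hP'
    have hP'syl : SylIn p M P' := sylIn_map_sylow P
    have hFP' : fittingOf M ≤ P' :=
      SylIn.normal_le hP'syl (fittingOf_le M) (le_normalizer_fittingOf M) hFp
    have hP'r : ¬ PRankLE p 2 ↥P' := not_pRankLE_of_elementary (hEF.trans hFP') hE hEcard
    obtain ⟨As, hAs, hAsr⟩ := exists_scn3 hp2 hP'syl.2.1 hP'r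
    obtain ⟨-, hAsU⟩ := hall As hAs hAsr
    have hAsc : IsMulCommutative ↥As :=
      ⟨⟨fun a b => Subtype.ext (scn_comm hAs a.1 a.2 b.1 b.2)⟩⟩
    exact lemma_9_3 hG (hP'syl.2.1.to_le hAs.1) hAsc hAsr hAsU hAp hAnc hAC3
  · have hCU := ha hFp
    have hA₀U : InUniqueMaximal A₀ := by
      apply cor_9_2 hG hCU
      · intro a ha'
        rw [Subgroup.mem_centralizer_iff]
        rintro c ⟨-, hc⟩
        exact (Subgroup.mem_centralizer_iff.mp hc a ha').symm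
      · intro hR
        exact not_pRankLE_of_elementary le_rfl hA₀e (by rw [pow_one]; omega) (hR p hp.out)
    have hA₀r : ¬ PRankLE p 2 ↥A₀ := not_pRankLE_of_elementary le_rfl hA₀e hA₀card
    exact lemma_9_3 hG hA₀p hA₀e.1 hA₀r hA₀U hAp hAnc hAC3

end Cfsg.Agent.Lib.Helper4.BG9
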