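import Mathlib
import Cfsg.Agent.Lib.Helper4.BG9e

set_option autoImplicit false
open Pointwise
open scoped commutatorElement

/-! Bender–Glauberman Theorem 9.6 (the Uniqueness Theorem), from Theorem 9.5 as a hypothesis. -/

namespace Cfsg.Agent.Lib.Helper4.BG9

open Cfsg Cfsg.Agent.Lib.Helper4 Cfsg.Agent.Lib.Lead Cfsg.Agent.Lib.Helper6 Cfsg.Agent.Lib.Helper7
open Cfsg.Agent.Lib.Helper4.BG7 Cfsg.Agent.Lib.Helper4.BG76 Cfsg.Agent.Lib.Helper4.ThreeStep
open Cfsg.Agent.Lib.Helper4.BG8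

universe u

variable {G : Type u} [Group G] [Finite G]

/-- The conclusion of Theorem 9.5, as a hypothesis. -/
def H95 (G : Type u) [Group G] : Prop :=
  ∀ (p : ℕ) [Fact p.Prime] (P : Sylow p G) (A : Subgroup G), IsSCN (P : Subgroup G) A →
    ¬ PRankLE p 2 ↥A → InUniqueMaximal A

theorem elementary_three_unique (hG : IsMinSimpleOddOrder G) (h95 : H95 G) {p : ℕ}
    [hp : Fact p.Prime] {E : Subgroup G} (hE : IsElementaryAbelian p E)
    (hcard : p ^ 2 < Nat.card E) : InUniqueMaximal E := by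
  have hEp : IsPGroup p E := isPGroup_of_elementary hE
  obtain ⟨P, hEP⟩ := hEp.exists_le_sylow
  have hE1 : E ≠ ⊥ := by
    intro h0
    rw [h0, Subgroup.card_bot] at hcard
    have := Nat.one_le_pow 2 p hp.out.pos
    omega
  have hpG : p ∣ Nat.card G := by
    rcases hEp.card_eq_or_dvd with h1 | h1
    · exact absurd (Subgroup.card_eq_one.mp h1) hE1
    · exact h1.trans (Subgroup.card_subgroup_dvd_card E)
  have hp2 : p ≠ 2 := ne_two_of_odd hG hpG
  have hr : ¬ PRankLE p 2 ↥(P : Subgroup G) := not_pRankLE_of_elementary hEP hE hcard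
  obtain ⟨A, hA, hA3⟩ := exists_scn3 hp2 P.2 hr
  have hAU : InUniqueMaximal A := h95 p P A hA hA3
  have hAp : IsPGroup p A := P.2.to_le hA.1
  have hAc : IsMulCommutative A :=
    ⟨⟨fun a b => Subtype.ext (scn_comm hA a a.2 b b.2)⟩⟩
  have hpp : p < p ^ 2 := by
    have := hp.out.one_lt
    nlinarith
  have hEnc : ¬ IsCyclic ↥E := not_isCyclic_of_elementary hE (by omega)
  have hEcent : E ≤ Subgroup.centralizer (E : Set G) := by
    intro x hx
    rw [Subgroup.mem_centralizer_iff]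
    intro y hy
    have h1 := hE.1.is_comm.comm ⟨y, hy⟩ ⟨x, hx⟩
    exact congrArg Subtype.val h1
  have hE3 : ¬ PRankLE p 2 ↥(Subgroup.centralizer (E : Set G)) :=
    not_pRankLE_of_elementary hEcent hE hcard
  exact lemma_9_3 hG hAp hAc hA3 hAU hEp hEnc hE3

theorem elementary_ne_top (hG : IsMinSimpleOddOrder G) {p : ℕ} {E : Subgroup G}
    (hE : IsElementaryAbelian p E) : E ≠ ⊤ := by
  intro h0
  apply hG.2.2.1
  refine ⟨⟨fun a b => ?_⟩⟩
  have ha : a ∈ E := by rw [h0]; trivial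
  have hb : b ∈ E := by rw [h0]; trivial
  have h1 := hE.1.is_comm.comm ⟨a, ha⟩ ⟨b, hb⟩
  exact congrArg Subtype.val h1

/-- BG Theorem 9.6 -/
theorem theorem_9_6 (hG : IsMinSimpleOddOrder G) (h95 : H95 G) (K : Subgroup G) (hK : K ≠ ⊤)
    (hK2 : ¬ RankLE 1 K)
    (hK3 : ¬ RankLE 2 K ∨ ¬ RankLE 2 (Subgroup.centralizer (K : Set G))) :
    InUniqueMaximal K := by
  rcases hK3 with h3 | h3
  · obtain ⟨p, hp, E, hEK, hE, hEcard⟩ := exists_elementary_of_not_rankLE h3
    have : Fact p.Prime := ⟨hp⟩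
    exact inUniqueMaximal_mono (elementary_three_unique hG h95 hE hEcard) hEK hK
  · obtain ⟨p, hp, E, hEC, hE, hEcard⟩ := exists_elementary_of_not_rankLE h3
    have : Fact p.Prime := ⟨hp⟩
    have hEU := elementary_three_unique hG h95 hE hEcard
    apply cor_9_2 hG hEU _ hK2
    intro k hk
    rw [Subgroup.mem_centralizer_iff]
    intro e he
    have h1 := Subgroup.mem_centralizer_iff.mp (hEC he) k hk
    exact h1.symm

end Cfsg.Agent.Lib.Helper4.BG9
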