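import Mathlib
import Cfsg.Agent.Lib.Helper4.Narrow6

set_option autoImplicit false

/-! Preparations for B&G Corollary 12.14: in a `p`-group of rank at least three, an element of order `p`
whose centralizer has rank at most two lies in a maximal elementary abelian subgroup of order `p ^ 2`
and outside the derived group; derived groups and normal complements. -/

namespace Cfsg.Agent.Lib.Helper4.BG12

open Cfsg Cfsg.Agent.Lib.Helper4.Narrow Cfsg.Agent.Lib.Helper3.NormalSq
open scoped commutatorElement

section abs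

variable {R : Type*} [Group R] [Finite R] {p : ℕ} [hp : Fact p.Prime]

theorem omCenter_ne_bot (hR : IsPGroup p R) [Nontrivial R] : Om p (Subgroup.center R) ≠ ⊥ := by
  have hZnt : Nontrivial (Subgroup.center R) := hR.center_nontrivial
  have hZp : IsPGroup p (Subgroup.center R) := hR.to_subgroup _
  obtain ⟨k, hk⟩ := IsPGroup.iff_card.mp hZp
  have hk0 : k ≠ 0 := by
    rintro rfl
    rw [pow_zero] at hk
    have := (Finite.one_lt_card_iff_nontrivial (α := Subgroup.center R)).mpr hZnt
    omega
  have hdvd : p ∣ Nat.card (Subgroup.center R) := by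
    rw [hk]; exact dvd_pow_self p hk0
  obtain ⟨z, hz⟩ := exists_prime_orderOf_dvd_card' p hdvd
  have hz1 : (z : R) ≠ 1 := by
    intro h
    have : z = 1 := Subtype.ext h
    rw [this, orderOf_one] at hz
    have := hp.out.one_lt
    omega
  have hzp : (z : R) ^ p = 1 := by
    have := pow_orderOf_eq_one z
    rw [hz] at this
    exact congrArg Subtype.val this
  intro hbot
  have : (z : R) ∈ Om p (Subgroup.center R) :=
    (mem_Om_iff (center_mul_pow) _).mpr ⟨z.2, hzp⟩
  rw [hbot, Subgroup.mem_bot] at this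
  exact hz1 this

/-- an element of order `p` whose centralizer has rank at most two, in a `p`-group of rank at least
three, lies in a maximal elementary abelian subgroup of order `p ^ 2` -/
theorem exists_max_sq_of_centralizer_rank (hR : IsPGroup p R) (hr : ¬ PRankLE p 2 R) {x : R}
    (hxp : x ^ p = 1) (hC : PRankLE p 2 ↥(Subgroup.centralizer ({x} : Set R))) :
    x ∉ Om p (Subgroup.center R) ∧
    IsElementaryAbelian p (Om p (Subgroup.center R) ⊔ Subgroup.zpowers x) ∧
    Nat.card ↥(Om p (Subgroup.center R) ⊔ Subgroup.zpowers x) = p ^ 2 ∧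
    ∀ B : Subgroup R, IsElementaryAbelian p B → Om p (Subgroup.center R) ⊔ Subgroup.zpowers x ≤ B →
      B = Om p (Subgroup.center R) ⊔ Subgroup.zpowers x := by
  classical
  have hp1 := hp.out.one_lt
  set Z₁ := Om p (Subgroup.center R) with hZ₁
  set C := Subgroup.centralizer ({x} : Set R) with hCdef
  have hZmem : ∀ z ∈ Z₁, z ∈ Subgroup.center R ∧ z ^ p = 1 := fun z hz =>
    (mem_Om_iff (center_mul_pow) z).mp hz
  have hzc : ∀ z ∈ Z₁, ∀ r : R, r * z = z * r := fun z hz r =>
    Subgroup.mem_center_iff.mp (hZmem z hz).1 r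
  have hRnt : Nontrivial R := by
    by_contra hnt
    rw [not_nontrivial_iff_subsingleton] at hnt
    apply hr
    intro A _ _
    have : Nat.card A = 1 := Nat.card_unique
    rw [this]
    exact Nat.one_le_pow _ _ hp.out.pos
  have hZ₁ne : Z₁ ≠ ⊥ := omCenter_ne_bot hR
  have hZ₁e : IsElementaryAbelian p Z₁ := by
    refine ⟨⟨⟨?_⟩⟩, fun z hz => (hZmem z hz).2⟩
    rintro ⟨a, ha⟩ ⟨b, hb⟩
    apply Subtype.ext
    exact (hzc a ha b).symm
  -- bound for abelian subgroups of exponent `p` containing `x`
  have hbound : ∀ B : Subgroup R, IsElementaryAbelian p B → x ∈ B → Nat.card B ≤ p ^ 2 := by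
    intro B hBe hxB
    have hBC : B ≤ C := by
      intro b hb
      rw [hCdef, Subgroup.mem_centralizer_singleton_iff]
      have := hBe.1.is_comm.comm (⟨b, hb⟩ : ↥B) ⟨x, hxB⟩
      exact congrArg Subtype.val this
    have h2 := hC (B.subgroupOf C) ?_ ?_
    · have h3 : Nat.card ↥(B.subgroupOf C) = Nat.card ↥B :=
        Nat.card_congr (Subgroup.subgroupOfEquivOfLe hBC).toEquiv
      rwa [h3] at h2
    · constructor
      constructor
      rintro ⟨a, ha⟩ ⟨b, hb⟩
      apply Subtype.ext
      apply Subtype.ext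
      rw [Subgroup.mem_subgroupOf] at ha hb
      have := hBe.1.is_comm.comm (⟨a, ha⟩ : ↥B) ⟨b, hb⟩
      have h2 := congrArg Subtype.val this
      simpa using h2
    · intro a ha
      rw [Subgroup.mem_subgroupOf] at ha
      apply Subtype.ext
      simpa using hBe.2 _ ha
  have hxZ₁ : x ∉ Z₁ := by
    intro h
    apply hr
    intro A hAc hAe
    -- `A ⊔ ⟨x⟩` is elementary abelian
    have h1 : IsElementaryAbelian p (A ⊔ Subgroup.zpowers x) := by
      apply isElementaryAbelian_sup ⟨hAc, hAe⟩ (isElementaryAbelian_zpowers hxp)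
      intro a _ b hb
      obtain ⟨i, rfl⟩ := Subgroup.mem_zpowers_iff.mp hb
      have hcx : Commute a x := hzc x h a
      exact (hcx.zpow_right i).eq
    have h2 := hbound _ h1 ((le_sup_right : Subgroup.zpowers x ≤ _) (Subgroup.mem_zpowers x))
    exact (Subgroup.card_le_of_le le_sup_left).trans h2
  set E := Z₁ ⊔ Subgroup.zpowers x with hE
  have hxE : x ∈ E := (le_sup_right : Subgroup.zpowers x ≤ _) (Subgroup.mem_zpowers x)
  have hEe : IsElementaryAbelian p E := by
    apply isElementaryAbelian_sup hZ₁e (isElementaryAbelian_zpowers hxp)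
    intro a ha b _
    exact (hzc a ha b).symm
  have hEle : Nat.card E ≤ p ^ 2 := hbound E hEe hxE
  have hEge : p ^ 2 ≤ Nat.card E := by
    have h1 := prime_le_card_of_ne_bot hR Z₁ hZ₁ne
    have h2 : Nat.card Z₁ < Nat.card E := by
      by_contra hcon
      push Not at hcon
      have h3 : Z₁ = E := Subgroup.eq_of_le_of_card_ge le_sup_left hcon
      exact hxZ₁ (h3 ▸ hxE)
    have h3 : p ^ 1 < Nat.card E := by rw [pow_one]; omega
    exact pow_succ_le_card_of_lt hR E 1 h3
  have hE2 : Nat.card E = p ^ 2 := le_antisymm hEle hEge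
  refine ⟨hxZ₁, hEe, hE2, ?_⟩
  intro B hBe hEB
  symm
  apply Subgroup.eq_of_le_of_card_ge hEB
  rw [hE2]
  exact hbound B hBe (hEB hxE)

/-- an element of order `p` whose centralizer has rank at most two, in a `p`-group of rank at least
three, does not lie in the derived group -/
theorem not_mem_commutator_of_centralizer_rank (hp2 : p ≠ 2) (hR : IsPGroup p R)
    (hr : ¬ PRankLE p 2 R) {x : R} (hxp : x ^ p = 1)
    (hC : PRankLE p 2 ↥(Subgroup.centralizer ({x} : Set R))) : x ∉ commutator R := by
  classical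
  obtain ⟨hxZ₁, hEe, hE2, hEmax⟩ := exists_max_sq_of_centralizer_rank hR hr hxp hC
  set Z₁ := Om p (Subgroup.center R) with hZ₁
  set E := Z₁ ⊔ Subgroup.zpowers x with hE
  obtain ⟨hnot, -, -, hchar, hidx⟩ := narrow_structure hp2 hR E hEe hE2 hEmax hr
  set T := Subgroup.centralizer ((Om p (Subgroup.upperCentralSeries R 2) : Subgroup R) : Set R)
    with hT
  haveI hTn : T.Normal := inferInstance
  have hZ₁T : Z₁ ≤ T := by
    intro z hz
    have hzc := ((mem_Om_iff (center_mul_pow) z).mp hz).1
    rw [hT, Subgroup.mem_centralizer_iff]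
    intro w _
    exact Subgroup.mem_center_iff.mp hzc w
  have hxT : x ∉ T := by
    intro h
    apply hnot
    exact sup_le hZ₁T (Subgroup.zpowers_le.mpr h)
  have hcard : Nat.card (R ⧸ T) = p := by
    rw [← Subgroup.index_eq_card, hidx]
  haveI : IsCyclic (R ⧸ T) := isCyclic_of_prime_card hcard
  let _ : CommGroup (R ⧸ T) := IsCyclic.commGroup
  have hle : commutator R ≤ T := by
    have := Abelianization.commutator_subset_ker (QuotientGroup.mk' T)
    rwa [QuotientGroup.ker_mk'] at this
  exact fun h => hxT (hle h)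

end abs

section compl

variable {H : Type*} [Group H]

/-- if `N` is a normal complement of `S`, then the derived group of `H` meets `S` in the derived
group of `S` -/
theorem mem_derived_of_normal_complement (N S : Subgroup H) [hNn : N.Normal]
    (hc : N.IsComplement' S) {x : H} (hx : x ∈ commutator H) (hxS : x ∈ S) : x ∈ ⁅S, S⁆ := by
  set q := QuotientGroup.mk' N with hq
  have hsup : N ⊔ S = ⊤ := hc.sup_eq_top
  have hinf : N ⊓ S = ⊥ := disjoint_iff.mp hc.disjoint
  have hSq : S.map q = ⊤ := by
    have h1 : (N ⊔ S).map q = ⊤ := by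
      rw [hsup, ← MonoidHom.range_eq_map]
      exact MonoidHom.range_eq_top.mpr (QuotientGroup.mk'_surjective N)
    rw [Subgroup.map_sup] at h1
    have h2 : N.map q = ⊥ := by
      rw [eq_bot_iff]
      rintro _ ⟨n, hn, rfl⟩
      rw [Subgroup.mem_bot]
      exact (QuotientGroup.eq_one_iff n).mpr hn
    rwa [h2, bot_sup_eq] at h1
  have h1 : q x ∈ (⁅S, S⁆).map q := by
    rw [Subgroup.map_commutator, hSq]
    have h2 : q x ∈ (commutator H).map q := Subgroup.mem_map_of_mem q hx
    rw [commutator_def, Subgroup.map_commutator] at h2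
    exact Subgroup.commutator_mono le_top le_top h2
  obtain ⟨c, hcS, hcx⟩ := h1
  have hcS' : c ∈ S := Subgroup.commutator_le_self S hcS
  have h3 : c⁻¹ * x ∈ N := by
    have h6 : q (c⁻¹ * x) = 1 := by
      rw [map_mul, map_inv, hcx, inv_mul_cancel]
    exact (QuotientGroup.eq_one_iff _).mp h6
  have h4 : c⁻¹ * x ∈ N ⊓ S := ⟨h3, S.mul_mem (S.inv_mem hcS') hxS⟩
  rw [hinf, Subgroup.mem_bot] at h4
  have h5 : x = c := by
    have := congrArg (c * ·) h4
    simpa using this
  rw [h5]
  exact hcS

end compl

end Cfsg.Agent.Lib.Helper4.BG12
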