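import Mathlib
import Cfsg.Agent.Lib.Lead.BG10p
import Cfsg.Agent.Lib.Helper4.NR7
import Cfsg.Agent.Lib.Helper4.Rk2g

set_option autoImplicit false

/-! Lemma (NA) for B&G Corollary 10.9: a `p`-group acting on a narrow `q`-group: the derived group
acts trivially. -/

namespace Cfsg.Agent.Lib.Helper4.BG10pA

open Cfsg

universe u

variable {G : Type u} [Group G] [Finite G]

/-- (NA) a `p`-group acting on a narrow `q`-group: the derived group acts trivially -/
theorem derived_le_centralizer_of_narrow {p q : ℕ} [Fact p.Prime] [Fact q.Prime]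
    (hpq : p ≠ q) (hp2 : p ≠ 2) (hq2 : q ≠ 2) {P Q : Subgroup G} (hP : IsPGroup p P)
    (hQ : IsPGroup q Q) (hPQ : P ≤ Subgroup.normalizer (Q : Set G))
    (h : PRankLE q 2 ↥Q ∨ ∃ B : Subgroup G, B ≤ Q ∧ IsElementaryAbelian q B ∧ Nat.card B = q ^ 2 ∧
        ∀ B' : Subgroup G, B' ≤ Q → IsElementaryAbelian q B' → B ≤ B' → B' = B) :
    ⁅P, P⁆ ≤ Subgroup.centralizer (Q : Set G) := by
  classical
  have hpp : p.Prime := Fact.out
  have hqp : q.Prime := Fact.out
  have hPP : ⁅P, P⁆ ≤ P := by
    rw [Subgroup.commutator_le]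
    intro a ha b hb
    exact P.mul_mem (P.mul_mem (P.mul_mem ha hb) (P.inv_mem ha)) (P.inv_mem hb)
  -- every element of `P` has order coprime to `q`
  have hcop : ∀ x ∈ P, (orderOf x).Coprime q := by
    intro x hx
    obtain ⟨k, hk⟩ := hP ⟨x, hx⟩
    have hk' : x ^ p ^ k = 1 := by
      have := congrArg Subtype.val hk
      simpa using this
    have hdvd : orderOf x ∣ p ^ k := orderOf_dvd_of_pow_eq_one hk'
    have : (p ^ k).Coprime q := Nat.Coprime.pow_left _ ((Nat.coprime_primes hpp hqp).mpr hpq)
    exact Nat.Coprime.coprime_dvd_left hdvd this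
  have hsolv : Group.IsSolvable ↥P := by
    haveI : Group.IsNilpotent ↥P := hP.isNilpotent
    infer_instance
  have hodd : Odd (Nat.card P) := by
    obtain ⟨k, hk⟩ := IsPGroup.iff_card.mp hP
    rw [hk]
    exact Odd.pow (hpp.eq_two_or_odd'.resolve_left hp2)
  by_cases hr : PRankLE q 2 ↥Q
  · intro x hx
    exact Cfsg.Agent.Lib.Helper4.Rk2.centralizes_of_mem_commutator hq2 Q P hQ hr hPQ hsolv hodd x hx
      (hcop x (hPP hx))
  · rcases h with h | ⟨B, hBQ, hBe, hB2, hBmax⟩
    · exact absurd h hr
    have hinj : Function.Injective Q.subtype := Subgroup.subtype_injective Q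
    have hmax : ∃ E : Subgroup ↥Q, Cfsg.IsElementaryAbelian q E ∧ Nat.card E = q ^ 2 ∧
        ∀ B' : Subgroup ↥Q, Cfsg.IsElementaryAbelian q B' → E ≤ B' → B' = E := by
      refine ⟨B.subgroupOf Q, ⟨?_, ?_⟩, ?_, ?_⟩
      · constructor
        constructor
        rintro ⟨a, ha⟩ ⟨b, hb⟩
        apply Subtype.ext
        apply Subtype.ext
        rw [Subgroup.mem_subgroupOf] at ha hb
        have := hBe.1.is_comm.comm (⟨a, ha⟩ : ↥B) ⟨b, hb⟩
        have h2 := congrArg Subtype.val this
        simpa using h2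
      · intro a ha
        rw [Subgroup.mem_subgroupOf] at ha
        apply Subtype.ext
        simpa using hBe.2 _ ha
      · rw [← hB2]
        exact Nat.card_congr (Subgroup.subgroupOfEquivOfLe hBQ).toEquiv
      · intro B' hB'e hBB'
        have hle : B'.map Q.subtype ≤ Q := Subgroup.map_subtype_le _
        have he : IsElementaryAbelian q (B'.map Q.subtype) := by
          refine ⟨?_, ?_⟩
          · constructor
            constructor
            rintro ⟨a, ha⟩ ⟨b, hb⟩
            apply Subtype.ext
            obtain ⟨a', ha', rfl⟩ := ha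
            obtain ⟨b', hb', rfl⟩ := hb
            have := hB'e.1.is_comm.comm (⟨a', ha'⟩ : ↥B') ⟨b', hb'⟩
            have h2 := congrArg (fun z : ↥B' => ((z : ↥Q) : G)) this
            simpa using h2
          · rintro a ⟨a', ha', rfl⟩
            have := hB'e.2 a' ha'
            have h2 := congrArg Subtype.val this
            simpa using h2
        have hBle : B ≤ B'.map Q.subtype := by
          intro b hb
          refine ⟨⟨b, hBQ hb⟩, hBB' ?_, rfl⟩
          rw [Subgroup.mem_subgroupOf]
          exact hb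
        have heq := hBmax _ hle he hBle
        ext x
        rw [Subgroup.mem_subgroupOf, ← heq]
        exact (Subgroup.mem_map_iff_mem hinj).symm
    obtain ⟨h1, _⟩ := Cfsg.Agent.Lib.Helper4.NR.rank3_core hq2 Q P hQ hr hmax hPQ
    intro x hx
    exact h1 x hx (hcop x (hPP hx))

end Cfsg.Agent.Lib.Helper4.BG10pA
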