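import Mathlib
import Cfsg.Agent.Lib.Helper4.Narrow6
import Cfsg.Agent.S0126

set_option autoImplicit false

/-! Lemma (B2) for B&G Corollary 10.9, abstract part: inside a `p`-group `R` of rank at least three, a
nonabelian subgroup `P` all of whose elementary abelian subgroups of order `p ^ 2` contain every
element of order dividing `p` of their centralizers. -/

namespace Cfsg.Agent.Lib.Helper4.BG10pB

open Cfsg Cfsg.Agent.Lib.Helper4.Narrow Cfsg.Agent.Lib.Helper3.NormalSq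
open scoped commutatorElement

section abs

variable {R : Type*} [Group R] [Finite R] {p : ℕ} [hp : Fact p.Prime]

/-- a normal elementary abelian subgroup of order `p ^ 2` of a noncyclic subgroup `P`, whose
commutators with `P` are central in `P` -/
theorem exists_normal_sq_in (hp2 : p ≠ 2) (hR : IsPGroup p R) (P : Subgroup R)
    (hnc : ¬ IsCyclic ↥P) :
    ∃ B : Subgroup R, B ≤ P ∧ IsElementaryAbelian p B ∧ Nat.card B = p ^ 2 ∧
      (∀ g ∈ P, ∀ b ∈ B, g * b * g⁻¹ ∈ B) ∧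
      (∀ g ∈ P, ∀ b ∈ B, ∀ h ∈ P, h * (g * b * g⁻¹ * b⁻¹) = (g * b * g⁻¹ * b⁻¹) * h) := by
  obtain ⟨A, hAn, hAe, hA2⟩ := Cfsg.Agent.S0126.result hp2 (hR.to_subgroup P) hnc
  have hinj : Function.Injective P.subtype := Subgroup.subtype_injective P
  have hucs := normal_sq_le_ucs2 (hR.to_subgroup P) A hA2
  refine ⟨A.map P.subtype, Subgroup.map_subtype_le _, ⟨?_, ?_⟩, ?_, ?_, ?_⟩
  · constructor
    constructor
    rintro ⟨a, ha⟩ ⟨b, hb⟩
    apply Subtype.ext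
    obtain ⟨a', ha', rfl⟩ := ha
    obtain ⟨b', hb', rfl⟩ := hb
    have := hAe.1.is_comm.comm (⟨a', ha'⟩ : ↥A) ⟨b', hb'⟩
    have h2 := congrArg (fun z : ↥A => ((z : ↥P) : R)) this
    simpa using h2
  · rintro a ⟨a', ha', rfl⟩
    have := hAe.2 a' ha'
    have h2 := congrArg Subtype.val this
    simpa using h2
  · rw [Subgroup.card_map_of_injective hinj, hA2]
  · rintro g hg b ⟨b', hb', rfl⟩
    exact ⟨⟨g, hg⟩ * b' * ⟨g, hg⟩⁻¹, hAn.conj_mem b' hb' ⟨g, hg⟩, rfl⟩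
  · rintro g hg b ⟨b', hb', rfl⟩ h hh
    have h1 : ⁅b', (⟨g, hg⟩ : ↥P)⁆ ∈ Subgroup.center ↥P := by
      have := (Subgroup.mem_upperCentralSeries_succ_iff (n := 1)).mp (hucs hb') ⟨g, hg⟩
      rwa [Subgroup.upperCentralSeries_one] at this
    have h2 : (⁅b', (⟨g, hg⟩ : ↥P)⁆)⁻¹ ∈ Subgroup.center ↥P := Subgroup.inv_mem _ h1
    have h3 := Subgroup.mem_center_iff.mp h2 ⟨h, hh⟩
    have h4 := congrArg Subtype.val h3
    have h5 : (((⁅b', (⟨g, hg⟩ : ↥P)⁆)⁻¹ : ↥P) : R) = g * (b' : R) * g⁻¹ * (b' : R)⁻¹ := by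
      rw [commutatorElement_def]
      simp only [Subgroup.coe_inv, Subgroup.coe_mul]
      group
    rw [Subgroup.coe_mul, Subgroup.coe_mul, h5] at h4
    exact h4

/-- in a `p`-group of rank at least three: if the elementary abelian subgroup `B` of order `p ^ 2`
contains every element of order dividing `p` that centralizes it and is central in `P`, then `P`
is abelian -/
theorem comm_of_central_sq (hp2 : p ≠ 2) (hR : IsPGroup p R) (hr : ¬ PRankLE p 2 R)
    (P B : Subgroup R) (hBP : B ≤ P) (hBe : IsElementaryAbelian p B) (hB2 : Nat.card B = p ^ 2)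
    (hB : ∀ y : R, y ^ p = 1 → (∀ b ∈ B, b * y = y * b) → y ∈ B)
    (hcen : ∀ x ∈ B, ∀ u ∈ P, u * x = x * u) :
    ∀ g₁ ∈ P, ∀ g₂ ∈ P, g₁ * g₂ = g₂ * g₁ := by
  classical
  have hp1 := hp.out.one_lt
  have hmaxB : ∀ B' : Subgroup R, IsElementaryAbelian p B' → B ≤ B' → B' = B := by
    intro B' hB'e hBB'
    apply le_antisymm _ hBB'
    intro y hy
    apply hB y (hB'e.2 y hy)
    intro b hb
    have := hB'e.1.is_comm.comm (⟨b, hBB' hb⟩ : ↥B') ⟨y, hy⟩
    exact congrArg Subtype.val this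
  set W := Om p (Subgroup.upperCentralSeries R 2) with hW
  set Z := Om p (Subgroup.center R) with hZ
  have hZ1 : Nat.card Z = p := card_omCenter hR B hBe hB2 hmaxB hr
  have hZB : Z ≤ B := omCenter_le B hBe hmaxB
  have hnot := not_le_centralizer_omUcs hp2 hR B hBe hB2 hmaxB hr
  obtain ⟨e, heB, heW⟩ := SetLike.not_le_iff_exists.mp hnot
  rw [Subgroup.mem_centralizer_iff] at heW
  push Not at heW
  obtain ⟨w, hwW, hwe⟩ := heW
  have hwW' : w ∈ Om p (Subgroup.upperCentralSeries R 2) := hwW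
  have hZmem : ∀ z ∈ Z, z ∈ Subgroup.center R ∧ z ^ p = 1 := fun z hz =>
    (mem_Om_iff (center_mul_pow) z).mp hz
  have hzc : ∀ z ∈ Z, ∀ r : R, r * z = z * r := fun z hz r =>
    Subgroup.mem_center_iff.mp (hZmem z hz).1 r
  set z₀ := e * w * e⁻¹ * w⁻¹ with hz₀
  have hz₀Z : z₀ ∈ Z := comm_mem_omCenter' hp2 hwW' e
  have hz₀1 : z₀ ≠ 1 := by
    intro h
    apply hwe
    have h1 : e * w * e⁻¹ = w := by
      have := congrArg (· * w) h
      simpa [hz₀] using this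
    have h2 := congrArg (· * e) h1
    simpa using h2.symm
  have hew : e * w = z₀ * w * e := by
    rw [hz₀]; group
  -- `Z` is generated by `z₀`
  have hZgen : ∀ c ∈ Z, ∃ n : ℕ, c = z₀ ^ n := by
    have hord : orderOf z₀ = p := by
      have h1 : orderOf z₀ ∣ p := orderOf_dvd_of_pow_eq_one (hZmem z₀ hz₀Z).2
      rcases (Nat.dvd_prime hp.out).mp h1 with h | h
      · exact absurd (orderOf_eq_one_iff.mp h) hz₀1
      · exact h
    have heq : Subgroup.zpowers z₀ = Z := by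
      apply Subgroup.eq_of_le_of_card_ge (Subgroup.zpowers_le.mpr hz₀Z)
      rw [Nat.card_zpowers, hord, hZ1]
    intro c hc
    rw [← heq] at hc
    have hfin : IsOfFinOrder z₀ := isOfFinOrder_of_finite z₀
    obtain ⟨n, hn⟩ := (mem_powers_iff_mem_zpowers (x := z₀) (y := c)).mpr hc
    exact ⟨n, hn.symm⟩
  have hconj : ∀ n : ℕ, e ^ n * w = z₀ ^ n * w * e ^ n := by
    intro n
    induction n with
    | zero => simp
    | succ n ih =>
      have hc1 : ∀ r : R, r * z₀ ^ n = z₀ ^ n * r := fun r => hzc _ (Z.pow_mem hz₀Z n) r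
      calc e ^ (n + 1) * w = e * (e ^ n * w) := by rw [pow_succ', mul_assoc]
        _ = e * (z₀ ^ n * w * e ^ n) := by rw [ih]
        _ = z₀ ^ n * (e * w) * e ^ n := by
          rw [mul_assoc (z₀ ^ n), ← mul_assoc e, hc1 e]; group
        _ = z₀ ^ n * (z₀ * w * e) * e ^ n := by rw [hew]
        _ = z₀ ^ (n + 1) * w * e ^ (n + 1) := by
          rw [pow_succ, pow_succ']; group
  set C : Subgroup R := P ⊓ Subgroup.centralizer ({w} : Set R) with hC
  have hCcyc : IsCyclic ↥C := by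
    by_contra hnc
    obtain ⟨A, hAC, hAe, hA2, -, -⟩ := exists_normal_sq_in hp2 hR C hnc
    have hAB : A ≤ B := by
      intro y hy
      have hyC := hAC hy
      apply hB y (hAe.2 y hy)
      intro b hb
      exact (hcen b hb y hyC.1).symm
    have heq : A = B := Subgroup.eq_of_le_of_card_ge hAB (by rw [hA2, hB2])
    have heC : e ∈ C := hAC (heq ▸ heB)
    have := Subgroup.mem_centralizer_singleton_iff.mp heC.2
    exact hwe this.symm
  have hCcomm : ∀ a ∈ C, ∀ b ∈ C, a * b = b * a := by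
    intro a ha b hb
    letI := IsCyclic.commGroup (α := ↥C)
    have := mul_comm (⟨a, ha⟩ : ↥C) ⟨b, hb⟩
    exact congrArg Subtype.val this
  have hdecomp : ∀ g ∈ P, ∃ n : ℕ, (e ^ n)⁻¹ * g ∈ C := by
    intro g hg
    have hcZ : g * w * g⁻¹ * w⁻¹ ∈ Z := comm_mem_omCenter' hp2 hwW' g
    obtain ⟨n, hn⟩ := hZgen _ hcZ
    refine ⟨n, Subgroup.mem_inf.mpr ⟨P.mul_mem (P.inv_mem (P.pow_mem (hBP heB) n)) hg, ?_⟩⟩
    rw [Subgroup.mem_centralizer_singleton_iff]
    have hgw : g * w = z₀ ^ n * w * g := by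
      rw [← hn]; group
    have hc1 : ∀ r : R, r * z₀ ^ n = z₀ ^ n * r := fun r => hzc _ (Z.pow_mem hz₀Z n) r
    have h1 : w * (e ^ n)⁻¹ = (e ^ n)⁻¹ * z₀ ^ n * w := by
      have h2 : w = (e ^ n)⁻¹ * (z₀ ^ n * w * e ^ n) := by
        rw [← hconj n]; group
      calc w * (e ^ n)⁻¹ = (e ^ n)⁻¹ * (z₀ ^ n * w * e ^ n) * (e ^ n)⁻¹ := by rw [← h2]
        _ = (e ^ n)⁻¹ * z₀ ^ n * w := by group
    calc (e ^ n)⁻¹ * g * w = (e ^ n)⁻¹ * (g * w) := by rw [mul_assoc]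
      _ = (e ^ n)⁻¹ * (z₀ ^ n * w * g) := by rw [hgw]
      _ = (e ^ n)⁻¹ * z₀ ^ n * w * g := by group
      _ = w * (e ^ n)⁻¹ * g := by rw [h1]
      _ = w * ((e ^ n)⁻¹ * g) := by rw [mul_assoc]
  intro g₁ hg₁ g₂ hg₂
  obtain ⟨n₁, h₁⟩ := hdecomp g₁ hg₁
  obtain ⟨n₂, h₂⟩ := hdecomp g₂ hg₂
  have he1 : ∀ u ∈ P, u * e ^ n₁ = e ^ n₁ * u := fun u hu => hcen _ (B.pow_mem heB n₁) u hu
  have he2 : ∀ u ∈ P, u * e ^ n₂ = e ^ n₂ * u := fun u hu => hcen _ (B.pow_mem heB n₂) u hu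
  set a := (e ^ n₁)⁻¹ * g₁ with ha
  set b := (e ^ n₂)⁻¹ * g₂ with hb
  have hg1 : g₁ = e ^ n₁ * a := by rw [ha]; group
  have hg2 : g₂ = e ^ n₂ * b := by rw [hb]; group
  have hab := hCcomm a h₁ b h₂
  have haP : a ∈ P := h₁.1
  have hbP : b ∈ P := h₂.1
  have hee : e ^ n₁ * e ^ n₂ = e ^ n₂ * e ^ n₁ := by rw [← pow_add, ← pow_add, add_comm]
  calc g₁ * g₂ = e ^ n₁ * a * (e ^ n₂ * b) := by rw [← hg1, ← hg2]
    _ = e ^ n₁ * (a * e ^ n₂) * b := by group
    _ = e ^ n₁ * (e ^ n₂ * a) * b := by rw [he2 a haP]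
    _ = e ^ n₁ * e ^ n₂ * (a * b) := by group
    _ = e ^ n₂ * e ^ n₁ * (b * a) := by rw [hee, hab]
    _ = e ^ n₂ * (e ^ n₁ * b) * a := by group
    _ = e ^ n₂ * (b * e ^ n₁) * a := by rw [he1 b hbP]
    _ = e ^ n₂ * b * (e ^ n₁ * a) := by group
    _ = g₂ * g₁ := by rw [← hg1, ← hg2]

/-- **the configuration**, abstract version -/
theorem exists_cfg_abs (hp2 : p ≠ 2) (hR : IsPGroup p R) (hr : ¬ PRankLE p 2 R) (P : Subgroup R)
    (hPna : ¬ IsMulCommutative ↥P)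
    (hB : ∀ B : Subgroup R, B ≤ P → IsElementaryAbelian p B → Nat.card B = p ^ 2 →
      ∀ y : R, y ^ p = 1 → (∀ b ∈ B, b * y = y * b) → y ∈ B) :
    Om p (Subgroup.center R) ≤ P ∧ Nat.card ↥(Om p (Subgroup.center R)) = p ∧
    ∃ x u : R, x ∈ P ∧ x ^ p = 1 ∧ x ∉ Om p (Subgroup.center R) ∧ u ∈ P ∧
      u * x * u⁻¹ * x⁻¹ ∈ Om p (Subgroup.center R) ∧ u * x * u⁻¹ * x⁻¹ ≠ 1 ∧
      Om p (Subgroup.center R) ⊔ Subgroup.zpowers x ≤ P ∧
      IsElementaryAbelian p (Om p (Subgroup.center R) ⊔ Subgroup.zpowers x) ∧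
      Nat.card ↥(Om p (Subgroup.center R) ⊔ Subgroup.zpowers x) = p ^ 2 := by
  classical
  have hp1 := hp.out.one_lt
  have hnc : ¬ IsCyclic ↥P := fun h => hPna (by haveI := h; infer_instance)
  obtain ⟨B, hBP, hBe, hB2, hBn, hBc⟩ := exists_normal_sq_in hp2 hR P hnc
  have hBy := hB B hBP hBe hB2
  have hmaxB : ∀ B' : Subgroup R, IsElementaryAbelian p B' → B ≤ B' → B' = B := by
    intro B' hB'e hBB'
    apply le_antisymm _ hBB'
    intro y hy
    apply hBy y (hB'e.2 y hy)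
    intro b hb
    have := hB'e.1.is_comm.comm (⟨b, hBB' hb⟩ : ↥B') ⟨y, hy⟩
    exact congrArg Subtype.val this
  set Z := Om p (Subgroup.center R) with hZ
  have hZ1 : Nat.card Z = p := card_omCenter hR B hBe hB2 hmaxB hr
  have hZB : Z ≤ B := omCenter_le B hBe hmaxB
  have hZmem : ∀ z ∈ Z, z ∈ Subgroup.center R ∧ z ^ p = 1 := fun z hz =>
    (mem_Om_iff (center_mul_pow) z).mp hz
  have hzc : ∀ z ∈ Z, ∀ r : R, r * z = z * r := fun z hz r =>
    Subgroup.mem_center_iff.mp (hZmem z hz).1 r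
  -- `B` is not central in `P`
  obtain ⟨x, hxB, u, huP, hux⟩ : ∃ x ∈ B, ∃ u ∈ P, u * x ≠ x * u := by
    by_contra hcon
    push Not at hcon
    apply hPna
    have hcomm := comm_of_central_sq hp2 hR hr P B hBP hBe hB2 hBy hcon
    constructor
    constructor
    rintro ⟨a, ha⟩ ⟨b, hb⟩
    apply Subtype.ext
    exact hcomm a ha b hb
  set c := u * x * u⁻¹ * x⁻¹ with hc
  have hc1 : c ≠ 1 := by
    intro h
    apply hux
    have h1 : u * x * u⁻¹ = x := by
      have := congrArg (· * x) h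
      simpa [hc] using this
    have h2 := congrArg (· * u) h1
    simpa using h2
  have hcB : c ∈ B := B.mul_mem (hBn u huP x hxB) (B.inv_mem hxB)
  set D : Subgroup R := B ⊓ Subgroup.centralizer (P : Set R) with hD
  have hcD : c ∈ D := by
    refine Subgroup.mem_inf.mpr ⟨hcB, ?_⟩
    rw [Subgroup.mem_centralizer_iff]
    intro h hh
    exact hBc u huP x hxB h hh
  have hZD : Z ≤ D := by
    intro z hz
    refine Subgroup.mem_inf.mpr ⟨hZB hz, ?_⟩
    rw [Subgroup.mem_centralizer_iff]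
    intro h _
    exact hzc z hz h
  have hDB : D ≤ B := inf_le_left
  have hDne : D ≠ B := by
    intro h
    have hxD : x ∈ D := h ▸ hxB
    have := (Subgroup.mem_centralizer_iff.mp hxD.2) u huP
    exact hux this
  have hDcard : Nat.card D ≤ p := by
    have h1 : Nat.card D ∣ p ^ 2 := hB2 ▸ Subgroup.card_dvd_of_le hDB
    obtain ⟨k, hk, hk'⟩ := (Nat.dvd_prime_pow hp.out).mp h1
    have hk2 : k ≠ 2 := by
      rintro rfl
      exact hDne (Subgroup.eq_of_le_of_card_ge hDB (by rw [hB2, hk']))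
    rw [hk']
    calc p ^ k ≤ p ^ 1 := Nat.pow_le_pow_right hp.out.pos (by omega)
      _ = p := pow_one p
  have hZD' : Z = D := Subgroup.eq_of_le_of_card_ge hZD (by rw [hZ1]; exact hDcard)
  have hcZ : c ∈ Z := hZD' ▸ hcD
  have hxZ : x ∉ Z := fun h => hux (hzc x h u)
  have hsup_le : Z ⊔ Subgroup.zpowers x ≤ B := sup_le hZB (Subgroup.zpowers_le.mpr hxB)
  have hsup : Z ⊔ Subgroup.zpowers x = B := by
    apply Subgroup.eq_of_le_of_card_ge hsup_le
    rw [hB2]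
    have h2 : p ^ 1 < Nat.card ↥(Z ⊔ Subgroup.zpowers x) := by
      rw [pow_one]
      by_contra hcon
      push Not at hcon
      have h3 : Z = Z ⊔ Subgroup.zpowers x :=
        Subgroup.eq_of_le_of_card_ge le_sup_left (by rw [hZ1]; exact hcon)
      apply hxZ
      rw [h3]
      exact (le_sup_right : Subgroup.zpowers x ≤ _) (Subgroup.mem_zpowers x)
    exact pow_succ_le_card_of_lt hR _ 1 h2
  refine ⟨hZB.trans hBP, hZ1, x, u, hBP hxB, hBe.2 x hxB, hxZ, huP, hcZ, hc1, ?_, ?_, ?_⟩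
  · rw [hsup]; exact hBP
  · rw [hsup]; exact hBe
  · rw [hsup]; exact hB2

end abs

end Cfsg.Agent.Lib.Helper4.BG10pB
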