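import Mathlib
import Cfsg.Agent.Lib.Lead.BG10p
import Cfsg.Agent.Lib.Helper4.BG10pB

set_option autoImplicit false

/-! Lemma (B2) for B&G Corollary 10.9: the configuration `NACfg` in a Sylow subgroup of rank at least
three. -/

namespace Cfsg.Agent.Lib.Helper4.BG10pC

open Cfsg Cfsg.Agent.Lib.Lead Cfsg.Agent.Lib.Lead.BG10
open Cfsg.Agent.Lib.Helper4.Narrow Cfsg.Agent.Lib.Helper3.NormalSq
open Cfsg.Agent.Lib.Helper4.BG76

universe u

variable {G : Type u} [Group G] [Finite G]

/-- an elementary abelian subgroup of order `p ^ 2` whose centralizer has `p`-rank at most two contains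
every element of order dividing `p` of its centralizer -/
theorem mem_of_prankLE_centralizer {p : ℕ} [Fact p.Prime] {B : Subgroup G}
    (hBe : IsElementaryAbelian p B) (hB2 : Nat.card B = p ^ 2)
    (hr : PRankLE p 2 ↥(Subgroup.centralizer (B : Set G))) {y : G}
    (hy : y ∈ Subgroup.centralizer (B : Set G)) (hyp : y ^ p = 1) : y ∈ B := by
  have hyc : ∀ b ∈ B, b * y = y * b := fun b hb => Subgroup.mem_centralizer_iff.mp hy b hb
  have h1 : IsElementaryAbelian p (B ⊔ Subgroup.zpowers y) := by
    apply isElementaryAbelian_sup hBe (isElementaryAbelian_zpowers hyp)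
    intro a ha b hb
    obtain ⟨i, rfl⟩ := Subgroup.mem_zpowers_iff.mp hb
    exact ((Commute.zpow_right (hyc a ha) i : Commute a (y ^ i))).eq
  have hle : B ⊔ Subgroup.zpowers y ≤ Subgroup.centralizer (B : Set G) := by
    apply sup_le
    · intro b hb
      rw [Subgroup.mem_centralizer_iff]
      intro b' hb'
      have := hBe.1.is_comm.comm (⟨b', hb'⟩ : ↥B) ⟨b, hb⟩
      exact congrArg Subtype.val this
    · exact Subgroup.zpowers_le.mpr hy
  set C := Subgroup.centralizer (B : Set G) with hC
  have h2 := hr ((B ⊔ Subgroup.zpowers y).subgroupOf C) ?_ ?_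
  · have h3 : Nat.card ↥((B ⊔ Subgroup.zpowers y).subgroupOf C) =
        Nat.card ↥(B ⊔ Subgroup.zpowers y) :=
      Nat.card_congr (Subgroup.subgroupOfEquivOfLe hle).toEquiv
    rw [h3] at h2
    have h4 : B = B ⊔ Subgroup.zpowers y :=
      Subgroup.eq_of_le_of_card_ge le_sup_left (by rw [hB2]; exact h2)
    rw [h4]
    exact (le_sup_right : Subgroup.zpowers y ≤ _) (Subgroup.mem_zpowers y)
  · constructor
    constructor
    rintro ⟨a, ha⟩ ⟨b, hb⟩
    apply Subtype.ext
    apply Subtype.ext
    rw [Subgroup.mem_subgroupOf] at ha hb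
    have := h1.1.is_comm.comm (⟨a, ha⟩ : ↥(B ⊔ Subgroup.zpowers y)) ⟨b, hb⟩
    have h2 := congrArg Subtype.val this
    simpa using h2
  · intro a ha
    rw [Subgroup.mem_subgroupOf] at ha
    apply Subtype.ext
    simpa using h1.2 _ ha

/-- transfer of `IsElementaryAbelian` along the inclusion of a subgroup -/
theorem isElementaryAbelian_map_subtype {p : ℕ} (S : Subgroup G) {B : Subgroup ↥S}
    (hB : IsElementaryAbelian p B) : IsElementaryAbelian p (B.map S.subtype) := by
  refine ⟨?_, ?_⟩
  · constructor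
    constructor
    rintro ⟨a, ha⟩ ⟨b, hb⟩
    apply Subtype.ext
    obtain ⟨a', ha', rfl⟩ := ha
    obtain ⟨b', hb', rfl⟩ := hb
    have := hB.1.is_comm.comm (⟨a', ha'⟩ : ↥B) ⟨b', hb'⟩
    have h2 := congrArg (fun z : ↥B => ((z : ↥S) : G)) this
    simpa using h2
  · rintro a ⟨a', ha', rfl⟩
    have := hB.2 a' ha'
    have h2 := congrArg Subtype.val this
    simpa using h2

/-- (B2) the configuration in a Sylow subgroup of rank at least three -/
theorem exists_cfg_of_narrow (hG : IsMinSimpleOddOrder G) {p : ℕ} [Fact p.Prime] (S : Sylow p G)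
    (hr : ¬ PRankLE p 2 ↥(S : Subgroup G)) {P : Subgroup G} (hPS : P ≤ (S : Subgroup G))
    (hPna : ¬ IsMulCommutative P)
    (hB : ∀ B : Subgroup G, B ≤ P → IsElementaryAbelian p B → Nat.card B = p ^ 2 →
      PRankLE p 2 ↥(Subgroup.centralizer (B : Set G))) :
    ∃ (Z : Subgroup G) (x u : G), NACfg p P Z x u := by
  classical
  have hpp : p.Prime := Fact.out
  have hSp : IsPGroup p ↥(S : Subgroup G) := S.isPGroup'
  have hinj : Function.Injective (S : Subgroup G).subtype := Subgroup.subtype_injective _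
  have hpG : p ∣ Nat.card G := by
    have hS1 : (S : Subgroup G) ≠ ⊥ := by
      intro h
      apply hPna
      have : P = ⊥ := le_bot_iff.mp (h ▸ hPS)
      rw [this]
      infer_instance
    rcases hSp.card_eq_or_dvd with h | h
    · exact absurd (Subgroup.card_eq_one.mp h) hS1
    · exact h.trans (Subgroup.card_subgroup_dvd_card _)
  have hp2 : p ≠ 2 := ne_two_of_odd hG hpG
  set P' : Subgroup ↥(S : Subgroup G) := P.subgroupOf S with hP'
  have hP'na : ¬ IsMulCommutative ↥P' := by
    intro h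
    apply hPna
    constructor
    constructor
    rintro ⟨a, ha⟩ ⟨b, hb⟩
    apply Subtype.ext
    have haS := hPS ha
    have hbS := hPS hb
    have := h.is_comm.comm (⟨⟨a, haS⟩, Subgroup.mem_subgroupOf.mpr ha⟩ : ↥P')
      ⟨⟨b, hbS⟩, Subgroup.mem_subgroupOf.mpr hb⟩
    have h2 := congrArg (fun z : ↥P' => ((z : ↥(S : Subgroup G)) : G)) this
    simpa using h2
  have hB' : ∀ B : Subgroup ↥(S : Subgroup G), B ≤ P' → IsElementaryAbelian p B →
      Nat.card B = p ^ 2 → ∀ y : ↥(S : Subgroup G), y ^ p = 1 → (∀ b ∈ B, b * y = y * b) →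
      y ∈ B := by
    intro B hBP hBe hB2 y hyp hyc
    have h1 : B.map (S : Subgroup G).subtype ≤ P := by
      rintro _ ⟨b, hb, rfl⟩
      exact Subgroup.mem_subgroupOf.mp (hBP hb)
    have h2 := isElementaryAbelian_map_subtype (S : Subgroup G) hBe
    have h3 : Nat.card ↥(B.map (S : Subgroup G).subtype) = p ^ 2 := by
      rw [Subgroup.card_map_of_injective hinj, hB2]
    have h4 := hB _ h1 h2 h3
    have h5 : (y : G) ∈ Subgroup.centralizer ((B.map (S : Subgroup G).subtype : Subgroup G) : Set G) := by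
      rw [Subgroup.mem_centralizer_iff]
      rintro _ ⟨b, hb, rfl⟩
      have := hyc b hb
      have h6 := congrArg Subtype.val this
      simpa using h6
    have h6 : (y : G) ^ p = 1 := by
      have := congrArg Subtype.val hyp
      simpa using this
    have h7 := mem_of_prankLE_centralizer h2 h3 h4 h5 h6
    exact (Subgroup.mem_map_iff_mem hinj).mp h7
  obtain ⟨hZP', hZ1, x', u', hxP, hxp, hxZ, huP, hcZ, hc1, hsupP, hsupe, hsup2⟩ :=
    Cfsg.Agent.Lib.Helper4.BG10pB.exists_cfg_abs hp2 hSp hr P' hP'na hB'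
  set Z' : Subgroup ↥(S : Subgroup G) := Om p (Subgroup.center ↥(S : Subgroup G)) with hZ'
  haveI hZ'char : Z'.Characteristic := om_characteristic p _
  set Z : Subgroup G := Z'.map (S : Subgroup G).subtype with hZ
  have hZS : Z ≤ (S : Subgroup G) := Subgroup.map_subtype_le _
  have hZmem : ∀ z ∈ Z', z ∈ Subgroup.center ↥(S : Subgroup G) ∧ z ^ p = 1 := fun z hz =>
    (mem_Om_iff (center_mul_pow) z).mp hz
  have hmapsup : (Z' ⊔ Subgroup.zpowers x').map (S : Subgroup G).subtype =
      Z ⊔ Subgroup.zpowers (x' : G) := by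
    rw [Subgroup.map_sup, MonoidHom.map_zpowers]
    rfl
  refine ⟨Z, (x' : G), (u' : G), ?_⟩
  refine
    { hPp := hSp.to_le hPS
      hZP := ?_
      hZc := ?_
      hZcen := ?_
      hN := ?_
      hxP := Subgroup.mem_subgroupOf.mp hxP
      hxp := ?_
      hxZ := ?_
      huP := Subgroup.mem_subgroupOf.mp huP
      hux := ?_
      hux1 := ?_
      hmax := ?_ }
  · rintro _ ⟨z, hz, rfl⟩
    exact Subgroup.mem_subgroupOf.mp (hZP' hz)
  · rw [hZ, Subgroup.card_map_of_injective hinj]
    exact hZ1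
  · intro g hg
    rw [Subgroup.mem_centralizer_iff]
    rintro _ ⟨z, hz, rfl⟩
    have := Subgroup.mem_center_iff.mp (hZmem z hz).1 ⟨g, hPS hg⟩
    have h2 := congrArg Subtype.val this
    simpa using h2.symm
  · intro R hR hZR
    have h3 := (corollary_10_7def hG p S).2.2 R Z hR (le_inf hZS hZR)
      (le_normalizer_map_characteristic (S : Subgroup G) Z')
    exact h3
  · have := congrArg Subtype.val hxp
    simpa using this
  · intro h
    apply hxZ
    exact (Subgroup.mem_map_iff_mem hinj).mp h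
  · exact ⟨_, hcZ, by simp⟩
  · intro h
    apply hc1
    apply Subtype.ext
    simpa using h
  · intro y hy hyp
    rw [← hmapsup] at hy ⊢
    have h1 : (Z' ⊔ Subgroup.zpowers x').map (S : Subgroup G).subtype ≤ P := by
      rintro _ ⟨b, hb, rfl⟩
      exact Subgroup.mem_subgroupOf.mp (hsupP hb)
    have h2 := isElementaryAbelian_map_subtype (S : Subgroup G) hsupe
    have h3 : Nat.card ↥((Z' ⊔ Subgroup.zpowers x').map (S : Subgroup G).subtype) = p ^ 2 := by
      rw [Subgroup.card_map_of_injective hinj, hsup2]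
    exact mem_of_prankLE_centralizer h2 h3 (hB _ h1 h2 h3) hy hyp

end Cfsg.Agent.Lib.Helper4.BG10pC
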