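import Mathlib
import Cfsg.Agent.Lib.Helper4.RT11
import Cfsg.Agent.Lib.Lead.UniqueOrderP5

set_option autoImplicit false

/-! Rank two `p`-groups with an extraspecial `Ω₁`: the central product. -/

namespace Cfsg.Agent.Lib.Helper4.RT

open scoped commutatorElement
open Cfsg.Agent.Lib.Lead

universe u

section g12a

variable {G : Type u} [Group G]

theorem commute_of_comm_eq {x r v : G} (h : ⁅x, r⁆ = ⁅x, v⁆) : Commute (v⁻¹ * r) x := by
  have h2 : r * x⁻¹ * r⁻¹ = v * x⁻¹ * v⁻¹ := by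
    rw [commutatorElement_def, commutatorElement_def] at h
    have h4 : x⁻¹ * (x * v * x⁻¹ * v⁻¹) = x⁻¹ * (x * r * x⁻¹ * r⁻¹) := by rw [h]
    have e1 : x⁻¹ * (x * v * x⁻¹ * v⁻¹) = v * x⁻¹ * v⁻¹ := by group
    have e2 : x⁻¹ * (x * r * x⁻¹ * r⁻¹) = r * x⁻¹ * r⁻¹ := by group
    rw [e1, e2] at h4
    exact h4.symm
  have h5 : Commute (v⁻¹ * r) x⁻¹ := by
    show v⁻¹ * r * x⁻¹ = x⁻¹ * (v⁻¹ * r)
    calc v⁻¹ * r * x⁻¹ = v⁻¹ * (r * x⁻¹ * r⁻¹) * r := by group
      _ = v⁻¹ * (v * x⁻¹ * v⁻¹) * r := by rw [h2]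
      _ = x⁻¹ * (v⁻¹ * r) := by group
  have := h5.inv_right
  rwa [inv_inv] at this

end g12a

section g12

variable {G : Type u} [Group G] [Finite G] {p : ℕ} [hp : Fact p.Prime] {R W : Subgroup G}

/-- two non-commuting elements generate `W`. -/
theorem ES.closure_pair (h : ES p R W) {u v : G} (hu : u ∈ W) (hv : v ∈ W) (huv : u * v ≠ v * u) :
    Subgroup.closure {u, v} = W := by
  have hle : Subgroup.closure {u, v} ≤ W := by
    rw [Subgroup.closure_le]
    intro x hx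
    rcases hx with rfl | rfl
    · exact hu
    · exact hv
  apply Subgroup.eq_of_le_of_card_ge hle
  by_contra hcon
  push Not at hcon
  have hWp : IsPGroup p ↥W := h.pR.to_le h.WR
  have hKp : IsPGroup p ↥(Subgroup.closure {u, v}) := hWp.to_le hle
  obtain ⟨k, hk⟩ := IsPGroup.iff_card.mp hKp
  rw [hk, h.cardW] at hcon
  have hk3 : k < 3 := (Nat.pow_lt_pow_iff_right hp.out.one_lt).mp hcon
  have hk2 : Nat.card ↥(Subgroup.closure {u, v}) ≤ p ^ 2 := by
    rw [hk]; exact Nat.pow_le_pow_right hp.out.pos (by omega)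
  have hcomm := Cfsg.Agent.Lib.Helper4.HU.comm_of_card_le_sq hKp hk2
  have hu' : u ∈ Subgroup.closure {u, v} := Subgroup.subset_closure (by simp)
  have hv' : v ∈ Subgroup.closure {u, v} := Subgroup.subset_closure (by simp)
  exact huv (congrArg Subtype.val (hcomm ⟨u, hu'⟩ ⟨v, hv'⟩))

/-- when `R` acts trivially on `W / Z(W)`, `R = W C_R(W)`. -/
theorem ES.decomp_of_not_NT (h : ES p R W) (hn : R ≤ Subgroup.normalizer (W : Set G))
    (hnt : ¬ NT R W) :
    ∀ g ∈ R, ∃ w ∈ W, ∃ t ∈ R ⊓ Subgroup.centralizer (W : Set G), g = w * t := by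
  have hall : ∀ w ∈ W, ∀ r ∈ R, ⁅w, r⁆ ∈ ZW W := by
    intro w hw r hr
    by_contra hcon
    exact hnt ⟨w, hw, r, hr, hcon⟩
  obtain ⟨u, hu, v, hv, huv⟩ := h.naW
  set c := ⁅u, v⁆ with hc
  have hc1 : c ≠ 1 := by
    intro h0
    rw [hc, commutatorElement_eq_one_iff_mul_comm] at h0
    exact huv h0
  have hcZ : c ∈ ZW W := h.comm_mem_ZW hu hv
  have hcp : c ^ p = 1 := h.expW c (ZW_le W hcZ)
  have hZp : (Nat.card (ZW W)).Prime := by rw [h.card_ZW]; exact hp.out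
  have hgen := Cfsg.Agent.Lib.Helper4.ZP.zpowers_eq_of_prime_card (ZW W) hZp _ hcZ hc1
  intro g hg
  have h1 : ⁅u, g⁆ ∈ Subgroup.zpowers c := by rw [hgen]; exact hall u hu g hg
  have h2 : ⁅v, g⁆ ∈ Subgroup.zpowers c := by rw [hgen]; exact hall v hv g hg
  rw [← mem_powers_iff_mem_zpowers] at h1 h2
  obtain ⟨i, hi⟩ := h1
  obtain ⟨j, hj⟩ := h2
  simp only at hi hj
  -- the element `w' = u ^ s * v ^ i` with `s = (p - 1) * j`
  set s := (p - 1) * j with hs
  set w' := u ^ s * v ^ i with hw'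
  have hus : u ^ s ∈ W := W.pow_mem hu s
  have hvi : v ^ i ∈ W := W.pow_mem hv i
  have hw'W : w' ∈ W := W.mul_mem hus hvi
  have hcinv : ⁅v, u⁆ = c⁻¹ := by rw [hc, commutatorElement_inv]
  have hcpow : (c⁻¹) ^ (p - 1) = c := by
    have h3 : c ^ (p - 1) * c = 1 := by
      rw [← pow_succ, Nat.sub_add_cancel hp.out.one_le, hcp]
    rw [inv_pow]
    exact inv_eq_of_mul_eq_one_right h3
  have e1 : ⁅u, w'⁆ = ⁅u, g⁆ := by
    rw [hw', h.comm_mul_right hu hus hvi, h.comm_pow_right hu hu s, commutatorElement_self,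
      one_pow, one_mul, h.comm_pow_right hu hv i, ← hi]
  have e2 : ⁅v, w'⁆ = ⁅v, g⁆ := by
    rw [hw', h.comm_mul_right hv hus hvi, h.comm_pow_right hv hv i, commutatorElement_self,
      one_pow, mul_one, h.comm_pow_right hv hu s, hcinv, hs, pow_mul, hcpow, ← hj]
  have c1 : Commute (w'⁻¹ * g) u := commute_of_comm_eq e1.symm
  have c2 : Commute (w'⁻¹ * g) v := commute_of_comm_eq e2.symm
  refine ⟨w', hw'W, w'⁻¹ * g, ?_, by group⟩
  refine Subgroup.mem_inf.mpr ⟨R.mul_mem (R.inv_mem (h.WR hw'W)) hg, ?_⟩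
  -- it centralizes `closure {u, v} = W`
  have hcl := h.closure_pair hu hv huv
  rw [Subgroup.mem_centralizer_iff]
  intro x hx
  have hx' : x ∈ Subgroup.closure {u, v} := by rw [hcl]; exact hx
  have hle : Subgroup.closure {u, v} ≤ Subgroup.centralizer {w'⁻¹ * g} := by
    rw [Subgroup.closure_le]
    intro t ht
    rw [SetLike.mem_coe, Subgroup.mem_centralizer_singleton_iff]
    rcases ht with rfl | rfl
    · exact c1.symm.eq
    · exact c2.symm.eq
  have := hle hx'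
  rw [Subgroup.mem_centralizer_singleton_iff] at this
  exact this

end g12

end Cfsg.Agent.Lib.Helper4.RT
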