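import Mathlib
import Cfsg.Agent.Lib.Helper4.RT12

set_option autoImplicit false

/-! Rank two `p`-groups with an extraspecial `Ω₁`: the structure theorem. -/

namespace Cfsg.Agent.Lib.Helper4.RT

open scoped commutatorElement
open Cfsg.Agent.Lib.Lead

universe u

section g13

variable {G : Type u} [Group G] [Finite G] {p : ℕ} [hp : Fact p.Prime] {R W : Subgroup G}

theorem ES.mem_ZW_of_pow (h : ES p R W) {x : G}
    (hx : x ∈ R ⊓ Subgroup.centralizer (W : Set G)) (hxp : x ^ p = 1) : x ∈ ZW W := by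
  have hx' := Subgroup.mem_inf.mp hx
  exact Subgroup.mem_inf.mpr ⟨h.omega x hx'.1 hxp, hx'.2⟩

theorem ES.ZW_le_C (h : ES p R W) : ZW W ≤ R ⊓ Subgroup.centralizer (W : Set G) := by
  intro z hz
  exact Subgroup.mem_inf.mpr ⟨h.WR hz.1, hz.2⟩

theorem ES.isCyclic_C (h : ES p R W) (hp2 : p ≠ 2) :
    IsCyclic ↥(R ⊓ Subgroup.centralizer (W : Set G)) := by
  set C := R ⊓ Subgroup.centralizer (W : Set G) with hC
  have hCp : IsPGroup p ↥C := h.pR.to_le inf_le_left
  have hZ' : Nat.card ((ZW W).subgroupOf C) = p := by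
    rw [card_subgroupOf_of_le h.ZW_le_C]; exact h.card_ZW
  have key : ∀ H : Subgroup ↥C, Nat.card H = p → H = (ZW W).subgroupOf C := by
    intro H hH
    apply Subgroup.eq_of_le_of_card_ge
    · intro x hx
      rw [Subgroup.mem_subgroupOf]
      apply h.mem_ZW_of_pow x.2
      have h1 : (⟨x, hx⟩ : ↥H) ^ Nat.card H = 1 := pow_card_eq_one'
      rw [hH] at h1
      have h2 := congrArg Subtype.val h1
      rw [Subgroup.coe_pow, Subgroup.coe_one] at h2
      simp only at h2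
      rw [← Subgroup.coe_pow, h2, Subgroup.coe_one]
    · rw [hZ', hH]
  have huniq : UniqueOrderP p ↥C := by
    intro H K hH hK
    rw [key H hH, key K hK]
  rcases UniqueOrderP.main hCp huniq with hc | ⟨h2, -⟩
  · exact hc
  · exact absurd h2 hp2

theorem ES.commutator_eq_ZW (h : ES p R W) : ⁅W, W⁆ = ZW W := by
  have hle : ⁅W, W⁆ ≤ ZW W := by
    rw [Subgroup.commutator_le]
    intro u hu v hv
    exact h.comm_mem_ZW hu hv
  apply Subgroup.eq_of_le_of_card_ge hle
  have hd := Subgroup.card_dvd_of_le hle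
  rw [h.card_ZW] at hd ⊢
  rcases (Nat.dvd_prime hp.out).mp hd with h1 | h1
  · exfalso
    obtain ⟨u, hu, v, hv, huv⟩ := h.naW
    have hbot : ⁅W, W⁆ = ⊥ := Subgroup.card_eq_one.mp h1
    have hm : ⁅u, v⁆ ∈ ⁅W, W⁆ := Subgroup.commutator_mem_commutator hu hv
    rw [hbot, Subgroup.mem_bot, commutatorElement_eq_one_iff_mul_comm] at hm
    exact huv hm
  · exact h1.ge

theorem ES.closure_omega_C (h : ES p R W) :
    Subgroup.closure {x : G | x ∈ R ⊓ Subgroup.centralizer (W : Set G) ∧ x ^ p = 1} = ⁅W, W⁆ := by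
  rw [h.commutator_eq_ZW]
  have hset : {x : G | x ∈ R ⊓ Subgroup.centralizer (W : Set G) ∧ x ^ p = 1} =
      ((ZW W : Subgroup G) : Set G) := by
    ext x
    constructor
    · rintro ⟨hx, hxp⟩
      exact h.mem_ZW_of_pow hx hxp
    · intro hx
      exact ⟨h.ZW_le_C hx, h.expW x (ZW_le W hx)⟩
  rw [hset, Subgroup.closure_eq]

theorem ES.exponent_W (h : ES p R W) : Monoid.exponent ↥W = p := by
  have h1 : Monoid.exponent ↥W ∣ p := by
    apply Monoid.exponent_dvd_of_forall_pow_eq_one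
    intro g
    apply Subtype.ext
    rw [Subgroup.coe_pow, Subgroup.coe_one]
    exact h.expW g g.2
  rcases (Nat.dvd_prime hp.out).mp h1 with h2 | h2
  · exfalso
    rw [Monoid.exp_eq_one_iff] at h2
    have h3 : Nat.card ↥W = 1 := Nat.card_eq_one_iff_unique.mpr ⟨h2, ⟨1⟩⟩
    rw [h.cardW] at h3
    have : 1 < p ^ 3 := Nat.one_lt_pow (by norm_num) hp.out.one_lt
    omega
  · exact h2

theorem ES.structure (h : ES p R W) (hp3 : 3 < p) (A : Subgroup G)
    (hA : A ≤ Subgroup.normalizer (R : Set G)) (hcop : (Nat.card A).Coprime p)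
    (hodd : Odd (Nat.card A)) (hRA : ⁅R, A⁆ = R) :
    ∃ R₁ R₂ : Subgroup G, R₁ ⊔ R₂ = R ∧ (∀ a ∈ R₁, ∀ b ∈ R₂, a * b = b * a) ∧
        ¬ IsMulCommutative R₁ ∧ Nat.card R₁ = p ^ 3 ∧ Monoid.exponent R₁ = p ∧ IsCyclic R₂ ∧
        Subgroup.closure {x : G | x ∈ R₂ ∧ x ^ p = 1} = ⁅R₁, R₁⁆ := by
  have hp2 : p ≠ 2 := by omega
  have hn : R ≤ Subgroup.normalizer (W : Set G) := Subgroup.le_normalizer.trans h.norm_W
  have hnt := h.not_NT hp3 A hA hcop hodd hRA
  refine ⟨W, R ⊓ Subgroup.centralizer (W : Set G), ?_, ?_, ?_, h.cardW, h.exponent_W,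
    h.isCyclic_C hp2, h.closure_omega_C⟩
  · apply le_antisymm (sup_le h.WR inf_le_left)
    intro g hg
    obtain ⟨w, hw, t, ht, rfl⟩ := h.decomp_of_not_NT hn hnt g hg
    exact Subgroup.mul_mem_sup hw ht
  · intro a ha b hb
    exact Subgroup.mem_centralizer_iff.mp (Subgroup.mem_inf.mp hb).2 a ha
  · intro hcon
    exact h.not_comm (fun a b => hcon.is_comm.comm a b)

end g13

end Cfsg.Agent.Lib.Helper4.RT
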