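import Mathlib
import Cfsg.Agent.Lib.Helper4.RT13
import Cfsg.Agent.Lib.Helper4.Rk2k
import Cfsg.Agent.Lib.Helper4.Rk2h
import Cfsg.Agent.Lib.Lead.RankTwoOmega

set_option autoImplicit false

/-! The structure of `R = [R, A]` of rank at most two. -/

namespace Cfsg.Agent.Lib.Helper4.RT

open scoped commutatorElement
open Cfsg.Agent.Lib.Lead

universe u

section g14

variable {G : Type u} [Group G] [Finite G] {p : ℕ} [hp : Fact p.Prime]

theorem three_lt_of_action (hp2 : p ≠ 2) (R A : Subgroup G) (hR : IsPGroup p R) (hR1 : R ≠ ⊥)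
    (hr : Cfsg.PRankLE p 2 R) (hA : A ≤ Subgroup.normalizer (R : Set G))
    (hcop : (Nat.card A).Coprime p) (hAodd : Odd (Nat.card A)) (hRA : ⁅R, A⁆ = R) : 3 < p := by
  classical
  by_contra hcon
  have hp3 : p = 3 := by
    have h2 := hp.out.two_le
    have : p ≤ 3 := by omega
    interval_cases p
    · exact absurd rfl hp2
    · rfl
  -- `A` does not centralize `R`
  have hAC : ¬ A ≤ Subgroup.centralizer (R : Set G) := by
    intro hle
    apply hR1
    rw [← hRA, Subgroup.commutator_eq_bot_iff_le_centralizer]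
    exact Subgroup.le_centralizer_iff.mp hle
  set C' : Subgroup ↥A := (Subgroup.centralizer (R : Set G)).subgroupOf A with hC'
  have hC'top : C' ≠ ⊤ := by
    intro h
    apply hAC
    intro a ha
    have : (⟨a, ha⟩ : ↥A) ∈ C' := by rw [h]; exact Subgroup.mem_top _
    rwa [hC', Subgroup.mem_subgroupOf] at this
  have hidx : C'.index ≠ 1 := fun h => hC'top (Subgroup.index_eq_one.mp h)
  obtain ⟨q, hq, hqd⟩ := Nat.exists_prime_and_dvd hidx
  haveI : Fact q.Prime := ⟨hq⟩
  have hqA : q ∣ Nat.card A := hqd.trans (Subgroup.index_dvd_card C')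
  have hq2 : q ≠ 2 := by
    rintro rfl
    rcases hAodd with ⟨k, hk⟩
    omega
  have hqp : q ≠ p := by
    rintro rfl
    have := Nat.Coprime.eq_one_of_dvd hcop.symm hqA
    exact hq.one_lt.ne' this
  obtain ⟨P⟩ : Nonempty (Sylow q ↥A) := inferInstance
  have hPC : ¬ (P : Subgroup ↥A) ≤ C' := by
    intro hle
    exact P.not_dvd_index (hqd.trans (Subgroup.index_dvd_of_le hle))
  obtain ⟨y, hyP, hyC⟩ : ∃ y ∈ (P : Subgroup ↥A), y ∉ C' := by
    by_contra hall
    push Not at hall
    exact hPC hall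
  obtain ⟨k, hk⟩ := P.isPGroup' ⟨y, hyP⟩
  have hk' : (y : G) ^ (q ^ k) = 1 := by
    have := congrArg Subtype.val (congrArg Subtype.val hk)
    simpa using this
  have hyc : (y : G) ∉ Subgroup.centralizer (R : Set G) := by
    intro h
    apply hyC
    rw [hC', Subgroup.mem_subgroupOf]; exact h
  have hle := Cfsg.Agent.Lib.Helper4.Rk2.prime_le_of_not_centralizes_pow hp2 R hR hr q hq2 hqp k
    (y : G) (hA y.2) hk' hyc
  rw [hp3] at hle hqp
  have := hq.two_le
  interval_cases q
  · exact hq2 rfl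
  · exact hqp rfl

end g14

end Cfsg.Agent.Lib.Helper4.RT
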