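import Mathlib
import Cfsg.Agent.Lib.Helper4.RT14

set_option autoImplicit false

/-! The structure of `R = [R, A]` of rank at most two: the main theorem. -/

namespace Cfsg.Agent.Lib.Helper4.RT

open scoped commutatorElement
open Cfsg.Agent.Lib.Lead

universe u

section g15

variable {G : Type u} [Group G] {p : ℕ}

/-- `Ω₁(R)` in the ambient group. -/
def OmR (p : ℕ) (R : Subgroup G) : Subgroup G := Subgroup.closure {x : G | x ∈ R ∧ x ^ p = 1}

theorem OmR_le (R : Subgroup G) : OmR p R ≤ R := by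
  unfold OmR
  rw [Subgroup.closure_le]
  intro x hx
  exact hx.1

theorem OmR_eq_map (R : Subgroup G) :
    OmR p R = (Cfsg.Agent.Lib.Helper4.OQ.Om p ↥R).map R.subtype := by
  unfold OmR Cfsg.Agent.Lib.Helper4.OQ.Om
  rw [MonoidHom.map_closure]
  congr 1
  ext x
  constructor
  · rintro ⟨hx, hxp⟩
    refine ⟨⟨x, hx⟩, ?_, rfl⟩
    show (⟨x, hx⟩ : ↥R) ^ p = 1
    apply Subtype.ext
    rw [Subgroup.coe_pow, Subgroup.coe_one]
    exact hxp
  · rintro ⟨x', hx', rfl⟩
    refine ⟨x'.2, ?_⟩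
    have h1 : x' ^ p = 1 := hx'
    have := congrArg Subtype.val h1
    rwa [Subgroup.coe_pow, Subgroup.coe_one] at this

variable [Finite G] [hp : Fact p.Prime]

theorem OmR_exp (hp3 : 3 < p) {R : Subgroup G} (hR : IsPGroup p R) (hr : Cfsg.PRankLE p 2 R) :
    ∀ g ∈ OmR p R, g ^ p = 1 := by
  intro g hg
  rw [OmR_eq_map] at hg
  obtain ⟨g', hg', rfl⟩ := hg
  have hrk : ∀ E : Subgroup ↥R, Cfsg.IsElementaryAbelian p E → Nat.card E ≤ p ^ 2 :=
    fun E hE => hr E hE.1 hE.2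
  have h1 := omega_exponent_of_rank_two hp3 hR hrk g' hg'
  have := congrArg Subtype.val h1
  rwa [Subgroup.coe_pow, Subgroup.coe_one] at this

theorem card_OmR_le (hp3 : 3 < p) {R : Subgroup G} (hR : IsPGroup p R)
    (hr : Cfsg.PRankLE p 2 R) : Nat.card (OmR p R) ≤ p ^ 3 := by
  have hWp : IsPGroup p ↥(OmR p R) := hR.to_le (OmR_le R)
  have hr' : Cfsg.PRankLE p 2 ↥(OmR p R) :=
    Cfsg.Agent.Lib.Helper4.Rk2.prankLE_of_injective (Subgroup.inclusion (OmR_le R))
      (Subgroup.inclusion_injective (OmR_le R)) hr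
  apply card_le_cube_of_abelian_le_sq hWp
  intro E hE
  apply hr' E hE
  intro a _
  apply Subtype.ext
  rw [Subgroup.coe_pow, Subgroup.coe_one]
  exact OmR_exp hp3 hR hr a a.2

theorem main_structure (hp2 : p ≠ 2) (R A : Subgroup G) (hR : IsPGroup p R) (hR1 : R ≠ ⊥)
    (hr : Cfsg.PRankLE p 2 R) (hA : A ≤ Subgroup.normalizer (R : Set G))
    (hcop : (Nat.card A).Coprime p) (hAodd : Odd (Nat.card A)) (hRA : ⁅R, A⁆ = R) :
    3 < p ∧ (IsMulCommutative R ∨ ∃ R₁ R₂ : Subgroup G, R₁ ⊔ R₂ = R ∧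
        (∀ a ∈ R₁, ∀ b ∈ R₂, a * b = b * a) ∧
        ¬ IsMulCommutative R₁ ∧ Nat.card R₁ = p ^ 3 ∧ Monoid.exponent R₁ = p ∧ IsCyclic R₂ ∧
        Subgroup.closure {x : G | x ∈ R₂ ∧ x ^ p = 1} = ⁅R₁, R₁⁆) := by
  have hp3 : 3 < p := three_lt_of_action hp2 R A hR hR1 hr hA hcop hAodd hRA
  refine ⟨hp3, ?_⟩
  have hp1 := hp.out.one_lt
  by_cases hc : Nat.card (OmR p R) ≤ p ^ 2
  · left
    have hcard : Nat.card (Cfsg.Agent.Lib.Helper4.OQ.Om p ↥R) ≤ p ^ 2 := by
      rw [← Subgroup.card_map_of_injective R.subtype_injective, ← OmR_eq_map]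
      exact hc
    have hm : Cfsg.IsMetacyclic ↥R :=
      Cfsg.Agent.Lib.Helper4.HU.huppert hp3 _ _ rfl hR hcard
    have hab := Cfsg.Agent.Lib.Helper4.MetaOdd.kl_general hp2 R A hA hR hm hcop hRA
    refine ⟨⟨fun a b => ?_⟩⟩
    apply Subtype.ext
    have h1 : ⁅(a : G), (b : G)⁆ ∈ ⁅R, R⁆ := Subgroup.commutator_mem_commutator a.2 b.2
    rw [hab, Subgroup.mem_bot, commutatorElement_eq_one_iff_mul_comm] at h1
    exact h1
  · right
    push Not at hc
    have hWp : IsPGroup p ↥(OmR p R) := hR.to_le (OmR_le R)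
    obtain ⟨k, hk⟩ := IsPGroup.iff_card.mp hWp
    have hk3 : k ≤ 3 := by
      have := card_OmR_le hp3 hR hr
      rw [hk] at this
      exact (Nat.pow_le_pow_iff_right hp1).mp this
    have hk2 : 2 < k := by
      rw [hk] at hc
      exact (Nat.pow_lt_pow_iff_right hp1).mp hc
    have hk' : k = 3 := by omega
    have hES : ES p R (OmR p R) := by
      refine ⟨hR, OmR_le R, by rw [hk, hk'], OmR_exp hp3 hR hr, ?_, ?_⟩
      · by_contra hcon
        push Not at hcon
        have h1 : IsMulCommutative ↥((OmR p R).subgroupOf R) := by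
          refine ⟨⟨fun a b => ?_⟩⟩
          apply Subtype.ext
          apply Subtype.ext
          exact hcon _ (Subgroup.mem_subgroupOf.mp a.2) _ (Subgroup.mem_subgroupOf.mp b.2)
        have h2 := hr ((OmR p R).subgroupOf R) h1 (by
          intro a ha
          apply Subtype.ext
          rw [Subgroup.coe_pow, Subgroup.coe_one]
          exact OmR_exp hp3 hR hr a (Subgroup.mem_subgroupOf.mp ha))
        rw [card_subgroupOf_of_le (OmR_le R), hk, hk'] at h2
        have := (Nat.pow_le_pow_iff_right hp1).mp h2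
        omega
      · intro x hx hxp
        exact Subgroup.subset_closure ⟨hx, hxp⟩
    exact hES.structure hp3 A hA hcop hAodd hRA

end g15

end Cfsg.Agent.Lib.Helper4.RT
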