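import Mathlib
import Cfsg.Prelude.Def_Local
import Cfsg.Prelude.Def_Transfer
import Cfsg.Agent.Lib.Helper4.PLength
import Cfsg.Agent.Lib.Helper4.FusionLift1

set_option autoImplicit false

/-! `p`-length one implies `p`-solvable; elementary abelian `E ⊔ ⟨y⟩`. -/

namespace Cfsg.Agent.Lib.Helper4

open Cfsg

variable {G : Type*} [Group G]

theorem isPSolvable_of_pLengthLE_one [Finite G] (p : ℕ) [Fact p.Prime] (h : PLengthLE p 1 G) :
    IsPSolvable p G := by
  have h1 := upperPSeries_one_coprime (G := G) p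
  obtain ⟨k, hk⟩ := upperPSeries_two_card (G := G) p
  have h3 := upperPSeries_two_index_coprime p h
  have hle12 : (upperPSeries p G 1).1 ≤ (upperPSeries p G 2).1 := upperPSeries_le_succ p 1
  refine ⟨3, ![⊥, (upperPSeries p G 1).1, (upperPSeries p G 2).1, ⊤], rfl, rfl, ?_, ?_, ?_⟩
  · apply Fin.monotone_iff_le_succ.mpr
    intro i
    fin_cases i
    · exact bot_le
    · exact hle12
    · exact le_top
  · intro i
    fin_cases i
    · exact (inferInstance : (⊥ : Subgroup G).Normal)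
    · exact (upperPSeries p G 1).2
    · exact (upperPSeries p G 2).2
    · exact (inferInstance : (⊤ : Subgroup G).Normal)
  · intro i
    fin_cases i
    · right
      show ((⊥ : Subgroup G).relIndex (upperPSeries p G 1).1).Coprime p
      rw [Subgroup.relIndex_bot_left]
      exact h1
    · left
      refine ⟨k, ?_⟩
      show ((upperPSeries p G 1).1.relIndex (upperPSeries p G 2).1) = p ^ k
      have h4 := Subgroup.relIndex_mul_relIndex ⊥ (upperPSeries p G 1).1 (upperPSeries p G 2).1 bot_le hle12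
      rw [Subgroup.relIndex_bot_left, Subgroup.relIndex_bot_left, hk] at h4
      have hpos : 0 < Nat.card (upperPSeries p G 1).1 := Nat.card_pos
      rw [mul_comm] at h4
      exact Nat.eq_of_mul_eq_mul_right hpos h4
    · right
      show ((upperPSeries p G 2).1.relIndex ⊤).Coprime p
      rw [Subgroup.relIndex_top_right]
      exact h3

theorem isEA_sup_zpowers {p : ℕ} {E : Subgroup G} (hE : IsElementaryAbelian p E) {y : G}
    (hy : y ^ p = 1) (hc : ∀ e ∈ E, e * y = y * e) :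
    IsElementaryAbelian p (E ⊔ Subgroup.zpowers y) := by
  have hnorm : Subgroup.zpowers y ≤ Subgroup.normalizer (E : Set G) := by
    rw [Subgroup.zpowers_le, Subgroup.mem_normalizer_iff]
    intro e
    constructor
    · intro he
      have : y * e * y⁻¹ = e := by rw [← hc e he]; group
      rw [this]; exact he
    · intro he
      have h1 := hc _ he
      have h3 : e = y⁻¹ * (y * e * y⁻¹) * y := by group
      rw [h3, mul_assoc, h1]
      have h4 : y⁻¹ * (y * (y * e * y⁻¹)) = y * e * y⁻¹ := by group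
      rw [h4]; exact he
  have hcomm_zp : ∀ e ∈ E, ∀ z ∈ Subgroup.zpowers y, e * z = z * e := by
    intro e he z hz
    obtain ⟨k, rfl⟩ := Subgroup.mem_zpowers_iff.mp hz
    exact ((Commute.zpow_right (hc e he : Commute e y)) k).eq
  have hEcomm : ∀ a ∈ E, ∀ b ∈ E, a * b = b * a := by
    intro a ha b hb
    have := hE.1.is_comm.comm (⟨a, ha⟩ : E) ⟨b, hb⟩
    exact congrArg Subtype.val this
  have hzz : ∀ z ∈ Subgroup.zpowers y, ∀ w ∈ Subgroup.zpowers y, z * w = w * z := by
    intro z hz w hw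
    obtain ⟨k, rfl⟩ := Subgroup.mem_zpowers_iff.mp hz
    obtain ⟨l, rfl⟩ := Subgroup.mem_zpowers_iff.mp hw
    exact ((Commute.refl y).zpow_zpow k l).eq
  have hzp : ∀ z ∈ Subgroup.zpowers y, z ^ p = 1 := by
    intro z hz
    obtain ⟨k, rfl⟩ := Subgroup.mem_zpowers_iff.mp hz
    rw [← zpow_natCast, ← zpow_mul, mul_comm, zpow_mul, zpow_natCast, hy, one_zpow]
  constructor
  · constructor
    constructor
    rintro ⟨a, ha⟩ ⟨b, hb⟩
    apply Subtype.ext
    obtain ⟨e₁, he₁, z₁, hz₁, rfl⟩ := exists_mul_of_mem_sup_normalizer hnorm ha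
    obtain ⟨e₂, he₂, z₂, hz₂, rfl⟩ := exists_mul_of_mem_sup_normalizer hnorm hb
    show e₁ * z₁ * (e₂ * z₂) = e₂ * z₂ * (e₁ * z₁)
    calc e₁ * z₁ * (e₂ * z₂) = e₁ * (z₁ * e₂) * z₂ := by simp only [mul_assoc]
      _ = e₁ * (e₂ * z₁) * z₂ := by rw [hcomm_zp e₂ he₂ z₁ hz₁]
      _ = (e₁ * e₂) * (z₁ * z₂) := by simp only [mul_assoc]
      _ = (e₂ * e₁) * (z₂ * z₁) := by rw [hEcomm e₁ he₁ e₂ he₂, hzz z₁ hz₁ z₂ hz₂]
      _ = e₂ * (e₁ * z₂) * z₁ := by simp only [mul_assoc]
      _ = e₂ * (z₂ * e₁) * z₁ := by rw [hcomm_zp e₁ he₁ z₂ hz₂]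
      _ = e₂ * z₂ * (e₁ * z₁) := by simp only [mul_assoc]
  · intro a ha
    obtain ⟨e, he, z, hz, rfl⟩ := exists_mul_of_mem_sup_normalizer hnorm ha
    have hcm : Commute e z := hcomm_zp e he z hz
    rw [hcm.mul_pow, hE.2 e he, hzp z hz, one_mul]

end Cfsg.Agent.Lib.Helper4
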