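import Mathlib
import Cfsg.Agent.Lib.Lead.BG10y
import Cfsg.Agent.Lib.Helper4.BG12a

set_option autoImplicit false

/-! Bender–Glauberman, Corollary 12.14. -/

namespace Cfsg.Agent.Lib.Helper4.BG12

open Cfsg Cfsg.Agent.Lib.Lead Cfsg.Agent.Lib.Lead.BG10 Cfsg.Agent.Lib.Helper7 Cfsg.Agent.Lib.Helper4
open Cfsg.Agent.Lib.Helper4.Narrow Cfsg.Agent.Lib.Helper3.NormalSq
open Cfsg.Agent.Lib.Helper4.BG76 Cfsg.Agent.Lib.Helper4.BG8 Cfsg.Agent.Lib.Helper4.BG9
open Cfsg.Agent.Lib.Helper4.BG7
open scoped commutatorElement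

universe u

variable {G : Type u} [Group G] [Finite G]

theorem centralizer_ne_top_of (hG : IsMinSimpleOddOrder G) {X : Subgroup G} (hX1 : X ≠ ⊥)
    (hXtop : X ≠ ⊤) : Subgroup.centralizer (X : Set G) ≠ ⊤ := by
  intro h
  apply normalizer_ne_top hG hX1 hXtop
  rw [eq_top_iff, ← h]
  exact Subgroup.centralizer_le_normalizer _

/-- an overgroup of a uniqueness subgroup of `M` -/
theorem uniq_of_le {K Y M : Subgroup G} (hK : InUniqueMaximal K) (hM : IsCoatom M) (hKM : K ≤ M)
    (hKY : K ≤ Y) (hY : Y ≠ ⊤) : Y ≤ M ∧ ∀ L : Subgroup G, IsCoatom L → Y ≤ L → L = M := by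
  obtain ⟨M₀, ⟨-, -⟩, huniq⟩ := hK
  have hMM₀ : M = M₀ := huniq M ⟨hM, hKM⟩
  have h2 : ∀ L : Subgroup G, IsCoatom L → Y ≤ L → L = M := by
    intro L hL hYL
    rw [hMM₀]
    exact huniq L ⟨hL, hKY.trans hYL⟩
  refine ⟨?_, h2⟩
  obtain ⟨L, hL, hYL⟩ := exists_coatom_ge hY
  rw [← h2 L hL hYL]
  exact hYL

/-- `X = ⟨x⟩` and the centralizers -/
theorem centralizer_zpowers (x : G) :
    Subgroup.centralizer ((Subgroup.zpowers x : Subgroup G) : Set G) =
      Subgroup.centralizer ({x} : Set G) := by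
  ext c
  rw [Subgroup.mem_centralizer_iff, Subgroup.mem_centralizer_singleton_iff]
  constructor
  · intro h
    exact (h x (Subgroup.mem_zpowers x)).symm
  · intro h y hy
    obtain ⟨i, rfl⟩ := Subgroup.mem_zpowers_iff.mp hy
    have hc : Commute c x := h
    exact (hc.zpow_right i).eq.symm

/-- the main step of Corollary 12.14, for a Sylow subgroup `S` containing `X` -/
theorem cent_der_sigma_aux (hG : IsMinSimpleOddOrder G) {M : Subgroup G} (hM : IsCoatom M) {p : ℕ}
    [hp : Fact p.Prime] {S : Subgroup G} (d : SigmaData M p S) (hSMs : S ≤ sigmaCore M)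
    {X : Subgroup G} (hXS : X ≤ S) (hX : Nat.card X = p)
    (h : p ∈ beta M ∨ X ≤ ⁅sigmaCore M, sigmaCore M⁆) :
    (Subgroup.centralizer (X : Set G) ≤ M ∧
      ∀ L : Subgroup G, IsCoatom L → Subgroup.centralizer (X : Set G) ≤ L → L = M) ∧
      ∀ L : Subgroup G, IsCoatom L → S ≤ L → L = M := by
  classical
  have hpp : p.Prime := hp.out
  have hp1 := hpp.one_lt
  have hSp : IsPGroup p ↥S := d.hPp
  have hp2 : p ≠ 2 := ne_two_of_odd hG d.p_dvd
  have hX1 : X ≠ ⊥ := by
    intro h0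
    rw [h0, Subgroup.card_bot] at hX
    omega
  have hXp : IsPGroup p ↥X := hSp.to_le hXS
  have hXtop : X ≠ ⊤ := isPGroup_ne_top hG hXp
  have hCtop : Subgroup.centralizer (X : Set G) ≠ ⊤ := centralizer_ne_top_of hG hX1 hXtop
  have hStop : S ≠ ⊤ := isPGroup_ne_top hG hSp
  obtain ⟨T, hT⟩ := d.hPsyl
  -- a generator
  obtain ⟨x, hxX, hx1⟩ : ∃ x ∈ X, x ≠ 1 := by
    by_contra hcon
    push Not at hcon
    apply hX1
    rw [eq_bot_iff]
    intro y hy
    rw [Subgroup.mem_bot]
    exact hcon y hy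
  have hXx : X = Subgroup.zpowers x := eq_zpowers_of_card_prime hX hxX hx1
  have hxS : x ∈ S := hXS hxX
  have hxp : x ^ p = 1 := by
    have h1 : (⟨x, hxX⟩ : ↥X) ^ Nat.card X = 1 := pow_card_eq_one'
    rw [hX] at h1
    have := congrArg Subtype.val h1
    simpa using this
  by_cases hr3 : PRankLE p 2 ↥(S ⊓ Subgroup.centralizer (X : Set G))
  swap
  · -- the centralizer of `X` in `S` has rank at least three
    have hK := uniq_of_rank_three hG (hSp.to_le inf_le_left) hr3
    have hKM : S ⊓ Subgroup.centralizer (X : Set G) ≤ M := inf_le_left.trans d.hPM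
    exact ⟨uniq_of_le hK hM hKM inf_le_right hCtop, (uniq_of_le hK hM hKM inf_le_left hStop).2⟩
  -- now `C_S(X)` has rank at most two
  set x' : ↥S := ⟨x, hxS⟩ with hx'
  have hx'p : x' ^ p = 1 := Subtype.ext (by simpa using hxp)
  have hC' : PRankLE p 2 ↥(Subgroup.centralizer ({x'} : Set ↥S)) := by
    let f : ↥(Subgroup.centralizer ({x'} : Set ↥S)) →* ↥(S ⊓ Subgroup.centralizer (X : Set G)) :=
      (S.subtype.comp (Subgroup.centralizer ({x'} : Set ↥S)).subtype).codRestrict _ (by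
        intro y
        refine Subgroup.mem_inf.mpr ⟨(y : ↥S).2, ?_⟩
        rw [hXx, centralizer_zpowers, Subgroup.mem_centralizer_singleton_iff]
        have := Subgroup.mem_centralizer_singleton_iff.mp y.2
        have h2 := congrArg Subtype.val this
        simpa using h2)
    have hf : Function.Injective f := by
      intro a b hab
      have h1 := congrArg (fun z : ↥(S ⊓ Subgroup.centralizer (X : Set G)) => (z : G)) hab
      apply Subtype.ext
      apply Subtype.ext
      exact h1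
    exact Rk2.prankLE_of_injective f hf hr3
  -- in the non-`β` case, `X` lies in the derived group of `S`
  have hXder : p ∉ beta M → x ∈ ⁅S, S⁆ := by
    intro hnb
    have hXd : X ≤ ⁅sigmaCore M, sigmaCore M⁆ := h.resolve_left hnb
    have hpM : p ∣ Nat.card ↥M := by
      have h1 : p ∣ Nat.card ↥S := by
        rcases hSp.card_eq_or_dvd with h2 | h2
        · exact absurd (Subgroup.card_eq_one.mp h2) d.hP1
        · exact h2
      exact h1.trans (Subgroup.card_dvd_of_le d.hPM)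
    set Ms := sigmaCore M with hMs
    obtain ⟨P₀, N, hNn, hNc⟩ := ((theorem_10_8 hG hM).2.2.2.2 p hpp hpM hnb).2.1
    set S' : Subgroup ↥Ms := S.subgroupOf Ms with hS'
    have hS'card : Nat.card S' = Nat.card (P₀ : Subgroup ↥Ms) := by
      have h1 : SylIn p Ms S := sylIn_of_sylow d.hPsyl hSMs
      have h2 : SylIn p Ms ((P₀ : Subgroup ↥Ms).map Ms.subtype) := sylIn_map_sylow P₀
      have h3 := h1.card_eq h2
      rw [Subgroup.card_map_of_injective Ms.subtype_injective] at h3
      rw [← h3]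
      exact Nat.card_congr (Subgroup.subgroupOfEquivOfLe hSMs).toEquiv
    have hNS' : N.IsComplement' S' := by
      apply Subgroup.isComplement'_of_coprime
      · rw [hS'card]; exact hNc.card_mul_card
      · rw [hS'card]
        obtain ⟨k, hk⟩ := IsPGroup.iff_card.mp P₀.isPGroup'
        rw [hk]
        apply Nat.Coprime.pow_right
        rw [Nat.coprime_comm, Nat.Prime.coprime_iff_not_dvd hpp, ← hNc.index_eq_card]
        exact P₀.not_dvd_index
    haveI := hNn
    have hxMs : x ∈ Ms := hSMs hxS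
    have hxc : (⟨x, hxMs⟩ : ↥Ms) ∈ commutator ↥Ms := by
      have h1 : x ∈ (⁅Ms, Ms⁆ : Subgroup G) := hXd hxX
      rw [← Subgroup.map_subtype_commutator] at h1
      obtain ⟨y, hy, hyx⟩ := h1
      have : y = ⟨x, hxMs⟩ := Subtype.ext hyx
      rwa [this] at hy
    have hxS' : (⟨x, hxMs⟩ : ↥Ms) ∈ S' := Subgroup.mem_subgroupOf.mpr hxS
    have h2 := mem_derived_of_normal_complement N S' hNS' hxc hxS'
    have h3 : x ∈ (⁅S', S'⁆).map Ms.subtype := ⟨_, h2, rfl⟩
    rw [Subgroup.map_commutator, hS', Subgroup.subgroupOf_map_subtype,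
      inf_eq_left.mpr hSMs] at h3
    exact h3
  by_cases hrS : PRankLE p 2 ↥S
  · -- rank at most two
    have hrT : PRankLE p 2 ↥(T : Subgroup G) := by rw [hT]; exact hrS
    have hnb : p ∉ beta M := fun hb => hb.2.2.1 (Cfsg.Agent.Lib.Helper4.NS.prankLE_of_sylow T 2 hrT)
    have hxd := hXder hnb
    have hSna : ¬ IsMulCommutative ↥S := by
      intro hc
      have h1 : (⁅S, S⁆ : Subgroup G) = ⊥ := by
        rw [Subgroup.commutator_eq_bot_iff_le_centralizer]
        intro a ha
        rw [Subgroup.mem_centralizer_iff]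
        intro b hb
        have := hc.is_comm.comm (⟨b, hb⟩ : ↥S) ⟨a, ha⟩
        exact congrArg Subtype.val this
      rw [h1, Subgroup.mem_bot] at hxd
      exact hx1 hxd
    have hSU := nonabelian_uniq hG p S hSp hSna
    rcases corollary_10_7c hG p T hrT with hc | ⟨P₁, P₂, hsup, hcomm, hP₁na, hP₁c, hexp, hP₂cyc, hcl⟩
    · rw [hT] at hc
      exact absurd hc hSna
    rw [hT] at hsup
    have d2 : R2Data p S P₁ P₂ := ⟨hsup, hcomm, hP₁na, hP₁c, hexp, hP₂cyc, hcl⟩
    have hderZ : (⁅S, S⁆ : Subgroup G) ≤ P₁ ⊓ Subgroup.centralizer (P₁ : Set G) := by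
      rw [Subgroup.commutator_le]
      intro a ha b hb
      have := d2.comm_mem ha hb
      rwa [← commutatorElement_def] at this
    have hSC : S ≤ Subgroup.centralizer (X : Set G) := by
      rw [hXx, centralizer_zpowers]
      intro s hs
      rw [Subgroup.mem_centralizer_singleton_iff]
      exact (Subgroup.mem_centralizer_iff.mp (d2.Z_central hs) x (hderZ hxd)).symm
    exact ⟨uniq_of_le hSU hM d.hPM hSC hCtop, (uniq_of_le hSU hM d.hPM le_rfl hStop).2⟩
  · -- rank at least three: contradiction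
    exfalso
    obtain ⟨hxZ₁, hEe, hE2, hEmax⟩ := exists_max_sq_of_centralizer_rank hSp hrS hx'p hC'
    by_cases hb : p ∈ beta M
    · -- ideal prime: no maximal elementary abelian subgroup of order `p ^ 2`
      set E' : Subgroup ↥S := Om p (Subgroup.center ↥S) ⊔ Subgroup.zpowers x' with hE'
      have hES : E'.map S.subtype ≤ (T : Subgroup G) := by
        rw [hT]; exact Subgroup.map_subtype_le _
      have hEeG : IsElementaryAbelian p (E'.map S.subtype) :=
        Cfsg.Agent.Lib.Helper4.BG10pC.isElementaryAbelian_map_subtype S hEe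
      have hE2G : Nat.card ↥(E'.map S.subtype) = p ^ 2 := by
        rw [Subgroup.card_map_of_injective S.subtype_injective, hE2]
      obtain ⟨B, hBT, hBe, hlt⟩ := hb.2.2.2 T (E'.map S.subtype) hES hEeG hE2G
      rw [hT] at hBT
      have hBe' : IsElementaryAbelian p (B.subgroupOf S) := by
        refine ⟨⟨⟨?_⟩⟩, ?_⟩
        · rintro ⟨a, ha⟩ ⟨b, hb⟩
          apply Subtype.ext
          apply Subtype.ext
          rw [Subgroup.mem_subgroupOf] at ha hb
          have := hBe.1.is_comm.comm (⟨a, ha⟩ : ↥B) ⟨b, hb⟩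
          have h2 := congrArg Subtype.val this
          simpa using h2
        · intro a ha
          rw [Subgroup.mem_subgroupOf] at ha
          apply Subtype.ext
          simpa using hBe.2 _ ha
      have hle : E' ≤ B.subgroupOf S := by
        intro e he
        rw [Subgroup.mem_subgroupOf]
        exact hlt.le ⟨e, he, rfl⟩
      have heq := hEmax _ hBe' hle
      have h1 : Nat.card ↥(B.subgroupOf S) = Nat.card ↥B :=
        Nat.card_congr (Subgroup.subgroupOfEquivOfLe hBT).toEquiv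
      have h2 : Nat.card ↥B = p ^ 2 := by rw [← h1, heq, hE2]
      have h3 : E'.map S.subtype = B :=
        Subgroup.eq_of_le_of_card_ge hlt.le (by rw [h2, hE2G])
      exact hlt.ne h3
    · have hxd := hXder hb
      have hxc : x' ∈ commutator ↥S := by
        rw [← Subgroup.map_subtype_commutator] at hxd
        obtain ⟨y, hy, hyx⟩ := hxd
        have : y = x' := Subtype.ext hyx
        rwa [this] at hy
      exact not_mem_commutator_of_centralizer_rank hp2 hSp hrS hx'p hC' hxc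

/-- `SigmaData` for every Sylow `p`-subgroup of `M`, `p ∈ σ(M)` -/
theorem sigmaData_of_sylIn {M : Subgroup G} (hM : IsCoatom M) {p : ℕ}
    [hp : Fact p.Prime] (hpσ : p ∈ sigma M) {S : Subgroup G} (hS : SylIn p M S) :
    SigmaData M p S := by
  obtain ⟨S₀, d₀⟩ := exists_sigmaData hM hpσ
  obtain ⟨y, hy, hyS⟩ := d₀.sylIn.conj hS
  have hN : Subgroup.normalizer (S : Set G) ≤ M := by
    rw [← hyS, normalizer_cj]
    exact cj_le_of_mem hy d₀.hN
  refine ⟨hM, hS.1, sylow_of_normalizer_le hS hN, hN, ?_⟩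
  rw [← hyS, Ne, cj_eq_bot_iff]
  exact d₀.hP1

/-- **Bender–Glauberman, Corollary 12.14** -/
theorem corollary_12_14 (hG : IsMinSimpleOddOrder G) (M : Subgroup G) (hM : IsCoatom M) (p : ℕ)
    [hp : Fact p.Prime] (hpσ : p ∈ sigma M) (X : Subgroup G) (hXM : X ≤ M) (hX : Nat.card X = p)
    (P : Sylow p ↥(sigmaCore M)) (h : p ∈ beta M ∨ X ≤ ⁅sigmaCore M, sigmaCore M⁆) :
    (Subgroup.centralizer (X : Set G) ≤ M ∧
        ∀ L : Subgroup G, IsCoatom L → Subgroup.centralizer (X : Set G) ≤ L → L = M) ∧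
      InUniqueMaximal ((P : Subgroup ↥(sigmaCore M)).map (sigmaCore M).subtype) ∧
      (P : Subgroup ↥(sigmaCore M)).map (sigmaCore M).subtype ≤ M := by
  classical
  set PG : Subgroup G := (P : Subgroup ↥(sigmaCore M)).map (sigmaCore M).subtype with hPG
  have hMsM : sigmaCore M ≤ M := sigmaCore_le M
  have hPGMs : SylIn p (sigmaCore M) PG := sylIn_map_sylow P
  have hPGM' : PG ≤ M := hPGMs.1.trans hMsM
  obtain ⟨S₀, d₀⟩ := exists_sigmaData hM hpσ
  have hS₀Ms : S₀ ≤ sigmaCore M := d₀.le_sigmaCore hG hpσ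
  have hS₀ : SylIn p (sigmaCore M) S₀ := sylIn_of_sylow d₀.hPsyl hS₀Ms
  have hPGM : SylIn p M PG := by
    apply SylIn.of_card hPGMs.2.1 hPGM'
    rw [hPGMs.card_eq hS₀, SylIn.card_eq_pow d₀.sylIn]
  have hXp : IsPGroup p ↥X := IsPGroup.of_card (n := 1) (by rw [hX, pow_one])
  obtain ⟨c, hc, hcX⟩ := hPGM.exists_conj_le hXM hXp
  set S : Subgroup G := cj c⁻¹ PG with hS
  have hcinv : c⁻¹ ∈ M := M.inv_mem hc
  have hSM : SylIn p M S := hPGM.cj hcinv
  have dS : SigmaData M p S := sigmaData_of_sylIn hM hpσ hSM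
  have hXS : X ≤ S := by
    have h1 := cj_mono c⁻¹ hcX
    rwa [cj_inv_cj] at h1
  have hSMs : S ≤ sigmaCore M := by
    have h1 : cj c⁻¹ (sigmaCore M) = sigmaCore M :=
      mem_normalizer_iff_cj.mp (le_normalizer_sigmaCore M hcinv)
    rw [← h1]
    exact cj_mono c⁻¹ hPGMs.1
  obtain ⟨hC, hSu⟩ := cent_der_sigma_aux hG hM dS hSMs hXS hX h
  refine ⟨hC, ⟨M, ⟨hM, hPGM'⟩, ?_⟩, hPGM'⟩
  rintro L ⟨hL, hPGL⟩
  have h1 : S ≤ cj c⁻¹ L := cj_mono c⁻¹ hPGL
  have h2 := hSu _ (isCoatom_cj hL c⁻¹) h1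
  have h3 : L = cj c M := by
    rw [← h2, cj_cj_inv]
  rw [h3]
  exact cj_eq_self_of_mem hc

end Cfsg.Agent.Lib.Helper4.BG12
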