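import Mathlib
import Cfsg.Agent.Lib.Helper4.BG12b
import Cfsg.Agent.Lib.Helper4.CNMax2

set_option autoImplicit false

/-! Bender–Glauberman, Lemma 13.1 (a), (b), (c), relative to the statement `C_G(A) ≤ M` for
`A ∈ E_p^2(M)` (Proposition 12.4(a)). -/

namespace Cfsg.Agent.Lib.Helper4.BG13

open Cfsg Cfsg.Agent.Lib.Lead Cfsg.Agent.Lib.Lead.BG10 Cfsg.Agent.Lib.Helper7 Cfsg.Agent.Lib.Helper4
open Cfsg.Agent.Lib.Helper4.BG76 Cfsg.Agent.Lib.Helper4.BG8 Cfsg.Agent.Lib.Helper4.BG9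
open Cfsg.Agent.Lib.Helper4.BG7 Cfsg.Agent.Lib.Helper4.BG12
open scoped commutatorElement

universe u

variable {G : Type u} [Group G] [Finite G]

/-- Proposition 12.4(a) for the maximal subgroup `M` and the prime `p`, as a hypothesis -/
def Cent124 (M : Subgroup G) (p : ℕ) : Prop :=
  ∀ A : Subgroup G, A ≤ M → IsElementaryAbelian p A → Nat.card A = p ^ 2 →
    Subgroup.centralizer (A : Set G) ≤ M

/-- a Sylow subgroup `S` of `D` that contains the normalizers of `S` in a `p`-group `R ≥ S`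
equals `R` -/
theorem eq_of_sylIn_of_normalizer {p : ℕ} [Fact p.Prime] {D S R : Subgroup G} (hS : SylIn p D S)
    (hSR : S ≤ R) (hR : IsPGroup p R)
    (h : ∀ y ∈ R, y ∈ Subgroup.normalizer (S : Set G) → y ∈ D) : R = S := by
  by_contra hne
  obtain ⟨y, hyR, hyS, hyN⟩ := Cfsg.Agent.Lib.Helper4.CNMax.exists_normalizer_not_mem
    (hR.isNilpotent) hSR (Ne.symm hne)
  have hyD := h y hyR hyN
  have hzp : IsPGroup p ↥(Subgroup.zpowers y) := hR.to_le (Subgroup.zpowers_le.mpr hyR)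
  have hQ : IsPGroup p ↥(S ⊔ Subgroup.zpowers y : Subgroup G) :=
    IsPGroup.to_sup_of_normal_left' hS.2.1 hzp (Subgroup.zpowers_le.mpr hyN)
  have hQD : S ⊔ Subgroup.zpowers y ≤ D := sup_le hS.1 (Subgroup.zpowers_le.mpr hyD)
  have := eq_of_isPGroup_of_relIndex (le_sup_left : S ≤ S ⊔ Subgroup.zpowers y) hQD hQ hS.2.2
  apply hyS
  rw [← this]
  exact (le_sup_right : Subgroup.zpowers y ≤ _) (Subgroup.mem_zpowers y)

/-- Corollary 12.10(c), from Proposition 12.4(a) -/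
theorem normalizer_le_of_noncyclic (hG : IsMinSimpleOddOrder G) {M : Subgroup G} (hM : IsCoatom M)
    {p : ℕ} [hp : Fact p.Prime] (hpσ : p ∈ sigma M) (h124 : Cent124 M p) {P : Subgroup G}
    (hPp : IsPGroup p P) (hPM : P ≤ M) (hnc : ¬ IsCyclic ↥P) :
    Subgroup.normalizer (P : Set G) ≤ M := by
  have hpG : p ∣ Nat.card G := by
    obtain ⟨S₀, d₀⟩ := exists_sigmaData hM hpσ
    exact d₀.p_dvd
  have hp2 : p ≠ 2 := ne_two_of_odd hG hpG
  obtain ⟨A, -, hAe, hA2⟩ := Cfsg.Agent.S0126.result hp2 hPp hnc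
  have hAG := Cfsg.Agent.Lib.Helper4.BG10pC.isElementaryAbelian_map_subtype P hAe
  have hA2G : Nat.card ↥(A.map P.subtype) = p ^ 2 := by
    rw [Subgroup.card_map_of_injective P.subtype_injective, hA2]
  have hAP : A.map P.subtype ≤ P := Subgroup.map_subtype_le _
  have hC := h124 _ (hAP.trans hPM) hAG hA2G
  rw [(theorem_10_1 hG hM hpσ hPp hPM).2]
  apply sup_le inf_le_left
  exact (Subgroup.centralizer_le hAP).trans hC

/-- **Bender–Glauberman, Lemma 13.1 (a), (b), (c)** -/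
theorem lemma_13_1 (hG : IsMinSimpleOddOrder G) {M : Subgroup G} (hM : IsCoatom M) {q : ℕ}
    [hq : Fact q.Prime] (hqσ : q ∈ sigma M) (h124 : Cent124 M q) {X : Subgroup G}
    (hXq : IsPGroup q X) (hX1 : X ≠ ⊥) (hXM : X ≤ M) {Mstar : Subgroup G} (hMs : IsCoatom Mstar)
    (hne : Mstar ≠ M) (hNX : Subgroup.normalizer (X : Set G) ≤ Mstar) {S : Subgroup G}
    (hS : SylIn q (M ⊓ Mstar) S) (hXS : X ≤ S) :
    (∀ g : G, Mstar ≠ M.map (MulAut.conj g).toMonoidHom) ∧
      Subgroup.normalizer (S : Set G) ≤ M ∧ ¬ q ∣ S.relIndex Mstar := by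
  classical
  have hXMs : X ≤ Mstar := Subgroup.le_normalizer.trans hNX
  have hCX : Subgroup.centralizer (X : Set G) ≤ Mstar :=
    (Subgroup.centralizer_le_normalizer _).trans hNX
  have hSM : S ≤ M := hS.1.trans inf_le_left
  have hSMs : S ≤ Mstar := hS.1.trans inf_le_right
  have hSq : IsPGroup q ↥S := hS.2.1
  -- (b)
  have hb : Subgroup.normalizer (S : Set G) ≤ M := by
    by_cases hcyc : IsCyclic ↥S
    · obtain ⟨P, hSP, hP⟩ := exists_sylIn_ge hSM hSq
      have dP : SigmaData M q P := sigmaData_of_sylIn hM hqσ hP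
      have hNS : Subgroup.normalizer (S : Set G) ≤ Subgroup.normalizer (X : Set G) := by
        intro g hg
        rw [mem_normalizer_iff_cj] at hg ⊢
        have h1 : cj g X ≤ S := by
          have := cj_mono g hXS
          rwa [hg] at this
        exact eq_of_card_eq_of_le_cyclic hcyc h1 hXS (card_cj g X)
      have hPS : P = S := by
        apply eq_of_sylIn_of_normalizer hS hSP hP.2.1
        intro y hyP hyN
        exact ⟨hP.1 hyP, hNX (hNS hyN)⟩
      rw [← hPS]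
      exact dP.hN
    · exact normalizer_le_of_noncyclic hG hM hqσ h124 hSq hSM hcyc
  refine ⟨?_, hb, ?_⟩
  · -- (a)
    intro g hg
    apply hne
    have h1 : cj g⁻¹ X ≤ M := by
      have h2 : cj g⁻¹ Mstar = M := by
        rw [hg]
        exact cj_inv_cj g M
      rw [← h2]
      exact cj_mono g⁻¹ hXMs
    obtain ⟨m, hm, c, hc, hgmc⟩ := (theorem_10_1 hG hM hqσ hXq hXM).1 g⁻¹ h1
    have hg' : g = c⁻¹ * m⁻¹ := by
      have := congrArg (·⁻¹) hgmc
      simpa using this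
    have h3 : Mstar = cj c⁻¹ M := by
      rw [hg, hg']
      show cj (c⁻¹ * m⁻¹) M = cj c⁻¹ M
      rw [cj_mul, cj_eq_self_of_mem (M.inv_mem hm)]
    have hcM : c⁻¹ ∈ Mstar := Mstar.inv_mem (hCX hc)
    have h4 : cj c Mstar = M := by
      rw [h3, cj_cj_inv]
    rw [← h4]
    have h5 : cj c⁻¹ Mstar = Mstar := cj_eq_self_of_mem hcM
    have h6 : cj c (cj c⁻¹ Mstar) = Mstar := cj_cj_inv c Mstar
    rw [h5] at h6
    exact h6.symm
  · -- (c)
    intro hdvd
    obtain ⟨R, hSR, hR⟩ := exists_sylIn_ge hSMs hSq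
    have hRS : R = S := by
      apply eq_of_sylIn_of_normalizer hS hSR hR.2.1
      intro y hyR hyN
      exact ⟨hb hyN, hR.1 hyR⟩
    rw [← hRS] at hdvd
    exact hR.2.2 hdvd

end Cfsg.Agent.Lib.Helper4.BG13
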