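import Mathlib
import Cfsg.Agent.Lib.Helper4.BG13a
import Cfsg.Agent.Lib.Helper4.NilpSub
import Cfsg.Agent.Lib.Helper4.CNMax6

set_option autoImplicit false

/-! Bender–Glauberman: disjointness of `α(M)`, `σ(M)` and `σ(H)` for non-conjugate maximal subgroups
(the lemma `sigma_disjoint`). -/

namespace Cfsg.Agent.Lib.Helper4.BG13

open Cfsg Cfsg.Agent.Lib.Lead Cfsg.Agent.Lib.Lead.BG10 Cfsg.Agent.Lib.Helper7 Cfsg.Agent.Lib.Helper4
open Cfsg.Agent.Lib.Helper4.BG76 Cfsg.Agent.Lib.Helper4.BG8 Cfsg.Agent.Lib.Helper4.BG9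
open Cfsg.Agent.Lib.Helper4.BG7 Cfsg.Agent.Lib.Helper4.BG12
open scoped commutatorElement

universe u

variable {G : Type u} [Group G] [Finite G]

/-- a common prime of `σ(M)` and `σ(H)`: a Sylow subgroup of `M` with normalizer in a conjugate of
`H` -/
theorem exists_common_sylow {M H : Subgroup G} (hM : IsCoatom M) (hH : IsCoatom H)
    {p : ℕ} [hp : Fact p.Prime] (hpM : p ∈ sigma M) (hpH : p ∈ sigma H) :
    ∃ (S : Subgroup G) (g : G), SigmaData M p S ∧ Subgroup.normalizer (S : Set G) ≤ cj g H := by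
  obtain ⟨S, dS⟩ := exists_sigmaData hM hpM
  obtain ⟨T, dT⟩ := exists_sigmaData hH hpH
  have h1 : SylIn p ⊤ S := sylIn_of_sylow dS.hPsyl le_top
  have h2 : SylIn p ⊤ T := sylIn_of_sylow dT.hPsyl le_top
  obtain ⟨g, -, hg⟩ := h2.conj h1
  refine ⟨S, g, dS, ?_⟩
  rw [← hg, normalizer_cj]
  exact cj_mono g dT.hN

/-- **sigma_disjoint**: for non-conjugate maximal subgroups `M`, `H`, a common prime of `σ(M)` and
`σ(H)` is not in `α(M)`, and `M_σ` is not nilpotent -/
theorem sigma_disjoint (hG : IsMinSimpleOddOrder G) {M H : Subgroup G} (hM : IsCoatom M)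
    (hH : IsCoatom H) (hnc : ∀ g : G, M ≠ cj g H) {p : ℕ} [hp : Fact p.Prime] (hpM : p ∈ sigma M)
    (hpH : p ∈ sigma H) : p ∉ alpha M ∧ ¬ Group.IsNilpotent ↥(sigmaCore M) := by
  obtain ⟨S, g, dS, hNS⟩ := exists_common_sylow hM hH hpM hpH
  have hSg : S ≤ cj g H := Subgroup.le_normalizer.trans hNS
  have hHg : IsCoatom (cj g H) := isCoatom_cj hH g
  constructor
  · intro hα
    have hr : ¬ PRankLE p 2 ↥S := fun h => hα.2 (prankLE_of_sylIn dS.sylIn h)
    obtain ⟨M₀, -, huniq⟩ := uniq_of_rank_three hG dS.hPp hr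
    have e1 := huniq M ⟨hM, dS.hPM⟩
    have e2 := huniq _ ⟨hHg, hSg⟩
    exact hnc g (e1.trans e2.symm)
  · intro hnil
    have hSMs : S ≤ sigmaCore M := dS.le_sigmaCore hG hpM
    have hS : SylIn p (sigmaCore M) S := sylIn_of_sylow dS.hPsyl hSMs
    have hn := sylIn_normal_of_isNilpotent hnil hS
    -- `S` is normal in `M`
    have hMS : M ≤ Subgroup.normalizer (S : Set G) := by
      intro m hm
      rw [mem_normalizer_iff_cj]
      have h1 : cj m (sigmaCore M) = sigmaCore M :=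
        mem_normalizer_iff_cj.mp (le_normalizer_sigmaCore M hm)
      have h2 : SylIn p (sigmaCore M) (cj m S) := by
        have := Cfsg.Agent.Lib.Helper4.CNMax.sylIn_cj hS m
        rwa [h1] at this
      have h3 : cj m S ≤ S := hS.le_of_normal hn h2.1 h2.2.1
      exact Subgroup.eq_of_le_of_card_ge h3 (by rw [card_cj])
    have hNeq := normalizer_eq_of_isCoatom hG hM dS.hP1 dS.hPM hMS
    rw [hNeq] at hNS
    exact hnc g (eq_of_coatom_le hM hHg hNS)

/-- the group form: `M_α ∩ H_σ = 1` for non-conjugate `M`, `H` -/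
theorem alphaCore_inf_sigmaCore (hG : IsMinSimpleOddOrder G) {M H : Subgroup G} (hM : IsCoatom M)
    (hH : IsCoatom H) (hnc : ∀ g : G, M ≠ cj g H) : alphaCore M ⊓ sigmaCore H = ⊥ := by
  by_contra hne
  have hcard : Nat.card ↥(alphaCore M ⊓ sigmaCore H : Subgroup G) ≠ 1 := fun h =>
    hne (Subgroup.card_eq_one.mp h)
  obtain ⟨p, hp, hpd⟩ := Nat.exists_prime_and_dvd hcard
  have : Fact p.Prime := Fact.mk hp
  have h1 : p ∣ Nat.card ↥(alphaCore M) := hpd.trans (Subgroup.card_dvd_of_le inf_le_left)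
  have h2 : p ∣ Nat.card ↥(sigmaCore H) := hpd.trans (Subgroup.card_dvd_of_le inf_le_right)
  have hpα : p ∈ alpha M := by
    rw [card_alphaCore] at h1
    exact isPiNum_card_piCore (alpha M) p hp h1
  have hpH : p ∈ sigma H := by
    rw [card_sigmaCore] at h2
    exact isPiNum_card_piCore (sigma H) p hp h2
  exact (sigma_disjoint hG hM hH hnc (alpha_subset_sigma hG hM hpα) hpH).1 hpα

/-- the group form: `M_σ ∩ H_σ = 1` for non-conjugate `M`, `H` with `M_σ` nilpotent -/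
theorem sigmaCore_inf_sigmaCore (hG : IsMinSimpleOddOrder G) {M H : Subgroup G} (hM : IsCoatom M)
    (hH : IsCoatom H) (hnc : ∀ g : G, M ≠ cj g H) (hnil : Group.IsNilpotent ↥(sigmaCore M)) :
    sigmaCore M ⊓ sigmaCore H = ⊥ := by
  by_contra hne
  have hcard : Nat.card ↥(sigmaCore M ⊓ sigmaCore H : Subgroup G) ≠ 1 := fun h =>
    hne (Subgroup.card_eq_one.mp h)
  obtain ⟨p, hp, hpd⟩ := Nat.exists_prime_and_dvd hcard
  have : Fact p.Prime := Fact.mk hp
  have h1 : p ∣ Nat.card ↥(sigmaCore M) := hpd.trans (Subgroup.card_dvd_of_le inf_le_left)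
  have h2 : p ∣ Nat.card ↥(sigmaCore H) := hpd.trans (Subgroup.card_dvd_of_le inf_le_right)
  have hpM : p ∈ sigma M := by
    rw [card_sigmaCore] at h1
    exact isPiNum_card_piCore (sigma M) p hp h1
  have hpH : p ∈ sigma H := by
    rw [card_sigmaCore] at h2
    exact isPiNum_card_piCore (sigma H) p hp h2
  exact (sigma_disjoint hG hM hH hnc hpM hpH).2 hnil

end Cfsg.Agent.Lib.Helper4.BG13
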