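import Mathlib
import Cfsg.Agent.Lib.Helper4.BG13b

set_option autoImplicit false
set_option linter.style.haveILetI false
set_option linter.unusedSectionVars false

/-! Invariance of the Bender–Glauberman invariants `σ`, `α`, `β`, `τ_i`, `M_σ`, `M_α` of a maximal
subgroup under conjugation. -/

namespace Cfsg.Agent.Lib.Helper4.BGConj

open Cfsg Cfsg.Agent.Lib.Lead Cfsg.Agent.Lib.Lead.BG10 Cfsg.Agent.Lib.Helper7 Cfsg.Agent.Lib.Helper4
open Cfsg.Agent.Lib.Helper4.BG76 Cfsg.Agent.Lib.Helper4.BG8 Cfsg.Agent.Lib.Helper4.BG9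
open Cfsg.Agent.Lib.Helper4.BG7 Cfsg.Agent.Lib.Helper4.BG12
open scoped commutatorElement

universe u

variable {G : Type u} [Group G] [Finite G]

/-- the isomorphism `M ≃ gMg⁻¹` -/
noncomputable def cjEquiv (g : G) (M : Subgroup G) : ↥M ≃* ↥(cj g M) :=
  (MulAut.conj g).subgroupMap M

theorem prankLE_cj (g : G) (M : Subgroup G) (p k : ℕ) [Fact p.Prime] :
    PRankLE p k ↥(cj g M) ↔ PRankLE p k ↥M := by
  constructor
  · exact Rk2.prankLE_of_injective (cjEquiv g M).toMonoidHom (cjEquiv g M).injective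
  · exact Rk2.prankLE_of_injective (cjEquiv g M).symm.toMonoidHom (cjEquiv g M).symm.injective

theorem mem_sigma_iff_sylIn {M : Subgroup G} {p : ℕ} [hp : Fact p.Prime] :
    p ∈ sigma M ↔ p ∣ Nat.card M ∧ ∃ S : Subgroup G, SylIn p M S ∧
      Subgroup.normalizer (S : Set G) ≤ M := by
  constructor
  · rintro ⟨-, hd, P, hN⟩
    exact ⟨hd, _, sylIn_map_sylow P, hN⟩
  · rintro ⟨hd, S, hS, hN⟩
    refine ⟨hp.out, hd, ?_⟩
    obtain ⟨hSM, hSp, hSi⟩ := hS
    have hidx : ¬ p ∣ (S.subgroupOf M).index := hSi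
    have hSp' : IsPGroup p ↥(S.subgroupOf M) := hSp.comap_subtype (K := M)
    refine ⟨hSp'.toSylow hidx, ?_⟩
    have : ((hSp'.toSylow hidx : Sylow p ↥M) : Subgroup ↥M).map M.subtype = S := by
      rw [IsPGroup.toSylow_coe]
      exact Subgroup.map_subgroupOf_eq_of_le hSM
    rw [this]
    exact hN

theorem sylIn_cj {p : ℕ} {M S : Subgroup G} (g : G) (h : SylIn p M S) :
    SylIn p (cj g M) (cj g S) := by
  refine ⟨cj_mono g h.1, isPGroup_cj g h.2.1, ?_⟩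
  rw [relIndex_cj]
  exact h.2.2

theorem sigma_cj_le (g : G) (M : Subgroup G) : sigma M ⊆ sigma (cj g M) := by
  intro p hp
  haveI : Fact p.Prime := ⟨hp.1⟩
  rw [mem_sigma_iff_sylIn] at hp ⊢
  obtain ⟨hd, S, hS, hN⟩ := hp
  refine ⟨by rw [card_cj]; exact hd, cj g S, sylIn_cj g hS, ?_⟩
  rw [normalizer_cj]
  exact cj_mono g hN

theorem sigma_cj (g : G) (M : Subgroup G) : sigma (cj g M) = sigma M := by
  apply Set.Subset.antisymm
  · have := sigma_cj_le g⁻¹ (cj g M)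
    rwa [cj_inv_cj] at this
  · exact sigma_cj_le g M

theorem alpha_cj (g : G) (M : Subgroup G) : alpha (cj g M) = alpha M := by
  ext p
  constructor
  · rintro ⟨hp, h⟩
    haveI : Fact p.Prime := ⟨hp⟩
    exact ⟨hp, fun h' => h ((prankLE_cj g M p 2).mpr h')⟩
  · rintro ⟨hp, h⟩
    haveI : Fact p.Prime := ⟨hp⟩
    exact ⟨hp, fun h' => h ((prankLE_cj g M p 2).mp h')⟩

theorem beta_cj (g : G) (M : Subgroup G) : beta (cj g M) = beta M := by
  unfold beta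
  rw [alpha_cj]

theorem cj_commutator (g : G) (H K : Subgroup G) : cj g ⁅H, K⁆ = ⁅cj g H, cj g K⁆ :=
  Subgroup.map_commutator H K _

theorem tau1_cj (g : G) (M : Subgroup G) : tau1 (cj g M) = tau1 M := by
  ext p
  unfold tau1
  simp only [Set.mem_ofPred_eq]
  rw [sigma_cj, card_cj, ← cj_commutator, card_cj]
  constructor
  · rintro ⟨hp, h1, h2, h3, h4⟩
    haveI : Fact p.Prime := ⟨hp⟩
    exact ⟨hp, h1, h2, h3, (prankLE_cj g M p 1).mp h4⟩
  · rintro ⟨hp, h1, h2, h3, h4⟩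
    haveI : Fact p.Prime := ⟨hp⟩
    exact ⟨hp, h1, h2, h3, (prankLE_cj g M p 1).mpr h4⟩

theorem tau2_cj (g : G) (M : Subgroup G) : tau2 (cj g M) = tau2 M := by
  ext p
  unfold tau2
  simp only [Set.mem_ofPred_eq]
  rw [sigma_cj]
  constructor
  · rintro ⟨hp, h1, h2, h3⟩
    haveI : Fact p.Prime := ⟨hp⟩
    exact ⟨hp, h1, (prankLE_cj g M p 2).mp h2, fun h => h3 ((prankLE_cj g M p 1).mpr h)⟩
  · rintro ⟨hp, h1, h2, h3⟩
    haveI : Fact p.Prime := ⟨hp⟩
    exact ⟨hp, h1, (prankLE_cj g M p 2).mpr h2, fun h => h3 ((prankLE_cj g M p 1).mp h)⟩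

theorem tau3_cj (g : G) (M : Subgroup G) : tau3 (cj g M) = tau3 M := by
  ext p
  unfold tau3
  simp only [Set.mem_ofPred_eq]
  rw [sigma_cj, ← cj_commutator, card_cj]
  constructor
  · rintro ⟨hp, h1, h2, h3⟩
    haveI : Fact p.Prime := ⟨hp⟩
    exact ⟨hp, h1, h2, (prankLE_cj g M p 1).mp h3⟩
  · rintro ⟨hp, h1, h2, h3⟩
    haveI : Fact p.Prime := ⟨hp⟩
    exact ⟨hp, h1, h2, (prankLE_cj g M p 1).mpr h3⟩

theorem cj_piCoreOf_le (π : Set ℕ) (g : G) (X : Subgroup G) :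
    cj g (piCoreOf π X) ≤ piCoreOf π (cj g X) := by
  apply le_piCoreOf (cj_mono g (Subgroup.map_subtype_le _))
  · rw [normalizer_cj]
    exact cj_mono g (le_normalizer_piCoreOf π X)
  · rw [card_cj]
    exact isPiNum_card_piCoreOf π X

theorem piCoreOf_cj (π : Set ℕ) (g : G) (X : Subgroup G) :
    piCoreOf π (cj g X) = cj g (piCoreOf π X) := by
  apply le_antisymm _ (cj_piCoreOf_le π g X)
  have h := cj_piCoreOf_le π g⁻¹ (cj g X)
  rw [cj_inv_cj] at h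
  have h2 := cj_mono g h
  rwa [cj_cj_inv] at h2

theorem sigmaCore_cj (g : G) (M : Subgroup G) : sigmaCore (cj g M) = cj g (sigmaCore M) := by
  show piCoreOf (sigma (cj g M)) (cj g M) = cj g (piCoreOf (sigma M) M)
  rw [sigma_cj, piCoreOf_cj]

theorem alphaCore_cj (g : G) (M : Subgroup G) : alphaCore (cj g M) = cj g (alphaCore M) := by
  show piCoreOf (alpha (cj g M)) (cj g M) = cj g (piCoreOf (alpha M) M)
  rw [alpha_cj, piCoreOf_cj]

theorem isComplIn_cj {A B M : Subgroup G} (g : G) (h : IsComplIn A B M) :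
    IsComplIn (cj g A) (cj g B) (cj g M) := by
  refine ⟨cj_mono g h.1, cj_mono g h.2.1, ?_, ?_⟩
  · rw [← cj_inf, h.2.2.1, cj_bot]
  · rintro _ ⟨m, hm, rfl⟩
    obtain ⟨a, ha, b, hb, rfl⟩ := h.2.2.2 m hm
    refine ⟨_, ⟨a, ha, rfl⟩, _, ⟨b, hb, rfl⟩, ?_⟩
    simp

end Cfsg.Agent.Lib.Helper4.BGConj
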