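import Mathlib
import Cfsg.Agent.Lib.Helper4.BGConj

set_option autoImplicit false
set_option linter.style.haveILetI false
set_option linter.unusedSectionVars false

/-! Bender–Glauberman, Lemma 12.2. -/

namespace Cfsg.Agent.Lib.Helper4.BG12

open Cfsg Cfsg.Agent.Lib.Lead Cfsg.Agent.Lib.Lead.BG10 Cfsg.Agent.Lib.Helper7 Cfsg.Agent.Lib.Helper4
open Cfsg.Agent.Lib.Helper4.BG76 Cfsg.Agent.Lib.Helper4.BG8 Cfsg.Agent.Lib.Helper4.BG9
open Cfsg.Agent.Lib.Helper4.BG7 Cfsg.Agent.Lib.Helper4.BGConj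
open scoped commutatorElement

universe u

variable {G : Type u} [Group G] [Finite G]

/-- **Lemma 12.2(a)**: if `X ≠ 1` is a `p`-subgroup with `N_G(X) ≤ M` then `p ∈ σ(M) ∪ τ₂(M)` -/
theorem lemma_12_2a (hG : IsMinSimpleOddOrder G) {M : Subgroup G} (hM : IsCoatom M) {p : ℕ}
    [hp : Fact p.Prime] {X : Subgroup G} (hXp : IsPGroup p X) (hX1 : X ≠ ⊥)
    (hN : Subgroup.normalizer (X : Set G) ≤ M) : p ∈ sigma M ∨ p ∈ tau2 M := by
  by_cases hσ : p ∈ sigma M
  · exact Or.inl hσ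
  right
  have hXM : X ≤ M := Subgroup.le_normalizer.trans hN
  refine ⟨hp.out, hσ, ?_, ?_⟩
  · by_contra h
    exact hσ (alpha_subset_sigma hG hM ⟨hp.out, h⟩)
  · intro h1
    apply hσ
    obtain ⟨P, hXP, hP⟩ := exists_sylIn_ge hXM hXp
    have hpM : p ∣ Nat.card M := by
      have hX1' : Nat.card X ≠ 1 := fun h => hX1 (Subgroup.card_eq_one.mp h)
      obtain ⟨k, hk⟩ := IsPGroup.iff_card.mp hXp
      have hk0 : k ≠ 0 := by
        rintro rfl
        exact hX1' (by rw [hk, pow_zero])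
      exact (dvd_pow_self p hk0).trans (hk ▸ Subgroup.card_dvd_of_le hXM)
    rw [mem_sigma_iff_sylIn]
    refine ⟨hpM, P, hP, ?_⟩
    -- `P` is cyclic
    have hcyc : IsCyclic ↥P := by
      obtain ⟨hPM, hPp, hPi⟩ := hP
      have hidx : ¬ p ∣ (P.subgroupOf M).index := hPi
      have hPp' : IsPGroup p ↥(P.subgroupOf M) := hPp.comap_subtype (K := M)
      have hc := isCyclic_sylow_of_pRankLE_one (odd_card_sub hG M) h1 (hPp'.toSylow hidx)
      rw [IsPGroup.toSylow_coe] at hc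
      exact isCyclic_of_surjective (Subgroup.subgroupOfEquivOfLe hPM).toMonoidHom
        (Subgroup.subgroupOfEquivOfLe hPM).surjective
    intro g hg
    apply hN
    rw [mem_normalizer_iff_cj] at hg ⊢
    have h2 : cj g X ≤ P := by
      have := cj_mono g hXP
      rwa [hg] at this
    exact eq_of_card_eq_of_le_cyclic hcyc h2 hXP (card_cj g X)

/-- **Lemma 12.2(b)**, the `σ` case -/
theorem lemma_12_2b_sigma (hG : IsMinSimpleOddOrder G) {M : Subgroup G} (hM : IsCoatom M) {p : ℕ}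
    [hp : Fact p.Prime] (hpσ : p ∈ sigma M) {X : Subgroup G} (hXp : IsPGroup p X) (hXM : X ≤ M)
    {Mstar : Subgroup G} (hne : Mstar ≠ M) (hNX : Subgroup.normalizer (X : Set G) ≤ Mstar) :
    ∀ g : G, Mstar ≠ cj g M := by
  have hXMs : X ≤ Mstar := Subgroup.le_normalizer.trans hNX
  have hCX : Subgroup.centralizer (X : Set G) ≤ Mstar :=
    (Subgroup.centralizer_le_normalizer _).trans hNX
  intro g hg
  apply hne
  have h1 : cj g⁻¹ X ≤ M := by
    have h2 : cj g⁻¹ Mstar = M := by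
      rw [hg]
      exact cj_inv_cj g M
    rw [← h2]
    exact cj_mono g⁻¹ hXMs
  obtain ⟨m, hm, c, hc, hgmc⟩ := (theorem_10_1 hG hM hpσ hXp hXM).1 g⁻¹ h1
  have hg' : g = c⁻¹ * m⁻¹ := by
    have := congrArg (·⁻¹) hgmc
    simpa using this
  have h3 : Mstar = cj c⁻¹ M := by
    rw [hg, hg', cj_mul, cj_eq_self_of_mem (M.inv_mem hm)]
  have hcM : c⁻¹ ∈ Mstar := Mstar.inv_mem (hCX hc)
  have h4 : cj c Mstar = M := by
    rw [h3, cj_cj_inv]
  rw [← h4]
  have h5 : cj c⁻¹ Mstar = Mstar := cj_eq_self_of_mem hcM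
  have h6 : cj c (cj c⁻¹ Mstar) = Mstar := cj_cj_inv c Mstar
  rw [h5] at h6
  exact h6.symm

/-- **Lemma 12.2(b)**, the `τ₁ ∪ τ₃` case -/
theorem lemma_12_2b_tau (hG : IsMinSimpleOddOrder G) {M : Subgroup G} (hM : IsCoatom M) {p : ℕ}
    [hp : Fact p.Prime] (hpτ : p ∈ tau1 M ∨ p ∈ tau3 M) {X : Subgroup G} (hXp : IsPGroup p X)
    (hX1 : X ≠ ⊥) {Mstar : Subgroup G} (hNX : Subgroup.normalizer (X : Set G) ≤ Mstar) :
    ∀ g : G, Mstar ≠ cj g M := by
  intro g hg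
  have hMs : IsCoatom Mstar := by
    rw [hg]
    exact isCoatom_cj hM g
  have h := lemma_12_2a hG hMs hXp hX1 hNX
  rw [hg, sigma_cj, tau2_cj] at h
  rcases h with h | h
  · rcases hpτ with h' | h'
    · exact h'.2.1 h
    · exact h'.2.1 h
  · rcases hpτ with h' | h'
    · exact h.2.2.2 h'.2.2.2.2
    · exact h.2.2.2 h'.2.2.2

end Cfsg.Agent.Lib.Helper4.BG12
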