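import Mathlib
import Cfsg.Agent.Lib.Lead.Coprime
import Cfsg.Agent.Lib.Lead.CoprimeAction2

set_option autoImplicit false
set_option linter.style.haveILetI false

/-! Abstract part of Bender–Glauberman, Lemma 13.3 (a), (b): a normal solvable subgroup `S` of `H`
with a complement `E` of coprime order; if `S ≤ H'` then `[S, E] = S` and `C_S(E) ≤ S'`. -/

namespace Cfsg.Agent.Lib.Helper4.BG13

open Cfsg Cfsg.Agent.Lib.Lead
open scoped commutatorElement

section abstract

variable {H : Type*} [Group H]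

theorem commutatorElement_mul_central {a b z w : H} (hz : ∀ x, Commute z x)
    (hw : ∀ x, Commute w x) : ⁅a * z, b * w⁆ = ⁅a, b⁆ := by
  have hz' : ∀ x, z * x * z⁻¹ = x := fun x => by rw [(hz x).eq, mul_inv_cancel_right]
  have hw' : ∀ x, w * x * w⁻¹ = x := fun x => by rw [(hw x).eq, mul_inv_cancel_right]
  rw [commutatorElement_def, commutatorElement_def]
  calc a * z * (b * w) * (a * z)⁻¹ * (b * w)⁻¹
      = a * (z * (b * w) * z⁻¹) * a⁻¹ * w⁻¹ * b⁻¹ := by group
    _ = a * (b * w) * a⁻¹ * w⁻¹ * b⁻¹ := by rw [hz']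
    _ = a * b * (w * a⁻¹ * w⁻¹) * b⁻¹ := by group
    _ = a * b * a⁻¹ * b⁻¹ := by rw [hw']

/-- `H' ≤ K E'` if `H = E S` and the normal subgroup `K` contains `[S, S]` and `[S, E]` -/
theorem commutator_le_sup_of_compl (S E K : Subgroup H) [K.Normal]
    (hES : ∀ m : H, ∃ e ∈ E, ∃ s ∈ S, m = e * s) (hSS : ⁅S, S⁆ ≤ K) (hSE : ⁅S, E⁆ ≤ K) :
    commutator H ≤ K ⊔ ⁅E, E⁆ := by
  rw [commutator_def, Subgroup.commutator_le]
  intro m₁ _ m₂ _
  obtain ⟨e₁, he₁, s₁, hs₁, rfl⟩ := hES m₁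
  obtain ⟨e₂, he₂, s₂, hs₂, rfl⟩ := hES m₂
  set π := QuotientGroup.mk' K with hπ
  have hc1 : ∀ s ∈ S, ∀ e ∈ E, Commute (π s) (π e) := by
    intro s hs e he
    rw [← commutatorElement_eq_one_iff_commute, ← map_commutatorElement]
    exact (QuotientGroup.eq_one_iff _).mpr (hSE (Subgroup.commutator_mem_commutator hs he))
  have hc2 : ∀ s ∈ S, ∀ t ∈ S, Commute (π s) (π t) := by
    intro s hs t ht
    rw [← commutatorElement_eq_one_iff_commute, ← map_commutatorElement]
    exact (QuotientGroup.eq_one_iff _).mpr (hSS (Subgroup.commutator_mem_commutator hs ht))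
  have hcen : ∀ s ∈ S, ∀ x : H ⧸ K, Commute (π s) x := by
    intro s hs x
    obtain ⟨m, rfl⟩ := QuotientGroup.mk'_surjective K x
    obtain ⟨e, he, t, ht, rfl⟩ := hES m
    rw [map_mul]
    exact (hc1 s hs e he).mul_right (hc2 s hs t ht)
  have h1 : π ⁅e₁ * s₁, e₂ * s₂⁆ = π ⁅e₁, e₂⁆ := by
    rw [map_commutatorElement, map_commutatorElement, map_mul, map_mul]
    exact commutatorElement_mul_central (hcen s₁ hs₁) (hcen s₂ hs₂)
  have h2 : (⁅e₁, e₂⁆)⁻¹ * ⁅e₁ * s₁, e₂ * s₂⁆ ∈ K := by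
    have := h1.symm
    rw [hπ, QuotientGroup.mk'_apply, QuotientGroup.mk'_apply, QuotientGroup.eq] at this
    exact this
  have h3 : ⁅e₁ * s₁, e₂ * s₂⁆ = ⁅e₁, e₂⁆ * ((⁅e₁, e₂⁆)⁻¹ * ⁅e₁ * s₁, e₂ * s₂⁆) := by group
  rw [h3]
  exact (K ⊔ ⁅E, E⁆).mul_mem
    ((le_sup_right : ⁅E, E⁆ ≤ K ⊔ ⁅E, E⁆) (Subgroup.commutator_mem_commutator he₁ he₂))
    ((le_sup_left : K ≤ K ⊔ ⁅E, E⁆) h2)

/-- if `S ≤ H'` then `[S, E] = S` (for `S` normal and solvable with a complement `E`) -/
theorem commutator_eq_of_le_commutator (S E : Subgroup H) [hSn : S.Normal]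
    (hES : ∀ m : H, ∃ e ∈ E, ∃ s ∈ S, m = e * s) (hdisj : E ⊓ S = ⊥) [hsol : Group.IsSolvable ↥S]
    (hS : S ≤ commutator H) : ⁅S, E⁆ = S := by
  have hNS : ⁅S, E⁆ ≤ S := Subgroup.commutator_le_left S E
  apply le_antisymm hNS
  -- `N = [S, E]` is normal in `H`
  haveI hNn : (⁅S, E⁆ : Subgroup H).Normal := by
    rw [← Subgroup.normalizer_eq_top_iff, eq_top_iff]
    intro g _
    obtain ⟨e, he, s, hs, rfl⟩ := hES g
    apply Subgroup.mul_mem
    · refine le_normalizer_commutator_right S E ?_ he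
      rw [Subgroup.normalizer_eq_top_iff.mpr hSn]
      exact le_top
    · exact le_normalizer_commutator_left S E hs
  haveI hSSn : (⁅S, S⁆ : Subgroup H).Normal := Subgroup.commutator_normal S S
  have h1 := commutator_le_sup_of_compl S E (⁅S, S⁆ ⊔ ⁅S, E⁆) hES le_sup_left le_sup_right
  have h2 : S ≤ ⁅S, S⁆ ⊔ ⁅S, E⁆ := by
    intro x hx
    have hx1 := h1 (hS hx)
    rw [Subgroup.mem_sup_of_normal_left] at hx1
    obtain ⟨k, hk, e', he', hke⟩ := hx1
    have hkS : k ∈ S := (sup_le (Subgroup.commutator_le_left S S) hNS) hk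
    have he'E : e' ∈ E := by
      have : ⁅E, E⁆ ≤ E := by
        rw [Subgroup.commutator_le]
        intro a ha b hb
        rw [commutatorElement_def]
        exact E.mul_mem (E.mul_mem (E.mul_mem ha hb) (E.inv_mem ha)) (E.inv_mem hb)
      exact this he'
    have he'S : e' ∈ S := by
      have : e' = k⁻¹ * x := by rw [← hke]; group
      rw [this]
      exact S.mul_mem (S.inv_mem hkS) hx
    have he1 : e' = 1 := by
      have : e' ∈ E ⊓ S := ⟨he'E, he'S⟩
      rwa [hdisj, Subgroup.mem_bot] at this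
    rw [← hke, he1, mul_one]
    exact hk
  -- the quotient `S / N` is perfect and solvable
  haveI : ((⁅S, E⁆ : Subgroup H).subgroupOf S).Normal := inferInstance
  have hQ : commutator (↥S ⧸ (⁅S, E⁆ : Subgroup H).subgroupOf S) = ⊤ := by
    rw [eq_top_iff]
    intro y _
    obtain ⟨x, rfl⟩ := QuotientGroup.mk'_surjective _ y
    have hx := h2 x.2
    rw [Subgroup.mem_sup_of_normal_left] at hx
    obtain ⟨c, hc, n, hn, hcn⟩ := hx
    rw [← Subgroup.map_subtype_commutator] at hc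
    obtain ⟨c', hc', rfl⟩ := hc
    have hn' : (⟨n, hNS hn⟩ : ↥S) ∈ (⁅S, E⁆ : Subgroup H).subgroupOf S := by
      rw [Subgroup.mem_subgroupOf]
      exact hn
    have hx' : x = c' * ⟨n, hNS hn⟩ := Subtype.ext hcn.symm
    have hn1 : QuotientGroup.mk' ((⁅S, E⁆ : Subgroup H).subgroupOf S) ⟨n, hNS hn⟩ = 1 :=
      (QuotientGroup.eq_one_iff _).mpr hn'
    rw [hx', map_mul, hn1, mul_one]
    have : Subgroup.map (QuotientGroup.mk' ((⁅S, E⁆ : Subgroup H).subgroupOf S)) (commutator ↥S) ≤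
        commutator (↥S ⧸ (⁅S, E⁆ : Subgroup H).subgroupOf S) := by
      rw [commutator_def, Subgroup.map_commutator, commutator_def]
      exact Subgroup.commutator_mono le_top le_top
    exact this ⟨c', hc', rfl⟩
  by_contra hne
  haveI : Nontrivial (↥S ⧸ (⁅S, E⁆ : Subgroup H).subgroupOf S) := by
    by_contra hnt
    rw [not_nontrivial_iff_subsingleton] at hnt
    have := QuotientGroup.subgroup_eq_top_of_subsingleton ((⁅S, E⁆ : Subgroup H).subgroupOf S) hnt
    rw [Subgroup.subgroupOf_eq_top] at this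
    exact hne this
  have := Group.IsSolvable.commutator_lt_top_of_nontrivial (↥S ⧸ (⁅S, E⁆ : Subgroup H).subgroupOf S)
  rw [hQ] at this
  exact lt_irrefl _ this

/-- if `[S, E] = S` then `C_S(E) ≤ S'` (coprime action) -/
theorem inf_centralizer_le_commutator [Finite H] (S E : Subgroup H) [hSn : S.Normal]
    (hcop : (Nat.card E).Coprime (Nat.card S)) (hb : ⁅S, E⁆ = S) :
    S ⊓ Subgroup.centralizer (E : Set H) ≤ ⁅S, S⁆ := by
  haveI hSSn : (⁅S, S⁆ : Subgroup H).Normal := Subgroup.commutator_normal S S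
  set π := QuotientGroup.mk' (⁅S, S⁆ : Subgroup H) with hπ
  have hπs : Function.Surjective π := QuotientGroup.mk'_surjective _
  have hVV : ⁅S.map π, S.map π⁆ = ⊥ := by
    rw [← Subgroup.map_commutator, hπ, QuotientGroup.map_mk'_self]
  haveI : IsMulCommutative ↥(S.map π) := by
    refine ⟨⟨fun a b => ?_⟩⟩
    have := (Subgroup.commutator_eq_bot_iff_le_centralizer.mp hVV) a.2
    rw [Subgroup.mem_centralizer_iff] at this
    exact Subtype.ext (this b b.2).symm
  haveI : (S.map π).Normal := hSn.map π hπs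
  have hAV : E.map π ≤ Subgroup.normalizer ((S.map π : Subgroup (H ⧸ (⁅S, S⁆ : Subgroup H))) :
      Set (H ⧸ (⁅S, S⁆ : Subgroup H))) := by
    rw [Subgroup.normalizer_eq_top_iff.mpr inferInstance]
    exact le_top
  have hcop' : (Nat.card ↥(E.map π)).Coprime (Nat.card ↥(S.map π)) := by
    apply Nat.Coprime.coprime_dvd_left (Subgroup.card_dvd_of_surjective (π.subgroupMap E)
      (MonoidHom.subgroupMap_surjective π E))
    exact Nat.Coprime.coprime_dvd_right (Subgroup.card_dvd_of_surjective (π.subgroupMap S)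
      (MonoidHom.subgroupMap_surjective π S)) hcop
  have h1 := (coprime_abelian_decomp (E.map π) (S.map π) hAV hcop').1
  rw [← Subgroup.map_commutator, hb, inf_eq_left.mpr inf_le_left] at h1
  intro c hc
  have hc1 : π c ∈ S.map π ⊓ Subgroup.centralizer ((E.map π : Subgroup _) : Set _) := by
    refine ⟨⟨c, hc.1, rfl⟩, Subgroup.mem_centralizer_iff.mpr ?_⟩
    rintro _ ⟨e, he, rfl⟩
    rw [← map_mul, ← map_mul, (Subgroup.mem_centralizer_iff.mp hc.2) e he]
  rw [h1, Subgroup.mem_bot, hπ, QuotientGroup.mk'_apply, QuotientGroup.eq_one_iff] at hc1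
  exact hc1

end abstract

end Cfsg.Agent.Lib.Helper4.BG13
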