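import Mathlib
import Cfsg.Agent.Lib.Helper4.BG13a
import Cfsg.Agent.Lib.Helper4.BG13c

set_option autoImplicit false
set_option linter.style.haveILetI false

/-! Bender–Glauberman, Lemma 13.3, relative to Proposition 12.4(a). -/

namespace Cfsg.Agent.Lib.Helper4.BG13

open Cfsg Cfsg.Agent.Lib.Lead Cfsg.Agent.Lib.Lead.BG10 Cfsg.Agent.Lib.Helper7 Cfsg.Agent.Lib.Helper4
open Cfsg.Agent.Lib.Helper4.BG76 Cfsg.Agent.Lib.Helper4.BG8 Cfsg.Agent.Lib.Helper4.BG9
open Cfsg.Agent.Lib.Helper4.BG7 Cfsg.Agent.Lib.Helper4.BG12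
open scoped commutatorElement

universe u

variable {G : Type u} [Group G] [Finite G]

/-- Lemma 13.3 (a), (b) -/
theorem lemma_13_3_ab (hG : IsMinSimpleOddOrder G) {M : Subgroup G} (hM : IsCoatom M)
    {E : Subgroup G} (hE : IsComplIn E (sigmaCore M) M) :
    sigmaCore M ⊓ Subgroup.centralizer (E : Set G) ≤ ⁅sigmaCore M, sigmaCore M⁆ ∧
      ⁅sigmaCore M, E⁆ = sigmaCore M := by
  haveI : Group.IsSolvable ↥M := solvable_of_ne_top hG hM.1
  have hES : ∀ m : ↥M, ∃ e ∈ E.subgroupOf M, ∃ s ∈ piCore (sigma M) ↥M, m = e * s := by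
    intro m
    obtain ⟨a, ha, b, hb, hab⟩ := hE.2.2.2 m m.2
    obtain ⟨s, hs, rfl⟩ := hb
    exact ⟨⟨a, hE.1 ha⟩, Subgroup.mem_subgroupOf.mpr ha, s, hs, Subtype.ext hab⟩
  have hdisj : E.subgroupOf M ⊓ piCore (sigma M) ↥M = ⊥ := by
    rw [eq_bot_iff]
    rintro x ⟨hx1, hx2⟩
    have : (x : G) ∈ E ⊓ sigmaCore M := ⟨Subgroup.mem_subgroupOf.mp hx1, ⟨x, hx2, rfl⟩⟩
    rw [hE.2.2.1, Subgroup.mem_bot] at this
    rw [Subgroup.mem_bot]
    exact Subtype.ext this
  have hS : piCore (sigma M) ↥M ≤ commutator ↥M := by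
    have h := sigmaCore_le_commutator hG hM
    rw [← Subgroup.map_subtype_commutator] at h
    exact (Subgroup.map_le_map_iff_of_injective M.subtype_injective).mp h
  have hb' := commutator_eq_of_le_commutator (piCore (sigma M) ↥M) (E.subgroupOf M) hES hdisj hS
  have hEmap : (E.subgroupOf M).map M.subtype = E := Subgroup.map_subgroupOf_eq_of_le hE.1
  have hcop : (Nat.card ↥(E.subgroupOf M)).Coprime (Nat.card ↥(piCore (sigma M) ↥M)) := by
    rw [← card_sigmaCore, Nat.card_congr (Subgroup.subgroupOfEquivOfLe hE.1).toEquiv]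
    apply Nat.coprime_of_dvd
    intro k hk hkE hkS
    exact not_sigma_of_dvd_card_compl hG hM hE hk hkE ((sigmaCore_hall hG hM).1.2.1 k hk hkS)
  have ha' := inf_centralizer_le_commutator (piCore (sigma M) ↥M) (E.subgroupOf M) hcop hb'
  constructor
  · rintro x ⟨⟨s, hs, rfl⟩, hxc⟩
    have hsc : s ∈ Subgroup.centralizer ((E.subgroupOf M : Subgroup ↥M) : Set ↥M) := by
      rw [Subgroup.mem_centralizer_iff]
      intro e he
      apply Subtype.ext
      exact (Subgroup.mem_centralizer_iff.mp hxc) e (Subgroup.mem_subgroupOf.mp he)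
    have := ha' ⟨hs, hsc⟩
    show M.subtype s ∈ ⁅(piCore (sigma M) ↥M).map M.subtype, (piCore (sigma M) ↥M).map M.subtype⁆
    rw [← Subgroup.map_commutator]
    exact ⟨s, this, rfl⟩
  · show ⁅(piCore (sigma M) ↥M).map M.subtype, E⁆ = (piCore (sigma M) ↥M).map M.subtype
    conv_lhs => rw [← hEmap]
    rw [← Subgroup.map_commutator, hb']

/-- for `g ∉ M`, no `q`-subgroup `X` of `M_σ ∩ M^g` has `C_G(X) ≤ M` -/
theorem not_centralizer_le_of_le_inf_cj (hG : IsMinSimpleOddOrder G) {M : Subgroup G}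
    (hM : IsCoatom M) {q : ℕ} [hq : Fact q.Prime] (hqσ : q ∈ sigma M) {g : G} (hg : g ∉ M)
    {X : Subgroup G} (hXq : IsPGroup q X) (hXM : X ≤ M) (hXg : X ≤ cj g M) :
    ¬ Subgroup.centralizer (X : Set G) ≤ M := by
  intro hC
  have h1 : cj g⁻¹ X ≤ M := by
    have := cj_mono g⁻¹ hXg
    rwa [cj_inv_cj] at this
  obtain ⟨m, hm, c, hc, hgmc⟩ := (theorem_10_1 hG hM hqσ hXq hXM).1 g⁻¹ h1
  apply hg
  have hg' : g = c⁻¹ * m⁻¹ := by
    have := congrArg (·⁻¹) hgmc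
    simpa using this
  rw [hg']
  exact M.mul_mem (M.inv_mem (hC hc)) (M.inv_mem hm)

/-- **Bender–Glauberman, Lemma 13.3** -/
theorem lemma_13_3 (hG : IsMinSimpleOddOrder G) {M : Subgroup G} (hM : IsCoatom M)
    (h124 : ∀ p : ℕ, p.Prime → p ∈ sigma M → Cent124 M p)
    {E : Subgroup G} (hE : IsComplIn E (sigmaCore M) M) :
    sigmaCore M ⊓ Subgroup.centralizer (E : Set G) ≤ ⁅sigmaCore M, sigmaCore M⁆ ∧
      ⁅sigmaCore M, E⁆ = sigmaCore M ∧
      ∀ g : G, g ∉ M → IsCyclic ↥(sigmaCore M ⊓ M.map (MulAut.conj g).toMonoidHom) ∧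
        (∀ p : ℕ, p.Prime → p ∣ Nat.card ↥(sigmaCore M ⊓ M.map (MulAut.conj g).toMonoidHom) →
          p ∉ beta M) ∧
        sigmaCore M ⊓ M.map (MulAut.conj g).toMonoidHom ⊓ ⁅sigmaCore M, sigmaCore M⁆ = ⊥ := by
  classical
  obtain ⟨ha, hb⟩ := lemma_13_3_ab hG hM hE
  refine ⟨ha, hb, ?_⟩
  intro g hg
  show IsCyclic ↥(sigmaCore M ⊓ cj g M) ∧
    (∀ p : ℕ, p.Prime → p ∣ Nat.card ↥(sigmaCore M ⊓ cj g M) → p ∉ beta M) ∧
    sigmaCore M ⊓ cj g M ⊓ ⁅sigmaCore M, sigmaCore M⁆ = ⊥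
  have hDM : sigmaCore M ⊓ cj g M ≤ M := inf_le_left.trans (sigmaCore_le M)
  have hσ : ∀ p : ℕ, p.Prime → ∀ Y : Subgroup G, Y ≤ sigmaCore M → p ∣ Nat.card Y → p ∈ sigma M := by
    intro p hp Y hY hd
    exact (sigmaCore_hall hG hM).1.2.1 p hp (hd.trans (Subgroup.card_dvd_of_le hY))
  -- (c3)
  have hc3 : sigmaCore M ⊓ cj g M ⊓ ⁅sigmaCore M, sigmaCore M⁆ = ⊥ := by
    by_contra hne
    haveI : Nontrivial ↥(sigmaCore M ⊓ cj g M ⊓ ⁅sigmaCore M, sigmaCore M⁆) :=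
      (Subgroup.nontrivial_iff_ne_bot _).mpr hne
    obtain ⟨p, hp, hpd⟩ := Nat.exists_prime_and_dvd
      (Finite.one_lt_card (α := ↥(sigmaCore M ⊓ cj g M ⊓ ⁅sigmaCore M, sigmaCore M⁆))).ne'
    haveI : Fact p.Prime := ⟨hp⟩
    obtain ⟨x, hx⟩ := exists_prime_orderOf_dvd_card' p hpd
    have hpσ := hσ p hp _ (inf_le_left.trans inf_le_left) hpd
    have hXle : Subgroup.zpowers (x : G) ≤ sigmaCore M ⊓ cj g M ⊓ ⁅sigmaCore M, sigmaCore M⁆ :=
      Subgroup.zpowers_le.mpr x.2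
    have hXc : Nat.card ↥(Subgroup.zpowers (x : G)) = p := by
      rw [Nat.card_zpowers, Subgroup.orderOf_coe, hx]
    have hXq : IsPGroup p ↥(Subgroup.zpowers (x : G)) := IsPGroup.of_card (n := 1) (by rw [hXc, pow_one])
    have hC := (corollary_12_14 hG M hM p hpσ _ (hXle.trans (inf_le_left.trans hDM)) hXc default
      (Or.inr (hXle.trans inf_le_right))).1.1
    exact not_centralizer_le_of_le_inf_cj hG hM hpσ hg hXq (hXle.trans (inf_le_left.trans hDM))
      (hXle.trans (inf_le_left.trans inf_le_right)) hC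
  -- (c2)
  have hc2 : ∀ p : ℕ, p.Prime → p ∣ Nat.card ↥(sigmaCore M ⊓ cj g M) → p ∉ beta M := by
    intro p hp hpd hβ
    haveI : Fact p.Prime := ⟨hp⟩
    obtain ⟨x, hx⟩ := exists_prime_orderOf_dvd_card' p hpd
    have hpσ := hσ p hp _ inf_le_left hpd
    have hXle : Subgroup.zpowers (x : G) ≤ sigmaCore M ⊓ cj g M := Subgroup.zpowers_le.mpr x.2
    have hXc : Nat.card ↥(Subgroup.zpowers (x : G)) = p := by
      rw [Nat.card_zpowers, Subgroup.orderOf_coe, hx]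
    have hXq : IsPGroup p ↥(Subgroup.zpowers (x : G)) := IsPGroup.of_card (n := 1) (by rw [hXc, pow_one])
    have hC := (corollary_12_14 hG M hM p hpσ _ (hXle.trans hDM) hXc default (Or.inl hβ)).1.1
    exact not_centralizer_le_of_le_inf_cj hG hM hpσ hg hXq (hXle.trans hDM)
      (hXle.trans inf_le_right) hC
  refine ⟨?_, hc2, hc3⟩
  -- (c1)
  have hcomm : ∀ a b : ↥(sigmaCore M ⊓ cj g M), a * b = b * a := by
    intro a b
    have h2 : ⁅(a : G), (b : G)⁆ ∈ sigmaCore M ⊓ cj g M ⊓ ⁅sigmaCore M, sigmaCore M⁆ := by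
      refine ⟨?_, Subgroup.commutator_mem_commutator a.2.1 b.2.1⟩
      rw [commutatorElement_def]
      exact Subgroup.mul_mem _ (Subgroup.mul_mem _ (Subgroup.mul_mem _ a.2 b.2)
        (Subgroup.inv_mem _ a.2)) (Subgroup.inv_mem _ b.2)
    rw [hc3, Subgroup.mem_bot, commutatorElement_eq_one_iff_mul_comm] at h2
    exact Subtype.ext h2
  haveI : IsZGroup ↥(sigmaCore M ⊓ cj g M) := by
    refine ⟨fun p hp P => ?_⟩
    haveI : Fact p.Prime := ⟨hp⟩
    by_cases hpd : p ∣ Nat.card ↥(sigmaCore M ⊓ cj g M)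
    · by_contra hnc
      have hpσ := hσ p hp _ inf_le_left hpd
      have hQp : IsPGroup p ↥((P : Subgroup ↥(sigmaCore M ⊓ cj g M)).map
          (sigmaCore M ⊓ cj g M).subtype) := P.isPGroup'.map _
      have hQle : (P : Subgroup ↥(sigmaCore M ⊓ cj g M)).map (sigmaCore M ⊓ cj g M).subtype ≤
          sigmaCore M ⊓ cj g M := Subgroup.map_subtype_le _
      have hncQ : ¬ IsCyclic ↥((P : Subgroup ↥(sigmaCore M ⊓ cj g M)).map
          (sigmaCore M ⊓ cj g M).subtype) := by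
        intro hcyc
        apply hnc
        exact isCyclic_of_injective
          ((P : Subgroup ↥(sigmaCore M ⊓ cj g M)).equivMapOfInjective
            (sigmaCore M ⊓ cj g M).subtype (Subgroup.subtype_injective _)).toMonoidHom
          (MulEquiv.injective _)
      have hN := normalizer_le_of_noncyclic hG hM hpσ (h124 p hp hpσ) hQp (hQle.trans hDM) hncQ
      exact not_centralizer_le_of_le_inf_cj hG hM hpσ hg hQp (hQle.trans hDM)
        (hQle.trans inf_le_right) ((Subgroup.centralizer_le_normalizer _).trans hN)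
    · have hcard : Nat.card ↥(P : Subgroup ↥(sigmaCore M ⊓ cj g M)) = 1 := by
        rw [Sylow.card_eq_multiplicity, Nat.factorization_eq_zero_of_not_dvd hpd, pow_zero]
      haveI : Subsingleton ↥(P : Subgroup ↥(sigmaCore M ⊓ cj g M)) :=
        (Nat.card_eq_one_iff_unique.mp hcard).1
      exact isCyclic_of_subsingleton
  exact isCyclic_of_comm_zgroup hcomm

end Cfsg.Agent.Lib.Helper4.BG13
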