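import Mathlib
import Cfsg.Agent.Lib.Helper4.BG13d
import Cfsg.Agent.Lib.Helper4.BG12c
import Cfsg.Agent.Lib.Helper7.CoprimeHall3
import Cfsg.Agent.Lib.Lead.ThreeSolvable
import Cfsg.Agent.Lib.Lead.HallCount2

set_option autoImplicit false
set_option linter.style.haveILetI false
set_option linter.unusedSectionVars false

/-! Tools for Bender–Glauberman §13: `σ(M)`-subgroups of `M` lie in `M_σ`; conjugating `π`-subgroups
into a supplement of a normal `π'`-subgroup. -/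

namespace Cfsg.Agent.Lib.Helper4.BG13

open Cfsg Cfsg.Agent.Lib.Lead Cfsg.Agent.Lib.Lead.BG10 Cfsg.Agent.Lib.Helper7 Cfsg.Agent.Lib.Helper4
open Cfsg.Agent.Lib.Helper4.BG76 Cfsg.Agent.Lib.Helper4.BG8 Cfsg.Agent.Lib.Helper4.BG9
open Cfsg.Agent.Lib.Helper4.BG7 Cfsg.Agent.Lib.Helper4.BG12 Cfsg.Agent.Lib.Helper4.BGConj
open scoped commutatorElement

universe u

variable {G : Type u} [Group G] [Finite G]

/-- a `σ(M)`-subgroup of `M` lies in `M_σ` -/
theorem le_sigmaCore_of_piNum (hG : IsMinSimpleOddOrder G) {M : Subgroup G} (hM : IsCoatom M)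
    {Y : Subgroup G} (hYM : Y ≤ M) (hY : ∀ p : ℕ, p.Prime → p ∣ Nat.card Y → p ∈ sigma M) :
    Y ≤ sigmaCore M := by
  have h1 : (piCore (sigma M) ↥M).relIndex (Y.subgroupOf M) ∣ Nat.card ↥(Y.subgroupOf M) :=
    Subgroup.relIndex_dvd_card _ _
  have h2 : (piCore (sigma M) ↥M).relIndex (Y.subgroupOf M) ∣ (piCore (sigma M) ↥M).index :=
    Subgroup.relIndex_dvd_index_of_normal _ _
  rw [Nat.card_congr (Subgroup.subgroupOfEquivOfLe hYM).toEquiv] at h1
  rw [← relIndex_sigmaCore] at h2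
  have h3 : (piCore (sigma M) ↥M).relIndex (Y.subgroupOf M) = 1 := by
    by_contra hne
    obtain ⟨r, hr, hrd⟩ := Nat.exists_prime_and_dvd hne
    exact (sigmaCore_hall hG hM).1.2.2 r hr (hY r hr (hrd.trans h1)) (hrd.trans h2)
  rw [Subgroup.relIndex_eq_one] at h3
  intro y hy
  exact ⟨⟨y, hYM hy⟩, h3 (Subgroup.mem_subgroupOf.mpr hy), rfl⟩

/-- a `q`-subgroup of `G`, `q ∈ σ(M)`, is conjugate into `M` -/
theorem exists_cj_le_of_sigma {M : Subgroup G} (hM : IsCoatom M) {q : ℕ} [hq : Fact q.Prime]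
    (hqσ : q ∈ sigma M) {X : Subgroup G} (hXq : IsPGroup q X) : ∃ g : G, cj g X ≤ M := by
  obtain ⟨P, d⟩ := exists_sigmaData hM hqσ
  obtain ⟨T, hT⟩ := d.hPsyl
  obtain ⟨T', hXT'⟩ := hXq.exists_le_sylow
  obtain ⟨g, hg⟩ := MulAction.exists_smul_eq G T' T
  refine ⟨g, ?_⟩
  have h1 : cj g (T' : Subgroup G) = (T : Subgroup G) := by
    rw [← hg]
    rfl
  exact ((cj_mono g hXT').trans h1.le).trans (hT.le.trans d.hPM)

/-- if `L = K U` with `K ⊴ L` a `π'`-group and `L` solvable, every `π`-subgroup of `L` is conjugate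
in `L` to a subgroup of `U` -/
theorem exists_cj_le_of_supplement {L K U Y : Subgroup G} (hsolv : Group.IsSolvable ↥L) (π : Set ℕ)
    (hKL : K ≤ L) (hUL : U ≤ L) (hYL : Y ≤ L) (hL : L ≤ K ⊔ U)
    (hKn : L ≤ Subgroup.normalizer (K : Set G))
    (hK : ∀ p : ℕ, p.Prime → p ∣ Nat.card K → p ∉ π)
    (hY : ∀ p : ℕ, p.Prime → p ∣ Nat.card Y → p ∈ π) : ∃ l ∈ L, cj l Y ≤ U := by
  obtain ⟨m, n, hmn, hcop, hm, hn⟩ := exists_pi_split π (Nat.card L) Nat.card_pos.ne'
  have hmpos : 0 < m := Nat.pos_of_ne_zero (by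
    rintro rfl
    rw [zero_mul] at hmn
    exact Nat.card_pos.ne' hmn)
  -- a Hall subgroup of `L` containing `Y`
  have hYn : (Nat.card Y).Coprime n :=
    Nat.coprime_of_dvd (fun k hk hkY hkn => hn k hk hkn (hY k hk hkY))
  obtain ⟨P, hPL, hPm, hYP⟩ := hall_dominate_in_subgroup L hsolv m n hmn hcop Y hYL hYn
  -- a Hall subgroup of `L` inside `U`
  have hmU : m ∣ Nat.card U := by
    have h1 := card_sup_mul_card_inf U K (hUL.trans hKn)
    have h2 : Nat.card L ∣ Nat.card U * Nat.card K := by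
      have h3 : U ⊔ K = L := le_antisymm (sup_le hUL hKL) (by rw [sup_comm]; exact hL)
      rw [← h1, h3]
      exact Dvd.intro _ rfl
    have h4 : m ∣ Nat.card U * Nat.card K := (Dvd.intro _ hmn.symm).trans h2
    have h5 : m.Coprime (Nat.card K) :=
      Nat.coprime_of_dvd (fun k hk hkm hkK => hK k hk hkK (hm k hk hkm))
    exact h5.dvd_of_dvd_mul_right h4
  obtain ⟨n', hn'⟩ := hmU
  have hn'n : n' ∣ n := by
    have h1 : Nat.card U ∣ Nat.card L := Subgroup.card_dvd_of_le hUL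
    rw [hn', hmn] at h1
    exact (Nat.mul_dvd_mul_iff_left hmpos).mp h1
  haveI : Group.IsSolvable ↥L := hsolv
  haveI : Group.IsSolvable ↥U := isSolvable_of_le hUL
  obtain ⟨H, hH⟩ := Cfsg.Agent.Lib.Lead.HallCount.exists_hall (G := ↥U) m n' hn' (Nat.Coprime.coprime_dvd_right hn'n hcop)
  have hQm : Nat.card ↥(H.map U.subtype) = m := by
    rw [Subgroup.card_map_of_injective U.subtype_injective, hH]
  have hQU : H.map U.subtype ≤ U := Subgroup.map_subtype_le _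
  obtain ⟨k, hk, hkPQ⟩ := hall_conj_in_subgroup L hsolv m n hmn hcop P (H.map U.subtype) hPL
    (hQU.trans hUL) hPm hQm
  refine ⟨k, hk, ?_⟩
  have h1 : cj k P = H.map U.subtype := by
    rw [← hkPQ]
    rfl
  exact ((cj_mono k hYP).trans h1.le).trans hQU

end Cfsg.Agent.Lib.Helper4.BG13
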