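import Mathlib
import Cfsg.Agent.Lib.Helper4.NilpSub
import Cfsg.Agent.Lib.Helper3.Components11
import Cfsg.Agent.Lib.Helper3.PComp6
import Cfsg.Agent.Lib.Helper2.FrattiniSocle
import Cfsg.Agent.Lib.Helper6.PRes
import Cfsg.Agent.Lib.Helper6.FStarAct3
import Cfsg.Agent.Lib.Helper9.ExtraTransport
import Cfsg.Agent.Lib.Lead.FittingFrattini

set_option autoImplicit false

/-! General lemmas towards `F*(X/N) = F*(X)N/N` for `N = Z(E(X))Φ(F(X))`. -/

namespace Cfsg.Agent.Lib.Helper4.FStarQuot

open Cfsg Subgroup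
open scoped commutatorElement

variable {X : Type*} [Group X]

/-- the derived series of a subgroup of a finite group reaches a perfect subgroup -/
theorem exists_derivedSeries_perfect [Finite X] (L : Subgroup X) :
    ∃ n : ℕ, ⁅(derivedSeries ↥L n).map L.subtype, (derivedSeries ↥L n).map L.subtype⁆ =
      (derivedSeries ↥L n).map L.subtype := by
  let S : Set (Subgroup X) := Set.range (fun n : ℕ => (derivedSeries ↥L n).map L.subtype)
  have hSne : S.Nonempty := ⟨_, 0, rfl⟩
  obtain ⟨K, ⟨n, rfl⟩, hmin⟩ := wellFounded_lt.has_min S hSne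
  refine ⟨n, ?_⟩
  have h1 : (derivedSeries ↥L (n + 1)).map L.subtype ∈ S := ⟨n + 1, rfl⟩
  have h2 := hmin _ h1
  have h3 : (derivedSeries ↥L (n + 1)).map L.subtype ≤ (derivedSeries ↥L n).map L.subtype :=
    Subgroup.map_mono (derivedSeries_antitone (G := ↥L) (Nat.le_succ n))
  rw [← Cfsg.Agent.Lib.Helper3.derivedSeries_map_subtype_succ]
  exact le_antisymm h3 (not_lt_iff_le_imp_ge.mp h2 h3)

/-- a group whose derived subgroup lies in the Frattini subgroup is nilpotent -/
theorem isNilpotent_of_commutator_le_frattini {Y : Type*} [Group Y] [Finite Y]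
    (h : commutator Y ≤ frattini Y) : Group.IsNilpotent Y := by
  apply ((Group.isNilpotent_of_finite_tfae (G := Y)).out 0 2).mpr
  intro H hH
  have hle : commutator Y ≤ H := h.trans (frattini_le_coatom hH)
  refine ⟨fun n hn g => ?_⟩
  have h1 : ⁅g, n⁆ ∈ commutator Y := by
    rw [commutator_def]
    exact Subgroup.commutator_mem_commutator (Subgroup.mem_top g) (Subgroup.mem_top n)
  have h2 : g * n * g⁻¹ = ⁅g, n⁆ * n := by
    rw [commutatorElement_def]; group
  rw [h2]
  exact H.mul_mem (hle h1) hn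

/-- the Frattini subgroup of a normal subgroup `F` of `Y`, as a subgroup of `Y` -/
theorem frattini_map_subtype_subgroupOf_le [Finite X] {F Y : Subgroup X} (hFY : F ≤ Y)
    (hYF : Y ≤ normalizer (F : Set X)) :
    ((frattini ↥F).map F.subtype).subgroupOf Y ≤ frattini ↥Y := by
  have hn : (F.subgroupOf Y).Normal := (Subgroup.normal_subgroupOf_iff_le_normalizer hFY).mpr hYF
  refine le_trans ?_ (Cfsg.Agent.Lib.Helper2.FrattiniSocle.frattini_map_subtype_le (F.subgroupOf Y))
  intro y hy
  rw [Subgroup.mem_subgroupOf] at hy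
  obtain ⟨f, hf, hfy⟩ := hy
  let e : ↥(F.subgroupOf Y) ≃* ↥F := Subgroup.subgroupOfEquivOfLe hFY
  have h1 : e.symm f ∈ frattini ↥(F.subgroupOf Y) := by
    rw [← Cfsg.Agent.Lib.Helper9.frattini_map_mulEquiv e.symm]
    exact ⟨f, hf, rfl⟩
  refine ⟨e.symm f, h1, ?_⟩
  apply Subtype.ext
  rw [← hfy]
  rfl

end Cfsg.Agent.Lib.Helper4.FStarQuot
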