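import Mathlib
import Cfsg.Agent.Lib.Helper4.FStarQuot1

set_option autoImplicit false

/-! Elements acting trivially on `F/Φ(F)`; perfect subgroups centralizing `F*`. -/

namespace Cfsg.Agent.Lib.Helper4.FStarQuot

open Cfsg Subgroup
open scoped commutatorElement

variable {X : Type*} [Group X]

/-- a perfect subgroup `K ≤ L` lies in any subgroup containing the `r'`-elements of `L` -/
theorem perfect_le_of_coprime_mem [Finite X] {r : ℕ} [Fact r.Prime] {L K C : Subgroup X}
    (hKL : K ≤ L) (hperf : ⁅K, K⁆ = K)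
    (h : ∀ a ∈ L, (orderOf a).Coprime r → a ∈ C) : K ≤ C := by
  have h1 : pResidual r ↥L ≤ C.subgroupOf L := by
    apply Cfsg.Agent.Lib.Helper6.pResidual_le_of_forall
    intro g hg
    rw [Subgroup.mem_subgroupOf]
    apply h _ g.2
    rwa [Subgroup.orderOf_coe]
  have h2 : IsPGroup r (↥L ⧸ pResidual r ↥L) :=
    Cfsg.Agent.Lib.Helper6.isPGroup_quotient_pResidual r
  have h3 : Group.IsNilpotent (↥L ⧸ pResidual r ↥L) := h2.isNilpotent
  have h4 : Group.IsSolvable (↥L ⧸ pResidual r ↥L) := inferInstance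
  obtain ⟨n, hn⟩ := (Group.isSolvable_def _).mp h4
  have h5 : derivedSeries ↥L n ≤ pResidual r ↥L := by
    have := map_derivedSeries_le_derivedSeries (QuotientGroup.mk' (pResidual r ↥L)) n
    rw [hn, le_bot_iff, Subgroup.map_eq_bot_iff, QuotientGroup.ker_mk'] at this
    exact this
  have h6 := Cfsg.Agent.Lib.Helper3.le_derivedSeries_map_subtype_of_perfect hperf hKL n
  intro k hk
  obtain ⟨y, hy, rfl⟩ := h6 hk
  exact h1 (h5 hy)

theorem commutator_sup_sup_eq_bot {G : Type*} [Group G] {A B : Subgroup G} (hAA : ⁅A, A⁆ = ⊥)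
    (hAB : ⁅A, B⁆ = ⊥) (hBB : ⁅B, B⁆ = ⊥) : ⁅A ⊔ B, A ⊔ B⁆ = ⊥ := by
  have hBA : ⁅B, A⁆ = ⊥ := by rw [Subgroup.commutator_comm]; exact hAB
  rw [Subgroup.commutator_eq_bot_iff_le_centralizer] at *
  apply sup_le
  · rw [Subgroup.le_centralizer_iff]
    exact sup_le hAA hBA
  · rw [Subgroup.le_centralizer_iff]
    exact sup_le hAB hBB

/-- the image of the Frattini subgroup of a normal subgroup is normal -/
theorem frattini_map_subtype_normal (F : Subgroup X) [hF : F.Normal] :
    ((frattini ↥F).map F.subtype).Normal := by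
  rw [← Subgroup.normalizer_eq_top_iff, eq_top_iff]
  refine le_trans ?_ (Cfsg.Agent.Lib.Lead.le_normalizer_map_characteristic F (frattini ↥F))
  rw [Subgroup.normalizer_eq_top_iff.mpr hF]

theorem commutator_le_frattini_map_subtype [Finite X] (F : Subgroup X)
    (hF : Group.IsNilpotent ↥F) : ⁅F, F⁆ ≤ (frattini ↥F).map F.subtype := by
  rw [← Subgroup.map_subtype_commutator]
  exact Subgroup.map_mono Cfsg.Agent.Lib.Helper2.FrattiniSocle.commutator_le_frattini_of_nilpotent

/-- if `a` acts trivially on `F/Φ(F)` then `⟨a⟩F` is nilpotent -/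
theorem isNilpotent_zpowers_sup [Finite X] {F : Subgroup X} [hFn : F.Normal]
    (hF : Group.IsNilpotent ↥F) {a : X}
    (ha : ∀ f ∈ F, ⁅a, f⁆ ∈ (frattini ↥F).map F.subtype) :
    Group.IsNilpotent ↥(Subgroup.zpowers a ⊔ F) := by
  set Φ₀ := (frattini ↥F).map F.subtype with hΦ
  have hΦn : Φ₀.Normal := frattini_map_subtype_normal F
  set Y := Subgroup.zpowers a ⊔ F with hY
  have hFF : ⁅F, F⁆ ≤ Φ₀ := commutator_le_frattini_map_subtype F hF
  have hYY : ⁅Y, Y⁆ ≤ Φ₀ := by
    have h1 : (⁅Y, Y⁆).map (QuotientGroup.mk' Φ₀) = ⊥ := by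
      rw [Subgroup.map_commutator, hY, Subgroup.map_sup]
      apply commutator_sup_sup_eq_bot
      · rw [MonoidHom.map_zpowers, eq_bot_iff, Subgroup.commutator_le]
        rintro _ ⟨i, rfl⟩ _ ⟨j, rfl⟩
        rw [Subgroup.mem_bot, commutatorElement_eq_one_iff_commute]
        exact Commute.zpow_zpow_self _ i j
      · rw [MonoidHom.map_zpowers, Subgroup.commutator_eq_bot_iff_le_centralizer,
          Subgroup.zpowers_le, Subgroup.mem_centralizer_iff]
        rintro _ ⟨f, hf, rfl⟩
        have h2 := ha f hf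
        rw [← QuotientGroup.ker_mk' Φ₀, MonoidHom.mem_ker, map_commutatorElement,
          commutatorElement_eq_one_iff_commute] at h2
        exact h2.eq.symm
      · rw [← Subgroup.map_commutator, eq_bot_iff]
        refine (Subgroup.map_mono hFF).trans ?_
        rw [le_bot_iff, Subgroup.map_eq_bot_iff, QuotientGroup.ker_mk']
    rwa [Subgroup.map_eq_bot_iff, QuotientGroup.ker_mk'] at h1
  apply isNilpotent_of_commutator_le_frattini
  refine le_trans ?_ (frattini_map_subtype_subgroupOf_le (le_sup_right : F ≤ Y) ?_)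
  · intro y hy
    rw [Subgroup.mem_subgroupOf]
    apply hYY
    rw [← Subgroup.map_subtype_commutator]
    exact ⟨y, hy, rfl⟩
  · rw [Subgroup.normalizer_eq_top_iff.mpr hFn]
    exact le_top

/-- `r'`-elements acting trivially on `F(X)/Φ(F(X))` centralize `O_r(X)` -/
theorem mem_centralizer_pCore_of_coprime [Finite X] {r : ℕ} [Fact r.Prime] {a : X}
    (ha : ∀ f ∈ fittingSubgroup X,
      ⁅a, f⁆ ∈ (frattini ↥(fittingSubgroup X)).map (fittingSubgroup X).subtype)
    (hcop : (orderOf a).Coprime r) : a ∈ centralizer (pCore r X : Set X) := by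
  have : (fittingSubgroup X).Normal := Cfsg.Agent.Lib.Lead.fittingSubgroup_normal
  have hnil := isNilpotent_zpowers_sup Cfsg.Agent.Lib.Lead.fittingSubgroup_isNilpotent ha
  rw [Subgroup.mem_centralizer_iff]
  intro x hx
  have hxF : x ∈ fittingSubgroup X :=
    (Cfsg.Agent.Lib.Lead.le_fittingSubgroup (Cfsg.Agent.Lib.Lead.pCore_normal r)
      (Cfsg.Agent.Lib.Lead.pCore_isPGroup (G := X) r).isNilpotent) hx
  exact commute_of_isNilpotent hnil (Subgroup.mem_sup_right hxF)
    (Subgroup.mem_sup_left (Subgroup.mem_zpowers a))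
    ((Cfsg.Agent.Lib.Lead.pCore_isPGroup (G := X) r).to_le (Subgroup.zpowers_le.mpr hx)) hcop

/-- a subgroup centralizing `E(X)` and acting trivially on `F(X)/Φ(F(X))` is solvable -/
theorem isSolvable_of_commutator_le [Finite X] {L : Subgroup X}
    (hLE : ⁅L, layer X⁆ = ⊥)
    (hLF : ⁅L, fittingSubgroup X⁆ ≤
      (frattini ↥(fittingSubgroup X)).map (fittingSubgroup X).subtype) : Group.IsSolvable ↥L := by
  obtain ⟨n, hn⟩ := exists_derivedSeries_perfect L
  set K := (derivedSeries ↥L n).map L.subtype with hK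
  have hKL : K ≤ L := Cfsg.Agent.Lib.Helper3.derivedSeries_map_subtype_le L n
  have h1 : ∀ p : Nat.Primes, pCore (p : ℕ) X ≤ centralizer (K : Set X) := by
    intro p
    have : Fact (p : ℕ).Prime := ⟨p.2⟩
    rw [Subgroup.le_centralizer_iff]
    apply perfect_le_of_coprime_mem (r := (p : ℕ)) hKL hn
    intro a haL hcop
    apply mem_centralizer_pCore_of_coprime _ hcop
    intro f hf
    exact hLF (Subgroup.commutator_mem_commutator haL hf)
  have h2 : fittingSubgroup X ≤ centralizer (K : Set X) := by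
    rw [Cfsg.Agent.Lib.Lead.fittingSubgroup_eq_iSup_pCore]
    exact iSup_le h1
  have h3 : layer X ≤ centralizer (K : Set X) := by
    rw [Subgroup.le_centralizer_iff, ← Subgroup.commutator_eq_bot_iff_le_centralizer, eq_bot_iff,
      ← hLE]
    exact Subgroup.commutator_mono hKL le_rfl
  have h4 : K ≤ centralizer (generalizedFittingSubgroup X : Set X) := by
    rw [Subgroup.le_centralizer_iff]
    exact sup_le h3 h2
  have h5 : K ≤ generalizedFittingSubgroup X :=
    h4.trans Cfsg.Agent.Lib.Helper3.centralizer_generalizedFittingSubgroup_le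
  have h6 : ⁅K, K⁆ = ⊥ := by
    rw [Subgroup.commutator_eq_bot_iff_le_centralizer]
    exact h4.trans (Subgroup.centralizer_le h5)
  rw [hn] at h6
  rw [Group.isSolvable_def]
  refine ⟨n, ?_⟩
  rwa [hK, Subgroup.map_eq_bot_iff_of_injective _ L.subtype_injective] at h6

end Cfsg.Agent.Lib.Helper4.FStarQuot
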