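import Mathlib
import Cfsg.Agent.Lib.Helper4.BG13e
import Cfsg.Agent.Lib.Helper4.FusionLift1
import Cfsg.Agent.Lib.Lead.KS93f

set_option autoImplicit false
set_option linter.style.haveILetI false
set_option linter.unusedSectionVars false

/-! Towards "every `σ(M)`-subgroup is conjugate into `M_σ`": the normal subgroup `O_{α,q}(L)`. -/

namespace Cfsg.Agent.Lib.Helper4.BG13

open Cfsg Cfsg.Agent.Lib.Lead Cfsg.Agent.Lib.Lead.BG10 Cfsg.Agent.Lib.Helper7 Cfsg.Agent.Lib.Helper4
open Cfsg.Agent.Lib.Helper4.BG76 Cfsg.Agent.Lib.Helper4.BG8 Cfsg.Agent.Lib.Helper4.BG9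
open Cfsg.Agent.Lib.Helper4.BG7 Cfsg.Agent.Lib.Helper4.BG12 Cfsg.Agent.Lib.Helper4.BGConj
open scoped commutatorElement

universe u

variable {G : Type u} [Group G] [Finite G]

/-- the preimage `D` of `O_q(L / L_α)`: it is normal in `L`, contains `L_α` with `q`-power index, and
contains every `q`-subgroup of `L'` -/
theorem exists_normal_over_alphaCore (hG : IsMinSimpleOddOrder G) {L : Subgroup G} (hL : IsCoatom L)
    {q : ℕ} [hq : Fact q.Prime] :
    ∃ D : Subgroup G, D ≤ L ∧ L ≤ Subgroup.normalizer (D : Set G) ∧ alphaCore L ≤ D ∧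
      (∃ j : ℕ, (alphaCore L).relIndex D = q ^ j) ∧
      ∀ S : Subgroup G, IsPGroup q S → S ≤ ⁅L, L⁆ → S ≤ D := by
  haveI : Group.IsSolvable ↥L := solvable_of_ne_top hG hL.1
  have hyp := hyp420_quotient hG hL
  set K := piCore (alpha L) ↥L with hK
  set O : Subgroup ↥L := (pCore q (↥L ⧸ K)).comap (QuotientGroup.mk' K) with hO
  haveI hOn : O.Normal := by
    haveI := pCore_normal (G := ↥L ⧸ K) q
    infer_instance
  have hKO : K ≤ O := by
    intro k hk
    rw [hO, Subgroup.mem_comap]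
    have : (QuotientGroup.mk' K) k = 1 := (QuotientGroup.eq_one_iff k).mpr hk
    rw [this]; exact Subgroup.one_mem _
  refine ⟨O.map L.subtype, Subgroup.map_subtype_le _, ?_, Subgroup.map_mono hKO, ?_, ?_⟩
  · intro x hx
    have h1 : (⟨x, hx⟩ : ↥L) ∈ Subgroup.normalizer (O : Set ↥L) := by
      rw [Subgroup.normalizer_eq_top_iff.mpr hOn]
      exact Subgroup.mem_top _
    exact Subgroup.le_normalizer_map L.subtype ⟨_, h1, rfl⟩
  · obtain ⟨k, hk⟩ := IsPGroup.iff_card.mp (pCore_isPGroup (G := ↥L ⧸ K) q)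
    refine ⟨k, ?_⟩
    show (K.map L.subtype).relIndex (O.map L.subtype) = q ^ k
    rw [Subgroup.relIndex_map_map_of_injective K O L.subtype_injective, hO,
      Cfsg.Agent.Lib.Helper2.PSeries.relIndex_comap_mk, hk]
  · intro S hSq hSL x hx
    have hxc : x ∈ ⁅L, L⁆ := hSL hx
    rw [← Subgroup.map_subtype_commutator] at hxc
    obtain ⟨y, hy, hyx⟩ := hxc
    have h1 : (QuotientGroup.mk' K) y ∈ commutator (↥L ⧸ K) := by
      rw [commutator_def]
      have h2 : (QuotientGroup.mk' K) y ∈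
          Subgroup.map (QuotientGroup.mk' K) ⁅(⊤ : Subgroup ↥L), (⊤ : Subgroup ↥L)⁆ :=
        Subgroup.mem_map_of_mem _ hy
      rw [Subgroup.map_commutator] at h2
      exact Subgroup.commutator_mono le_top le_top h2
    obtain ⟨k, hk⟩ := hSq ⟨x, hx⟩
    have hk' : x ^ q ^ k = 1 := by
      have := congrArg Subtype.val hk
      simpa using this
    have h3 : ((QuotientGroup.mk' K) y) ^ q ^ k = 1 := by
      rw [← map_pow]
      have : y ^ q ^ k = 1 := by
        apply Subtype.ext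
        rw [Subgroup.coe_pow]
        have : (y : G) = x := hyx
        rw [this]
        exact hk'
      rw [this, map_one]
    have h4 := hyp.qElement_mem_pCore hq.out h1 h3
    have hyO : y ∈ O := by rw [hO, Subgroup.mem_comap]; exact h4
    exact ⟨y, hyO, hyx⟩

/-- for a Sylow `q`-subgroup `S` of `L`, `q ∈ σ(L) \ α(L)`: `L = L_α N_L(S)` -/
theorem le_alphaCore_sup_normalizer (hG : IsMinSimpleOddOrder G) {L : Subgroup G} (hL : IsCoatom L)
    {q : ℕ} [hq : Fact q.Prime] (hqσ : q ∈ sigma L) (hqα : q ∉ alpha L) {S : Subgroup G}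
    (hS : SylIn q L S) :
    L ≤ alphaCore L ⊔ (L ⊓ Subgroup.normalizer (S : Set G)) := by
  obtain ⟨D, hDL, hLD, hKD, ⟨j, hj⟩, hall⟩ := exists_normal_over_alphaCore hG hL (q := q)
  have dS : SigmaData L q S := sigmaData_of_sylIn hL hqσ hS
  have hSD : S ≤ D := hall S hS.2.1 (dS.le_commutator hG)
  have hSD' : SylIn q D S := hS.mono hSD hDL
  -- `D = L_α S`
  have hD : D ≤ alphaCore L ⊔ S := by
    rw [← Subgroup.relIndex_eq_one]
    have h1 : (alphaCore L ⊔ S).relIndex D ∣ q ^ j := by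
      rw [← hj]
      exact Subgroup.relIndex_dvd_of_le_left D le_sup_left
    have h2 : (alphaCore L ⊔ S).relIndex D ∣ S.relIndex D :=
      Subgroup.relIndex_dvd_of_le_left D le_sup_right
    by_contra hne
    obtain ⟨r, hr, hrd⟩ := Nat.exists_prime_and_dvd hne
    have hrq : r = q := (Nat.prime_dvd_prime_iff_eq hr hq.out).mp (hr.dvd_of_dvd_pow (hrd.trans h1))
    rw [hrq] at hrd
    exact hSD'.2.2 (hrd.trans h2)
  intro x hx
  obtain ⟨d, hd, y, hy, rfl⟩ := Cfsg.Agent.Lib.Helper4.frattini_rel hDL hLD hSD' hx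
  have hd' := hD hd
  obtain ⟨k, hk, s, hs, rfl⟩ := Cfsg.Agent.Lib.Lead.KS93.exists_mul_of_mem_sup' (K := alphaCore L) (A := S)
    (hS.1.trans (le_normalizer_piCoreOf (alpha L) L)) hd'
  rw [mul_assoc]
  apply Subgroup.mul_mem_sup hk
  exact Subgroup.mul_mem _ ⟨hS.1 hs, Subgroup.le_normalizer hs⟩ hy

/-- a complement of `L_σ` in `L` containing a given subgroup of order coprime to `|L_σ|` -/
theorem exists_complIn_ge (hG : IsMinSimpleOddOrder G) {L : Subgroup G} (hL : IsCoatom L)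
    {A : Subgroup G} (hAL : A ≤ L) (hA : (Nat.card A).Coprime (Nat.card (sigmaCore L))) :
    ∃ E : Subgroup G, IsComplIn E (sigmaCore L) L ∧ A ≤ E := by
  have hsolv : Group.IsSolvable ↥L := solvable_of_ne_top hG hL.1
  have hcard : Nat.card L = (sigmaCore L).relIndex L * Nat.card (sigmaCore L) := by
    rw [mul_comm, ← Subgroup.relIndex_bot_left, ← Subgroup.relIndex_bot_left,
      Subgroup.relIndex_mul_relIndex ⊥ (sigmaCore L) L bot_le (sigmaCore_le L)]
  have hcop : ((sigmaCore L).relIndex L).Coprime (Nat.card (sigmaCore L)) := by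
    apply Nat.coprime_of_dvd
    intro k hk hk1 hk2
    exact (sigmaCore_hall hG hL).1.2.2 k hk ((sigmaCore_hall hG hL).1.2.1 k hk hk2) hk1
  obtain ⟨P, hPL, hPm, hAP⟩ := hall_dominate_in_subgroup L hsolv _ _ hcard hcop A hAL hA
  refine ⟨P, ⟨hPL, sigmaCore_le L, ?_, ?_⟩, hAP⟩
  · apply (Subgroup.disjoint_of_coprime_natCard _).eq_bot
    rw [hPm]
    exact hcop
  · have hPn : P ≤ Subgroup.normalizer (sigmaCore L : Set G) := hPL.trans (le_normalizer_sigmaCore L)
    have h1 := card_sup_mul_card_inf P (sigmaCore L) hPn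
    have h2 : P ⊓ sigmaCore L = ⊥ := by
      apply (Subgroup.disjoint_of_coprime_natCard _).eq_bot
      rw [hPm]
      exact hcop
    rw [h2, Subgroup.card_bot, mul_one, hPm, ← hcard] at h1
    have h3 : P ⊔ sigmaCore L = L := by
      apply Subgroup.eq_of_le_of_card_ge (sup_le hPL (sigmaCore_le L))
      rw [h1]
    intro m hm
    rw [← h3, sup_comm] at hm
    obtain ⟨κ, hκ, a, ha, rfl⟩ := Cfsg.Agent.Lib.Lead.KS93.exists_mul_of_mem_sup' hPn hm
    -- `κ * a = a * (a⁻¹ κ a)`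
    refine ⟨a, ha, a⁻¹ * κ * a, ?_, by group⟩
    have := (Subgroup.mem_normalizer_iff.mp (hPn (P.inv_mem ha)) κ).mp hκ
    simpa using this

end Cfsg.Agent.Lib.Helper4.BG13
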