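import Mathlib
import Cfsg.Agent.Lib.Lead.BG11e
import Cfsg.Agent.Lib.Helper4.Rk2g
import Cfsg.Agent.Lib.Helper4.Rk2h
import Cfsg.Agent.S0055

set_option autoImplicit false

/-! Bender–Glauberman, Section 11: the two-`τ₂`-primes contradiction in the proof that
`M_σ A ⊴ M` (requested by lead). -/

namespace Cfsg.Agent.Lib.Helper4.BG11

open Cfsg Cfsg.Agent.Lib.Lead Cfsg.Agent.Lib.Lead.BG10 Cfsg.Agent.Lib.Lead.BG11
open Cfsg.Agent.Lib.Helper7 Cfsg.Agent.Lib.Helper4
open Cfsg.Agent.Lib.Helper4.BG7 Cfsg.Agent.Lib.Helper4.BG76 Cfsg.Agent.Lib.Helper4.BG8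
open Cfsg.Agent.Lib.Helper4.BG9 Cfsg.Agent.Lib.Helper4.BG12 Cfsg.Agent.Lib.Helper4.BGConj
open scoped commutatorElement

universe u

variable {G : Type u} [Group G] [Finite G]

/-- a subgroup of a group of prime order is trivial or everything -/
theorem eq_of_le_of_card_prime {X Y : Subgroup G} {r : ℕ} (hr : r.Prime) (hXc : Nat.card X = r)
    (hYX : Y ≤ X) (hY1 : Y ≠ ⊥) : Y = X := by
  have h1 : Nat.card Y ∣ r := hXc ▸ Subgroup.card_dvd_of_le hYX
  have h2 : Nat.card Y ≠ 1 := fun h => hY1 (Subgroup.card_eq_one.mp h)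
  have h3 : Nat.card Y = r := ((Nat.dvd_prime hr).mp h1).resolve_left h2
  exact Subgroup.eq_of_le_of_card_ge hYX (by rw [h3, hXc])

/-- if a normal Sylow `r`-subgroup `R` of `N` is abelian of rank at most two (`N` solvable of odd
order), then `N' ≤ C_G(R)` -/
theorem commutator_le_centralizer_of_normal_abelian_sylow {r : ℕ} [hr : Fact r.Prime]
    (hr2 : r ≠ 2) {N R : Subgroup G} (hR : SylIn r N R)
    (hNR : N ≤ Subgroup.normalizer (R : Set G)) (hRc : IsMulCommutative ↥R)
    (hrk : PRankLE r 2 ↥R) (hNs : Group.IsSolvable ↥N) (hNodd : Odd (Nat.card N)) :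
    ⁅N, N⁆ ≤ Subgroup.centralizer (R : Set G) := by
  have hDN : ⁅N, N⁆ ≤ N := Subgroup.commutator_le_self N
  have hRcen : R ≤ Subgroup.centralizer (R : Set G) := by
    intro x hx
    rw [Subgroup.mem_centralizer_iff]
    intro y hy
    have := hRc.is_comm.comm (⟨y, hy⟩ : ↥R) ⟨x, hx⟩
    exact congrArg Subtype.val this
  intro y hy
  have hpos : 0 < orderOf y := orderOf_pos y
  obtain ⟨k, m, hm, hkm⟩ := Nat.exists_eq_pow_mul_and_not_dvd hpos.ne' r hr.out.ne_one
  have hcop : (r ^ k).Coprime m :=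
    Nat.Coprime.pow_left k ((Nat.Prime.coprime_iff_not_dvd hr.out).mpr hm)
  -- the `r'`-part
  have h1 : y ^ r ^ k ∈ Subgroup.centralizer (R : Set G) := by
    apply Cfsg.Agent.Lib.Helper4.Rk2.centralizes_of_mem_commutator hr2 R N hR.2.1 hrk hNR hNs hNodd _
      (Subgroup.pow_mem _ hy _)
    have h1 : (y ^ r ^ k) ^ m = 1 := by rw [← pow_mul, ← hkm, pow_orderOf_eq_one]
    have h2 : orderOf (y ^ r ^ k) ∣ m := orderOf_dvd_of_pow_eq_one h1
    have h3 : m.Coprime r := ((Nat.Prime.coprime_iff_not_dvd hr.out).mpr hm).symm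
    exact Nat.Coprime.coprime_dvd_left h2 h3
  -- the `r`-part
  have h2 : y ^ m ∈ Subgroup.centralizer (R : Set G) := by
    apply hRcen
    have hz : IsPGroup r (Subgroup.zpowers (y ^ m)) := by
      have h3 : (y ^ m) ^ r ^ k = 1 := by
        rw [← pow_mul, mul_comm, ← hkm, pow_orderOf_eq_one]
      have h4 : orderOf (y ^ m) ∣ r ^ k := orderOf_dvd_of_pow_eq_one h3
      obtain ⟨j, hj, hj2⟩ := (Nat.dvd_prime_pow hr.out).mp h4
      apply IsPGroup.of_card (n := j)
      rw [Nat.card_zpowers, hj2]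
    exact hR.le_of_normal hNR (Subgroup.zpowers_le.mpr (Subgroup.pow_mem _ (hDN hy) _)) hz
      (Subgroup.mem_zpowers _)
  -- combine
  obtain ⟨a, b, hab⟩ : ∃ a b : ℤ, (r ^ k : ℤ) * a + (m : ℤ) * b = 1 := by
    have := Int.isCoprime_iff_gcd_eq_one.mpr (by exact_mod_cast hcop : Int.gcd (r ^ k : ℤ) m = 1)
    obtain ⟨a, b, h⟩ := this
    exact ⟨a, b, by linarith⟩
  have h3 : y = (y ^ r ^ k) ^ a * (y ^ m) ^ b := by
    rw [← zpow_natCast, ← zpow_natCast, ← zpow_mul, ← zpow_mul, ← zpow_add]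
    push_cast
    rw [hab, zpow_one]
  rw [h3]
  exact Subgroup.mul_mem _ (Subgroup.zpow_mem _ h1 _) (Subgroup.zpow_mem _ h2 _)

/-- conjugating a commutator `[b, a]`, where `n a n⁻¹ = c a` with `c` centralizing `R ∋ n b n⁻¹`
and `[R, a] ⊆ R` -/
theorem conj_commutatorElement_eq {n b a c : G} (hc : n * a * n⁻¹ = c * a)
    (h1 : c * (n * b * n⁻¹) = (n * b * n⁻¹) * c)
    (h2 : c * ⁅n * b * n⁻¹, a⁆ = ⁅n * b * n⁻¹, a⁆ * c) :
    n * ⁅b, a⁆ * n⁻¹ = ⁅n * b * n⁻¹, a⁆ := by
  have e1 : n * ⁅b, a⁆ * n⁻¹ = ⁅n * b * n⁻¹, n * a * n⁻¹⁆ := by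
    simp only [commutatorElement_def]; group
  rw [e1, hc]
  set b' := n * b * n⁻¹ with hb'
  have e2 : ⁅b', c * a⁆ = c * ⁅b', a⁆ * c⁻¹ := by
    simp only [commutatorElement_def]
    calc b' * (c * a) * b'⁻¹ * (c * a)⁻¹ = (b' * c) * a * b'⁻¹ * a⁻¹ * c⁻¹ := by group
      _ = (c * b') * a * b'⁻¹ * a⁻¹ * c⁻¹ := by rw [h1]
      _ = c * (b' * a * b'⁻¹ * a⁻¹) * c⁻¹ := by group
  rw [e2, h2]
  group

/-- **the two-`τ₂`-primes contradiction** in the proof of Bender–Glauberman 11.5 -/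
theorem false_of_normal_prime_order (hG : IsMinSimpleOddOrder G) {M A B X : Subgroup G}
    {p r : ℕ} [hp : Fact p.Prime] [hr : Fact r.Prime]
    (dA : T2 M p A) (dB : T2 M r B) (hpr : p ≠ r) (hXB : X ≤ B) (hXc : Nat.card X = r)
    (hMX : M ≤ Subgroup.normalizer (X : Set G)) (hAB : A ≤ Subgroup.normalizer (B : Set G))
    (hAX : ¬ A ≤ Subgroup.centralizer (X : Set G))
    (hX1 : B ⊓ Subgroup.centralizer (A : Set G) ≠ ⊥)
    (hA2 : A ⊓ Subgroup.centralizer (B : Set G) ≠ ⊥) : False := by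
  have hM := dA.hM
  have hr2 : r ≠ 2 := dB.p_ne_two hG
  have hXne : X ≠ ⊥ := by
    intro h0
    rw [h0, Subgroup.card_bot] at hXc
    exact hr.out.one_lt.ne hXc
  have hXM : X ≤ M := hXB.trans dB.hAM
  -- `X = [X, A]`
  have hAXn : A ≤ Subgroup.normalizer (X : Set G) := dA.hAM.trans hMX
  have hXA : ⁅X, A⁆ = X := by
    apply eq_of_le_of_card_prime hr.out hXc
      (Cfsg.Agent.Lib.Lead.commutator_le_left_of_le_normalizer X A hAXn)
    intro h0
    apply hAX
    rw [Subgroup.commutator_comm, Subgroup.commutator_eq_bot_iff_le_centralizer] at h0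
    exact h0
  -- `N_G(X) = M`
  have hNX : Subgroup.normalizer (X : Set G) = M := normalizer_eq_of_isCoatom hG hM hXne hXM hMX
  have hCX : Subgroup.centralizer (X : Set G) ≤ M := by
    rw [← hNX]; exact Subgroup.centralizer_le_normalizer _
  have hCB : Subgroup.centralizer (B : Set G) ≤ M :=
    (Subgroup.centralizer_le (SetLike.coe_subset_coe.mpr hXB)).trans hCX
  -- the maximal subgroup `L`
  obtain ⟨L, hL, hNL⟩ := exists_coatom_ge (dB.normalizer_ne_top hG)
  have hrσL : r ∈ sigma L := dB.sigma_of_normalizer_le hG hL hNL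
  have hLM : L ≠ M := by
    rintro rfl
    obtain ⟨g, hg, hgM⟩ := dB.exists_normalizer_not_mem hG
    exact hgM (hNL hg)
  have hAL : A ≤ L := hAB.trans hNL
  have hBL : B ≤ L := Subgroup.le_normalizer.trans hNL
  have hBLσ : B ≤ sigmaCore L := le_sigmaCore_of_isPGroup hG hL hrσL hBL dB.isPGroup
  by_cases hpσL : p ∈ sigma L
  · -- `p ∈ σ(L)`
    have hALσ : A ≤ sigmaCore L := le_sigmaCore_of_isPGroup hG hL hpσL hAL dA.isPGroup
    have hX' : X ≤ ⁅sigmaCore L, sigmaCore L⁆ := by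
      rw [← hXA]
      exact Subgroup.commutator_mono (hXB.trans hBLσ) hALσ
    obtain ⟨P⟩ : Nonempty (Sylow r ↥(sigmaCore L)) := inferInstance
    have h1 := (corollary_12_14 hG L hL r hrσL X (hXB.trans hBL) hXc P (Or.inr hX')).1.2
    exact hLM (h1 M hM hCX).symm
  · -- `p ∉ σ(L)`
    have dL : T2 L p A := ⟨hL, hpσL, hAL, dA.hA, dA.hAc⟩
    have hLsolv : Group.IsSolvable ↥(sigmaCore L) :=
      solvable_of_ne_top hG (ne_top_of_le_ne_top hL.1 (sigmaCore_le L))
    obtain ⟨T, hBT, hAT⟩ := Cfsg.Agent.S0025.result A (sigmaCore L) dL.le_normalizer_sigmaCore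
      (dL.coprime_sigmaCore hG) (Or.inr hLsolv) r B hBLσ dB.isPGroup hAB
    set R : Subgroup G := (T : Subgroup ↥(sigmaCore L)).map (sigmaCore L).subtype with hRdef
    have hRs : SylIn r (sigmaCore L) R := sylIn_map_sylow T
    have hRL : SylIn r L R := sylIn_of_sylIn_sigmaCore hG hL hrσL hRs
    have dR : SigmaData L r R := sigmaData_of_sylIn hL hrσL hRL
    -- `A₂`
    set A₂ := A ⊓ Subgroup.centralizer (B : Set G) with hA₂def
    have hA₂A : A₂ ≤ A := inf_le_left
    have hA₂p : IsPGroup p A₂ := dA.isPGroup.to_le hA₂A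
    have hcopA₂ : (Nat.card A₂).Coprime r := by
      obtain ⟨k, hk⟩ := IsPGroup.iff_card.mp hA₂p
      rw [hk]
      exact Nat.Coprime.pow_left k ((Nat.coprime_primes hp.out hr.out).mpr hpr)
    have hA₂R : A₂ ≤ Subgroup.centralizer (R : Set G) := by
      apply Cfsg.Agent.S1443.result r hr2 R B A₂ hRL.2.1 hBT dB.hA (hA₂A.trans hAT) hcopA₂
      intro x hx hxo
      have hxB : x ∈ B := dB.mem_of_pow hG hx.2 (by rw [← hxo, pow_orderOf_eq_one])
      intro a ha
      rw [Subgroup.mem_centralizer_singleton_iff]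
      exact (Subgroup.mem_centralizer_iff.mp ha.2 x hxB).symm
    have hA₂ne : A₂ ≠ A := by
      intro h
      apply hAX
      have h1 : A ≤ Subgroup.centralizer (B : Set G) := by
        rw [← h]; exact inf_le_right
      exact h1.trans (Subgroup.centralizer_le (SetLike.coe_subset_coe.mpr hXB))
    have hA₂c : Nat.card A₂ = p := by
      have h1 : Nat.card A₂ ∣ p ^ 2 := dA.hAc ▸ Subgroup.card_dvd_of_le hA₂A
      obtain ⟨j, hj, hj2⟩ := (Nat.dvd_prime_pow hp.out).mp h1
      interval_cases j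
      · rw [pow_zero] at hj2
        exact absurd (Subgroup.card_eq_one.mp hj2) hA2
      · rw [hj2, pow_one]
      · exfalso
        apply hA₂ne
        exact Subgroup.eq_of_le_of_card_ge hA₂A (by rw [hj2, dA.hAc])
    have hRA₂ : R ≤ Subgroup.centralizer (A₂ : Set G) := by
      intro x hx
      rw [Subgroup.mem_centralizer_iff]
      intro a ha
      exact (Subgroup.mem_centralizer_iff.mp (hA₂R ha) x hx).symm
    by_cases hRc : IsMulCommutative ↥R
    · -- `R` abelian
      have hRcen : R ≤ Subgroup.centralizer (B : Set G) := by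
        intro x hx
        rw [Subgroup.mem_centralizer_iff]
        intro y hy
        have := hRc.is_comm.comm (⟨y, hBT hy⟩ : ↥R) ⟨x, hx⟩
        exact congrArg Subtype.val this
      have hRM : R ≤ M := hRcen.trans hCB
      have hRM' : SylIn r M R := sylIn_of_sylow dR.hPsyl hRM
      apply dB.normalizer_not_le hRM'
      set N := Subgroup.normalizer (R : Set G) with hNdef
      have hRne : R ≠ ⊥ := fun h0 => dB.ne_bot (le_bot_iff.mp (h0 ▸ hBT))
      have hNne : N ≠ ⊤ := BG8.normalizer_ne_top hG hRne (isPGroup_ne_top hG hRL.2.1)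
      have hNs : Group.IsSolvable ↥N := solvable_of_ne_top hG hNne
      have hRN : SylIn r N R := sylIn_of_sylow dR.hPsyl Subgroup.le_normalizer
      have hrk : PRankLE r 2 ↥R :=
        Cfsg.Agent.Lib.Helper4.Rk2.prankLE_of_injective (Subgroup.inclusion hRM)
          (Subgroup.inclusion_injective _) (dB.rank_two hG)
      have hDC := commutator_le_centralizer_of_normal_abelian_sylow hr2 hRN le_rfl hRc hrk hNs
        (odd_card_sub hG N)
      have hNB : N ≤ Subgroup.normalizer (B : Set G) := dB.normalizer_sylow_le hG hRM' hBT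
      have hBA : ⁅B, A⁆ ≤ B := Cfsg.Agent.Lib.Lead.commutator_le_left_of_le_normalizer B A hAB
      -- `[B, A] = X`
      have hXBA : X ≤ ⁅B, A⁆ := by
        rw [← hXA]; exact Subgroup.commutator_mono hXB le_rfl
      have hBAX : ⁅B, A⁆ = X := by
        haveI : IsMulCommutative ↥B := dB.hA.1
        have hcopAB : (Nat.card A).Coprime (Nat.card B) := by
          rw [dA.hAc, dB.hAc]
          exact Nat.Coprime.pow 2 2 ((Nat.coprime_primes hp.out hr.out).mpr hpr)
        have h1 := (Cfsg.Agent.S0055.result A B hAB hcopAB).1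
        have h2 : Nat.card ↥⁅B, A⁆ ∣ r ^ 2 := dB.hAc ▸ Subgroup.card_dvd_of_le hBA
        obtain ⟨j, hj, hj2⟩ := (Nat.dvd_prime_pow hr.out).mp h2
        interval_cases j
        · rw [pow_zero] at hj2
          have h3 := Subgroup.card_eq_one.mp hj2
          rw [h3] at hXBA
          exact absurd (le_bot_iff.mp hXBA) hXne
        · exact (Subgroup.eq_of_le_of_card_ge hXBA (by rw [hj2, hXc, pow_one])).symm
        · exfalso
          have h3 : ⁅B, A⁆ = B := Subgroup.eq_of_le_of_card_ge hBA (by rw [hj2, dB.hAc])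
          rw [h3] at h1
          apply hX1
          rw [eq_bot_iff, ← h1]
          exact le_inf le_rfl inf_le_left
      rw [← hNX, ← hBAX]
      apply le_normalizer_of_forall_conj
      intro n hn
      have h1 : ⁅B, A⁆ ≤ (⁅B, A⁆).comap (MulAut.conj n).toMonoidHom := by
        rw [Subgroup.commutator_le]
        intro b hb a ha
        rw [Subgroup.mem_comap]
        show n * ⁅b, a⁆ * n⁻¹ ∈ ⁅B, A⁆
        have hb' : n * b * n⁻¹ ∈ B := (Subgroup.mem_normalizer_iff.mp (hNB hn) b).mp hb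
        have hcC : n * a * n⁻¹ * a⁻¹ ∈ Subgroup.centralizer (R : Set G) :=
          hDC (Subgroup.commutator_mem_commutator hn (hAT ha))
        have hcomm : ∀ y ∈ R, (n * a * n⁻¹ * a⁻¹) * y = y * (n * a * n⁻¹ * a⁻¹) :=
          fun y hy => (Subgroup.mem_centralizer_iff.mp hcC y hy).symm
        have hmem : ⁅n * b * n⁻¹, a⁆ ∈ ⁅B, A⁆ := Subgroup.commutator_mem_commutator hb' ha
        rw [conj_commutatorElement_eq (c := n * a * n⁻¹ * a⁻¹) (by group)
          (hcomm _ (hBT hb')) (hcomm _ (hBT (hBA hmem)))]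
        exact hmem
      intro x hx
      exact h1 hx
    · -- `R` nonabelian
      have hU := nonabelian_uniq hG r R hRL.2.1 hRc
      have hA₂1 : A₂ ≠ ⊥ := hA2
      have hNA₂ : Subgroup.normalizer (A₂ : Set G) ≤ L :=
        (uniq_of_le hU hL hRL.1 (hRA₂.trans (Subgroup.centralizer_le_normalizer _))
          (BG8.normalizer_ne_top hG hA₂1 (isPGroup_ne_top hG hA₂p))).1
      have dE : Exc L p A A₂ := { toT2 := dL, hA₀A := hA₂A, hA₀c := hA₂c, hN := hNA₂ }
      have h1 := dE.centralizer_inf hG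
      apply hX1
      rw [eq_bot_iff, ← h1]
      exact inf_le_inf_right _ hBLσ

end Cfsg.Agent.Lib.Helper4.BG11
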