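import Mathlib
import Cfsg.Agent.Lib.Helper4.BG13f

set_option autoImplicit false
set_option linter.style.haveILetI false
set_option linter.unusedSectionVars false
set_option maxHeartbeats 400000

/-! Every nontrivial `σ(M)`-subgroup of `G` is conjugate to a subgroup of `M_σ`, relative to
Proposition 12.4(a), Theorem 12.5 (a), (b) and Corollary 12.6 (b). -/

namespace Cfsg.Agent.Lib.Helper4.BG13

open Cfsg Cfsg.Agent.Lib.Lead Cfsg.Agent.Lib.Lead.BG10 Cfsg.Agent.Lib.Helper7 Cfsg.Agent.Lib.Helper4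
open Cfsg.Agent.Lib.Helper4.BG76 Cfsg.Agent.Lib.Helper4.BG8 Cfsg.Agent.Lib.Helper4.BG9
open Cfsg.Agent.Lib.Helper4.BG7 Cfsg.Agent.Lib.Helper4.BG12 Cfsg.Agent.Lib.Helper4.BGConj
open scoped commutatorElement

universe u

variable {G : Type u} [Group G] [Finite G]

/-- the part of Theorem 12.5 that is used -/
def Hyp125 (G : Type u) [Group G] : Prop :=
  ∀ L : Subgroup G, IsCoatom L → ∀ p : ℕ, p.Prime → p ∈ tau2 L → ∀ A : Subgroup G,
    A ≤ L → IsElementaryAbelian p A → Nat.card A = p ^ 2 →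
    Group.IsNilpotent ↥(sigmaCore L) ∧ ∀ S : Subgroup G, SylIn p L S → IsMulCommutative ↥S

/-- the part of Corollary 12.6 that is used -/
def Hyp126 (G : Type u) [Group G] : Prop :=
  ∀ L : Subgroup G, IsCoatom L → ∀ E : Subgroup G, IsComplIn E (sigmaCore L) L →
    ∀ p : ℕ, p.Prime → p ∈ tau2 L → ∀ A : Subgroup G, A ≤ E → IsElementaryAbelian p A →
    Nat.card A = p ^ 2 →
    Subgroup.centralizer (A : Set G) ≤ L ⊓ Subgroup.normalizer (A : Set G) ∧
      L ⊓ Subgroup.normalizer (A : Set G) = E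

theorem sigma_Jsub_aux (hG : IsMinSimpleOddOrder G) {M : Subgroup G} (hM : IsCoatom M)
    (h124 : ∀ p : ℕ, p.Prime → p ∈ sigma M → Cent124 M p) (h125 : Hyp125 G) (h126 : Hyp126 G)
    {q : ℕ} [hq : Fact q.Prime] (hqσ : q ∈ sigma M) {X Y : Subgroup G} (hXq : IsPGroup q X)
    (hX1 : X ≠ ⊥) (hXM : X ≤ M) (hYX : Y ≤ Subgroup.normalizer (X : Set G))
    (hY : ∀ p : ℕ, p.Prime → p ∣ Nat.card Y → p ∈ sigma M) : ∃ g : G, cj g Y ≤ sigmaCore M := by
  by_cases hN : Subgroup.normalizer (X : Set G) ≤ M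
  · refine ⟨1, ?_⟩
    rw [cj_one]
    exact le_sigmaCore_of_piNum hG hM (hYX.trans hN) hY
  have hXtop : X ≠ ⊤ := fun h => hM.1 (eq_top_iff.mpr (h ▸ hXM))
  obtain ⟨L, hL, hNL⟩ := exists_coatom_ge (normalizer_ne_top hG hX1 hXtop)
  have hne : L ≠ M := fun h => hN (h ▸ hNL)
  have hXL : X ≤ L := Subgroup.le_normalizer.trans hNL
  obtain ⟨S, hXS, hS⟩ := exists_sylIn_ge (le_inf hXM hXL) hXq
  obtain ⟨hnc, hNS, hidx⟩ := lemma_13_1 hG hM hqσ (h124 q hq.out hqσ) hXq hX1 hXM hL hne hNL hS hXS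
  have hnc' : ∀ g : G, L ≠ cj g M := hnc
  have hSL : SylIn q L S := ⟨hS.1.trans inf_le_right, hS.2.1, hidx⟩
  have hSM : S ≤ M := hS.1.trans inf_le_left
  have hYL : Y ≤ L := hYX.trans hNL
  have hsolv : Group.IsSolvable ↥L := solvable_of_ne_top hG hL.1
  suffices h : ∃ l : G, cj l Y ≤ M by
    obtain ⟨l, hl⟩ := h
    refine ⟨l, le_sigmaCore_of_piNum hG hM hl ?_⟩
    rw [card_cj]
    exact hY
  by_cases hqL : q ∈ sigma L
  · -- `q ∈ σ(L)`
    have hqα : q ∉ alpha L := (sigma_disjoint hG hL hM hnc' hqL hqσ).1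
    have hfac := le_alphaCore_sup_normalizer hG hL hqL hqα hSL
    have hfac' : L ≤ alphaCore L ⊔ (M ⊓ L) :=
      hfac.trans (sup_le_sup_left (le_inf (inf_le_right.trans hNS) inf_le_left) _)
    have hα' : ∀ p : ℕ, p.Prime → p ∣ Nat.card (alphaCore L) → p ∉ sigma M := by
      intro p hp hpd hpM
      have hpα : p ∈ alpha L := (theorem_10_2 hG hL).1.2.1 p hp hpd
      haveI : Fact p.Prime := ⟨hp⟩
      exact (sigma_disjoint hG hL hM hnc' (alpha_subset_sigma hG hL hpα) hpM).1 hpα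
    obtain ⟨l, -, hlY⟩ := exists_cj_le_of_supplement hsolv (sigma M) (alphaCore_le L) inf_le_right
      hYL hfac' (le_normalizer_piCoreOf (alpha L) L) hα' hY
    exact ⟨l, hlY.trans inf_le_left⟩
  · -- `q ∉ σ(L)`
    have hτ : q ∈ tau2 L := (lemma_12_2a hG hL hXq hX1 hNL).resolve_left hqL
    obtain ⟨A₀, hA₀L, hA₀e, hA₀c⟩ := exists_elementary_of_not_pRankLE hτ.2.2.2
    have hA₀2 : Nat.card A₀ = q ^ 2 :=
      card_eq_sq hA₀e hA₀c (fun h => not_pRankLE_of_elementary hA₀L hA₀e h hτ.2.2.1)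
    obtain ⟨c, -, hcA⟩ := hSL.exists_conj_le hA₀L (isPGroup_of_elementary hA₀e)
    have hAe : IsElementaryAbelian q (cj c A₀) := isElementaryAbelian_map hA₀e _
    have hA2 : Nat.card (cj c A₀) = q ^ 2 := by rw [card_cj]; exact hA₀2
    obtain ⟨hnil, hab⟩ := h125 L hL q hq.out hτ (cj c A₀) (hcA.trans hSL.1) hAe hA2
    have hcop : (Nat.card (cj c A₀)).Coprime (Nat.card (sigmaCore L)) := by
      rw [hA2]
      apply Nat.Coprime.pow_left
      rw [Nat.Prime.coprime_iff_not_dvd hq.out]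
      intro hd
      exact hqL ((sigmaCore_hall hG hL).1.2.1 q hq.out hd)
    obtain ⟨E, hE, hAE⟩ := exists_complIn_ge hG hL (hcA.trans hSL.1) hcop
    obtain ⟨hCA, hEeq⟩ := h126 L hL E hE q hq.out hτ (cj c A₀) hAE hAe hA2
    have hSab : IsMulCommutative ↥S := hab S hSL
    have hSC : S ≤ Subgroup.centralizer ((cj c A₀ : Subgroup G) : Set G) := by
      intro s hs
      rw [Subgroup.mem_centralizer_iff]
      intro a ha
      have := hSab.is_comm.comm ⟨a, hcA ha⟩ ⟨s, hs⟩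
      exact congrArg Subtype.val this
    have hEM : E ≤ M := by
      intro e he
      have heN : e ∈ L ⊓ Subgroup.normalizer ((cj c A₀ : Subgroup G) : Set G) := by
        rw [hEeq]; exact he
      have hSylC : SylIn q (Subgroup.centralizer ((cj c A₀ : Subgroup G) : Set G)) S :=
        hSL.mono hSC (hCA.trans inf_le_left)
      obtain ⟨c', hc', y, hy, rfl⟩ := Cfsg.Agent.Lib.Helper4.frattini_rel
        (Subgroup.centralizer_le_normalizer _) (BG7.normalizer_le_normalizer_centralizer _) hSylC heN.2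
      exact M.mul_mem (h124 q hq.out hqσ (cj c A₀) (hcA.trans hSM) hAe hA2 hc') (hNS hy.2)
    have hdisj : ∀ p : ℕ, p.Prime → p ∣ Nat.card (sigmaCore L) → p ∉ sigma M := by
      intro p hp hpd hpM
      haveI : Fact p.Prime := ⟨hp⟩
      exact (sigma_disjoint hG hL hM hnc' ((sigmaCore_hall hG hL).1.2.1 p hp hpd) hpM).2 hnil
    obtain ⟨l, -, hlY⟩ := exists_cj_le_of_supplement hsolv (sigma M) (sigmaCore_le L) hE.1 hYL
      (by rw [sup_comm, IsComplIn.sup_eq hE]) (le_normalizer_sigmaCore L) hdisj hY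
    exact ⟨l, hlY.trans hEM⟩

/-- every nontrivial `σ(M)`-subgroup of `G` is conjugate to a subgroup of `M_σ` -/
theorem sigma_Jsub (hG : IsMinSimpleOddOrder G) {M : Subgroup G} (hM : IsCoatom M)
    (h124 : ∀ p : ℕ, p.Prime → p ∈ sigma M → Cent124 M p) (h125 : Hyp125 G) (h126 : Hyp126 G)
    {Y : Subgroup G} (hY1 : Y ≠ ⊥)
    (hY : ∀ p : ℕ, p.Prime → p ∣ Nat.card Y → p ∈ sigma M) : ∃ g : G, cj g Y ≤ sigmaCore M := by
  -- `Y ≠ ⊤`
  have hYtop : Y ≠ ⊤ := by
    rintro rfl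
    have h1 : (sigmaCore M).index ≠ 1 := by
      intro h
      rw [Subgroup.index_eq_one] at h
      exact hM.1 (eq_top_iff.mpr (h ▸ sigmaCore_le M))
    obtain ⟨r, hr, hrd⟩ := Nat.exists_prime_and_dvd h1
    have hrG : r ∣ Nat.card (⊤ : Subgroup G) := by
      rw [Subgroup.card_top]
      exact hrd.trans (Subgroup.index_dvd_card _)
    exact (sigmaCore_hall hG hM).2.1.2 r hr (hY r hr hrG) hrd
  haveI : Group.IsSolvable ↥Y := solvable_of_ne_top hG hYtop
  haveI : Nontrivial ↥Y := (Subgroup.nontrivial_iff_ne_bot Y).mpr hY1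
  obtain ⟨q, hqF, N, hNn, hNq, hN1⟩ := exists_normal_pgroup_of_solvable (X := ↥Y)
  have hXq : IsPGroup q ↥(N.map Y.subtype) := hNq.map _
  have hX1 : N.map Y.subtype ≠ ⊥ := by
    intro h
    apply hN1
    rw [Subgroup.map_eq_bot_iff_of_injective N Y.subtype_injective] at h
    exact h
  have hYX : Y ≤ Subgroup.normalizer ((N.map Y.subtype : Subgroup G) : Set G) := by
    intro y hy
    have h1 : (⟨y, hy⟩ : ↥Y) ∈ Subgroup.normalizer (N : Set ↥Y) := by
      rw [Subgroup.normalizer_eq_top_iff.mpr hNn]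
      exact Subgroup.mem_top _
    exact Subgroup.le_normalizer_map Y.subtype ⟨_, h1, rfl⟩
  have hqσ : q ∈ sigma M := by
    apply hY q hqF.out
    have hXY : N.map Y.subtype ≤ Y := Subgroup.map_subtype_le _
    have hX1' : Nat.card ↥(N.map Y.subtype) ≠ 1 := fun h => hX1 (Subgroup.card_eq_one.mp h)
    obtain ⟨k, hk⟩ := IsPGroup.iff_card.mp hXq
    have hk0 : k ≠ 0 := by
      rintro rfl
      exact hX1' (by rw [hk, pow_zero])
    exact (dvd_pow_self q hk0).trans (hk ▸ Subgroup.card_dvd_of_le hXY)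
  obtain ⟨g₀, hg₀⟩ := exists_cj_le_of_sigma hM hqσ hXq
  have h2 : cj g₀ Y ≤ Subgroup.normalizer ((cj g₀ (N.map Y.subtype) : Subgroup G) : Set G) := by
    rw [normalizer_cj]
    exact cj_mono g₀ hYX
  obtain ⟨g, hg⟩ := sigma_Jsub_aux hG hM h124 h125 h126 hqσ (isPGroup_cj g₀ hXq)
    (by rw [Ne, cj_eq_bot_iff]; exact hX1) hg₀ h2 (by rw [card_cj]; exact hY)
  refine ⟨g * g₀, ?_⟩
  rw [cj_mul]
  exact hg

end Cfsg.Agent.Lib.Helper4.BG13
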