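import Mathlib
import Cfsg.Agent.Lib.Helper4.BG13g

set_option autoImplicit false
set_option linter.style.haveILetI false
set_option linter.unusedSectionVars false

/-! Conversions between `Sylow p ↥L` and `SylIn p L S`. -/

namespace Cfsg.Agent.Lib.Helper4.BG13

open Cfsg Cfsg.Agent.Lib.Lead Cfsg.Agent.Lib.Lead.BG10 Cfsg.Agent.Lib.Helper7 Cfsg.Agent.Lib.Helper4
open Cfsg.Agent.Lib.Helper4.BG76 Cfsg.Agent.Lib.Helper4.BG8 Cfsg.Agent.Lib.Helper4.BG9
open Cfsg.Agent.Lib.Helper4.BG7 Cfsg.Agent.Lib.Helper4.BG12 Cfsg.Agent.Lib.Helper4.BGConj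

universe u

variable {G : Type u} [Group G] [Finite G]

/-- a `SylIn` subgroup comes from a `Sylow` subgroup of the subtype -/
theorem exists_sylow_of_sylIn {p : ℕ} [Fact p.Prime] {L S : Subgroup G} (hS : SylIn p L S) :
    ∃ P : Sylow p ↥L, (P : Subgroup ↥L) = S.subgroupOf L ∧
      (P : Subgroup ↥L).map L.subtype = S := by
  obtain ⟨hSL, hSp, hSi⟩ := hS
  have hidx : ¬ p ∣ (S.subgroupOf L).index := hSi
  have hSp' : IsPGroup p ↥(S.subgroupOf L) := hSp.comap_subtype (K := L)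
  refine ⟨hSp'.toSylow hidx, IsPGroup.toSylow_coe _ _, ?_⟩
  rw [IsPGroup.toSylow_coe]
  exact Subgroup.map_subgroupOf_eq_of_le hSL

theorem isMulCommutative_of_sylIn {p : ℕ} [Fact p.Prime] {L S : Subgroup G} (hS : SylIn p L S)
    (h : ∀ P : Sylow p ↥L, IsMulCommutative ↥(P : Subgroup ↥L)) : IsMulCommutative ↥S := by
  obtain ⟨P, hP, -⟩ := exists_sylow_of_sylIn hS
  have h1 := h P
  refine ⟨⟨fun a b => ?_⟩⟩
  have ha : (⟨a.1, hS.1 a.2⟩ : ↥L) ∈ (P : Subgroup ↥L) := by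
    rw [hP, Subgroup.mem_subgroupOf]; exact a.2
  have hb : (⟨b.1, hS.1 b.2⟩ : ↥L) ∈ (P : Subgroup ↥L) := by
    rw [hP, Subgroup.mem_subgroupOf]; exact b.2
  have := h1.is_comm.comm ⟨_, ha⟩ ⟨_, hb⟩
  apply Subtype.ext
  have h2 := congrArg (fun z : ↥(P : Subgroup ↥L) => ((z : ↥L) : G)) this
  exact h2

end Cfsg.Agent.Lib.Helper4.BG13
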