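import Mathlib
import Cfsg.Agent.Lib.Helper4.BG13h

set_option autoImplicit false
set_option linter.style.haveILetI false
set_option linter.unusedSectionVars false

/-! Glue: statements S1424, S1425, S1426 from the statements S1416, S1417, S1418. -/

namespace Cfsg.Agent.Lib.Helper4.BG13

open Cfsg Cfsg.Agent.Lib.Lead Cfsg.Agent.Lib.Lead.BG10 Cfsg.Agent.Lib.Helper7 Cfsg.Agent.Lib.Helper4
open Cfsg.Agent.Lib.Helper4.BG76 Cfsg.Agent.Lib.Helper4.BG8 Cfsg.Agent.Lib.Helper4.BG9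
open Cfsg.Agent.Lib.Helper4.BG7 Cfsg.Agent.Lib.Helper4.BG12 Cfsg.Agent.Lib.Helper4.BGConj
open scoped commutatorElement

universe u

variable {G : Type u} [Group G] [Finite G]

/-- S1416, first clause, as a hypothesis -/
def H1416 (G : Type u) [Group G] : Prop :=
  ∀ (M : Subgroup G) (_ : IsCoatom M) (p : ℕ) [Fact p.Prime] (A : Subgroup G)
    (_ : (A ≤ M ∧ Cfsg.IsElementaryAbelian p A ∧ Nat.card A = p ^ 2)),
    Subgroup.centralizer (A : Set G) ≤ M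

/-- the used part of S1417, as a hypothesis -/
def H1417 (G : Type u) [Group G] : Prop :=
  ∀ (M : Subgroup G) (_ : IsCoatom M) (p : ℕ) [Fact p.Prime] (_ : p ∈ Cfsg.tau2 M) (A : Subgroup G)
    (_ : (A ≤ M ∧ Cfsg.IsElementaryAbelian p A ∧ Nat.card A = p ^ 2)),
    Group.IsNilpotent (Cfsg.sigmaCore M) ∧ ∀ P : Sylow p M, IsMulCommutative (P : Subgroup M)

/-- the used part of S1418, as a hypothesis -/
def H1418 (G : Type u) [Group G] : Prop :=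
  ∀ (M : Subgroup G) (_ : IsCoatom M) (E : Subgroup G) (_ : Cfsg.IsComplIn E (Cfsg.sigmaCore M) M)
    (p : ℕ) [Fact p.Prime] (_ : p ∈ Cfsg.tau2 M) (A : Subgroup G)
    (_ : (A ≤ E ∧ Cfsg.IsElementaryAbelian p A ∧ Nat.card A = p ^ 2)),
    Subgroup.centralizer (A : Set G) ≤ M ⊓ Subgroup.normalizer (A : Set G) ∧
      M ⊓ Subgroup.normalizer (A : Set G) = E

theorem cent124_of (h : H1416 G) (M : Subgroup G) (hM : IsCoatom M) (p : ℕ) (hp : p.Prime) :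
    Cent124 M p := by
  intro A hAM hAe hA2
  haveI : Fact p.Prime := ⟨hp⟩
  exact h M hM p A ⟨hAM, hAe, hA2⟩

theorem hyp125_of (h : H1417 G) : Hyp125 G := by
  intro L hL p hp hτ A hAL hAe hA2
  haveI : Fact p.Prime := ⟨hp⟩
  obtain ⟨h1, h2⟩ := h L hL p hτ A ⟨hAL, hAe, hA2⟩
  exact ⟨h1, fun S hS => isMulCommutative_of_sylIn hS h2⟩

theorem hyp126_of (h : H1418 G) : Hyp126 G := by
  intro L hL E hE p hp hτ A hAE hAe hA2
  haveI : Fact p.Prime := ⟨hp⟩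
  exact h L hL E hE p hτ A ⟨hAE, hAe, hA2⟩

theorem s1424_of (hG : IsMinSimpleOddOrder G) (h1416 : H1416 G)
    (M : Subgroup G) (hM : IsCoatom M) (q : ℕ) [Fact q.Prime] (hq : q ∈ Cfsg.sigma M) (X : Subgroup G)
    (hXq : IsPGroup q X) (hX1 : X ≠ ⊥) (hXM : X ≤ M)
    (Mstar : Subgroup G) (hMs : IsCoatom Mstar) (hne : Mstar ≠ M)
    (hNX : Subgroup.normalizer (X : Set G) ≤ Mstar)
    (S : Sylow q ↥(M ⊓ Mstar)) (hXS : X ≤ (S : Subgroup ↥(M ⊓ Mstar)).map (M ⊓ Mstar).subtype) :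
    (∀ g : G, Mstar ≠ M.map (MulAut.conj g).toMonoidHom) ∧
      Subgroup.normalizer (((S : Subgroup ↥(M ⊓ Mstar)).map (M ⊓ Mstar).subtype : Subgroup G) : Set G) ≤ M ∧
      ¬ q ∣ ((S : Subgroup ↥(M ⊓ Mstar)).map (M ⊓ Mstar).subtype).relIndex Mstar :=
  lemma_13_1 hG hM hq (cent124_of h1416 M hM q (Fact.out)) hXq hX1 hXM hMs hne hNX
    (sylIn_map_sylow S) hXS

theorem s1425_of (hG : IsMinSimpleOddOrder G) (h1416 : H1416 G) (h1417 : H1417 G) (h1418 : H1418 G)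
    (M : Subgroup G) (hM : IsCoatom M) (Y : Subgroup G) (hY1 : Y ≠ ⊥)
    (hY : ∀ p : ℕ, p.Prime → p ∣ Nat.card Y → p ∈ Cfsg.sigma M) :
    ∃ g : G, Y.map (MulAut.conj g).toMonoidHom ≤ Cfsg.sigmaCore M :=
  sigma_Jsub hG hM (fun p hp _ => cent124_of h1416 M hM p hp) (hyp125_of h1417) (hyp126_of h1418)
    hY1 hY

theorem s1426_of (hG : IsMinSimpleOddOrder G) (h1416 : H1416 G)
    (M : Subgroup G) (hM : IsCoatom M) (E : Subgroup G) (hE : Cfsg.IsComplIn E (Cfsg.sigmaCore M) M) :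
    Cfsg.sigmaCore M ⊓ Subgroup.centralizer (E : Set G) ≤ ⁅Cfsg.sigmaCore M, Cfsg.sigmaCore M⁆ ∧
      ⁅Cfsg.sigmaCore M, E⁆ = Cfsg.sigmaCore M ∧
      ∀ g : G, g ∉ M → IsCyclic ↥(Cfsg.sigmaCore M ⊓ M.map (MulAut.conj g).toMonoidHom) ∧
        (∀ p : ℕ, p.Prime → p ∣ Nat.card ↥(Cfsg.sigmaCore M ⊓ M.map (MulAut.conj g).toMonoidHom) → p ∉ Cfsg.beta M) ∧
        Cfsg.sigmaCore M ⊓ M.map (MulAut.conj g).toMonoidHom ⊓ ⁅Cfsg.sigmaCore M, Cfsg.sigmaCore M⁆ = ⊥ :=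
  lemma_13_3 hG hM (fun p hp _ => cent124_of h1416 M hM p hp) hE

end Cfsg.Agent.Lib.Helper4.BG13
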