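import Mathlib
import Cfsg.Agent.Lib.Helper4.BG13i
import Cfsg.Agent.Lib.Helper4.NilpSub

set_option autoImplicit false
set_option linter.style.haveILetI false
set_option linter.unusedSectionVars false

/-! Bender–Glauberman §13 (prime action): the basic commutation argument. -/

namespace Cfsg.Agent.Lib.Helper4.BG13

open Cfsg Cfsg.Agent.Lib.Lead Cfsg.Agent.Lib.Lead.BG10 Cfsg.Agent.Lib.Helper7 Cfsg.Agent.Lib.Helper4
open Cfsg.Agent.Lib.Helper4.BG76 Cfsg.Agent.Lib.Helper4.BG8 Cfsg.Agent.Lib.Helper4.BG9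
open Cfsg.Agent.Lib.Helper4.BG7 Cfsg.Agent.Lib.Helper4.BG12 Cfsg.Agent.Lib.Helper4.BGConj
open scoped commutatorElement

universe u

variable {G : Type u} [Group G] [Finite G]

/-- for `p ∈ σ(L)` every `p`-subgroup of `L` lies in `L'` -/
theorem le_commutator_of_sigma (hG : IsMinSimpleOddOrder G) {L : Subgroup G} (hL : IsCoatom L)
    {p : ℕ} [hp : Fact p.Prime] (hpL : p ∈ sigma L) {P : Subgroup G} (hPL : P ≤ L)
    (hPp : IsPGroup p P) : P ≤ ⁅L, L⁆ := by
  obtain ⟨S, hPS, hS⟩ := exists_sylIn_ge hPL hPp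
  exact hPS.trans ((sigmaData_of_sylIn hL hpL hS).le_commutator hG)

/-- the images in `L / L_α` of a `p`-element and a `p'`-element of `L'` commute -/
theorem commutatorElement_mem_alphaCore (hG : IsMinSimpleOddOrder G) {L : Subgroup G}
    (hL : IsCoatom L) {p : ℕ} [hp : Fact p.Prime] {r x : G} (hr : r ∈ ⁅L, L⁆) (hx : x ∈ ⁅L, L⁆)
    (hxp : IsPGroup p (Subgroup.zpowers x)) (hrp : (orderOf r).Coprime p) :
    ⁅r, x⁆ ∈ alphaCore L := by
  have hnil := (theorem_10_2 hG hL).2.2.2.2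
  rw [← Subgroup.map_subtype_commutator] at hr hx
  obtain ⟨r', hr', rfl⟩ := hr
  obtain ⟨x', hx', rfl⟩ := hx
  set π := QuotientGroup.mk' (piCore (alpha L) ↥L) with hπ
  have h1 : π r' ∈ (commutator ↥L).map π := ⟨r', hr', rfl⟩
  have h2 : π x' ∈ (commutator ↥L).map π := ⟨x', hx', rfl⟩
  have h3 : IsPGroup p (Subgroup.zpowers (π x')) := by
    obtain ⟨k, hk⟩ := hxp ⟨L.subtype x', Subgroup.mem_zpowers _⟩
    have hk' : x' ^ p ^ k = 1 := by
      apply Subtype.ext
      have h9 := congrArg Subtype.val hk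
      rw [Subgroup.coe_pow] at h9
      rw [Subgroup.coe_pow]
      exact h9
    rintro ⟨y, hy⟩
    obtain ⟨n, rfl⟩ := Subgroup.mem_zpowers_iff.mp hy
    refine ⟨k, Subtype.ext ?_⟩
    show ((π x') ^ n) ^ p ^ k = 1
    rw [← zpow_natCast, ← zpow_mul, mul_comm, zpow_mul, zpow_natCast, ← map_pow, hk', map_one,
      one_zpow]
  have h5 : (orderOf (π r')).Coprime p := by
    apply Nat.Coprime.coprime_dvd_left _ hrp
    have : orderOf (π r') ∣ orderOf r' := orderOf_map_dvd π r'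
    rwa [← Subgroup.orderOf_coe] at this
  have h6 := commute_of_isNilpotent hnil h2 h1 h3 h5
  have h7 : π ⁅r', x'⁆ = 1 := by
    rw [map_commutatorElement, commutatorElement_eq_one_iff_mul_comm]
    exact h6.symm
  rw [hπ, QuotientGroup.mk'_apply, QuotientGroup.eq_one_iff] at h7
  exact ⟨⁅r', x'⁆, h7, by simp⟩

/-- if `p ∈ σ(L)`, `L` not conjugate to `M`, `p ∉ σ(M)`: a `p`-subgroup `P` of `L` centralizes every
subgroup of `M_σ ∩ L'` that it normalizes -/
theorem le_centralizer_of_sigma (hG : IsMinSimpleOddOrder G) {L M : Subgroup G} (hL : IsCoatom L)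
    (hM : IsCoatom M) (hnc : ∀ g : G, L ≠ cj g M) {p : ℕ} [hp : Fact p.Prime] (hpL : p ∈ sigma L)
    (hpM : p ∉ sigma M) {P R : Subgroup G} (hPL : P ≤ L) (hPp : IsPGroup p P)
    (hRL : R ≤ ⁅L, L⁆) (hRM : R ≤ sigmaCore M)
    (hPR : P ≤ Subgroup.normalizer (R : Set G)) : R ≤ Subgroup.centralizer (P : Set G) := by
  have hPL' := le_commutator_of_sigma hG hL hpL hPL hPp
  have hbot := alphaCore_inf_sigmaCore hG hL hM hnc
  intro r hr
  rw [Subgroup.mem_centralizer_iff]
  intro x hx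
  have hx' : x ∈ P := hx
  have hxp : IsPGroup p (Subgroup.zpowers x) := hPp.to_le (Subgroup.zpowers_le.mpr hx')
  have hrp : (orderOf r).Coprime p := by
    rw [Nat.coprime_comm, Nat.Prime.coprime_iff_not_dvd hp.out]
    intro hd
    apply hpM
    apply (sigmaCore_hall hG hM).1.2.1 p hp.out
    have h0 : orderOf r ∣ Nat.card ↥R := by
      have := orderOf_dvd_natCard (⟨r, hr⟩ : ↥R)
      rwa [Subgroup.orderOf_mk] at this
    exact hd.trans (h0.trans (Subgroup.card_dvd_of_le hRM))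
  have h1 := commutatorElement_mem_alphaCore hG hL (hRL hr) (hPL' hx') hxp hrp
  have h2 : ⁅r, x⁆ ∈ sigmaCore M := by
    apply hRM
    rw [commutatorElement_def, mul_assoc, mul_assoc]
    apply R.mul_mem hr
    have := (Subgroup.mem_normalizer_iff.mp (hPR hx') r⁻¹).mp (R.inv_mem hr)
    simpa [mul_assoc] using this
  have h3 : ⁅r, x⁆ ∈ alphaCore L ⊓ sigmaCore M := ⟨h1, h2⟩
  rw [hbot, Subgroup.mem_bot, commutatorElement_eq_one_iff_mul_comm] at h3
  exact h3.symm

end Cfsg.Agent.Lib.Helper4.BG13
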