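import Mathlib
import Cfsg.Agent.Lib.Helper4.BG13j

set_option autoImplicit false
set_option linter.style.haveILetI false
set_option linter.unusedSectionVars false

/-! The statements S1416, S1417, S1418 as hypotheses, with their consequences in `SylIn` form. -/

namespace Cfsg.Agent.Lib.Helper4.BG13

open Cfsg Cfsg.Agent.Lib.Lead Cfsg.Agent.Lib.Lead.BG10 Cfsg.Agent.Lib.Helper7 Cfsg.Agent.Lib.Helper4
open Cfsg.Agent.Lib.Helper4.BG76 Cfsg.Agent.Lib.Helper4.BG8 Cfsg.Agent.Lib.Helper4.BG9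
open Cfsg.Agent.Lib.Helper4.BG7 Cfsg.Agent.Lib.Helper4.BG12 Cfsg.Agent.Lib.Helper4.BGConj
open scoped commutatorElement

universe u

variable {G : Type u} [Group G] [Finite G]

/-- the statement S1417 (Theorem 12.5) for the group `G` -/
def T1417 (G : Type u) [Group G] : Prop :=
  ∀ (M : Subgroup G) (_ : IsCoatom M) (p : ℕ) [Fact p.Prime] (_ : p ∈ Cfsg.tau2 M) (A : Subgroup G)
    (_ : (A ≤ M ∧ Cfsg.IsElementaryAbelian p A ∧ Nat.card A = p ^ 2)),
    Group.IsNilpotent (Cfsg.sigmaCore M) ∧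
      (∀ P : Sylow p M, IsMulCommutative (P : Subgroup M) ∧
        (A ≤ (P : Subgroup M).map M.subtype →
          (∀ x ∈ (P : Subgroup M).map M.subtype, x ^ p = 1 ↔ x ∈ A) ∧
          ¬ Subgroup.normalizer ((((P : Subgroup M).map M.subtype : Subgroup G)) : Set G) ≤ M)) ∧
      M ≤ Subgroup.normalizer ((Cfsg.sigmaCore M ⊔ A : Subgroup G) : Set G) ∧
      Cfsg.sigmaCore M ⊓ Subgroup.centralizer (A : Set G) = ⊥ ∧
      (∀ Mstar : Subgroup G, IsCoatom Mstar → Mstar ≠ M → A ≤ Mstar →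
        Cfsg.sigmaCore M ⊓ Mstar = ⊥) ∧
      ∃ A₁ : Subgroup G, A₁ ≤ A ∧ Nat.card A₁ = p ∧
        Cfsg.sigmaCore M ⊓ Subgroup.centralizer (A₁ : Set G) = ⊥

/-- the statement S1418 (Corollary 12.6) for the group `G` -/
def T1418 (G : Type u) [Group G] : Prop :=
  ∀ (M : Subgroup G) (_ : IsCoatom M) (E : Subgroup G) (_ : Cfsg.IsComplIn E (Cfsg.sigmaCore M) M)
    (p : ℕ) [Fact p.Prime] (_ : p ∈ Cfsg.tau2 M) (A : Subgroup G)
    (_ : (A ≤ E ∧ Cfsg.IsElementaryAbelian p A ∧ Nat.card A = p ^ 2)),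
    (E ≤ Subgroup.normalizer (A : Set G) ∧ ∀ X : Subgroup G, X ≤ E → Nat.card X = p → X ≤ A) ∧
      (Subgroup.centralizer (A : Set G) ≤ M ⊓ Subgroup.normalizer (A : Set G) ∧
        M ⊓ Subgroup.normalizer (A : Set G) = E ∧
        ¬ Subgroup.normalizer (A : Set G) ≤ M) ∧
      ∀ X : Subgroup G, X ≤ A → Nat.card X = p →
        Cfsg.sigmaCore M ⊓ Subgroup.centralizer (X : Set G) ≠ ⊥ →
        (Subgroup.centralizer (X : Set G) ≤ M ∧ ∀ L : Subgroup G, IsCoatom L →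
          Subgroup.centralizer (X : Set G) ≤ L → L = M)

theorem T1417.h1417 (h : T1417 G) : H1417 G := by
  intro M hM p _ hp A hA
  obtain ⟨h1, h2, -⟩ := h M hM p hp A hA
  exact ⟨h1, fun P => (h2 P).1⟩

theorem T1418.h1418 (h : T1418 G) : H1418 G := by
  intro M hM E hE p _ hp A hA
  obtain ⟨-, ⟨h1, h2, -⟩, -⟩ := h M hM E hE p hp A hA
  exact ⟨h1, h2⟩

/-- Theorem 12.5(b) in `SylIn` form -/
theorem T1417.sylIn (h : T1417 G) {L : Subgroup G} (hL : IsCoatom L) {p : ℕ} [hp : Fact p.Prime]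
    (hτ : p ∈ tau2 L) {A : Subgroup G} (hAL : A ≤ L) (hAe : IsElementaryAbelian p A)
    (hA2 : Nat.card A = p ^ 2) {S : Subgroup G} (hS : SylIn p L S) :
    IsMulCommutative ↥S ∧ (A ≤ S → (∀ x ∈ S, x ^ p = 1 ↔ x ∈ A) ∧
      ¬ Subgroup.normalizer (S : Set G) ≤ L) := by
  obtain ⟨-, h2, -⟩ := h L hL p hτ A ⟨hAL, hAe, hA2⟩
  refine ⟨isMulCommutative_of_sylIn hS (fun P => (h2 P).1), ?_⟩
  obtain ⟨P, -, hPS⟩ := exists_sylow_of_sylIn hS
  have h3 := (h2 P).2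
  rw [hPS] at h3
  exact h3

/-- for `p ∈ τ₂(L)` and `A ∈ E_p^2(L)`: every maximal subgroup `K ⊇ N_G(A)` has `p ∈ σ(K)` -/
theorem mem_sigma_of_normalizer_le (hG : IsMinSimpleOddOrder G) (h : T1417 G) {K : Subgroup G}
    (hK : IsCoatom K) {p : ℕ} [hp : Fact p.Prime] {A : Subgroup G}
    (hAe : IsElementaryAbelian p A) (hA2 : Nat.card A = p ^ 2)
    (hNK : Subgroup.normalizer (A : Set G) ≤ K) : p ∈ sigma K := by
  have hAp : IsPGroup p ↥A := isPGroup_of_elementary hAe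
  have hA1 : A ≠ ⊥ := by
    intro h0
    rw [h0, Subgroup.card_bot] at hA2
    have := Nat.one_lt_pow (n := 2) (by norm_num) hp.out.one_lt
    omega
  have hAK : A ≤ K := Subgroup.le_normalizer.trans hNK
  rcases lemma_12_2a hG hK hAp hA1 hNK with hσ | hτ
  · exact hσ
  exfalso
  obtain ⟨S, hAS, hS⟩ := exists_sylIn_ge hAK hAp
  obtain ⟨-, h2⟩ := h.sylIn hK hτ hAK hAe hA2 hS
  obtain ⟨hΩ, hN⟩ := h2 hAS
  apply hN
  refine le_trans ?_ hNK
  intro g hg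
  rw [mem_normalizer_iff_cj] at hg ⊢
  -- `A = Ω₁(S)` is characteristic in `S`
  apply le_antisymm
  · rintro _ ⟨a, ha, rfl⟩
    have haS : a ∈ S := hAS ha
    have h1 : g * a * g⁻¹ ∈ S := by
      rw [← hg]
      exact ⟨a, haS, rfl⟩
    show g * a * g⁻¹ ∈ A
    rw [← hΩ _ h1, conj_pow, (hΩ a haS).mpr ha, mul_one, mul_inv_cancel]
  · intro a ha
    have haS : a ∈ S := hAS ha
    have h1 : g⁻¹ * a * g ∈ S := by
      have : a ∈ cj g S := by rw [hg]; exact haS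
      rwa [mem_cj] at this
    rw [mem_cj]
    rw [← hΩ _ h1]
    have : (g⁻¹ * a * g) ^ p = g⁻¹ * a ^ p * g := by
      have := conj_pow (a := g⁻¹) (b := a) (i := p)
      simpa using this
    rw [this, (hΩ a haS).mpr ha, mul_one, inv_mul_cancel]

end Cfsg.Agent.Lib.Helper4.BG13
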