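import Mathlib
import Cfsg.Agent.Lib.Helper4.BG13k

set_option autoImplicit false
set_option linter.style.haveILetI false
set_option linter.unusedSectionVars false
set_option maxHeartbeats 400000

/-! Bender–Glauberman, Corollary 13.3(a): a cyclic Sylow subgroup of a complement `E` of `M_σ` acts
"semiprimely" on `M_σ`, relative to Theorem 12.5 and Corollary 12.6. -/

namespace Cfsg.Agent.Lib.Helper4.BG13

open Cfsg Cfsg.Agent.Lib.Lead Cfsg.Agent.Lib.Lead.BG10 Cfsg.Agent.Lib.Helper7 Cfsg.Agent.Lib.Helper4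
open Cfsg.Agent.Lib.Helper4.BG76 Cfsg.Agent.Lib.Helper4.BG8 Cfsg.Agent.Lib.Helper4.BG9
open Cfsg.Agent.Lib.Helper4.BG7 Cfsg.Agent.Lib.Helper4.BG12 Cfsg.Agent.Lib.Helper4.BGConj
open scoped commutatorElement

universe u

variable {G : Type u} [Group G] [Finite G]

/-- a cyclic group has `p`-rank at most one -/
theorem prankLE_one_of_isCyclic {C : Type*} [Group C] [Finite C] [hC : IsCyclic C] (p : ℕ)
    [hp : Fact p.Prime] : PRankLE p 1 C := by
  intro A _ hA
  haveI : IsCyclic ↥A := Subgroup.isCyclic A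
  obtain ⟨g, hg⟩ := IsCyclic.exists_generator (α := ↥A)
  have h1 : orderOf g = Nat.card ↥A := orderOf_eq_card_of_forall_mem_zpowers hg
  have h2 : orderOf g ∣ p := by
    apply orderOf_dvd_of_pow_eq_one
    apply Subtype.ext
    rw [Subgroup.coe_pow]
    exact hA g g.2
  rw [← h1, pow_one]
  exact Nat.le_of_dvd hp.out.pos h2

theorem mem_normalizer_inf {A B : Subgroup G} {x : G} (hA : x ∈ Subgroup.normalizer (A : Set G))
    (hB : x ∈ Subgroup.normalizer (B : Set G)) :
    x ∈ Subgroup.normalizer ((A ⊓ B : Subgroup G) : Set G) := by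
  rw [Subgroup.mem_normalizer_iff] at hA hB ⊢
  intro h
  rw [Subgroup.mem_inf, Subgroup.mem_inf, hA h, hB h]

/-- **Corollary 13.3(a)**, core form -/
theorem primact_core (hG : IsMinSimpleOddOrder G) (h1417 : T1417 G) (h1418 : T1418 G)
    {M : Subgroup G} (hM : IsCoatom M) {p : ℕ} [hp : Fact p.Prime] (hpσ : p ∉ sigma M)
    {P P₀ : Subgroup G} (hP : SylIn p M P) (hPc : IsCyclic ↥P) (hP₀P : P₀ ≤ P)
    (hP₀ : Nat.card P₀ = p) :
    sigmaCore M ⊓ Subgroup.centralizer (P₀ : Set G) ≤ Subgroup.centralizer (P : Set G) := by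
  classical
  have hPp : IsPGroup p ↥P := hP.2.1
  have hP₀p : IsPGroup p ↥P₀ := hPp.to_le hP₀P
  have hP₀1 : P₀ ≠ ⊥ := by
    intro h0
    rw [h0, Subgroup.card_bot] at hP₀
    exact hp.out.one_lt.ne hP₀
  have hPM : P ≤ M := hP.1
  have hcomm : ∀ a ∈ P, ∀ b ∈ P, a * b = b * a := by
    intro a ha b hb
    let _ := IsCyclic.commGroup (α := ↥P)
    have := mul_comm (⟨a, ha⟩ : ↥P) ⟨b, hb⟩
    exact congrArg Subtype.val this
  have hPC₀ : P ≤ Subgroup.centralizer (P₀ : Set G) := by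
    intro x hx
    rw [Subgroup.mem_centralizer_iff]
    intro y hy
    exact hcomm y (hP₀P hy) x hx
  have hr1 : PRankLE p 1 ↥M := prankLE_of_sylIn hP (prankLE_one_of_isCyclic p)
  -- the action of `P` on `Q`
  have hPQ : P ≤ Subgroup.normalizer
      ((sigmaCore M ⊓ Subgroup.centralizer (P₀ : Set G) : Subgroup G) : Set G) := by
    intro x hx
    apply mem_normalizer_inf (le_normalizer_sigmaCore M (hPM hx))
    exact BG7.normalizer_le_normalizer_centralizer P₀
      (Subgroup.centralizer_le_normalizer _ (hPC₀ hx))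
  have hcop : (Nat.card ↥P).Coprime
      (Nat.card ↥(sigmaCore M ⊓ Subgroup.centralizer (P₀ : Set G) : Subgroup G)) := by
    obtain ⟨k, hk⟩ := IsPGroup.iff_card.mp hPp
    rw [hk]
    apply Nat.Coprime.pow_left
    rw [Nat.Prime.coprime_iff_not_dvd hp.out]
    intro hd
    exact hpσ ((sigmaCore_hall hG hM).1.2.1 p hp.out (hd.trans (Subgroup.card_dvd_of_le inf_le_left)))
  have hPsolv : Group.IsSolvable ↥P := solvable_of_ne_top hG (ne_top_of_le_ne_top hM.1 hPM)
  have hstab := coprime_commutator_stable P (sigmaCore M ⊓ Subgroup.centralizer (P₀ : Set G))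
    hPQ hcop (Or.inl hPsolv)
  set Q := sigmaCore M ⊓ Subgroup.centralizer (P₀ : Set G) with hQ
  rw [← Subgroup.commutator_eq_bot_iff_le_centralizer]
  have hRQ : ⁅Q, P⁆ ≤ Q := commutator_le_left_of_le_normalizer Q P hPQ
  have hRM : ⁅Q, P⁆ ≤ sigmaCore M := hRQ.trans inf_le_left
  have hPR : P ≤ Subgroup.normalizer ((⁅Q, P⁆ : Subgroup G) : Set G) :=
    le_normalizer_commutator_right Q P hPQ
  -- the maximal subgroup `H ⊇ N(P₀)`
  have hP₀top : P₀ ≠ ⊤ := fun h => hM.1 (eq_top_iff.mpr (h ▸ hP₀P.trans hPM))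
  obtain ⟨H, hH, hNH⟩ := exists_coatom_ge (normalizer_ne_top hG hP₀1 hP₀top)
  have hCH : Subgroup.centralizer (P₀ : Set G) ≤ H :=
    (Subgroup.centralizer_le_normalizer _).trans hNH
  have hQH : Q ≤ H := inf_le_right.trans hCH
  have hPH : P ≤ H := hPC₀.trans hCH
  have hncH : ∀ g : G, H ≠ cj g M := by
    intro g hg
    have hMg : IsCoatom (cj g M) := isCoatom_cj hM g
    have h := lemma_12_2a hG hMg hP₀p hP₀1 (hg ▸ hNH)
    rw [sigma_cj, tau2_cj] at h
    rcases h with h | h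
    · exact hpσ h
    · exact h.2.2.2 hr1
  -- it suffices to find a maximal subgroup `L ∋ R, P` with `p ∈ σ(L)`, not conjugate to `M`
  have key : ∀ L : Subgroup G, IsCoatom L → p ∈ sigma L → ⁅Q, P⁆ ≤ L → P ≤ L → ⁅Q, P⁆ = ⊥ := by
    intro L hL hpL hRL hPL
    have hncL : ∀ g : G, L ≠ cj g M := by
      intro g hg
      rw [hg, sigma_cj] at hpL
      exact hpσ hpL
    have hRL' : ⁅Q, P⁆ ≤ ⁅L, L⁆ := by
      rw [← hstab]
      exact Subgroup.commutator_mono hRL hPL
    have h1 := le_centralizer_of_sigma hG hL hM hncL hpL hpσ hPL hPp hRL' hRM hPR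
    rw [← Subgroup.commutator_eq_bot_iff_le_centralizer, hstab] at h1
    exact h1
  rcases lemma_12_2a hG hH hP₀p hP₀1 hNH with hpH | hτ
  · exact key H hH hpH (commutator_le_left_of_le_normalizer Q P hPQ |>.trans hQH) hPH
  · -- `p ∈ τ₂(H)`
    obtain ⟨A₀, hA₀H, hA₀e, hA₀c⟩ := exists_elementary_of_not_pRankLE hτ.2.2.2
    have hA₀2 : Nat.card A₀ = p ^ 2 :=
      card_eq_sq hA₀e hA₀c (fun h => not_pRankLE_of_elementary hA₀H hA₀e h hτ.2.2.1)
    obtain ⟨hnil, -⟩ := h1417 H hH p hτ A₀ ⟨hA₀H, hA₀e, hA₀2⟩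
    have hdisj : ∀ r : ℕ, r.Prime → r ∣ Nat.card (sigmaCore H) → r ∉ sigma M := by
      intro r hr hrd hrM
      haveI : Fact r.Prime := ⟨hr⟩
      exact (sigma_disjoint hG hH hM hncH ((sigmaCore_hall hG hH).1.2.1 r hr hrd) hrM).2 hnil
    have hpH : p ∉ sigma H := hτ.2.1
    -- a complement `E_H` containing `Q P`
    have hQPH : Q ⊔ P ≤ H := sup_le hQH hPH
    have hcop2 : (Nat.card ↥(Q ⊔ P : Subgroup G)).Coprime (Nat.card (sigmaCore H)) := by
      apply Nat.coprime_of_dvd
      intro r hr hr1 hr2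
      have h3 : Nat.card ↥(Q ⊔ P : Subgroup G) ∣ Nat.card ↥Q * Nat.card ↥P := by
        have := card_sup_mul_card_inf P Q hPQ
        rw [sup_comm] at this
        rw [mul_comm (Nat.card ↥Q)]
        exact Dvd.intro _ this
      rcases (Nat.Prime.dvd_mul hr).mp (hr1.trans h3) with h4 | h4
      · exact hdisj r hr hr2 ((sigmaCore_hall hG hM).1.2.1 r hr
          (h4.trans (Subgroup.card_dvd_of_le inf_le_left)))
      · obtain ⟨k, hk⟩ := IsPGroup.iff_card.mp hPp
        rw [hk] at h4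
        have : r = p := (Nat.prime_dvd_prime_iff_eq hr hp.out).mp (hr.dvd_of_dvd_pow h4)
        rw [this] at hr2
        exact hpH ((sigmaCore_hall hG hH).1.2.1 p hp.out hr2)
    obtain ⟨EH, hEH, hQPE⟩ := exists_complIn_ge hG hH hQPH hcop2
    have hPE : P ≤ EH := le_sup_right.trans hQPE
    have hQE : Q ≤ EH := le_sup_left.trans hQPE
    obtain ⟨T, hPT, hT⟩ := exists_sylIn_ge hPE hPp
    -- `T` is a Sylow subgroup of `H`
    have hTH : SylIn p H T := by
      refine ⟨hT.1.trans hEH.1, hT.2.1, ?_⟩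
      rw [← Subgroup.relIndex_mul_relIndex T EH H hT.1 hEH.1]
      intro hd
      rcases (Nat.Prime.dvd_mul hp.out).mp hd with h4 | h4
      · exact hT.2.2 h4
      · have h5 : EH.relIndex H = Nat.card (sigmaCore H) := by
          have h6 : Nat.card ↥EH * EH.relIndex H = Nat.card ↥H := by
            rw [← Subgroup.relIndex_bot_left, ← Subgroup.relIndex_bot_left,
              Subgroup.relIndex_mul_relIndex ⊥ EH H bot_le hEH.1]
          have h7 : Nat.card (sigmaCore H) * (sigmaCore H).relIndex H = Nat.card ↥H := by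
            rw [← Subgroup.relIndex_bot_left, ← Subgroup.relIndex_bot_left,
              Subgroup.relIndex_mul_relIndex ⊥ (sigmaCore H) H bot_le (sigmaCore_le H)]
          rw [← card_complIn_sigmaCore hEH, mul_comm] at h7
          exact Nat.eq_of_mul_eq_mul_left Nat.card_pos (h6.trans h7.symm)
        rw [h5] at h4
        exact hpH ((sigmaCore_hall hG hH).1.2.1 p hp.out h4)
    obtain ⟨c, -, hcA⟩ := hTH.exists_conj_le hA₀H (isPGroup_of_elementary hA₀e)
    have hAe : IsElementaryAbelian p (cj c A₀) := isElementaryAbelian_map hA₀e _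
    have hA2 : Nat.card (cj c A₀) = p ^ 2 := by rw [card_cj]; exact hA₀2
    have hAE : cj c A₀ ≤ EH := hcA.trans hT.1
    have hEN := (h1418 H hH EH hEH p hτ (cj c A₀) ⟨hAE, hAe, hA2⟩).1.1
    have hTab := (h1417.sylIn hH hτ (hAE.trans hEH.1) hAe hA2 hTH).1
    -- `P` centralizes `A'`
    have hPA : ⁅P, cj c A₀⁆ = ⊥ := by
      rw [Subgroup.commutator_eq_bot_iff_le_centralizer]
      intro x hx
      rw [Subgroup.mem_centralizer_iff]
      intro a ha
      have := hTab.is_comm.comm ⟨a, hcA ha⟩ ⟨x, hPT hx⟩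
      exact congrArg Subtype.val this
    have h3 : ⁅⁅Q, P⁆, cj c A₀⁆ = ⊥ := by
      apply Subgroup.commutator_commutator_eq_bot_of_rotate
      · rw [hPA, Subgroup.commutator_bot_left]
      · have h4 : ⁅cj c A₀, Q⁆ ≤ cj c A₀ :=
          commutator_le_left_of_le_normalizer _ _ (hQE.trans hEN)
        rw [eq_bot_iff, ← hPA, Subgroup.commutator_comm P]
        exact Subgroup.commutator_mono h4 le_rfl
    rw [Subgroup.commutator_eq_bot_iff_le_centralizer] at h3
    -- the maximal subgroup `L ⊇ N(A')`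
    have hA1 : cj c A₀ ≠ ⊥ := by
      intro h0
      rw [h0, Subgroup.card_bot] at hA2
      have := Nat.one_lt_pow (n := 2) (by norm_num) hp.out.one_lt
      omega
    have hAtop : cj c A₀ ≠ ⊤ := fun h => hH.1 (eq_top_iff.mpr (h ▸ hAE.trans hEH.1))
    obtain ⟨L, hL, hNL⟩ := exists_coatom_ge (normalizer_ne_top hG hA1 hAtop)
    have hpL := mem_sigma_of_normalizer_le hG h1417 hL hAe hA2 hNL
    have hCL : Subgroup.centralizer ((cj c A₀ : Subgroup G) : Set G) ≤ L :=
      (Subgroup.centralizer_le_normalizer _).trans hNL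
    have hPL : P ≤ L := by
      rw [Subgroup.commutator_eq_bot_iff_le_centralizer] at hPA
      exact hPA.trans hCL
    exact key L hL hpL (h3.trans hCL) hPL

end Cfsg.Agent.Lib.Helper4.BG13
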