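import Mathlib
import Cfsg.Agent.Lib.Helper4.BG13l

set_option autoImplicit false
set_option linter.style.haveILetI false
set_option linter.unusedSectionVars false

/-! Glue for S1427. -/

namespace Cfsg.Agent.Lib.Helper4.BG13

open Cfsg Cfsg.Agent.Lib.Lead Cfsg.Agent.Lib.Lead.BG10 Cfsg.Agent.Lib.Helper7 Cfsg.Agent.Lib.Helper4
open Cfsg.Agent.Lib.Helper4.BG76 Cfsg.Agent.Lib.Helper4.BG8 Cfsg.Agent.Lib.Helper4.BG9
open Cfsg.Agent.Lib.Helper4.BG7 Cfsg.Agent.Lib.Helper4.BG12 Cfsg.Agent.Lib.Helper4.BGConj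
open scoped commutatorElement

universe u

variable {G : Type u} [Group G] [Finite G]

/-- the index of a complement of `M_σ` in `M` -/
theorem relIndex_complIn_sigmaCore {M E : Subgroup G} (hE : IsComplIn E (sigmaCore M) M) :
    E.relIndex M = Nat.card (sigmaCore M) := by
  have h6 : Nat.card ↥E * E.relIndex M = Nat.card ↥M := by
    rw [← Subgroup.relIndex_bot_left, ← Subgroup.relIndex_bot_left,
      Subgroup.relIndex_mul_relIndex ⊥ E M bot_le hE.1]
  have h7 : Nat.card (sigmaCore M) * (sigmaCore M).relIndex M = Nat.card ↥M := by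
    rw [← Subgroup.relIndex_bot_left, ← Subgroup.relIndex_bot_left,
      Subgroup.relIndex_mul_relIndex ⊥ (sigmaCore M) M bot_le (sigmaCore_le M)]
  rw [← card_complIn_sigmaCore hE, mul_comm] at h7
  exact Nat.eq_of_mul_eq_mul_left Nat.card_pos (h6.trans h7.symm)

/-- a Sylow subgroup of a complement of `M_σ` is a Sylow subgroup of `M` (for a prime outside
`σ(M)`) -/
theorem sylIn_of_sylIn_compl (hG : IsMinSimpleOddOrder G) {M E : Subgroup G} (hM : IsCoatom M)
    (hE : IsComplIn E (sigmaCore M) M) {p : ℕ} [hp : Fact p.Prime] (hpσ : p ∉ sigma M)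
    {T : Subgroup G} (hT : SylIn p E T) : SylIn p M T := by
  refine ⟨hT.1.trans hE.1, hT.2.1, ?_⟩
  rw [← Subgroup.relIndex_mul_relIndex T E M hT.1 hE.1]
  intro hd
  rcases (Nat.Prime.dvd_mul hp.out).mp hd with h4 | h4
  · exact hT.2.2 h4
  · rw [relIndex_complIn_sigmaCore hE] at h4
    exact hpσ ((sigmaCore_hall hG hM).1.2.1 p hp.out h4)

theorem s1427_of (hG : IsMinSimpleOddOrder G) (h1417 : T1417 G) (h1418 : T1418 G)
    (M : Subgroup G) (hM : IsCoatom M) (E : Subgroup G) (hE : Cfsg.IsComplIn E (Cfsg.sigmaCore M) M)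
    (p : ℕ) [hp : Fact p.Prime] (S : Sylow p E) (hS1 : (S : Subgroup E) ≠ ⊥)
    (hSc : IsCyclic (S : Subgroup E)) :
    ∀ x ∈ (S : Subgroup E).map E.subtype, x ≠ 1 →
        Cfsg.sigmaCore M ⊓ Subgroup.centralizer ({x} : Set G) =
          Cfsg.sigmaCore M ⊓
            Subgroup.centralizer (((S : Subgroup E).map E.subtype : Subgroup G) : Set G) := by
  classical
  intro x hx hx1
  have hSE : SylIn p E ((S : Subgroup E).map E.subtype) := sylIn_map_sylow S
  have hpE : p ∣ Nat.card ↥E := by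
    have h1 : Nat.card ↥(S : Subgroup ↥E) ≠ 1 := fun h => hS1 (Subgroup.card_eq_one.mp h)
    obtain ⟨k, hk⟩ := IsPGroup.iff_card.mp S.isPGroup'
    have hk0 : k ≠ 0 := by
      rintro rfl
      exact h1 (by rw [hk, pow_zero])
    exact (dvd_pow_self p hk0).trans (hk ▸ Subgroup.card_subgroup_dvd_card _)
  have hpσ : p ∉ sigma M := not_sigma_of_dvd_card_compl hG hM hE hp.out hpE
  have hSM := sylIn_of_sylIn_compl hG hM hE hpσ hSE
  have hcyc : IsCyclic ↥((S : Subgroup E).map E.subtype) :=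
    isCyclic_of_surjective ((S : Subgroup E).equivMapOfInjective E.subtype
      E.subtype_injective).toMonoidHom (MulEquiv.surjective _)
  -- a subgroup of order `p` of `⟨x⟩`
  have hxp : IsPGroup p ↥(Subgroup.zpowers x) := hSE.2.1.to_le (Subgroup.zpowers_le.mpr hx)
  have hpx : p ∣ Nat.card ↥(Subgroup.zpowers x) := by
    obtain ⟨k, hk⟩ := IsPGroup.iff_card.mp hxp
    have hk0 : k ≠ 0 := by
      rintro rfl
      rw [pow_zero, Nat.card_zpowers, orderOf_eq_one_iff] at hk
      exact hx1 hk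
    rw [hk]
    exact dvd_pow_self p hk0
  obtain ⟨y, hy⟩ := exists_prime_orderOf_dvd_card' p hpx
  have hP₀c : Nat.card ↥(Subgroup.zpowers (y : G)) = p := by
    rw [Nat.card_zpowers, Subgroup.orderOf_coe, hy]
  have hP₀x : Subgroup.zpowers (y : G) ≤ Subgroup.zpowers x := Subgroup.zpowers_le.mpr y.2
  have hcore := primact_core hG h1417 h1418 hM hpσ hSM hcyc
    (hP₀x.trans (Subgroup.zpowers_le.mpr hx)) hP₀c
  apply le_antisymm
  · apply le_inf inf_le_left
    refine le_trans (le_inf inf_le_left ?_) hcore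
    refine inf_le_right.trans ?_
    rw [← centralizer_zpowers x]
    exact Subgroup.centralizer_le hP₀x
  · apply le_inf inf_le_left
    refine inf_le_right.trans (Subgroup.centralizer_le ?_)
    intro z hz
    rw [Set.mem_singleton_iff] at hz
    rw [hz]
    exact hx

end Cfsg.Agent.Lib.Helper4.BG13
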