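import Mathlib
import Cfsg.Agent.Lib.Lead.BG11d
import Cfsg.Agent.Lib.Helper2.BG12g

set_option autoImplicit false

/-! Bender–Glauberman, Section 14 preliminaries: the complement `U` in the factorisation
`M = K U M_σ`; an automorphism argument for groups of order `p ^ 2`. -/

namespace Cfsg.Agent.Lib.Helper4.BG14

open Cfsg Cfsg.Agent.Lib.Lead Cfsg.Agent.Lib.Lead.BG10 Cfsg.Agent.Lib.Lead.BG11
open Cfsg.Agent.Lib.Helper7 Cfsg.Agent.Lib.Helper4
open Cfsg.Agent.Lib.Helper4.BG7 Cfsg.Agent.Lib.Helper4.BG76 Cfsg.Agent.Lib.Helper4.BG8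
open Cfsg.Agent.Lib.Helper4.BG9 Cfsg.Agent.Lib.Helper4.BG12 Cfsg.Agent.Lib.Helper4.BGConj

universe u

variable {G : Type u} [Group G]

/-- if `z` normalizes `A` of order `p ^ 2` (`p` odd) and `z ^ q` centralizes `A` for a prime
`q > p`, then `z` centralizes `A` -/
theorem centralizes_of_pow_prime_odd {p q : ℕ} [hp : Fact p.Prime] [hq : Fact q.Prime]
    (hp2 : p ≠ 2) (hpq : p < q) {A : Subgroup G} (hA : Nat.card A = p ^ 2) {z : G}
    (hzA : z ∈ Subgroup.normalizer (A : Set G))
    (hzq : ∀ a ∈ A, z ^ q * a = a * z ^ q) : ∀ a ∈ A, z * a = a * z := by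
  classical
  have hAfin : Finite A := Nat.finite_of_card_ne_zero (by rw [hA]; exact pow_ne_zero 2 hp.out.pos.ne')
  haveI : Fintype A := Fintype.ofFinite A
  have hconj : ∀ a ∈ A, z * a * z⁻¹ ∈ A := fun a ha =>
    (Subgroup.mem_normalizer_iff.mp hzA a).mp ha
  let f : Function.End A := fun a => ⟨z * a * z⁻¹, hconj a a.2⟩
  have hiter : ∀ (n : ℕ) (a : A), (((f ^ n) a : A) : G) = z ^ n * a * (z ^ n)⁻¹ := by
    intro n
    induction n with
    | zero =>
      intro a
      rw [pow_zero, pow_zero]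
      show (a : G) = 1 * a * 1⁻¹
      group
    | succ n ih =>
      intro a
      rw [pow_succ']
      show z * ((f ^ n) a : A) * z⁻¹ = _
      rw [ih, pow_succ']
      group
  have hf : f ^ q ^ 1 = 1 := by
    rw [pow_one]
    funext a
    apply Subtype.ext
    rw [hiter]
    have := hzq a a.2
    show z ^ q * a * (z ^ q)⁻¹ = a
    rw [this]; group
  have hmod := Equiv.Perm.card_fixedPoints_modEq (p := q) (n := 1) hf
  set F : Subgroup G := A ⊓ Subgroup.centralizer ({z} : Set G) with hF
  have hfix : ∀ a : A, a ∈ Function.fixedPoints f ↔ (a : G) ∈ F := by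
    intro a
    rw [Function.mem_fixedPoints, Function.IsFixedPt]
    constructor
    · intro h
      have h' : z * (a : G) * z⁻¹ = a := congrArg Subtype.val h
      refine Subgroup.mem_inf.mpr ⟨a.2, ?_⟩
      rw [Subgroup.mem_centralizer_iff]
      intro g hg
      rw [Set.mem_singleton_iff] at hg; subst hg
      calc g * (a : G) = g * a * g⁻¹ * g := by group
        _ = a * g := by rw [h']
    · intro h
      have h2 := Subgroup.mem_centralizer_iff.mp (Subgroup.mem_inf.mp h).2 z (Set.mem_singleton z)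
      apply Subtype.ext
      show z * (a : G) * z⁻¹ = a
      rw [h2]; group
  have hcardfix : Fintype.card (Function.fixedPoints f) = Nat.card F := by
    rw [← Nat.card_eq_fintype_card]
    apply Nat.card_congr
    refine ⟨fun a => ⟨(a.1 : G), (hfix a.1).mp a.2⟩,
      fun b => ⟨⟨b.1, (Subgroup.mem_inf.mp b.2).1⟩, (hfix _).mpr b.2⟩, ?_, ?_⟩
    · intro a; rfl
    · intro b; rfl
  rw [hcardfix, ← Nat.card_eq_fintype_card, hA] at hmod
  have hFA : F ≤ A := inf_le_left
  haveI : Finite F := Finite.of_injective (Subgroup.inclusion hFA) (Subgroup.inclusion_injective hFA)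
  have hd1 : Nat.card F ∣ p ^ 2 := hA ▸ Subgroup.card_dvd_of_le hFA
  obtain ⟨k, hk, hFk⟩ := (Nat.dvd_prime_pow hp.out).mp hd1
  have hp1 : 1 < p := hp.out.one_lt
  have hp3 : 3 ≤ p := by
    have := hp.out.two_le
    omega
  have hk2 : k = 2 := by
    by_contra hne
    have hk' : k = 0 ∨ k = 1 := by omega
    rcases hk' with hk' | hk'
    · rw [hFk, hk', pow_zero] at hmod
      -- `q ∣ p ^ 2 - 1 = (p - 1) (p + 1)`
      have h1 : q ∣ p ^ 2 - 1 := (Nat.modEq_iff_dvd' (by nlinarith)).mp hmod.symm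
      have h2 : p ^ 2 - 1 = (p - 1) * (p + 1) := by
        obtain ⟨m, rfl⟩ : ∃ m, p = m + 1 := ⟨p - 1, by omega⟩
        simp only [Nat.add_sub_cancel]
        rw [show (m + 1) ^ 2 - 1 = m * (m + 1 + 1) by
          have : (m + 1) ^ 2 = m * (m + 1 + 1) + 1 := by ring
          omega]
      rw [h2] at h1
      rcases (Nat.Prime.dvd_mul hq.out).mp h1 with h3 | h3
      · have := Nat.le_of_dvd (by omega) h3
        omega
      · have h4 := Nat.le_of_dvd (by omega) h3
        have h5 : q = p + 1 := by omega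
        -- `p` odd so `p + 1` even
        have hpodd : ¬ 2 ∣ p := fun h =>
          hp2 ((Nat.prime_dvd_prime_iff_eq Nat.prime_two hp.out).mp h).symm
        have h6 : 2 ∣ q := by rw [h5]; omega
        have h7 := (Nat.prime_dvd_prime_iff_eq Nat.prime_two hq.out).mp h6
        omega
    · rw [hFk, hk', pow_one] at hmod
      have h1 : q ∣ p ^ 2 - p := (Nat.modEq_iff_dvd' (by nlinarith)).mp hmod.symm
      have h2 : p ^ 2 - p = p * (p - 1) := by
        rw [Nat.mul_sub_one, sq]
      rw [h2] at h1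
      rcases (Nat.Prime.dvd_mul hq.out).mp h1 with h3 | h3
      · have := Nat.le_of_dvd hp.out.pos h3
        omega
      · have := Nat.le_of_dvd (by omega) h3
        omega
  have hFeq : F = A := by
    apply Subgroup.eq_of_le_of_card_ge hFA
    rw [hFk, hk2, hA]
  intro a ha
  have : a ∈ F := hFeq ▸ ha
  exact Subgroup.mem_centralizer_iff.mp (Subgroup.mem_inf.mp this).2 z (Set.mem_singleton z)

/-- an element normalizing `A` of order `p ^ 2` (`p` odd), all of whose prime divisors exceed `p`,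
centralizes `A` -/
theorem centralizes_of_primes_gt {p : ℕ} [hp : Fact p.Prime] (hp2 : p ≠ 2) {A : Subgroup G}
    (hA : Nat.card A = p ^ 2) :
    ∀ (n : ℕ) (z : G), orderOf z = n → 0 < n → z ∈ Subgroup.normalizer (A : Set G) →
      (∀ q : ℕ, q.Prime → q ∣ n → p < q) → ∀ a ∈ A, z * a = a * z := by
  intro n
  induction n using Nat.strong_induction_on with
  | _ n ih =>
    intro z hzn hn hzA hq a ha
    by_cases h1 : n = 1
    · have : z = 1 := orderOf_eq_one_iff.mp (hzn.trans h1)
      rw [this, one_mul, mul_one]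
    · obtain ⟨q, hqp, hqd⟩ := Nat.exists_prime_and_dvd h1
      haveI : Fact q.Prime := ⟨hqp⟩
      have hlt : p < q := hq q hqp hqd
      have ho : orderOf (z ^ q) = n / q := by
        rw [← hzn, orderOf_pow_of_dvd hqp.pos.ne' (hzn ▸ hqd)]
      have hzq : ∀ b ∈ A, z ^ q * b = b * z ^ q := by
        apply ih (n / q) (Nat.div_lt_self hn hqp.one_lt) (z ^ q) ho
          (Nat.div_pos (Nat.le_of_dvd hn hqd) hqp.pos) (Subgroup.pow_mem _ hzA q)
        intro q' hq'p hq'd
        exact hq q' hq'p (hq'd.trans (Nat.div_dvd_of_dvd hqd))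
      exact centralizes_of_pow_prime_odd hp2 hlt hA hzA hzq a ha

end Cfsg.Agent.Lib.Helper4.BG14
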