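import Mathlib
import Cfsg.Agent.Lib.Helper4.BG14a
import Cfsg.Agent.Lib.Helper4.BG13f
import Cfsg.Agent.Lib.Lead.BG10h

set_option autoImplicit false

/-! Bender–Glauberman, Section 14 preliminaries: subgroups of `U` (in `M = K U M_σ`) with fixed
points on `M_σ` are `τ₂(M)`-groups and their centralizers lie in a unique maximal subgroup. -/

namespace Cfsg.Agent.Lib.Helper4.BG14

open Cfsg Cfsg.Agent.Lib.Lead Cfsg.Agent.Lib.Lead.BG10 Cfsg.Agent.Lib.Lead.BG11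
open Cfsg.Agent.Lib.Helper7 Cfsg.Agent.Lib.Helper4
open Cfsg.Agent.Lib.Helper4.BG7 Cfsg.Agent.Lib.Helper4.BG76 Cfsg.Agent.Lib.Helper4.BG8
open Cfsg.Agent.Lib.Helper4.BG9 Cfsg.Agent.Lib.Helper4.BG12 Cfsg.Agent.Lib.Helper4.BGConj
open Cfsg.Agent.Lib.Helper4.BG13 Cfsg.Agent.Lib.Helper2.BG11 Cfsg.Agent.Lib.Helper2.BG12

universe u

variable {G : Type u} [Group G] [Finite G]

/-- the order of `M` is the product of the orders of two complementary subgroups -/
theorem card_mul_of_isComplIn {A B M : Subgroup G} (h : IsComplIn A B M) :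
    Nat.card M = Nat.card A * Nat.card B := by
  rw [← Nat.card_prod]
  symm
  apply Nat.card_congr
  refine Equiv.ofBijective
    (fun x : A × B => (⟨x.1.1 * x.2.1, M.mul_mem (h.1 x.1.2) (h.2.1 x.2.2)⟩ : M)) ⟨?_, ?_⟩
  · rintro ⟨⟨a, ha⟩, ⟨b, hb⟩⟩ ⟨⟨a', ha'⟩, ⟨b', hb'⟩⟩ heq
    have e : a * b = a' * b' := congrArg Subtype.val heq
    have h0 : a'⁻¹ * a = b' * b⁻¹ := by
      calc a'⁻¹ * a = a'⁻¹ * (a * b) * b⁻¹ := by group
        _ = a'⁻¹ * (a' * b') * b⁻¹ := by rw [e]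
        _ = b' * b⁻¹ := by group
    have h1 : a'⁻¹ * a ∈ A ⊓ B :=
      ⟨A.mul_mem (A.inv_mem ha') ha, by rw [h0]; exact B.mul_mem hb' (B.inv_mem hb)⟩
    rw [h.2.2.1, Subgroup.mem_bot] at h1
    have h2 : a = a' := by
      calc a = a' * (a'⁻¹ * a) := by group
        _ = a' := by rw [h1, mul_one]
    have h3 : b = b' := by
      rw [h2] at e
      exact mul_left_cancel e
    subst h2; subst h3; rfl
  · rintro ⟨m, hm⟩
    obtain ⟨a, ha, b, hb, rfl⟩ := h.2.2.2 m hm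
    exact ⟨(⟨a, ha⟩, ⟨b, hb⟩), rfl⟩

variable {M K U : Subgroup G}

theorem sd_U_le (h : IsSigmaDecomposition M K U) : U ≤ M := h.compl.1

theorem sd_U_inf_sigmaCore (h : IsSigmaDecomposition M K U) :
    U ⊓ sigmaCore M = ⊥ := by
  rw [eq_bot_iff, ← h.compl.2.2.1]
  exact inf_le_inf_left _ le_sup_right

/-- no prime of `σ(M)` divides the order of `U` -/
theorem sd_not_sigma (h : IsSigmaDecomposition M K U)
    (hG : IsMinSimpleOddOrder G) (hM : IsCoatom M) {p : ℕ} (hp : p.Prime)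
    (hd : p ∣ Nat.card U) : p ∉ sigma M := by
  intro hpσ
  haveI : Fact p.Prime := ⟨hp⟩
  obtain ⟨x, hx⟩ := exists_prime_orderOf_dvd_card' p hd
  have hzp : IsPGroup p ↥(Subgroup.zpowers (x : G)) := by
    apply IsPGroup.of_card (n := 1)
    rw [Nat.card_zpowers, Subgroup.orderOf_coe, hx, pow_one]
  have h1 : Subgroup.zpowers (x : G) ≤ sigmaCore M :=
    le_sigmaCore_of_isPGroup hG hM hpσ (Subgroup.zpowers_le.mpr (sd_U_le h x.2)) hzp
  have h2 : (x : G) ∈ U ⊓ sigmaCore M := ⟨x.2, h1 (Subgroup.mem_zpowers _)⟩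
  rw [sd_U_inf_sigmaCore h, Subgroup.mem_bot] at h2
  have h3 : x = 1 := Subtype.ext h2
  rw [h3, orderOf_one] at hx
  exact hp.one_lt.ne hx

/-- no prime of `κ(M)` divides the order of `U` -/
theorem sd_not_kappa (h : IsSigmaDecomposition M K U)
    {p : ℕ} (hp : p.Prime) (hd : p ∣ Nat.card U) : p ∉ kappa M := by
  intro hpκ
  have h1 : ¬ p ∣ K.relIndex M := h.hall.2.2 p hp hpκ
  apply h1
  have hKle : K ≤ K ⊔ sigmaCore M := le_sup_left
  have h2 : (K ⊔ sigmaCore M).relIndex M = Nat.card U := by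
    have h3 := card_mul_of_isComplIn h.compl
    have h4 : Nat.card ↥(K ⊔ sigmaCore M) * (K ⊔ sigmaCore M).relIndex M = Nat.card M := by
      have := Subgroup.relIndex_mul_relIndex ⊥ (K ⊔ sigmaCore M) M bot_le h.compl.2.1
      rwa [Subgroup.relIndex_bot_left, Subgroup.relIndex_bot_left] at this
    have hpos : 0 < Nat.card ↥(K ⊔ sigmaCore M) := Nat.card_pos
    apply Nat.eq_of_mul_eq_mul_left hpos
    rw [h4, h3, mul_comm]
  rw [← Subgroup.relIndex_mul_relIndex K (K ⊔ sigmaCore M) M hKle h.compl.2.1, h2]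
  exact Dvd.dvd.mul_left hd _

/-- a prime `p ∉ σ(M)` of `p`-rank one in `M` with an element of order `p` centralizing a
non-identity element of `M_σ` lies in `κ(M)` -/
theorem mem_kappa_of_fixed (hG : IsMinSimpleOddOrder G) (hM : IsCoatom M) {p : ℕ}
    [hp : Fact p.Prime] (hpσ : p ∉ sigma M) (hr1 : PRankLE p 1 ↥M) {x y : G} (hxM : x ∈ M)
    (hxo : orderOf x = p) (hy : y ∈ sigmaCore M) (hy1 : y ≠ 1) (hxy : x * y = y * x) :
    p ∈ kappa M := by
  have hpM : p ∣ Nat.card ↥M := by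
    rw [← hxo]
    have := orderOf_dvd_natCard (⟨x, hxM⟩ : ↥M)
    rwa [Subgroup.orderOf_mk] at this
  refine ⟨hp.out, hpM, hpσ, ?_⟩
  intro P
  refine ⟨BG10.isCyclic_sylow_of_pRankLE_one (odd_card_sub hG M) hr1 P, ?_⟩
  set x' : ↥M := ⟨x, hxM⟩ with hx'
  have hzp : IsPGroup p ↥(Subgroup.zpowers x') := by
    apply IsPGroup.of_card (n := 1)
    rw [Nat.card_zpowers, hx', Subgroup.orderOf_mk, hxo, pow_one]
  obtain ⟨P₀, hP₀⟩ := hzp.exists_le_sylow
  obtain ⟨g, hg⟩ := MulAction.exists_smul_eq ↥M P₀ P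
  have hx1 : x ≠ 1 := by
    intro h0
    rw [h0, orderOf_one] at hxo
    exact hp.out.one_lt.ne hxo
  refine ⟨g * x' * g⁻¹, ?_, ?_, (g : G) * y * (g : G)⁻¹, ?_, ?_, ?_⟩
  · rw [← hg, Sylow.coe_subgroup_smul, Subgroup.mem_pointwise_smul_iff_inv_smul_mem]
    have h2 : (MulAut.conj g)⁻¹ • (g * x' * g⁻¹) = x' := by
      rw [← map_inv, MulAut.smul_def, MulAut.conj_apply]
      group
    rw [h2]
    exact hP₀ (Subgroup.mem_zpowers x')
  · intro h0
    apply hx1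
    have h3 : x' = 1 := by
      have : x' = g⁻¹ * (g * x' * g⁻¹) * g := by group
      rw [this, h0]; group
    exact congrArg Subtype.val h3
  · exact (Subgroup.mem_normalizer_iff.mp (le_normalizer_sigmaCore M g.2) y).mp hy
  · intro h0
    apply hy1
    calc y = (g : G)⁻¹ * ((g : G) * y * (g : G)⁻¹) * g := by group
      _ = 1 := by rw [h0]; group
  · show (g : G) * x * (g : G)⁻¹ * ((g : G) * y * (g : G)⁻¹) =
      (g : G) * y * (g : G)⁻¹ * ((g : G) * x * (g : G)⁻¹)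
    calc (g : G) * x * (g : G)⁻¹ * ((g : G) * y * (g : G)⁻¹) = g * (x * y) * (g : G)⁻¹ := by group
      _ = g * (y * x) * (g : G)⁻¹ := by rw [hxy]
      _ = _ := by group

/-- every prime dividing the order of a subgroup `X ≤ U` with `C_{M_σ}(X) ≠ 1` lies in `τ₂(M)` -/
theorem sd_mem_tau2 (h : IsSigmaDecomposition M K U)
    (hG : IsMinSimpleOddOrder G) (hM : IsCoatom M) {X : Subgroup G} (hXU : X ≤ U)
    (hXc : sigmaCore M ⊓ Subgroup.centralizer (X : Set G) ≠ ⊥) {p : ℕ} (hp : p.Prime)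
    (hd : p ∣ Nat.card X) : p ∈ tau2 M := by
  haveI : Fact p.Prime := ⟨hp⟩
  have hdU : p ∣ Nat.card U := hd.trans (Subgroup.card_dvd_of_le hXU)
  have hpσ : p ∉ sigma M := sd_not_sigma h hG hM hp hdU
  have hpκ : p ∉ kappa M := sd_not_kappa h hp hdU
  have hr2 : PRankLE p 2 ↥M := by
    by_contra h0
    exact hpσ (alpha_subset_sigma hG hM ((alpha_mem_iff hp).mpr h0))
  refine ⟨hp, hpσ, hr2, ?_⟩
  intro hr1
  apply hpκ
  obtain ⟨x, hx⟩ := exists_prime_orderOf_dvd_card' p hd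
  obtain ⟨⟨y, hy⟩, hy1⟩ := (Subgroup.ne_bot_iff_exists_ne_one).mp hXc
  have hy1' : y ≠ 1 := fun h0 => hy1 (Subtype.ext h0)
  have hxy : (x : G) * y = y * x :=
    (Subgroup.mem_centralizer_iff.mp hy.2 (x : G) x.2)
  exact mem_kappa_of_fixed hG hM hpσ hr1 (sd_U_le h (hXU x.2))
    (by rw [Subgroup.orderOf_coe]; exact hx) hy.1 hy1' hxy

end Cfsg.Agent.Lib.Helper4.BG14
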