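import Mathlib
import Cfsg.Agent.S1545
import Cfsg.Agent.Lib.Helper4.ZP19
import Cfsg.Agent.Lib.Helper4.OmegaOdd
import Cfsg.Agent.Lib.Helper6.SylowIdx
import Cfsg.Agent.Lib.Lead.Frattini
import Cfsg.Agent.Lib.Lead.CoprimeFrattini
import Cfsg.Agent.Lib.Lead.NormalRankTwo
import Cfsg.Agent.Lib.Lead.BG95b
import Cfsg.Agent.Lib.Lead.BG10q
import Cfsg.Agent.Lib.Lead.CoprimeAction2

set_option autoImplicit false
set_option linter.style.haveILetI false
set_option linter.unusedSectionVars false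

/-! A Frobenius group `F R` acting coprimely on a `p`-group `S` (`p` odd) with `C_S(F)` and `C_S(R)`
cyclic, `C_S(F) ≠ 1` centralized by `R`: then `S` is cyclic ("Claim F"). -/

namespace Cfsg.Agent.Lib.Helper4.BG18

open Cfsg Cfsg.Agent.Lib.Lead Cfsg.Agent.Lib.Helper4 Cfsg.Agent.Lib.Lead.BG95 Cfsg.Agent.Lib.Lead.BG10
open scoped commutatorElement

universe u

variable {G : Type u} [Group G] [Finite G]

/-- the action data: `F R` is a Frobenius group (kernel `F = [F, R]`, complement `R`) -/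
structure FrobKer (F R : Subgroup G) : Prop where
  hF1 : F ≠ ⊥
  hR1 : R ≠ ⊥
  hRF : R ≤ Subgroup.normalizer (F : Set G)
  fpf : ∀ e ∈ R, e ≠ 1 → ∀ u ∈ F, e * u = u * e → u = 1
  hFc : ⁅F, R⁆ = F

theorem FrobKer.inf_eq_bot {F R : Subgroup G} (h : FrobKer F R) : F ⊓ R = ⊥ := by
  rw [eq_bot_iff]
  intro x hx
  rw [Subgroup.mem_bot]
  by_contra hx1
  exact hx1 (h.fpf x hx.2 hx1 x hx.1 rfl)

/-- the fixed point formula (S1545) for an invariant subgroup -/
theorem FrobKer.formula {F R : Subgroup G} (h : FrobKer F R) {T : Subgroup G}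
    (hFT : F ≤ Subgroup.normalizer (T : Set G)) (hRT : R ≤ Subgroup.normalizer (T : Set G))
    (hsolv : Group.IsSolvable ↥T) (hcop : (Nat.card ↥T).Coprime (Nat.card ↥(F ⊔ R : Subgroup G))) :
    Nat.card ↥(T ⊓ Subgroup.centralizer ((F ⊔ R : Subgroup G) : Set G)) ^ Nat.card ↥R * Nat.card ↥T =
      Nat.card ↥(T ⊓ Subgroup.centralizer (R : Set G)) ^ Nat.card ↥R *
        Nat.card ↥(T ⊓ Subgroup.centralizer (F : Set G)) := by
  apply Cfsg.Agent.S1545.result F R T h.hF1 h.hR1 h.inf_eq_bot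
  · intro e he u hu
    exact (Subgroup.mem_normalizer_iff.mp (h.hRF he) u).mp hu
  · exact h.fpf
  · intro x hx t ht
    exact (Subgroup.mem_normalizer_iff.mp ((sup_le hFT hRT) hx) t).mp ht
  · exact (Subgroup.disjoint_of_coprime_natCard hcop).eq_bot
  · exact hsolv
  · exact hcop

/-- `F` centralizes every cyclic subgroup normalized by `F` and `R` -/
theorem FrobKer.le_centralizer_of_isCyclic {F R : Subgroup G} (h : FrobKer F R) {T : Subgroup G}
    (hFT : F ≤ Subgroup.normalizer (T : Set G)) (hRT : R ≤ Subgroup.normalizer (T : Set G))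
    (hT : IsCyclic ↥T) : F ≤ Subgroup.centralizer (T : Set G) := by
  rw [← h.hFc, Subgroup.commutator_le]
  intro f hf e he
  exact ZP.comm_mem_centralizer_of_cyclic T hT f e (hFT hf) (hRT he)

/-- a `p`-group of order at most `p` containing a non-identity element has order `p` -/
theorem card_eq_prime_of_le {p : ℕ} [hp : Fact p.Prime] {C : Subgroup G} (hC : IsPGroup p ↥C)
    (hle : Nat.card ↥C ≤ p) {z : G} (hz : z ∈ C) (hz1 : z ≠ 1) : Nat.card ↥C = p := by
  obtain ⟨k, hk⟩ := IsPGroup.iff_card.mp hC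
  have h1 : 1 < Nat.card ↥C := by
    rw [Finite.one_lt_card_iff_nontrivial]
    exact ⟨⟨⟨z, hz⟩, 1, fun h => hz1 (congrArg Subtype.val h)⟩⟩
  rw [hk] at h1 hle ⊢
  have hk0 : k ≠ 0 := by
    rintro rfl
    simp at h1
  have hk1 : k ≤ 1 := by
    by_contra hk2
    push Not at hk2
    have : p ^ 2 ≤ p ^ k := Nat.pow_le_pow_right hp.out.pos hk2
    have h3 : p < p ^ 2 := by
      have := hp.out.one_lt
      nlinarith
    omega
  have : k = 1 := by omega
  rw [this, pow_one]

section Main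

variable {p : ℕ} [hp : Fact p.Prime] {F R S : Subgroup G}

/-- the hypotheses of Claim F on the `p`-group `S` -/
structure FrobAct (p : ℕ) (F R S : Subgroup G) : Prop where
  ker : FrobKer F R
  hSp : IsPGroup p ↥S
  hFS : F ≤ Subgroup.normalizer (S : Set G)
  hRS : R ≤ Subgroup.normalizer (S : Set G)
  hcop : (Nat.card ↥S).Coprime (Nat.card ↥(F ⊔ R : Subgroup G))
  hCF : IsCyclic ↥(S ⊓ Subgroup.centralizer (F : Set G))
  hCR : IsCyclic ↥(S ⊓ Subgroup.centralizer (R : Set G))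
  hCFR : S ⊓ Subgroup.centralizer (F : Set G) ≤ Subgroup.centralizer (R : Set G)

/-- an invariant subgroup of exponent `p` containing a fixed point `z ≠ 1` of `F` has order `p` -/
theorem FrobAct.card_of_exp (h : FrobAct p F R S) {T : Subgroup G} (hTS : T ≤ S)
    (hFT : F ≤ Subgroup.normalizer (T : Set G)) (hRT : R ≤ Subgroup.normalizer (T : Set G))
    (hexp : ∀ x ∈ T, x ^ p = 1) {z : G} (hzT : z ∈ T)
    (hzF : z ∈ Subgroup.centralizer (F : Set G)) (hz1 : z ≠ 1) : Nat.card ↥T = p := by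
  have hTp : IsPGroup p ↥T := h.hSp.to_le hTS
  have hsolv : Group.IsSolvable ↥T := by
    have : Group.IsNilpotent ↥T := hTp.isNilpotent
    infer_instance
  have hcop : (Nat.card ↥T).Coprime (Nat.card ↥(F ⊔ R : Subgroup G)) :=
    Nat.Coprime.coprime_dvd_left (Subgroup.card_dvd_of_le hTS) h.hcop
  have hform := h.ker.formula hFT hRT hsolv hcop
  have hzR : z ∈ Subgroup.centralizer (R : Set G) := h.hCFR ⟨hTS hzT, hzF⟩
  have e1 : T ⊓ Subgroup.centralizer ((F ⊔ R : Subgroup G) : Set G) =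
      T ⊓ Subgroup.centralizer (F : Set G) := by
    apply le_antisymm
    · exact inf_le_inf_left _ (Subgroup.centralizer_le (le_sup_left : F ≤ F ⊔ R))
    · intro x hx
      exact ⟨hx.1, ZP.mem_centralizer_sup hx.2 (h.hCFR ⟨hTS hx.1, hx.2⟩)⟩
  have c1 : Nat.card ↥(T ⊓ Subgroup.centralizer (F : Set G)) = p := by
    apply card_eq_prime_of_le (hTp.to_le inf_le_left) _ (Subgroup.mem_inf.2 ⟨hzT, hzF⟩) hz1
    apply card_le_of_isCyclic_of_exp hp.out.pos
    · exact isCyclic_of_le_cyclic (inf_le_inf_right _ hTS) h.hCF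
    · intro x hx
      exact hexp x hx.1
  have c2 : Nat.card ↥(T ⊓ Subgroup.centralizer (R : Set G)) = p := by
    apply card_eq_prime_of_le (hTp.to_le inf_le_left) _ (Subgroup.mem_inf.2 ⟨hzT, hzR⟩) hz1
    apply card_le_of_isCyclic_of_exp hp.out.pos
    · exact isCyclic_of_le_cyclic (inf_le_inf_right _ hTS) h.hCR
    · intro x hx
      exact hexp x hx.1
  rw [e1, c1, c2] at hform
  exact Nat.eq_of_mul_eq_mul_left (pow_pos hp.out.pos _) hform

end Main

end Cfsg.Agent.Lib.Helper4.BG18
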