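import Mathlib
import Cfsg.Agent.Lib.Helper4.BG18a

set_option autoImplicit false
set_option linter.style.haveILetI false
set_option linter.unusedSectionVars false
set_option maxHeartbeats 400000

/-! Claim F: the main theorem. -/

namespace Cfsg.Agent.Lib.Helper4.BG18

open Cfsg Cfsg.Agent.Lib.Lead Cfsg.Agent.Lib.Helper4 Cfsg.Agent.Lib.Lead.BG95 Cfsg.Agent.Lib.Lead.BG10
open scoped commutatorElement

universe u

variable {G : Type u} [Group G] [Finite G]

theorem le_normalizer_inf' {X A B : Subgroup G} (hA : X ≤ Subgroup.normalizer (A : Set G))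
    (hB : X ≤ Subgroup.normalizer (B : Set G)) :
    X ≤ Subgroup.normalizer ((A ⊓ B : Subgroup G) : Set G) := by
  intro x hx
  have h1 := Subgroup.mem_normalizer_iff.mp (hA hx)
  have h2 := Subgroup.mem_normalizer_iff.mp (hB hx)
  rw [Subgroup.mem_normalizer_iff]
  intro h
  rw [Subgroup.mem_inf, Subgroup.mem_inf, h1 h, h2 h]

theorem le_normalizer_sup' {X A B : Subgroup G} (hA : X ≤ Subgroup.normalizer (A : Set G))
    (hB : X ≤ Subgroup.normalizer (B : Set G)) :
    X ≤ Subgroup.normalizer ((A ⊔ B : Subgroup G) : Set G) := by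
  intro x hx
  have key : ∀ y : G, y ∈ Subgroup.normalizer (A : Set G) → y ∈ Subgroup.normalizer (B : Set G) →
      ∀ g ∈ A ⊔ B, y * g * y⁻¹ ∈ A ⊔ B := by
    intro y hyA hyB g hg
    have h3 : A ⊔ B ≤ (A ⊔ B).comap (MulAut.conj y).toMonoidHom := by
      apply sup_le
      · intro a ha
        rw [Subgroup.mem_comap]
        exact (le_sup_left : A ≤ A ⊔ B) ((Subgroup.mem_normalizer_iff.mp hyA a).mp ha)
      · intro b hb
        rw [Subgroup.mem_comap]
        exact (le_sup_right : B ≤ A ⊔ B) ((Subgroup.mem_normalizer_iff.mp hyB b).mp hb)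
    exact h3 hg
  rw [Subgroup.mem_normalizer_iff]
  intro g
  constructor
  · exact key x (hA hx) (hB hx) g
  · intro hg
    have := key x⁻¹ (Subgroup.inv_mem _ (hA hx)) (Subgroup.inv_mem _ (hB hx)) _ hg
    simpa [mul_assoc] using this

theorem le_normalizer_centralizer' {X A : Subgroup G} (hA : X ≤ Subgroup.normalizer (A : Set G)) :
    X ≤ Subgroup.normalizer ((Subgroup.centralizer (A : Set G) : Subgroup G) : Set G) := by
  intro x hx
  have key : ∀ y : G, y ∈ Subgroup.normalizer (A : Set G) → ∀ c ∈ Subgroup.centralizer (A : Set G),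
      y * c * y⁻¹ ∈ Subgroup.centralizer (A : Set G) := by
    intro y hy c hc
    rw [Subgroup.mem_centralizer_iff]
    intro a ha
    have h1 : y⁻¹ * a * y ∈ A := by
      have := (Subgroup.mem_normalizer_iff.mp (Subgroup.inv_mem _ hy) a).mp ha
      simpa using this
    have h2 := Subgroup.mem_centralizer_iff.mp hc _ h1
    calc a * (y * c * y⁻¹) = y * ((y⁻¹ * a * y) * c) * y⁻¹ := by group
      _ = y * (c * (y⁻¹ * a * y)) * y⁻¹ := by rw [h2]
      _ = y * c * y⁻¹ * a := by group
  rw [Subgroup.mem_normalizer_iff]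
  intro g
  constructor
  · exact key x (hA hx) g
  · intro hg
    have := key x⁻¹ (Subgroup.inv_mem _ (hA hx)) _ hg
    simpa [mul_assoc] using this

section Main

variable {p : ℕ} [hp : Fact p.Prime] {F R S : Subgroup G}

/-- **Claim F** -/
theorem FrobAct.isCyclic (h : FrobAct p F R S) (hp2 : p ≠ 2)
    (hne : S ⊓ Subgroup.centralizer (F : Set G) ≠ ⊥) : IsCyclic ↥S := by
  classical
  -- an element of order `p` in `C_S(F)`
  obtain ⟨z, hzS, hzF, hz1, hzp⟩ : ∃ z : G, z ∈ S ∧ z ∈ Subgroup.centralizer (F : Set G) ∧ z ≠ 1 ∧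
      z ^ p = 1 := by
    have hC0 : IsPGroup p ↥(S ⊓ Subgroup.centralizer (F : Set G) : Subgroup G) :=
      h.hSp.to_le inf_le_left
    have hd : p ∣ Nat.card ↥(S ⊓ Subgroup.centralizer (F : Set G) : Subgroup G) := by
      obtain ⟨k, hk⟩ := IsPGroup.iff_card.mp hC0
      rw [hk]
      apply dvd_pow_self
      rintro rfl
      rw [pow_zero] at hk
      exact hne (Subgroup.card_eq_one.mp hk)
    obtain ⟨x, hx⟩ := exists_prime_orderOf_dvd_card' p hd
    refine ⟨x.1, x.2.1, x.2.2, ?_, ?_⟩
    · intro h1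
      have : x = 1 := Subtype.ext h1
      rw [this, orderOf_one] at hx
      exact hp.out.one_lt.ne hx
    · have := pow_orderOf_eq_one x
      rw [hx] at this
      have h2 := congrArg Subtype.val this
      simpa using h2
  have hzR : z ∈ Subgroup.centralizer (R : Set G) := h.hCFR ⟨hzS, hzF⟩
  by_contra hnc
  obtain ⟨T, hT⟩ := exists_minimal_of_wellFoundedLT
    (fun T : Subgroup G => T ≤ S ∧ F ≤ Subgroup.normalizer (T : Set G) ∧
      R ≤ Subgroup.normalizer (T : Set G) ∧ z ∈ T ∧ ¬ IsCyclic ↥T) ⟨S, le_rfl, h.hFS, h.hRS, hzS, hnc⟩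
  obtain ⟨⟨hTS, hFT, hRT, hzT, hTnc⟩, hmin⟩ := hT
  have hTp : IsPGroup p ↥T := h.hSp.to_le hTS
  set C := T ⊓ Subgroup.centralizer (F : Set G) with hC
  have hCT : C ≤ T := inf_le_left
  have hCcyc : IsCyclic ↥C := isCyclic_of_le_cyclic (inf_le_inf_right _ hTS) h.hCF
  have hCne : C ≠ T := by
    intro h0
    rw [h0] at hCcyc
    exact hTnc hCcyc
  have hClt : C < T := lt_of_le_of_ne hCT hCne
  have hzC : z ∈ C := Subgroup.mem_inf.2 ⟨hzT, hzF⟩
  have hCF : C ≤ Subgroup.centralizer (F : Set G) := inf_le_right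
  have hFC' : F ≤ Subgroup.centralizer (C : Set G) := Subgroup.le_centralizer_iff.mp hCF
  have hCR : C ≤ Subgroup.centralizer (R : Set G) :=
    (inf_le_inf_right _ hTS).trans h.hCFR
  -- proper invariant subgroups containing `z` lie in `C`
  have key : ∀ T' : Subgroup G, T' ≤ T → T' ≠ T → F ≤ Subgroup.normalizer (T' : Set G) →
      R ≤ Subgroup.normalizer (T' : Set G) → z ∈ T' → T' ≤ C := by
    intro T' hT'T hne' hF' hR' hz'
    have hcyc : IsCyclic ↥T' := by
      by_contra hnc'
      exact hne' (le_antisymm hT'T (hmin ⟨hT'T.trans hTS, hF', hR', hz', hnc'⟩ hT'T))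
    have h1 := h.ker.le_centralizer_of_isCyclic hF' hR' hcyc
    exact le_inf hT'T (Subgroup.le_centralizer_iff.mp h1)
  -- `F`, `R` normalize `C`
  have hFN : F ≤ Subgroup.normalizer (C : Set G) :=
    le_normalizer_inf' hFT (le_normalizer_centralizer' Subgroup.le_normalizer)
  have hRN : R ≤ Subgroup.normalizer (C : Set G) :=
    le_normalizer_inf' hRT (le_normalizer_centralizer' h.ker.hRF)
  -- `C` is normal in `T`
  have hTC : T ≤ Subgroup.normalizer (C : Set G) := by
    by_contra hnot
    have h1 : T ⊓ Subgroup.normalizer (C : Set G) ≠ T := fun h0 => hnot (h0 ▸ inf_le_right)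
    have h2 := key (T ⊓ Subgroup.normalizer (C : Set G)) inf_le_left h1
      (le_normalizer_inf' hFT (hFN.trans Subgroup.le_normalizer))
      (le_normalizer_inf' hRT (hRN.trans Subgroup.le_normalizer))
      (Subgroup.mem_inf.2 ⟨hzT, Subgroup.le_normalizer hzC⟩)
    obtain ⟨n, hnT, hnC, hnN⟩ := Cfsg.Agent.Lib.Helper6.exists_mem_normalizer_not_mem hClt hTp
    exact hnC (h2 (Subgroup.mem_inf.2 ⟨hnT, hnN⟩))
  have hcopT : (Nat.card ↥F).Coprime (Nat.card ↥T) := by
    have h1 : (Nat.card ↥T).Coprime (Nat.card ↥(F ⊔ R : Subgroup G)) :=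
      Nat.Coprime.coprime_dvd_left (Subgroup.card_dvd_of_le hTS) h.hcop
    exact (Nat.Coprime.coprime_dvd_right (Subgroup.card_dvd_of_le le_sup_left) h1).symm
  have hTsolv : Group.IsSolvable ↥T := by
    have : Group.IsNilpotent ↥T := hTp.isNilpotent
    infer_instance
  -- `C` is central in `T`
  have hCZ : T ≤ Subgroup.centralizer (C : Set G) := by
    by_contra hnot
    have h1 : T ⊓ Subgroup.centralizer (C : Set G) ≠ T := fun h0 => hnot (h0 ▸ inf_le_right)
    have hzz : z ∈ Subgroup.centralizer (C : Set G) := by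
      rw [Subgroup.mem_centralizer_iff]
      intro c hc
      let _ := IsCyclic.commGroup (α := ↥C)
      have := mul_comm (⟨c, hc⟩ : ↥C) ⟨z, hzC⟩
      exact congrArg Subtype.val this
    have h2 := key (T ⊓ Subgroup.centralizer (C : Set G)) inf_le_left h1
      (le_normalizer_inf' hFT (le_normalizer_centralizer' hFN))
      (le_normalizer_inf' hRT (le_normalizer_centralizer' hRN))
      (Subgroup.mem_inf.2 ⟨hzT, hzz⟩)
    -- `[T, F] ≤ C_T(C)`
    have h3 : ⁅⁅T, F⁆, C⁆ = ⊥ := by
      apply Subgroup.commutator_commutator_eq_bot_of_rotate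
      · have : ⁅F, C⁆ = ⊥ := by
          rw [Subgroup.commutator_eq_bot_iff_le_centralizer]
          exact hFC'
        rw [this, Subgroup.commutator_bot_left]
      · have h4 : ⁅C, T⁆ ≤ C := commutator_le_left_of_le_normalizer C T hTC
        have h5 : ⁅C, F⁆ = ⊥ := by
          rw [Subgroup.commutator_eq_bot_iff_le_centralizer]
          exact hCF
        rw [eq_bot_iff, ← h5]
        exact Subgroup.commutator_mono h4 le_rfl
    rw [Subgroup.commutator_eq_bot_iff_le_centralizer] at h3
    have h6 : ⁅T, F⁆ ≤ C :=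
      (le_inf (commutator_le_left_of_le_normalizer T F hFT) h3).trans h2
    have h7 : ⁅⁅T, F⁆, F⁆ = ⊥ := by
      rw [Subgroup.commutator_eq_bot_iff_le_centralizer]
      exact h6.trans hCF
    rw [coprime_commutator_stable F T hFT hcopT (Or.inr hTsolv),
      Subgroup.commutator_eq_bot_iff_le_centralizer] at h7
    exact hCne (le_antisymm hCT (le_inf le_rfl h7))
  -- the Frattini subgroup of `T` lies in `C`
  set Φ : Subgroup G := (frattini ↥T).map T.subtype with hΦ
  have hΦT : Φ ≤ T := Subgroup.map_subtype_le _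
  have hΦC : Φ ≤ C := by
    have hzT' : Subgroup.zpowers z ≤ T := Subgroup.zpowers_le.2 hzT
    have hFz : F ≤ Subgroup.normalizer ((Subgroup.zpowers z : Subgroup G) : Set G) := by
      refine le_trans ?_ (Subgroup.centralizer_le_normalizer _)
      rw [← Subgroup.le_centralizer_iff]
      exact Subgroup.zpowers_le.2 hzF
    have hRz : R ≤ Subgroup.normalizer ((Subgroup.zpowers z : Subgroup G) : Set G) := by
      refine le_trans ?_ (Subgroup.centralizer_le_normalizer _)
      rw [← Subgroup.le_centralizer_iff]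
      exact Subgroup.zpowers_le.2 hzR
    have hne1 : Φ ⊔ Subgroup.zpowers z ≠ T := by
      intro h0
      apply hTnc
      have h1 : (frattini ↥T ⊔ Subgroup.zpowers (⟨z, hzT⟩ : ↥T)).map T.subtype =
          (⊤ : Subgroup ↥T).map T.subtype := by
        rw [Subgroup.map_sup, MonoidHom.map_zpowers, ← MonoidHom.range_eq_map, Subgroup.range_subtype]
        exact h0
      have h2 := Subgroup.map_injective T.subtype_injective h1
      rw [sup_comm] at h2
      have h3 := frattini_nongenerating h2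
      refine ⟨⟨⟨z, hzT⟩, fun x => ?_⟩⟩
      have h4 : x ∈ Subgroup.zpowers (⟨z, hzT⟩ : ↥T) := by rw [h3]; exact Subgroup.mem_top x
      exact h4
    have h2 := key (Φ ⊔ Subgroup.zpowers z) (sup_le hΦT hzT') hne1
      (le_normalizer_sup' (hFT.trans (le_normalizer_map_characteristic T (frattini ↥T))) hFz)
      (le_normalizer_sup' (hRT.trans (le_normalizer_map_characteristic T (frattini ↥T))) hRz)
      ((le_sup_right : Subgroup.zpowers z ≤ Φ ⊔ Subgroup.zpowers z) (Subgroup.mem_zpowers z))
    exact le_sup_left.trans h2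
  -- elements of `Φ` are central in `T`
  have hcen : ∀ x : ↥T, x ∈ frattini ↥T → x ∈ Subgroup.center ↥T := by
    intro x hx
    rw [Subgroup.mem_center_iff]
    intro y
    have h1 : (x : G) ∈ C := hΦC ⟨x, hx, rfl⟩
    have h2 := Subgroup.mem_centralizer_iff.mp (hCZ y.2) _ h1
    apply Subtype.ext
    rw [Subgroup.coe_mul, Subgroup.coe_mul]
    exact h2.symm
  have hpowT : IsPGroup p ↥T := hTp
  have hmul : ∀ u v : ↥T, (u * v) ^ p = u ^ p * v ^ p := by
    apply mul_pow_prime_of_central hp2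
    · intro a b
      apply hcen
      exact commutator_le_frattini_of_isPGroup hpowT (Subgroup.commutator_mem_commutator
        (Subgroup.mem_top a) (Subgroup.mem_top b))
    · intro x
      exact hcen _ (pow_mem_frattini_of_isPGroup hpowT x)
  -- the subgroup of elements of order dividing `p`
  let Ω : Subgroup G :=
    { carrier := {x | x ∈ T ∧ x ^ p = 1}
      mul_mem' := by
        rintro a b ⟨ha, ha1⟩ ⟨hb, hb1⟩
        refine ⟨T.mul_mem ha hb, ?_⟩
        have := congrArg Subtype.val (hmul ⟨a, ha⟩ ⟨b, hb⟩)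
        simp only [Subgroup.coe_pow, Subgroup.coe_mul] at this
        rw [this, ha1, hb1, one_mul]
      one_mem' := ⟨T.one_mem, one_pow _⟩
      inv_mem' := by
        rintro a ⟨ha, ha1⟩
        exact ⟨T.inv_mem ha, by rw [inv_pow, ha1, inv_one]⟩ }
  have hΩmem : ∀ x, x ∈ Ω ↔ x ∈ T ∧ x ^ p = 1 := fun x => Iff.rfl
  have hΩT : Ω ≤ T := fun x hx => hx.1
  have hΩN : ∀ X : Subgroup G, X ≤ Subgroup.normalizer (T : Set G) →
      X ≤ Subgroup.normalizer (Ω : Set G) := by
    intro X hX x hx
    have key2 : ∀ y : G, y ∈ Subgroup.normalizer (T : Set G) → ∀ g ∈ Ω, y * g * y⁻¹ ∈ Ω := by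
      intro y hy g hg
      refine ⟨(Subgroup.mem_normalizer_iff.mp hy g).mp hg.1, ?_⟩
      rw [conj_pow, hg.2, mul_one, mul_inv_cancel]
    rw [Subgroup.mem_normalizer_iff]
    intro g
    constructor
    · exact key2 x (hX hx) g
    · intro hg
      have := key2 x⁻¹ (Subgroup.inv_mem _ (hX hx)) _ hg
      simpa [mul_assoc] using this
  have hΩcard : Nat.card ↥Ω = p :=
    h.card_of_exp (hΩT.trans hTS) (hΩN F hFT) (hΩN R hRT) (fun x hx => hx.2)
      ((hΩmem z).2 ⟨hzT, hzp⟩) hzF hz1
  -- but `T` contains an elementary abelian subgroup of order `p ^ 2`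
  obtain ⟨W, -, hWc, hWe, hWcard⟩ := exists_normal_elementary_sq hp2 hTp hTnc
  have hWΩ : W.map T.subtype ≤ Ω := by
    rintro _ ⟨w, hw, rfl⟩
    refine ⟨w.2, ?_⟩
    have := congrArg Subtype.val (hWe w hw)
    simpa using this
  have h9 := Subgroup.card_le_of_le hWΩ
  rw [Subgroup.card_map_of_injective T.subtype_injective, hWcard, hΩcard] at h9
  have := hp.out.one_lt
  nlinarith

end Main

end Cfsg.Agent.Lib.Helper4.BG18
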