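import Mathlib
import Cfsg.Agent.Lib.Helper4.BG13m
import Cfsg.Agent.Lib.Helper4.NS2

set_option autoImplicit false
set_option linter.style.haveILetI false
set_option linter.unusedSectionVars false

/-! Ideal primes: every elementary abelian subgroup of order `p ^ 2` is a uniqueness subgroup; cyclic
centralizers. -/

namespace Cfsg.Agent.Lib.Helper4.BG18

open Cfsg Cfsg.Agent.Lib.Lead Cfsg.Agent.Lib.Lead.BG10 Cfsg.Agent.Lib.Helper7 Cfsg.Agent.Lib.Helper4
open Cfsg.Agent.Lib.Helper4.BG76 Cfsg.Agent.Lib.Helper4.BG8 Cfsg.Agent.Lib.Helper4.BG9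
open Cfsg.Agent.Lib.Helper4.BG7 Cfsg.Agent.Lib.Helper4.BG12 Cfsg.Agent.Lib.Helper4.BGConj
open Cfsg.Agent.Lib.Helper4.BG13
open scoped commutatorElement

universe u

variable {G : Type u} [Group G] [Finite G]

/-- for an ideal prime `p`, every elementary abelian subgroup of order `p ^ 2` lies in a unique
maximal subgroup -/
theorem ideal_uniq (hG : IsMinSimpleOddOrder G) {p : ℕ} [hp : Fact p.Prime]
    (hid : IsIdealPrime p G) {A : Subgroup G} (hAe : IsElementaryAbelian p A)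
    (hA2 : Nat.card A = p ^ 2) : InUniqueMaximal A := by
  have hAp : IsPGroup p ↥A := isPGroup_of_elementary hAe
  obtain ⟨P, hAP⟩ := hAp.exists_le_sylow
  obtain ⟨B, -, hBe, hAB⟩ := hid.2.2 P A hAP hAe hA2
  have hp1 := hp.out.one_lt
  apply uniq hG (isPGroup_ne_top hG hAp)
  · apply not_rankLE_of_not_pRankLE hp.out
    apply not_pRankLE_of_elementary (le_refl A) hAe
    rw [hA2]
    exact Nat.pow_lt_pow_right hp1 (by norm_num)
  · right
    apply not_rankLE_of_not_pRankLE hp.out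
    have hBC : B ≤ Subgroup.centralizer (A : Set G) := by
      intro b hb
      rw [Subgroup.mem_centralizer_iff]
      intro a ha
      have := hBe.1.is_comm.comm ⟨a, hAB.le ha⟩ ⟨b, hb⟩
      exact congrArg Subtype.val this
    apply not_pRankLE_of_elementary hBC hBe
    rw [← hA2]
    have h1 := Subgroup.card_le_of_le hAB.le
    rcases lt_or_eq_of_le h1 with h | h
    · exact h
    · exact absurd (Subgroup.eq_of_le_of_card_ge hAB.le h.ge) hAB.ne

/-- for an ideal prime `p`: if `N_G(X)` does not lie in the maximal subgroup `H`, every `p`-subgroup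
of `H ∩ C_G(X)` is cyclic -/
theorem isCyclic_of_ideal (hG : IsMinSimpleOddOrder G) {p : ℕ} [hp : Fact p.Prime]
    (hid : IsIdealPrime p G) {H : Subgroup G} (hH : IsCoatom H) {X : Subgroup G} (hX1 : X ≠ ⊥)
    (hXH : X ≤ H) (hN : ¬ Subgroup.normalizer (X : Set G) ≤ H) {T : Subgroup G} (hTH : T ≤ H)
    (hTX : T ≤ Subgroup.centralizer (X : Set G)) (hTp : IsPGroup p ↥T) : IsCyclic ↥T := by
  by_contra hnc
  have hp2 : p ≠ 2 := by
    rintro rfl
    have hodd : Odd (Nat.card G) := hG.1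
    have h1 : ¬ PRankLE 2 2 G := hid.2.1
    apply h1
    intro A _ hA
    -- a `2`-subgroup of a group of odd order is trivial
    have hA2 : IsPGroup 2 ↥A := by
      intro a
      refine ⟨1, ?_⟩
      rw [pow_one]
      exact Subtype.ext (by simpa using hA a.1 a.2)
    obtain ⟨k, hk⟩ := IsPGroup.iff_card.mp hA2
    have hk0 : k = 0 := by
      by_contra hk0
      have h2 : 2 ∣ Nat.card G := dvd_trans (hk ▸ dvd_pow_self 2 hk0) (Subgroup.card_subgroup_dvd_card A)
      exact (Nat.not_even_iff_odd.mpr hodd) (even_iff_two_dvd.mpr h2)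
    rw [hk, hk0]
    norm_num
  obtain ⟨W, -, hWc, hWe, hWcard⟩ := exists_normal_elementary_sq hp2 hTp hnc
  set A : Subgroup G := W.map T.subtype with hA
  have hAT : A ≤ T := Subgroup.map_subtype_le _
  have hAe : IsElementaryAbelian p A := by
    refine ⟨⟨⟨?_⟩⟩, ?_⟩
    · rintro ⟨_, ⟨a, ha, rfl⟩⟩ ⟨_, ⟨b, hb, rfl⟩⟩
      apply Subtype.ext
      have := hWc.is_comm.comm ⟨a, ha⟩ ⟨b, hb⟩
      have h2 := congrArg (fun x : ↥W => ((x : ↥T) : G)) this
      simpa using h2
    · rintro _ ⟨a, ha, rfl⟩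
      have := congrArg Subtype.val (hWe a ha)
      simpa using this
  have hA2 : Nat.card A = p ^ 2 := by
    rw [hA, Subgroup.card_map_of_injective T.subtype_injective, hWcard]
  obtain ⟨L₀, hL₀, huniq⟩ := ideal_uniq hG hid hAe hA2
  have hHL : H = L₀ := huniq H ⟨hH, hAT.trans hTH⟩
  have hXtop : X ≠ ⊤ := fun h => hH.1 (eq_top_iff.mpr (h ▸ hXH))
  obtain ⟨L, hL, hNL⟩ := exists_coatom_ge (normalizer_ne_top hG hX1 hXtop)
  have hLL : L = L₀ :=
    huniq L ⟨hL, (hAT.trans hTX).trans ((Subgroup.centralizer_le_normalizer _).trans hNL)⟩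
  exact hN (hHL ▸ hLL ▸ hNL)

/-- a `q`-subgroup `X ≠ 1` of `H` with `q ∉ σ(H)` and `r_q(H) ≤ 1` has `N_G(X) ≰ H` -/
theorem not_normalizer_le_of_rank_one (hG : IsMinSimpleOddOrder G) {H : Subgroup G}
    (hH : IsCoatom H) {q : ℕ} [hq : Fact q.Prime] (hqσ : q ∉ sigma H) (hr : PRankLE q 1 ↥H)
    {X : Subgroup G} (hXq : IsPGroup q ↥X) (hX1 : X ≠ ⊥) :
    ¬ Subgroup.normalizer (X : Set G) ≤ H := by
  intro hN
  rcases lemma_12_2a hG hH hXq hX1 hN with h | h
  · exact hqσ h
  · exact h.2.2.2 hr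

end Cfsg.Agent.Lib.Helper4.BG18
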