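import Mathlib
import Cfsg.Agent.Lib.Helper4.BG18b
import Cfsg.Agent.Lib.Helper4.BG18c
import Cfsg.Agent.Lib.Lead.BG12q2
import Cfsg.Agent.Lib.Lead.CoprimeSylow5
import Cfsg.Agent.Lib.Lead.Coprime

set_option autoImplicit false
set_option linter.style.haveILetI false
set_option linter.unusedSectionVars false
set_option maxHeartbeats 400000

/-! Bender–Glauberman Theorem 13.4: the configuration of a counterexample, and the contradiction on
the side of `H ∈ ℳ(N_G(P))`. -/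

namespace Cfsg.Agent.Lib.Helper4.BG18

open Cfsg Cfsg.Agent.Lib.Lead Cfsg.Agent.Lib.Lead.BG10 Cfsg.Agent.Lib.Helper7 Cfsg.Agent.Lib.Helper4
open Cfsg.Agent.Lib.Helper4.BG76 Cfsg.Agent.Lib.Helper4.BG8 Cfsg.Agent.Lib.Helper4.BG9
open Cfsg.Agent.Lib.Helper4.BG7 Cfsg.Agent.Lib.Helper4.BG12 Cfsg.Agent.Lib.Helper4.BGConj
open Cfsg.Agent.Lib.Helper4.BG13 Cfsg.Agent.Lib.Lead.BG95 Cfsg.Agent.Lib.Lead.BG12q
open Cfsg.Agent.Lib.Lead.BG11
open scoped commutatorElement

universe u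

variable {G : Type u} [Group G] [Finite G]

/-- a subgroup of prime order is a `p`-group -/
theorem isPGroup_of_card_eq {p : ℕ} {P : Subgroup G} (hP : Nat.card P = p) : IsPGroup p ↥P :=
  IsPGroup.of_card (n := 1) (by rw [hP, pow_one])

theorem ne_bot_of_card_prime {P : Subgroup G} (hP : (Nat.card P).Prime) : P ≠ ⊥ := by
  intro h0
  rw [h0, Subgroup.card_bot] at hP
  exact Nat.not_prime_one hP

/-- odd order: no prime divisor is `2` -/
theorem prime_ne_two (hG : IsMinSimpleOddOrder G) {q : ℕ} {Q : Subgroup G} (hQ : IsPGroup q ↥Q)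
    (hQ1 : Q ≠ ⊥) [hq : Fact q.Prime] : q ≠ 2 := by
  rintro rfl
  obtain ⟨k, hk⟩ := IsPGroup.iff_card.mp hQ
  have hk0 : k ≠ 0 := by
    rintro rfl
    rw [pow_zero] at hk
    exact hQ1 (Subgroup.card_eq_one.mp hk)
  have h2 : 2 ∣ Nat.card G := dvd_trans (hk ▸ dvd_pow_self 2 hk0) (Subgroup.card_subgroup_dvd_card Q)
  exact (Nat.not_even_iff_odd.mpr hG.1) (even_iff_two_dvd.mpr h2)

/-- a `q`-subgroup of a subgroup of `q`-rank at most one is cyclic (`q` odd) -/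
theorem isCyclic_of_pRankLE_one {q : ℕ} [hq : Fact q.Prime] (hq2 : q ≠ 2) {Z T : Subgroup G}
    (hZ : PRankLE q 1 ↥Z) (hTZ : T ≤ Z) (hT : IsPGroup q ↥T) : IsCyclic ↥T := by
  by_contra hnc
  obtain ⟨W, -, hWc, hWe, hWcard⟩ := exists_normal_elementary_sq hq2 hT hnc
  set A : Subgroup G := W.map T.subtype with hA
  have hAT : A ≤ T := Subgroup.map_subtype_le _
  have hAe : IsElementaryAbelian q A := by
    refine ⟨⟨⟨?_⟩⟩, ?_⟩
    · rintro ⟨_, ⟨a, ha, rfl⟩⟩ ⟨_, ⟨b, hb, rfl⟩⟩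
      apply Subtype.ext
      have := hWc.is_comm.comm ⟨a, ha⟩ ⟨b, hb⟩
      have h2 := congrArg (fun x : ↥W => ((x : ↥T) : G)) this
      simpa using h2
    · rintro _ ⟨a, ha, rfl⟩
      have := congrArg Subtype.val (hWe a ha)
      simpa using this
  have hA2 : Nat.card A = q ^ 2 := by
    rw [hA, Subgroup.card_map_of_injective T.subtype_injective, hWcard]
  apply not_pRankLE_of_elementary (hAT.trans hTZ) hAe _ hZ
  rw [hA2]
  exact Nat.pow_lt_pow_right hq.out.one_lt (by norm_num)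

/-- an abelian group `Q = [Q, R]` with `R` of prime order acting coprimely: `Q R` is a Frobenius
group -/
theorem frobKer_of_abelian {Q R : Subgroup G} (hQc : IsMulCommutative ↥Q)
    (hRp : (Nat.card R).Prime) (hRQ : R ≤ Subgroup.normalizer (Q : Set G))
    (hcop : (Nat.card R).Coprime (Nat.card Q)) (hc : ⁅Q, R⁆ = Q) (hQ1 : Q ≠ ⊥) : FrobKer Q R := by
  refine ⟨hQ1, ne_bot_of_card_prime hRp, hRQ, ?_, hc⟩
  intro e he he1 u hu hcomm
  have h1 := ZP.zpowers_eq_of_prime_card R hRp e he he1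
  have h2 : u ∈ Subgroup.centralizer (R : Set G) := by
    rw [← h1, Subgroup.mem_centralizer_iff]
    intro y hy
    obtain ⟨k, rfl⟩ := Subgroup.mem_zpowers_iff.mp hy
    exact ((Commute.zpow_left (show Commute e u from hcomm) k).eq)
  have h3 := (coprime_abelian_decomp R Q hRQ hcop).1
  have h4 : u ∈ (Q ⊓ Subgroup.centralizer (R : Set G)) ⊓ ⁅Q, R⁆ :=
    Subgroup.mem_inf.2 ⟨Subgroup.mem_inf.2 ⟨hu, h2⟩, by rw [hc]; exact hu⟩
  rw [h3, Subgroup.mem_bot] at h4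
  exact h4

/-- the configuration of a counterexample to Theorem 13.4, with the consequences of
Corollary 13.2 -/
structure Bad (M E P R H : Subgroup G) (p r : ℕ) : Prop where
  hM : IsCoatom M
  hE : IsComplIn E (sigmaCore M) M
  hp : p ∈ tau1 M
  hPE : P ≤ E
  hPc : Nat.card P = p
  hRE : R ≤ E
  hRP : R ≤ Subgroup.centralizer (P : Set G)
  hRc : Nat.card R = r
  hr : r.Prime
  hH : IsCoatom H
  hNH : Subgroup.normalizer (P : Set G) ≤ H
  hnc : ∀ g : G, H ≠ cj g M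
  hpH : p ∈ sigma H
  hid : IsIdealPrime p G
  hrH : r ∈ tau1 H

namespace Bad

variable {M E P R H : Subgroup G} {p r : ℕ}

theorem pprime (b : Bad M E P R H p r) : p.Prime := b.hp.1

theorem hPp (b : Bad M E P R H p r) : IsPGroup p ↥P := isPGroup_of_card_eq b.hPc

theorem hRr (b : Bad M E P R H p r) : IsPGroup r ↥R := isPGroup_of_card_eq b.hRc

theorem hP1 (b : Bad M E P R H p r) : P ≠ ⊥ := ne_bot_of_card_prime (b.hPc ▸ b.pprime)

theorem hR1 (b : Bad M E P R H p r) : R ≠ ⊥ := ne_bot_of_card_prime (b.hRc ▸ b.hr)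

theorem hPM (b : Bad M E P R H p r) : P ≤ M := b.hPE.trans b.hE.1

theorem hRM (b : Bad M E P R H p r) : R ≤ M := b.hRE.trans b.hE.1

theorem hCH (b : Bad M E P R H p r) : Subgroup.centralizer (P : Set G) ≤ H :=
  (Subgroup.centralizer_le_normalizer _).trans b.hNH

theorem hPH (b : Bad M E P R H p r) : P ≤ H := Subgroup.le_normalizer.trans b.hNH

theorem hRH (b : Bad M E P R H p r) : R ≤ H := b.hRP.trans b.hCH

theorem hpσM (b : Bad M E P R H p r) : p ∉ sigma M := b.hp.2.1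

theorem hrσH (b : Bad M E P R H p r) : r ∉ sigma H := b.hrH.2.1

theorem hrrank (b : Bad M E P R H p r) : PRankLE r 1 ↥H := b.hrH.2.2.2.2

theorem hrσM (b : Bad M E P R H p r) (hG : IsMinSimpleOddOrder G) : r ∉ sigma M := by
  intro hσ
  haveI : Fact r.Prime := ⟨b.hr⟩
  have h1 := le_sigmaCore_of_isPGroup hG b.hM hσ b.hRM b.hRr
  have h2 : R ≤ E ⊓ sigmaCore M := le_inf b.hRE h1
  rw [b.hE.2.2.1] at h2
  exact b.hR1 (eq_bot_iff.mpr h2)

theorem r_ne_p (b : Bad M E P R H p r) : r ≠ p := by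
  rintro rfl
  exact b.hrσH b.hpH

/-- `N_G(R) ≰ H` -/
theorem hNR (b : Bad M E P R H p r) (hG : IsMinSimpleOddOrder G) :
    ¬ Subgroup.normalizer (R : Set G) ≤ H := by
  haveI : Fact r.Prime := ⟨b.hr⟩
  exact not_normalizer_le_of_rank_one hG b.hH b.hrσH b.hrrank b.hRr b.hR1

/-- `p ∈ α(H)` -/
theorem hpα (b : Bad M E P R H p r) (hG : IsMinSimpleOddOrder G) : p ∈ alpha H := by
  haveI : Fact p.Prime := ⟨b.pprime⟩
  refine ⟨b.pprime, ?_⟩
  intro h2
  obtain ⟨S, d⟩ := exists_sigmaData b.hH b.hpH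
  obtain ⟨T, hT⟩ := d.hPsyl
  by_cases h3 : PRankLE p 2 ↥S
  · apply b.hid.2.1
    apply NS.prankLE_of_sylow T 2
    rw [hT]
    exact h3
  · obtain ⟨A, hAS, hAe, hAc⟩ := exists_elementary_of_not_pRankLE h3
    exact not_pRankLE_of_elementary (hAS.trans d.hPM) hAe hAc h2

end Bad

end Cfsg.Agent.Lib.Helper4.BG18
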