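import Mathlib
import Cfsg.Agent.Lib.Helper4.BG18d
import Cfsg.Agent.Lib.Lead.CyclicP

set_option autoImplicit false
set_option linter.style.haveILetI false
set_option linter.unusedSectionVars false
set_option maxHeartbeats 400000

/-! Bender–Glauberman Theorem 13.4: choice of the prime `q`, and the contradiction on the side of
`H ∈ ℳ(N_G(P))` (via Claim F). -/

namespace Cfsg.Agent.Lib.Helper4.BG18

open Cfsg Cfsg.Agent.Lib.Lead Cfsg.Agent.Lib.Lead.BG10 Cfsg.Agent.Lib.Helper7 Cfsg.Agent.Lib.Helper4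
open Cfsg.Agent.Lib.Helper4.BG76 Cfsg.Agent.Lib.Helper4.BG8 Cfsg.Agent.Lib.Helper4.BG9
open Cfsg.Agent.Lib.Helper4.BG7 Cfsg.Agent.Lib.Helper4.BG12 Cfsg.Agent.Lib.Helper4.BGConj
open Cfsg.Agent.Lib.Helper4.BG13 Cfsg.Agent.Lib.Lead.BG95 Cfsg.Agent.Lib.Lead.BG12q
open Cfsg.Agent.Lib.Lead.BG11
open scoped commutatorElement

universe u

variable {G : Type u} [Group G] [Finite G]

/-- a coprime operator group with a non-identity fixed point on a cyclic `p`-group centralizes it -/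
theorem le_centralizer_of_cyclic_of_fixed {p : ℕ} [hp : Fact p.Prime] {C R : Subgroup G}
    (hCp : IsPGroup p ↥C) (hCc : IsCyclic ↥C) (hRC : R ≤ Subgroup.normalizer (C : Set G))
    (hcop : (Nat.card R).Coprime (Nat.card C)) (hfix : C ⊓ Subgroup.centralizer (R : Set G) ≠ ⊥) :
    C ≤ Subgroup.centralizer (R : Set G) := by
  have hcomm : IsMulCommutative ↥C := ⟨⟨fun a b => by
    let _ := IsCyclic.commGroup (α := ↥C)
    exact mul_comm a b⟩⟩
  obtain ⟨h1, -⟩ := coprime_abelian_decomp R C hRC hcop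
  have hle : ⁅C, R⁆ ≤ C := commutator_le_left_of_le_normalizer C R hRC
  rcases le_total_of_isCyclic_of_isPGroup (C := ↥C) hCp
    ((C ⊓ Subgroup.centralizer (R : Set G)).subgroupOf C) ((⁅C, R⁆).subgroupOf C) with h | h
  · exfalso
    apply hfix
    rw [eq_bot_iff, ← h1]
    intro x hx
    refine Subgroup.mem_inf.2 ⟨hx, ?_⟩
    have h2 : (⟨x, hx.1⟩ : ↥C) ∈ (C ⊓ Subgroup.centralizer (R : Set G)).subgroupOf C := by
      rw [Subgroup.mem_subgroupOf]
      exact hx
    have h3 := h h2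
    rw [Subgroup.mem_subgroupOf] at h3
    exact h3
  · have h4 : ⁅C, R⁆ = ⊥ := by
      rw [eq_bot_iff, ← h1]
      intro x hx
      refine Subgroup.mem_inf.2 ⟨?_, hx⟩
      have h2 : (⟨x, hle hx⟩ : ↥C) ∈ (⁅C, R⁆).subgroupOf C := by
        rw [Subgroup.mem_subgroupOf]
        exact hx
      have h3 := h h2
      rw [Subgroup.mem_subgroupOf] at h3
      exact h3
    rw [Subgroup.commutator_eq_bot_iff_le_centralizer] at h4
    exact h4

namespace Bad

variable {M E P R H : Subgroup G} {p r : ℕ}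

/-- choice of a prime `q` and an `R`-invariant `q`-subgroup `Q = [Q, R] ≠ 1` of a subgroup
`K ≤ M_σ` not centralized by `R` -/
theorem exists_q (b : Bad M E P R H p r) (hG : IsMinSimpleOddOrder G) {K : Subgroup G}
    (hK : K ≤ sigmaCore M) (hRK : R ≤ Subgroup.normalizer (K : Set G))
    (hnot : ¬ K ≤ Subgroup.centralizer (R : Set G)) :
    ∃ (q : ℕ) (Q : Subgroup G), q.Prime ∧ Q ≤ K ∧ IsPGroup q ↥Q ∧
      R ≤ Subgroup.normalizer (Q : Set G) ∧ ⁅Q, R⁆ = Q ∧ Q ≠ ⊥ := by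
  haveI : Fact r.Prime := ⟨b.hr⟩
  have hcop : (Nat.card ↥R).Coprime (Nat.card ↥K) := by
    rw [b.hRc, Nat.Prime.coprime_iff_not_dvd b.hr]
    intro hd
    exact b.hrσM hG ((sigmaCore_hall hG b.hM).1.2.1 r b.hr (hd.trans (Subgroup.card_dvd_of_le hK)))
  have hRsolv : Group.IsSolvable ↥R :=
    solvable_of_ne_top hG (ne_top_of_le_ne_top b.hM.1 b.hRM)
  set C := K ⊓ Subgroup.centralizer (R : Set G) with hC
  have hne1 : C.relIndex K ≠ 1 := by
    intro h1
    exact hnot ((Subgroup.relIndex_eq_one.mp h1).trans inf_le_right)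
  obtain ⟨q, hq, hqd⟩ := Nat.exists_prime_and_dvd hne1
  haveI : Fact q.Prime := ⟨hq⟩
  obtain ⟨Q₀, hRQ₀⟩ := coprime_invariant_sylow_exists R K hRK hcop (Or.inl hRsolv) q
  set Q := (Q₀ : Subgroup ↥K).map K.subtype with hQ
  have hQsyl : SylIn q K Q := sylIn_map_sylow Q₀
  have hQK : Q ≤ K := hQsyl.1
  have hQnot : ¬ Q ≤ Subgroup.centralizer (R : Set G) := by
    intro hle
    have hQC : Q ≤ C := le_inf hQK hle
    apply hQsyl.2.2
    rw [← Subgroup.relIndex_mul_relIndex Q C K hQC inf_le_left]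
    exact Dvd.dvd.mul_left hqd _
  have hcop' : (Nat.card ↥R).Coprime (Nat.card ↥Q) :=
    Nat.Coprime.coprime_dvd_right (Subgroup.card_dvd_of_le hQK) hcop
  refine ⟨q, ⁅Q, R⁆, hq, (commutator_le_left_of_le_normalizer Q R hRQ₀).trans hQK,
    hQsyl.2.1.to_le (commutator_le_left_of_le_normalizer Q R hRQ₀),
    le_normalizer_commutator_right Q R hRQ₀,
    coprime_commutator_stable R Q hRQ₀ hcop' (Or.inl hRsolv), ?_⟩
  intro h0
  rw [Subgroup.commutator_eq_bot_iff_le_centralizer] at h0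
  exact hQnot h0

/-- the contradiction on the side of `H`: a Frobenius group `Q R ≤ C_H(P)` with `q ∉ α(H)` and
`N_G(Q) ≰ H` cannot exist -/
theorem hside (b : Bad M E P R H p r) (hG : IsMinSimpleOddOrder G) {q : ℕ} [hq : Fact q.Prime]
    {Q : Subgroup G} (hQH : Q ≤ H) (hQq : IsPGroup q ↥Q) (hqα : q ∉ alpha H)
    (hQP : Q ≤ Subgroup.centralizer (P : Set G)) (hker : FrobKer Q R)
    (hNQ : ¬ Subgroup.normalizer (Q : Set G) ≤ H) : False := by
  haveI : Fact p.Prime := ⟨b.pprime⟩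
  haveI : Fact r.Prime := ⟨b.hr⟩
  have hpα := b.hpα hG
  obtain ⟨hKH, hKG, -⟩ := theorem_10_2 hG b.hH
  set K := alphaCore H with hK
  have hKleH : K ≤ H := hKH.1
  have hHK : H ≤ Subgroup.normalizer (K : Set G) := le_normalizer_piCoreOf (alpha H) H
  have hAH : Q ⊔ R ≤ H := sup_le hQH b.hRH
  have hAK : Q ⊔ R ≤ Subgroup.normalizer (K : Set G) := hAH.trans hHK
  have hrα : r ∉ alpha H := fun h => b.hrσH (alpha_subset_sigma hG b.hH h)
  have hdvd : Nat.card ↥(Q ⊔ R : Subgroup G) ∣ Nat.card ↥Q * Nat.card ↥R := by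
    have := card_sup_mul_card_inf R Q hker.hRF
    rw [sup_comm] at this
    rw [mul_comm (Nat.card ↥Q)]
    exact Dvd.intro _ this
  have hcop : (Nat.card ↥(Q ⊔ R : Subgroup G)).Coprime (Nat.card ↥K) := by
    apply Nat.coprime_of_dvd
    intro t ht h1 h2
    have h3 : t ∈ alpha H := hKH.2.1 t ht h2
    rcases (Nat.Prime.dvd_mul ht).mp (h1.trans hdvd) with h4 | h4
    · rw [prime_eq_of_dvd_card hQq ht h4] at h3
      exact hqα h3
    · rw [b.hRc, Nat.prime_dvd_prime_iff_eq ht b.hr] at h4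
      rw [h4] at h3
      exact hrα h3
  have hsolv : Group.IsSolvable ↥(Q ⊔ R : Subgroup G) :=
    solvable_of_ne_top hG (ne_top_of_le_ne_top b.hH.1 hAH)
  have hPK : P ≤ K :=
    le_of_not_dvd_relIndex hKleH hHK (hKH.2.2 p b.pprime hpα) b.hPH b.hPp
  have hPA : Q ⊔ R ≤ Subgroup.normalizer (P : Set G) := by
    refine le_trans ?_ (Subgroup.centralizer_le_normalizer _)
    exact sup_le hQP b.hRP
  obtain ⟨S₀, hPS, hAS⟩ :=
    coprime_invariant_pgroup_le_sylow (Q ⊔ R) K hAK hcop (Or.inl hsolv) p P hPK b.hPp hPA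
  set S := (S₀ : Subgroup ↥K).map K.subtype with hS
  have hSsyl : SylIn p K S := sylIn_map_sylow S₀
  have hSK : S ≤ K := hSsyl.1
  have hSH : S ≤ H := hSK.trans hKleH
  have hSp : IsPGroup p ↥S := hSsyl.2.1
  have hQS : Q ≤ Subgroup.normalizer (S : Set G) := le_sup_left.trans hAS
  have hRS : R ≤ Subgroup.normalizer (S : Set G) := le_sup_right.trans hAS
  -- `S` is a Sylow subgroup of `G`
  have hidx : ¬ p ∣ S.index := by
    rw [← Subgroup.relIndex_mul_index hSK]
    intro hd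
    rcases (Nat.Prime.dvd_mul b.pprime).mp hd with h | h
    · exact hSsyl.2.2 h
    · exact hKG.2 p b.pprime hpα h
  -- the hypotheses of Claim F
  have hcopS : (Nat.card ↥S).Coprime (Nat.card ↥(Q ⊔ R : Subgroup G)) :=
    (Nat.Coprime.coprime_dvd_right (Subgroup.card_dvd_of_le hSK) hcop).symm
  have hCF : IsCyclic ↥(S ⊓ Subgroup.centralizer (Q : Set G) : Subgroup G) :=
    isCyclic_of_ideal hG b.hid b.hH hker.hF1 hQH hNQ (inf_le_left.trans hSH) inf_le_right
      (hSp.to_le inf_le_left)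
  have hCR : IsCyclic ↥(S ⊓ Subgroup.centralizer (R : Set G) : Subgroup G) :=
    isCyclic_of_ideal hG b.hid b.hH b.hR1 b.hRH (b.hNR hG) (inf_le_left.trans hSH) inf_le_right
      (hSp.to_le inf_le_left)
  have hPC : P ≤ S ⊓ Subgroup.centralizer (Q : Set G) :=
    le_inf hPS (Subgroup.le_centralizer_iff.mp hQP)
  have hne : S ⊓ Subgroup.centralizer (Q : Set G) ≠ ⊥ := by
    intro h0
    rw [h0] at hPC
    exact b.hP1 (eq_bot_iff.mpr hPC)
  have hCFR : S ⊓ Subgroup.centralizer (Q : Set G) ≤ Subgroup.centralizer (R : Set G) := by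
    apply le_centralizer_of_cyclic_of_fixed (hSp.to_le inf_le_left) hCF
      (le_normalizer_inf' hRS (le_normalizer_centralizer' hker.hRF))
    · rw [b.hRc]
      have h1 : (Nat.card ↥(S ⊓ Subgroup.centralizer (Q : Set G) : Subgroup G)).Coprime
          (Nat.card ↥(Q ⊔ R : Subgroup G)) :=
        Nat.Coprime.coprime_dvd_left (Subgroup.card_dvd_of_le inf_le_left) hcopS
      have h2 := Nat.Coprime.coprime_dvd_right (Subgroup.card_dvd_of_le
        (le_sup_right : R ≤ Q ⊔ R)) h1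
      rw [b.hRc] at h2
      exact h2.symm
    · intro h0
      have h1 : P ≤ (S ⊓ Subgroup.centralizer (Q : Set G)) ⊓ Subgroup.centralizer (R : Set G) :=
        le_inf hPC (Subgroup.le_centralizer_iff.mp b.hRP)
      rw [h0] at h1
      exact b.hP1 (eq_bot_iff.mpr h1)
  have hact : FrobAct p Q R S := ⟨hker, hSp, hQS, hRS, hcopS, hCF, hCR, hCFR⟩
  have hp2 : p ≠ 2 := prime_ne_two hG b.hPp b.hP1
  have hcyc := hact.isCyclic hp2 hne
  -- but `S` has rank at least three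
  apply b.hid.2.1
  apply NS.prankLE_of_sylow (hSp.toSylow hidx) 2
  rw [IsPGroup.toSylow_coe]
  intro A hAc hAe
  have h1 := prankLE_one_of_isCyclic (C := ↥S) p A hAc hAe
  have h2 : p ^ 1 ≤ p ^ 2 := Nat.pow_le_pow_right b.pprime.pos (by norm_num)
  omega

end Bad

end Cfsg.Agent.Lib.Helper4.BG18
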