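import Mathlib
import Cfsg.Agent.Lib.Helper4.BG18e
import Cfsg.Agent.S1418

set_option autoImplicit false
set_option linter.style.haveILetI false
set_option linter.unusedSectionVars false
set_option maxHeartbeats 400000

/-! Bender–Glauberman Theorem 13.4: the prime `q` lies in `σ(H)`. -/

namespace Cfsg.Agent.Lib.Helper4.BG18

open Cfsg Cfsg.Agent.Lib.Lead Cfsg.Agent.Lib.Lead.BG10 Cfsg.Agent.Lib.Helper7 Cfsg.Agent.Lib.Helper4
open Cfsg.Agent.Lib.Helper4.BG76 Cfsg.Agent.Lib.Helper4.BG8 Cfsg.Agent.Lib.Helper4.BG9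
open Cfsg.Agent.Lib.Helper4.BG7 Cfsg.Agent.Lib.Helper4.BG12 Cfsg.Agent.Lib.Helper4.BGConj
open Cfsg.Agent.Lib.Helper4.BG13 Cfsg.Agent.Lib.Lead.BG95 Cfsg.Agent.Lib.Lead.BG12q
open Cfsg.Agent.Lib.Lead.BG11
open scoped commutatorElement

universe u

variable {G : Type u} [Group G] [Finite G]

namespace Bad

variable {M E P R H : Subgroup G} {p r : ℕ}

theorem H_ne_M (b : Bad M E P R H p r) : H ≠ M := by
  intro h
  apply b.hnc 1
  rw [h]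
  ext x
  simp [cj]

theorem hPσ (b : Bad M E P R H p r) (hG : IsMinSimpleOddOrder G) : P ≤ sigmaCore H := by
  haveI : Fact p.Prime := ⟨b.pprime⟩
  exact le_sigmaCore_of_isPGroup hG b.hH b.hpH b.hPH b.hPp

/-- primes of subgroups of `M_σ` lie in `σ(M)` -/
theorem mem_sigma_of_le (b : Bad M E P R H p r) (hG : IsMinSimpleOddOrder G) {q : ℕ}
    [hq : Fact q.Prime] {Q : Subgroup G} (hQM : Q ≤ sigmaCore M) (hQq : IsPGroup q ↥Q)
    (hQ1 : Q ≠ ⊥) : q ∈ sigma M :=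
  (sigmaCore_hall hG b.hM).1.2.1 q hq.out
    ((dvd_card_of_ne_bot hQq hQ1).trans (Subgroup.card_dvd_of_le hQM))

/-- Steps 3 and 4: an `R`-invariant `q`-subgroup `Q = [Q, R] ≠ 1` of `C_{M_σ}(P)` has `q ∈ σ(H)` -/
theorem mem_sigma (b : Bad M E P R H p r) (hG : IsMinSimpleOddOrder G) {q : ℕ} [hq : Fact q.Prime]
    {Q : Subgroup G} (hQM : Q ≤ sigmaCore M) (hQP : Q ≤ Subgroup.centralizer (P : Set G))
    (hQq : IsPGroup q ↥Q) (hRQ : R ≤ Subgroup.normalizer (Q : Set G)) (hc : ⁅Q, R⁆ = Q)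
    (hQ1 : Q ≠ ⊥) : q ∈ sigma H := by
  classical
  haveI : Fact p.Prime := ⟨b.pprime⟩
  haveI : Fact r.Prime := ⟨b.hr⟩
  by_contra hqσ
  have hQH : Q ≤ H := hQP.trans b.hCH
  have hqα : q ∉ alpha H := fun h => hqσ (alpha_subset_sigma hG b.hH h)
  have hqM : q ∈ sigma M := b.mem_sigma_of_le hG hQM hQq hQ1
  have hq2 : q ≠ 2 := prime_ne_two hG hQq hQ1
  have hrq : r ≠ q := by
    rintro rfl
    exact b.hrσM hG hqM
  have hcop : (Nat.card ↥R).Coprime (Nat.card ↥Q) := by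
    rw [b.hRc, Nat.Prime.coprime_iff_not_dvd b.hr]
    intro hd
    exact hrq (prime_eq_of_dvd_card hQq b.hr hd)
  by_cases hr1 : PRankLE q 1 ↥H
  · -- cyclic Sylow `q`-subgroups of `H`
    have hNQ := not_normalizer_le_of_rank_one hG b.hH hqσ hr1 hQq hQ1
    have hQc : IsCyclic ↥Q := isCyclic_of_pRankLE_one hq2 hr1 hQH hQq
    have hcomm : IsMulCommutative ↥Q := ⟨⟨fun x y => by
      let _ := IsCyclic.commGroup (α := ↥Q)
      exact mul_comm x y⟩⟩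
    have hker : FrobKer Q R := frobKer_of_abelian hcomm (b.hRc ▸ b.hr) hRQ hcop hc hQ1
    exact b.hside hG hQH hQq hqα hQP hker hNQ
  · -- `q ∈ τ₂(H)`
    have hr2 : PRankLE q 2 ↥H := by
      by_contra h
      exact hqα ⟨hq.out, h⟩
    have hτ : q ∈ tau2 H := ⟨hq.out, hqσ, hr2, hr1⟩
    -- a subgroup `Q₀ ≤ Q` of order `q`
    obtain ⟨x, hx⟩ := exists_prime_orderOf_dvd_card' q (dvd_card_of_ne_bot hQq hQ1)
    set Q₀ : Subgroup G := Subgroup.zpowers (x : G) with hQ₀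
    have hQ₀Q : Q₀ ≤ Q := Subgroup.zpowers_le.2 x.2
    have hQ₀c : Nat.card Q₀ = q := by
      rw [hQ₀, Nat.card_zpowers, Subgroup.orderOf_coe, hx]
    have hQ₀q : IsPGroup q ↥Q₀ := isPGroup_of_card_eq hQ₀c
    have hQ₀1 : Q₀ ≠ ⊥ := ne_bot_of_card_prime (hQ₀c ▸ hq.out)
    have hQ₀H : Q₀ ≤ H := hQ₀Q.trans hQH
    have hcop2 : (Nat.card Q₀).Coprime (Nat.card (sigmaCore H)) := by
      rw [hQ₀c, Nat.Prime.coprime_iff_not_dvd hq.out]
      intro hd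
      exact hqσ ((sigmaCore_hall hG b.hH).1.2.1 q hq.out hd)
    obtain ⟨EH, hEH, hQ₀E⟩ := exists_complIn_ge hG b.hH hQ₀H hcop2
    obtain ⟨A₀, hA₀H, hA₀e, hA₀c⟩ := exists_elementary_of_not_pRankLE hr1
    have hA₀2 : Nat.card A₀ = q ^ 2 :=
      card_eq_sq hA₀e hA₀c (fun h => not_pRankLE_of_elementary hA₀H hA₀e h hr2)
    obtain ⟨T, hQ₀T, hT⟩ := exists_sylIn_ge hQ₀E hQ₀q
    have hTH : SylIn q H T := sylIn_of_sylIn_compl hG b.hH hEH hqσ hT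
    obtain ⟨c, -, hcA⟩ := hTH.exists_conj_le hA₀H (isPGroup_of_elementary hA₀e)
    have hAe : IsElementaryAbelian q (cj c A₀) := isElementaryAbelian_map hA₀e _
    have hA2 : Nat.card (cj c A₀) = q ^ 2 := by rw [card_cj]; exact hA₀2
    have hAE : cj c A₀ ≤ EH := hcA.trans hT.1
    obtain ⟨⟨-, h1⟩, -, h3⟩ :=
      Cfsg.Agent.S1418.result hG H b.hH EH hEH q hτ (cj c A₀) ⟨hAE, hAe, hA2⟩
    have hQ₀A : Q₀ ≤ cj c A₀ := h1 Q₀ hQ₀E hQ₀c
    have hne : sigmaCore H ⊓ Subgroup.centralizer (Q₀ : Set G) ≠ ⊥ := by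
      intro h0
      have h4 : P ≤ sigmaCore H ⊓ Subgroup.centralizer (Q₀ : Set G) :=
        le_inf (b.hPσ hG) (Subgroup.le_centralizer_iff.mp (hQ₀Q.trans hQP))
      rw [h0] at h4
      exact b.hP1 (eq_bot_iff.mpr h4)
    obtain ⟨hCQ, huniq⟩ := h3 Q₀ hQ₀A hQ₀c hne
    have hQ₀top : Q₀ ≠ ⊤ := fun h => b.hH.1 (eq_top_iff.mpr (h ▸ hQ₀H))
    obtain ⟨L, hL, hNL⟩ := exists_coatom_ge (normalizer_ne_top hG hQ₀1 hQ₀top)
    have hLH : L = H := huniq L hL ((Subgroup.centralizer_le_normalizer _).trans hNL)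
    rw [hLH] at hNL
    obtain ⟨-, -, -, hcompl⟩ := lemma_12_17e hG b.hM b.hH b.H_ne_M hqM hQ₀q hQ₀1
      ((hQ₀Q.trans hQM).trans (sigmaCore_le M)) hNL hqσ
    have h5 : P ≤ (M ⊓ H) ⊓ sigmaCore H := le_inf (le_inf b.hPM b.hPH) (b.hPσ hG)
    rw [hcompl.2.2.1] at h5
    exact b.hP1 (eq_bot_iff.mpr h5)

end Bad

end Cfsg.Agent.Lib.Helper4.BG18
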