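import Mathlib
import Cfsg.Agent.Lib.Helper4.BG18f
import Cfsg.Agent.Lib.Lead.BG12q1

set_option autoImplicit false
set_option linter.style.haveILetI false
set_option linter.unusedSectionVars false
set_option maxHeartbeats 800000

/-! Bender–Glauberman Theorem 13.4, relative to Corollary 13.2. -/

namespace Cfsg.Agent.Lib.Helper4.BG18

open Cfsg Cfsg.Agent.Lib.Lead Cfsg.Agent.Lib.Lead.BG10 Cfsg.Agent.Lib.Helper7 Cfsg.Agent.Lib.Helper4
open Cfsg.Agent.Lib.Helper4.BG76 Cfsg.Agent.Lib.Helper4.BG8 Cfsg.Agent.Lib.Helper4.BG9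
open Cfsg.Agent.Lib.Helper4.BG7 Cfsg.Agent.Lib.Helper4.BG12 Cfsg.Agent.Lib.Helper4.BGConj
open Cfsg.Agent.Lib.Helper4.BG13 Cfsg.Agent.Lib.Lead.BG95 Cfsg.Agent.Lib.Lead.BG12q
open Cfsg.Agent.Lib.Lead.BG11
open scoped commutatorElement

universe u

variable {G : Type u} [Group G] [Finite G]

/-- the part of Corollary 13.2 used in the proof of Theorem 13.4, as a hypothesis on `G` -/
def T13_2 (G : Type u) [Group G] : Prop :=
  ∀ (M H : Subgroup G), IsCoatom M → IsCoatom H → ∀ (p : ℕ) [Fact p.Prime],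
    (p ∈ tau1 M ∨ p ∈ tau3 M) → ∀ P : Subgroup G, P ≤ M → IsPGroup p ↥P → P ≠ ⊥ →
    Subgroup.normalizer (P : Set G) ≤ H →
      (∀ g : G, H ≠ cj g M) ∧
      (∀ X : Subgroup G, X ≤ M ⊓ H →
        (∀ r : ℕ, r.Prime → r ∣ Nat.card ↥X → r ∉ sigma M ∧ r ∉ tau1 H) →
        sigmaCore M ⊓ H ≤ Subgroup.centralizer (X : Set G)) ∧
      (⁅sigmaCore M ⊓ H, M ⊓ H⁆ ≠ ⊥ → p ∈ sigma H ∧ (p ∈ tau1 M → IsIdealPrime p G))

section

variable {M E P R : Subgroup G} {p : ℕ}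

/-- a counterexample to Theorem 13.4 gives the configuration `Bad` -/
theorem bad_of (hG : IsMinSimpleOddOrder G) (h132 : T13_2 G) (hM : IsCoatom M)
    (hE : IsComplIn E (sigmaCore M) M) (hp : p ∈ tau1 M) (hPE : P ≤ E) (hPc : Nat.card P = p)
    (hRE : R ≤ E) (hRP : R ≤ Subgroup.centralizer (P : Set G)) (hRr : (Nat.card R).Prime)
    (hnot : ¬ sigmaCore M ⊓ Subgroup.centralizer (P : Set G) ≤ Subgroup.centralizer (R : Set G)) :
    ∃ H : Subgroup G, Bad M E P R H p (Nat.card R) := by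
  haveI : Fact p.Prime := ⟨hp.1⟩
  have hPp : IsPGroup p ↥P := isPGroup_of_card_eq hPc
  have hP1 : P ≠ ⊥ := ne_bot_of_card_prime (hPc ▸ hp.1)
  have hPM : P ≤ M := hPE.trans hE.1
  have hRM : R ≤ M := hRE.trans hE.1
  have hPtop : P ≠ ⊤ := fun h => hM.1 (eq_top_iff.mpr (h ▸ hPM))
  obtain ⟨H, hH, hNH⟩ := exists_coatom_ge (normalizer_ne_top hG hP1 hPtop)
  have hCH : Subgroup.centralizer (P : Set G) ≤ H := (Subgroup.centralizer_le_normalizer _).trans hNH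
  have hRH : R ≤ H := hRP.trans hCH
  obtain ⟨hnc, hb, hc⟩ := h132 M H hM hH p (Or.inl hp) P hPM hPp hP1 hNH
  have hKH : sigmaCore M ⊓ Subgroup.centralizer (P : Set G) ≤ sigmaCore M ⊓ H :=
    inf_le_inf_left _ hCH
  have hcomm : ⁅sigmaCore M ⊓ H, M ⊓ H⁆ ≠ ⊥ := by
    intro h0
    rw [Subgroup.commutator_eq_bot_iff_le_centralizer] at h0
    apply hnot
    exact hKH.trans (h0.trans (Subgroup.centralizer_le (le_inf hRM hRH)))
  obtain ⟨hpH, hid⟩ := hc hcomm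
  have hrσM : Nat.card R ∉ sigma M := by
    intro hσ
    haveI : Fact (Nat.card R).Prime := ⟨hRr⟩
    have h1 := le_sigmaCore_of_isPGroup hG hM hσ hRM (isPGroup_of_card_eq rfl)
    have h2 : R ≤ E ⊓ sigmaCore M := le_inf hRE h1
    rw [hE.2.2.1] at h2
    exact ne_bot_of_card_prime hRr (eq_bot_iff.mpr h2)
  refine ⟨H, hM, hE, hp, hPE, hPc, hRE, hRP, rfl, hRr, hH, hNH, hnc, hpH, hid hp, ?_⟩
  by_contra hrτ
  apply hnot
  refine hKH.trans (hb R (le_inf hRM hRH) ?_)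
  intro t ht htd
  rw [Nat.prime_dvd_prime_iff_eq ht hRr] at htd
  rw [htd]
  exact ⟨hrσM, hrτ⟩

/-- Theorem 13.4 for `M_α` in place of `M_σ` -/
theorem alpha_step (hG : IsMinSimpleOddOrder G) (h132 : T13_2 G) (hM : IsCoatom M)
    (hE : IsComplIn E (sigmaCore M) M) (hp : p ∈ tau1 M) (hPE : P ≤ E) (hPc : Nat.card P = p)
    (hRE : R ≤ E) (hRP : R ≤ Subgroup.centralizer (P : Set G)) (hRr : (Nat.card R).Prime) :
    alphaCore M ⊓ Subgroup.centralizer (P : Set G) ≤ Subgroup.centralizer (R : Set G) := by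
  by_contra hnot
  obtain ⟨hαH, -, hασ, -⟩ := theorem_10_2 hG hM
  have hnot' : ¬ sigmaCore M ⊓ Subgroup.centralizer (P : Set G) ≤
      Subgroup.centralizer (R : Set G) := fun h => hnot ((inf_le_inf_right _ hασ).trans h)
  obtain ⟨H, b⟩ := bad_of hG h132 hM hE hp hPE hPc hRE hRP hRr hnot'
  have hRK : R ≤ Subgroup.normalizer
      ((alphaCore M ⊓ Subgroup.centralizer (P : Set G) : Subgroup G) : Set G) := by
    apply le_normalizer_inf' (b.hRM.trans (le_normalizer_piCoreOf (alpha M) M))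
    apply le_normalizer_centralizer'
    exact hRP.trans (Subgroup.centralizer_le_normalizer _)
  obtain ⟨q, Q, hq, hQK, hQq, hRQ, hc, hQ1⟩ :=
    b.exists_q hG (inf_le_left.trans hασ) hRK hnot
  haveI : Fact q.Prime := ⟨hq⟩
  have hQM : Q ≤ sigmaCore M := (hQK.trans inf_le_left).trans hασ
  have hqH := b.mem_sigma hG hQM (hQK.trans inf_le_right) hQq hRQ hc hQ1
  have hqM := b.mem_sigma_of_le hG hQM hQq hQ1
  have hqα : q ∈ alpha M :=
    hαH.2.1 q hq ((dvd_card_of_ne_bot hQq hQ1).trans (Subgroup.card_dvd_of_le (hQK.trans inf_le_left)))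
  have hnc' : ∀ g : G, M ≠ cj g H := by
    intro g hg
    apply b.hnc g⁻¹
    rw [hg, cj_inv_cj]
  exact (sigma_disjoint hG hM b.hH hnc' hqM hqH).1 hqα

end

end Cfsg.Agent.Lib.Helper4.BG18
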