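import Mathlib
import Cfsg.Agent.Lib.Helper4.BG18g

set_option autoImplicit false
set_option linter.style.haveILetI false
set_option linter.unusedSectionVars false
set_option maxHeartbeats 800000

/-! Bender–Glauberman Theorem 13.4: the final case `q ∈ σ(M) ∩ σ(H)`. -/

namespace Cfsg.Agent.Lib.Helper4.BG18

open Cfsg Cfsg.Agent.Lib.Lead Cfsg.Agent.Lib.Lead.BG10 Cfsg.Agent.Lib.Helper7 Cfsg.Agent.Lib.Helper4
open Cfsg.Agent.Lib.Helper4.BG76 Cfsg.Agent.Lib.Helper4.BG8 Cfsg.Agent.Lib.Helper4.BG9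
open Cfsg.Agent.Lib.Helper4.BG7 Cfsg.Agent.Lib.Helper4.BG12 Cfsg.Agent.Lib.Helper4.BGConj
open Cfsg.Agent.Lib.Helper4.BG13 Cfsg.Agent.Lib.Lead.BG95 Cfsg.Agent.Lib.Lead.BG12q
open Cfsg.Agent.Lib.Lead.BG11
open scoped commutatorElement

universe u

variable {G : Type u} [Group G] [Finite G]

/-- a Sylow subgroup of the Hall subgroup `M_σ` is a Sylow subgroup of `M` -/
theorem sylIn_of_sylIn_sigmaCore (hG : IsMinSimpleOddOrder G) {M : Subgroup G} (hM : IsCoatom M)
    {q : ℕ} [hq : Fact q.Prime] (hqM : q ∈ sigma M) {S : Subgroup G}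
    (hS : SylIn q (sigmaCore M) S) : SylIn q M S := by
  refine ⟨hS.1.trans (sigmaCore_le M), hS.2.1, ?_⟩
  rw [← Subgroup.relIndex_mul_relIndex S (sigmaCore M) M hS.1 (sigmaCore_le M)]
  intro hd
  rcases (Nat.Prime.dvd_mul hq.out).mp hd with h | h
  · exact hS.2.2 h
  · exact (sigmaCore_hall hG hM).1.2.2 q hq.out hqM h

/-- a Sylow subgroup of the Hall subgroup `M_α` is a Sylow subgroup of `M` -/
theorem sylIn_of_sylIn_alphaCore (hG : IsMinSimpleOddOrder G) {M : Subgroup G} (hM : IsCoatom M)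
    {q : ℕ} [hq : Fact q.Prime] (hqM : q ∈ alpha M) {S : Subgroup G}
    (hS : SylIn q (alphaCore M) S) : SylIn q M S := by
  have hle : alphaCore M ≤ M := (theorem_10_2 hG hM).1.1
  refine ⟨hS.1.trans hle, hS.2.1, ?_⟩
  rw [← Subgroup.relIndex_mul_relIndex S (alphaCore M) M hS.1 hle]
  intro hd
  rcases (Nat.Prime.dvd_mul hq.out).mp hd with h | h
  · exact hS.2.2 h
  · exact (theorem_10_2 hG hM).1.2.2 q hq.out hqM h

/-- the three subgroups lemma in the form: `R` centralizes `C`, `Q = [Q, R]` normalizes `C`; then `Q`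
centralizes `C` -/
theorem le_centralizer_of_three {Q R C : Subgroup G} (hc : ⁅Q, R⁆ = Q)
    (hCR : C ≤ Subgroup.centralizer (R : Set G)) (hQC : Q ≤ Subgroup.normalizer (C : Set G)) :
    Q ≤ Subgroup.centralizer (C : Set G) := by
  have h1 : ⁅⁅C, R⁆, Q⁆ = ⊥ := by
    rw [Subgroup.commutator_eq_bot_iff_le_centralizer.mpr hCR]
    exact Subgroup.commutator_bot_left Q
  have h2 : ⁅⁅Q, C⁆, R⁆ = ⊥ := by
    rw [eq_bot_iff]
    have h3 : ⁅Q, C⁆ ≤ C := by
      rw [Subgroup.commutator_comm]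
      exact commutator_le_left_of_le_normalizer C Q hQC
    exact (Subgroup.commutator_mono h3 le_rfl).trans
      (Subgroup.commutator_eq_bot_iff_le_centralizer.mpr hCR).le
  have h4 : ⁅⁅R, Q⁆, C⁆ = ⊥ := Subgroup.commutator_commutator_eq_bot_of_rotate h2 h1
  rw [Subgroup.commutator_comm R Q, hc, Subgroup.commutator_eq_bot_iff_le_centralizer] at h4
  exact h4

namespace Bad

variable {M E P R H : Subgroup G} {p r : ℕ}

/-- `N_G(S) ≤ M ∩ H` for a `P`-invariant Sylow `q`-subgroup of `M`, `q ∈ σ(M) ∩ σ(H)` -/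
theorem normalizer_le (b : Bad M E P R H p r) (hG : IsMinSimpleOddOrder G) {q : ℕ}
    [hq : Fact q.Prime] (hqM : q ∈ sigma M) (hqH : q ∈ sigma H) {S : Subgroup G}
    (hS : SylIn q M S) (hPS : P ≤ Subgroup.normalizer (S : Set G)) :
    Subgroup.normalizer (S : Set G) ≤ M ⊓ H := by
  haveI : Fact p.Prime := ⟨b.pprime⟩
  have dS : SigmaData M q S := sigmaData_of_sylIn b.hM hqM hS
  obtain ⟨T, dT⟩ := exists_sigmaData b.hH hqH
  have h1 : SylIn q ⊤ S := sylIn_of_sylow dS.hPsyl le_top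
  have h2 : SylIn q ⊤ T := sylIn_of_sylow dT.hPsyl le_top
  obtain ⟨g, -, hg⟩ := h2.conj h1
  have h3 : Subgroup.normalizer (S : Set G) ≤ cj g H := by
    rw [← hg, normalizer_cj]
    exact cj_mono g dT.hN
  -- `g ∈ H`
  have h4 : cj g⁻¹ P ≤ H := by
    have := cj_mono g⁻¹ (hPS.trans h3)
    rwa [cj_inv_cj] at this
  obtain ⟨m, hm, c, hc, e⟩ := (theorem_10_1 hG b.hH b.hpH b.hPp b.hPH).1 g⁻¹ h4
  have h5 : g⁻¹ ∈ H := by
    rw [e]
    exact H.mul_mem hm (b.hCH hc)
  have h6 : g ∈ H := by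
    have := H.inv_mem h5
    rwa [inv_inv] at this
  rw [cj_eq_self_of_mem h6] at h3
  exact le_inf dS.hN h3

/-- Step 7: the final contradiction -/
theorem final (b : Bad M E P R H p r) (hG : IsMinSimpleOddOrder G) (h132 : T13_2 G) {q : ℕ}
    [hq : Fact q.Prime] {Q : Subgroup G} (hQM : Q ≤ sigmaCore M)
    (hQP : Q ≤ Subgroup.centralizer (P : Set G)) (hQq : IsPGroup q ↥Q)
    (hRQ : R ≤ Subgroup.normalizer (Q : Set G)) (hc : ⁅Q, R⁆ = Q) (hQ1 : Q ≠ ⊥) : False := by
  classical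
  haveI : Fact p.Prime := ⟨b.pprime⟩
  haveI : Fact r.Prime := ⟨b.hr⟩
  have hRprime : (Nat.card ↥R).Prime := by rw [b.hRc]; exact b.hr
  have hPprime : (Nat.card ↥P).Prime := by rw [b.hPc]; exact b.pprime
  have hqM : q ∈ sigma M := b.mem_sigma_of_le hG hQM hQq hQ1
  have hqH : q ∈ sigma H := b.mem_sigma hG hQM hQP hQq hRQ hc hQ1
  have hncMH : ∀ g : G, M ≠ cj g H := by
    intro g hg
    apply b.hnc g⁻¹
    rw [hg, cj_inv_cj]
  have hqαM : q ∉ alpha M := (sigma_disjoint hG b.hM b.hH hncMH hqM hqH).1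
  have hqαH : q ∉ alpha H := (sigma_disjoint hG b.hH b.hM b.hnc hqH hqM).1
  have hQH : Q ≤ H := hQP.trans b.hCH
  have hQMle : Q ≤ M := hQM.trans (sigmaCore_le M)
  have hrq : r ≠ q := by
    rintro rfl
    exact b.hrσM hG hqM
  have hcopRQ : (Nat.card ↥R).Coprime (Nat.card ↥Q) := by
    rw [b.hRc, Nat.Prime.coprime_iff_not_dvd b.hr]
    intro hd
    exact hrq (prime_eq_of_dvd_card hQq b.hr hd)
  -- the group `A = P ⊔ R`
  have hAM : P ⊔ R ≤ M := sup_le b.hPM b.hRM
  have hRNP : R ≤ Subgroup.normalizer (P : Set G) :=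
    b.hRP.trans (Subgroup.centralizer_le_normalizer _)
  have hdvd : Nat.card ↥(P ⊔ R : Subgroup G) ∣ Nat.card ↥R * Nat.card ↥P := by
    have := card_sup_mul_card_inf R P hRNP
    rw [sup_comm] at this
    exact Dvd.intro _ this
  have hcopA : (Nat.card ↥(P ⊔ R : Subgroup G)).Coprime (Nat.card ↥(sigmaCore M)) := by
    apply Nat.coprime_of_dvd
    intro t ht h1 h2
    have h3 : t ∈ sigma M := (sigmaCore_hall hG b.hM).1.2.1 t ht h2
    rcases (Nat.Prime.dvd_mul ht).mp (h1.trans hdvd) with h4 | h4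
    · rw [b.hRc, Nat.prime_dvd_prime_iff_eq ht b.hr] at h4
      rw [h4] at h3
      exact b.hrσM hG h3
    · rw [b.hPc, Nat.prime_dvd_prime_iff_eq ht b.pprime] at h4
      rw [h4] at h3
      exact b.hpσM h3
  have hAsolv : Group.IsSolvable ↥(P ⊔ R : Subgroup G) :=
    solvable_of_ne_top hG (ne_top_of_le_ne_top b.hM.1 hAM)
  have hAQ : P ⊔ R ≤ Subgroup.normalizer (Q : Set G) :=
    sup_le ((Subgroup.le_centralizer_iff.mp hQP).trans (Subgroup.centralizer_le_normalizer _)) hRQ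
  obtain ⟨S₀, hQS, hAS⟩ := coprime_invariant_pgroup_le_sylow (P ⊔ R) (sigmaCore M)
    (hAM.trans (le_normalizer_sigmaCore M)) hcopA (Or.inl hAsolv) q Q hQM hQq hAQ
  have hSσ : SylIn q (sigmaCore M) ((S₀ : Subgroup ↥(sigmaCore M)).map (sigmaCore M).subtype) :=
    sylIn_map_sylow S₀
  generalize (S₀ : Subgroup ↥(sigmaCore M)).map (sigmaCore M).subtype = S at hQS hAS hSσ
  have hSM : SylIn q M S := sylIn_of_sylIn_sigmaCore hG b.hM hqM hSσ
  have hNS := b.normalizer_le hG hqM hqH hSM (le_sup_left.trans hAS)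
  have hSle : S ≤ M ⊓ H := Subgroup.le_normalizer.trans hNS
  have hSMH : SylIn q (M ⊓ H) S := by
    refine ⟨hSle, hSM.2.1, fun hd => hSM.2.2 ?_⟩
    rw [← Subgroup.relIndex_mul_relIndex S (M ⊓ H) M hSle inf_le_left]
    exact Dvd.dvd.mul_right hd _
  obtain ⟨-, hτ, hαβ, hβ1, hSab, -, -, -⟩ :=
    lemma_12_17d hG b.hM b.hH b.H_ne_M hSMH hNS
  have hrM : r ∈ tau1 M := by
    rcases hτ r b.hrH with h | h
    · exact h
    · exfalso
      have h' : r ∈ alpha M := by rw [hαβ]; exact h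
      exact b.hrσM hG (alpha_subset_sigma hG b.hM h')
  have h1 : alphaCore M ⊓ Subgroup.centralizer (P : Set G) ≤ Subgroup.centralizer (R : Set G) :=
    alpha_step hG h132 b.hM b.hE b.hp b.hPE b.hPc b.hRE b.hRP hRprime
  have h2 : alphaCore M ⊓ Subgroup.centralizer (R : Set G) ≤ Subgroup.centralizer (P : Set G) :=
    alpha_step hG h132 b.hM b.hE hrM b.hRE b.hRc b.hPE (Subgroup.le_centralizer_iff.mp b.hRP) hPprime
  have hQab : IsMulCommutative ↥Q := ⟨⟨fun x y => by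
    have := hSab.is_comm.comm ⟨x.1, hQS x.2⟩ ⟨y.1, hQS y.2⟩
    have h2 := congrArg (fun z : ↥S => (z : G)) this
    exact Subtype.ext h2⟩⟩
  have hker : FrobKer Q R := frobKer_of_abelian hQab hRprime hRQ hcopRQ hc hQ1
  have hQα : Q ≤ Subgroup.normalizer (alphaCore M : Set G) :=
    hQMle.trans (le_normalizer_piCoreOf (alpha M) M)
  have hRα : R ≤ Subgroup.normalizer (alphaCore M : Set G) :=
    b.hRM.trans (le_normalizer_piCoreOf (alpha M) M)
  have hQCα : Q ≤ Subgroup.normalizer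
      ((alphaCore M ⊓ Subgroup.centralizer (P : Set G) : Subgroup G) : Set G) :=
    le_normalizer_inf' hQα
      (le_normalizer_centralizer' (hQP.trans (Subgroup.centralizer_le_normalizer _)))
  have h3 : Q ≤ Subgroup.centralizer
      ((alphaCore M ⊓ Subgroup.centralizer (P : Set G) : Subgroup G) : Set G) :=
    le_centralizer_of_three hc h1 hQCα
  obtain ⟨hαH, hαG, -, -⟩ := theorem_10_2 hG b.hM
  have hαle : alphaCore M ≤ M := hαH.1
  have hTsolv : Group.IsSolvable ↥(alphaCore M) :=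
    solvable_of_ne_top hG (ne_top_of_le_ne_top b.hM.1 hαle)
  have hdvd2 : Nat.card ↥(Q ⊔ R : Subgroup G) ∣ Nat.card ↥R * Nat.card ↥Q := by
    have := card_sup_mul_card_inf R Q hRQ
    rw [sup_comm] at this
    exact Dvd.intro _ this
  have hcopT : (Nat.card ↥(alphaCore M)).Coprime (Nat.card ↥(Q ⊔ R : Subgroup G)) := by
    apply Nat.Coprime.symm
    apply Nat.coprime_of_dvd
    intro t ht h4 h5
    have h6 : t ∈ alpha M := hαH.2.1 t ht h5
    rcases (Nat.Prime.dvd_mul ht).mp (h4.trans hdvd2) with h7 | h7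
    · rw [b.hRc, Nat.prime_dvd_prime_iff_eq ht b.hr] at h7
      rw [h7] at h6
      exact b.hrσM hG (alpha_subset_sigma hG b.hM h6)
    · rw [prime_eq_of_dvd_card hQq ht h7] at h6
      exact hqαM h6
  have hform := hker.formula hQα hRα hTsolv hcopT
  have h4 : alphaCore M ⊓ Subgroup.centralizer (R : Set G) =
      alphaCore M ⊓ Subgroup.centralizer ((Q ⊔ R : Subgroup G) : Set G) := by
    apply le_antisymm
    · intro x hx
      have hxP : x ∈ Subgroup.centralizer (P : Set G) := h2 hx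
      have hxQ : x ∈ Subgroup.centralizer (Q : Set G) :=
        (Subgroup.le_centralizer_iff.mp h3) (Subgroup.mem_inf.2 ⟨hx.1, hxP⟩)
      exact Subgroup.mem_inf.2 ⟨hx.1, ZP.mem_centralizer_sup hxQ hx.2⟩
    · exact inf_le_inf_left _ (Subgroup.centralizer_le (le_sup_right : R ≤ Q ⊔ R))
  rw [← h4] at hform
  have hpos : 0 < Nat.card ↥(alphaCore M ⊓ Subgroup.centralizer (R : Set G) : Subgroup G) ^
      Nat.card ↥R := pow_pos Nat.card_pos _
  have h5 : Nat.card ↥(alphaCore M) =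
      Nat.card ↥(alphaCore M ⊓ Subgroup.centralizer (Q : Set G) : Subgroup G) :=
    Nat.eq_of_mul_eq_mul_left hpos hform
  have h6 : alphaCore M ⊓ Subgroup.centralizer (Q : Set G) = alphaCore M :=
    Subgroup.eq_of_le_of_card_ge inf_le_left h5.le
  have h7 : alphaCore M ≤ Subgroup.centralizer (Q : Set G) := by
    rw [← h6]
    exact inf_le_right
  -- `N_G(Q) ≰ H`
  have hNQ : ¬ Subgroup.normalizer (Q : Set G) ≤ H := by
    intro hle
    have hα1 : alphaCore M ≠ ⊥ := by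
      have : alphaCore M = piCoreOf (beta M) M := by
        unfold alphaCore piCoreOf
        rw [hαβ]
      rw [this]
      exact hβ1
    obtain ⟨t, ht, htd⟩ := Nat.exists_prime_and_dvd
      (fun h => hα1 (Subgroup.card_eq_one.mp h) : Nat.card ↥(alphaCore M) ≠ 1)
    haveI : Fact t.Prime := ⟨ht⟩
    have htα : t ∈ alpha M := hαH.2.1 t ht htd
    obtain ⟨B₀⟩ : Nonempty (Sylow t ↥(alphaCore M)) := inferInstance
    have hBα : SylIn t (alphaCore M)
        ((B₀ : Subgroup ↥(alphaCore M)).map (alphaCore M).subtype) := sylIn_map_sylow B₀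
    generalize (B₀ : Subgroup ↥(alphaCore M)).map (alphaCore M).subtype = B at hBα
    have hBM : SylIn t M B := sylIn_of_sylIn_alphaCore hG b.hM htα hBα
    have hr3 : ¬ PRankLE t 2 ↥B := fun h => htα.2 (prankLE_of_sylIn hBM h)
    have hU := uniq_of_rank_three hG hBM.2.1 hr3
    have hBtop : B ≠ ⊤ := ne_top_of_le_ne_top b.hM.1 hBM.1
    obtain ⟨-, huniq⟩ := uniq_of_le hU b.hM hBM.1 le_rfl hBtop
    apply b.H_ne_M
    apply huniq H b.hH
    exact hBα.1.trans (h7.trans ((Subgroup.centralizer_le_normalizer _).trans hle))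
  exact b.hside hG hQH hQq hqαH hQP hker hNQ

end Bad

/-- **Theorem 13.4** of Bender–Glauberman, relative to Corollary 13.2 -/
theorem theorem_13_4 (hG : IsMinSimpleOddOrder G) (h132 : T13_2 G) {M E P R : Subgroup G} {p : ℕ}
    (hM : IsCoatom M) (hE : IsComplIn E (sigmaCore M) M) (hp : p ∈ tau1 M) (hPE : P ≤ E)
    (hPc : Nat.card P = p) (hRE : R ≤ E) (hRP : R ≤ Subgroup.centralizer (P : Set G))
    (hRr : (Nat.card R).Prime) :
    sigmaCore M ⊓ Subgroup.centralizer (P : Set G) ≤ Subgroup.centralizer (R : Set G) := by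
  by_contra hnot
  obtain ⟨H, b⟩ := bad_of hG h132 hM hE hp hPE hPc hRE hRP hRr hnot
  have hRK : R ≤ Subgroup.normalizer
      ((sigmaCore M ⊓ Subgroup.centralizer (P : Set G) : Subgroup G) : Set G) := by
    apply le_normalizer_inf' (b.hRM.trans (le_normalizer_sigmaCore M))
    apply le_normalizer_centralizer'
    exact hRP.trans (Subgroup.centralizer_le_normalizer _)
  obtain ⟨q, Q, hq, hQK, hQq, hRQ, hc, hQ1⟩ := b.exists_q hG inf_le_left hRK hnot
  haveI : Fact q.Prime := ⟨hq⟩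
  exact b.final hG h132 (hQK.trans inf_le_left) (hQK.trans inf_le_right) hQq hRQ hc hQ1

end Cfsg.Agent.Lib.Helper4.BG18
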