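import Mathlib
import Cfsg.Agent.Lib.Helper4.BG18h
import Cfsg.Agent.Lib.Lead.BG13q3

set_option autoImplicit false
set_option linter.style.haveILetI false
set_option linter.unusedSectionVars false

/-! Bender–Glauberman Theorem 13.4, unconditionally. -/

namespace Cfsg.Agent.Lib.Helper4.BG18

open Cfsg Cfsg.Agent.Lib.Lead Cfsg.Agent.Lib.Lead.BG10 Cfsg.Agent.Lib.Helper7 Cfsg.Agent.Lib.Helper4
open Cfsg.Agent.Lib.Lead.BG13q

universe u

variable {G : Type u} [Group G] [Finite G]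

theorem t13_2 (hG : IsMinSimpleOddOrder G) : T13_2 G := by
  intro M H hM hH p _ hp P hPM hPp hP1 hNH
  have h := corollary_13_2 hG hM hH hp hPM hPp hP1 hNH
  exact ⟨h.1, h.2.2.2.1, h.2.2.2.2.1⟩

/-- **Theorem 13.4** of Bender–Glauberman -/
theorem theorem_13_4' (hG : IsMinSimpleOddOrder G) {M E P R : Subgroup G} {p : ℕ}
    (hM : IsCoatom M) (hE : IsComplIn E (sigmaCore M) M) (hp : p ∈ tau1 M) (hPE : P ≤ E)
    (hPc : Nat.card P = p) (hRE : R ≤ E) (hRP : R ≤ Subgroup.centralizer (P : Set G))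
    (hRr : (Nat.card R).Prime) :
    sigmaCore M ⊓ Subgroup.centralizer (P : Set G) ≤ Subgroup.centralizer (R : Set G) :=
  theorem_13_4 hG (t13_2 hG) hM hE hp hPE hPc hRE hRP hRr

end Cfsg.Agent.Lib.Helper4.BG18
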