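import Mathlib
import Cfsg.Agent.Lib.Helper4.BG14b

set_option autoImplicit false

/-! Bender–Glauberman: a nontrivial subgroup `X ≤ U` (in `M = K U M_σ`) with `C_{M_σ}(X) ≠ 1`
has `𝓜(C_G(X)) = {M}`. -/

namespace Cfsg.Agent.Lib.Helper4.BG14

open Cfsg Cfsg.Agent.Lib.Lead Cfsg.Agent.Lib.Lead.BG10 Cfsg.Agent.Lib.Lead.BG11
open Cfsg.Agent.Lib.Helper7 Cfsg.Agent.Lib.Helper4
open Cfsg.Agent.Lib.Helper4.BG7 Cfsg.Agent.Lib.Helper4.BG76 Cfsg.Agent.Lib.Helper4.BG8
open Cfsg.Agent.Lib.Helper4.BG9 Cfsg.Agent.Lib.Helper4.BG12 Cfsg.Agent.Lib.Helper4.BGConj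
open Cfsg.Agent.Lib.Helper4.BG13 Cfsg.Agent.Lib.Helper2.BG11 Cfsg.Agent.Lib.Helper2.BG12

universe u

variable {G : Type u} [Group G] [Finite G] {M K U : Subgroup G}

/-- a `τ₂(M)`-subgroup `X` of a complement `E` centralizes the `E_{p₀^2}` of `E`, `p₀` the
smallest prime divisor of `|X|` -/
theorem le_centralizer_sq_of_tau2 (hG : IsMinSimpleOddOrder G) (hM : IsCoatom M)
    {E : Subgroup G} (hE : IsComplIn E (sigmaCore M) M) (h126 : Norm126 M) {X : Subgroup G}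
    (hXE : X ≤ E) (hX1 : X ≠ ⊥)
    (hτ : ∀ p : ℕ, p.Prime → p ∣ Nat.card X → p ∈ tau2 M) :
    ∃ (p₀ : ℕ) (A : Subgroup G), p₀.Prime ∧ p₀ ∈ tau2 M ∧ A ≤ E ∧ IsElementaryAbelian p₀ A ∧
      Nat.card A = p₀ ^ 2 ∧ X ≤ Subgroup.centralizer (A : Set G) := by
  have hcard : Nat.card X ≠ 1 := fun h => hX1 (Subgroup.card_eq_one.mp h)
  set p₀ := (Nat.card X).minFac with hp₀
  have hp₀p : p₀.Prime := Nat.minFac_prime hcard
  haveI : Fact p₀.Prime := ⟨hp₀p⟩
  have hp₀d : p₀ ∣ Nat.card X := Nat.minFac_dvd _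
  have hp₀τ : p₀ ∈ tau2 M := hτ p₀ hp₀p hp₀d
  have hp₀σ : p₀ ∉ sigma M := hp₀τ.2.1
  have hp₀2 : p₀ ≠ 2 :=
    ne_two_of_odd hG (hp₀d.trans (Subgroup.card_subgroup_dvd_card X))
  obtain ⟨A, hAE, hA, hAcard⟩ := exists_sq_le_compl hG hM hE hp₀τ
  obtain ⟨hEA, -⟩ := h126 E hE p₀ hp₀τ A hAE hA hAcard
  refine ⟨p₀, A, hp₀p, hp₀τ, hAE, hA, hAcard, ?_⟩
  have claim : ∀ n : ℕ, ∀ z ∈ X, orderOf z = n → ∀ a ∈ A, z * a = a * z := by
    intro n
    induction n using Nat.strong_induction_on with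
    | _ n ih =>
      intro z hz hzn a ha
      have hzE : z ∈ E := hXE hz
      have hzN : z ∈ Subgroup.normalizer (A : Set G) := hEA hzE
      have hzo : orderOf z ∣ Nat.card X := by
        have := orderOf_dvd_natCard (⟨z, hz⟩ : ↥X)
        rwa [Subgroup.orderOf_mk] at this
      by_cases hq : ∃ q : ℕ, q.Prime ∧ q ∣ orderOf z ∧ q ≠ p₀
      · obtain ⟨q, hqp, hqd, hqne⟩ := hq
        haveI : Fact q.Prime := ⟨hqp⟩
        have hlt : p₀ < q :=
          lt_of_le_of_ne (Nat.minFac_le_of_dvd hqp.two_le (hqd.trans hzo)) (Ne.symm hqne)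
        have hzq : ∀ b ∈ A, z ^ q * b = b * z ^ q := by
          apply ih (orderOf (z ^ q)) ?_ (z ^ q) (pow_mem hz q) rfl
          rw [← hzn, orderOf_pow_of_dvd hqp.pos.ne' hqd]
          exact Nat.div_lt_self (orderOf_pos z) hqp.one_lt
        exact centralizes_of_pow_prime_odd hp₀2 hlt hAcard hzN hzq a ha
      · push Not at hq
        have hzp : IsPGroup p₀ ↥(Subgroup.zpowers z) := by
          have h1 : ∀ {d : ℕ}, d.Prime → d ∣ orderOf z → d = p₀ := fun {d} hd hdz => hq d hd hdz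
          have h2 := Nat.eq_prime_pow_of_unique_prime_dvd (orderOf_pos z).ne' h1
          apply IsPGroup.of_card (n := (orderOf z).primeFactorsList.length)
          rw [Nat.card_zpowers]
          exact h2
        have hsup : IsPGroup p₀ ↥(A ⊔ Subgroup.zpowers z : Subgroup G) :=
          IsPGroup.to_sup_of_normal_left' (isPGroup_of_elementary hA) hzp
            (Subgroup.zpowers_le.mpr hzN)
        have hle : A ⊔ Subgroup.zpowers z ≤ M :=
          sup_le (hAE.trans hE.1) (Subgroup.zpowers_le.mpr (hE.1 hzE))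
        exact pgroup_comm_of_not_sigma hG hM hp₀σ hle hsup z
          (Subgroup.mem_sup_right (Subgroup.mem_zpowers z)) a (Subgroup.mem_sup_left ha)
  intro z hz
  rw [Subgroup.mem_centralizer_iff]
  intro a ha
  exact (claim (orderOf z) z hz rfl a ha).symm

/-- **uniqueness for subgroups of `U` with fixed points on `M_σ`** -/
theorem centralizer_uniq_of_le_U (hG : IsMinSimpleOddOrder G) (hM : IsCoatom M)
    (h : IsSigmaDecomposition M K U) (h125 : TI125 M) (h126 : Norm126 M) {X : Subgroup G}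
    (hXU : X ≤ U) (hX1 : X ≠ ⊥)
    (hXc : sigmaCore M ⊓ Subgroup.centralizer (X : Set G) ≠ ⊥) :
    Subgroup.centralizer (X : Set G) ≤ M ∧
      ∀ L : Subgroup G, IsCoatom L → Subgroup.centralizer (X : Set G) ≤ L → L = M := by
  have hUM : U ≤ M := sd_U_le h
  have hcop : (Nat.card U).Coprime (Nat.card (sigmaCore M)) := by
    apply Nat.coprime_of_dvd
    intro k hk hkU hkS
    apply sd_not_sigma h hG hM hk hkU
    rw [card_sigmaCore] at hkS
    exact isPiNum_card_piCore (sigma M) k hk hkS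
  obtain ⟨E, hE, hUE⟩ := exists_complIn_ge hG hM hUM hcop
  have hτ : ∀ p : ℕ, p.Prime → p ∣ Nat.card X → p ∈ tau2 M :=
    fun p hp hd => sd_mem_tau2 h hG hM hXU hXc hp hd
  obtain ⟨p₀, A, hp₀p, hp₀τ, hAE, hA, hAcard, hXA⟩ :=
    le_centralizer_sq_of_tau2 hG hM hE h126 (hXU.trans hUE) hX1 hτ
  haveI : Fact p₀.Prime := ⟨hp₀p⟩
  have hAC : A ≤ Subgroup.centralizer (X : Set G) := by
    intro a ha
    rw [Subgroup.mem_centralizer_iff]
    intro x hx
    exact (Subgroup.mem_centralizer_iff.mp (hXA hx) a ha).symm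
  have huniq : ∀ L : Subgroup G, IsCoatom L → Subgroup.centralizer (X : Set G) ≤ L → L = M := by
    intro L hL hCL
    by_contra hne
    have h0 := h125 p₀ hp₀τ A (hAE.trans hE.1) hA hAcard L hL hne (hAC.trans hCL)
    apply hXc
    rw [eq_bot_iff, ← h0]
    exact inf_le_inf_left _ hCL
  have hXtop : X ≠ ⊤ := ne_top_of_le_ne_top hM.1 (hXU.trans hUM)
  have hCne : Subgroup.centralizer (X : Set G) ≠ ⊤ := centralizer_ne_top_of hG hX1 hXtop
  obtain ⟨L, hL, hCL⟩ := exists_coatom_ge hCne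
  refine ⟨?_, huniq⟩
  rw [← huniq L hL hCL]
  exact hCL

end Cfsg.Agent.Lib.Helper4.BG14
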