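import Mathlib
import Cfsg.Agent.Lib.Helper4.BG18i
import Cfsg.Agent.Lib.Helper4.BG14b
import Cfsg.Agent.Lib.Helper2.BG14y2
import Cfsg.Agent.Lib.Helper5.BG139h

set_option autoImplicit false
set_option linter.style.haveILetI false
set_option linter.unusedSectionVars false
set_option maxHeartbeats 800000

/-! Bender–Glauberman, Sections 13–14: basic facts on complements of `M_σ`, the set `κ(M)` and
Burnside's transfer argument for a central Sylow subgroup. -/

namespace Cfsg.Agent.Lib.Helper4.BG19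

open Cfsg Cfsg.Agent.Lib.Lead Cfsg.Agent.Lib.Lead.BG10 Cfsg.Agent.Lib.Helper7 Cfsg.Agent.Lib.Helper4
open Cfsg.Agent.Lib.Helper4.BG76 Cfsg.Agent.Lib.Helper4.BG8 Cfsg.Agent.Lib.Helper4.BG9
open Cfsg.Agent.Lib.Helper4.BG7 Cfsg.Agent.Lib.Helper4.BG12 Cfsg.Agent.Lib.Helper4.BGConj
open Cfsg.Agent.Lib.Helper4.BG13 Cfsg.Agent.Lib.Lead.BG95 Cfsg.Agent.Lib.Lead.BG12q
open Cfsg.Agent.Lib.Lead.BG11 Cfsg.Agent.Lib.Lead.BG13q Cfsg.Agent.Lib.Helper4.BG18
open Cfsg.Agent.Lib.Helper4.BG14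
open scoped commutatorElement

universe u

/-- **Burnside**: a central Sylow subgroup meets the derived subgroup trivially -/
theorem central_sylow_inf_commutator {H : Type*} [Group H] [Finite H] {p : ℕ} [Fact p.Prime]
    (P : Sylow p H) (hP : (P : Subgroup H) ≤ Subgroup.center H) :
    (P : Subgroup H) ⊓ commutator H = ⊥ := by
  have hP' : Subgroup.normalizer ((P : Subgroup H) : Set H) ≤
      Subgroup.centralizer ((P : Subgroup H) : Set H) := by
    have : Subgroup.centralizer ((P : Subgroup H) : Set H) = ⊤ :=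
      Subgroup.centralizer_eq_top_iff_subset.mpr hP
    rw [this]
    exact le_top
  have hcompl := MonoidHom.ker_transferSylow_isComplement' P hP'
  have hle : commutator H ≤ (MonoidHom.transferSylow P hP').ker := by
    rw [commutator_eq_closure, Subgroup.closure_le]
    rintro g ⟨g₁, g₂, rfl⟩
    show ⁅g₁, g₂⁆ ∈ (MonoidHom.transferSylow P hP').ker
    rw [MonoidHom.mem_ker, map_commutatorElement, commutatorElement_eq_one_iff_commute]
    apply Subtype.ext
    rw [Subgroup.coe_mul, Subgroup.coe_mul]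
    have h1 := hP (MonoidHom.transferSylow P hP' g₂).2
    rw [Subgroup.mem_center_iff] at h1
    exact h1 _
  rw [eq_bot_iff]
  intro x hx
  have h2 : x ∈ (MonoidHom.transferSylow P hP').ker ⊓ (P : Subgroup H) := ⟨hle hx.2, hx.1⟩
  rwa [disjoint_iff.1 hcompl.disjoint] at h2

variable {G : Type u} [Group G] [Finite G]

/-- Burnside's argument for subgroups: a Sylow subgroup of `E` centralized by `E` meets `E'`
trivially -/
theorem sylIn_inf_commutator_eq_bot {p : ℕ} [Fact p.Prime] {E R₀ : Subgroup G}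
    (hR₀ : SylIn p E R₀) (hc : E ≤ Subgroup.centralizer (R₀ : Set G)) : R₀ ⊓ ⁅E, E⁆ = ⊥ := by
  obtain ⟨T, hT⟩ := SylIn.exists_sylow hR₀
  have hTc : (T : Subgroup ↥E) ≤ Subgroup.center ↥E := by
    intro t ht
    rw [Subgroup.mem_center_iff]
    intro g
    apply Subtype.ext
    rw [Subgroup.coe_mul, Subgroup.coe_mul]
    have h1 : (t : G) ∈ R₀ := by rw [← hT]; exact ⟨t, ht, rfl⟩
    exact (Subgroup.mem_centralizer_iff.mp (hc g.2) (t : G) h1).symm
  have h0 := central_sylow_inf_commutator T hTc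
  rw [eq_bot_iff]
  rintro x ⟨hx1, hx2⟩
  rw [← hT] at hx1
  obtain ⟨t, ht, rfl⟩ := hx1
  have hx2' : (t : G) ∈ ⁅E, E⁆ := hx2
  rw [← Subgroup.map_subtype_commutator] at hx2'
  obtain ⟨c, hc', hct⟩ := hx2'
  have hct' : c = t := Subtype.ext hct
  rw [hct'] at hc'
  have h3 : t ∈ (T : Subgroup ↥E) ⊓ commutator ↥E := ⟨ht, hc'⟩
  rw [h0, Subgroup.mem_bot] at h3
  rw [Subgroup.mem_bot, h3]
  rfl

/-- a prime dividing the order of `M` outside `σ(M)` lies in `τ₁(M)`, `τ₂(M)` or `τ₃(M)` -/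
theorem tau_cases (hG : IsMinSimpleOddOrder G) {M : Subgroup G} (hM : IsCoatom M) {p : ℕ}
    (hp : p.Prime) (hpM : p ∣ Nat.card M) (hpσ : p ∉ sigma M) :
    p ∈ tau1 M ∨ p ∈ tau2 M ∨ p ∈ tau3 M := by
  have hr2 : PRankLE p 2 ↥M := by
    by_contra h0
    exact hpσ (alpha_subset_sigma hG hM ((alpha_mem_iff hp).mpr h0))
  by_cases hr1 : PRankLE p 1 ↥M
  · by_cases hd : p ∣ Nat.card ↥⁅M, M⁆
    · exact Or.inr (Or.inr ⟨hp, hpσ, hd, hr1⟩)
    · exact Or.inl ⟨hp, hpσ, hpM, hd, hr1⟩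
  · exact Or.inr (Or.inl ⟨hp, hpσ, hr2, hr1⟩)

/-- an element of order `p ∈ κ(M)` of `M` centralizes a non-identity element of `M_σ` -/
theorem fixed_of_mem_kappa {M : Subgroup G} {p : ℕ} [hp : Fact p.Prime] (hpκ : p ∈ kappa M)
    {x : G} (hxM : x ∈ M) (hxo : orderOf x = p) :
    ∃ y ∈ sigmaCore M, y ≠ 1 ∧ x * y = y * x := by
  set x' : ↥M := ⟨x, hxM⟩ with hx'
  have hx'o : orderOf x' = p := by rw [hx', Subgroup.orderOf_mk, hxo]
  have hzp : IsPGroup p ↥(Subgroup.zpowers x') := by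
    apply IsPGroup.of_card (n := 1)
    rw [Nat.card_zpowers, hx'o, pow_one]
  obtain ⟨P, hP⟩ := hzp.exists_le_sylow
  obtain ⟨hcyc, x₀, hx₀P, hx₀1, y, hy, hy1, hxy⟩ := hpκ.2.2.2 P
  refine ⟨y, hy, hy1, ?_⟩
  have hx'P : x' ∈ (P : Subgroup ↥M) := hP (Subgroup.mem_zpowers x')
  -- `⟨x'⟩ ≤ ⟨x₀⟩` inside the cyclic `p`-group `P`
  have hmem : x' ∈ Subgroup.zpowers x₀ := by
    rcases le_total_of_isCyclic_of_isPGroup (C := ↥(P : Subgroup ↥M)) P.isPGroup'
      ((Subgroup.zpowers x').subgroupOf P) ((Subgroup.zpowers x₀).subgroupOf P) with h | h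
    · have := h (show (⟨x', hx'P⟩ : ↥(P : Subgroup ↥M)) ∈ (Subgroup.zpowers x').subgroupOf P from
        Subgroup.mem_zpowers x')
      exact this
    · -- `⟨x₀⟩ ≤ ⟨x'⟩` of prime order, so they are equal
      have h1 : Subgroup.zpowers x₀ ≤ Subgroup.zpowers x' := by
        intro z hz
        have hzP : z ∈ (P : Subgroup ↥M) := (Subgroup.zpowers_le.mpr hx₀P) hz
        exact h (show (⟨z, hzP⟩ : ↥(P : Subgroup ↥M)) ∈ (Subgroup.zpowers x₀).subgroupOf P from hz)
      have h2 : Nat.card ↥(Subgroup.zpowers x₀) ∣ p := by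
        have := Subgroup.card_dvd_of_le h1
        rwa [Nat.card_zpowers x', hx'o] at this
      rcases (Nat.dvd_prime hp.out).mp h2 with h3 | h3
      · exfalso
        apply hx₀1
        rw [Nat.card_zpowers, orderOf_eq_one_iff] at h3
        exact h3
      · have h4 : Subgroup.zpowers x₀ = Subgroup.zpowers x' := by
          apply Subgroup.eq_of_le_of_card_ge h1
          rw [h3, Nat.card_zpowers, hx'o]
        rw [h4]
        exact Subgroup.mem_zpowers x'
  obtain ⟨k, hk⟩ := Subgroup.mem_zpowers_iff.mp hmem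
  have hx'eq : x = ((x₀ ^ k : ↥M) : G) := by rw [hk]
  have hcomm : Commute (x₀ : G) y := hxy
  rw [hx'eq, Subgroup.coe_zpow]
  exact (hcomm.zpow_left k).eq

end Cfsg.Agent.Lib.Helper4.BG19
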