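import Mathlib
import Cfsg.Prelude.Def_OddOrderLocal
import Cfsg.Agent.Lib.Helper4.FittingHall

set_option autoImplicit false

namespace Cfsg.Agent.Lib.Helper4

open Cfsg.Agent.Lib.Lead

section Compl
variable {G : Type*} [Group G] [Finite G]

theorem card_mul_relIndex_of_le {K M : Subgroup G} (h : K ≤ M) :
    Nat.card K * K.relIndex M = Nat.card M := by
  have := Subgroup.relIndex_mul_relIndex ⊥ K M bot_le h
  rwa [Subgroup.relIndex_bot_left, Subgroup.relIndex_bot_left] at this

theorem sup_eq_of_isComplIn {A B M : Subgroup G} (h : Cfsg.IsComplIn A B M) : A ⊔ B = M := by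
  apply le_antisymm (sup_le h.1 h.2.1)
  intro m hm
  obtain ⟨a, ha, b, hb, rfl⟩ := h.2.2.2 m hm
  exact Subgroup.mul_mem _ (Subgroup.mem_sup_left ha) (Subgroup.mem_sup_right hb)

theorem card_of_isComplIn {A B M : Subgroup G} (h : Cfsg.IsComplIn A B M)
    (hn : B ≤ Subgroup.normalizer (A : Set G)) : Nat.card M = Nat.card A * Nat.card B := by
  rw [← sup_eq_of_isComplIn h, sup_comm, mul_comm]
  exact card_sup_of_disjoint B A hn (by rw [inf_comm]; exact h.2.2.1)

end Compl

section TypeP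
variable {G : Type*} [Group G] [Finite G] {M W₁ U W₂ : Subgroup G}

theorem typeP_derived_le (hP : Cfsg.IsTypePWith M W₁ U W₂) : ⁅M, M⁆ ≤ M := hP.W₁_compl.1

theorem typeP_U_le (hP : Cfsg.IsTypePWith M W₁ U W₂) : U ≤ M :=
  hP.U_compl.2.1.trans (typeP_derived_le hP)

theorem typeP_U_normalizes_H (hP : Cfsg.IsTypePWith M W₁ U W₂) :
    U ≤ Subgroup.normalizer (Cfsg.fittingHallOf M : Set G) :=
  (typeP_U_le hP).trans (le_normalizer_fittingHallOf M)

theorem typeP_card_derived (hP : Cfsg.IsTypePWith M W₁ U W₂) :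
    Nat.card ↥⁅M, M⁆ = Nat.card (Cfsg.fittingHallOf M) * Nat.card U :=
  card_of_isComplIn hP.U_compl (typeP_U_normalizes_H hP)

theorem typeP_coprime_U_H (hP : Cfsg.IsTypePWith M W₁ U W₂) :
    (Nat.card U).Coprime (Nat.card (Cfsg.fittingHallOf M)) := by
  have h1 := fittingHallOf_coprime M
  have h2 := card_mul_relIndex_of_le (fittingHallOf_le M)
  have h3 := card_mul_relIndex_of_le (typeP_derived_le hP)
  rw [typeP_card_derived hP] at h3
  -- |H| * relIndex H M = |M| = |H| * |U| * relIndex M' M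
  have hpos : 0 < Nat.card (Cfsg.fittingHallOf M) := Nat.card_pos
  have h4 : (Cfsg.fittingHallOf M).relIndex M = Nat.card U * (⁅M, M⁆ : Subgroup G).relIndex M := by
    apply Nat.eq_of_mul_eq_mul_left hpos
    rw [h2, ← h3]; ring
  rw [h4] at h1
  exact (Nat.Coprime.coprime_mul_right_right h1).symm

/-- Elements of `U` lying in `F(M) = H C_M(H)` centralize `H`. -/
theorem typeP_U_inf_fitting (hP : Cfsg.IsTypePWith M W₁ U W₂) :
    U ⊓ Cfsg.fittingOf M ≤ Subgroup.centralizer (Cfsg.fittingHallOf M : Set G) := by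
  set H := Cfsg.fittingHallOf M with hH
  rintro u ⟨huU, huF⟩
  rw [SetLike.mem_coe, ← hP.fitting_eq] at huF
  -- H is normalized by M ⊓ C(H)
  have hnorm : M ⊓ Subgroup.centralizer (H : Set G) ≤ Subgroup.normalizer (H : Set G) :=
    inf_le_left.trans (le_normalizer_fittingHallOf M)
  have huF' : u ∈ ((H ⊔ (M ⊓ Subgroup.centralizer (H : Set G)) : Subgroup G) : Set G) := huF
  rw [Subgroup.coe_mul_of_right_le_normalizer_left H _ hnorm] at huF'
  obtain ⟨h, hh, c, hc, rfl⟩ := huF'
  have hcc : c ∈ Subgroup.centralizer (H : Set G) := hc.2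
  -- conjugation by (h c)^j agrees with conjugation by h^j on H
  have hconj : ∀ j : ℕ, ∀ x ∈ H, (h * c) ^ j * x * ((h * c) ^ j)⁻¹ = h ^ j * x * (h ^ j)⁻¹ := by
    intro j
    induction j with
    | zero => intro x _; simp
    | succ j ih =>
      intro x hx
      have hx' : h ^ j * x * (h ^ j)⁻¹ ∈ H :=
        H.mul_mem (H.mul_mem (H.pow_mem hh j) hx) (H.inv_mem (H.pow_mem hh j))
      have hcx : c * (h ^ j * x * (h ^ j)⁻¹) = (h ^ j * x * (h ^ j)⁻¹) * c :=
        (Subgroup.mem_centralizer_iff.mp hcc _ hx').symm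
      calc (h * c) ^ (j + 1) * x * ((h * c) ^ (j + 1))⁻¹
          = (h * c) * ((h * c) ^ j * x * ((h * c) ^ j)⁻¹) * (h * c)⁻¹ := by
            rw [pow_succ', mul_inv_rev]; simp only [mul_assoc]
        _ = (h * c) * (h ^ j * x * (h ^ j)⁻¹) * (h * c)⁻¹ := by rw [ih x hx]
        _ = h * (c * (h ^ j * x * (h ^ j)⁻¹)) * c⁻¹ * h⁻¹ := by group
        _ = h * ((h ^ j * x * (h ^ j)⁻¹) * c) * c⁻¹ * h⁻¹ := by rw [hcx]
        _ = h * (h ^ j * x * (h ^ j)⁻¹) * h⁻¹ := by group
        _ = h ^ (j + 1) * x * (h ^ (j + 1))⁻¹ := by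
            rw [pow_succ', mul_inv_rev]; simp only [mul_assoc]
  -- take j = order of u
  set k := orderOf (h * c) with hk
  have hkU : k ∣ Nat.card U := by
    have : orderOf (⟨h * c, huU⟩ : U) = k := by
      rw [hk]; exact Subgroup.orderOf_mk _ _
    rw [← this]; exact orderOf_dvd_natCard _
  have hcop : Nat.Coprime k (Nat.card H) :=
    Nat.Coprime.coprime_dvd_left hkU (typeP_coprime_U_H hP)
  have hhk : h ^ k ∈ Subgroup.centralizer (H : Set G) := by
    rw [Subgroup.mem_centralizer_iff]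
    intro x hx
    have := hconj k x hx
    rw [hk, pow_orderOf_eq_one] at this
    simp only [one_mul, inv_one, mul_one] at this
    calc x * h ^ k = (h ^ orderOf (h * c) * x * (h ^ orderOf (h * c))⁻¹) * h ^ k := by rw [← this]
      _ = h ^ k * x := by rw [← hk]; group
  have hhn : h ^ Nat.card H = 1 := by
    have h1 : (⟨h, hh⟩ : H) ^ Nat.card H = 1 := pow_card_eq_one'
    have := congrArg Subtype.val h1
    rw [Subgroup.coe_pow, Subgroup.coe_one] at this
    exact this
  obtain ⟨a, b, hab⟩ := Nat.isCoprime_iff_coprime.mpr hcop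
  have hh1 : h = (h ^ k) ^ a := by
    have e1 : h ^ (a * (k : ℤ) + b * (Nat.card H : ℤ)) = h := by rw [hab, zpow_one]
    rw [zpow_add, zpow_mul', zpow_mul' h b, zpow_natCast, zpow_natCast, hhn, one_zpow, mul_one] at e1
    exact e1.symm
  have hhc : h ∈ Subgroup.centralizer (H : Set G) := by
    rw [hh1]; exact Subgroup.zpow_mem _ hhk a
  exact Subgroup.mul_mem _ hhc hcc

end TypeP

end Cfsg.Agent.Lib.Helper4
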