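import Mathlib
import Cfsg.Agent.Lib.Helper4.BG19a
import Cfsg.Agent.Lib.Helper2.BG12U4
import Cfsg.Agent.Lib.Helper4.TypeP

set_option autoImplicit false
set_option linter.style.haveILetI false
set_option linter.unusedSectionVars false
set_option maxHeartbeats 800000

/-! Small general lemmas on Hall subgroups and ranks used for Bender–Glauberman Section 14. -/

namespace Cfsg.Agent.Lib.Helper4.BG19

open Cfsg Cfsg.Agent.Lib.Lead Cfsg.Agent.Lib.Lead.BG10 Cfsg.Agent.Lib.Helper7 Cfsg.Agent.Lib.Helper4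
open Cfsg.Agent.Lib.Helper4.BG76 Cfsg.Agent.Lib.Helper4.BG8 Cfsg.Agent.Lib.Helper4.BG9
open Cfsg.Agent.Lib.Helper4.BG7 Cfsg.Agent.Lib.Helper4.BG12 Cfsg.Agent.Lib.Helper4.BGConj
open Cfsg.Agent.Lib.Helper4.BG13 Cfsg.Agent.Lib.Lead.BG95 Cfsg.Agent.Lib.Lead.BG12q
open Cfsg.Agent.Lib.Lead.BG11 Cfsg.Agent.Lib.Lead.BG13q Cfsg.Agent.Lib.Helper4.BG18
open Cfsg.Agent.Lib.Helper4.BG14
open scoped commutatorElement

universe u

/-- a group with a cyclic Sylow `p`-subgroup has `p`-rank at most one -/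
theorem pRankLE_one_of_cyclic_sylow {H : Type*} [Group H] [Finite H] {p : ℕ} [hp : Fact p.Prime]
    (P : Sylow p H) (hc : IsCyclic ↥(P : Subgroup H)) : PRankLE p 1 H := by
  intro A _ hA
  have hAp : IsPGroup p ↥A := by
    intro a
    refine ⟨1, ?_⟩
    apply Subtype.ext
    rw [pow_one, Subgroup.coe_pow]
    exact hA a a.2
  obtain ⟨Q, hQ⟩ := hAp.exists_le_sylow
  obtain ⟨g, hg⟩ := MulAction.exists_smul_eq H P Q
  have hQc : IsCyclic ↥(Q : Subgroup H) := by
    rw [← hg]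
    exact isCyclic_of_surjective (P.equivSMul g) (P.equivSMul g).surjective
  have hAc : IsCyclic ↥A := by
    have : IsCyclic ↥(A.subgroupOf (Q : Subgroup H)) := Subgroup.isCyclic _
    exact isCyclic_of_surjective (Subgroup.subgroupOfEquivOfLe hQ)
      (Subgroup.subgroupOfEquivOfLe hQ).surjective
  obtain ⟨a, ha⟩ := hAc.exists_generator
  have h1 : Nat.card ↥A = orderOf a := by
    rw [← Nat.card_zpowers]
    have : Subgroup.zpowers a = ⊤ := (Subgroup.eq_top_iff' _).mpr ha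
    rw [this, Subgroup.card_top]
  have h2 : orderOf a ∣ p := by
    apply orderOf_dvd_of_pow_eq_one
    apply Subtype.ext
    rw [Subgroup.coe_pow]
    exact hA a a.2
  rw [h1, pow_one]
  exact Nat.le_of_dvd hp.out.pos h2

variable {G : Type u} [Group G] [Finite G]

/-- a `π`-subgroup of `E` lies in a normal Hall `π`-subgroup of `E` -/
theorem le_of_normal_hall {π : Set ℕ} {E H X : Subgroup G} (hH : IsPiHallOf π H E)
    (hn : E ≤ Subgroup.normalizer (H : Set G)) (hXE : X ≤ E)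
    (hX : ∀ p : ℕ, p.Prime → p ∣ Nat.card X → p ∈ π) : X ≤ H := by
  have h1 : H.relIndex (H ⊔ X) ∣ Nat.card X :=
    Cfsg.Agent.Lib.Helper2.BG12.relIndex_sup_dvd_card (hXE.trans hn)
  have h2 : H.relIndex (H ⊔ X) ∣ H.relIndex E := by
    rw [← Subgroup.relIndex_mul_relIndex H (H ⊔ X) E le_sup_left (sup_le hH.1 hXE)]
    exact Dvd.intro _ rfl
  have h3 : H.relIndex (H ⊔ X) = 1 := by
    by_contra h0
    obtain ⟨p, hp, hpd⟩ := Nat.exists_prime_and_dvd h0
    exact hH.2.2 p hp (hX p hp (hpd.trans h1)) (hpd.trans h2)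
  exact le_sup_right.trans (Subgroup.relIndex_eq_one.mp h3)

/-- two subgroups of `E` whose indices have no common prime divisor generate `E` -/
theorem sup_eq_of_cover {E A B : Subgroup G} (hA : A ≤ E) (hB : B ≤ E)
    (h : ∀ p : ℕ, p.Prime → ¬ p ∣ A.relIndex E ∨ ¬ p ∣ B.relIndex E) : A ⊔ B = E := by
  apply le_antisymm (sup_le hA hB)
  have h1 : (A ⊔ B).relIndex E ∣ A.relIndex E := by
    rw [← Subgroup.relIndex_mul_relIndex A (A ⊔ B) E le_sup_left (sup_le hA hB)]
    exact Dvd.intro_left _ rfl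
  have h2 : (A ⊔ B).relIndex E ∣ B.relIndex E := by
    rw [← Subgroup.relIndex_mul_relIndex B (A ⊔ B) E le_sup_right (sup_le hA hB)]
    exact Dvd.intro_left _ rfl
  have h3 : (A ⊔ B).relIndex E = 1 := by
    by_contra h0
    obtain ⟨p, hp, hpd⟩ := Nat.exists_prime_and_dvd h0
    rcases h p hp with h4 | h4
    · exact h4 (hpd.trans h1)
    · exact h4 (hpd.trans h2)
  exact Subgroup.relIndex_eq_one.mp h3

/-- a subgroup of `E` containing a Sylow `p`-subgroup of `E` for every prime `p` is `E` -/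
theorem le_of_forall_sylIn {E C : Subgroup G}
    (h : ∀ p : ℕ, p.Prime → ∃ S : Subgroup G, SylIn p E S ∧ S ≤ C) : E ≤ C := by
  have h3 : (C ⊓ E).relIndex E = 1 := by
    by_contra h0
    obtain ⟨p, hp, hpd⟩ := Nat.exists_prime_and_dvd h0
    obtain ⟨S, hS, hSC⟩ := h p hp
    apply hS.2.2
    rw [← Subgroup.relIndex_mul_relIndex S (C ⊓ E) E (le_inf hSC hS.1) inf_le_right]
    exact Dvd.dvd.mul_left hpd _
  exact (Subgroup.relIndex_eq_one.mp h3).trans inf_le_left

/-- the order of a Hall `π`-subgroup of `E` is divisible by every prime of `π` dividing `|E|` -/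
theorem dvd_card_hall {π : Set ℕ} {E H : Subgroup G} (hH : IsPiHallOf π H E) {p : ℕ}
    (hp : p.Prime) (hpπ : p ∈ π) (hpE : p ∣ Nat.card E) : p ∣ Nat.card H := by
  have h1 : Nat.card H * H.relIndex E = Nat.card E := card_mul_relIndex_of_le hH.1
  rw [← h1] at hpE
  rcases (Nat.Prime.dvd_mul hp).mp hpE with h | h
  · exact h
  · exact absurd h (hH.2.2 p hp hpπ)

end Cfsg.Agent.Lib.Helper4.BG19
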