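import Mathlib
import Cfsg.Agent.Lib.Helper4.BG19b
import Cfsg.Agent.Lib.Helper2.BG13x7

set_option autoImplicit false
set_option linter.style.haveILetI false
set_option linter.unusedSectionVars false
set_option maxHeartbeats 1600000

/-! Bender–Glauberman Section 14: if a Hall `κ(M)`-subgroup of `M` is cyclic then `κ(M)` does not
meet `τ₃(M)` (the Hall `τ₃(M)`-subgroups of complements act regularly on `M_σ`). Preparations. -/

namespace Cfsg.Agent.Lib.Helper4.BG19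

open Cfsg Cfsg.Agent.Lib.Lead Cfsg.Agent.Lib.Lead.BG10 Cfsg.Agent.Lib.Helper7 Cfsg.Agent.Lib.Helper4
open Cfsg.Agent.Lib.Helper4.BG76 Cfsg.Agent.Lib.Helper4.BG8 Cfsg.Agent.Lib.Helper4.BG9
open Cfsg.Agent.Lib.Helper4.BG7 Cfsg.Agent.Lib.Helper4.BG12 Cfsg.Agent.Lib.Helper4.BGConj
open Cfsg.Agent.Lib.Helper4.BG13 Cfsg.Agent.Lib.Lead.BG95 Cfsg.Agent.Lib.Lead.BG12q
open Cfsg.Agent.Lib.Lead.BG11 Cfsg.Agent.Lib.Lead.BG13q Cfsg.Agent.Lib.Helper4.BG18
open Cfsg.Agent.Lib.Helper4.BG14 Cfsg.Agent.Lib.Helper2.BG13x Cfsg.Agent.Lib.Helper5.BG139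
open scoped commutatorElement

universe u

variable {G : Type u} [Group G] [Finite G]

/-- a complement of `M_σ` is solvable -/
theorem solvable_compl (hG : IsMinSimpleOddOrder G) {M E : Subgroup G} (hM : IsCoatom M)
    (hEM : E ≤ M) : Group.IsSolvable ↥E :=
  solvable_of_ne_top hG (fun h => hM.1 (eq_top_iff.mpr (h ▸ hEM)))

/-- existence of a Hall `π`-subgroup of a complement -/
theorem exists_hall_compl (hG : IsMinSimpleOddOrder G) {M E : Subgroup G} (hM : IsCoatom M)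
    (hEM : E ≤ M) (π : Set ℕ) : ∃ H : Subgroup G, IsPiHallOf π H E := by
  obtain ⟨H, hH, -⟩ := exists_hall_ge (solvable_compl hG hM hEM) π
    (bot_le : (⊥ : Subgroup G) ≤ E) (by
      intro p hp hd
      rw [Subgroup.card_bot] at hd
      exact absurd (Nat.dvd_one.mp hd) hp.ne_one)
  exact ⟨H, hH⟩

/-- a prime of `M` outside `σ(M)` divides the order of every complement of `M_σ` -/
theorem dvd_card_compl (hG : IsMinSimpleOddOrder G) {M E : Subgroup G} (hM : IsCoatom M)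
    (hE : IsComplIn E (sigmaCore M) M) {p : ℕ} (hp : p.Prime) (hpM : p ∣ Nat.card M)
    (hpσ : p ∉ sigma M) : p ∣ Nat.card E := by
  rw [Cfsg.Agent.Lib.Helper2.BG12.card_compl_mul_card_sigmaCore hE] at hpM
  rcases (Nat.Prime.dvd_mul hp).mp hpM with h | h
  · exact h
  · exact absurd ((sigmaCore_hall hG hM).1.2.1 p hp h) hpσ

/-- an element of order `p ∈ τ₁(M) ∖ κ(M)` of `M` acts regularly on `M_σ` -/
theorem regular_of_not_kappa (hG : IsMinSimpleOddOrder G) {M : Subgroup G} (hM : IsCoatom M)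
    {p : ℕ} [hp : Fact p.Prime] (hpτ : p ∈ tau1 M) (hpκ : p ∉ kappa M) {z : G} (hzM : z ∈ M)
    (hzo : orderOf z = p) : sigmaCore M ⊓ Subgroup.centralizer ({z} : Set G) = ⊥ := by
  rw [eq_bot_iff]
  intro y hy
  rw [Subgroup.mem_bot]
  by_contra hy1
  apply hpκ
  have hzy : z * y = y * z := Subgroup.mem_centralizer_iff.mp hy.2 z rfl
  exact mem_kappa_of_fixed hG hM hpτ.2.1 hpτ.2.2.2.2 hzM hzo hy.1 hy1 hzy

/-- if `κ(M)` meets `τ₁(M)` then a Hall `τ₁(M)`-subgroup `E₁` of a complement has fixed points on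
`M_σ` and all its primes lie in `κ(M)` -/
theorem tau1_subset_kappa (hG : IsMinSimpleOddOrder G) {M : Subgroup G} (hM : IsCoatom M)
    {E E₁ : Subgroup G} (hE : IsComplIn E (sigmaCore M) M) (hE₁ : IsPiHallOf (tau1 M) E₁ E)
    {p : ℕ} (hpκ : p ∈ kappa M) (hpτ : p ∈ tau1 M) :
    sigmaCore M ⊓ Subgroup.centralizer (E₁ : Set G) ≠ ⊥ ∧
      ∀ q : ℕ, q.Prime → q ∣ Nat.card E₁ → q ∈ kappa M := by
  have hp : p.Prime := hpκ.1
  haveI : Fact p.Prime := ⟨hp⟩
  have hpE : p ∣ Nat.card E := dvd_card_compl hG hM hE hp hpκ.2.1 hpκ.2.2.1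
  have hpE₁ : p ∣ Nat.card E₁ := dvd_card_hall hE₁ hp hpτ hpE
  obtain ⟨z, hz⟩ := exists_prime_orderOf_dvd_card' p hpE₁
  have hzo : orderOf (z : G) = p := by rw [Subgroup.orderOf_coe]; exact hz
  have hzM : (z : G) ∈ M := hE.1 (hE₁.1 z.2)
  have hz1 : (z : G) ≠ 1 := by
    intro h0
    rw [h0, orderOf_one] at hzo
    exact hp.one_lt.ne hzo
  obtain ⟨y, hy, hy1, hzy⟩ := fixed_of_mem_kappa hpκ hzM hzo
  have h135 := corollary_13_5 hG hM hE hE₁
  have hfix : sigmaCore M ⊓ Subgroup.centralizer (E₁ : Set G) ≠ ⊥ := by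
    rw [← h135 (z : G) z.2 hz1]
    intro h0
    apply hy1
    have : y ∈ sigmaCore M ⊓ Subgroup.centralizer ({(z : G)} : Set G) := by
      refine Subgroup.mem_inf.2 ⟨hy, ?_⟩
      rw [Subgroup.mem_centralizer_iff]
      intro w hw
      rw [Set.mem_singleton_iff] at hw
      rw [hw]
      exact hzy
    rwa [h0, Subgroup.mem_bot] at this
  refine ⟨hfix, ?_⟩
  intro q hq hqd
  haveI : Fact q.Prime := ⟨hq⟩
  have hqτ : q ∈ tau1 M := hE₁.2.1 q hq hqd
  obtain ⟨w, hw⟩ := exists_prime_orderOf_dvd_card' q hqd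
  have hwo : orderOf (w : G) = q := by rw [Subgroup.orderOf_coe]; exact hw
  have hwM : (w : G) ∈ M := hE.1 (hE₁.1 w.2)
  obtain ⟨⟨y', hy'⟩, hy'1⟩ := (Subgroup.ne_bot_iff_exists_ne_one).mp hfix
  have hy'1' : y' ≠ 1 := fun h0 => hy'1 (Subtype.ext h0)
  have hwy : (w : G) * y' = y' * w :=
    Subgroup.mem_centralizer_iff.mp hy'.2 (w : G) w.2
  exact mem_kappa_of_fixed hG hM hqτ.2.1 hqτ.2.2.2.2 hwM hwo hy'.1 hy'1' hwy

end Cfsg.Agent.Lib.Helper4.BG19
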