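import Mathlib
import Cfsg.Agent.Lib.Helper4.BG19c

set_option autoImplicit false
set_option linter.style.haveILetI false
set_option linter.unusedSectionVars false
set_option maxHeartbeats 1600000

/-! Bender–Glauberman Section 14: Frobenius actions of subgroups of a complement on `M_σ`. -/

namespace Cfsg.Agent.Lib.Helper4.BG19

open Cfsg Cfsg.Agent.Lib.Lead Cfsg.Agent.Lib.Lead.BG10 Cfsg.Agent.Lib.Helper7 Cfsg.Agent.Lib.Helper4
open Cfsg.Agent.Lib.Helper4.BG76 Cfsg.Agent.Lib.Helper4.BG8 Cfsg.Agent.Lib.Helper4.BG9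
open Cfsg.Agent.Lib.Helper4.BG7 Cfsg.Agent.Lib.Helper4.BG12 Cfsg.Agent.Lib.Helper4.BGConj
open Cfsg.Agent.Lib.Helper4.BG13 Cfsg.Agent.Lib.Lead.BG95 Cfsg.Agent.Lib.Lead.BG12q
open Cfsg.Agent.Lib.Lead.BG11 Cfsg.Agent.Lib.Lead.BG13q Cfsg.Agent.Lib.Helper4.BG18
open Cfsg.Agent.Lib.Helper4.BG14 Cfsg.Agent.Lib.Helper2.BG13x Cfsg.Agent.Lib.Helper5.BG139
open scoped commutatorElement

universe u

variable {G : Type u} [Group G] [Finite G]

/-- a subgroup `R` of prime order acting nontrivially on a subgroup `X` of another prime order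
gives a Frobenius pair -/
theorem frobKer_of_prime {X R : Subgroup G} {q r : ℕ} (hq : q.Prime) (hr : r.Prime)
    (hXc : Nat.card X = q) (hRc : Nat.card R = r) (hrq : r ≠ q)
    (hRX : R ≤ Subgroup.normalizer (X : Set G))
    (hRnX : ¬ R ≤ Subgroup.centralizer (X : Set G)) : FrobKer X R := by
  have hXcomm : IsMulCommutative ↥X := by
    haveI : Fact q.Prime := ⟨hq⟩
    haveI : IsCyclic ↥X := isCyclic_of_prime_card hXc
    exact ⟨⟨fun a b => by
      let _ := IsCyclic.commGroup (α := ↥X)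
      exact mul_comm a b⟩⟩
  have hcopRX : (Nat.card R).Coprime (Nat.card X) := by
    rw [hRc, hXc]
    exact (Nat.coprime_primes hr hq).mpr hrq
  have hX1 : X ≠ ⊥ := ne_bot_of_card_prime (hXc ▸ hq)
  have hcXR : ⁅X, R⁆ = X := by
    have hle : ⁅X, R⁆ ≤ X := commutator_le_left_of_le_normalizer X R hRX
    by_contra hne
    have h1 : Nat.card ↥⁅X, R⁆ ∣ q := hXc ▸ Subgroup.card_dvd_of_le hle
    rcases (Nat.dvd_prime hq).mp h1 with h | h
    · have h2 : ⁅X, R⁆ = ⊥ := Subgroup.card_eq_one.mp h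
      rw [Subgroup.commutator_eq_bot_iff_le_centralizer] at h2
      exact hRnX (Subgroup.le_centralizer_iff.mp h2)
    · exact hne (Subgroup.eq_of_le_of_card_ge hle (by rw [h, hXc]))
  exact frobKer_of_abelian hXcomm (hRc ▸ hr) hRX hcopRX hcXR hX1

/-- if `Z ≤ E` of prime order acts regularly on `M_σ` and nontrivially on `R ≤ E` of prime
order, then `R` centralizes `M_σ` -/
theorem sigmaCore_le_centralizer_of_regular (hG : IsMinSimpleOddOrder G) {M : Subgroup G}
    (hM : IsCoatom M) {E R Z : Subgroup G} (hE : IsComplIn E (sigmaCore M) M) {r p : ℕ}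
    (hr : r.Prime) (hp : p.Prime) (hRc : Nat.card R = r) (hZc : Nat.card Z = p) (hpr : p ≠ r)
    (hRE : R ≤ E) (hZE : Z ≤ E) (hZR : Z ≤ Subgroup.normalizer (R : Set G))
    (hZnR : ¬ Z ≤ Subgroup.centralizer (R : Set G))
    (hreg : sigmaCore M ⊓ Subgroup.centralizer (Z : Set G) = ⊥) :
    sigmaCore M ≤ Subgroup.centralizer (R : Set G) := by
  have hker : FrobKer R Z := frobKer_of_prime hr hp hRc hZc hpr hZR hZnR
  have hMn : M ≤ Subgroup.normalizer (sigmaCore M : Set G) := le_normalizer_sigmaCore M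
  have hσtop : sigmaCore M ≠ ⊤ := fun h => hM.1 (eq_top_iff.mpr (h ▸ sigmaCore_le M))
  have hsolv : Group.IsSolvable ↥(sigmaCore M) := solvable_of_ne_top hG hσtop
  have hcop : (Nat.card ↥(sigmaCore M)).Coprime (Nat.card ↥(R ⊔ Z : Subgroup G)) := by
    have h1 := Cfsg.Agent.Lib.Helper2.BG12.coprime_card_compl_sigmaCore hG hM hE
    exact (Nat.Coprime.coprime_dvd_left (Subgroup.card_dvd_of_le (sup_le hRE hZE)) h1).symm
  have hf := hker.formula ((hRE.trans hE.1).trans hMn) ((hZE.trans hE.1).trans hMn) hsolv hcop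
  have h1 : Nat.card ↥(sigmaCore M ⊓ Subgroup.centralizer (Z : Set G)) = 1 := by
    rw [hreg, Subgroup.card_bot]
  have h2 : Nat.card ↥(sigmaCore M ⊓ Subgroup.centralizer ((R ⊔ Z : Subgroup G) : Set G)) = 1 := by
    have : sigmaCore M ⊓ Subgroup.centralizer ((R ⊔ Z : Subgroup G) : Set G) = ⊥ := by
      rw [eq_bot_iff, ← hreg]
      exact inf_le_inf_left _ (Subgroup.centralizer_le (le_sup_right : Z ≤ R ⊔ Z))
    rw [this, Subgroup.card_bot]
  rw [h1, h2, one_pow, one_mul, one_mul] at hf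
  have h3 : sigmaCore M ⊓ Subgroup.centralizer (R : Set G) = sigmaCore M :=
    Subgroup.eq_of_le_of_card_ge inf_le_left hf.le
  rw [← h3]
  exact inf_le_right

/-- a subgroup `R ≤ E` of order `r ∈ τ₃(M)` normalized by `E` does not centralize `M_σ` -/
theorem not_sigmaCore_le_centralizer (hG : IsMinSimpleOddOrder G) {M : Subgroup G}
    (hM : IsCoatom M) {E R : Subgroup G} (hE : IsComplIn E (sigmaCore M) M) {r : ℕ}
    (hrτ : r ∈ tau3 M) (hRc : Nat.card R = r) (hRE : R ≤ E)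
    (hER : E ≤ Subgroup.normalizer (R : Set G)) :
    ¬ sigmaCore M ≤ Subgroup.centralizer (R : Set G) := by
  intro hc
  haveI : Fact r.Prime := ⟨hrτ.1⟩
  have hRp : IsPGroup r ↥R := isPGroup_of_card_eq hRc
  have hR1 : R ≠ ⊥ := ne_bot_of_card_prime (hRc ▸ hrτ.1)
  have hRM : R ≤ M := hRE.trans hE.1
  have hRtop : R ≠ ⊤ := fun h => hM.1 (eq_top_iff.mpr (h ▸ hRM))
  have hMN : M ≤ Subgroup.normalizer (R : Set G) := by
    rw [← sup_eq_of_isComplIn hE]
    exact sup_le hER (hc.trans (Subgroup.centralizer_le_normalizer _))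
  obtain ⟨H, hH, hNH⟩ := exists_coatom_ge (normalizer_ne_top hG hR1 hRtop)
  have hMH : M = H := by
    by_contra hne
    exact hH.1 (hM.2 H (lt_of_le_of_ne (hMN.trans hNH) hne))
  have := lemma_12_2b_tau hG hM (Or.inr hrτ) hRp hR1 hNH 1
  rw [cj_one] at this
  exact this hMH.symm

end Cfsg.Agent.Lib.Helper4.BG19
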