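import Mathlib
import Cfsg.Agent.Lib.Helper4.BG19d
import Cfsg.Agent.S1415

set_option autoImplicit false
set_option linter.style.haveILetI false
set_option linter.unusedSectionVars false
set_option maxHeartbeats 3200000

/-! Bender–Glauberman Section 14: if a Hall `κ(M)`-subgroup of `M` is cyclic then `κ(M)` does not
meet `τ₃(M)`. -/

namespace Cfsg.Agent.Lib.Helper4.BG19

open Cfsg Cfsg.Agent.Lib.Lead Cfsg.Agent.Lib.Lead.BG10 Cfsg.Agent.Lib.Helper7 Cfsg.Agent.Lib.Helper4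
open Cfsg.Agent.Lib.Helper4.BG76 Cfsg.Agent.Lib.Helper4.BG8 Cfsg.Agent.Lib.Helper4.BG9
open Cfsg.Agent.Lib.Helper4.BG7 Cfsg.Agent.Lib.Helper4.BG12 Cfsg.Agent.Lib.Helper4.BGConj
open Cfsg.Agent.Lib.Helper4.BG13 Cfsg.Agent.Lib.Lead.BG95 Cfsg.Agent.Lib.Lead.BG12q
open Cfsg.Agent.Lib.Lead.BG11 Cfsg.Agent.Lib.Lead.BG13q Cfsg.Agent.Lib.Helper4.BG18
open Cfsg.Agent.Lib.Helper4.BG14 Cfsg.Agent.Lib.Helper2.BG13x Cfsg.Agent.Lib.Helper5.BG139
open scoped commutatorElement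

universe u

variable {G : Type u} [Group G] [Finite G]

/-- if `e A e⁻¹` centralizes `B` and `e` normalizes `B` then `A` centralizes `B` -/
theorem le_centralizer_of_cj_le_centralizer {A B : Subgroup G} {e : G}
    (h : cj e A ≤ Subgroup.centralizer (B : Set G)) (he : cj e B = B) :
    A ≤ Subgroup.centralizer (B : Set G) := by
  intro a ha
  rw [Subgroup.mem_centralizer_iff]
  intro b hb
  have hb' : e * b * e⁻¹ ∈ B := by
    rw [← he]
    exact ⟨b, hb, rfl⟩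
  have ha' : e * a * e⁻¹ ∈ cj e A := ⟨a, ha, rfl⟩
  have h1 := Subgroup.mem_centralizer_iff.mp (h ha') _ hb'
  have h2 : e * (b * a) * e⁻¹ = e * (a * b) * e⁻¹ := by
    calc e * (b * a) * e⁻¹ = e * b * e⁻¹ * (e * a * e⁻¹) := by group
      _ = e * a * e⁻¹ * (e * b * e⁻¹) := h1
      _ = e * (a * b) * e⁻¹ := by group
  exact mul_left_cancel (mul_right_cancel h2)

/-- the two Hall subgroups `E₁`, `E₃` generate `E` when `τ₂(M) = ∅` -/
theorem sup_tau1_tau3 (hG : IsMinSimpleOddOrder G) {M : Subgroup G} (hM : IsCoatom M)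
    {E E₁ E₃ : Subgroup G} (hE : IsComplIn E (sigmaCore M) M) (hE₁ : IsPiHallOf (tau1 M) E₁ E)
    (hE₃ : IsPiHallOf (tau3 M) E₃ E) (hτ2 : ∀ t : ℕ, t ∉ tau2 M) : E₁ ⊔ E₃ = E := by
  apply sup_eq_of_cover hE₁.1 hE₃.1
  intro p hp
  by_cases hpE : p ∣ Nat.card E
  · have hpσ : p ∉ sigma M := not_sigma_of_dvd_card_compl hG hM hE hp hpE
    have hpM : p ∣ Nat.card M := hpE.trans (Subgroup.card_dvd_of_le hE.1)
    rcases tau_cases hG hM hp hpM hpσ with h | h | h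
    · exact Or.inl (hE₁.2.2 p hp h)
    · exact absurd h (hτ2 p)
    · exact Or.inr (hE₃.2.2 p hp h)
  · left
    intro hd
    apply hpE
    have h1 : Nat.card E₁ * E₁.relIndex E = Nat.card E := card_mul_relIndex_of_le hE₁.1
    rw [← h1]
    exact Dvd.dvd.mul_left hd _

/-- **no phantom when `K` is cyclic**: if `M` has a cyclic Hall `κ(M)`-subgroup then no prime of
`τ₃(M)` lies in `κ(M)`. -/
theorem no_tau3_kappa_of_cyclic (hG : IsMinSimpleOddOrder G) {M : Subgroup G} (hM : IsCoatom M)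
    {E K : Subgroup G} (hE : IsComplIn E (sigmaCore M) M) (hKE : K ≤ E) (hKc : IsCyclic ↥K)
    (hK : IsPiHallOf (kappa M) K M) {r : ℕ} (hrκ : r ∈ kappa M) (hrτ : r ∈ tau3 M) : False := by
  classical
  have hr : r.Prime := hrκ.1
  haveI : Fact r.Prime := ⟨hr⟩
  obtain ⟨E₃, hE₃⟩ := exists_hall_compl hG hM hE.1 (tau3 M)
  obtain ⟨E₁, hE₁⟩ := exists_hall_compl hG hM hE.1 (tau1 M)
  obtain ⟨-, h1c, h3⟩ := Cfsg.Agent.S1415.result hG M hM E hE
  have hE₁c : IsCyclic ↥E₁ := h1c E₁ hE₁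
  obtain ⟨hE₃c, hE₃E', hEn₃⟩ := h3 E₃ hE₃
  -- an element `x` of order `r` of `K`
  have hrK : r ∣ Nat.card K := by
    have h1 : Nat.card K * K.relIndex M = Nat.card M := card_mul_relIndex_of_le hK.1
    have h2 := hrκ.2.1
    rw [← h1] at h2
    rcases (Nat.Prime.dvd_mul hr).mp h2 with h | h
    · exact h
    · exact absurd h (hK.2.2 r hr hrκ)
  obtain ⟨x, hx⟩ := exists_prime_orderOf_dvd_card' r hrK
  have hxo : orderOf (x : G) = r := by rw [Subgroup.orderOf_coe]; exact hx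
  set R := Subgroup.zpowers (x : G) with hR
  have hRc : Nat.card R = r := by rw [hR, Nat.card_zpowers, hxo]
  have hRK : R ≤ K := Subgroup.zpowers_le.mpr x.2
  have hRE : R ≤ E := hRK.trans hKE
  have hRp : IsPGroup r ↥R := isPGroup_of_card_eq hRc
  have hR1 : R ≠ ⊥ := ne_bot_of_card_prime (hRc ▸ hr)
  have hRE₃ : R ≤ E₃ := by
    apply le_of_normal_hall hE₃ hEn₃ hRE
    intro p hp hpd
    rw [prime_eq_of_dvd_card hRp hp hpd]
    exact hrτ
  have hxE₃ : (x : G) ∈ E₃ := hRE₃ (Subgroup.mem_zpowers _)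
  have hxM : (x : G) ∈ M := hE.1 (hKE x.2)
  have hx1 : (x : G) ≠ 1 := by
    intro h0
    rw [h0, orderOf_one] at hxo
    exact hr.one_lt.ne hxo
  obtain ⟨y, hy, hy1, hxy⟩ := fixed_of_mem_kappa hrκ hxM hxo
  have hfix : sigmaCore M ⊓ Subgroup.centralizer ({(x : G)} : Set G) ≠ ⊥ := by
    intro h0
    apply hy1
    have : y ∈ sigmaCore M ⊓ Subgroup.centralizer ({(x : G)} : Set G) := by
      refine Subgroup.mem_inf.2 ⟨hy, ?_⟩
      rw [Subgroup.mem_centralizer_iff]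
      intro w hw
      rw [Set.mem_singleton_iff] at hw
      rw [hw]
      exact hxy
    rwa [h0, Subgroup.mem_bot] at this
  have hτ2 : ∀ t : ℕ, t ∉ tau2 M := tau2_empty_of_tau3_fixed hG hM hE hE₃ hxE₃ hx1 hfix
  have hER : E ≤ Subgroup.normalizer (R : Set G) :=
    hEn₃.trans (normalizer_le_normalizer_of_cyclic hE₃c hRE₃)
  have hsup : E₁ ⊔ E₃ = E := sup_tau1_tau3 hG hM hE hE₁ hE₃ hτ2
  have hrτ1 : r ∉ tau1 M := fun h => h.2.2.2.1 hrτ.2.2.1
  -- Claim B: `E₁` does not centralize `R`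
  have hB : ¬ E₁ ≤ Subgroup.centralizer (R : Set G) := by
    intro hc
    obtain ⟨R₀, hRR₀, hR₀⟩ := exists_sylIn_ge hRE₃ hRp
    have hR₀E : SylIn r E R₀ := by
      refine ⟨hR₀.1.trans hE₃.1, hR₀.2.1, ?_⟩
      rw [← Subgroup.relIndex_mul_relIndex R₀ E₃ E hR₀.1 hE₃.1]
      intro hd
      rcases (Nat.Prime.dvd_mul hr).mp hd with h | h
      · exact hR₀.2.2 h
      · exact hE₃.2.2 r hr hrτ h
    have hR₀c : IsCyclic ↥R₀ := isCyclic_of_le_cyclic hR₀.1 hE₃c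
    have hE₃R₀ : E₃ ≤ Subgroup.centralizer (R₀ : Set G) := by
      intro a ha
      rw [Subgroup.mem_centralizer_iff]
      intro b hb
      have hb' : b ∈ E₃ := hR₀.1 hb
      have := hE₃c
      let _ := IsCyclic.commGroup (α := ↥E₃)
      have h1 : (⟨b, hb'⟩ : ↥E₃) * ⟨a, ha⟩ = ⟨a, ha⟩ * ⟨b, hb'⟩ := mul_comm _ _
      exact congrArg Subtype.val h1
    have hE₁R₀ : E₁ ≤ Subgroup.normalizer (R₀ : Set G) :=
      (hE₁.1.trans hEn₃).trans (normalizer_le_normalizer_of_cyclic hE₃c hR₀.1)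
    have hcop : (Nat.card E₁).Coprime (Nat.card R₀) := by
      apply Nat.coprime_of_dvd
      intro k hk hk1 hk2
      have hkr : k = r := prime_eq_of_dvd_card hR₀.2.1 hk hk2
      rw [hkr] at hk1
      exact hrτ1 (hE₁.2.1 r hr hk1)
    have hfixR : R₀ ⊓ Subgroup.centralizer (E₁ : Set G) ≠ ⊥ := by
      intro h0
      apply hR1
      rw [eq_bot_iff, ← h0]
      exact le_inf hRR₀ (Subgroup.le_centralizer_iff.mp hc)
    have h4 := le_centralizer_of_cyclic_of_fixed hR₀.2.1 hR₀c hE₁R₀ hcop hfixR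
    have hEc : E ≤ Subgroup.centralizer (R₀ : Set G) := by
      rw [← hsup]
      exact sup_le (Subgroup.le_centralizer_iff.mp h4) hE₃R₀
    have h0 := sylIn_inf_commutator_eq_bot hR₀E hEc
    apply hR1
    rw [eq_bot_iff, ← h0]
    exact le_inf hRR₀ (hRE₃.trans hE₃E')
  -- Claim C: `κ(M)` does not meet `τ₁(M)`
  have hC : ∀ p : ℕ, p ∈ kappa M → p ∉ tau1 M := by
    intro p hpκ hpτ
    obtain ⟨-, hall⟩ := tau1_subset_kappa hG hM hE hE₁ hpκ hpτ
    have hKE' : IsPiHallOf (kappa M) K E := by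
      refine ⟨hKE, hK.2.1, ?_⟩
      intro q hq hqκ hd
      apply hK.2.2 q hq hqκ
      rw [← Subgroup.relIndex_mul_relIndex K E M hKE hE.1]
      exact Dvd.dvd.mul_right hd _
    obtain ⟨e, he, hle⟩ := exists_cj_le_hall (solvable_compl hG hM hE.1) (kappa M) hKE' hE₁.1 hall
    have h1 : cj e E₁ ≤ Subgroup.centralizer (R : Set G) := by
      intro a ha
      rw [Subgroup.mem_centralizer_iff]
      intro b hb
      have haK : a ∈ K := hle ha
      have hbK : b ∈ K := hRK hb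
      have := hKc
      let _ := IsCyclic.commGroup (α := ↥K)
      have h2 : (⟨b, hbK⟩ : ↥K) * ⟨a, haK⟩ = ⟨a, haK⟩ * ⟨b, hbK⟩ := mul_comm _ _
      exact congrArg Subtype.val h2
    have h2 : cj e R = R := mem_normalizer_iff_cj.mp (hER he)
    exact hB (le_centralizer_of_cj_le_centralizer h1 h2)
  -- Claim D: the elements of prime order of `E₁` act regularly on `M_σ`
  have hτ1 : ∀ z ∈ E₁, ∀ p : ℕ, p.Prime → orderOf z = p → p ∈ tau1 M := by
    intro z hz p hp hzo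
    apply hE₁.2.1 p hp
    have h1 : orderOf (⟨z, hz⟩ : ↥E₁) = p := by rw [← hzo, ← Subgroup.orderOf_coe]
    rw [← h1]
    exact orderOf_dvd_natCard _
  have hD : ∀ z ∈ E₁, ∀ p : ℕ, p.Prime → orderOf z = p →
      sigmaCore M ⊓ Subgroup.centralizer ({z} : Set G) = ⊥ := by
    intro z hz p hp hzo
    haveI : Fact p.Prime := ⟨hp⟩
    have hpτ := hτ1 z hz p hp hzo
    exact regular_of_not_kappa hG hM hpτ (fun h => hC p h hpτ) (hE.1 (hE₁.1 hz)) hzo
  -- Claim E: the elements of prime order of `E₁` centralize `R`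
  have hEc : ∀ z ∈ E₁, ∀ p : ℕ, p.Prime → orderOf z = p →
      Subgroup.zpowers z ≤ Subgroup.centralizer (R : Set G) := by
    intro z hz p hp hzo
    by_contra hn
    have hpτ := hτ1 z hz p hp hzo
    have hpr : p ≠ r := by
      rintro rfl
      exact hrτ1 hpτ
    have hzE : Subgroup.zpowers z ≤ E := Subgroup.zpowers_le.mpr (hE₁.1 hz)
    have h1 := sigmaCore_le_centralizer_of_regular hG hM hE hr hp hRc
      (by rw [Nat.card_zpowers, hzo]) hpr hRE hzE (hzE.trans hER) hn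
      (by rw [centralizer_zpowers']; exact hD z hz p hp hzo)
    exact not_sigmaCore_le_centralizer hG hM hE hrτ hRc hRE hER h1
  -- Claim F: a Sylow subgroup `L₀` of `E₁` not centralizing `R`
  have hF : ∃ l : ℕ, l.Prime ∧ ∃ L₀ : Subgroup G, SylIn l E₁ L₀ ∧
      ¬ L₀ ≤ Subgroup.centralizer (R : Set G) := by
    by_contra hcon
    push Not at hcon
    apply hB
    apply le_of_forall_sylIn
    intro p hp
    haveI : Fact p.Prime := ⟨hp⟩
    obtain ⟨S, -, hS⟩ := exists_sylIn_ge (p := p) (bot_le : (⊥ : Subgroup G) ≤ E₁) IsPGroup.of_bot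
    exact ⟨S, hS, hcon p hp S hS⟩
  obtain ⟨l, hl, L₀, hL₀, hL₀R⟩ := hF
  haveI : Fact l.Prime := ⟨hl⟩
  have hL₀1 : L₀ ≠ ⊥ := by
    rintro rfl
    exact hL₀R bot_le
  have hld : l ∣ Nat.card L₀ := dvd_card_of_ne_bot hL₀.2.1 hL₀1
  obtain ⟨z, hz⟩ := exists_prime_orderOf_dvd_card' l hld
  have hzo : orderOf (z : G) = l := by rw [Subgroup.orderOf_coe]; exact hz
  have hzE₁ : (z : G) ∈ E₁ := hL₀.1 z.2
  have hz1 : (z : G) ≠ 1 := by
    intro h0
    rw [h0, orderOf_one] at hzo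
    exact hl.one_lt.ne hzo
  set Z := Subgroup.zpowers (z : G) with hZ
  have hZc : Nat.card Z = l := by rw [hZ, Nat.card_zpowers, hzo]
  have hZR : Z ≤ Subgroup.centralizer (R : Set G) := hEc z hzE₁ l hl hzo
  have hlτ : l ∈ tau1 M := hτ1 z hzE₁ l hl hzo
  have hZE : Z ≤ E := Subgroup.zpowers_le.mpr (hE₁.1 hzE₁)
  -- the maximal subgroup `H`
  have hRM : R ≤ M := hRE.trans hE.1
  have hRtop : R ≠ ⊤ := fun h => hM.1 (eq_top_iff.mpr (h ▸ hRM))
  obtain ⟨H, hH, hNH⟩ := exists_coatom_ge (normalizer_ne_top hG hR1 hRtop)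
  obtain ⟨hnc, -, -, h4, h5, h6⟩ := corollary_13_2 hG hM hH (Or.inr hrτ) hRM hRp hR1 hNH
  have hEH : E ≤ H := hER.trans hNH
  have hY1 : sigmaCore M ⊓ H ≠ ⊥ := by
    rw [h6, hR, centralizer_zpowers']
    exact hfix
  have hZMH : Z ≤ M ⊓ H := le_inf (hZE.trans hE.1) (hZE.trans hEH)
  have hYZ : ¬ sigmaCore M ⊓ H ≤ Subgroup.centralizer (Z : Set G) := by
    intro hle
    apply hY1
    rw [eq_bot_iff]
    intro w hw
    have : w ∈ sigmaCore M ⊓ Subgroup.centralizer ({(z : G)} : Set G) := by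
      refine Subgroup.mem_inf.2 ⟨hw.1, ?_⟩
      rw [← centralizer_zpowers']
      exact hle hw
    rwa [hD z hzE₁ l hl hzo] at this
  have hlH : l ∈ tau1 H := by
    by_contra hn
    apply hYZ
    apply h4 Z hZMH
    intro t ht htd
    rw [hZc, Nat.prime_dvd_prime_iff_eq ht hl] at htd
    rw [htd]
    exact ⟨hlτ.2.1, hn⟩
  have hrH : r ∈ sigma H := by
    apply (h5 ?_).1
    intro h0
    apply hYZ
    have h7 : ⁅sigmaCore M ⊓ H, Z⁆ = ⊥ := by
      rw [eq_bot_iff, ← h0]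
      exact Subgroup.commutator_mono le_rfl hZMH
    exact Subgroup.commutator_eq_bot_iff_le_centralizer.mp h7
  have hRHσ : R ≤ sigmaCore H := le_sigmaCore_of_isPGroup hG hH hrH (hRE.trans hEH) hRp
  -- a complement of `H_σ` containing `L₀` and its Hall `τ₁(H)`-subgroup
  have hL₀H : L₀ ≤ H := (hL₀.1.trans hE₁.1).trans hEH
  have hcopL : (Nat.card L₀).Coprime (Nat.card (sigmaCore H)) := by
    apply Nat.coprime_of_dvd
    intro k hk hk1 hk2
    have hkl : k = l := prime_eq_of_dvd_card hL₀.2.1 hk hk1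
    rw [hkl] at hk2
    exact hlH.2.1 ((sigmaCore_hall hG hH).1.2.1 l hl hk2)
  obtain ⟨EH, hEH', hL₀EH⟩ := exists_complIn_ge hG hH hL₀H hcopL
  obtain ⟨E₁H, hE₁H, hL₀E₁H⟩ := exists_hall_ge (solvable_compl hG hH hEH'.1) (tau1 H) hL₀EH (by
    intro k hk hkd
    rw [prime_eq_of_dvd_card hL₀.2.1 hk hkd]
    exact hlH)
  have h135 := corollary_13_5 hG hH hEH' hE₁H (z : G) (hL₀E₁H z.2) hz1
  have hRle : R ≤ sigmaCore H ⊓ Subgroup.centralizer ({(z : G)} : Set G) := by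
    apply le_inf hRHσ
    rw [← centralizer_zpowers']
    exact Subgroup.le_centralizer_iff.mp hZR
  rw [h135] at hRle
  apply hL₀R
  exact hL₀E₁H.trans (Subgroup.le_centralizer_iff.mp (hRle.trans inf_le_right))

end Cfsg.Agent.Lib.Helper4.BG19
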