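import Mathlib
import Cfsg.Agent.Lib.Helper4.BG19e
import Cfsg.Agent.Lib.Helper7.IndexLemmas

set_option autoImplicit false
set_option linter.style.haveILetI false
set_option linter.unusedSectionVars false
set_option maxHeartbeats 1600000

/-! Bender–Glauberman Section 14: the standard factorisation `M = K U M_σ` for a cyclic Hall
`κ(M)`-subgroup `K`. -/

namespace Cfsg.Agent.Lib.Helper4.BG19

open Cfsg Cfsg.Agent.Lib.Lead Cfsg.Agent.Lib.Lead.BG10 Cfsg.Agent.Lib.Helper7 Cfsg.Agent.Lib.Helper4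
open Cfsg.Agent.Lib.Helper4.BG76 Cfsg.Agent.Lib.Helper4.BG8 Cfsg.Agent.Lib.Helper4.BG9
open Cfsg.Agent.Lib.Helper4.BG7 Cfsg.Agent.Lib.Helper4.BG12 Cfsg.Agent.Lib.Helper4.BGConj
open Cfsg.Agent.Lib.Helper4.BG13 Cfsg.Agent.Lib.Lead.BG95 Cfsg.Agent.Lib.Lead.BG12q
open Cfsg.Agent.Lib.Lead.BG11 Cfsg.Agent.Lib.Lead.BG13q Cfsg.Agent.Lib.Helper4.BG18
open Cfsg.Agent.Lib.Helper4.BG14 Cfsg.Agent.Lib.Helper2.BG13x Cfsg.Agent.Lib.Helper5.BG139
open scoped commutatorElement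

universe u

variable {G : Type u} [Group G] [Finite G]

/-- a normal `π`-subgroup of `E` lies in every Hall `π`-subgroup of `E` -/
theorem normal_le_hall {π : Set ℕ} {E U N : Subgroup G} (hU : IsPiHallOf π U E) (hNE : N ≤ E)
    (hn : E ≤ Subgroup.normalizer (N : Set G))
    (hN : ∀ p : ℕ, p.Prime → p ∣ Nat.card N → p ∈ π) : N ≤ U := by
  have h1 : U.relIndex (N ⊔ U) ∣ Nat.card N :=
    Cfsg.Agent.Lib.Helper7.relIndex_sup_dvd_card N U (hU.1.trans hn)
  have h2 : U.relIndex (N ⊔ U) ∣ U.relIndex E := by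
    rw [← Subgroup.relIndex_mul_relIndex U (N ⊔ U) E le_sup_right (sup_le hNE hU.1)]
    exact Dvd.intro _ rfl
  have h3 : U.relIndex (N ⊔ U) = 1 := by
    by_contra h0
    obtain ⟨p, hp, hpd⟩ := Nat.exists_prime_and_dvd h0
    exact hU.2.2 p hp (hN p hp (hpd.trans h1)) (hpd.trans h2)
  exact le_sup_left.trans (Subgroup.relIndex_eq_one.mp h3)

/-- a cyclic Hall `κ(M)`-subgroup of `M` lies in a complement of `M_σ` -/
theorem exists_compl_ge_kappa (hG : IsMinSimpleOddOrder G) {M : Subgroup G} (hM : IsCoatom M)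
    {K : Subgroup G} (hK : IsPiHallOf (kappa M) K M) :
    ∃ E : Subgroup G, IsComplIn E (sigmaCore M) M ∧ K ≤ E := by
  apply exists_complIn_ge hG hM hK.1
  apply Nat.coprime_of_dvd
  intro k hk hk1 hk2
  exact (hK.2.1 k hk hk1).2.2.1 ((sigmaCore_hall hG hM).1.2.1 k hk hk2)

/-- **`κ(M) ⊆ τ₁(M)`** when `M` has a cyclic Hall `κ(M)`-subgroup -/
theorem kappa_subset_tau1 (hG : IsMinSimpleOddOrder G) {M : Subgroup G} (hM : IsCoatom M)
    {K : Subgroup G} (hKc : IsCyclic ↥K) (hK : IsPiHallOf (kappa M) K M) {p : ℕ}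
    (hpκ : p ∈ kappa M) : p ∈ tau1 M := by
  obtain ⟨E, hE, hKE⟩ := exists_compl_ge_kappa hG hM hK
  have hp : p.Prime := hpκ.1
  haveI : Fact p.Prime := ⟨hp⟩
  have hr1 : PRankLE p 1 ↥M := by
    obtain ⟨P⟩ : Nonempty (Sylow p ↥M) := inferInstance
    exact pRankLE_one_of_cyclic_sylow P (hpκ.2.2.2 P).1
  by_cases hd : p ∣ Nat.card ↥⁅M, M⁆
  · exact absurd ⟨hp, hpκ.2.2.1, hd, hr1⟩
      (fun h => no_tau3_kappa_of_cyclic hG hM hE hKE hKc hK hpκ h)
  · exact ⟨hp, hpκ.2.2.1, hpκ.2.1, hd, hr1⟩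

/-- the derived subgroup of a complement of `M_σ` is a `κ(M)'`-group -/
theorem not_kappa_of_dvd_commutator (hG : IsMinSimpleOddOrder G) {M : Subgroup G}
    (hM : IsCoatom M) {K : Subgroup G} (hKc : IsCyclic ↥K) (hK : IsPiHallOf (kappa M) K M)
    {E : Subgroup G} (hEM : E ≤ M) {p : ℕ} (hd : p ∣ Nat.card ↥⁅E, E⁆) : p ∉ kappa M := by
  intro hpκ
  have hpτ := kappa_subset_tau1 hG hM hKc hK hpκ
  apply hpτ.2.2.2.1
  exact hd.trans (Subgroup.card_dvd_of_le (Subgroup.commutator_mono hEM hEM))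

/-- a Hall `κ(M)'`-subgroup of a complement `E` of `M_σ` is normal in `E` -/
theorem le_normalizer_hall_kappa' (hG : IsMinSimpleOddOrder G) {M : Subgroup G}
    (hM : IsCoatom M) {K : Subgroup G} (hKc : IsCyclic ↥K) (hK : IsPiHallOf (kappa M) K M)
    {E U : Subgroup G} (hEM : E ≤ M) (hU : IsPiHallOf {q | q ∉ kappa M} U E) :
    E ≤ Subgroup.normalizer (U : Set G) := by
  apply Cfsg.Agent.Lib.Helper2.BG13x.le_normalizer_of_commutator_le _ hU.1
  apply normal_le_hall hU (commutator_le_left_of_le_normalizer E E Subgroup.le_normalizer)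
  · exact Cfsg.Agent.Lib.Helper2.BG13x.le_normalizer_commutator_self E
  · intro p _ hd
    exact not_kappa_of_dvd_commutator hG hM hKc hK hEM hd

end Cfsg.Agent.Lib.Helper4.BG19
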