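import Mathlib
import Cfsg.Agent.Lib.Helper4.BG19f

set_option autoImplicit false
set_option linter.style.haveILetI false
set_option linter.unusedSectionVars false
set_option maxHeartbeats 1600000

/-! Bender–Glauberman Section 14: existence of the standard factorisation `M = K U M_σ` for a
cyclic Hall `κ(M)`-subgroup `K`, and normality of `U M_σ`. -/

namespace Cfsg.Agent.Lib.Helper4.BG19

open Cfsg Cfsg.Agent.Lib.Lead Cfsg.Agent.Lib.Lead.BG10 Cfsg.Agent.Lib.Helper7 Cfsg.Agent.Lib.Helper4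
open Cfsg.Agent.Lib.Helper4.BG76 Cfsg.Agent.Lib.Helper4.BG8 Cfsg.Agent.Lib.Helper4.BG9
open Cfsg.Agent.Lib.Helper4.BG7 Cfsg.Agent.Lib.Helper4.BG12 Cfsg.Agent.Lib.Helper4.BGConj
open Cfsg.Agent.Lib.Helper4.BG13 Cfsg.Agent.Lib.Lead.BG95 Cfsg.Agent.Lib.Lead.BG12q
open Cfsg.Agent.Lib.Lead.BG11 Cfsg.Agent.Lib.Lead.BG13q Cfsg.Agent.Lib.Helper4.BG18
open Cfsg.Agent.Lib.Helper4.BG14 Cfsg.Agent.Lib.Helper2.BG13x Cfsg.Agent.Lib.Helper5.BG139
open Cfsg.Agent.Lib.Helper2.BG12
open scoped commutatorElement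

universe u

variable {G : Type u} [Group G] [Finite G]

/-- a Hall `κ(M)`-subgroup of `M` contained in a complement `E` is a Hall subgroup of `E` -/
theorem hall_kappa_compl {M K E : Subgroup G} (hK : IsPiHallOf (kappa M) K M) (hKE : K ≤ E)
    (hEM : E ≤ M) : IsPiHallOf (kappa M) K E := by
  refine ⟨hKE, hK.2.1, ?_⟩
  intro q hq hqκ hd
  apply hK.2.2 q hq hqκ
  rw [← Subgroup.relIndex_mul_relIndex K E M hKE hEM]
  exact Dvd.dvd.mul_right hd _

/-- existence of the standard factorisation -/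
theorem exists_sigmaDecomposition (hG : IsMinSimpleOddOrder G) {M : Subgroup G} (hM : IsCoatom M)
    {K : Subgroup G} (hKc : IsCyclic ↥K) (hK : IsPiHallOf (kappa M) K M) :
    ∃ U : Subgroup G, IsSigmaDecomposition M K U := by
  obtain ⟨E, hE, hKE⟩ := exists_compl_ge_kappa hG hM hK
  obtain ⟨U, hU⟩ := exists_hall_compl hG hM hE.1 {q | q ∉ kappa M}
  have hUn : E ≤ Subgroup.normalizer (U : Set G) := le_normalizer_hall_kappa' hG hM hKc hK hE.1 hU
  have hKE' := hall_kappa_compl hK hKE hE.1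
  have hsup : U ⊔ K = E := by
    apply sup_eq_of_cover hU.1 hKE
    intro p hp
    by_cases hpκ : p ∈ kappa M
    · exact Or.inr (hKE'.2.2 p hp hpκ)
    · exact Or.inl (hU.2.2 p hp hpκ)
  have hKσ : K ≤ Subgroup.normalizer (sigmaCore M : Set G) :=
    hK.1.trans (le_normalizer_sigmaCore M)
  refine ⟨U, hKc, hK, ⟨hU.1.trans hE.1, sup_le hK.1 (sigmaCore_le M), ?_, ?_⟩, hKE.trans hUn⟩
  · apply Subgroup.inf_eq_bot_of_coprime
    apply Nat.coprime_of_dvd
    intro k hk hk1 hk2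
    have h3 : Nat.card ↥(K ⊔ sigmaCore M) ∣ Nat.card K * Nat.card (sigmaCore M) :=
      Dvd.intro _ (card_sup_mul_card_inf K (sigmaCore M) hKσ)
    rcases (Nat.Prime.dvd_mul hk).mp (hk2.trans h3) with h | h
    · exact hU.2.1 k hk hk1 (hK.2.1 k hk h)
    · exact not_sigma_of_dvd_card_compl hG hM hE hk (hk1.trans (Subgroup.card_dvd_of_le hU.1))
        ((sigmaCore_hall hG hM).1.2.1 k hk h)
  · intro m hm
    obtain ⟨e, he, s, hs, rfl⟩ := hE.2.2.2 m hm
    have hem : e ∈ ((U ⊔ K : Subgroup G) : Set G) := by rw [hsup]; exact he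
    rw [Subgroup.coe_mul_of_right_le_normalizer_left U K (hKE.trans hUn)] at hem
    obtain ⟨a, ha, k, hk, hak⟩ := Set.mem_mul.mp hem
    refine ⟨a, ha, k * s, Subgroup.mul_mem _ (Subgroup.mem_sup_left hk)
      (Subgroup.mem_sup_right hs), ?_⟩
    rw [← hak, mul_assoc]

/-- for every standard factorisation, `U M_σ` is normal in `M` -/
theorem le_normalizer_sup_sigmaCore (hG : IsMinSimpleOddOrder G) {M : Subgroup G}
    (hM : IsCoatom M) {K U : Subgroup G} (h : IsSigmaDecomposition M K U) :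
    M ≤ Subgroup.normalizer ((U ⊔ sigmaCore M : Subgroup G) : Set G) := by
  have hE : IsComplIn (U ⊔ K) (sigmaCore M) M := sd_isComplIn h
  have hUhall : IsPiHallOf {q | q ∉ kappa M} U (U ⊔ K) := by
    refine ⟨le_sup_left, fun p hp hd => sd_not_kappa h hp hd, ?_⟩
    intro p hp hpκ hd
    have h1 : U.relIndex (U ⊔ K) ∣ Nat.card K :=
      Cfsg.Agent.Lib.Helper2.BG12.relIndex_sup_dvd_card h.normal
    exact hpκ (h.hall.2.1 p hp (hd.trans h1))
  have hUn : U ⊔ K ≤ Subgroup.normalizer (U : Set G) :=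
    le_normalizer_hall_kappa' hG hM h.cyclic h.hall hE.1 hUhall
  have hσn : M ≤ Subgroup.normalizer (sigmaCore M : Set G) := le_normalizer_sigmaCore M
  have h1 : (U ⊔ K) ⊔ sigmaCore M ≤
      Subgroup.normalizer ((U ⊔ sigmaCore M : Subgroup G) : Set G) := by
    apply sup_le
    · exact le_normalizer_sup' hUn (hE.1.trans hσn)
    · exact le_sup_right.trans Subgroup.le_normalizer
  exact (sup_eq_of_isComplIn hE).ge.trans h1

end Cfsg.Agent.Lib.Helper4.BG19
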