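import Mathlib
import Cfsg.Agent.Lib.Helper4.BG19g
import Cfsg.Agent.Lib.Helper4.NS2

set_option autoImplicit false
set_option linter.style.haveILetI false
set_option linter.unusedSectionVars false
set_option maxHeartbeats 1600000

/-! Bender–Glauberman Lemmas 13.10–13.11 (structure of a maximal subgroup whose Hall
`τ₃`-subgroup does not act regularly on `M_σ`): general preparations. -/

namespace Cfsg.Agent.Lib.Helper4.BG20

open Cfsg Cfsg.Agent.Lib.Lead Cfsg.Agent.Lib.Lead.BG10 Cfsg.Agent.Lib.Helper7 Cfsg.Agent.Lib.Helper4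
open Cfsg.Agent.Lib.Helper4.BG76 Cfsg.Agent.Lib.Helper4.BG8 Cfsg.Agent.Lib.Helper4.BG9
open Cfsg.Agent.Lib.Helper4.BG7 Cfsg.Agent.Lib.Helper4.BG12 Cfsg.Agent.Lib.Helper4.BGConj
open Cfsg.Agent.Lib.Helper4.BG13 Cfsg.Agent.Lib.Lead.BG95 Cfsg.Agent.Lib.Lead.BG12q
open Cfsg.Agent.Lib.Lead.BG11 Cfsg.Agent.Lib.Lead.BG13q Cfsg.Agent.Lib.Helper4.BG18
open Cfsg.Agent.Lib.Helper4.BG14 Cfsg.Agent.Lib.Helper2.BG13x Cfsg.Agent.Lib.Helper5.BG139
open Cfsg.Agent.Lib.Helper4.BG19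
open scoped commutatorElement

universe u

variable {G : Type u} [Group G] [Finite G]

/-- a cyclic subgroup centralizes itself -/
theorem le_centralizer_self_of_isCyclic {T : Subgroup G} (hT : IsCyclic ↥T) :
    T ≤ Subgroup.centralizer (T : Set G) := by
  intro a ha
  rw [Subgroup.mem_centralizer_iff]
  intro b hb
  have := hT
  let _ := IsCyclic.commGroup (α := ↥T)
  have h1 : (⟨b, hb⟩ : ↥T) * ⟨a, ha⟩ = ⟨a, ha⟩ * ⟨b, hb⟩ := mul_comm _ _
  exact congrArg Subtype.val h1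

/-- **a subgroup `X` of prime order of the Hall `τ₃(M)`-subgroup of a complement `E` is not
central in `E`** (Burnside) -/
theorem not_le_centralizer_of_tau3 (hG : IsMinSimpleOddOrder G) {M : Subgroup G} (hM : IsCoatom M)
    {E E₃ X : Subgroup G} (hE : IsComplIn E (sigmaCore M) M) (hE₃ : IsPiHallOf (tau3 M) E₃ E)
    (hXE₃ : X ≤ E₃) {t : ℕ} (ht : t.Prime) (hXc : Nat.card X = t) :
    ¬ E ≤ Subgroup.centralizer (X : Set G) := by
  intro hc
  haveI : Fact t.Prime := ⟨ht⟩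
  obtain ⟨-, -, h3⟩ := Cfsg.Agent.S1415.result hG M hM E hE
  obtain ⟨hE₃c, hE₃E', hEn₃⟩ := h3 E₃ hE₃
  have hXp : IsPGroup t ↥X := isPGroup_of_card_eq hXc
  have hX1 : X ≠ ⊥ := ne_bot_of_card_prime (hXc ▸ ht)
  have htτ : t ∈ tau3 M := by
    apply hE₃.2.1 t ht
    rw [← hXc]
    exact Subgroup.card_dvd_of_le hXE₃
  obtain ⟨T, hXT, hT⟩ := exists_sylIn_ge hXE₃ hXp
  have hTE : SylIn t E T := by
    refine ⟨hT.1.trans hE₃.1, hT.2.1, ?_⟩
    rw [← Subgroup.relIndex_mul_relIndex T E₃ E hT.1 hE₃.1]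
    intro hd
    rcases (Nat.Prime.dvd_mul ht).mp hd with h | h
    · exact hT.2.2 h
    · exact hE₃.2.2 t ht htτ h
  have hTc : IsCyclic ↥T := isCyclic_of_le_cyclic hT.1 hE₃c
  have hETn : E ≤ Subgroup.normalizer (T : Set G) :=
    hEn₃.trans (normalizer_le_normalizer_of_cyclic hE₃c hT.1)
  obtain ⟨W, hW⟩ := exists_hall_compl hG hM hE.1 {q | q ≠ t}
  have hcop : (Nat.card W).Coprime (Nat.card T) := by
    apply Nat.coprime_of_dvd
    intro k hk hk1 hk2
    exact hW.2.1 k hk hk1 (prime_eq_of_dvd_card hT.2.1 hk hk2)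
  have hfix : T ⊓ Subgroup.centralizer (W : Set G) ≠ ⊥ := by
    intro h0
    apply hX1
    rw [eq_bot_iff, ← h0]
    exact le_inf hXT (Subgroup.le_centralizer_iff.mp (hW.1.trans hc))
  have h4 := le_centralizer_of_cyclic_of_fixed hT.2.1 hTc (hW.1.trans hETn) hcop hfix
  have hsup : T ⊔ W = E := by
    apply sup_eq_of_cover hTE.1 hW.1
    intro p hp
    by_cases hpt : p = t
    · left
      rw [hpt]
      exact hTE.2.2
    · exact Or.inr (hW.2.2 p hp hpt)
  have hEc : E ≤ Subgroup.centralizer (T : Set G) := by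
    rw [← hsup]
    exact sup_le (le_centralizer_self_of_isCyclic hTc) (Subgroup.le_centralizer_iff.mp h4)
  have h0 := sylIn_inf_commutator_eq_bot hTE hEc
  apply hX1
  rw [eq_bot_iff, ← h0]
  exact le_inf hXT (hXE₃.trans hE₃E')

/-- `M ∩ H = (M_σ ∩ H) E` for a complement `E ≤ H` -/
theorem inf_le_sup_compl {M H E : Subgroup G} (hE : IsComplIn E (sigmaCore M) M) (hEH : E ≤ H) :
    M ⊓ H ≤ (sigmaCore M ⊓ H) ⊔ E := by
  rintro m ⟨hmM, hmH⟩
  obtain ⟨e, he, s, hs, rfl⟩ := hE.2.2.2 m hmM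
  have hsH : s ∈ H := by
    have : s = e⁻¹ * (e * s) := by group
    rw [this]
    exact H.mul_mem (H.inv_mem (hEH he)) hmH
  exact Subgroup.mul_mem _ (Subgroup.mem_sup_right he) (Subgroup.mem_sup_left ⟨hs, hsH⟩)

/-- if `M` is the only maximal subgroup containing `C_G(X)` then `N_G(X) ≤ M` -/
theorem normalizer_le_of_unique (hG : IsMinSimpleOddOrder G) {M X : Subgroup G}
    (hX1 : X ≠ ⊥) (hXtop : X ≠ ⊤)
    (hu : ∀ L : Subgroup G, IsCoatom L → Subgroup.centralizer (X : Set G) ≤ L → L = M) :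
    Subgroup.normalizer (X : Set G) ≤ M := by
  obtain ⟨L, hL, hNL⟩ := exists_coatom_ge (normalizer_ne_top hG hX1 hXtop)
  have := hu L hL ((Subgroup.centralizer_le_normalizer _).trans hNL)
  rwa [this] at hNL

/-- an ideal prime of `σ(M)` lies in `α(M)` -/
theorem mem_alpha_of_ideal {M : Subgroup G} (hM : IsCoatom M) {t : ℕ} [ht : Fact t.Prime]
    (htσ : t ∈ sigma M) (hid : IsIdealPrime t G) : t ∈ alpha M := by
  rw [alpha_mem_iff ht.out]
  intro hr
  obtain ⟨P, hP⟩ := exists_sigmaData hM htσ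
  obtain ⟨T, hT⟩ := hP.hPsyl
  apply hid.2.1
  apply Cfsg.Agent.Lib.Helper4.NS.prankLE_of_sylow T 2
  rw [hT]
  by_contra hn
  obtain ⟨A, hAP, hAe, hAc⟩ := exists_elementary_of_not_pRankLE hn
  exact not_pRankLE_of_elementary (hAP.trans hP.hPM) hAe hAc hr

/-- an ideal prime of `σ(M)` lies in `β(M)` -/
theorem mem_beta_of_ideal {M : Subgroup G} (hM : IsCoatom M) {t : ℕ} [ht : Fact t.Prime]
    (htσ : t ∈ sigma M) (hid : IsIdealPrime t G) : t ∈ beta M :=
  ⟨mem_alpha_of_ideal hM htσ hid, hid⟩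

/-- a coprime operator group `P` of `Y` not centralizing `Y` moves some `P`-invariant Sylow
subgroup of `Y` -/
theorem exists_invariant_sylow_not_centralized {P Y : Subgroup G}
    (hPY : P ≤ Subgroup.normalizer (Y : Set G)) (hcop : (Nat.card P).Coprime (Nat.card Y))
    (hsolv : Group.IsSolvable ↥P ∨ Group.IsSolvable ↥Y)
    (hnot : ¬ Y ≤ Subgroup.centralizer (P : Set G)) :
    ∃ (t : ℕ) (Yt : Subgroup G), t.Prime ∧ SylIn t Y Yt ∧
      P ≤ Subgroup.normalizer (Yt : Set G) ∧ ¬ Yt ≤ Subgroup.centralizer (P : Set G) := by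
  by_contra hcon
  push Not at hcon
  apply hnot
  apply le_of_forall_sylIn
  intro t ht
  haveI : Fact t.Prime := ⟨ht⟩
  obtain ⟨S, hS⟩ := coprime_invariant_sylow_exists P Y hPY hcop hsolv t
  exact ⟨_, sylIn_map_sylow S, hcon t _ ht (sylIn_map_sylow S) hS⟩

end Cfsg.Agent.Lib.Helper4.BG20
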