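import Mathlib
import Cfsg.Agent.Lib.Helper4.BG20a

set_option autoImplicit false
set_option linter.style.haveILetI false
set_option linter.unusedSectionVars false
set_option maxHeartbeats 1600000

/-! Bender–Glauberman Lemmas 13.10–13.11: the interface between the two halves of the proof of the
structure theorem for maximal subgroups `M` whose Hall `τ₃(M)`-subgroup does not act regularly
on `M_σ`. -/

namespace Cfsg.Agent.Lib.Helper4.BG20

open Cfsg

universe u

variable {G : Type u} [Group G]

/-- a good triple `(M, R, H)`: `R` a subgroup of prime order `r` of the Hall `τ₃(M)`-subgroup `E₃` of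
a complement `E` with `C_{M_σ}(R) ≠ 1`, and `H` a maximal subgroup containing `N_G(R)` with
`r ∈ σ(H)` -/
structure Good (M E E₁ E₃ R H : Subgroup G) : Prop where
  hM : IsCoatom M
  hE : IsComplIn E (sigmaCore M) M
  hE₁ : IsPiHallOf (tau1 M) E₁ E
  hE₃ : IsPiHallOf (tau3 M) E₃ E
  hR : R ≤ E₃
  hRc : (Nat.card R).Prime
  hY : sigmaCore M ⊓ Subgroup.centralizer (R : Set G) ≠ ⊥
  hH : IsCoatom H
  hNH : Subgroup.normalizer (R : Set G) ≤ H
  hσ : Nat.card R ∈ sigma H

/-- in a good triple `(M, R, H)` every subgroup of prime order of `E₁` centralizes `R` -/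
def TP1 (G : Type u) [Group G] : Prop :=
  ∀ M E E₁ E₃ R H : Subgroup G, Good M E E₁ E₃ R H →
    ∀ P : Subgroup G, P ≤ E₁ → (Nat.card P).Prime → R ≤ Subgroup.centralizer (P : Set G)

end Cfsg.Agent.Lib.Helper4.BG20
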