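import Mathlib
import Cfsg.Agent.Lib.Helper4.BG20a

set_option autoImplicit false
set_option linter.style.haveILetI false
set_option linter.unusedSectionVars false
set_option maxHeartbeats 1600000

/-! Bender–Glauberman Lemma 12.16 (a variant): a Frobenius group `R P ≤ M` with `|P| = p ∈ τ₁(M)`,
`|R| = r ∉ α(M)` and `ℳ(C_M(R)) ≠ {M}` acts regularly on `M_α`. -/

namespace Cfsg.Agent.Lib.Helper4.BG20

open Cfsg Cfsg.Agent.Lib.Lead Cfsg.Agent.Lib.Lead.BG10 Cfsg.Agent.Lib.Helper7 Cfsg.Agent.Lib.Helper4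
open Cfsg.Agent.Lib.Helper4.BG76 Cfsg.Agent.Lib.Helper4.BG8 Cfsg.Agent.Lib.Helper4.BG9
open Cfsg.Agent.Lib.Helper4.BG7 Cfsg.Agent.Lib.Helper4.BG12 Cfsg.Agent.Lib.Helper4.BGConj
open Cfsg.Agent.Lib.Helper4.BG13 Cfsg.Agent.Lib.Lead.BG95 Cfsg.Agent.Lib.Lead.BG12q
open Cfsg.Agent.Lib.Lead.BG11 Cfsg.Agent.Lib.Lead.BG13q Cfsg.Agent.Lib.Helper4.BG18
open Cfsg.Agent.Lib.Helper4.BG14 Cfsg.Agent.Lib.Helper2.BG13x Cfsg.Agent.Lib.Helper5.BG139
open Cfsg.Agent.Lib.Helper4.BG19
open scoped commutatorElement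

universe u

variable {G : Type u} [Group G] [Finite G]

/-- a `t`-subgroup of a Z-group is cyclic -/
theorem isCyclic_of_le_zgroup {t : ℕ} [ht : Fact t.Prime] {Z T : Subgroup G} (hZ : IsZGroup ↥Z)
    (hTZ : T ≤ Z) (hT : IsPGroup t ↥T) : IsCyclic ↥T := by
  have hT' : IsPGroup t ↥(T.subgroupOf Z) := hT.comap_subtype
  have hc : IsCyclic ↥(T.subgroupOf Z) := hT'.isCyclic_of_isZGroup
  exact isCyclic_of_surjective (Subgroup.subgroupOfEquivOfLe hTZ)
    (Subgroup.subgroupOfEquivOfLe hTZ).surjective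

/-- two subgroups of the same order of a cyclic `p`-group are equal -/
theorem eq_of_card_eq_of_cyclic {p : ℕ} [hp : Fact p.Prime] {C A B : Subgroup G}
    (hCp : IsPGroup p ↥C) (hCc : IsCyclic ↥C) (hA : A ≤ C) (hB : B ≤ C)
    (hcard : Nat.card A = Nat.card B) : A = B := by
  rcases le_total_of_isCyclic_of_isPGroup (C := ↥C) hCp (A.subgroupOf C) (B.subgroupOf C) with h | h
  · have hAB : A ≤ B := by
      intro a ha
      have := h (show (⟨a, hA ha⟩ : ↥C) ∈ A.subgroupOf C from Subgroup.mem_subgroupOf.mpr ha)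
      exact Subgroup.mem_subgroupOf.mp this
    exact Subgroup.eq_of_le_of_card_ge hAB hcard.ge
  · have hBA : B ≤ A := by
      intro a ha
      have := h (show (⟨a, hB ha⟩ : ↥C) ∈ B.subgroupOf C from Subgroup.mem_subgroupOf.mpr ha)
      exact Subgroup.mem_subgroupOf.mp this
    exact (Subgroup.eq_of_le_of_card_ge hBA hcard.le).symm

/-- for `p ∈ τ₁(M)` and `P ≤ M` of order `p`: `C_{M_α}(P)` is a Z-group (B and G, Lemma 10.4) -/
theorem isZGroup_alphaCore_centralizer (hG : IsMinSimpleOddOrder G) {M : Subgroup G}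
    (hM : IsCoatom M) {p : ℕ} [hp : Fact p.Prime] (hpτ : p ∈ tau1 M) {P : Subgroup G} (hPM : P ≤ M)
    (hPc : Nat.card P = p) :
    IsZGroup ↥(alphaCore M ⊓ Subgroup.centralizer (P : Set G)) := by
  have hPp : IsPGroup p ↥P := isPGroup_of_card_eq hPc
  have hP' : IsPGroup p ↥(P.subgroupOf M) := hPp.comap_subtype
  obtain ⟨S, hS⟩ := hP'.exists_le_sylow
  obtain ⟨x, hxZ, hxo, hZ, -⟩ := lemma_10_4 hG hM p hpτ.2.2.1 hpτ.2.1 S
  set SG : Subgroup G := (S : Subgroup M).map M.subtype with hSG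
  have hSGM : SG ≤ M := Subgroup.map_subtype_le _
  have hSGp : IsPGroup p ↥SG := S.2.map _
  have hp2 : p ≠ 2 := prime_ne_two hG hPp (ne_bot_of_card_prime (hPc ▸ hp.out))
  have hSGc : IsCyclic ↥SG := isCyclic_of_pRankLE_one hp2 hpτ.2.2.2.2 hSGM hSGp
  have hPSG : P ≤ SG := by
    intro a ha
    exact ⟨⟨a, hPM ha⟩, hS (Subgroup.mem_subgroupOf.mpr ha), rfl⟩
  have hxSG : x ∈ SG := by
    obtain ⟨y, hy, rfl⟩ := hxZ
    obtain ⟨z, hz, rfl⟩ := hy
    exact ⟨(z : ↥M), z.2, rfl⟩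
  have hzp : Subgroup.zpowers x = P := by
    apply eq_of_card_eq_of_cyclic hSGp hSGc
    · rw [Subgroup.zpowers_le]; exact hxSG
    · exact hPSG
    · rw [Nat.card_zpowers, hxo, hPc]
  rw [← hzp, centralizer_zpowers']
  exact hZ

/-- **B and G, Lemma 12.16** (variant): let `p ∈ τ₁(M)`, `P ≤ M` of order `p`, `R ≤ M` of prime order
`r ∉ α(M)` normalized but not centralized by `P`, and suppose `C_M(R)` lies in a maximal subgroup
different from `M`.  Then `C_{M_α}(R P) = 1`. -/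
theorem lemma_12_16' (hG : IsMinSimpleOddOrder G) {M : Subgroup G} (hM : IsCoatom M) {p r : ℕ}
    (hpτ : p ∈ tau1 M) {P R : Subgroup G} (hPM : P ≤ M) (hPc : Nat.card P = p) (hRM : R ≤ M)
    (hr : r.Prime) (hRc : Nat.card R = r) (hrα : r ∉ alpha M) (hpr : p ≠ r)
    (hPR : P ≤ Subgroup.normalizer (R : Set G)) (hPnR : ¬ P ≤ Subgroup.centralizer (R : Set G))
    {L : Subgroup G} (hL : IsCoatom L) (hLM : L ≠ M)
    (hCL : M ⊓ Subgroup.centralizer (R : Set G) ≤ L) :
    alphaCore M ⊓ Subgroup.centralizer ((R ⊔ P : Subgroup G) : Set G) = ⊥ := by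
  classical
  have hp : p.Prime := hpτ.1
  haveI : Fact p.Prime := ⟨hp⟩
  haveI : Fact r.Prime := ⟨hr⟩
  by_contra hne
  -- an element `z` of prime order `t`
  obtain ⟨t, ht, hd⟩ := Nat.exists_prime_and_dvd
    (show Nat.card ↥(alphaCore M ⊓ Subgroup.centralizer ((R ⊔ P : Subgroup G) : Set G)) ≠ 1 from
      fun h => hne (Subgroup.card_eq_one.mp h))
  haveI : Fact t.Prime := ⟨ht⟩
  obtain ⟨z', hz'⟩ := exists_prime_orderOf_dvd_card' t hd
  set z : G := (z' : G) with hz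
  have hzo : orderOf z = t := by rw [hz, Subgroup.orderOf_coe]; exact hz'
  have hzK : z ∈ alphaCore M := z'.2.1
  have hzC : z ∈ Subgroup.centralizer ((R ⊔ P : Subgroup G) : Set G) := z'.2.2
  have hz1 : z ≠ 1 := by
    intro h1
    rw [h1, orderOf_one] at hzo
    exact ht.one_lt.ne hzo
  obtain ⟨hKH, hKG, -⟩ := theorem_10_2 hG hM
  set K := alphaCore M with hK
  have hKM : K ≤ M := hKH.1
  have hMK : M ≤ Subgroup.normalizer (K : Set G) := le_normalizer_piCoreOf (alpha M) M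
  have hAM : R ⊔ P ≤ M := sup_le hRM hPM
  have hAK : R ⊔ P ≤ Subgroup.normalizer (K : Set G) := hAM.trans hMK
  have hpα : p ∉ alpha M := fun h => hpτ.2.1 (alpha_subset_sigma hG hM h)
  have hker : FrobKer R P := frobKer_of_prime hr hp hRc hPc hpr hPR hPnR
  have hdvd : Nat.card ↥(R ⊔ P : Subgroup G) ∣ Nat.card ↥R * Nat.card ↥P := by
    have := card_sup_mul_card_inf P R hPR
    rw [sup_comm] at this
    rw [mul_comm (Nat.card ↥R)]
    exact Dvd.intro _ this
  have hcop : (Nat.card ↥(R ⊔ P : Subgroup G)).Coprime (Nat.card ↥K) := by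
    apply Nat.coprime_of_dvd
    intro s hs h1 h2
    have h3 : s ∈ alpha M := hKH.2.1 s hs h2
    rcases (Nat.Prime.dvd_mul hs).mp (h1.trans hdvd) with h4 | h4
    · rw [hRc, Nat.prime_dvd_prime_iff_eq hs hr] at h4
      rw [h4] at h3
      exact hrα h3
    · rw [hPc, Nat.prime_dvd_prime_iff_eq hs hp] at h4
      rw [h4] at h3
      exact hpα h3
  have hsolv : Group.IsSolvable ↥(R ⊔ P : Subgroup G) :=
    solvable_of_ne_top hG (ne_top_of_le_ne_top hM.1 hAM)
  have hZK : Subgroup.zpowers z ≤ K := by rw [Subgroup.zpowers_le]; exact hzK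
  have hZt : IsPGroup t ↥(Subgroup.zpowers z) :=
    IsPGroup.of_card (n := 1) (by rw [Nat.card_zpowers, hzo, pow_one])
  have hZ1 : Subgroup.zpowers z ≠ ⊥ := by
    intro h0
    exact hz1 (Subgroup.zpowers_eq_bot.mp h0)
  have hZA : R ⊔ P ≤ Subgroup.normalizer ((Subgroup.zpowers z : Subgroup G) : Set G) := by
    refine le_trans ?_ (Subgroup.centralizer_le_normalizer _)
    intro a ha
    rw [Subgroup.mem_centralizer_iff]
    intro y hy
    obtain ⟨k, rfl⟩ := Subgroup.mem_zpowers_iff.mp hy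
    have hc : Commute a z := Subgroup.mem_centralizer_iff.mp hzC a ha
    exact (Commute.zpow_left hc.symm k).eq
  obtain ⟨T₀, hZT, hAT⟩ :=
    coprime_invariant_pgroup_le_sylow (R ⊔ P) K hAK hcop (Or.inl hsolv) t _ hZK hZt hZA
  set T := (T₀ : Subgroup ↥K).map K.subtype with hT
  have hTsyl : SylIn t K T := sylIn_map_sylow T₀
  have hTK : T ≤ K := hTsyl.1
  have hTM : T ≤ M := hTK.trans hKM
  have hTt : IsPGroup t ↥T := hTsyl.2.1
  have hRT : R ≤ Subgroup.normalizer (T : Set G) := le_sup_left.trans hAT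
  have hPT : P ≤ Subgroup.normalizer (T : Set G) := le_sup_right.trans hAT
  have hzT : z ∈ T := hZT (Subgroup.mem_zpowers z)
  have htα : t ∈ alpha M := hKH.2.1 t ht (hd.trans (Subgroup.card_dvd_of_le inf_le_left))
  have hcopT : (Nat.card ↥T).Coprime (Nat.card ↥(R ⊔ P : Subgroup G)) :=
    (Nat.Coprime.coprime_dvd_right (Subgroup.card_dvd_of_le hTK) hcop).symm
  have ht2 : t ≠ 2 := prime_ne_two hG hZt hZ1
  have hzR : z ∈ Subgroup.centralizer (R : Set G) :=
    Subgroup.centralizer_le (SetLike.coe_subset_coe.mpr (le_sup_left : R ≤ R ⊔ P)) hzC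
  have hzP : z ∈ Subgroup.centralizer (P : Set G) :=
    Subgroup.centralizer_le (SetLike.coe_subset_coe.mpr (le_sup_right : P ≤ R ⊔ P)) hzC
  -- `C_T(R)` is cyclic
  have hRα : ∀ q : ℕ, q.Prime → q ∣ Nat.card R → q ∉ alpha M := by
    intro q hq hqd
    rw [hRc, Nat.prime_dvd_prime_iff_eq hq hr] at hqd
    rw [hqd]
    exact hrα
  have hrank : RankLE 1 ↥(alphaCore M ⊓ Subgroup.centralizer (R : Set G)) := by
    by_contra hr1
    obtain ⟨M', -, huniq⟩ := lemma_10_3 hG hM R hRM hRα hr1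
    have e1 : M = M' := huniq M ⟨hM, inf_le_left⟩
    have e2 : L = M' := huniq L ⟨hL, hCL⟩
    exact hLM (e2.trans e1.symm)
  have hCF : IsCyclic ↥(T ⊓ Subgroup.centralizer (R : Set G) : Subgroup G) :=
    isCyclic_of_pRankLE_one ht2 (hrank t ht) (inf_le_inf_right _ hTK) (hTt.to_le inf_le_left)
  have hCR : IsCyclic ↥(T ⊓ Subgroup.centralizer (P : Set G) : Subgroup G) :=
    isCyclic_of_le_zgroup (isZGroup_alphaCore_centralizer hG hM hpτ hPM hPc)
      (inf_le_inf_right _ hTK) (hTt.to_le inf_le_left)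
  have hne' : T ⊓ Subgroup.centralizer (R : Set G) ≠ ⊥ := by
    intro h0
    have : z ∈ T ⊓ Subgroup.centralizer (R : Set G) := ⟨hzT, hzR⟩
    rw [h0, Subgroup.mem_bot] at this
    exact hz1 this
  have hCFR : T ⊓ Subgroup.centralizer (R : Set G) ≤ Subgroup.centralizer (P : Set G) := by
    apply le_centralizer_of_cyclic_of_fixed (hTt.to_le inf_le_left) hCF
      (le_normalizer_inf' hPT (le_normalizer_centralizer' hker.hRF))
    · have h1 : (Nat.card ↥(T ⊓ Subgroup.centralizer (R : Set G) : Subgroup G)).Coprime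
          (Nat.card ↥(R ⊔ P : Subgroup G)) :=
        Nat.Coprime.coprime_dvd_left (Subgroup.card_dvd_of_le inf_le_left) hcopT
      exact (Nat.Coprime.coprime_dvd_right (Subgroup.card_dvd_of_le
        (le_sup_right : P ≤ R ⊔ P)) h1).symm
    · intro h0
      have : z ∈ (T ⊓ Subgroup.centralizer (R : Set G)) ⊓ Subgroup.centralizer (P : Set G) :=
        ⟨⟨hzT, hzR⟩, hzP⟩
      rw [h0, Subgroup.mem_bot] at this
      exact hz1 this
  have hact : FrobAct t R P T := ⟨hker, hTt, hRT, hPT, hcopT, hCF, hCR, hCFR⟩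
  have hcyc := hact.isCyclic ht2 hne'
  -- but `T` is a Sylow `t`-subgroup of `M` and `t ∈ α(M)`
  have hTM' : SylIn t M T := by
    refine ⟨hTM, hTt, ?_⟩
    rw [← Subgroup.relIndex_mul_relIndex T K M hTK hKM]
    intro hd'
    rcases (Nat.Prime.dvd_mul ht).mp hd' with h | h
    · exact hTsyl.2.2 h
    · exact hKH.2.2 t ht htα h
  apply htα.2
  apply prankLE_of_sylIn hTM'
  intro A hAc hAe
  have h1 := prankLE_one_of_isCyclic (C := ↥T) t A hAc hAe
  have h2 : t ^ 1 ≤ t ^ 2 := Nat.pow_le_pow_right ht.pos (by norm_num)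
  omega

end Cfsg.Agent.Lib.Helper4.BG20
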