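import Mathlib
import Cfsg.Agent.Lib.Helper4.BG20b
import Cfsg.Agent.Lib.Helper4.BG20i
import Cfsg.Agent.Lib.Helper5.BG144a
import Cfsg.Agent.Lib.Helper2.BG14y3

set_option autoImplicit false
set_option linter.style.haveILetI false
set_option linter.unusedSectionVars false
set_option maxHeartbeats 1600000

/-! Bender–Glauberman Lemmas 13.10–13.11: a good triple `(M, R, H)` and a subgroup `P ≤ E₁` of prime
order not centralizing `R`: first consequences. -/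

namespace Cfsg.Agent.Lib.Helper4.BG20

open Cfsg Cfsg.Agent.Lib.Lead Cfsg.Agent.Lib.Lead.BG10 Cfsg.Agent.Lib.Helper7 Cfsg.Agent.Lib.Helper4
open Cfsg.Agent.Lib.Helper4.BG76 Cfsg.Agent.Lib.Helper4.BG8 Cfsg.Agent.Lib.Helper4.BG9
open Cfsg.Agent.Lib.Helper4.BG7 Cfsg.Agent.Lib.Helper4.BG12 Cfsg.Agent.Lib.Helper4.BGConj
open Cfsg.Agent.Lib.Helper4.BG13 Cfsg.Agent.Lib.Lead.BG95 Cfsg.Agent.Lib.Lead.BG12q
open Cfsg.Agent.Lib.Lead.BG11 Cfsg.Agent.Lib.Lead.BG13q Cfsg.Agent.Lib.Helper4.BG18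
open Cfsg.Agent.Lib.Helper4.BG14 Cfsg.Agent.Lib.Helper2.BG13x Cfsg.Agent.Lib.Helper5.BG139
open Cfsg.Agent.Lib.Helper4.BG19 Cfsg.Agent.Lib.Helper5.BG144 Cfsg.Agent.Lib.Helper2.BG14y
open scoped commutatorElement

universe u

variable {G : Type u} [Group G] [Finite G]

/-- for `K ⊴ M` and `D ≤ M`: `|D : K ∩ D|` divides `|M : K|` -/
theorem relIndex_dvd_of_normal {K D M : Subgroup G} (hKM : K ≤ M)
    (hMK : M ≤ Subgroup.normalizer (K : Set G))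
    (hDM : D ≤ M) : K.relIndex D ∣ K.relIndex M := by
  have hn : (K.subgroupOf M).Normal := (Subgroup.normal_subgroupOf_iff_le_normalizer hKM).mpr hMK
  have h1 : (K.subgroupOf M).relIndex (D.subgroupOf M) ∣ (K.subgroupOf M).index :=
    Subgroup.relIndex_dvd_index_of_normal _ _
  rw [Subgroup.relIndex_subgroupOf hDM] at h1
  exact h1

/-- a Sylow `t`-subgroup of `M_σ ∩ H`, `t ∈ σ(M)`, is a Sylow `t`-subgroup of `M ∩ H` -/
theorem sylIn_inf_of_sylIn_sigmaCore_inf (hG : IsMinSimpleOddOrder G) {M H : Subgroup G}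
    (hM : IsCoatom M) {t : ℕ} [ht : Fact t.Prime] (htσ : t ∈ sigma M) {T : Subgroup G}
    (hT : SylIn t (sigmaCore M ⊓ H) T) : SylIn t (M ⊓ H) T := by
  have hle : sigmaCore M ⊓ H ≤ M ⊓ H := inf_le_inf_right _ (sigmaCore_le M)
  refine ⟨hT.1.trans hle, hT.2.1, ?_⟩
  rw [← Subgroup.relIndex_mul_relIndex T (sigmaCore M ⊓ H) (M ⊓ H) hT.1 hle]
  intro hd
  rcases (Nat.Prime.dvd_mul ht.out).mp hd with h | h
  · exact hT.2.2 h
  · have h1 : (sigmaCore M ⊓ H).relIndex (M ⊓ H) = (sigmaCore M).relIndex (M ⊓ H) := by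
      rw [← Subgroup.inf_relIndex_right (sigmaCore M) (M ⊓ H)]
      congr 1
      rw [← inf_assoc, inf_eq_left.mpr (sigmaCore_le M)]
    rw [h1] at h
    exact (sigmaCore_hall hG hM).1.2.2 t ht.out htσ
      (h.trans (relIndex_dvd_of_normal (sigmaCore_le M) (le_normalizer_sigmaCore M) inf_le_left))

/-- a coprime operator group not centralizing a cyclic `t`-group acts regularly on it -/
theorem inf_centralizer_eq_bot_of_cyclic {t : ℕ} [ht : Fact t.Prime] {C P : Subgroup G}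
    (hCt : IsPGroup t ↥C) (hCc : IsCyclic ↥C) (hPC : P ≤ Subgroup.normalizer (C : Set G))
    (hcop : (Nat.card P).Coprime (Nat.card C)) (hnot : ¬ C ≤ Subgroup.centralizer (P : Set G)) :
    C ⊓ Subgroup.centralizer (P : Set G) = ⊥ := by
  by_contra hne
  exact hnot (le_centralizer_of_cyclic_of_fixed hCt hCc hPC hcop hne)

/-- a good triple `(M, R, H)` together with a subgroup `P ≤ E₁` of prime order `p` not centralizing
`R` -/
structure BadP (M E E₁ E₃ R H P : Subgroup G) (p r : ℕ) : Prop where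
  g : Good M E E₁ E₃ R H
  hPE₁ : P ≤ E₁
  hPc : Nat.card P = p
  hp : p.Prime
  hRr : Nat.card R = r
  hnot : ¬ R ≤ Subgroup.centralizer (P : Set G)

namespace BadP

variable {M E E₁ E₃ R H P : Subgroup G} {p r : ℕ}

theorem hr (b : BadP M E E₁ E₃ R H P p r) : r.Prime := b.hRr ▸ b.g.hRc

theorem hrτ (b : BadP M E E₁ E₃ R H P p r) : r ∈ tau3 M :=
  b.g.hE₃.2.1 r b.hr (b.hRr ▸ Subgroup.card_dvd_of_le b.g.hR)

theorem hpτ (b : BadP M E E₁ E₃ R H P p r) : p ∈ tau1 M :=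
  b.g.hE₁.2.1 p b.hp (b.hPc ▸ Subgroup.card_dvd_of_le b.hPE₁)

theorem hpr (b : BadP M E E₁ E₃ R H P p r) : p ≠ r := by
  intro h
  have h1 := b.hpτ.2.2.2.1
  rw [h] at h1
  exact h1 b.hrτ.2.2.1

theorem hRE (b : BadP M E E₁ E₃ R H P p r) : R ≤ E := b.g.hR.trans b.g.hE₃.1

theorem hPE (b : BadP M E E₁ E₃ R H P p r) : P ≤ E := b.hPE₁.trans b.g.hE₁.1

theorem hRM (b : BadP M E E₁ E₃ R H P p r) : R ≤ M := b.hRE.trans b.g.hE.1

theorem hPM (b : BadP M E E₁ E₃ R H P p r) : P ≤ M := b.hPE.trans b.g.hE.1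

theorem hRp (b : BadP M E E₁ E₃ R H P p r) : IsPGroup r ↥R := isPGroup_of_card_eq b.hRr

theorem hPp (b : BadP M E E₁ E₃ R H P p r) : IsPGroup p ↥P := isPGroup_of_card_eq b.hPc

theorem hR1 (b : BadP M E E₁ E₃ R H P p r) : R ≠ ⊥ := ne_bot_of_card_prime b.g.hRc

theorem hP1 (b : BadP M E E₁ E₃ R H P p r) : P ≠ ⊥ := ne_bot_of_card_prime (b.hPc ▸ b.hp)

theorem hE₃c (b : BadP M E E₁ E₃ R H P p r) (hG : IsMinSimpleOddOrder G) : IsCyclic ↥E₃ :=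
  ((Cfsg.Agent.S1415.result hG M b.g.hM E b.g.hE).2.2 E₃ b.g.hE₃).1

theorem hEn₃ (b : BadP M E E₁ E₃ R H P p r) (hG : IsMinSimpleOddOrder G) :
    E ≤ Subgroup.normalizer (E₃ : Set G) :=
  ((Cfsg.Agent.S1415.result hG M b.g.hM E b.g.hE).2.2 E₃ b.g.hE₃).2.2

theorem hER (b : BadP M E E₁ E₃ R H P p r) (hG : IsMinSimpleOddOrder G) :
    E ≤ Subgroup.normalizer (R : Set G) :=
  (b.hEn₃ hG).trans (normalizer_le_normalizer_of_cyclic (b.hE₃c hG) b.g.hR)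

theorem hEH (b : BadP M E E₁ E₃ R H P p r) (hG : IsMinSimpleOddOrder G) : E ≤ H :=
  (b.hER hG).trans b.g.hNH

theorem hRH (b : BadP M E E₁ E₃ R H P p r) (hG : IsMinSimpleOddOrder G) : R ≤ H :=
  b.hRE.trans (b.hEH hG)

theorem hPH (b : BadP M E E₁ E₃ R H P p r) (hG : IsMinSimpleOddOrder G) : P ≤ H :=
  b.hPE.trans (b.hEH hG)

theorem hPR (b : BadP M E E₁ E₃ R H P p r) (hG : IsMinSimpleOddOrder G) :
    P ≤ Subgroup.normalizer (R : Set G) := b.hPE.trans (b.hER hG)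

theorem hPnR (b : BadP M E E₁ E₃ R H P p r) : ¬ P ≤ Subgroup.centralizer (R : Set G) :=
  fun h => b.hnot (Subgroup.le_centralizer_iff.mp h)

theorem cor (b : BadP M E E₁ E₃ R H P p r) (hG : IsMinSimpleOddOrder G) :
    (∀ g : G, H ≠ cj g M) ∧ (r ∈ sigma H ∨ r ∈ tau2 H) ∧
      (∀ P₁ : Subgroup G, P₁ ≤ M ⊓ H → IsPGroup r P₁ →
        sigmaCore M ⊓ H ≤ Subgroup.centralizer (P₁ : Set G)) ∧
      (∀ X : Subgroup G, X ≤ M ⊓ H →
        (∀ q : ℕ, q.Prime → q ∣ Nat.card X → q ∉ sigma M ∧ q ∉ tau1 H) →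
        sigmaCore M ⊓ H ≤ Subgroup.centralizer (X : Set G)) ∧
      (⁅sigmaCore M ⊓ H, M ⊓ H⁆ ≠ ⊥ → r ∈ sigma H ∧ (r ∈ tau1 M → IsIdealPrime r G)) ∧
      sigmaCore M ⊓ H = sigmaCore M ⊓ Subgroup.centralizer (R : Set G) :=
  haveI : Fact r.Prime := ⟨b.hr⟩
  corollary_13_2 hG b.g.hM b.g.hH (Or.inr b.hrτ) b.hRM b.hRp b.hR1 b.g.hNH

theorem hnc (b : BadP M E E₁ E₃ R H P p r) (hG : IsMinSimpleOddOrder G) : ∀ g : G, H ≠ cj g M :=
  (b.cor hG).1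

theorem hHM (b : BadP M E E₁ E₃ R H P p r) (hG : IsMinSimpleOddOrder G) : H ≠ M := by
  have := b.hnc hG 1
  rwa [cj_one] at this

theorem hY (b : BadP M E E₁ E₃ R H P p r) (hG : IsMinSimpleOddOrder G) :
    sigmaCore M ⊓ H = sigmaCore M ⊓ Subgroup.centralizer (R : Set G) := (b.cor hG).2.2.2.2.2

theorem hYne (b : BadP M E E₁ E₃ R H P p r) (hG : IsMinSimpleOddOrder G) :
    sigmaCore M ⊓ H ≠ ⊥ := by
  rw [b.hY hG]
  exact b.g.hY

theorem hRHσ (b : BadP M E E₁ E₃ R H P p r) (hG : IsMinSimpleOddOrder G) : R ≤ sigmaCore H :=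
  haveI : Fact r.Prime := ⟨b.hr⟩
  le_sigmaCore_of_isPGroup hG b.g.hH (b.hRr ▸ b.g.hσ) (b.hRH hG) b.hRp

/-- `C_{M_σ}(P) ≠ 1` -/
theorem hY1 (b : BadP M E E₁ E₃ R H P p r) (hG : IsMinSimpleOddOrder G) :
    sigmaCore M ⊓ Subgroup.centralizer (P : Set G) ≠ ⊥ := by
  intro hreg
  have h1 := sigmaCore_le_centralizer_of_regular hG b.g.hM b.g.hE b.hr b.hp b.hRr b.hPc b.hpr
    b.hRE b.hPE (b.hPR hG) b.hPnR hreg
  exact not_sigmaCore_le_centralizer hG b.g.hM b.g.hE b.hrτ b.hRr b.hRE (b.hER hG) h1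

/-- the prime divisors of `|M_σ ∩ H|` lie in `σ(M)` -/
theorem t_sigma (b : BadP M E E₁ E₃ R H P p r) (hG : IsMinSimpleOddOrder G) {X : Subgroup G}
    (hXY : X ≤ sigmaCore M ⊓ H) {t : ℕ} (ht : t.Prime) (hXc : Nat.card X = t) : t ∈ sigma M :=
  (sigmaCore_hall hG b.g.hM).1.2.1 t ht (hXc ▸ Subgroup.card_dvd_of_le (hXY.trans inf_le_left))

/-- the prime divisors of `|M_σ ∩ H|` do not lie in `σ(H)` -/
theorem t_not_sigma (b : BadP M E E₁ E₃ R H P p r) (hG : IsMinSimpleOddOrder G) {X : Subgroup G}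
    (hXY : X ≤ sigmaCore M ⊓ H) {t : ℕ} (ht : t.Prime) (hXc : Nat.card X = t) : t ∉ sigma H := by
  intro h
  obtain ⟨g, hg⟩ := sigma_partition hG b.g.hM b.g.hH (b.t_sigma hG hXY ht hXc) h
  exact b.hnc hG g hg

/-- the prime divisors of `|M_σ ∩ H|` do not lie in `τ₂(H)` -/
theorem t_not_tau2 (b : BadP M E E₁ E₃ R H P p r) (hG : IsMinSimpleOddOrder G) {X : Subgroup G}
    (hXY : X ≤ sigmaCore M ⊓ H) {t : ℕ} (ht : t.Prime) (hXc : Nat.card X = t) : t ∉ tau2 H := by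
  intro htτ
  haveI : Fact t.Prime := ⟨ht⟩
  haveI : Fact r.Prime := ⟨b.hr⟩
  have hXH : X ≤ H := hXY.trans inf_le_right
  have hXM : X ≤ M := (hXY.trans inf_le_left).trans (sigmaCore_le M)
  have hXR : X ≤ Subgroup.centralizer (R : Set G) := by
    have := b.hY hG
    exact (hXY.trans this.le).trans inf_le_right
  have hXp : IsPGroup t ↥X := isPGroup_of_card_eq hXc
  have hX1 : X ≠ ⊥ := ne_bot_of_card_prime (hXc ▸ ht)
  have hXtop : X ≠ ⊤ := fun h => b.g.hM.1 (eq_top_iff.mpr (h ▸ hXM))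
  -- generators
  obtain ⟨x, hxX, hx1⟩ : ∃ x ∈ X, x ≠ 1 := by
    by_contra hcon
    push Not at hcon
    exact hX1 ((Subgroup.eq_bot_iff_forall X).mpr hcon)
  have hxz : Subgroup.zpowers x = X := ZP.zpowers_eq_of_prime_card X (hXc ▸ ht) x hxX hx1
  have hxo : orderOf x = t := by rw [← Nat.card_zpowers, hxz, hXc]
  obtain ⟨y, hyR, hy1⟩ : ∃ y ∈ R, y ≠ 1 := by
    by_contra hcon
    push Not at hcon
    exact b.hR1 ((Subgroup.eq_bot_iff_forall R).mpr hcon)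
  obtain ⟨EH, hEH, -⟩ := exists_complIn_ge hG b.g.hH (bot_le : (⊥ : Subgroup G) ≤ H)
    (by rw [Subgroup.card_bot]; exact Nat.coprime_one_left _)
  obtain ⟨-, -, -, h4⟩ := Cfsg.Agent.S1420.result hG H b.g.hH EH hEH
  have hxH : x ∈ sigmaHat H := by
    refine ⟨hXH hxX, y, b.hRHσ hG hyR, hy1, ?_⟩
    exact (Subgroup.mem_centralizer_iff.mp (hXR hxX) y hyR).symm
  obtain ⟨-, hu⟩ := h4 x (hXH hxX) hx1 (by
    intro q hq hqd
    rw [hxo, Nat.prime_dvd_prime_iff_eq hq ht] at hqd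
    rw [hqd]
    exact htτ) hxH
  rw [← centralizer_zpowers', hxz] at hu
  have hNX : Subgroup.normalizer (X : Set G) ≤ H := normalizer_le_of_unique hG hX1 hXtop hu
  obtain ⟨-, -, hc⟩ := complIn_of_normalizer_le hG b.g.hM b.g.hH (b.hHM hG)
    (b.t_sigma hG hXY ht hXc) hXp hX1 hXM hNX
  apply b.hR1
  rw [eq_bot_iff, ← hc.2.2.1]
  exact le_inf (le_inf b.hRM (b.hRH hG)) (b.hRHσ hG)

end BadP

end Cfsg.Agent.Lib.Helper4.BG20
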