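import Mathlib
import Cfsg.Agent.Lib.Helper4.BG20c

set_option autoImplicit false
set_option linter.style.haveILetI false
set_option linter.unusedSectionVars false
set_option maxHeartbeats 1600000

/-! Bender–Glauberman Lemmas 13.10–13.11: a good triple `(M, R, H)` and a subgroup `P ≤ E₁` of prime
order not centralizing `R`: the case `M_σ ∩ H ≤ C(P)`. -/

namespace Cfsg.Agent.Lib.Helper4.BG20

open Cfsg Cfsg.Agent.Lib.Lead Cfsg.Agent.Lib.Lead.BG10 Cfsg.Agent.Lib.Helper7 Cfsg.Agent.Lib.Helper4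
open Cfsg.Agent.Lib.Helper4.BG76 Cfsg.Agent.Lib.Helper4.BG8 Cfsg.Agent.Lib.Helper4.BG9
open Cfsg.Agent.Lib.Helper4.BG7 Cfsg.Agent.Lib.Helper4.BG12 Cfsg.Agent.Lib.Helper4.BGConj
open Cfsg.Agent.Lib.Helper4.BG13 Cfsg.Agent.Lib.Lead.BG95 Cfsg.Agent.Lib.Lead.BG12q
open Cfsg.Agent.Lib.Lead.BG11 Cfsg.Agent.Lib.Lead.BG13q Cfsg.Agent.Lib.Helper4.BG18
open Cfsg.Agent.Lib.Helper4.BG14 Cfsg.Agent.Lib.Helper2.BG13x Cfsg.Agent.Lib.Helper5.BG139
open Cfsg.Agent.Lib.Helper4.BG19 Cfsg.Agent.Lib.Helper5.BG144 Cfsg.Agent.Lib.Helper2.BG14y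
open scoped commutatorElement

universe u

variable {G : Type u} [Group G] [Finite G]

/-- a subgroup of prime order is generated by an element -/
theorem exists_generator_of_prime_card {X : Subgroup G} (hX : (Nat.card X).Prime) :
    ∃ x ∈ X, x ≠ 1 ∧ Subgroup.zpowers x = X ∧ orderOf x = Nat.card X := by
  have hX1 : X ≠ ⊥ := ne_bot_of_card_prime hX
  obtain ⟨x, hxX, hx1⟩ : ∃ x ∈ X, x ≠ 1 := by
    by_contra hcon
    push Not at hcon
    exact hX1 ((Subgroup.eq_bot_iff_forall X).mpr hcon)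
  have hxz : Subgroup.zpowers x = X := ZP.zpowers_eq_of_prime_card X hX x hxX hx1
  exact ⟨x, hxX, hx1, hxz, by rw [← Nat.card_zpowers, hxz]⟩

/-- a non-trivial subgroup has a subgroup of prime order -/
theorem exists_prime_card_le {Y : Subgroup G} (hY : Y ≠ ⊥) :
    ∃ (t : ℕ) (X : Subgroup G), t.Prime ∧ X ≤ Y ∧ Nat.card X = t := by
  obtain ⟨t, ht, hd⟩ := Nat.exists_prime_and_dvd
    (show Nat.card ↥Y ≠ 1 from fun h => hY (Subgroup.card_eq_one.mp h))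
  haveI : Fact t.Prime := ⟨ht⟩
  obtain ⟨z, hz⟩ := exists_prime_orderOf_dvd_card' t hd
  refine ⟨t, Subgroup.zpowers (z : G), ht, Subgroup.zpowers_le.mpr z.2, ?_⟩
  rw [Nat.card_zpowers, Subgroup.orderOf_coe]
  exact hz

/-- a subgroup of prime order `t` for every prime divisor `t` of `|Y|` -/
theorem exists_card_eq_of_dvd {Y : Subgroup G} {t : ℕ} (ht : t.Prime) (hd : t ∣ Nat.card Y) :
    ∃ X : Subgroup G, X ≤ Y ∧ Nat.card X = t := by
  haveI : Fact t.Prime := ⟨ht⟩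
  obtain ⟨z, hz⟩ := exists_prime_orderOf_dvd_card' t hd
  refine ⟨Subgroup.zpowers (z : G), Subgroup.zpowers_le.mpr z.2, ?_⟩
  rw [Nat.card_zpowers, Subgroup.orderOf_coe]
  exact hz

namespace BadP

variable {M E E₁ E₃ R H P : Subgroup G} {p r : ℕ}

theorem hτ2 (b : BadP M E E₁ E₃ R H P p r) (hG : IsMinSimpleOddOrder G) : ∀ t : ℕ, t ∉ tau2 M := by
  obtain ⟨y, hyR, hy1, hyz, -⟩ := exists_generator_of_prime_card b.g.hRc
  apply tau2_empty_of_tau3_fixed hG b.g.hM b.g.hE b.g.hE₃ (b.g.hR hyR) hy1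
  rw [← centralizer_zpowers', hyz]
  exact b.g.hY

theorem hsup (b : BadP M E E₁ E₃ R H P p r) (hG : IsMinSimpleOddOrder G) : E₁ ⊔ E₃ = E :=
  sup_tau1_tau3 hG b.g.hM b.g.hE b.g.hE₁ b.g.hE₃ (b.hτ2 hG)

/-- `E₃` centralizes `M_σ ∩ H` -/
theorem hYE₃ (b : BadP M E E₁ E₃ R H P p r) (hG : IsMinSimpleOddOrder G) :
    sigmaCore M ⊓ H ≤ Subgroup.centralizer (E₃ : Set G) := by
  obtain ⟨y, hyR, hy1, hyz, -⟩ := exists_generator_of_prime_card b.g.hRc
  have h1 := tau3_semiprime hG b.g.hM b.g.hE b.g.hE₃ y (b.g.hR hyR) hy1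
  rw [← centralizer_zpowers', hyz, ← b.hY hG] at h1
  rw [h1]
  exact inf_le_right

/-- if `M_σ ∩ H ≤ C(P)` then `E₁` centralizes `M_σ ∩ H` -/
theorem hYE₁ (b : BadP M E E₁ E₃ R H P p r) (hG : IsMinSimpleOddOrder G)
    (hYP : sigmaCore M ⊓ H ≤ Subgroup.centralizer (P : Set G)) :
    sigmaCore M ⊓ H ≤ Subgroup.centralizer (E₁ : Set G) := by
  obtain ⟨x, hxP, hx1, hxz, -⟩ := exists_generator_of_prime_card (b.hPc ▸ b.hp : (Nat.card P).Prime)
  have h1 := corollary_13_5 hG b.g.hM b.g.hE b.g.hE₁ x (b.hPE₁ hxP) hx1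
  rw [← centralizer_zpowers', hxz] at h1
  have h2 : sigmaCore M ⊓ H ≤ sigmaCore M ⊓ Subgroup.centralizer (P : Set G) :=
    le_inf inf_le_left hYP
  rw [h1] at h2
  exact h2.trans inf_le_right

/-- a prime divisor of `|M_σ ∩ H|`, in the case `M_σ ∩ H ≤ C(P)`, does not lie in `τ₁(H)` -/
theorem t_not_tau1 (b : BadP M E E₁ E₃ R H P p r) (hG : IsMinSimpleOddOrder G)
    (hYP : sigmaCore M ⊓ H ≤ Subgroup.centralizer (P : Set G)) {X : Subgroup G}
    (hXY : X ≤ sigmaCore M ⊓ H) {t : ℕ} (ht : t.Prime) (hXc : Nat.card X = t) : t ∉ tau1 H := by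
  intro htτ
  haveI : Fact t.Prime := ⟨ht⟩
  have htσ := b.t_sigma hG hXY ht hXc
  have hXH : X ≤ H := hXY.trans inf_le_right
  have hXM : X ≤ M := (hXY.trans inf_le_left).trans (sigmaCore_le M)
  have hXp : IsPGroup t ↥X := isPGroup_of_card_eq hXc
  have hX1 : X ≠ ⊥ := ne_bot_of_card_prime (hXc ▸ ht)
  have hcomm : ⁅sigmaCore H ⊓ M, H ⊓ M⁆ ≠ ⊥ := by
    intro h0
    apply b.hnot
    rw [← Subgroup.commutator_eq_bot_iff_le_centralizer, eq_bot_iff, ← h0]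
    exact Subgroup.commutator_mono (le_inf (b.hRHσ hG) b.hRM) (le_inf (b.hPH hG) b.hPM)
  have hid : IsIdealPrime t G :=
    (lemma_13_1abc hG b.g.hH b.g.hM (nonconj_symm (b.hnc hG)) (p := t)
      (hXc ▸ Subgroup.card_dvd_of_le hXH) (b.t_not_sigma hG hXY ht hXc)
      (hXc ▸ Subgroup.card_dvd_of_le hXM) (fun h => h.2.1 htσ) hcomm).2.2 htτ
  have htα : t ∈ alpha M := mem_alpha_of_ideal b.g.hM htσ hid
  have hXα : X ≤ alphaCore M :=
    le_of_not_dvd_relIndex (alphaCore_le M) (le_normalizer_piCoreOf (alpha M) M)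
      ((theorem_10_2 hG b.g.hM).1.2.2 t ht htα) hXM hXp
  have hrα : r ∉ alpha M := fun h => b.hrτ.2.1 (alpha_subset_sigma hG b.g.hM h)
  have h0 := lemma_12_16' hG b.g.hM b.hpτ b.hPM b.hPc b.hRM b.hr b.hRr hrα b.hpr (b.hPR hG) b.hPnR
    b.g.hH (b.hHM hG) ((inf_le_right.trans (Subgroup.centralizer_le_normalizer _)).trans b.g.hNH)
  apply hX1
  rw [eq_bot_iff, ← h0]
  refine le_inf hXα ?_
  rw [Subgroup.le_centralizer_iff]
  refine sup_le ?_ ?_
  · rw [← Subgroup.le_centralizer_iff]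
    exact (hXY.trans (b.hY hG).le).trans inf_le_right
  · rw [← Subgroup.le_centralizer_iff]
    exact hXY.trans hYP

/-- **the case `M_σ ∩ H ≤ C(P)` is impossible** -/
theorem case_i (b : BadP M E E₁ E₃ R H P p r) (hG : IsMinSimpleOddOrder G)
    (hYP : sigmaCore M ⊓ H ≤ Subgroup.centralizer (P : Set G)) : False := by
  classical
  haveI : Fact p.Prime := ⟨b.hp⟩
  set Y := sigmaCore M ⊓ H with hYdef
  have hYH : Y ≤ H := inf_le_right
  have hYM : Y ≤ M := inf_le_left.trans (sigmaCore_le M)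
  -- the prime divisors of `|Y|` lie in `τ₃(H)`
  have hτ3 : ∀ q : ℕ, q.Prime → q ∣ Nat.card Y → q ∈ tau3 H := by
    intro q hq hqd
    obtain ⟨X, hXY, hXc⟩ := exists_card_eq_of_dvd hq hqd
    rcases tau_cases hG b.g.hH hq (hqd.trans (Subgroup.card_dvd_of_le hYH))
      (b.t_not_sigma hG hXY hq hXc) with h | h | h
    · exact absurd h (b.t_not_tau1 hG hYP hXY hq hXc)
    · exact absurd h (b.t_not_tau2 hG hXY hq hXc)
    · exact h
  obtain ⟨t, X, ht, hXY, hXc⟩ := exists_prime_card_le (b.hYne hG)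
  haveI : Fact t.Prime := ⟨ht⟩
  have hXM : X ≤ M := hXY.trans hYM
  have hXp : IsPGroup t ↥X := isPGroup_of_card_eq hXc
  have hX1 : X ≠ ⊥ := ne_bot_of_card_prime (hXc ▸ ht)
  have hXtop : X ≠ ⊤ := fun h => b.g.hM.1 (eq_top_iff.mpr (h ▸ hXM))
  -- `M` is the only maximal subgroup containing `C_G(X)`
  obtain ⟨-, hu⟩ := lemma_13_6_of_le hG b.g.hM b.hpτ b.hPM b.hPp b.hP1
    (hXY.trans inf_le_left) (hXY.trans hYP) hXc
  have hNX : Subgroup.normalizer (X : Set G) ≤ M := normalizer_le_of_unique hG hX1 hXtop hu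
  -- a complement `E_H` and its Hall `τ₃(H)`-subgroup containing `Y`
  have hcop : (Nat.card Y).Coprime (Nat.card (sigmaCore H)) := by
    apply Nat.coprime_of_dvd
    intro q hq h1 h2
    exact (hτ3 q hq h1).2.1 ((sigmaCore_hall hG b.g.hH).1.2.1 q hq h2)
  obtain ⟨EH, hEH, hYEH⟩ := exists_complIn_ge hG b.g.hH hYH hcop
  have hsolv : Group.IsSolvable ↥EH :=
    solvable_of_ne_top hG (ne_top_of_le_ne_top b.g.hH.1 hEH.1)
  obtain ⟨F₃, hF₃, hYF₃⟩ := exists_piHallOf_ge hsolv (tau3 H) hYEH hτ3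
  obtain ⟨hF₃c, -, hEHn⟩ := (Cfsg.Agent.S1415.result hG H b.g.hH EH hEH).2.2 F₃ hF₃
  have hXF₃ : X ≤ F₃ := hXY.trans hYF₃
  have hEHX : EH ≤ Subgroup.normalizer (X : Set G) :=
    hEHn.trans (normalizer_le_normalizer_of_cyclic hF₃c hXF₃)
  have hEHD : EH ≤ M ⊓ H := le_inf (hEHX.trans hNX) hEH.1
  -- `M ∩ H` centralizes `X`
  have hYX : Y ≤ Subgroup.centralizer (X : Set G) :=
    (hYF₃.trans (le_centralizer_self_of_isCyclic hF₃c)).trans (Subgroup.centralizer_le hXF₃)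
  have hEX : E ≤ Subgroup.centralizer (X : Set G) := by
    rw [← b.hsup hG]
    refine sup_le ?_ ?_
    · exact (Subgroup.le_centralizer_iff.mp (b.hYE₁ hG hYP)).trans (Subgroup.centralizer_le hXY)
    · exact (Subgroup.le_centralizer_iff.mp (b.hYE₃ hG)).trans (Subgroup.centralizer_le hXY)
  have hDX : M ⊓ H ≤ Subgroup.centralizer (X : Set G) :=
    (inf_le_sup_compl b.g.hE (b.hEH hG)).trans (sup_le hYX hEX)
  exact not_le_centralizer_of_tau3 hG b.g.hH hEH hF₃ hXF₃ ht hXc (hEHD.trans hDX)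

end BadP

end Cfsg.Agent.Lib.Helper4.BG20
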