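import Mathlib
import Cfsg.Agent.Lib.Helper4.BG20d
import Cfsg.Agent.Lib.Helper5.BG138c

set_option autoImplicit false
set_option linter.style.haveILetI false
set_option linter.unusedSectionVars false
set_option maxHeartbeats 1600000

/-! Bender–Glauberman Lemmas 13.10–13.11: a good triple `(M, R, H)` and a subgroup `P ≤ E₁` of prime
order not centralizing `R`: the case `M_σ ∩ H ≰ C(P)`. -/

namespace Cfsg.Agent.Lib.Helper4.BG20

open Cfsg Cfsg.Agent.Lib.Lead Cfsg.Agent.Lib.Lead.BG10 Cfsg.Agent.Lib.Helper7 Cfsg.Agent.Lib.Helper4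
open Cfsg.Agent.Lib.Helper4.BG76 Cfsg.Agent.Lib.Helper4.BG8 Cfsg.Agent.Lib.Helper4.BG9
open Cfsg.Agent.Lib.Helper4.BG7 Cfsg.Agent.Lib.Helper4.BG12 Cfsg.Agent.Lib.Helper4.BGConj
open Cfsg.Agent.Lib.Helper4.BG13 Cfsg.Agent.Lib.Lead.BG95 Cfsg.Agent.Lib.Lead.BG12q
open Cfsg.Agent.Lib.Lead.BG11 Cfsg.Agent.Lib.Lead.BG13q Cfsg.Agent.Lib.Helper4.BG18
open Cfsg.Agent.Lib.Helper4.BG14 Cfsg.Agent.Lib.Helper2.BG13x Cfsg.Agent.Lib.Helper5.BG139
open Cfsg.Agent.Lib.Helper4.BG19 Cfsg.Agent.Lib.Helper5.BG144 Cfsg.Agent.Lib.Helper2.BG14y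
open Cfsg.Agent.Lib.Helper5.BG138
open scoped commutatorElement

universe u

variable {G : Type u} [Group G] [Finite G]

/-- a Sylow `p`-subgroup of a complement `E`, `p ∉ σ(M)`, is a Sylow `p`-subgroup of `M` -/
theorem sylIn_of_sylIn_compl (hG : IsMinSimpleOddOrder G) {M E : Subgroup G} (hM : IsCoatom M)
    (hE : IsComplIn E (sigmaCore M) M) {p : ℕ} [hp : Fact p.Prime] (hpσ : p ∉ sigma M)
    {T : Subgroup G} (hT : SylIn p E T) : SylIn p M T := by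
  refine ⟨hT.1.trans hE.1, hT.2.1, ?_⟩
  rw [← Subgroup.relIndex_mul_relIndex T E M hT.1 hE.1]
  intro hd
  rcases (Nat.Prime.dvd_mul hp.out).mp hd with h | h
  · exact hT.2.2 h
  · have h1 : Nat.card E * E.relIndex M = Nat.card M := by
      rw [← Subgroup.relIndex_bot_left, ← Subgroup.relIndex_bot_left (H := M),
        Subgroup.relIndex_mul_relIndex ⊥ E M bot_le hE.1]
    rw [Cfsg.Agent.Lib.Helper2.BG12.card_compl_mul_card_sigmaCore hE] at h1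
    have h2 : E.relIndex M = Nat.card (sigmaCore M) :=
      Nat.eq_of_mul_eq_mul_left Nat.card_pos h1
    rw [h2] at h
    exact hpσ ((sigmaCore_hall hG hM).1.2.1 p hp.out h)

namespace BadP

variable {M E E₁ E₃ R H P : Subgroup G} {p r : ℕ}

/-- in the case `M_σ ∩ H ≰ C(P)`: `p ∈ τ₁(H)` -/
theorem hpτH (b : BadP M E E₁ E₃ R H P p r) (hG : IsMinSimpleOddOrder G)
    (hYP : ¬ sigmaCore M ⊓ H ≤ Subgroup.centralizer (P : Set G)) : p ∈ tau1 H := by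
  by_contra hn
  apply hYP
  apply (b.cor hG).2.2.2.1 P (le_inf b.hPM (b.hPH hG))
  intro q hq hqd
  rw [b.hPc, Nat.prime_dvd_prime_iff_eq hq b.hp] at hqd
  rw [hqd]
  exact ⟨b.hpτ.2.1, hn⟩

/-- the Sylow `r`-subgroup `R₀` of `E₃` -/
theorem exists_R₀ (b : BadP M E E₁ E₃ R H P p r) (hG : IsMinSimpleOddOrder G) :
    ∃ R₀ : Subgroup G, SylIn r (M ⊓ H) R₀ ∧ Subgroup.normalizer (R₀ : Set G) ≤ H ∧
      P ≤ Subgroup.normalizer (R₀ : Set G) ∧ R₀ ⊓ Subgroup.centralizer (P : Set G) = ⊥ := by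
  haveI : Fact r.Prime := ⟨b.hr⟩
  haveI : Fact p.Prime := ⟨b.hp⟩
  obtain ⟨R₀, hRR₀, hR₀⟩ := exists_sylIn_ge b.g.hR b.hRp
  have hR₀E : SylIn r E R₀ := by
    refine ⟨hR₀.1.trans b.g.hE₃.1, hR₀.2.1, ?_⟩
    rw [← Subgroup.relIndex_mul_relIndex R₀ E₃ E hR₀.1 b.g.hE₃.1]
    intro hd
    rcases (Nat.Prime.dvd_mul b.hr).mp hd with h | h
    · exact hR₀.2.2 h
    · exact b.g.hE₃.2.2 r b.hr b.hrτ h
  have hR₀M : SylIn r M R₀ := sylIn_of_sylIn_compl hG b.g.hM b.g.hE b.hrτ.2.1 hR₀E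
  have hR₀c : IsCyclic ↥R₀ := isCyclic_of_le_cyclic hR₀.1 (b.hE₃c hG)
  have hER₀ : E ≤ Subgroup.normalizer (R₀ : Set G) :=
    (b.hEn₃ hG).trans (normalizer_le_normalizer_of_cyclic (b.hE₃c hG) hR₀.1)
  have hPR₀ : P ≤ Subgroup.normalizer (R₀ : Set G) := b.hPE.trans hER₀
  refine ⟨R₀, hR₀M.mono (le_inf hR₀M.1 (hR₀E.1.trans (b.hEH hG))) inf_le_left,
    (normalizer_le_normalizer_of_cyclic hR₀c hRR₀).trans b.g.hNH, hPR₀, ?_⟩
  apply inf_centralizer_eq_bot_of_cyclic hR₀.2.1 hR₀c hPR₀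
  · rw [b.hPc]
    obtain ⟨k, hk⟩ := IsPGroup.iff_card.mp hR₀.2.1
    rw [hk]
    exact Nat.Coprime.pow_right k ((Nat.coprime_primes b.hp b.hr).mpr b.hpr)
  · intro h
    exact b.hnot (hRR₀.trans h)

/-- in the case `M_σ ∩ H ≰ C(P)`: a `P`-invariant cyclic Sylow subgroup `Y_t` of `M_σ ∩ H` on which
`P` acts regularly, with `N_G(Y_t) ≤ M` -/
theorem exists_Yt (b : BadP M E E₁ E₃ R H P p r) (hG : IsMinSimpleOddOrder G)
    (hYP : ¬ sigmaCore M ⊓ H ≤ Subgroup.centralizer (P : Set G)) :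
    ∃ (t : ℕ) (Yt : Subgroup G), t ∈ sigma M ∧ SylIn t (H ⊓ M) Yt ∧
      Subgroup.normalizer (Yt : Set G) ≤ M ∧
      P ≤ Subgroup.normalizer (Yt : Set G) ∧ Yt ⊓ Subgroup.centralizer (P : Set G) = ⊥ := by
  classical
  haveI : Fact p.Prime := ⟨b.hp⟩
  set Y := sigmaCore M ⊓ H with hYdef
  have hYH : Y ≤ H := inf_le_right
  have hYM : Y ≤ M := inf_le_left.trans (sigmaCore_le M)
  have hPY : P ≤ Subgroup.normalizer (Y : Set G) :=
    le_normalizer_inf' (b.hPM.trans (le_normalizer_sigmaCore M))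
      ((b.hPH hG).trans Subgroup.le_normalizer)
  have hcop : (Nat.card P).Coprime (Nat.card Y) := by
    rw [b.hPc, Nat.Prime.coprime_iff_not_dvd b.hp]
    intro hd
    exact b.hpτ.2.1 ((sigmaCore_hall hG b.g.hM).1.2.1 p b.hp
      (hd.trans (Subgroup.card_dvd_of_le inf_le_left)))
  have hPsolv : Group.IsSolvable ↥P :=
    solvable_of_ne_top hG (ne_top_of_le_ne_top b.g.hM.1 b.hPM)
  obtain ⟨t, Yt, ht, hYt, hPYt, hnot⟩ :=
    exists_invariant_sylow_not_centralized hPY hcop (Or.inl hPsolv) hYP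
  haveI : Fact t.Prime := ⟨ht⟩
  have hYt1 : Yt ≠ ⊥ := by
    rintro rfl
    exact hnot bot_le
  obtain ⟨X, hXYt, hXc⟩ := exists_card_eq_of_dvd ht (dvd_card_of_ne_bot hYt.2.1 hYt1)
  have hXY : X ≤ Y := hXYt.trans hYt.1
  have htσ : t ∈ sigma M := b.t_sigma hG hXY ht hXc
  have hXM : X ≤ M := hXY.trans hYM
  have hX1 : X ≠ ⊥ := ne_bot_of_card_prime (hXc ▸ ht)
  have hXtop : X ≠ ⊤ := fun h => b.g.hM.1 (eq_top_iff.mpr (h ▸ hXM))
  have ht2 : t ≠ 2 := prime_ne_two hG hYt.2.1 hYt1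
  -- `Y_t` is cyclic
  have hr1 : PRankLE t 1 ↥H := by
    rcases tau_cases hG b.g.hH ht ((hXc ▸ Subgroup.card_dvd_of_le (hXY.trans hYH)))
      (b.t_not_sigma hG hXY ht hXc) with h | h | h
    · exact h.2.2.2.2
    · exact absurd h (b.t_not_tau2 hG hXY ht hXc)
    · exact h.2.2.2
  have hYtc : IsCyclic ↥Yt := isCyclic_of_pRankLE_one ht2 hr1 (hYt.1.trans hYH) hYt.2.1
  have hcop' : (Nat.card P).Coprime (Nat.card Yt) :=
    Nat.Coprime.coprime_dvd_right (Subgroup.card_dvd_of_le hYt.1) hcop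
  have hreg : Yt ⊓ Subgroup.centralizer (P : Set G) = ⊥ :=
    inf_centralizer_eq_bot_of_cyclic hYt.2.1 hYtc hPYt hcop' hnot
  have hYtD : SylIn t (H ⊓ M) Yt := by
    rw [inf_comm]
    exact sylIn_inf_of_sylIn_sigmaCore_inf hG b.g.hM htσ hYt
  refine ⟨t, Yt, htσ, hYtD, ?_, hPYt, hreg⟩
  by_cases hβ : t ∈ beta M
  · obtain ⟨S⟩ : Nonempty (Sylow t ↥(sigmaCore M)) := inferInstance
    obtain ⟨⟨-, hu⟩, -, -⟩ := Cfsg.Agent.S1423.result hG M b.g.hM t htσ X hXM hXc S (Or.inl hβ)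
    exact (normalizer_le_normalizer_of_cyclic hYtc hXYt).trans
      (normalizer_le_of_unique hG hX1 hXtop hu)
  · obtain ⟨T, hT, hTE₃⟩ := exists_sylIn_le_centralizer_tau3 hG b.g.hM b.g.hE b.g.hE₃ htσ hβ
    have hTY : T ≤ Y := by
      rw [hYdef, b.hY hG]
      exact le_inf hT.1 (hTE₃.trans (Subgroup.centralizer_le b.g.hR))
    have hσM : ¬ t ∣ (sigmaCore M).relIndex M := (sigmaCore_hall hG b.g.hM).1.2.2 t ht htσ
    have hTM : ¬ t ∣ T.relIndex M := by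
      rw [← Subgroup.relIndex_mul_relIndex T (sigmaCore M) M hT.1 (sigmaCore_le M)]
      intro hd
      rcases (Nat.Prime.dvd_mul ht).mp hd with h | h
      · exact hT.2.2 h
      · exact hσM h
    have hYM' : ¬ t ∣ Y.relIndex M := by
      intro hd
      apply hTM
      rw [← Subgroup.relIndex_mul_relIndex T Y M hTY hYM]
      exact Dvd.dvd.mul_left hd _
    have hS : SylIn t M Yt := by
      refine ⟨hYt.1.trans hYM, hYt.2.1, ?_⟩
      rw [← Subgroup.relIndex_mul_relIndex Yt Y M hYt.1 hYM]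
      intro hd
      rcases (Nat.Prime.dvd_mul ht).mp hd with h | h
      · exact hYt.2.2 h
      · exact hYM' h
    exact (sigmaData_of_sylIn b.g.hM htσ hS).hN

/-- **the case `M_σ ∩ H ≰ C(P)` is impossible** -/
theorem case_ii (b : BadP M E E₁ E₃ R H P p r) (hG : IsMinSimpleOddOrder G)
    (hYP : ¬ sigmaCore M ⊓ H ≤ Subgroup.centralizer (P : Set G)) : False := by
  obtain ⟨R₀, hR₀, hNR₀, hPR₀, hregR⟩ := b.exists_R₀ hG
  obtain ⟨t, Yt, htσ, hYt, hNYt, hPYt, hregY⟩ := b.exists_Yt hG hYP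
  have h1 : Half M H R₀ P r p :=
    { hM := b.g.hM
      hN := b.g.hH
      hnc := b.hnc hG
      hQ := hR₀
      hNQ := hNR₀
      hqN := b.hRr ▸ b.g.hσ
      hP := b.hPc
      hPD := le_inf b.hPM (b.hPH hG)
      hpM := b.hpτ
      hPQ := hPR₀
      hfpf := hregR }
  have h2 : Half H M Yt P t p :=
    { hM := b.g.hH
      hN := b.g.hM
      hnc := nonconj_symm (b.hnc hG)
      hQ := hYt
      hNQ := hNYt
      hqN := htσ
      hP := b.hPc
      hPD := le_inf (b.hPH hG) b.hPM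
      hpM := b.hpτH hG hYP
      hPQ := hPYt
      hfpf := hregY }
  exact lemma_13_8 hG h1 h2

end BadP

/-- **(P1g)**: in a good triple `(M, R, H)` every subgroup of prime order of `E₁` centralizes `R` -/
theorem tp1 (hG : IsMinSimpleOddOrder G) : TP1 G := by
  intro M E E₁ E₃ R H g P hPE₁ hPc
  by_contra hnot
  have b : BadP M E E₁ E₃ R H P (Nat.card P) (Nat.card R) :=
    ⟨g, hPE₁, rfl, hPc, rfl, hnot⟩
  by_cases hYP : sigmaCore M ⊓ H ≤ Subgroup.centralizer (P : Set G)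
  · exact b.case_i hG hYP
  · exact b.case_ii hG hYP

end Cfsg.Agent.Lib.Helper4.BG20
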