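import Mathlib
import Cfsg.Agent.S1430
import Cfsg.Agent.S1431
import Cfsg.Agent.Lib.Helper2.BG14v2

set_option autoImplicit false
set_option linter.style.haveILetI false
set_option linter.unusedSectionVars false
set_option maxHeartbeats 1600000

/-! Bender–Glauberman Theorem 14.7: the set `Ẑ = K K* ∖ (K ∪ K*)` is a TI-subset of `G` with
normalizer `K K*` (no counting needed). -/

namespace Cfsg.Agent.Lib.Helper4.BG21

open Cfsg
open scoped Pointwise

universe u

variable {G : Type u} [Group G] [Finite G]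

/-- powers of a product of commuting elements, killing the first factor -/
theorem mul_pow_card_left {A : Subgroup G} {a b : G} (ha : a ∈ A) (hab : a * b = b * a) :
    (a * b) ^ Nat.card A = b ^ Nat.card A := by
  have hc : Commute a b := hab
  rw [hc.mul_pow]
  have h1 : (⟨a, ha⟩ : ↥A) ^ Nat.card A = 1 := pow_card_eq_one'
  have h2 : a ^ Nat.card A = 1 := by
    have := congrArg Subtype.val h1
    rw [Subgroup.coe_pow, Subgroup.coe_one] at this
    exact this
  rw [h2, one_mul]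

/-- powers of a product of commuting elements, killing the second factor -/
theorem mul_pow_card_right {B : Subgroup G} {a b : G} (hb : b ∈ B) (hab : a * b = b * a) :
    (a * b) ^ Nat.card B = a ^ Nat.card B := by
  have hc : Commute a b := hab
  rw [hc.mul_pow]
  have h1 : (⟨b, hb⟩ : ↥B) ^ Nat.card B = 1 := pow_card_eq_one'
  have h2 : b ^ Nat.card B = 1 := by
    have := congrArg Subtype.val h1
    rw [Subgroup.coe_pow, Subgroup.coe_one] at this
    exact this
  rw [h2, mul_one]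

/-- a non-identity element of `B` raised to a power coprime to `|B|` is not the identity -/
theorem pow_ne_one_of_coprime {B : Subgroup G} {b : G} (hb : b ∈ B) (hb1 : b ≠ 1) {n : ℕ}
    (hn : n.Coprime (Nat.card B)) : b ^ n ≠ 1 := by
  intro h
  have h1 : orderOf b ∣ n := orderOf_dvd_of_pow_eq_one h
  have h2 : orderOf b ∣ Nat.card B := by
    have : orderOf (⟨b, hb⟩ : ↥B) ∣ Nat.card B := orderOf_dvd_natCard _
    rwa [Subgroup.orderOf_mk] at this
  have h3 : orderOf b ∣ 1 := by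
    have := Nat.dvd_gcd h1 h2
    rwa [hn] at this
  exact hb1 (orderOf_eq_one_iff.mp (Nat.dvd_one.mp h3))

/-- the elements of `A ⊔ B` for commuting subgroups `A`, `B` -/
theorem exists_mul_of_mem_sup {A B : Subgroup G} (hAB : A ≤ Subgroup.centralizer (B : Set G))
    {z : G} (hz : z ∈ A ⊔ B) : ∃ a ∈ A, ∃ b ∈ B, z = a * b ∧ a * b = b * a := by
  have h1 := Subgroup.coe_mul_of_left_le_normalizer_right A B
    (hAB.trans (Subgroup.centralizer_le_normalizer _))
  have h2 : z ∈ ((A : Set G) * (B : Set G)) := by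
    rw [← h1]
    exact hz
  obtain ⟨a, ha, b, hb, rfl⟩ := h2
  exact ⟨a, ha, b, hb, rfl, (Subgroup.mem_centralizer_iff.mp (hAB ha) b hb).symm⟩

/-- **the key fact on `Ẑ`**: if `z` and `g z g⁻¹` both lie in `Ẑ` then `g ∈ K K*` -/
theorem mem_sup_of_conj_mem_zhat (hG : IsMinSimpleOddOrder G) {M K : Subgroup G} (hM : IsCoatom M)
    (hK : IsPiHallOf (kappa M) K M) (hK1 : K ≠ ⊥) {z g : G}
    (hz : z ∈ ((↑(K ⊔ (sigmaCore M ⊓ Subgroup.centralizer (K : Set G))) : Set G) \
      ((K : Set G) ∪ ↑(sigmaCore M ⊓ Subgroup.centralizer (K : Set G)))))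
    (hgz : g * z * g⁻¹ ∈ ((↑(K ⊔ (sigmaCore M ⊓ Subgroup.centralizer (K : Set G))) : Set G) \
      ((K : Set G) ∪ ↑(sigmaCore M ⊓ Subgroup.centralizer (K : Set G))))) :
    g ∈ K ⊔ (sigmaCore M ⊓ Subgroup.centralizer (K : Set G)) := by
  obtain ⟨h1, h2, -, -⟩ := Cfsg.Agent.S1431.result hG M hM K hK hK1
  set Ks := sigmaCore M ⊓ Subgroup.centralizer (K : Set G) with hKs
  have hKC : K ≤ Subgroup.centralizer (Ks : Set G) :=
    Subgroup.le_centralizer_iff.mp inf_le_right
  have hKsM : Ks ≤ M := inf_le_left.trans (Subgroup.map_subtype_le _)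
  have hcop : (Nat.card K).Coprime (Nat.card Ks) :=
    Nat.Coprime.coprime_dvd_right (Subgroup.card_dvd_of_le inf_le_left)
      (Cfsg.Agent.Lib.Helper2.BG14z.coprime_card_kappa_hall hG hM hK)
  obtain ⟨k, hk, y, hy, rfl, hky⟩ := exists_mul_of_mem_sup hKC hz.1
  obtain ⟨k', hk', y', hy', hz', hky'⟩ := exists_mul_of_mem_sup hKC hgz.1
  have hy1 : y ≠ 1 := by
    rintro rfl
    apply hz.2
    left
    simpa using hk
  have hk1 : k ≠ 1 := by
    rintro rfl
    apply hz.2
    right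
    simpa using hy
  -- `g ∈ M`
  have hgM : g ∈ M := by
    by_contra hgM
    have h3 := h1 g hgM
    have e1 : g * y ^ Nat.card K * g⁻¹ = y' ^ Nat.card K := by
      rw [← mul_pow_card_left hk hky, ← mul_pow_card_left hk' hky', ← hz']
      simp [conj_pow]
    have h4 : y' ^ Nat.card K ∈ Ks ⊓ M.map (MulAut.conj g).toMonoidHom := by
      refine ⟨Ks.pow_mem hy' _, ?_⟩
      rw [← e1]
      exact ⟨y ^ Nat.card K, M.pow_mem (hKsM hy) _, rfl⟩
    rw [h3, Subgroup.mem_bot] at h4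
    rw [h4] at e1
    have h5 : y ^ Nat.card K = 1 := by
      have : y ^ Nat.card K = g⁻¹ * (g * y ^ Nat.card K * g⁻¹) * g := by group
      rw [this, e1]
      group
    exact pow_ne_one_of_coprime hy hy1 hcop h5
  by_contra hgZ
  have h3 := h2 g hgM hgZ
  have e1 : g * k ^ Nat.card Ks * g⁻¹ = k' ^ Nat.card Ks := by
    rw [← mul_pow_card_right hy hky, ← mul_pow_card_right hy' hky', ← hz']
    simp [conj_pow]
  have h4 : k' ^ Nat.card Ks ∈ K ⊓ K.map (MulAut.conj g).toMonoidHom := by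
    refine ⟨K.pow_mem hk' _, ?_⟩
    rw [← e1]
    exact ⟨k ^ Nat.card Ks, K.pow_mem hk _, rfl⟩
  rw [h3, Subgroup.mem_bot] at h4
  rw [h4] at e1
  have h5 : k ^ Nat.card Ks = 1 := by
    have : k ^ Nat.card Ks = g⁻¹ * (g * k ^ Nat.card Ks * g⁻¹) * g := by group
    rw [this, e1]
    group
  exact pow_ne_one_of_coprime hk hk1 hcop.symm h5

/-- `Ẑ` is not empty -/
theorem zhat_nonempty (hG : IsMinSimpleOddOrder G) {M K : Subgroup G} (hM : IsCoatom M)
    (hK : IsPiHallOf (kappa M) K M) (hK1 : K ≠ ⊥) :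
    ∃ z : G, z ∈ ((↑(K ⊔ (sigmaCore M ⊓ Subgroup.centralizer (K : Set G))) : Set G) \
      ((K : Set G) ∪ ↑(sigmaCore M ⊓ Subgroup.centralizer (K : Set G)))) := by
  have hKs1 : sigmaCore M ⊓ Subgroup.centralizer (K : Set G) ≠ ⊥ :=
    (Cfsg.Agent.Lib.Helper2.BG14v.kdata' hG hM hK hK1).fix_ne
  set Ks := sigmaCore M ⊓ Subgroup.centralizer (K : Set G) with hKs
  have hcop : (Nat.card K).Coprime (Nat.card Ks) :=
    Nat.Coprime.coprime_dvd_right (Subgroup.card_dvd_of_le inf_le_left)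
      (Cfsg.Agent.Lib.Helper2.BG14z.coprime_card_kappa_hall hG hM hK)
  have hinf : K ⊓ Ks = ⊥ := Subgroup.inf_eq_bot_of_coprime hcop
  obtain ⟨k, hk, hk1⟩ : ∃ k ∈ K, k ≠ 1 := by
    by_contra hcon
    push Not at hcon
    exact hK1 ((Subgroup.eq_bot_iff_forall K).mpr hcon)
  obtain ⟨y, hy, hy1⟩ : ∃ y ∈ Ks, y ≠ 1 := by
    by_contra hcon
    push Not at hcon
    exact hKs1 ((Subgroup.eq_bot_iff_forall Ks).mpr hcon)
  refine ⟨k * y, Subgroup.mul_mem _ (Subgroup.mem_sup_left hk) (Subgroup.mem_sup_right hy), ?_⟩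
  rintro (h | h)
  · have h3 : y ∈ K := by
      have : y = k⁻¹ * (k * y) := by group
      rw [this]
      exact K.mul_mem (K.inv_mem hk) h
    have : y ∈ K ⊓ Ks := ⟨h3, hy⟩
    rw [hinf, Subgroup.mem_bot] at this
    exact hy1 this
  · have h3 : k ∈ Ks := by
      have : k = (k * y) * y⁻¹ := by group
      rw [this]
      exact Ks.mul_mem h (Ks.inv_mem hy)
    have : k ∈ K ⊓ Ks := ⟨hk, h3⟩
    rw [hinf, Subgroup.mem_bot] at this
    exact hk1 this

/-- **`Ẑ` is a TI-subset of `G` with normalizer `K K*`** -/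
theorem zhat_ti (hG : IsMinSimpleOddOrder G) {M K : Subgroup G} (hM : IsCoatom M)
    (hK : IsPiHallOf (kappa M) K M) (hK1 : K ≠ ⊥) :
    IsTISubset ((↑(K ⊔ (sigmaCore M ⊓ Subgroup.centralizer (K : Set G))) : Set G) \
      ((K : Set G) ∪ ↑(sigmaCore M ⊓ Subgroup.centralizer (K : Set G)))) ∧
    Subgroup.normalizer ((↑(K ⊔ (sigmaCore M ⊓ Subgroup.centralizer (K : Set G))) : Set G) \
      ((K : Set G) ∪ ↑(sigmaCore M ⊓ Subgroup.centralizer (K : Set G)))) =
      K ⊔ (sigmaCore M ⊓ Subgroup.centralizer (K : Set G)) := by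
  have key := fun z g => mem_sup_of_conj_mem_zhat hG hM hK hK1 (z := z) (g := g)
  obtain ⟨z₀, hz₀⟩ := zhat_nonempty hG hM hK hK1
  set Ks := sigmaCore M ⊓ Subgroup.centralizer (K : Set G) with hKs
  have hKC : K ≤ Subgroup.centralizer (Ks : Set G) :=
    Subgroup.le_centralizer_iff.mp inf_le_right
  have hZK : K ⊔ Ks ≤ Subgroup.normalizer (K : Set G) :=
    sup_le Subgroup.le_normalizer (inf_le_right.trans (Subgroup.centralizer_le_normalizer _))
  have hZKs : K ⊔ Ks ≤ Subgroup.normalizer (Ks : Set G) :=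
    sup_le (hKC.trans (Subgroup.centralizer_le_normalizer _)) Subgroup.le_normalizer
  have hnorm : Subgroup.normalizer ((↑(K ⊔ Ks) : Set G) \ ((K : Set G) ∪ ↑Ks)) = K ⊔ Ks := by
    apply le_antisymm
    · intro g hg
      exact key z₀ g hz₀ ((Subgroup.mem_set_normalizer_iff.mp hg z₀).mp hz₀)
    · intro g hg
      rw [Subgroup.mem_set_normalizer_iff]
      intro n
      have e1 : n ∈ K ⊔ Ks ↔ g * n * g⁻¹ ∈ K ⊔ Ks := by
        constructor
        · intro h
          exact Subgroup.mul_mem _ (Subgroup.mul_mem _ hg h) (Subgroup.inv_mem _ hg)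
        · intro h
          have : n = g⁻¹ * (g * n * g⁻¹) * g := by group
          rw [this]
          exact Subgroup.mul_mem _ (Subgroup.mul_mem _ (Subgroup.inv_mem _ hg) h) hg
      have e2 : n ∈ K ↔ g * n * g⁻¹ ∈ K := Subgroup.mem_normalizer_iff.mp (hZK hg) n
      have e3 : n ∈ Ks ↔ g * n * g⁻¹ ∈ Ks := Subgroup.mem_normalizer_iff.mp (hZKs hg) n
      simp only [Set.mem_diff, Set.mem_union, SetLike.mem_coe]
      rw [e1, e2, e3]
  refine ⟨?_, hnorm⟩
  intro g hg x hx hgx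
  exfalso
  apply hg
  rw [hnorm]
  exact key x g hx hgx

end Cfsg.Agent.Lib.Helper4.BG21
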