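import Mathlib
import Cfsg.Agent.Lib.Helper4.BG20e
import Cfsg.Agent.Lib.Helper2.BG14w3
import Cfsg.Agent.Lib.Helper2.BG14z9

set_option autoImplicit false

/-! Bender–Glauberman Lemmas 13.10–13.12 (the structure of a maximal subgroup whose Hall
`τ₃`-subgroup does not act regularly on `M_σ`), unconditionally. -/

namespace Cfsg.Agent.Lib.Helper4.BG20

open Cfsg

universe u

variable {G : Type u} [Group G] [Finite G]

/-- **B and G, Lemmas 13.10 and 13.11** -/
theorem tphantom (hG : IsMinSimpleOddOrder G) : Cfsg.Agent.Lib.Helper2.BG14z.TPhantom G :=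
  Cfsg.Agent.Lib.Helper2.BG14w.tphantom_of_tp1 hG (tp1 hG)

/-- **B and G, Lemma 13.12** -/
theorem tclaimR (hG : IsMinSimpleOddOrder G) : Cfsg.Agent.Lib.Helper2.BG14z.TClaimR G :=
  Cfsg.Agent.Lib.Helper2.BG14z.tclaimR_of_tphantom hG (tphantom hG)

end Cfsg.Agent.Lib.Helper4.BG20
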