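import Mathlib
import Cfsg.Agent.Lib.Helper4.BG21a
import Cfsg.Agent.Lib.Lead.BG14n3
import Cfsg.Agent.Lib.Helper5.BG139a

set_option autoImplicit false
set_option linter.style.haveILetI false
set_option linter.unusedSectionVars false
set_option maxHeartbeats 1600000

/-! Bender–Glauberman Theorem 14.7: the union of the `M`-conjugates of `Ẑ` is `A₀(M) ∖ A(M)`, a
TI-subset of `G`. -/

namespace Cfsg.Agent.Lib.Helper4.BG21

open Cfsg Cfsg.Agent.Lib.Helper7 Cfsg.Agent.Lib.Lead.BG14n Cfsg.Agent.Lib.Helper5.BG139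
open Cfsg.Agent.Lib.Lead.BG10 Cfsg.Agent.Lib.Helper4.BG8
open scoped Pointwise

universe u

variable {G : Type u} [Group G] [Finite G]

/-- `K ∩ U M_σ = 1` for a standard factorisation -/
theorem sd_inf_eq_bot (hG : IsMinSimpleOddOrder G) {M K U : Subgroup G} (hM : IsCoatom M)
    (h : IsSigmaDecomposition M K U) : K ⊓ (U ⊔ sigmaCore M) = ⊥ := by
  rw [eq_bot_iff]
  rintro k ⟨hk, hkH⟩
  rw [Subgroup.mem_bot]
  have h1 := Subgroup.coe_mul_of_left_le_normalizer_right U (sigmaCore M)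
    (h.compl.1.trans (le_normalizer_sigmaCore M))
  have h2 : k ∈ ((U : Set G) * (sigmaCore M : Set G)) := by
    rw [← h1]
    exact hkH
  obtain ⟨u, hu, s, hs, hus⟩ := h2
  have hu1 : u ∈ U ⊓ (K ⊔ sigmaCore M) := by
    refine ⟨hu, ?_⟩
    have : u = k * s⁻¹ := by rw [← hus]; group
    rw [this]
    exact Subgroup.mul_mem _ (Subgroup.mem_sup_left hk)
      (Subgroup.mem_sup_right ((sigmaCore M).inv_mem hs))
  rw [h.compl.2.2.1, Subgroup.mem_bot] at hu1
  have hks : k = s := by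
    have h3 : u * s = k := hus
    rw [← h3, hu1, one_mul]
  have hinf : K ⊓ sigmaCore M = ⊥ :=
    Subgroup.inf_eq_bot_of_coprime (Cfsg.Agent.Lib.Helper2.BG14z.coprime_card_kappa_hall hG hM h.hall)
  have : k ∈ K ⊓ sigmaCore M := ⟨hk, hks ▸ hs⟩
  rwa [hinf, Subgroup.mem_bot] at this

/-- the `M`-conjugates of the elements of `Ẑ` lie in `A₀(M) ∖ A(M)` -/
theorem conj_zhat_mem (hG : IsMinSimpleOddOrder G) {M K U : Subgroup G} (hM : IsCoatom M)
    (h : IsSigmaDecomposition M K U) (hK1 : K ≠ ⊥) {m z : G} (hm : m ∈ M)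
    (hz : z ∈ ((↑(K ⊔ (sigmaCore M ⊓ Subgroup.centralizer (K : Set G))) : Set G) \
      ((K : Set G) ∪ ↑(sigmaCore M ⊓ Subgroup.centralizer (K : Set G))))) :
    m * z * m⁻¹ ∈ sigmaA0 M K \ sigmaA M U := by
  have hK := h.hall
  set Ks := sigmaCore M ⊓ Subgroup.centralizer (K : Set G) with hKs
  have hKC : K ≤ Subgroup.centralizer (Ks : Set G) :=
    Subgroup.le_centralizer_iff.mp inf_le_right
  have hKsσ : Ks ≤ sigmaCore M := inf_le_left
  have hKsM : Ks ≤ M := hKsσ.trans (sigmaCore_le M)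
  have hcop : (Nat.card K).Coprime (Nat.card Ks) :=
    Nat.Coprime.coprime_dvd_right (Subgroup.card_dvd_of_le inf_le_left)
      (Cfsg.Agent.Lib.Helper2.BG14z.coprime_card_kappa_hall hG hM hK)
  obtain ⟨k, hk, y, hy, rfl, hky⟩ := exists_mul_of_mem_sup hKC hz.1
  have hy1 : y ≠ 1 := by
    rintro rfl
    apply hz.2
    left
    simpa using hk
  have hk1 : k ≠ 1 := by
    rintro rfl
    apply hz.2
    right
    simpa using hy
  have hzM : k * y ∈ M := M.mul_mem (hK.1 hk) (hKsM hy)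
  have haM : m * (k * y) * m⁻¹ ∈ M := M.mul_mem (M.mul_mem hm hzM) (M.inv_mem hm)
  have hHat : m * (k * y) * m⁻¹ ∈ sigmaHat M := by
    refine ⟨haM, m * y * m⁻¹, ?_, ?_, ?_⟩
    · exact (Subgroup.mem_normalizer_iff.mp (le_normalizer_sigmaCore M hm) y).mp (hKsσ hy)
    · intro h0
      apply hy1
      have : y = m⁻¹ * (m * y * m⁻¹) * m := by group
      rw [this, h0]
      group
    · have e1 : m * (k * y) * m⁻¹ * (m * y * m⁻¹) = m * (k * y * y) * m⁻¹ := by group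
      have e2 : m * y * m⁻¹ * (m * (k * y) * m⁻¹) = m * (y * k * y) * m⁻¹ := by group
      rw [e1, e2, ← hky]
  refine ⟨⟨hHat, ?_⟩, ?_⟩
  · rintro ⟨k', hk', -, m', -, heq⟩
    -- the `|K|`-th power
    have e1 : (m * (k * y) * m⁻¹) ^ Nat.card K = m * y ^ Nat.card K * m⁻¹ := by
      rw [conj_pow, mul_pow_card_left hk hky]
    have e2 : (m' * k' * m'⁻¹) ^ Nat.card K = 1 := by
      rw [conj_pow]
      have h1 : (⟨k', hk'⟩ : ↥K) ^ Nat.card K = 1 := pow_card_eq_one'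
      have h2 : k' ^ Nat.card K = 1 := by
        have := congrArg Subtype.val h1
        rw [Subgroup.coe_pow, Subgroup.coe_one] at this
        exact this
      rw [h2]
      group
    rw [heq, e2] at e1
    have h5 : y ^ Nat.card K = 1 := by
      have : y ^ Nat.card K = m⁻¹ * (m * y ^ Nat.card K * m⁻¹) * m := by group
      rw [this, ← e1]
      group
    exact pow_ne_one_of_coprime hy hy1 hcop h5
  · rintro ⟨-, haH⟩
    have hn := sd_le_normalizer h
    have hzH : k * y ∈ U ⊔ sigmaCore M := by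
      have h1 := (Subgroup.mem_normalizer_iff.mp (hn (M.inv_mem hm)) (m * (k * y) * m⁻¹)).mp haH
      have e : m⁻¹ * (m * (k * y) * m⁻¹) * m⁻¹⁻¹ = k * y := by group
      rwa [e] at h1
    have hkH : k ∈ U ⊔ sigmaCore M := by
      have : k = (k * y) * y⁻¹ := by group
      rw [this]
      exact Subgroup.mul_mem _ hzH (Subgroup.inv_mem _ (Subgroup.mem_sup_right (hKsσ hy)))
    have : k ∈ K ⊓ (U ⊔ sigmaCore M) := ⟨hk, hkH⟩
    rw [sd_inf_eq_bot hG hM h, Subgroup.mem_bot] at this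
    exact hk1 this

/-- the elements of `A₀(M) ∖ A(M)` are `M`-conjugates of elements of `Ẑ` -/
theorem exists_conj_zhat (hG : IsMinSimpleOddOrder G) {M K U : Subgroup G} (hM : IsCoatom M)
    (h : IsSigmaDecomposition M K U) (hK1 : K ≠ ⊥) {a : G}
    (ha : a ∈ sigmaA0 M K \ sigmaA M U) :
    ∃ m ∈ M, ∃ z ∈ ((↑(K ⊔ (sigmaCore M ⊓ Subgroup.centralizer (K : Set G))) : Set G) \
      ((K : Set G) ∪ ↑(sigmaCore M ⊓ Subgroup.centralizer (K : Set G)))), a = m * z * m⁻¹ := by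
  have hK := h.hall
  obtain ⟨-, -, h3⟩ := Cfsg.Agent.S1430.result hG M hM K hK hK1
  set Ks := sigmaCore M ⊓ Subgroup.centralizer (K : Set G) with hKs
  have hKsσ : Ks ≤ sigmaCore M := inf_le_left
  have haM : a ∈ M := ha.1.1.1
  have haH : a ∉ U ⊔ sigmaCore M := fun h' => ha.2 ⟨ha.1.1, h'⟩
  have hn := sd_le_normalizer h
  have ha1 : a ≠ 1 := by
    rintro rfl
    exact haH (Subgroup.one_mem _)
  -- a prime of `κ(M)` dividing the order of `a`
  obtain ⟨p, hp, hpd, hpκ⟩ : ∃ p : ℕ, p.Prime ∧ p ∣ orderOf a ∧ p ∈ kappa M := by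
    by_contra hcon
    push Not at hcon
    exact haH (sd_mem_of_not_kappa h haM (fun p hp hpd => hcon p hp hpd))
  set b := a ^ (orderOf a / p) with hb
  have hbo : orderOf b = p := orderOf_pow_orderOf_div (orderOf_pos a).ne' hpd
  have hXc : Nat.card ↥(Subgroup.zpowers b) = p := by rw [Nat.card_zpowers, hbo]
  have hbM : b ∈ M := M.pow_mem haM _
  have hXM : Subgroup.zpowers b ≤ M := Subgroup.zpowers_le.mpr hbM
  have hsolv : Group.IsSolvable ↥M := solvable_of_ne_top hG hM.1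
  obtain ⟨m, hm, hmX⟩ := exists_cj_le_hall hsolv (kappa M) hK hXM (by
    intro q hq hqd
    rw [hXc, Nat.prime_dvd_prime_iff_eq hq hp] at hqd
    rw [hqd]
    exact hpκ)
  have hX'c : (Nat.card ↥(cj m (Subgroup.zpowers b))).Prime := by
    have : Nat.card ↥(cj m (Subgroup.zpowers b)) = Nat.card ↥(Subgroup.zpowers b) :=
      Subgroup.card_map_of_injective (MulAut.conj m).injective
    rw [this, hXc]
    exact hp
  have ha'M : m * a * m⁻¹ ∈ M := M.mul_mem (M.mul_mem hm haM) (M.inv_mem hm)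
  have ha'C : m * a * m⁻¹ ∈ Subgroup.centralizer ((cj m (Subgroup.zpowers b) : Subgroup G) : Set G) := by
    rw [Subgroup.mem_centralizer_iff]
    rintro _ ⟨x, hx, rfl⟩
    obtain ⟨j, rfl⟩ := Subgroup.mem_zpowers_iff.mp hx
    have hc : Commute (b ^ j) a := by
      rw [hb]
      exact ((Commute.refl a).pow_left _).zpow_left j
    show m * b ^ j * m⁻¹ * (m * a * m⁻¹) = m * a * m⁻¹ * (m * b ^ j * m⁻¹)
    have e1 : m * b ^ j * m⁻¹ * (m * a * m⁻¹) = m * (b ^ j * a) * m⁻¹ := by group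
    have e2 : m * a * m⁻¹ * (m * b ^ j * m⁻¹) = m * (a * b ^ j) * m⁻¹ := by group
    rw [e1, e2, hc.eq]
  have ha'Z : m * a * m⁻¹ ∈ K ⊔ Ks := by
    rw [← (h3 _ hmX hX'c).1]
    exact ⟨ha'M, Subgroup.centralizer_le_normalizer _ ha'C⟩
  refine ⟨m⁻¹, M.inv_mem hm, m * a * m⁻¹, ⟨ha'Z, ?_⟩, by group⟩
  rintro (hk | hk)
  · apply ha.1.2
    refine ⟨m * a * m⁻¹, hk, ?_, m⁻¹, M.inv_mem hm, by group⟩
    intro h0
    apply ha1
    have : a = m⁻¹ * (m * a * m⁻¹) * m := by group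
    rw [this, h0]
    group
  · apply haH
    have h1 : m * a * m⁻¹ ∈ U ⊔ sigmaCore M := Subgroup.mem_sup_right (hKsσ hk)
    have h2 := (Subgroup.mem_normalizer_iff.mp (hn (M.inv_mem hm)) (m * a * m⁻¹)).mp h1
    have e : m⁻¹ * (m * a * m⁻¹) * m⁻¹⁻¹ = a := by group
    rwa [e] at h2

/-- **the union of the `M`-conjugates of `Ẑ` is `A₀(M) ∖ A(M)`, a TI-subset of `G`** -/
theorem zhat_conj_eq (hG : IsMinSimpleOddOrder G) {M K U : Subgroup G} (hM : IsCoatom M)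
    (h : IsSigmaDecomposition M K U) (hK1 : K ≠ ⊥) :
    {a : G | ∃ m ∈ M, ∃ z ∈ ((↑(K ⊔ (sigmaCore M ⊓ Subgroup.centralizer (K : Set G))) : Set G) \
      ((K : Set G) ∪ ↑(sigmaCore M ⊓ Subgroup.centralizer (K : Set G)))), a = m * z * m⁻¹} =
      sigmaA0 M K \ sigmaA M U ∧ IsTISubset (sigmaA0 M K \ sigmaA M U) := by
  have heq : {a : G | ∃ m ∈ M, ∃ z ∈ ((↑(K ⊔ (sigmaCore M ⊓ Subgroup.centralizer (K : Set G))) :
      Set G) \ ((K : Set G) ∪ ↑(sigmaCore M ⊓ Subgroup.centralizer (K : Set G)))),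
      a = m * z * m⁻¹} = sigmaA0 M K \ sigmaA M U := by
    ext a
    constructor
    · rintro ⟨m, hm, z, hz, rfl⟩
      exact conj_zhat_mem hG hM h hK1 hm hz
    · intro ha
      exact exists_conj_zhat hG hM h hK1 ha
  refine ⟨heq, ?_⟩
  intro g hg x hx hgx
  exfalso
  apply hg
  obtain ⟨m, hm, z, hz, rfl⟩ := exists_conj_zhat hG hM h hK1 hx
  obtain ⟨m', hm', z', hz', heq'⟩ := exists_conj_zhat hG hM h hK1 hgx
  -- `g ∈ M`
  have hz'' : (m'⁻¹ * g * m) * z * (m'⁻¹ * g * m)⁻¹ ∈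
      ((↑(K ⊔ (sigmaCore M ⊓ Subgroup.centralizer (K : Set G))) : Set G) \
      ((K : Set G) ∪ ↑(sigmaCore M ⊓ Subgroup.centralizer (K : Set G)))) := by
    have e : (m'⁻¹ * g * m) * z * (m'⁻¹ * g * m)⁻¹ = m'⁻¹ * (g * (m * z * m⁻¹) * g⁻¹) * m' := by
      group
    rw [e, heq']
    have e2 : m'⁻¹ * (m' * z' * m'⁻¹) * m' = z' := by group
    rw [e2]
    exact hz'
  have h1 := mem_sup_of_conj_mem_zhat hG hM h.hall hK1 hz hz''
  have h2 : m'⁻¹ * g * m ∈ M :=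
    (sup_le h.hall.1 (inf_le_left.trans (sigmaCore_le M))) h1
  have hgM : g ∈ M := by
    have e : g = m' * (m'⁻¹ * g * m) * m⁻¹ := by group
    rw [e]
    exact M.mul_mem (M.mul_mem hm' h2) (M.inv_mem hm)
  -- `M` normalizes the set
  rw [Subgroup.mem_set_normalizer_iff]
  intro n
  constructor
  · intro hn
    obtain ⟨m₁, hm₁, z₁, hz₁, rfl⟩ := exists_conj_zhat hG hM h hK1 hn
    have e : g * (m₁ * z₁ * m₁⁻¹) * g⁻¹ = (g * m₁) * z₁ * (g * m₁)⁻¹ := by group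
    rw [e]
    exact conj_zhat_mem hG hM h hK1 (M.mul_mem hgM hm₁) hz₁
  · intro hn
    obtain ⟨m₁, hm₁, z₁, hz₁, heq₁⟩ := exists_conj_zhat hG hM h hK1 hn
    have e : n = (g⁻¹ * m₁) * z₁ * (g⁻¹ * m₁)⁻¹ := by
      have : n = g⁻¹ * (g * n * g⁻¹) * g := by group
      rw [this, heq₁]
      group
    rw [e]
    exact conj_zhat_mem hG hM h hK1 (M.mul_mem (M.inv_mem hgM) hm₁) hz₁

end Cfsg.Agent.Lib.Helper4.BG21
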