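import Mathlib
import Cfsg.Agent.Lib.Helper4.BG21b

set_option autoImplicit false
set_option linter.style.haveILetI false
set_option linter.unusedSectionVars false
set_option maxHeartbeats 1600000

/-! Bender–Glauberman Theorem 14.7(f): if the complement `U` of `K M_σ` in `M` is not trivial then the
Hall `κ(M)`-subgroup `K` has prime order (no counting needed). -/

namespace Cfsg.Agent.Lib.Helper4.BG22

open Cfsg Cfsg.Agent.Lib.Lead Cfsg.Agent.Lib.Lead.BG10 Cfsg.Agent.Lib.Helper7 Cfsg.Agent.Lib.Helper4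
open Cfsg.Agent.Lib.Helper4.BG76 Cfsg.Agent.Lib.Helper4.BG8 Cfsg.Agent.Lib.Helper4.BG9
open Cfsg.Agent.Lib.Helper4.BG7 Cfsg.Agent.Lib.Helper4.BG12 Cfsg.Agent.Lib.Helper4.BGConj
open Cfsg.Agent.Lib.Helper4.BG13 Cfsg.Agent.Lib.Lead.BG95 Cfsg.Agent.Lib.Lead.BG12q
open Cfsg.Agent.Lib.Lead.BG11 Cfsg.Agent.Lib.Lead.BG13q Cfsg.Agent.Lib.Helper4.BG18
open Cfsg.Agent.Lib.Helper4.BG14 Cfsg.Agent.Lib.Helper2.BG13x Cfsg.Agent.Lib.Helper5.BG139
open Cfsg.Agent.Lib.Helper4.BG19 Cfsg.Agent.Lib.Helper4.BG20 Cfsg.Agent.Lib.Helper4.BG21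
open scoped commutatorElement

universe u

variable {G : Type u} [Group G] [Finite G]

/-- the centralizer of a join -/
theorem centralizer_sup_eq (A B : Subgroup G) :
    Subgroup.centralizer ((A ⊔ B : Subgroup G) : Set G) =
      Subgroup.centralizer (A : Set G) ⊓ Subgroup.centralizer (B : Set G) := by
  apply le_antisymm
  · exact le_inf (Subgroup.centralizer_le (SetLike.coe_subset_coe.mpr le_sup_left))
      (Subgroup.centralizer_le (SetLike.coe_subset_coe.mpr le_sup_right))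
  · intro z hz
    have h1 : Subgroup.zpowers z ≤ Subgroup.centralizer (A : Set G) :=
      Subgroup.zpowers_le.mpr hz.1
    have h2 : Subgroup.zpowers z ≤ Subgroup.centralizer (B : Set G) :=
      Subgroup.zpowers_le.mpr hz.2
    have h3 : A ⊔ B ≤ Subgroup.centralizer ((Subgroup.zpowers z : Subgroup G) : Set G) :=
      sup_le (Subgroup.le_centralizer_iff.mp h1) (Subgroup.le_centralizer_iff.mp h2)
    exact Subgroup.le_centralizer_iff.mp h3 (Subgroup.mem_zpowers z)

/-- a Sylow subgroup of a Hall `π`-subgroup, for a prime of `π`, is a Sylow subgroup of the whole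
group -/
theorem sylIn_of_hall {π : Set ℕ} {H M S : Subgroup G} (hH : IsPiHallOf π H M) {q : ℕ}
    (hq : q.Prime) (hqπ : q ∈ π) (hS : SylIn q H S) : SylIn q M S := by
  refine ⟨hS.1.trans hH.1, hS.2.1, ?_⟩
  rw [← Subgroup.relIndex_mul_relIndex S H M hS.1 hH.1]
  intro hd
  rcases (Nat.Prime.dvd_mul hq).mp hd with h | h
  · exact hS.2.2 h
  · exact hH.2.2 q hq hqπ h

/-- a coprime operator group acting without fixed points on an abelian group `U` is the complement of
a Frobenius group with kernel `U` -/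
theorem frobKer_of_regular {U R : Subgroup G} (hUc : IsMulCommutative ↥U) (hU1 : U ≠ ⊥)
    (hR1 : R ≠ ⊥) (hRU : R ≤ Subgroup.normalizer (U : Set G))
    (hcop : (Nat.card R).Coprime (Nat.card U))
    (hreg : ∀ e ∈ R, e ≠ 1 → ∀ u ∈ U, e * u = u * e → u = 1) : FrobKer U R := by
  refine ⟨hU1, hR1, hRU, hreg, ?_⟩
  obtain ⟨-, h2⟩ := coprime_abelian_decomp R U hRU hcop
  have h3 : U ⊓ Subgroup.centralizer (R : Set G) = ⊥ := by
    obtain ⟨e, he, he1⟩ : ∃ e ∈ R, e ≠ 1 := by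
      by_contra hcon
      push Not at hcon
      exact hR1 ((Subgroup.eq_bot_iff_forall R).mpr hcon)
    rw [eq_bot_iff]
    intro u hu
    rw [Subgroup.mem_bot]
    exact hreg e he he1 u hu.1 (Subgroup.mem_centralizer_iff.mp hu.2 e he)
  rw [h3, bot_sup_eq] at h2
  exact h2

/-- arithmetic: the two fixed point formulas force `N = c` -/
theorem eq_of_formulas {a b c N k p : ℕ} (ha : 0 < a) (hb : 0 < b) (hc : 0 < c) (hN : 0 < N)
    (hpk : p < k) (f1 : b ^ k * N = a ^ k * c) (f2 : b ^ p * N = a ^ p * c) : N = c := by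
  obtain ⟨d, hd0, rfl⟩ : ∃ d, 0 < d ∧ k = p + d := ⟨k - p, by omega, by omega⟩
  have h1 : b ^ (p + d) * N * (a ^ p * c) = a ^ (p + d) * c * (b ^ p * N) := by rw [f1, f2]
  have h2 : (b ^ d) * (a ^ p * b ^ p * N * c) = (a ^ d) * (a ^ p * b ^ p * N * c) := by
    rw [pow_add, pow_add] at h1
    nlinarith [h1]
  have hpos : 0 < a ^ p * b ^ p * N * c := by positivity
  have h3 : b ^ d = a ^ d := Nat.eq_of_mul_eq_mul_right hpos h2
  have h4 : b = a := Nat.pow_left_injective (Nat.ne_of_gt hd0) h3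
  rw [h4] at f2
  exact Nat.eq_of_mul_eq_mul_left (by positivity) f2

/-- if `K` acts regularly on the abelian Hall `(κ ∪ σ)'`-subgroup `U ≠ 1` and `X < K` has prime
order, then `U` centralizes `M_σ` -/
theorem sigmaCore_le_centralizer_of_lt (hG : IsMinSimpleOddOrder G) {M K U X : Subgroup G}
    (hM : IsCoatom M) (hK : IsPiHallOf (kappa M) K M) (hK1 : K ≠ ⊥)
    (hUc : IsMulCommutative ↥U)
    (hU : IsPiHallOf {q | q.Prime ∧ q ∉ kappa M ∧ q ∉ sigma M} U M)
    (hKU : K ≤ Subgroup.normalizer (U : Set G))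
    (hreg : ∀ k ∈ K, k ≠ 1 → U ⊓ Subgroup.centralizer ({k} : Set G) = ⊥) (hU1 : U ≠ ⊥)
    (hXK : X ≤ K) (hXc : (Nat.card X).Prime) (hne : X ≠ K) :
    sigmaCore M ≤ Subgroup.centralizer (U : Set G) := by
  classical
  have d := Cfsg.Agent.Lib.Helper2.BG14v.kdata' hG hM hK hK1
  have hX1 : X ≠ ⊥ := ne_bot_of_card_prime hXc
  have hpk : Nat.card X < Nat.card K := by
    rcases Nat.lt_or_ge (Nat.card X) (Nat.card K) with h | h
    · exact h
    · exact absurd (Subgroup.eq_of_le_of_card_ge hXK h) hne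
  have hcopKU : (Nat.card K).Coprime (Nat.card U) := by
    apply Nat.coprime_of_dvd
    intro r hr h1 h2
    exact (hU.2.1 r hr h2).2.1 (hK.2.1 r hr h1)
  have hcopXU : (Nat.card X).Coprime (Nat.card U) :=
    Nat.Coprime.coprime_dvd_left (Subgroup.card_dvd_of_le hXK) hcopKU
  have hreg' : ∀ e ∈ K, e ≠ 1 → ∀ u ∈ U, e * u = u * e → u = 1 := by
    intro e he he1 u hu hc
    have : u ∈ U ⊓ Subgroup.centralizer ({e} : Set G) := by
      refine Subgroup.mem_inf.2 ⟨hu, ?_⟩
      rw [Subgroup.mem_centralizer_iff]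
      intro h hh
      rw [Set.mem_singleton_iff] at hh
      rw [hh]
      exact hc
    rwa [hreg e he he1, Subgroup.mem_bot] at this
  have hkerK : FrobKer U K := frobKer_of_regular hUc hU1 hK1 hKU hcopKU hreg'
  have hkerX : FrobKer U X := frobKer_of_regular hUc hU1 hX1 (hXK.trans hKU) hcopXU
    (fun e he => hreg' e (hXK he))
  have hUKM : U ⊔ K ≤ M := sup_le hU.1 hK.1
  have hUKn : U ⊔ K ≤ Subgroup.normalizer (sigmaCore M : Set G) :=
    hUKM.trans (le_normalizer_sigmaCore M)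
  have hdvd : Nat.card ↥(U ⊔ K : Subgroup G) ∣ Nat.card ↥U * Nat.card ↥K := by
    have := card_sup_mul_card_inf K U hKU
    rw [sup_comm] at this
    rw [mul_comm (Nat.card ↥U)]
    exact Dvd.intro _ this
  have hcop : (Nat.card ↥(U ⊔ K : Subgroup G)).Coprime (Nat.card ↥(sigmaCore M)) := by
    apply Nat.coprime_of_dvd
    intro r hr h1 h2
    have h3 : r ∈ sigma M := (sigmaCore_hall hG hM).1.2.1 r hr h2
    rcases (Nat.Prime.dvd_mul hr).mp (h1.trans hdvd) with h4 | h4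
    · exact (hU.2.1 r hr h4).2.2 h3
    · exact (hK.2.1 r hr h4).2.2.1 h3
  have hsolv : Group.IsSolvable ↥(U ⊔ K : Subgroup G) :=
    solvable_of_ne_top hG (ne_top_of_le_ne_top hM.1 hUKM)
  apply le_of_forall_sylIn
  intro q hq
  haveI : Fact q.Prime := ⟨hq⟩
  obtain ⟨Q₀, hQ₀⟩ := coprime_invariant_sylow_exists (U ⊔ K) (sigmaCore M) hUKn hcop
    (Or.inl hsolv) q
  set Q := (Q₀ : Subgroup ↥(sigmaCore M)).map (sigmaCore M).subtype with hQ
  have hQsyl : SylIn q (sigmaCore M) Q := sylIn_map_sylow Q₀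
  refine ⟨Q, hQsyl, ?_⟩
  have hUQ : U ≤ Subgroup.normalizer (Q : Set G) := le_sup_left.trans hQ₀
  have hKQ : K ≤ Subgroup.normalizer (Q : Set G) := le_sup_right.trans hQ₀
  have hQsolv : Group.IsSolvable ↥Q := by
    have : Group.IsNilpotent ↥Q := hQsyl.2.1.isNilpotent
    infer_instance
  have hcopQ : (Nat.card ↥Q).Coprime (Nat.card ↥(U ⊔ K : Subgroup G)) :=
    (Nat.Coprime.coprime_dvd_right (Subgroup.card_dvd_of_le hQsyl.1) hcop).symm
  have hcopQX : (Nat.card ↥Q).Coprime (Nat.card ↥(U ⊔ X : Subgroup G)) :=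
    Nat.Coprime.coprime_dvd_right (Subgroup.card_dvd_of_le (sup_le_sup_left hXK U)) hcopQ
  have f1 := hkerK.formula hUQ hKQ hQsolv hcopQ
  have f2 := hkerX.formula hUQ (hXK.trans hKQ) hQsolv hcopQX
  -- the semiprime action
  obtain ⟨x, hxX, hx1, hxz, -⟩ := exists_generator_of_prime_card hXc
  have e0 : sigmaCore M ⊓ Subgroup.centralizer (X : Set G) =
      sigmaCore M ⊓ Subgroup.centralizer (K : Set G) := by
    rw [← hxz, centralizer_zpowers']
    exact d.semiprime x (hXK hxX) hx1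
  have e1 : Q ⊓ Subgroup.centralizer (X : Set G) = Q ⊓ Subgroup.centralizer (K : Set G) := by
    have h1 : Q ⊓ Subgroup.centralizer (X : Set G) =
        Q ⊓ (sigmaCore M ⊓ Subgroup.centralizer (X : Set G)) := by
      rw [← inf_assoc, inf_eq_left.mpr hQsyl.1]
    have h2 : Q ⊓ Subgroup.centralizer (K : Set G) =
        Q ⊓ (sigmaCore M ⊓ Subgroup.centralizer (K : Set G)) := by
      rw [← inf_assoc, inf_eq_left.mpr hQsyl.1]
    rw [h1, h2, e0]
  have e2 : Q ⊓ Subgroup.centralizer ((U ⊔ X : Subgroup G) : Set G) =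
      Q ⊓ Subgroup.centralizer ((U ⊔ K : Subgroup G) : Set G) := by
    rw [centralizer_sup_eq, centralizer_sup_eq]
    have h1 : Q ⊓ (Subgroup.centralizer (U : Set G) ⊓ Subgroup.centralizer (X : Set G)) =
        Subgroup.centralizer (U : Set G) ⊓ (Q ⊓ Subgroup.centralizer (X : Set G)) := by
      rw [← inf_assoc, ← inf_assoc, inf_comm Q]
    have h2 : Q ⊓ (Subgroup.centralizer (U : Set G) ⊓ Subgroup.centralizer (K : Set G)) =
        Subgroup.centralizer (U : Set G) ⊓ (Q ⊓ Subgroup.centralizer (K : Set G)) := by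
      rw [← inf_assoc, ← inf_assoc, inf_comm Q]
    rw [h1, h2, e1]
  rw [e1, e2] at f2
  have hNc := eq_of_formulas Nat.card_pos Nat.card_pos Nat.card_pos Nat.card_pos hpk f1 f2
  have h3 : Q ⊓ Subgroup.centralizer (U : Set G) = Q :=
    Subgroup.eq_of_le_of_card_ge inf_le_left hNc.le
  rw [← h3]
  exact inf_le_right

/-- **if `U ≠ 1` then `K` has prime order** -/
theorem card_prime_of_regular_ne_bot (hG : IsMinSimpleOddOrder G) {M K U : Subgroup G}
    (hM : IsCoatom M) (hK : IsPiHallOf (kappa M) K M) (hK1 : K ≠ ⊥)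
    (hUc : IsMulCommutative ↥U)
    (hU : IsPiHallOf {q | q.Prime ∧ q ∉ kappa M ∧ q ∉ sigma M} U M)
    (hKU : K ≤ Subgroup.normalizer (U : Set G))
    (hreg : ∀ k ∈ K, k ≠ 1 → U ⊓ Subgroup.centralizer ({k} : Set G) = ⊥) (hU1 : U ≠ ⊥) :
    (Nat.card K).Prime := by
  classical
  by_contra hnp
  obtain ⟨p, X, hp, hXK, hXc⟩ := BG20.exists_prime_card_le hK1
  have hne : X ≠ K := by
    rintro rfl
    exact hnp (hXc ▸ hp)
  have hσU := sigmaCore_le_centralizer_of_lt hG hM hK hK1 hUc hU hKU hreg hU1 hXK (hXc ▸ hp) hne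
  -- a Sylow subgroup `R` of `U`
  obtain ⟨r, R, hr, hRU, hRc⟩ := BG20.exists_prime_card_le hU1
  haveI : Fact r.Prime := ⟨hr⟩
  have hrU : r ∣ Nat.card U := hRc ▸ Subgroup.card_dvd_of_le hRU
  have hrπ : r ∈ {q | q.Prime ∧ q ∉ kappa M ∧ q ∉ sigma M} := hU.2.1 r hr hrU
  obtain ⟨S, -, hS⟩ := exists_sylIn_ge (p := r) (bot_le : (⊥ : Subgroup G) ≤ U) IsPGroup.of_bot
  have hSM : SylIn r M S := sylIn_of_hall hU hr hrπ hS
  have hS1 : S ≠ ⊥ := by
    rintro rfl
    apply hS.2.2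
    rw [Subgroup.relIndex_bot_left]
    exact hrU
  have hStop : S ≠ ⊤ := fun h => hM.1 (eq_top_iff.mpr (h ▸ hSM.1))
  have hUcent : U ≤ Subgroup.centralizer (U : Set G) := by
    intro a ha
    rw [Subgroup.mem_centralizer_iff]
    intro b hb
    have h1 : (⟨b, hb⟩ : ↥U) * ⟨a, ha⟩ = ⟨a, ha⟩ * ⟨b, hb⟩ := hUc.is_comm.comm _ _
    exact congrArg Subtype.val h1
  -- `M` normalizes `S`
  have hMS : M ≤ Subgroup.normalizer (S : Set G) := by
    apply le_of_forall_sylIn
    intro q hq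
    haveI : Fact q.Prime := ⟨hq⟩
    by_cases hqσ : q ∈ sigma M
    · obtain ⟨T, -, hT⟩ := exists_sylIn_ge (p := q) (bot_le : (⊥ : Subgroup G) ≤ sigmaCore M)
        IsPGroup.of_bot
      refine ⟨T, sylIn_of_hall (sigmaCore_hall hG hM).1 hq hqσ hT, ?_⟩
      exact (hT.1.trans hσU).trans ((Subgroup.centralizer_le
        (SetLike.coe_subset_coe.mpr hS.1)).trans (Subgroup.centralizer_le_normalizer _))
    · by_cases hqκ : q ∈ kappa M
      · obtain ⟨T, -, hT⟩ := exists_sylIn_ge (p := q) (bot_le : (⊥ : Subgroup G) ≤ K)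
          IsPGroup.of_bot
        refine ⟨T, sylIn_of_hall hK hq hqκ hT, ?_⟩
        intro k hk
        have hkK : k ∈ K := hT.1 hk
        rw [mem_normalizer_iff_cj]
        -- `cj k S` is another Sylow `r`-subgroup of the abelian group `U`
        have h1 : SylIn r U (cj k S) := by
          have h2 := sylIn_cj k hS
          have h3 : cj k U = U := mem_normalizer_iff_cj.mp (hKU hkK)
          rwa [h3] at h2
        obtain ⟨y, hy, hyS⟩ := hS.conj h1
        rw [← hyS]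
        exact mem_normalizer_iff_cj.mp ((Subgroup.centralizer_le_normalizer _)
          ((Subgroup.centralizer_le (SetLike.coe_subset_coe.mpr hS.1)) (hUcent hy)))
      · obtain ⟨T, -, hT⟩ := exists_sylIn_ge (p := q) (bot_le : (⊥ : Subgroup G) ≤ U)
          IsPGroup.of_bot
        refine ⟨T, sylIn_of_hall hU hq ⟨hq, hqκ, hqσ⟩ hT, ?_⟩
        exact (hT.1.trans hUcent).trans ((Subgroup.centralizer_le
          (SetLike.coe_subset_coe.mpr hS.1)).trans (Subgroup.centralizer_le_normalizer _))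
  have hNM : Subgroup.normalizer (S : Set G) = M := by
    by_contra hne'
    exact normalizer_ne_top hG hS1 hStop (hM.2 _ (lt_of_le_of_ne hMS (Ne.symm hne')))
  apply hrπ.2.2
  rw [mem_sigma_iff_sylIn]
  exact ⟨hrU.trans (Subgroup.card_dvd_of_le hU.1), S, hSM, hNM.le⟩

end Cfsg.Agent.Lib.Helper4.BG22
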