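import Mathlib
import Cfsg.Agent.Lib.Helper4.BG22a
import Cfsg.Agent.Lib.Helper4.BG20g

set_option autoImplicit false
set_option linter.style.haveILetI false
set_option linter.unusedSectionVars false
set_option maxHeartbeats 1600000

/-! Bender–Glauberman Theorem 14.7(f), in the form: if `M` is not of type `P₁` (that is,
`K M_σ ≠ M`) then `|K|` is prime. -/

namespace Cfsg.Agent.Lib.Helper4.BG22

open Cfsg Cfsg.Agent.Lib.Lead Cfsg.Agent.Lib.Lead.BG10 Cfsg.Agent.Lib.Helper7 Cfsg.Agent.Lib.Helper4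
open Cfsg.Agent.Lib.Helper4.BG76 Cfsg.Agent.Lib.Helper4.BG8 Cfsg.Agent.Lib.Helper4.BG9
open Cfsg.Agent.Lib.Helper4.BG7 Cfsg.Agent.Lib.Helper4.BG12 Cfsg.Agent.Lib.Helper4.BGConj
open Cfsg.Agent.Lib.Helper4.BG13 Cfsg.Agent.Lib.Lead.BG95 Cfsg.Agent.Lib.Lead.BG12q
open Cfsg.Agent.Lib.Lead.BG11 Cfsg.Agent.Lib.Lead.BG13q Cfsg.Agent.Lib.Helper4.BG18
open Cfsg.Agent.Lib.Helper4.BG14 Cfsg.Agent.Lib.Helper2.BG13x Cfsg.Agent.Lib.Helper5.BG139
open Cfsg.Agent.Lib.Helper4.BG19 Cfsg.Agent.Lib.Helper4.BG20 Cfsg.Agent.Lib.Helper4.BG21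
open scoped commutatorElement

universe u

variable {G : Type u} [Group G] [Finite G]

/-- if the Hall `(κ ∪ σ)'`-subgroup `U` of `M` is trivial then `M = K M_σ` -/
theorem sup_sigmaCore_eq_of_eq_bot (hG : IsMinSimpleOddOrder G) {M K U : Subgroup G}
    (hM : IsCoatom M) (hK : IsPiHallOf (kappa M) K M)
    (hU : IsPiHallOf {q | q.Prime ∧ q ∉ kappa M ∧ q ∉ sigma M} U M) (hU1 : U = ⊥) :
    K ⊔ sigmaCore M = M := by
  have hσ := (sigmaCore_hall hG hM).1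
  apply BG19.sup_eq_of_cover hK.1 hσ.1
  intro p hp
  by_cases hpκ : p ∈ kappa M
  · exact Or.inl (hK.2.2 p hp hpκ)
  · by_cases hpσ : p ∈ sigma M
    · exact Or.inr (hσ.2.2 p hp hpσ)
    · left
      intro hd
      have h1 := hU.2.2 p hp ⟨hp, hpκ, hpσ⟩
      apply h1
      rw [hU1, Subgroup.relIndex_bot_left]
      have h2 : K.relIndex M ∣ Nat.card M := by
        rw [← Subgroup.relIndex_bot_left]
        exact Subgroup.relIndex_dvd_of_le_left M bot_le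
      exact hd.trans h2

/-- **Bender–Glauberman, Theorem 14.7(f)**: if `K ≠ 1` and `M ≠ K M_σ` then `|K|` is prime. -/
theorem card_prime_of_not_P1 (hG : IsMinSimpleOddOrder G) {N K : Subgroup G} (hN : IsCoatom N)
    (hK : IsPiHallOf (kappa N) K N) (hK1 : K ≠ ⊥) (hU : K ⊔ sigmaCore N ≠ N) :
    (Nat.card K).Prime := by
  obtain ⟨U, hUc, hUh, hKU, hreg⟩ := (Cfsg.Agent.Lib.Helper2.BG14v.kdata' hG hN hK hK1).exU
  have hU1 : U ≠ ⊥ := fun h => hU (sup_sigmaCore_eq_of_eq_bot hG hN hK hUh h)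
  exact card_prime_of_regular_ne_bot hG hN hK hK1 hUc hUh hKU hreg hU1

end Cfsg.Agent.Lib.Helper4.BG22
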