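import Mathlib
import Cfsg.Agent.Lib.Helper4.BG22b
import Cfsg.Agent.Lib.Helper5.NilSym2

set_option autoImplicit false
set_option linter.style.haveILetI false
set_option linter.unusedSectionVars false
set_option maxHeartbeats 1600000

/-! Bender–Glauberman Theorem 14.7 (D1): the non-regular ("phantom") configuration of Lemmas
13.10–13.11 does not occur for a maximal subgroup `M` whose Hall `κ(M)`-subgroup `K` is nilpotent,
or with `K M_σ ≠ M`; then `κ(M) = τ₁(M)` and `K` is cyclic. -/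

namespace Cfsg.Agent.Lib.Helper4.BG22

open Cfsg Cfsg.Agent.Lib.Lead Cfsg.Agent.Lib.Lead.BG10 Cfsg.Agent.Lib.Helper7 Cfsg.Agent.Lib.Helper4
open Cfsg.Agent.Lib.Helper4.BG76 Cfsg.Agent.Lib.Helper4.BG8 Cfsg.Agent.Lib.Helper4.BG9
open Cfsg.Agent.Lib.Helper4.BG7 Cfsg.Agent.Lib.Helper4.BG12 Cfsg.Agent.Lib.Helper4.BGConj
open Cfsg.Agent.Lib.Helper4.BG13 Cfsg.Agent.Lib.Lead.BG95 Cfsg.Agent.Lib.Lead.BG12q
open Cfsg.Agent.Lib.Lead.BG11 Cfsg.Agent.Lib.Lead.BG13q Cfsg.Agent.Lib.Helper4.BG18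
open Cfsg.Agent.Lib.Helper2.BG12 Cfsg.Agent.Lib.Helper6 Cfsg.Agent.Lib.Helper2.BG13x
open Cfsg.Agent.Lib.Helper2.BG14y Cfsg.Agent.Lib.Helper4.BG14 Cfsg.Agent.Lib.Helper5.BG139
open Cfsg.Agent.Lib.Helper2.BG14z
open scoped commutatorElement

universe u

variable {G : Type u} [Group G] [Finite G]

/-- **(D1)** the Hall `κ(M)`-subgroup `K ≠ 1` is a cyclic Hall `τ₁(M)`-subgroup of every complement
of `M_σ` containing it and `κ(M) = τ₁(M)`, as soon as `K` is nilpotent or `K M_σ ≠ M`. -/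
theorem kappa_eq_tau1 (hG : IsMinSimpleOddOrder G) {M K : Subgroup G} (hM : IsCoatom M)
    (hK : IsPiHallOf (kappa M) K M) (hK1 : K ≠ ⊥)
    (h : Group.IsNilpotent ↥K ∨ K ⊔ sigmaCore M ≠ M) :
    (∀ q : ℕ, q ∈ kappa M ↔ q ∈ tau1 M) ∧ IsCyclic ↥K ∧
      ∀ E : Subgroup G, IsComplIn E (sigmaCore M) M → K ≤ E → IsPiHallOf (tau1 M) K E := by
  classical
  have key : ∀ E : Subgroup G, IsComplIn E (sigmaCore M) M → K ≤ E →
      IsPiHallOf (tau1 M) K E ∧ (∀ q : ℕ, q ∈ tau1 M → q ∈ kappa M) ∧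
        (∀ q : ℕ, q ∈ kappa M → q ∈ tau1 M) := by
    intro E hE hKE
    have hsolvE : Group.IsSolvable ↥E := solvable_of_ne_top hG (ne_top_of_le_ne_top hM.1 hE.1)
    obtain ⟨E₃, hE₃, -⟩ := exists_piHallOf_ge hsolvE (tau3 M) (bot_le : (⊥ : Subgroup G) ≤ E)
      (fun q hq hd => by
        rw [Subgroup.card_bot] at hd
        exact absurd (Nat.dvd_one.mp hd) hq.one_lt.ne')
    obtain ⟨E₁, hE₁, -⟩ := exists_piHallOf_ge hsolvE (tau1 M) (bot_le : (⊥ : Subgroup G) ≤ E)
      (fun q hq hd => by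
        rw [Subgroup.card_bot] at hd
        exact absurd (Nat.dvd_one.mp hd) hq.one_lt.ne')
    by_cases hreg : ∀ x ∈ E₃, x ≠ 1 → sigmaCore M ⊓ Subgroup.centralizer ({x} : Set G) = ⊥
    · obtain ⟨h1, h2, h3, -⟩ := hall_tau1_of_regular hG hM hK hK1 hE hKE hE₃ hreg
      exact ⟨h1, h2, h3⟩
    · exfalso
      push Not at hreg
      have c : Pht M E E₁ E₃ := Pht.of_phantom (BG20.tphantom hG) hM hE hE₁ hE₃ hreg
      have hKeq : K = E := c.K_eq hG hK hKE
      rcases h with hnil | hne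
      · obtain ⟨x, hx, hx1, hfx⟩ := hreg
        obtain ⟨r, n, hr, hxo, hxn1⟩ := exists_prime_pow hx1
        have hRc : Nat.card ↥(Subgroup.zpowers (x ^ n)) = r := by rw [Nat.card_zpowers, hxo]
        have hRE₃ : Subgroup.zpowers (x ^ n) ≤ E₃ := Subgroup.zpowers_le.mpr (E₃.pow_mem hx n)
        have hY : sigmaCore M ⊓
            Subgroup.centralizer ((Subgroup.zpowers (x ^ n) : Subgroup G) : Set G) ≠ ⊥ := by
          intro h0
          apply hfx
          rw [eq_bot_iff, ← h0, centralizer_zpowers']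
          exact inf_le_inf_left _ (centralizer_le_centralizer_pow x n)
        obtain ⟨-, -, -, -, hnot, -, -⟩ :=
          Cfsg.Agent.Lib.Helper2.BG14w.basic_of_fixed hG hM hE hE₁ hE₃ hRE₃ (hRc ▸ hr) hY
        apply hnot
        intro a ha
        rw [Subgroup.mem_centralizer_iff]
        intro b hb
        have hbE₃ : b ∈ E₃ := hRE₃ hb
        have haK : a ∈ K := hKeq ▸ hE₁.1 ha
        have hbK : b ∈ K := hKeq ▸ hE₃.1 hbE₃
        have hcop : (orderOf (⟨a, haK⟩ : ↥K)).Coprime (orderOf (⟨b, hbK⟩ : ↥K)) := by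
          rw [Nat.coprime_iff_gcd_eq_one]
          by_contra hg
          obtain ⟨q, hq, hqd⟩ := Nat.exists_prime_and_dvd hg
          have hqa : q ∣ orderOf a := by
            have := hqd.trans (Nat.gcd_dvd_left _ _)
            rwa [← Subgroup.orderOf_coe] at this
          have hqb : q ∣ orderOf b := by
            have := hqd.trans (Nat.gcd_dvd_right _ _)
            rwa [← Subgroup.orderOf_coe] at this
          have h1 : q ∈ tau1 M := hE₁.2.1 q hq (hqa.trans (by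
            rw [← Subgroup.orderOf_mk a ha]
            exact orderOf_dvd_natCard _))
          have h3 : q ∈ tau3 M := hE₃.2.1 q hq (hqb.trans (by
            rw [← Subgroup.orderOf_mk b hbE₃]
            exact orderOf_dvd_natCard _))
          exact h1.2.2.2.1 h3.2.2.1
        have hcomm := Cfsg.Agent.Lib.Helper5.NilSym.commute_of_coprime ↥K ⟨a, haK⟩ ⟨b, hbK⟩
          (isOfFinOrder_of_finite _) (isOfFinOrder_of_finite _) hcop
        have := congrArg Subtype.val hcomm.eq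
        exact this.symm
      · apply hne
        rw [hKeq]
        exact sup_eq_of_isComplIn hE
  obtain ⟨E, hE, hKE⟩ := exists_complIn_ge hG hM hK.1 (coprime_card_kappa_hall hG hM hK)
  obtain ⟨h1, h2, h3⟩ := key E hE hKE
  exact ⟨fun q => ⟨h3 q, h2 q⟩, tau1_hall_cyclic hG hM hE h1, fun E' hE' hKE' => (key E' hE' hKE').1⟩

end Cfsg.Agent.Lib.Helper4.BG22
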