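import Mathlib
import Cfsg.Agent.Lib.Helper4.BG22c

set_option autoImplicit false
set_option linter.style.haveILetI false
set_option linter.unusedSectionVars false
set_option maxHeartbeats 1600000

/-! Bender–Glauberman Theorem 14.7(h) / 15.2(b): for a standard factorisation `M = K U M_σ` with
`K ≠ 1`: `M' = U M_σ` and `C_{M_σ}(K) ≤ M''`. -/

namespace Cfsg.Agent.Lib.Helper4.BG22

open Cfsg Cfsg.Agent.Lib.Lead Cfsg.Agent.Lib.Lead.BG10 Cfsg.Agent.Lib.Helper7 Cfsg.Agent.Lib.Helper4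
open Cfsg.Agent.Lib.Helper4.BG76 Cfsg.Agent.Lib.Helper4.BG8 Cfsg.Agent.Lib.Helper4.BG9
open Cfsg.Agent.Lib.Helper4.BG7 Cfsg.Agent.Lib.Helper4.BG12 Cfsg.Agent.Lib.Helper4.BGConj
open Cfsg.Agent.Lib.Helper4.BG13 Cfsg.Agent.Lib.Lead.BG95 Cfsg.Agent.Lib.Lead.BG12q
open Cfsg.Agent.Lib.Lead.BG11 Cfsg.Agent.Lib.Lead.BG13q Cfsg.Agent.Lib.Helper4.BG18
open Cfsg.Agent.Lib.Helper2.BG12 Cfsg.Agent.Lib.Helper6 Cfsg.Agent.Lib.Helper2.BG13x
open Cfsg.Agent.Lib.Helper2.BG14y Cfsg.Agent.Lib.Helper4.BG14 Cfsg.Agent.Lib.Helper5.BG139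
open Cfsg.Agent.Lib.Helper2.BG14z Cfsg.Agent.Lib.Lead.BG14n Cfsg.Agent.Lib.Helper4.BG21
open scoped commutatorElement

universe u

variable {G : Type u} [Group G] [Finite G]

/-- `K` is a complement of `U M_σ` in `M` -/
theorem sd_isComplIn_K (hG : IsMinSimpleOddOrder G) {M K U : Subgroup G} (hM : IsCoatom M)
    (h : IsSigmaDecomposition M K U) : IsComplIn K (U ⊔ sigmaCore M) M := by
  refine ⟨h.hall.1, sup_le h.compl.1 (sigmaCore_le M), sd_inf_eq_bot hG hM h, ?_⟩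
  intro m hm
  obtain ⟨a, ha, b, hb, rfl⟩ := h.compl.2.2.2 m hm
  have hbm : b ∈ ((K ⊔ sigmaCore M : Subgroup G) : Set G) := hb
  rw [Subgroup.coe_mul_of_left_le_normalizer_right K (sigmaCore M)
    (h.hall.1.trans (le_normalizer_sigmaCore M))] at hbm
  obtain ⟨k, hk, s, hs, rfl⟩ := Set.mem_mul.mp hbm
  refine ⟨k, hk, k⁻¹ * a * k * s, ?_, by group⟩
  apply Subgroup.mul_mem _ _ (Subgroup.mem_sup_right hs)
  apply Subgroup.mem_sup_left
  have h1 := (Subgroup.mem_set_normalizer_iff.mp (h.normal (K.inv_mem hk)) a).mp ha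
  simpa using h1

/-- `|K|` and `|U M_σ|` are coprime -/
theorem sd_coprime (hG : IsMinSimpleOddOrder G) {M K U : Subgroup G} (hM : IsCoatom M)
    (h : IsSigmaDecomposition M K U) :
    (Nat.card K).Coprime (Nat.card ↥(U ⊔ sigmaCore M)) := by
  have hc := sd_isComplIn_K hG hM h
  have h1 := card_mul_of_isComplIn hc
  have h2 : K.relIndex M * Nat.card K = Nat.card M := by
    rw [mul_comm, ← Subgroup.relIndex_bot_left, ← Subgroup.relIndex_bot_left,
      Subgroup.relIndex_mul_relIndex ⊥ K M bot_le h.hall.1]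
  have h3 : K.relIndex M = Nat.card ↥(U ⊔ sigmaCore M) := by
    have hpos : 0 < Nat.card K := Nat.card_pos
    rw [h1, mul_comm (Nat.card K)] at h2
    exact Nat.eq_of_mul_eq_mul_right hpos h2
  apply Nat.coprime_of_dvd
  intro p hp hpK hpL
  rw [← h3] at hpL
  exact h.hall.2.2 p hp (h.hall.2.1 p hp hpK) hpL

/-- `K` acts regularly on `U` -/
theorem sd_regular (hG : IsMinSimpleOddOrder G) {M K U : Subgroup G} (hM : IsCoatom M)
    (h : IsSigmaDecomposition M K U) {k : G} (hk : k ∈ K) (hk1 : k ≠ 1) :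
    U ⊓ Subgroup.centralizer ({k} : Set G) = ⊥ := by
  have hK1 : K ≠ ⊥ := fun h0 => hk1 (by rwa [h0, Subgroup.mem_bot] at hk)
  have d := Cfsg.Agent.Lib.Helper2.BG14v.kdata' hG hM h.hall hK1
  obtain ⟨r, n, hr, hko, hkn1⟩ := exists_prime_pow hk1
  have hXc : Nat.card ↥(Subgroup.zpowers (k ^ n)) = r := by rw [Nat.card_zpowers, hko]
  have hXK : Subgroup.zpowers (k ^ n) ≤ K := Subgroup.zpowers_le.mpr (K.pow_mem hk n)
  have hnorm := (d.norm _ hXK (hXc ▸ hr)).1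
  rw [eq_bot_iff]
  rintro x ⟨hxU, hxC⟩
  have hxN : x ∈ M ⊓ Subgroup.normalizer ((Subgroup.zpowers (k ^ n) : Subgroup G) : Set G) := by
    refine ⟨h.compl.1 hxU, Subgroup.centralizer_le_normalizer _ ?_⟩
    rw [centralizer_zpowers']
    exact centralizer_le_centralizer_pow k n hxC
  rw [hnorm] at hxN
  have hx2 : x ∈ U ⊓ (K ⊔ sigmaCore M) :=
    ⟨hxU, (sup_le_sup_left inf_le_left K) hxN⟩
  rwa [h.compl.2.2.1] at hx2

/-- `C_U(K) = 1` -/
theorem sd_inf_centralizer_eq_bot (hG : IsMinSimpleOddOrder G) {M K U : Subgroup G}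
    (hM : IsCoatom M) (h : IsSigmaDecomposition M K U) (hK1 : K ≠ ⊥) :
    U ⊓ Subgroup.centralizer (K : Set G) = ⊥ := by
  obtain ⟨⟨k, hk⟩, hk1⟩ := (Subgroup.ne_bot_iff_exists_ne_one).mp hK1
  have hk1' : k ≠ 1 := fun h0 => hk1 (Subtype.ext h0)
  rw [eq_bot_iff, ← sd_regular hG hM h hk hk1']
  apply inf_le_inf_left
  apply Subgroup.centralizer_le
  intro a ha
  rw [Set.mem_singleton_iff] at ha
  rw [ha]
  exact hk

/-- **Bender–Glauberman, Theorem 15.2(b)**: `M' = U M_σ` when `K ≠ 1` -/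
theorem sd_commutator_eq (hG : IsMinSimpleOddOrder G) {M K U : Subgroup G} (hM : IsCoatom M)
    (h : IsSigmaDecomposition M K U) (hK1 : K ≠ ⊥) : ⁅M, M⁆ = U ⊔ sigmaCore M := by
  have hKM : K ≤ M := h.hall.1
  have hc := sd_isComplIn_K hG hM h
  have hLM : U ⊔ sigmaCore M ≤ M := hc.2.1
  apply le_antisymm
  · -- `M / U M_σ ≅ K` is abelian
    haveI : ((U ⊔ sigmaCore M).subgroupOf M).Normal :=
      Subgroup.normal_subgroupOf_of_le_normalizer (sd_le_normalizer h)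
    have hES : ∀ m : ↥M, ∃ e ∈ K.subgroupOf M, ∃ s ∈ (U ⊔ sigmaCore M).subgroupOf M,
        m = e * s := by
      rintro ⟨m, hm⟩
      obtain ⟨k, hk, l, hl, rfl⟩ := hc.2.2.2 m hm
      exact ⟨⟨k, hKM hk⟩, Subgroup.mem_subgroupOf.mpr hk, ⟨l, hLM hl⟩,
        Subgroup.mem_subgroupOf.mpr hl, rfl⟩
    have h1 := commutator_le_sup_of_compl ((U ⊔ sigmaCore M).subgroupOf M) (K.subgroupOf M)
      ((U ⊔ sigmaCore M).subgroupOf M) hES (Subgroup.commutator_le_left _ _) (Subgroup.commutator_le_left _ _)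
    have h2 : ⁅K.subgroupOf M, K.subgroupOf M⁆ = ⊥ := by
      rw [Subgroup.commutator_eq_bot_iff_le_centralizer]
      intro a ha
      rw [Subgroup.mem_centralizer_iff]
      intro b hb
      haveI := h.cyclic
      have h3 : (⟨b.1, Subgroup.mem_subgroupOf.mp hb⟩ : ↥K) * ⟨a.1, Subgroup.mem_subgroupOf.mp ha⟩ =
          ⟨a.1, Subgroup.mem_subgroupOf.mp ha⟩ * ⟨b.1, Subgroup.mem_subgroupOf.mp hb⟩ :=
        IsCyclic.commGroup.mul_comm _ _
      apply Subtype.ext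
      have h4 := congrArg Subtype.val h3
      exact h4
    rw [h2, sup_bot_eq] at h1
    rw [← Subgroup.map_subtype_commutator, ← Subgroup.map_subgroupOf_eq_of_le hLM]
    exact Subgroup.map_mono h1
  · apply sup_le _ (sigmaCore_le_commutator hG hM)
    have hcop : (Nat.card K).Coprime (Nat.card U) :=
      Nat.Coprime.coprime_dvd_right (Subgroup.card_dvd_of_le le_sup_left) (sd_coprime hG hM h)
    haveI := h.cyclic
    have hsolv : Group.IsSolvable ↥K := by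
      letI := IsCyclic.commGroup (α := ↥K)
      infer_instance
    have h1 := coprime_commutator_sup_centralizer K U h.normal hcop (Or.inl hsolv)
    rw [sd_inf_centralizer_eq_bot hG hM h hK1, sup_bot_eq] at h1
    rw [← h1]
    exact Subgroup.commutator_mono h.compl.1 hKM

/-- **Bender–Glauberman, Theorem 15.2**: `C_{M_σ}(K) ≤ M''` when `K ≠ 1`; in fact
`C_{M'}(K) ≤ M''` -/
theorem sd_commutator_inf_centralizer_le (hG : IsMinSimpleOddOrder G) {M K U : Subgroup G}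
    (hM : IsCoatom M) (h : IsSigmaDecomposition M K U) (hK1 : K ≠ ⊥) :
    ⁅M, M⁆ ⊓ Subgroup.centralizer (K : Set G) ≤ ⁅⁅M, M⁆, ⁅M, M⁆⁆ := by
  have hKM : K ≤ M := h.hall.1
  have hc := sd_isComplIn_K hG hM h
  have hLM : U ⊔ sigmaCore M ≤ M := hc.2.1
  have hder := sd_commutator_eq hG hM h hK1
  have hmap : (commutator ↥M).map M.subtype = ⁅M, M⁆ := Subgroup.map_subtype_commutator M
  have hES : ∀ m : ↥M, ∃ e ∈ K.subgroupOf M, ∃ s ∈ commutator ↥M, m = e * s := by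
    rintro ⟨m, hm⟩
    obtain ⟨k, hk, l, hl, rfl⟩ := hc.2.2.2 m hm
    rw [← hder, ← hmap] at hl
    obtain ⟨s, hs, rfl⟩ := hl
    exact ⟨⟨k, hKM hk⟩, Subgroup.mem_subgroupOf.mpr hk, s, hs, rfl⟩
  have hdisj : K.subgroupOf M ⊓ commutator ↥M = ⊥ := by
    rw [eq_bot_iff]
    rintro x ⟨hxK, hxS⟩
    have h1 : (x : G) ∈ K ⊓ (U ⊔ sigmaCore M) := by
      refine ⟨Subgroup.mem_subgroupOf.mp hxK, ?_⟩
      rw [← hder, ← hmap]
      exact ⟨x, hxS, rfl⟩
    rw [hc.2.2.1, Subgroup.mem_bot] at h1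
    rw [Subgroup.mem_bot]
    exact Subtype.ext h1
  haveI : Group.IsSolvable ↥M := solvable_of_ne_top hG hM.1
  haveI : Group.IsSolvable ↥(commutator ↥M) := inferInstance
  have hb := commutator_eq_of_le_commutator (commutator ↥M) (K.subgroupOf M) hES hdisj le_rfl
  have hcop : (Nat.card ↥(K.subgroupOf M)).Coprime (Nat.card ↥(commutator ↥M)) := by
    have e1 : Nat.card ↥(K.subgroupOf M) = Nat.card K :=
      Nat.card_congr (Subgroup.subgroupOfEquivOfLe hKM).toEquiv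
    have e2 : Nat.card ↥(commutator ↥M) = Nat.card ↥(U ⊔ sigmaCore M) := by
      rw [← hder, ← hmap, Subgroup.card_map_of_injective M.subtype_injective]
    rw [e1, e2]
    exact sd_coprime hG hM h
  have hfix := inf_centralizer_le_commutator (commutator ↥M) (K.subgroupOf M) hcop hb
  rintro x ⟨hxM', hxC⟩
  rw [← hmap] at hxM'
  obtain ⟨s, hs, rfl⟩ := hxM'
  have hsC : s ∈ Subgroup.centralizer ((K.subgroupOf M : Subgroup ↥M) : Set ↥M) := by
    rw [Subgroup.mem_centralizer_iff]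
    intro b hb'
    apply Subtype.ext
    exact (Subgroup.mem_centralizer_iff.mp hxC) b.1 (Subgroup.mem_subgroupOf.mp hb')
  have h1 := hfix ⟨hs, hsC⟩
  have h2 : M.subtype s ∈ (⁅commutator ↥M, commutator ↥M⁆).map M.subtype := ⟨s, h1, rfl⟩
  rwa [Subgroup.map_commutator, hmap] at h2

end Cfsg.Agent.Lib.Helper4.BG22
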