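import Mathlib
import Cfsg.Agent.Lib.Helper4.BG14c
import Cfsg.Agent.Lib.Lead.BG10o

set_option autoImplicit false
set_option linter.style.haveILetI false
set_option linter.unusedSectionVars false

/-! Bender–Glauberman: the `σ(M)'`-part `Y` of `F(M)` is cyclic, a `τ₂(M)`-group, and
`F(M) = F(M_σ) × Y`. -/

namespace Cfsg.Agent.Lib.Helper4.BG14

open Cfsg Cfsg.Agent.Lib.Lead Cfsg.Agent.Lib.Lead.BG10 Cfsg.Agent.Lib.Lead.BG11
open Cfsg.Agent.Lib.Helper7 Cfsg.Agent.Lib.Helper4
open Cfsg.Agent.Lib.Helper4.BG7 Cfsg.Agent.Lib.Helper4.BG76 Cfsg.Agent.Lib.Helper4.BG8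
open Cfsg.Agent.Lib.Helper4.BG9 Cfsg.Agent.Lib.Helper4.BG12 Cfsg.Agent.Lib.Helper4.BGConj
open Cfsg.Agent.Lib.Helper4.BG13 Cfsg.Agent.Lib.Helper2.BG11 Cfsg.Agent.Lib.Helper2.BG12

universe u

variable {G : Type u} [Group G] [Finite G]

/-- `O_π(X)` is characteristic in `X` -/
theorem normalizer_le_normalizer_piCoreOf (π : Set ℕ) (X : Subgroup G) :
    Subgroup.normalizer (X : Set G) ≤ Subgroup.normalizer (piCoreOf π X : Set G) := by
  intro g hg
  rw [mem_normalizer_iff_cj] at hg ⊢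
  rw [← piCoreOf_cj, hg]

theorem cj_fittingOf_le (g : G) (X : Subgroup G) : cj g (fittingOf X) ≤ fittingOf (cj g X) := by
  apply le_fittingOf (cj_mono g (fittingOf_le X))
  · intro y hy
    rw [mem_cj] at hy
    have h1 := le_normalizer_fittingOf X hy
    rw [mem_normalizer_iff_cj] at h1 ⊢
    have e : y = g * (g⁻¹ * y * g) * g⁻¹ := by group
    rw [e, cj_mul, cj_mul, cj_inv_cj, h1]
  · haveI := isNilpotent_fittingOf X
    exact Group.nilpotent_of_mulEquiv
      ((fittingOf X).equivMapOfInjective (MulAut.conj g).toMonoidHom (MulAut.conj g).injective)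

theorem fittingOf_cj (g : G) (X : Subgroup G) : fittingOf (cj g X) = cj g (fittingOf X) := by
  apply le_antisymm _ (cj_fittingOf_le g X)
  have h := cj_fittingOf_le g⁻¹ (cj g X)
  rw [cj_inv_cj] at h
  have h2 := cj_mono g h
  rwa [cj_cj_inv] at h2

/-- `F(X)` is characteristic in `X` -/
theorem normalizer_le_normalizer_fittingOf (X : Subgroup G) :
    Subgroup.normalizer (X : Set G) ≤ Subgroup.normalizer (fittingOf X : Set G) := by
  intro g hg
  rw [mem_normalizer_iff_cj] at hg ⊢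
  rw [← fittingOf_cj, hg]

/-- the primes outside `σ(M)` -/
abbrev sigC (M : Subgroup G) : Set ℕ := {q | q.Prime ∧ q ∉ sigma M}

/-- `Y = O_{σ(M)'}(F(M))` -/
abbrev YM (M : Subgroup G) : Subgroup G := piCoreOf (sigC M) (fittingOf M)

theorem YM_le_fittingOf (M : Subgroup G) : YM M ≤ fittingOf M := piCoreOf_le _ _

theorem YM_le (M : Subgroup G) : YM M ≤ M := (YM_le_fittingOf M).trans (fittingOf_le M)

theorem le_normalizer_YM (M : Subgroup G) : M ≤ Subgroup.normalizer (YM M : Set G) :=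
  (le_normalizer_fittingOf M).trans (normalizer_le_normalizer_piCoreOf _ _)

theorem isNilpotent_YM (M : Subgroup G) : Group.IsNilpotent ↥(YM M) :=
  isNilpotent_of_le (isNilpotent_fittingOf M) (YM_le_fittingOf M)

theorem YM_not_sigma (M : Subgroup G) :
    ∀ p : ℕ, p.Prime → p ∣ Nat.card (YM M) → p ∉ sigma M := fun p hp hd =>
  (isPiNum_card_piCoreOf (sigC M) (fittingOf M) p hp hd).2

theorem YM_inf_sigmaCore (M : Subgroup G) : YM M ⊓ sigmaCore M = ⊥ := by
  apply disjoint_iff.mp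
  apply Subgroup.disjoint_of_coprime_natCard
  apply Nat.coprime_of_dvd
  intro q hq h1 h2
  exact YM_not_sigma M q hq h1 (isPiNum_card_piCoreOf (sigma M) M q hq h2)

theorem YM_le_centralizer (M : Subgroup G) :
    YM M ≤ Subgroup.centralizer (sigmaCore M : Set G) :=
  le_centralizer_of_normalize ((YM_le M).trans (le_normalizer_sigmaCore M))
    ((sigmaCore_le M).trans (le_normalizer_YM M)) (YM_inf_sigmaCore M)

variable {M : Subgroup G}

theorem YM_comm (hG : IsMinSimpleOddOrder G) (hM : IsCoatom M) : IsMulCommutative ↥(YM M) :=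
  isMulCommutative_of_nilpotent_of_sigma' hG hM (YM_le M) (isNilpotent_YM M) (YM_not_sigma M)

theorem YM_tau2 (hG : IsMinSimpleOddOrder G) (hM : IsCoatom M) {p : ℕ} (hp : p.Prime)
    (hd : p ∣ Nat.card (YM M)) : p ∈ tau2 M := by
  haveI : Fact p.Prime := ⟨hp⟩
  have hpσ := YM_not_sigma M p hp hd
  obtain ⟨P, -, hP⟩ := exists_sylIn_ge (p := p) (bot_le : (⊥ : Subgroup G) ≤ YM M) IsPGroup.of_bot
  have hP1 : P ≠ ⊥ := by
    intro h0
    have h2 := hP.2.2
    rw [h0, Subgroup.relIndex_bot_left] at h2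
    exact h2 hd
  have hn : M ≤ Subgroup.normalizer (P : Set G) :=
    le_normalizer_of_sylIn_nilpotent (isNilpotent_YM M) hP (le_normalizer_YM M)
  have hN := normalizer_eq_of_isCoatom hG hM hP1 (hP.1.trans (YM_le M)) hn
  rcases lemma_12_2a hG hM hP.2.1 hP1 hN.le with h | h
  · exact absurd h hpσ
  · exact h

theorem YM_prankLE_one (hG : IsMinSimpleOddOrder G) (hM : IsCoatom M) (p : ℕ) [hp : Fact p.Prime] :
    PRankLE p 1 ↥(YM M) := by
  by_contra hr
  obtain ⟨E, hEY, hE, hEcard⟩ := exists_elementary_of_not_pRankLE hr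
  have hpE : p ∣ Nat.card E := by
    obtain ⟨j, hj⟩ := IsPGroup.iff_card.mp (isPGroup_of_elementary hE)
    rw [hj] at hEcard ⊢
    have h3 : 1 < j := (Nat.pow_lt_pow_iff_right hp.out.one_lt).mp hEcard
    exact dvd_pow_self p (by omega)
  have hτ := YM_tau2 hG hM hp.out (hpE.trans (Subgroup.card_dvd_of_le hEY))
  have hE2 : Nat.card E = p ^ 2 := by
    apply card_eq_sq hE hEcard
    intro h
    exact not_pRankLE_of_elementary (hEY.trans (YM_le M)) hE h hτ.2.2.1
  have d : T2 M p E := ⟨hM, hτ.2.1, hEY.trans (YM_le M), hE, hE2⟩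
  exact d.not_le_centralizer_sigmaCore hG (sigmaCore_ne_bot hG hM)
    (hEY.trans (YM_le_centralizer M))

theorem YM_isCyclic (hG : IsMinSimpleOddOrder G) (hM : IsCoatom M) : IsCyclic ↥(YM M) := by
  haveI : IsZGroup ↥(YM M) := by
    refine ⟨fun p hp P => ?_⟩
    haveI : Fact p.Prime := ⟨hp⟩
    exact isCyclic_sylow_of_pRankLE_one (odd_card_sub hG (YM M)) (YM_prankLE_one hG hM p) P
  have hc := YM_comm hG hM
  exact isCyclic_of_comm_zgroup (fun a b => hc.is_comm.comm a b)

theorem isPiNum_of_isPGroup {π : Set ℕ} {p : ℕ} [hp : Fact p.Prime] (hpπ : p ∈ π) {N : Subgroup G}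
    (hN : IsPGroup p N) : IsPiNum π (Nat.card N) := by
  intro q hq hqd
  obtain ⟨k, hk⟩ := IsPGroup.iff_card.mp hN
  rw [hk] at hqd
  have := (Nat.prime_dvd_prime_iff_eq hq hp.out).mp (hq.dvd_of_dvd_pow hqd)
  rw [this]; exact hpπ

theorem fittingOf_eq_sup (M : Subgroup G) :
    fittingOf M = fittingOf (sigmaCore M) ⊔ YM M := by
  apply le_antisymm
  · rw [fittingOf_eq_iSup]
    apply iSup_le
    intro p
    haveI : Fact (p : ℕ).Prime := ⟨p.2⟩
    by_cases hpσ : (p : ℕ) ∈ sigma M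
    · refine le_trans ?_ le_sup_left
      have h1 : opOf (p : ℕ) M ≤ sigmaCore M :=
        le_piCoreOf (opOf_le _ M) (le_normalizer_opOf _ M)
          (isPiNum_of_isPGroup hpσ (opOf_isPGroup _ M))
      exact le_fittingOf h1 ((sigmaCore_le M).trans (le_normalizer_opOf _ M))
        (opOf_isPGroup _ M).isNilpotent
    · refine le_trans ?_ le_sup_right
      exact le_piCoreOf (opOf_le_fittingOf _ M)
        ((fittingOf_le M).trans (le_normalizer_opOf _ M))
        (isPiNum_of_isPGroup (π := sigC M) ⟨p.2, hpσ⟩ (opOf_isPGroup _ M))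
  · apply sup_le _ (YM_le_fittingOf M)
    apply le_fittingOf ((fittingOf_le _).trans (sigmaCore_le M))
    · exact (le_normalizer_sigmaCore M).trans (normalizer_le_normalizer_fittingOf _)
    · exact isNilpotent_fittingOf _

end Cfsg.Agent.Lib.Helper4.BG14
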