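import Mathlib
import Cfsg.Agent.Lib.Lead.CoprimeAction2
import Cfsg.Agent.Lib.Lead.CoprimeSylow5

set_option autoImplicit false
set_option linter.style.haveILetI false
set_option linter.unusedSectionVars false
set_option maxHeartbeats 1600000

/-! Tools for Bender–Glauberman Theorem 15.2: a central Sylow subgroup meets the derived subgroup
trivially; fixed points of a coprime operator group on a quotient. -/

namespace Cfsg.Agent.Lib.Helper4.BG23

open Cfsg.Agent.Lib.Lead
open scoped commutatorElement

universe u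

section

variable {H : Type u} [Group H] [Finite H]

/-- a central subgroup of `q`-power order and index prime to `q` meets the derived subgroup
trivially (transfer into the centre) -/
theorem inf_commutator_eq_bot_of_central {q : ℕ} [hq : Fact q.Prime] (S : Subgroup H)
    (hS : IsPGroup q S) (hc : S ≤ Subgroup.center H) (hidx : ¬ q ∣ S.index) :
    S ⊓ commutator H = ⊥ := by
  rw [eq_bot_iff]
  rintro x ⟨hxS, hxc⟩
  rw [Subgroup.mem_bot]
  have hker : commutator H ≤ (MonoidHom.transferCenterPow H).ker := by
    rw [commutator_def, Subgroup.commutator_le]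
    intro a _ b _
    rw [MonoidHom.mem_ker, commutatorElement_def, map_mul, map_mul, map_mul, map_inv, map_inv]
    have hcomm : MonoidHom.transferCenterPow H a * MonoidHom.transferCenterPow H b =
        MonoidHom.transferCenterPow H b * MonoidHom.transferCenterPow H a := by
      apply Subtype.ext
      rw [Subgroup.coe_mul, Subgroup.coe_mul]
      exact (Subgroup.mem_center_iff.mp (MonoidHom.transferCenterPow H a).2 _).symm
    rw [hcomm]
    group
  have h1 : MonoidHom.transferCenterPow H x = 1 := hker hxc
  have h2 : x ^ (Subgroup.center H).index = 1 := by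
    have h0 : ((MonoidHom.transferCenterPow H x : ↥(Subgroup.center H)) : H) =
        x ^ (Subgroup.center H).index := MonoidHom.transferCenterPow_apply x
    rw [h1] at h0
    exact h0.symm
  have hdvd : (Subgroup.center H).index ∣ S.index := Subgroup.index_dvd_of_le hc
  obtain ⟨j, hj⟩ := hS ⟨x, hxS⟩
  have h3 : x ^ q ^ j = 1 := by
    have h0 := congrArg Subtype.val hj
    rw [Subgroup.coe_pow, Subgroup.coe_one] at h0
    exact h0
  have hcop : (q ^ j).Coprime (Subgroup.center H).index := by
    apply Nat.Coprime.pow_left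
    rw [Nat.Prime.coprime_iff_not_dvd hq.out]
    exact fun h => hidx (h.trans hdvd)
  have h4 : orderOf x ∣ Nat.gcd (q ^ j) (Subgroup.center H).index :=
    Nat.dvd_gcd (orderOf_dvd_of_pow_eq_one h3) (orderOf_dvd_of_pow_eq_one h2)
  rw [hcop] at h4
  exact orderOf_eq_one_iff.mp (Nat.dvd_one.mp h4)

end

section

variable {Γ : Type u} [Group Γ] [Finite Γ]

/-- the fixed points of a coprime operator group `A` on the quotient `X / Y` are the images of the
fixed points on `X` -/
theorem map_inf_centralizer_of_coprime (X A Y : Subgroup Γ) [hX : X.Normal] [hY : Y.Normal]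
    (hYX : Y ≤ X) (hcop : (Nat.card A).Coprime (Nat.card X))
    (hsolv : Group.IsSolvable A ∨ Group.IsSolvable X) :
    X.map (QuotientGroup.mk' Y) ⊓
        Subgroup.centralizer ((A.map (QuotientGroup.mk' Y) : Subgroup (Γ ⧸ Y)) : Set (Γ ⧸ Y)) =
      (X ⊓ Subgroup.centralizer (A : Set Γ)).map (QuotientGroup.mk' Y) := by
  apply le_antisymm
  · rintro z ⟨⟨x, hx, rfl⟩, hzC⟩
    have hfix : ∀ a ∈ A, a * x * a⁻¹ * x⁻¹ ∈ Y := by
      intro a ha
      have h1 := (Subgroup.mem_centralizer_iff.mp hzC) (QuotientGroup.mk' Y a) ⟨a, ha, rfl⟩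
      rw [← QuotientGroup.eq_one_iff, ← QuotientGroup.mk'_apply]
      rw [map_mul, map_mul, map_mul, map_inv, map_inv, h1]
      group
    have hAX : A ≤ Subgroup.normalizer (X : Set Γ) := by
      rw [Subgroup.normalizer_eq_top_iff.mpr hX]; exact le_top
    have hXY : X ≤ Subgroup.normalizer (Y : Set Γ) := by
      rw [Subgroup.normalizer_eq_top_iff.mpr hY]; exact le_top
    have hAY : A ≤ Subgroup.normalizer (Y : Set Γ) := by
      rw [Subgroup.normalizer_eq_top_iff.mpr hY]; exact le_top
    obtain ⟨c, hc, hxc⟩ := coprime_fixed_coset A X hAX hcop hsolv Y hYX hXY hAY x hx hfix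
    refine ⟨c, hc, ?_⟩
    rw [QuotientGroup.mk'_apply, QuotientGroup.mk'_apply]
    symm
    rw [QuotientGroup.eq]
    exact hxc
  · rintro _ ⟨x, ⟨hx, hxC⟩, rfl⟩
    refine ⟨⟨x, hx, rfl⟩, ?_⟩
    apply Subgroup.mem_centralizer_iff.mpr
    rintro _ ⟨a, ha, rfl⟩
    rw [← map_mul, ← map_mul, (Subgroup.mem_centralizer_iff.mp hxC) a ha]

end

end Cfsg.Agent.Lib.Helper4.BG23
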