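import Mathlib
import Cfsg.Prelude.Def_EvenTechniques
import Cfsg.Agent.Lib.Helper3.Sig6
import Cfsg.Agent.Lib.Helper3.Gen3
import Cfsg.Agent.Lib.Helper6.PPrimeCore

set_option autoImplicit false

/-!
`k`-balance with respect to an elementary abelian subgroup: the subgroups `Δ_G(B)`.
-/

namespace Cfsg.Agent.Lib.Helper4.Balance

open Cfsg.Agent.Lib.Helper3.Sig Cfsg.Agent.Lib.Helper3.Gen

section
variable {G : Type*} [Group G]

theorem centralizerPPrimeCore_le_centralizer (p : ℕ) (a : G) :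
    Cfsg.centralizerPPrimeCore p a ≤ Subgroup.centralizer ({a} : Set G) :=
  Subgroup.map_subtype_le _

theorem card_centralizerPPrimeCore_coprime [Finite G] (p : ℕ) (a : G) :
    (Nat.card (Cfsg.centralizerPPrimeCore p a)).Coprime p := by
  unfold Cfsg.centralizerPPrimeCore
  rw [Nat.card_congr (Subgroup.equivMapOfInjective _ _ (Subgroup.subtype_injective _)).toEquiv.symm]
  exact Cfsg.Agent.Lib.Helper6.pPrimeCore_coprime p

/-- elements commuting with `a` normalize `O_{p'}(C_G(a))` -/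
theorem mem_normalizer_centralizerPPrimeCore (p : ℕ) {a b : G} (hab : b * a = a * b) :
    b ∈ Subgroup.normalizer ((Cfsg.centralizerPPrimeCore p a : Subgroup G) : Set G) := by
  have hb : b ∈ Subgroup.centralizer ({a} : Set G) := by
    rw [Subgroup.mem_centralizer_singleton_iff]; exact hab
  have key : ∀ c : ↥(Subgroup.centralizer ({a} : Set G)), ∀ x : G,
      x ∈ Cfsg.centralizerPPrimeCore p a → (c : G) * x * (c : G)⁻¹ ∈ Cfsg.centralizerPPrimeCore p a := by
    rintro c _ ⟨y, hy, rfl⟩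
    refine ⟨c * y * c⁻¹, ?_, rfl⟩
    exact (inferInstance : (Cfsg.pPrimeCore p ↥(Subgroup.centralizer ({a} : Set G))).Normal).conj_mem
      y hy c
  rw [Subgroup.mem_normalizer_iff]
  intro x
  constructor
  · exact key ⟨b, hb⟩ x
  · intro hx
    have := key ⟨b, hb⟩⁻¹ _ hx
    simpa [mul_assoc] using this

theorem delta_le_centralizerPPrimeCore (p : ℕ) {B : Subgroup G} {b : G} (hb : b ∈ B) (hb1 : b ≠ 1) :
    Cfsg.signalizerDelta p B ≤ Cfsg.centralizerPPrimeCore p b :=
  iInf_le (fun a : {a : G // a ∈ B ∧ a ≠ 1} => Cfsg.centralizerPPrimeCore p (a : G)) ⟨b, hb, hb1⟩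

theorem delta_antitone (p : ℕ) {B B' : Subgroup G} (h : B ≤ B') :
    Cfsg.signalizerDelta p B' ≤ Cfsg.signalizerDelta p B := by
  unfold Cfsg.signalizerDelta
  apply le_iInf
  rintro ⟨a, ha, ha1⟩
  exact iInf_le (fun a : {a : G // a ∈ B' ∧ a ≠ 1} => Cfsg.centralizerPPrimeCore p (a : G))
    ⟨a, h ha, ha1⟩

/-- an abelian group `A` normalizes `Δ_G(B)` for `B ≤ A` -/
theorem le_normalizer_delta (p : ℕ) {A B : Subgroup G} (hA : IsMulCommutative A) (hB : B ≤ A) :
    A ≤ Subgroup.normalizer ((Cfsg.signalizerDelta p B : Subgroup G) : Set G) := by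
  unfold Cfsg.signalizerDelta
  apply le_normalizer_iInf
  rintro ⟨b, hb, -⟩ x hx
  apply mem_normalizer_centralizerPPrimeCore
  have h1 : (⟨x, hx⟩ : A) * ⟨b, hB hb⟩ = ⟨b, hB hb⟩ * ⟨x, hx⟩ := hA.is_comm.comm _ _
  exact congrArg Subtype.val h1

end

end Cfsg.Agent.Lib.Helper4.Balance
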