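import Mathlib
import Cfsg.Agent.Lib.Helper4.ChiefEngel
import Cfsg.Agent.Lib.Lead.Core
import Cfsg.Agent.Lib.Helper6.PPrimeCore
import Cfsg.Agent.Lib.Helper2.PCore

set_option autoImplicit false
open scoped commutatorElement

/-!
General lemmas for the weak `L_{p'}`-balance statement `O_{p'}(N_X(R)) ≤ L̂_{p'}(X)`.
-/

namespace Cfsg.Agent.Lib.Helper4.LBal

open Cfsg

section General
variable {G : Type*} [Group G]

/-- for commuting elements of coprime orders, each is a power of the product -/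
theorem mem_zpowers_mul_of_coprime {a b : G} (hab : Commute a b)
    (hcop : (orderOf a).Coprime (orderOf b)) : b ∈ Subgroup.zpowers (a * b) := by
  have h1 : (a * b) ^ orderOf a = b ^ orderOf a := by
    rw [hab.mul_pow, pow_orderOf_eq_one, one_mul]
  have h2 : b ^ orderOf a ∈ Subgroup.zpowers (a * b) := by
    rw [← h1]; exact Subgroup.npow_mem_zpowers _ _
  obtain ⟨m, hm⟩ := exists_pow_eq_self_of_coprime hcop
  have h3 := Subgroup.pow_mem _ h2 m
  rwa [hm] at h3

theorem pow_mul_mem {D : Subgroup G} {c d : G} (hc : c ∈ Subgroup.normalizer (D : Set G))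
    (hd : d ∈ D) (k : ℕ) : ∃ e ∈ D, (c * d) ^ k = c ^ k * e := by
  induction k with
  | zero => exact ⟨1, D.one_mem, by simp⟩
  | succ k ih =>
    obtain ⟨e, he, hk⟩ := ih
    refine ⟨c⁻¹ * e * c * d, D.mul_mem ?_ hd, ?_⟩
    · have := (Subgroup.mem_normalizer_iff.1 (Subgroup.inv_mem _ hc) e).1 he
      simpa using this
    · rw [pow_succ, hk, pow_succ]
      group

/-- the final contradiction: a `p`-element `c` normalizing the `p'`-group `D` with `c d` conjugate
to `d ∈ D` is trivial -/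
theorem eq_one_of_mul_eq_conj [Finite G] {p : ℕ} [Fact p.Prime] {D : Subgroup G}
    (hD : (Nat.card D).Coprime p) {c d s : G} (hc : c ∈ Subgroup.normalizer (D : Set G))
    (hcp : ∃ a : ℕ, orderOf c = p ^ a) (hd : d ∈ D) (h : c * d = s⁻¹ * d * s) : c = 1 := by
  have h1 : (c * d) ^ orderOf d = 1 := by
    have e : s⁻¹ * d * s = s⁻¹ * d * (s⁻¹)⁻¹ := by rw [inv_inv]
    rw [h, e, conj_pow, pow_orderOf_eq_one]
    group
  obtain ⟨e, he, hk⟩ := pow_mul_mem hc hd (orderOf d)
  rw [h1] at hk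
  have h2 : c ^ orderOf d ∈ D := by
    have : c ^ orderOf d = e⁻¹ := eq_inv_of_mul_eq_one_left hk.symm
    rw [this]
    exact D.inv_mem he
  have h3 : (orderOf d).Coprime p :=
    Nat.Coprime.coprime_dvd_left (Subgroup.orderOf_dvd_natCard D hd) hD
  obtain ⟨a, ha⟩ := hcp
  have h4 : (orderOf d).Coprime (orderOf c) := by
    rw [ha]; exact Nat.Coprime.pow_right a h3
  obtain ⟨m, hm⟩ := exists_pow_eq_self_of_coprime h4
  have h5 : c ∈ D := by
    rw [← hm]; exact D.pow_mem h2 m
  exact Cfsg.Agent.Lib.Helper6.eq_one_of_pElement_of_coprime_card hD h5 ⟨a, ha⟩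

/-- in a group with `O_{p'} = 1`, the Fitting subgroup is a `p`-group -/
theorem fittingSubgroup_le_pCore [Finite G] {p : ℕ} [hp : Fact p.Prime]
    (h : pPrimeCore p G = ⊥) : fittingSubgroup G ≤ pCore p G := by
  rw [Cfsg.Agent.Lib.Lead.fittingSubgroup_eq_iSup_pCore]
  apply iSup_le
  intro q
  by_cases hq : (q : ℕ) = p
  · rw [hq]
  · have : Fact (q : ℕ).Prime := ⟨q.2⟩
    have h3 : (Nat.card (pCore (q : ℕ) G)).Coprime p := by
      obtain ⟨k, hk⟩ := IsPGroup.iff_card.mp (Cfsg.Agent.Lib.Helper2.pCore_isPGroup (G := G) (q : ℕ))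
      rw [hk]
      exact Nat.Coprime.pow_left _ ((Nat.coprime_primes q.2 hp.out).mpr hq)
    have h4 := Cfsg.Agent.Lib.Helper6.le_pPrimeCore (pCore_normal (q : ℕ) G) h3
    rw [h, le_bot_iff] at h4
    rw [h4]
    exact bot_le

theorem iterCommutator_le_of_le_normalizer {A T : Subgroup G}
    (hT : T ≤ Subgroup.normalizer (A : Set G)) (k : ℕ) : iterCommutator A T k ≤ A := by
  induction k with
  | zero => exact le_rfl
  | succ k ih =>
    show ⁅iterCommutator A T k, T⁆ ≤ A
    refine (Subgroup.commutator_mono ih le_rfl).trans ?_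
    rw [Subgroup.commutator_le]
    intro a ha t ht
    have h1 := (Subgroup.mem_normalizer_iff.1 (hT ht) a⁻¹).1 (A.inv_mem ha)
    have : ⁅a, t⁆ = a * (t * a⁻¹ * t⁻¹) := by rw [commutatorElement_def]; group
    rw [this]
    exact A.mul_mem ha h1

/-- in a nilpotent group `T`, a `T`-invariant subgroup `A ≤ T` not contained in `B` has an
element outside `B` that is central modulo `B` -/
theorem exists_central_mod {A B T : Subgroup G} (hnil : Group.IsNilpotent T) (hAT : A ≤ T)
    (hT : T ≤ Subgroup.normalizer (A : Set G)) (hAB : ¬ A ≤ B) :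
    ∃ s ∈ A, s ∉ B ∧ ∀ t ∈ T, ⁅s, t⁆ ∈ B := by
  classical
  obtain ⟨n, hn⟩ := (Subgroup.isNilpotent_iff_lowerCentralSeries (S := T)).mp hnil
  have hex : ∃ k, iterCommutator A T k ≤ B := ⟨n, by
    have := iterCommutator_le_lowerCentralSeries T A hAT n
    rw [hn] at this
    exact this.trans bot_le⟩
  set k := Nat.find hex with hk
  have hk1 : iterCommutator A T k ≤ B := Nat.find_spec hex
  have hk0 : k ≠ 0 := by
    intro h0
    rw [h0] at hk1
    exact hAB hk1
  obtain ⟨j, hj⟩ := Nat.exists_eq_succ_of_ne_zero hk0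
  have hj1 : ¬ iterCommutator A T j ≤ B := Nat.find_min hex (by rw [← hk, hj]; exact Nat.lt_succ_self j)
  obtain ⟨s, hs, hsB⟩ := SetLike.not_le_iff_exists.1 hj1
  refine ⟨s, iterCommutator_le_of_le_normalizer hT j hs, hsB, ?_⟩
  intro t ht
  apply hk1
  rw [hj]
  exact Subgroup.commutator_mem_commutator hs ht

end General

end Cfsg.Agent.Lib.Helper4.LBal
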