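import Mathlib
import Cfsg.Agent.Lib.Helper4.LBal1
import Cfsg.Agent.Lib.Helper3.CharP1
import Cfsg.Agent.Lib.Helper3.Components9
import Cfsg.Agent.Lib.Helper3.PComp8
import Cfsg.Agent.Lib.Helper1.Conj
import Cfsg.Agent.Lib.Helper6.SylowIdx

set_option autoImplicit false
open scoped commutatorElement

/-!
Weak `L_{p'}`-balance: Part A (centralizing `O_p`) and the orbit product of a component.
-/

namespace Cfsg.Agent.Lib.Helper4.LBal

open Cfsg Cfsg.Agent.Lib.Helper1 Cfsg.Agent.Lib.Helper3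

section PartA
variable {Y : Type*} [Group Y] [Finite Y] {p : ℕ} [hp : Fact p.Prime]

/-- Part A: a `p'`-group `D` centralizing the `p`-group `R` and normalized by `C(R)` centralizes
`O_p(Y)` -/
theorem le_centralizer_pCore {R D : Subgroup Y} (hR : IsPGroup p R)
    (hD : (Nat.card D).Coprime p) (hRD : D ≤ Subgroup.centralizer (R : Set Y))
    (hND : Subgroup.centralizer (R : Set Y) ≤ Subgroup.normalizer (D : Set Y)) :
    D ≤ Subgroup.centralizer (pCore p Y : Set Y) := by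
  have hn : Subgroup.normalizer ((pCore p Y : Subgroup Y) : Set Y) = ⊤ :=
    Subgroup.normalizer_eq_top_iff.2 (pCore_normal p Y)
  apply le_centralizer_of_coprime (Cfsg.Agent.Lib.Helper2.pCore_isPGroup p) hR
    (by rw [hn]; exact le_top) hD (by rw [hn]; exact le_top) hRD
  intro d hd
  rw [Subgroup.mem_centralizer_iff]
  intro c hc
  have hcQ : c ∈ pCore p Y := hc.1
  have hcN := hND hc.2
  have h1 : c * d * c⁻¹ * d⁻¹ ∈ D :=
    D.mul_mem ((Subgroup.mem_normalizer_iff.1 hcN d).1 hd) (D.inv_mem hd)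
  have h2 : c * d * c⁻¹ * d⁻¹ ∈ pCore p Y := by
    have : c * d * c⁻¹ * d⁻¹ = c * (d * c⁻¹ * d⁻¹) := by group
    rw [this]
    exact mul_mem hcQ ((pCore_normal p Y).conj_mem _ (inv_mem hcQ) d)
  have h3 : c * d * c⁻¹ * d⁻¹ = 1 := by
    have h4 := Cfsg.Agent.Lib.Helper6.isPGroup_inf_coprime_eq_bot hD
      (Cfsg.Agent.Lib.Helper2.pCore_isPGroup (G := Y) p)
    have h5 : c * d * c⁻¹ * d⁻¹ ∈ pCore p Y ⊓ D := ⟨h2, h1⟩
    rw [h4] at h5
    exact h5
  calc c * d = (c * d * c⁻¹ * d⁻¹) * (d * c) := by group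
    _ = d * c := by rw [h3, one_mul]

end PartA

section Orbit
variable {Y : Type*} [Group Y]

/-- the product of the `R`-conjugates of `L` -/
def orbitProd (R L : Subgroup Y) : Subgroup Y := ⨆ r : ↥R, cj (r : Y) L

theorem cj_le_orbitProd {R L : Subgroup Y} {r : Y} (hr : r ∈ R) : cj r L ≤ orbitProd R L :=
  le_iSup (fun r : ↥R => cj (r : Y) L) ⟨r, hr⟩

theorem le_orbitProd (R L : Subgroup Y) : L ≤ orbitProd R L := by
  have := cj_le_orbitProd (L := L) R.one_mem
  rwa [cj_one] at this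

theorem cj_iSup {ι : Sort*} (g : Y) (f : ι → Subgroup Y) : cj g (⨆ i, f i) = ⨆ i, cj g (f i) :=
  Subgroup.map_iSup _ _

theorem cj_orbitProd (g : Y) (R L : Subgroup Y) :
    cj g (orbitProd R L) = ⨆ r : ↥R, cj (g * (r : Y)) L := by
  unfold orbitProd
  rw [cj_iSup]
  exact iSup_congr fun r => cj_cj g (r : Y) L

theorem le_normalizer_orbitProd (R L : Subgroup Y) :
    R ≤ Subgroup.normalizer ((orbitProd R L : Subgroup Y) : Set Y) := by
  intro r' hr'
  apply mem_normalizer_of_cj_eq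
  rw [cj_orbitProd]
  apply le_antisymm
  · apply iSup_le
    intro r
    exact cj_le_orbitProd (R.mul_mem hr' r.2)
  · apply iSup_le
    intro r
    have h1 : cj (r : Y) L = cj (r' * (r'⁻¹ * (r : Y))) L := by
      congr 1
      group
    rw [h1]
    exact le_iSup (fun r : ↥R => cj (r' * (r : Y)) L) ⟨r'⁻¹ * r, R.mul_mem (R.inv_mem hr') r.2⟩

end Orbit

end Cfsg.Agent.Lib.Helper4.LBal
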