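import Mathlib
import Cfsg.Agent.Lib.Helper4.LBal2

set_option autoImplicit false
open scoped commutatorElement

/-!
Weak `L_{p'}`-balance: facts about the orbit product of a component.
-/

namespace Cfsg.Agent.Lib.Helper4.LBal

open Cfsg Cfsg.Agent.Lib.Helper1 Cfsg.Agent.Lib.Helper3

section Comp
variable {Y : Type*} [Group Y]

theorem orbitProd_le_layer {R L : Subgroup Y} (hL : IsComponent L) :
    orbitProd R L ≤ layer Y :=
  iSup_le fun r => IsComponent.le_layer (IsComponent.map_conj hL (r : Y))

/-- if no `R`-conjugate of `L` equals `cj d L` and `d` centralizes `R`, then the orbit products of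
`L` and `cj d L` commute -/
theorem commutator_orbitProd_cj {R L : Subgroup Y} (hL : IsComponent L) {d : Y}
    (hd : d ∈ Subgroup.centralizer (R : Set Y)) (hne : ∀ r ∈ R, cj d L ≠ cj r L) :
    ⁅orbitProd R L, cj d (orbitProd R L)⁆ = ⊥ := by
  rw [Subgroup.commutator_eq_bot_iff_le_centralizer]
  apply iSup_le
  intro r₁
  rw [Subgroup.le_centralizer_iff, cj_orbitProd]
  apply iSup_le
  intro r₂
  rw [← Subgroup.le_centralizer_iff, ← Subgroup.commutator_eq_bot_iff_le_centralizer]
  apply IsComponent.commutator_eq_bot_of_ne (IsComponent.map_conj hL _) (IsComponent.map_conj hL _)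
  intro h
  have hcomm : d * (r₂ : Y) = (r₂ : Y) * d := by
    have := (Subgroup.mem_centralizer_iff.1 hd) (r₂ : Y) r₂.2
    exact this.symm
  apply hne ((r₂ : Y)⁻¹ * (r₁ : Y)) (R.mul_mem (R.inv_mem r₂.2) r₁.2)
  have h' : cj (r₁ : Y) L = cj (d * (r₂ : Y)) L := h
  have h2 : cj ((r₂ : Y)⁻¹) (cj (r₁ : Y) L) = cj ((r₂ : Y)⁻¹) (cj (d * (r₂ : Y)) L) := by
    rw [h']
  rw [cj_cj, cj_cj, hcomm] at h2
  rw [h2]
  congr 1
  group

/-- the centre of the orbit product lies in the Fitting subgroup -/
theorem center_orbitProd_le [Finite Y] {R L : Subgroup Y} (hL : IsComponent L) :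
    orbitProd R L ⊓ Subgroup.centralizer ((orbitProd R L : Subgroup Y) : Set Y) ≤
      fittingSubgroup Y := by
  set M := orbitProd R L with hM
  have h1 : ⁅layer Y, M ⊓ Subgroup.centralizer (M : Set Y)⁆ = ⊥ := by
    apply commutator_layer_eq_bot_of_forall
    intro K hK
    by_cases hex : ∃ r ∈ R, K = cj r L
    · obtain ⟨r, hr, rfl⟩ := hex
      rw [eq_bot_iff]
      have h2 : ⁅M, Subgroup.centralizer (M : Set Y)⁆ = ⊥ := by
        rw [Subgroup.commutator_comm, Subgroup.commutator_eq_bot_iff_le_centralizer]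
      rw [← h2]
      exact Subgroup.commutator_mono (cj_le_orbitProd hr) inf_le_right
    · push Not at hex
      rw [eq_bot_iff]
      have h2 : ⁅K, M⁆ = ⊥ := by
        rw [Subgroup.commutator_eq_bot_iff_le_centralizer, Subgroup.le_centralizer_iff]
        apply iSup_le
        intro r
        rw [← Subgroup.le_centralizer_iff, ← Subgroup.commutator_eq_bot_iff_le_centralizer]
        exact IsComponent.commutator_eq_bot_of_ne hK (IsComponent.map_conj hL _) (hex r r.2)
      rw [← h2]
      exact Subgroup.commutator_mono le_rfl inf_le_left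
  have h3 : M ⊓ Subgroup.centralizer (M : Set Y) ≤
      layer Y ⊓ Subgroup.centralizer ((layer Y : Subgroup Y) : Set Y) := by
    apply le_inf (inf_le_left.trans (orbitProd_le_layer hL))
    rw [Subgroup.commutator_comm, Subgroup.commutator_eq_bot_iff_le_centralizer] at h1
    exact h1
  have h4 := center_layer_map_subtype (G := Y)
  rw [center_map_subtype] at h4
  rw [h4] at h3
  exact h3.trans inf_le_left

/-- a `p`-element of a component outside its centre -/
theorem exists_pElement_not_central [Finite Y] {p : ℕ} [hp : Fact p.Prime]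
    (hY : pPrimeCore p Y = ⊥) {L : Subgroup Y} (hL : IsComponent L) :
    ∃ x ∈ L, IsPGroup p (Subgroup.zpowers x) ∧ x ∉ Subgroup.centralizer (L : Set Y) := by
  obtain ⟨P⟩ : Nonempty (Sylow p ↥L) := inferInstance
  have hnot : ¬ (P : Subgroup ↥L) ≤ Subgroup.center ↥L := by
    intro h
    have h1 := coprime_card_of_perfect_of_sylow_le_center
      (IsQuasisimple.commutator_eq_top hL.2) P h
    have h2 := IsComponent.dvd_card hY hL
    exact (Nat.Prime.coprime_iff_not_dvd hp.out).1 h1.symm h2
  obtain ⟨y, hyP, hyZ⟩ := SetLike.not_le_iff_exists.1 hnot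
  refine ⟨(y : Y), y.2, ?_, ?_⟩
  · have h1 : IsPGroup p (Subgroup.zpowers y) :=
      P.2.to_le (Subgroup.zpowers_le.2 hyP)
    have h2 : Subgroup.zpowers (y : Y) = (Subgroup.zpowers y).map L.subtype := by
      rw [MonoidHom.map_zpowers]
      rfl
    rw [h2]
    exact h1.map _
  · intro h
    apply hyZ
    rw [Subgroup.mem_center_iff]
    intro g
    apply Subtype.ext
    exact (Subgroup.mem_centralizer_iff.1 h) (g : Y) g.2

end Comp

end Cfsg.Agent.Lib.Helper4.LBal
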