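import Mathlib
import Cfsg.Agent.Lib.Helper4.LBal3

set_option autoImplicit false
open scoped commutatorElement

/-!
Weak `L_{p'}`-balance: Part B, `D` normalizes every component.
-/

namespace Cfsg.Agent.Lib.Helper4.LBal

open Cfsg Cfsg.Agent.Lib.Helper1 Cfsg.Agent.Lib.Helper3

section Algebra
variable {G : Type*} [Group G]

theorem comm_aux {s r d : G} (h1 : d * ⁅s, r⁆ = ⁅s, r⁆ * d) (h2 : r * d = d * r) :
    r * (s⁻¹ * (d * s * d⁻¹)) = (s⁻¹ * (d * s * d⁻¹)) * r := by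
  have hA : d * (s * r * s⁻¹) = (s * r * s⁻¹) * d := by
    have e : s * r * s⁻¹ = ⁅s, r⁆ * r := by rw [commutatorElement_def]; group
    rw [e]
    calc d * (⁅s, r⁆ * r) = (d * ⁅s, r⁆) * r := by group
      _ = (⁅s, r⁆ * d) * r := by rw [h1]
      _ = ⁅s, r⁆ * (d * r) := by group
      _ = ⁅s, r⁆ * (r * d) := by rw [h2]
      _ = (⁅s, r⁆ * r) * d := by group
  have h3 : r * d⁻¹ = d⁻¹ * r := by
    calc r * d⁻¹ = d⁻¹ * (d * r) * d⁻¹ := by group
      _ = d⁻¹ * (r * d) * d⁻¹ := by rw [h2]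
      _ = d⁻¹ * r := by group
  calc r * (s⁻¹ * (d * s * d⁻¹)) = s⁻¹ * ((s * r * s⁻¹) * d) * s * d⁻¹ := by group
    _ = s⁻¹ * (d * (s * r * s⁻¹)) * s * d⁻¹ := by rw [hA]
    _ = s⁻¹ * d * s * (r * d⁻¹) := by group
    _ = s⁻¹ * d * s * (d⁻¹ * r) := by rw [h3]
    _ = (s⁻¹ * (d * s * d⁻¹)) * r := by group

theorem orderOf_mul_pow_of_commute {p : ℕ} (hp : p.Prime) {a b : G} (hab : Commute a b)
    (ha : ∃ k : ℕ, orderOf a = p ^ k) (hb : ∃ k : ℕ, orderOf b = p ^ k) :
    ∃ k : ℕ, orderOf (a * b) = p ^ k := by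
  obtain ⟨k, hk⟩ := ha
  obtain ⟨l, hl⟩ := hb
  have h1 : (a * b) ^ (p ^ (k + l)) = 1 := by
    rw [hab.mul_pow, pow_add, pow_mul, ← hk, pow_orderOf_eq_one, one_pow, mul_comm (orderOf a),
      pow_mul, ← hl, pow_orderOf_eq_one, one_pow, one_mul]
  obtain ⟨j, -, hj⟩ := (Nat.dvd_prime_pow hp).1 (orderOf_dvd_of_pow_eq_one h1)
  exact ⟨j, hj⟩

end Algebra

section PartB
variable {Y : Type*} [Group Y] [Finite Y] {p : ℕ} [hp : Fact p.Prime]

theorem orderOf_of_mem_isPGroup {T : Subgroup Y} (hT : IsPGroup p T) {s : Y} (hs : s ∈ T) :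
    ∃ k : ℕ, orderOf s = p ^ k := by
  obtain ⟨k, hk⟩ := IsPGroup.iff_orderOf.mp hT ⟨s, hs⟩
  rw [Subgroup.orderOf_mk] at hk
  exact ⟨k, hk⟩

/-- Part B: `D` normalizes every component -/
theorem le_normalizer_component (hY : pPrimeCore p Y = ⊥) {R D : Subgroup Y}
    (hR : IsPGroup p R) (hD : (Nat.card D).Coprime p)
    (hRD : D ≤ Subgroup.centralizer (R : Set Y))
    (hND : Subgroup.centralizer (R : Set Y) ≤ Subgroup.normalizer (D : Set Y))
    {L : Subgroup Y} (hL : IsComponent L) : D ≤ Subgroup.normalizer (L : Set Y) := by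
  classical
  have hDP := le_centralizer_pCore hR hD hRD hND
  intro d hd
  have hdp : (orderOf d).Coprime p :=
    Nat.Coprime.coprime_dvd_left (Subgroup.orderOf_dvd_natCard D hd) hD
  by_cases hcase : ∃ r ∈ R, cj d L = cj r L
  · obtain ⟨r, hr, hrd⟩ := hcase
    have h1 : r⁻¹ * d ∈ Subgroup.normalizer (L : Set Y) := by
      apply mem_normalizer_of_cj_eq
      rw [← cj_cj, hrd, cj_cj, inv_mul_cancel, cj_one]
    have hrd' : r * d = d * r := (Subgroup.mem_centralizer_iff.1 (hRD hd)) r hr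
    have hcomm : Commute r⁻¹ d := by
      show r⁻¹ * d = d * r⁻¹
      calc r⁻¹ * d = r⁻¹ * (d * r) * r⁻¹ := by group
        _ = r⁻¹ * (r * d) * r⁻¹ := by rw [hrd']
        _ = d * r⁻¹ := by group
    have hcop : (orderOf r⁻¹).Coprime (orderOf d) := by
      rw [orderOf_inv]
      obtain ⟨k, hk⟩ := orderOf_of_mem_isPGroup hR hr
      rw [hk]
      exact (Nat.Coprime.pow_right k hdp).symm
    have h2 := mem_zpowers_mul_of_coprime hcomm hcop
    exact (Subgroup.zpowers_le.2 h1) h2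
  · push Not at hcase
    exfalso
    set M := orbitProd R L with hMdef
    have hMd : ⁅M, cj d M⁆ = ⊥ := commutator_orbitProd_cj hL (hRD hd) hcase
    have hMd' : cj d M ≤ Subgroup.centralizer (M : Set Y) := by
      rw [Subgroup.commutator_eq_bot_iff_le_centralizer, Subgroup.le_centralizer_iff] at hMd
      exact hMd
    have hRM : R ≤ Subgroup.normalizer (M : Set Y) := le_normalizer_orbitProd R L
    obtain ⟨x, hxL, hxp, hxZ⟩ := exists_pElement_not_central hY hL
    have hxM : x ∈ M := le_orbitProd R L hxL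
    obtain ⟨c, hc, T, hTN, hTp, hRT, hxT⟩ :=
      Cfsg.Agent.Lib.Helper6.exists_common_pGroup (Subgroup.normalizer (M : Set Y)) R
        (Subgroup.zpowers x) hRM (Subgroup.zpowers_le.2 (Subgroup.le_normalizer hxM)) hR hxp
    have hx'T : c * x * c⁻¹ ∈ T := hxT ⟨x, Subgroup.mem_zpowers x, rfl⟩
    have hx'M : c * x * c⁻¹ ∈ M := (Subgroup.mem_normalizer_iff.1 hc x).1 hxM
    have hx'Z : c * x * c⁻¹ ∉ Subgroup.centralizer (M : Set Y) := by
      intro h
      apply hxZ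
      have hcN := Cfsg.Agent.Lib.Helper2.normalizer_le_normalizer_centralizer M
        (Subgroup.inv_mem _ hc)
      have h2 := (Subgroup.mem_normalizer_iff.1 hcN (c * x * c⁻¹)).1 h
      have e : c⁻¹ * (c * x * c⁻¹) * c⁻¹⁻¹ = x := by group
      rw [e] at h2
      exact Subgroup.centralizer_le (le_orbitProd R L) h2
    have hTA : T ≤ Subgroup.normalizer ((T ⊓ M : Subgroup Y) : Set Y) :=
      (le_inf Subgroup.le_normalizer hTN).trans Subgroup.inf_normalizer_le_normalizer_inf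
    obtain ⟨s, hsA, hsB, hst⟩ := exists_central_mod (A := T ⊓ M)
      (B := Subgroup.centralizer (M : Set Y)) (T := T) hTp.isNilpotent inf_le_left hTA
      (fun h => hx'Z (h ⟨hx'T, hx'M⟩))
    have hsM : s ∈ M := hsA.2
    have hsT : s ∈ T := hsA.1
    have hc'R : s⁻¹ * (d * s * d⁻¹) ∈ Subgroup.centralizer (R : Set Y) := by
      rw [Subgroup.mem_centralizer_iff]
      intro r hr
      have hzM : ⁅s, r⁆ ∈ M := by
        have h1 := (Subgroup.mem_normalizer_iff.1 (hRM hr) s⁻¹).1 (M.inv_mem hsM)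
        have e : ⁅s, r⁆ = s * (r * s⁻¹ * r⁻¹) := by rw [commutatorElement_def]; group
        rw [e]
        exact M.mul_mem hsM h1
      have hzF : ⁅s, r⁆ ∈ pCore p Y :=
        fittingSubgroup_le_pCore hY (center_orbitProd_le hL ⟨hzM, hst r (hRT hr)⟩)
      have hzd : d * ⁅s, r⁆ = ⁅s, r⁆ * d :=
        ((Subgroup.mem_centralizer_iff.1 (hDP hd)) _ hzF).symm
      have hrd' : r * d = d * r := (Subgroup.mem_centralizer_iff.1 (hRD hd)) r hr
      exact comm_aux hzd hrd'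
    have hdsd : d * s * d⁻¹ ∈ cj d M := conj_mem_cj d M hsM
    have hc'p : ∃ a : ℕ, orderOf (s⁻¹ * (d * s * d⁻¹)) = p ^ a := by
      apply orderOf_mul_pow_of_commute hp.out
      · show s⁻¹ * (d * s * d⁻¹) = (d * s * d⁻¹) * s⁻¹
        exact ((Subgroup.mem_centralizer_iff.1 (hMd' hdsd)) s⁻¹ (M.inv_mem hsM))
      · rw [orderOf_inv]; exact orderOf_of_mem_isPGroup hTp hsT
      · have e : d * s * d⁻¹ = (MulAut.conj d) s := rfl
        rw [e, MulEquiv.orderOf_eq]
        exact orderOf_of_mem_isPGroup hTp hsT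
    have hc'1 : s⁻¹ * (d * s * d⁻¹) ≠ 1 := by
      intro h
      apply hsB
      have e : d * s * d⁻¹ = s := by
        calc d * s * d⁻¹ = s * (s⁻¹ * (d * s * d⁻¹)) := by group
          _ = s := by rw [h, mul_one]
      rw [e] at hdsd
      exact hMd' hdsd
    apply hc'1
    apply eq_one_of_mul_eq_conj hD (hND hc'R) hc'p hd (s := s)
    group

end PartB

end Cfsg.Agent.Lib.Helper4.LBal
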