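import Mathlib
import Cfsg.Agent.Lib.Helper4.LBal4
import Cfsg.Agent.Lib.Helper3.LocalP1

set_option autoImplicit false
open scoped commutatorElement

/-!
`L_{p'}`-balance under the Schreier property: a perfect subgroup `L ≤ C(R)` with
`[L, E(Y) ∩ C(R)]` a `p'`-group normalizes every component of `Y` (`O_{p'}(Y) = 1`).
-/

namespace Cfsg.Agent.Lib.Helper4.LBal

open Cfsg Cfsg.Agent.Lib.Helper1 Cfsg.Agent.Lib.Helper3

section Index2
variable {G : Type*} [Group G]

/-- a subgroup `H` of `L` with `L = H ∪ lH` contains the commutator subgroup of `L` -/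
theorem commutator_le_of_forall_mem_or {L H : Subgroup G} (hHL : H ≤ L) {l : G} (hl : l ∈ L)
    (h : ∀ x ∈ L, x ∈ H ∨ l⁻¹ * x ∈ H) : ⁅L, L⁆ ≤ H := by
  by_cases hlH : l ∈ H
  · -- then `L = H`
    have hLH : L ≤ H := by
      intro x hx
      rcases h x hx with h1 | h1
      · exact h1
      · have : x = l * (l⁻¹ * x) := by group
        rw [this]; exact H.mul_mem hlH h1
    exact (Subgroup.commutator_le_self L).trans hLH
  -- normality
  have hnorm : ∀ x ∈ L, ∀ y ∈ H, x * y * x⁻¹ ∈ H := by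
    intro x hx y hy
    rcases h x hx with h1 | h1
    · exact H.mul_mem (H.mul_mem h1 hy) (H.inv_mem h1)
    · set h' := (l⁻¹ * x) * y * (l⁻¹ * x)⁻¹ with hh'
      have hh'H : h' ∈ H := H.mul_mem (H.mul_mem h1 hy) (H.inv_mem h1)
      have e : x * y * x⁻¹ = l * h' * l⁻¹ := by rw [hh']; group
      rw [e]
      have hmem : l * h' * l⁻¹ ∈ L := L.mul_mem (L.mul_mem hl (hHL hh'H)) (L.inv_mem hl)
      rcases h _ hmem with h2 | h2
      · exact h2
      · exfalso
        apply hlH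
        have e2 : l⁻¹ * (l * h' * l⁻¹) = h' * l⁻¹ := by group
        rw [e2] at h2
        have h3 : l⁻¹ ∈ H := by
          have : l⁻¹ = h'⁻¹ * (h' * l⁻¹) := by group
          rw [this]; exact H.mul_mem (H.inv_mem hh'H) h2
        have := H.inv_mem h3
        rwa [inv_inv] at this
  rw [Subgroup.commutator_le]
  intro x hx y hy
  rw [commutatorElement_def]
  rcases h x hx with h1 | h1
  · have h2 := hnorm y hy x⁻¹ (H.inv_mem h1)
    have e : x * y * x⁻¹ * y⁻¹ = x * (y * x⁻¹ * y⁻¹) := by group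
    rw [e]; exact H.mul_mem h1 h2
  · rcases h y hy with h2 | h2
    · have h3 := hnorm x hx y h2
      exact H.mul_mem h3 (H.inv_mem h2)
    · -- `y = x h3`
      set h3 := x⁻¹ * y with hh3
      have hh3H : h3 ∈ H := by
        have : h3 = (l⁻¹ * x)⁻¹ * (l⁻¹ * y) := by rw [hh3]; group
        rw [this]; exact H.mul_mem (H.inv_mem h1) h2
      have e : x * y * x⁻¹ * y⁻¹ = x * ((x * h3 * x⁻¹) * h3⁻¹) * x⁻¹ := by rw [hh3]; group
      rw [e]
      exact hnorm x hx _ (H.mul_mem (hnorm x hx h3 hh3H) (H.inv_mem hh3H))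

end Index2

section Key
variable {Y : Type*} [Group Y] [Finite Y] {p : ℕ} [hp : Fact p.Prime]

/-- a `p`-element of the orbit product `M` of a component, non-central in `M`, whose commutators
with `R` lie in `O_p(Y)` -/
theorem exists_key_element (hY : pPrimeCore p Y = ⊥) {R K : Subgroup Y} (hR : IsPGroup p R)
    (hK : IsComponent K) :
    ∃ s ∈ orbitProd R K, (∃ a : ℕ, orderOf s = p ^ a) ∧
      s ∉ Subgroup.centralizer ((orbitProd R K : Subgroup Y) : Set Y) ∧
      ∀ r ∈ R, ⁅s, r⁆ ∈ pCore p Y := by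
  classical
  set M := orbitProd R K with hMdef
  have hRM : R ≤ Subgroup.normalizer (M : Set Y) := le_normalizer_orbitProd R K
  obtain ⟨x, hxL, hxp, hxZ⟩ := exists_pElement_not_central hY hK
  have hxM : x ∈ M := le_orbitProd R K hxL
  obtain ⟨c, hc, T, hTN, hTp, hRT, hxT⟩ :=
    Cfsg.Agent.Lib.Helper6.exists_common_pGroup (Subgroup.normalizer (M : Set Y)) R
      (Subgroup.zpowers x) hRM (Subgroup.zpowers_le.2 (Subgroup.le_normalizer hxM)) hR hxp
  have hx'T : c * x * c⁻¹ ∈ T := hxT ⟨x, Subgroup.mem_zpowers x, rfl⟩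
  have hx'M : c * x * c⁻¹ ∈ M := (Subgroup.mem_normalizer_iff.1 hc x).1 hxM
  have hx'Z : c * x * c⁻¹ ∉ Subgroup.centralizer (M : Set Y) := by
    intro h
    apply hxZ
    have hcN := Cfsg.Agent.Lib.Helper2.normalizer_le_normalizer_centralizer M
      (Subgroup.inv_mem _ hc)
    have h2 := (Subgroup.mem_normalizer_iff.1 hcN (c * x * c⁻¹)).1 h
    have e : c⁻¹ * (c * x * c⁻¹) * c⁻¹⁻¹ = x := by group
    rw [e] at h2
    exact Subgroup.centralizer_le (le_orbitProd R K) h2
  have hTA : T ≤ Subgroup.normalizer ((T ⊓ M : Subgroup Y) : Set Y) :=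
    (le_inf Subgroup.le_normalizer hTN).trans Subgroup.inf_normalizer_le_normalizer_inf
  obtain ⟨s, hsA, hsB, hst⟩ := exists_central_mod (A := T ⊓ M)
    (B := Subgroup.centralizer (M : Set Y)) (T := T) hTp.isNilpotent inf_le_left hTA
    (fun h => hx'Z (h ⟨hx'T, hx'M⟩))
  refine ⟨s, hsA.2, orderOf_of_mem_isPGroup hTp hsA.1, hsB, ?_⟩
  intro r hr
  have hzM : ⁅s, r⁆ ∈ M := by
    have h1 := (Subgroup.mem_normalizer_iff.1 (hRM hr) s⁻¹).1 (M.inv_mem hsA.2)
    have e : ⁅s, r⁆ = s * (r * s⁻¹ * r⁻¹) := by rw [commutatorElement_def]; group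
    rw [e]
    exact M.mul_mem hsA.2 h1
  exact fittingSubgroup_le_pCore hY (center_orbitProd_le hK ⟨hzM, hst r (hRT hr)⟩)

end Key

end Cfsg.Agent.Lib.Helper4.LBal
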