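import Mathlib
import Cfsg.Agent.Lib.Helper4.LBal5

set_option autoImplicit false
open scoped commutatorElement

/-!
`L_{p'}`-balance under the Schreier property: the perfect subgroup `L` preserves every `R`-orbit
of components.
-/

namespace Cfsg.Agent.Lib.Helper4.LBal

open Cfsg Cfsg.Agent.Lib.Helper1 Cfsg.Agent.Lib.Helper3

section Orb
variable {Y : Type*} [Group Y]

theorem cj_comm {g r : Y} (h : g * r = r * g) (K : Subgroup Y) :
    cj g (cj r K) = cj r (cj g K) := by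
  rw [cj_cj, cj_cj, h]

theorem cj_inv_eq_of_cj_eq {g r : Y} (h : g * r = r * g) {K : Subgroup Y}
    (hgr : cj g K = cj r K) : cj g⁻¹ K = cj r⁻¹ K := by
  have h1 : cj r (cj g⁻¹ K) = K := by
    have hc : g⁻¹ * r = r * g⁻¹ := by
      calc g⁻¹ * r = g⁻¹ * (r * g) * g⁻¹ := by group
        _ = g⁻¹ * (g * r) * g⁻¹ := by rw [h]
        _ = r * g⁻¹ := by group
    rw [← cj_comm hc, ← hgr, cj_cj, inv_mul_cancel, cj_one]
  calc cj g⁻¹ K = cj r⁻¹ (cj r (cj g⁻¹ K)) := by rw [cj_cj, inv_mul_cancel, cj_one]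
    _ = cj r⁻¹ K := by rw [h1]

/-- the elements of `L` preserving the `R`-orbit of `K` -/
def orbStab (R L K : Subgroup Y) (hLR : L ≤ Subgroup.centralizer (R : Set Y)) : Subgroup Y where
  carrier := {g | g ∈ L ∧ ∃ r ∈ R, cj g K = cj r K}
  one_mem' := ⟨L.one_mem, 1, R.one_mem, rfl⟩
  mul_mem' := by
    rintro g₁ g₂ ⟨h1, r₁, hr₁, e₁⟩ ⟨h2, r₂, hr₂, e₂⟩
    refine ⟨L.mul_mem h1 h2, r₂ * r₁, R.mul_mem hr₂ hr₁, ?_⟩
    have hc : g₁ * r₂ = r₂ * g₁ := ((Subgroup.mem_centralizer_iff.1 (hLR h1)) r₂ hr₂).symm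
    rw [← cj_cj, e₂, cj_comm hc, e₁, cj_cj]
  inv_mem' := by
    rintro g ⟨h1, r, hr, e⟩
    refine ⟨L.inv_mem h1, r⁻¹, R.inv_mem hr, ?_⟩
    have hc : g * r = r * g := ((Subgroup.mem_centralizer_iff.1 (hLR h1)) r hr).symm
    exact cj_inv_eq_of_cj_eq hc e

theorem mem_orbStab {R L K : Subgroup Y} {hLR : L ≤ Subgroup.centralizer (R : Set Y)} {g : Y} :
    g ∈ orbStab R L K hLR ↔ g ∈ L ∧ ∃ r ∈ R, cj g K = cj r K := Iff.rfl

theorem orbStab_le {R L K : Subgroup Y} (hLR : L ≤ Subgroup.centralizer (R : Set Y)) :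
    orbStab R L K hLR ≤ L := fun _ h => h.1

end Orb

section Main
variable {Y : Type*} [Group Y] [Finite Y] {p : ℕ} [hp : Fact p.Prime]

/-- the contradiction: three pairwise distinct orbit products `M`, `lM`, `l'M` -/
theorem false_of_three (hY : pPrimeCore p Y = ⊥) {R D L : Subgroup Y} (hR : IsPGroup p R)
    (hD : (Nat.card D).Coprime p) (hLR : L ≤ Subgroup.centralizer (R : Set Y))
    (hLQ : L ≤ Subgroup.centralizer (pCore p Y : Set Y))
    (hLE : ⁅L, layer Y ⊓ Subgroup.centralizer (R : Set Y)⁆ ≤ D)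
    {K : Subgroup Y} (hK : IsComponent K) {l l' : Y} (hl : l ∈ L) (hl' : l' ∈ L)
    (h1 : ∀ r ∈ R, cj l K ≠ cj r K) (h2 : ∀ r ∈ R, cj l' K ≠ cj r K)
    (h3 : ∀ r ∈ R, cj (l⁻¹ * l') K ≠ cj r K) : False := by
  classical
  set M := orbitProd R K with hMdef
  have h12 : ⁅M, cj l M⁆ = ⊥ := commutator_orbitProd_cj hK (hLR hl) h1
  have h13 : ⁅M, cj l' M⁆ = ⊥ := commutator_orbitProd_cj hK (hLR hl') h2
  have h1x : ⁅M, cj (l⁻¹ * l') M⁆ = ⊥ :=
    commutator_orbitProd_cj hK (hLR (L.mul_mem (L.inv_mem hl) hl')) h3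
  rw [Subgroup.commutator_eq_bot_iff_le_centralizer] at h12 h13 h1x
  -- membership-level commutation
  have hA : ∀ m ∈ cj l' M, ∀ y ∈ M, y * m = m * y := by
    intro m hm y hy
    exact ((Subgroup.mem_centralizer_iff.1 (h13 hy)) m hm).symm
  have hB : ∀ m ∈ cj l' M, ∀ y ∈ cj l M, y * m = m * y := by
    intro m hm y hy
    rw [mem_cj] at hm hy
    have hm' : l⁻¹ * m * l ∈ cj (l⁻¹ * l') M := by
      rw [mem_cj]
      have e : (l⁻¹ * l')⁻¹ * (l⁻¹ * m * l) * (l⁻¹ * l') = l'⁻¹ * m * l' := by group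
      rw [e]; exact hm
    have h4 := (Subgroup.mem_centralizer_iff.1 (h1x hy)) _ hm'
    -- h4 : (l⁻¹ m l) * (l⁻¹ y l) = (l⁻¹ y l) * (l⁻¹ m l)
    calc y * m = l * ((l⁻¹ * y * l) * (l⁻¹ * m * l)) * l⁻¹ := by group
      _ = l * ((l⁻¹ * m * l) * (l⁻¹ * y * l)) * l⁻¹ := by rw [h4]
      _ = m * y := by group
  have hC : ∀ m ∈ cj l' M, ∀ y ∈ cj l' (cj l M), y * m = m * y := by
    intro m hm y hy
    rw [mem_cj] at hm hy
    have h4 := (Subgroup.mem_centralizer_iff.1 (h12 hm)) _ hy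
    calc y * m = l' * ((l'⁻¹ * y * l') * (l'⁻¹ * m * l')) * l'⁻¹ := by group
      _ = l' * ((l'⁻¹ * m * l') * (l'⁻¹ * y * l')) * l'⁻¹ := by rw [h4]
      _ = m * y := by group
  obtain ⟨s, hsM, ⟨a, hsa⟩, hsZ, hsr⟩ := exists_key_element hY hR hK
  set b := l * s * l⁻¹ with hb
  set c' := s⁻¹ * b with hc'
  have hbM : b ∈ cj l M := conj_mem_cj l M hsM
  have hc'R : c' ∈ Subgroup.centralizer (R : Set Y) := by
    rw [Subgroup.mem_centralizer_iff]
    intro r hr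
    have hzd : l * ⁅s, r⁆ = ⁅s, r⁆ * l :=
      ((Subgroup.mem_centralizer_iff.1 (hLQ hl)) _ (hsr r hr)).symm
    have hrl : r * l = l * r := (Subgroup.mem_centralizer_iff.1 (hLR hl)) r hr
    exact comm_aux hzd hrl
  have hME : M ≤ layer Y := orbitProd_le_layer hK
  have hc'E : c' ∈ layer Y := by
    refine (layer Y).mul_mem ((layer Y).inv_mem (hME hsM)) ?_
    exact (layer_normal (G := Y)).conj_mem s (hME hsM) l
  have hδD : ⁅l', c'⁆ ∈ D := hLE (Subgroup.commutator_mem_commutator hl' ⟨hc'E, hc'R⟩)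
  set δ := ⁅l', c'⁆ with hδ
  set a3 := l' * s⁻¹ * l'⁻¹ with ha3
  set b4 := l' * b * l'⁻¹ with hb4
  set u := b4 * b⁻¹ * s with hu
  have ha3M : a3 ∈ cj l' M := conj_mem_cj l' M (M.inv_mem hsM)
  have hb4M : b4 ∈ cj l' (cj l M) := conj_mem_cj l' _ hbM
  have hδeq : δ = a3 * u := by
    rw [hδ, commutatorElement_def, hc', ha3, hu, hb4]; group
  -- `u` centralizes `cj l' M`
  have huC : u ∈ Subgroup.centralizer ((cj l' M : Subgroup Y) : Set Y) := by
    rw [Subgroup.mem_centralizer_iff]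
    intro m hm
    have e1 := hA m hm s hsM
    have e2 := hB m hm b⁻¹ ((cj l M).inv_mem hbM)
    have e3 := hC m hm b4 hb4M
    rw [hu]
    calc m * (b4 * b⁻¹ * s) = (m * b4) * b⁻¹ * s := by group
      _ = (b4 * m) * b⁻¹ * s := by rw [e3]
      _ = b4 * (m * b⁻¹) * s := by group
      _ = b4 * (b⁻¹ * m) * s := by rw [e2]
      _ = b4 * b⁻¹ * (m * s) := by group
      _ = b4 * b⁻¹ * (s * m) := by rw [e1]
      _ = b4 * b⁻¹ * s * m := by group
  have hcomm : Commute a3 u := ((Subgroup.mem_centralizer_iff.1 huC) a3 ha3M)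
  -- `δ` has order prime to `p`
  set k := orderOf δ with hk
  have hkp : k.Coprime p :=
    Nat.Coprime.coprime_dvd_left (Subgroup.orderOf_dvd_natCard D hδD) hD
  have h5 : a3 ^ k * u ^ k = 1 := by
    rw [← hcomm.mul_pow, ← hδeq, hk, pow_orderOf_eq_one]
  have h6 : a3 ^ k ∈ Subgroup.centralizer ((cj l' M : Subgroup Y) : Set Y) := by
    have : a3 ^ k = (u ^ k)⁻¹ := eq_inv_of_mul_eq_one_left h5
    rw [this]
    exact Subgroup.inv_mem _ (Subgroup.pow_mem _ huC k)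
  have ha3o : orderOf a3 = p ^ a := by
    have e : a3 = (MulAut.conj l') s⁻¹ := rfl
    rw [e, MulEquiv.orderOf_eq, orderOf_inv, hsa]
  have h7 : (orderOf a3).Coprime k := by
    rw [ha3o]; exact (Nat.Coprime.pow_right a hkp).symm
  obtain ⟨j, hj⟩ := exists_pow_eq_self_of_coprime h7.symm
  have h8 : a3 ∈ Subgroup.centralizer ((cj l' M : Subgroup Y) : Set Y) := by
    rw [← hj]; exact Subgroup.pow_mem _ h6 j
  apply hsZ
  rw [Subgroup.mem_centralizer_iff]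
  intro y hy
  have h9 := (Subgroup.mem_centralizer_iff.1 h8) _ (conj_mem_cj l' M hy)
  -- h9 : (l' y l'⁻¹) * a3 = a3 * (l' y l'⁻¹)
  have h10 : y * s⁻¹ = s⁻¹ * y := by
    calc y * s⁻¹ = l'⁻¹ * ((l' * y * l'⁻¹) * a3) * l' := by rw [ha3]; group
      _ = l'⁻¹ * (a3 * (l' * y * l'⁻¹)) * l' := by rw [h9]
      _ = s⁻¹ * y := by rw [ha3]; group
  calc y * s = s * (s⁻¹ * y) * s := by group
    _ = s * (y * s⁻¹) * s := by rw [h10]
    _ = s * y := by group

/-- the perfect subgroup `L` preserves the `R`-orbit of every component -/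
theorem exists_cj_eq (hY : pPrimeCore p Y = ⊥) {R D L : Subgroup Y} (hR : IsPGroup p R)
    (hD : (Nat.card D).Coprime p) (hLR : L ≤ Subgroup.centralizer (R : Set Y))
    (hLperf : ⁅L, L⁆ = L)
    (hLQ : L ≤ Subgroup.centralizer (pCore p Y : Set Y))
    (hLE : ⁅L, layer Y ⊓ Subgroup.centralizer (R : Set Y)⁆ ≤ D)
    {K : Subgroup Y} (hK : IsComponent K) {l : Y} (hl : l ∈ L) :
    ∃ r ∈ R, cj l K = cj r K := by
  by_contra hcon
  push Not at hcon
  have hlH : l ∉ orbStab R L K hLR := fun h => by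
    obtain ⟨r, hr, e⟩ := h.2
    exact hcon r hr e
  have key : ∀ x ∈ L, x ∈ orbStab R L K hLR ∨ l⁻¹ * x ∈ orbStab R L K hLR := by
    intro x hx
    by_contra hno
    push Not at hno
    have h2 : ∀ r ∈ R, cj x K ≠ cj r K := fun r hr e => hno.1 ⟨hx, r, hr, e⟩
    have h3 : ∀ r ∈ R, cj (l⁻¹ * x) K ≠ cj r K :=
      fun r hr e => hno.2 ⟨L.mul_mem (L.inv_mem hl) hx, r, hr, e⟩
    exact false_of_three hY hR hD hLR hLQ hLE hK hl hx hcon h2 h3
  have h4 := commutator_le_of_forall_mem_or (orbStab_le hLR) hl key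
  rw [hLperf] at h4
  exact hlH (h4 hl)

end Main

end Cfsg.Agent.Lib.Helper4.LBal
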