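import Mathlib
import Cfsg.Agent.Lib.Helper4.LBal6

set_option autoImplicit false
open scoped commutatorElement

/-!
`L_{p'}`-balance under the Schreier property: the perfect subgroup `L` normalizes every component.
-/

namespace Cfsg.Agent.Lib.Helper4.LBal

open Cfsg Cfsg.Agent.Lib.Helper1 Cfsg.Agent.Lib.Helper3

section Gen
variable {G : Type*} [Group G]

theorem le_normalizer_of_forall_conj_mem {A B : Subgroup G}
    (h : ∀ a ∈ A, ∀ b ∈ B, a * b * a⁻¹ ∈ B) : A ≤ Subgroup.normalizer (B : Set G) := by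
  intro a ha
  rw [Subgroup.mem_normalizer_iff]
  intro x
  constructor
  · exact h a ha x
  · intro hx
    have := h a⁻¹ (A.inv_mem ha) _ hx
    simpa [mul_assoc] using this

theorem cj_pow_eq {g r : G} (h : g * r = r * g) {K : Subgroup G} (hgr : cj g K = cj r K)
    (n : ℕ) : cj (g ^ n) K = cj (r ^ n) K := by
  induction n with
  | zero => simp
  | succ n ih =>
    have hc : g * r ^ n = r ^ n * g := (Commute.pow_right (show Commute g r from h) n)
    rw [pow_succ', pow_succ', ← cj_cj, ih, cj_comm hc, hgr, cj_cj, ← pow_succ, ← pow_succ']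

end Gen

section Main
variable {Y : Type*} [Group Y] [Finite Y] {p : ℕ} [hp : Fact p.Prime]

theorem le_normalizer_component_of_perfect (hY : pPrimeCore p Y = ⊥) {R D L : Subgroup Y}
    (hR : IsPGroup p R)
    (hD : (Nat.card D).Coprime p) (hLR : L ≤ Subgroup.centralizer (R : Set Y))
    (hLperf : ⁅L, L⁆ = L)
    (hLQ : L ≤ Subgroup.centralizer (pCore p Y : Set Y))
    (hLE : ⁅L, layer Y ⊓ Subgroup.centralizer (R : Set Y)⁆ ≤ D)
    {K : Subgroup Y} (hK : IsComponent K) : L ≤ Subgroup.normalizer (K : Set Y) := by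
  have hcomm : ∀ l ∈ L, ∀ r ∈ R, l * r = r * l := fun l hl r hr =>
    ((Subgroup.mem_centralizer_iff.1 (hLR hl)) r hr).symm
  set B := L ⊓ Subgroup.normalizer (K : Set Y) with hB
  have hn : L ≤ Subgroup.normalizer (B : Set Y) := by
    apply le_normalizer_of_forall_conj_mem
    intro l hl h hh
    refine ⟨L.mul_mem (L.mul_mem hl hh.1) (L.inv_mem hl), ?_⟩
    apply mem_normalizer_of_cj_eq
    obtain ⟨r, hr, e⟩ := exists_cj_eq hY hR hD hLR hLperf hLQ hLE hK hl
    have e' := cj_inv_eq_of_cj_eq (hcomm l hl r hr) e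
    have hhK : cj h K = K := cj_eq_of_mem_normalizer hh.2
    have hc1 : h * r⁻¹ = r⁻¹ * h := hcomm h hh.1 r⁻¹ (R.inv_mem hr)
    have hc2 : l * r⁻¹ = r⁻¹ * l := hcomm l hl r⁻¹ (R.inv_mem hr)
    rw [← cj_cj, ← cj_cj, e', cj_comm hc1, hhK, cj_comm hc2, e, cj_cj, inv_mul_cancel, cj_one]
  have hpow : ∀ e ∈ L, ∃ k : ℕ, e ^ (p ^ k) ∈ B := by
    intro l hl
    obtain ⟨r, hr, e⟩ := exists_cj_eq hY hR hD hLR hLperf hLQ hLE hK hl
    obtain ⟨k, hk⟩ := orderOf_of_mem_isPGroup hR hr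
    refine ⟨k, L.pow_mem hl _, ?_⟩
    apply mem_normalizer_of_cj_eq
    rw [cj_pow_eq (hcomm l hl r hr) e, ← hk, pow_orderOf_eq_one, cj_one]
  exact (perfect_le_of_forall_pow_mem (p := p) hn hLperf hpow).trans inf_le_right

end Main

end Cfsg.Agent.Lib.Helper4.LBal
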