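import Mathlib
import Cfsg.Agent.Lib.Helper4.LBal7

set_option autoImplicit false
open scoped commutatorElement

/-!
`L_{p'}`-balance under the Schreier property: the Schreier step.  A perfect subgroup normalizing
a quasisimple subgroup `K` with solvable `Out (K / Z(K))` lies in `K C(K)`.
-/

namespace Cfsg.Agent.Lib.Helper4.LBal

open Cfsg Cfsg.Agent.Lib.Helper1 Cfsg.Agent.Lib.Helper3

section Aut
variable {G : Type*} [Group G]

theorem commutatorElement_mul_central {x y z w : G} (hz : z ∈ Subgroup.center G)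
    (hw : w ∈ Subgroup.center G) : ⁅x * z, y * w⁆ = ⁅x, y⁆ := by
  rw [Subgroup.mem_center_iff] at hz hw
  have h1 : ∀ a b : G, ⁅a * z, b⁆ = ⁅a, b⁆ := by
    intro a b
    have hzb : z * b = b * z := (hz b).symm
    rw [commutatorElement_def, commutatorElement_def]
    calc a * z * b * (a * z)⁻¹ * b⁻¹ = a * (z * b) * z⁻¹ * a⁻¹ * b⁻¹ := by group
      _ = a * (b * z) * z⁻¹ * a⁻¹ * b⁻¹ := by rw [hzb]
      _ = a * b * a⁻¹ * b⁻¹ := by group
  have h2 : ∀ a b : G, ⁅a, b * w⁆ = ⁅a, b⁆ := by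
    intro a b
    have hwa : w * a⁻¹ = a⁻¹ * w := (hw a⁻¹).symm
    rw [commutatorElement_def, commutatorElement_def]
    calc a * (b * w) * a⁻¹ * (b * w)⁻¹ = a * b * (w * a⁻¹) * w⁻¹ * b⁻¹ := by group
      _ = a * b * (a⁻¹ * w) * w⁻¹ * b⁻¹ := by rw [hwa]
      _ = a * b * a⁻¹ * b⁻¹ := by group
  rw [h1, h2]

/-- an automorphism of a perfect group which is trivial modulo the centre is trivial -/
theorem mulAut_eq_one_of_perfect (hG : ⁅(⊤ : Subgroup G), (⊤ : Subgroup G)⁆ = ⊤) (β : MulAut G)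
    (h : ∀ x, x⁻¹ * β x ∈ Subgroup.center G) : β = 1 := by
  have hF : ⁅(⊤ : Subgroup G), (⊤ : Subgroup G)⁆ ≤ MonoidHom.eqLocus β.toMonoidHom (MonoidHom.id G) := by
    rw [Subgroup.commutator_le]
    intro x _ y _
    change β ⁅x, y⁆ = ⁅x, y⁆
    rw [map_commutatorElement]
    have hx : β x = x * (x⁻¹ * β x) := by group
    have hy : β y = y * (y⁻¹ * β y) := by group
    rw [hx, hy]
    exact commutatorElement_mul_central (h x) (h y)
  rw [hG] at hF
  ext x
  exact hF (Subgroup.mem_top x)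

/-- the automorphism induced on the quotient by a characteristic subgroup -/
def autQuot (C : Subgroup G) [C.Normal] [hC : C.Characteristic] : MulAut G →* MulAut (G ⧸ C) where
  toFun α := QuotientGroup.congr C C α (Subgroup.characteristic_iff_map_eq.1 hC α)
  map_one' := by
    ext x
    induction x using QuotientGroup.induction_on
    rfl
  map_mul' α β := by
    ext x
    induction x using QuotientGroup.induction_on
    rfl

theorem autQuot_mk (C : Subgroup G) [C.Normal] [C.Characteristic] (α : MulAut G) (x : G) :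
    autQuot C α (x : G ⧸ C) = ((α x : G) : G ⧸ C) := rfl

theorem autQuot_conj (C : Subgroup G) [C.Normal] [C.Characteristic] (k : G) :
    autQuot C (MulAut.conj k) = MulAut.conj (k : G ⧸ C) := by
  ext x
  induction x using QuotientGroup.induction_on
  rfl

end Aut

section Schreier
variable {Y : Type*} [Group Y]

theorem top_perfect_of_perfect {L : Subgroup Y} (hL : ⁅L, L⁆ = L) :
    ⁅(⊤ : Subgroup ↥L), (⊤ : Subgroup ↥L)⁆ = ⊤ := by
  have := (Subgroup.isPerfect_iff.2 hL).commutator_eq_top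
  rwa [commutator_def] at this

theorem normalizerMonoidHom_of_mem {K : Subgroup Y} (k : ↥K)
    (hk : (k : Y) ∈ Subgroup.normalizer (K : Set Y)) :
    K.normalizerMonoidHom ⟨k, hk⟩ = MulAut.conj k := by
  ext x
  simp

/-- **Schreier step**: a perfect subgroup normalizing the perfect subgroup `K`, where
`Out (K / Z(K))` is solvable, lies in `K C(K)`. -/
theorem exists_inv_mul_mem_centralizer_of_out_solvable {K L : Subgroup Y} (hKp : ⁅K, K⁆ = K)
    (hS : Group.IsSolvable (Cfsg.Out (↥K ⧸ Subgroup.center ↥K)))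
    (hLN : L ≤ Subgroup.normalizer (K : Set Y)) (hLperf : ⁅L, L⁆ = L) :
    ∀ l ∈ L, ∃ k ∈ K, k⁻¹ * l ∈ Subgroup.centralizer (K : Set Y) := by
  set N := Subgroup.normalizer (K : Set Y) with hN
  let ψ : ↥N →* MulAut (↥K ⧸ Subgroup.center ↥K) :=
    (autQuot (Subgroup.center ↥K)).comp K.normalizerMonoidHom
  let f : ↥L →* MulAut (↥K ⧸ Subgroup.center ↥K) := ψ.comp (Subgroup.inclusion hLN)
  set P := (⊤ : Subgroup ↥L).map f with hP
  have hPperf : ⁅P, P⁆ = P := by
    rw [hP, ← Subgroup.map_commutator, top_perfect_of_perfect hLperf]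
  have hPI : P ≤ Cfsg.Inn (↥K ⧸ Subgroup.center ↥K) :=
    le_of_isSolvable_quotient_of_perfect hS hPperf
  intro l hl
  have h1 : f ⟨l, hl⟩ ∈ P := Subgroup.mem_map_of_mem f (Subgroup.mem_top _)
  obtain ⟨c, hc⟩ := hPI h1
  obtain ⟨k, rfl⟩ := QuotientGroup.mk_surjective c
  have hkN : (k : Y) ∈ N := Subgroup.le_normalizer k.2
  set kN : ↥N := ⟨k, hkN⟩ with hkNdef
  set lN : ↥N := ⟨l, hLN hl⟩ with hlNdef
  have hψk : ψ kN = MulAut.conj (k : ↥K ⧸ Subgroup.center ↥K) := by
    change autQuot (Subgroup.center ↥K) (K.normalizerMonoidHom kN) = _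
    rw [hkNdef, normalizerMonoidHom_of_mem, autQuot_conj]
  have hψl : ψ lN = MulAut.conj (k : ↥K ⧸ Subgroup.center ↥K) := hc.symm
  set β := K.normalizerMonoidHom (kN⁻¹ * lN) with hβ
  have hβ1 : autQuot (Subgroup.center ↥K) β = 1 := by
    change ψ (kN⁻¹ * lN) = 1
    rw [map_mul, map_inv, hψk, hψl, inv_mul_cancel]
  have hβ2 : β = 1 := by
    apply mulAut_eq_one_of_perfect (top_perfect_of_perfect hKp)
    intro x
    have := DFunLike.congr_fun hβ1 (x : ↥K ⧸ Subgroup.center ↥K)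
    rw [autQuot_mk, MulAut.one_apply] at this
    exact QuotientGroup.eq.1 this.symm
  have hmem : kN⁻¹ * lN ∈ K.normalizerMonoidHom.ker := hβ2
  rw [Subgroup.normalizerMonoidHom_ker, Subgroup.mem_subgroupOf] at hmem
  exact ⟨k, k.2, hmem⟩

theorem le_sup_centralizer_of_out_solvable {K L : Subgroup Y} (hKp : ⁅K, K⁆ = K)
    (hS : Group.IsSolvable (Cfsg.Out (↥K ⧸ Subgroup.center ↥K)))
    (hLN : L ≤ Subgroup.normalizer (K : Set Y)) (hLperf : ⁅L, L⁆ = L) :
    L ≤ K ⊔ Subgroup.centralizer (K : Set Y) := by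
  intro l hl
  obtain ⟨k, hk, hmem⟩ := exists_inv_mul_mem_centralizer_of_out_solvable hKp hS hLN hLperf l hl
  have hl' : l = k * (k⁻¹ * l) := by group
  rw [hl']
  exact Subgroup.mul_mem_sup hk hmem

end Schreier

end Cfsg.Agent.Lib.Helper4.LBal
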