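import Mathlib
import Cfsg.Agent.Lib.Helper4.LBal8

set_option autoImplicit false
open scoped commutatorElement

/-!
`L_{p'}`-balance under the Schreier property: the core theorem in a group with `O_{p'} = 1`.
-/

namespace Cfsg.Agent.Lib.Helper4.LBal

open Cfsg Cfsg.Agent.Lib.Helper1 Cfsg.Agent.Lib.Helper3

section Gen
variable {G : Type*} [Group G]

theorem mem_centralizer_sup {A B : Subgroup G} {x : G}
    (hA : x ∈ Subgroup.centralizer (A : Set G)) (hB : x ∈ Subgroup.centralizer (B : Set G)) :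
    x ∈ Subgroup.centralizer ((A ⊔ B : Subgroup G) : Set G) := by
  have h1 : Subgroup.zpowers x ≤ Subgroup.centralizer (A : Set G) := Subgroup.zpowers_le.2 hA
  have h2 : Subgroup.zpowers x ≤ Subgroup.centralizer (B : Set G) := Subgroup.zpowers_le.2 hB
  rw [Subgroup.le_centralizer_iff] at h1 h2
  have h3 := sup_le h1 h2
  rw [Subgroup.le_centralizer_iff] at h3
  exact h3 (Subgroup.mem_zpowers x)

end Gen

section Main
variable {Y : Type*} [Group Y] [Finite Y] {p : ℕ} [hp : Fact p.Prime]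

/-- step (1): the perfect group `L` centralizes `O_p(Y)` -/
theorem perfect_le_centralizer_pCore {R D L : Subgroup Y} (hR : IsPGroup p R)
    (hD : (Nat.card D).Coprime p) (hLR : L ≤ Subgroup.centralizer (R : Set Y))
    (hLperf : ⁅L, L⁆ = L)
    (hLQ : ⁅L, pCore p Y ⊓ Subgroup.centralizer (R : Set Y)⁆ ≤ D) :
    L ≤ Subgroup.centralizer (pCore p Y : Set Y) := by
  haveI hQn : (pCore p Y).Normal := pCore_normal p Y
  have hn : Subgroup.normalizer ((pCore p Y : Subgroup Y) : Set Y) = ⊤ :=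
    Subgroup.normalizer_eq_top_iff.2 hQn
  have hQp : IsPGroup p (pCore p Y) := Cfsg.Agent.Lib.Helper2.pCore_isPGroup p
  have hcent : L ≤ Subgroup.centralizer
      ((pCore p Y ⊓ Subgroup.centralizer (R : Set Y) : Subgroup Y) : Set Y) := by
    intro l hl
    rw [Subgroup.mem_centralizer_iff]
    intro c hc
    have hcQ : c ∈ pCore p Y := hc.1
    have h1 : ⁅l, c⁆ ∈ D := hLQ (Subgroup.commutator_mem_commutator hl hc)
    have h2 : ⁅l, c⁆ ∈ pCore p Y := by
      rw [commutatorElement_def]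
      exact mul_mem (hQn.conj_mem _ hcQ l) (inv_mem hcQ)
    have h3 : ⁅l, c⁆ = 1 := by
      have h4 := Cfsg.Agent.Lib.Helper6.isPGroup_inf_coprime_eq_bot hD hQp
      have h5 : ⁅l, c⁆ ∈ pCore p Y ⊓ D := ⟨h2, h1⟩
      rw [h4] at h5
      exact h5
    rw [commutatorElement_def] at h3
    calc c * l = (l * c * l⁻¹ * c⁻¹)⁻¹ * (l * c) := by group
      _ = l * c := by rw [h3, inv_one, one_mul]
  set B := L ⊓ Subgroup.centralizer (pCore p Y : Set Y) with hB
  have hnB : L ≤ Subgroup.normalizer (B : Set Y) := by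
    apply le_normalizer_of_forall_conj_mem
    intro l hl b hb
    exact ⟨L.mul_mem (L.mul_mem hl hb.1) (L.inv_mem hl),
      (Subgroup.normal_centralizer (H := pCore p Y)).conj_mem _ hb.2 l⟩
  have hpow : ∀ e ∈ L, ∃ k : ℕ, e ^ (p ^ k) ∈ B := by
    intro e he
    have he' : e ^ (p ^ (orderOf e).factorization p) ∈ L := L.pow_mem he _
    refine ⟨(orderOf e).factorization p, he', ?_⟩
    exact mem_centralizer_of_coprime hQp hR (by rw [hn]; exact le_top)
      (orderOf_pow_factorization_coprime e) (by rw [hn]; exact Subgroup.mem_top _) (hLR he')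
      (hcent he')
  exact (perfect_le_of_forall_pow_mem (p := p) hnB hLperf hpow).trans inf_le_right

/-- step (4): `L ≤ E(Y) C(E(Y))`, elementwise -/
theorem exists_layer_decomp {L : Subgroup Y} (hLperf : ⁅L, L⁆ = L)
    (hLN : ∀ K : Subgroup Y, IsComponent K → L ≤ Subgroup.normalizer (K : Set Y))
    (hS : ∀ K : Subgroup Y, IsComponent K →
      Group.IsSolvable (Cfsg.Out (↥K ⧸ Subgroup.center ↥K))) :
    ∀ l ∈ L, ∃ e ∈ layer Y, e⁻¹ * l ∈ Subgroup.centralizer (layer Y : Set Y) := by
  classical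
  have key : ∀ S : Finset (Subgroup Y), (∀ K ∈ S, IsComponent K) →
      ∀ l ∈ L, ∃ e ∈ (⨆ K ∈ S, K : Subgroup Y),
        e⁻¹ * l ∈ Subgroup.centralizer ((⨆ K ∈ S, K : Subgroup Y) : Set Y) := by
    intro S
    induction S using Finset.induction_on with
    | empty =>
      intro _ l hl
      refine ⟨1, one_mem _, ?_⟩
      simp [Subgroup.mem_centralizer_iff]
    | insert K0 S' hK0 ih =>
      intro hS' l hl
      have hK0c : IsComponent K0 := hS' K0 (Finset.mem_insert_self _ _)
      obtain ⟨e, he, hc⟩ := ih (fun K hK => hS' K (Finset.mem_insert_of_mem hK)) l hl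
      obtain ⟨k, hk, hg⟩ := exists_inv_mul_mem_centralizer_of_out_solvable
        (Subgroup.isPerfect_iff.1 hK0c.2.1) (hS K0 hK0c) (hLN K0 hK0c) hLperf l hl
      set E' := (⨆ K ∈ S', K : Subgroup Y) with hE'
      have hE'K0 : E' ≤ Subgroup.centralizer (K0 : Set Y) := by
        apply iSup₂_le
        intro K hK
        have hne : K ≠ K0 := fun h => hK0 (h ▸ hK)
        have := IsComponent.commutator_eq_bot_of_ne (hS' K (Finset.mem_insert_of_mem hK)) hK0c hne
        exact Subgroup.commutator_eq_bot_iff_le_centralizer.1 this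
      have hK0E' : K0 ≤ Subgroup.centralizer (E' : Set Y) := Subgroup.le_centralizer_iff.1 hE'K0
      have hek : k * e = e * k := (Subgroup.mem_centralizer_iff.1 (hK0E' hk)) e he |>.symm
      rw [Finset.iSup_insert]
      refine ⟨e * k, ?_, ?_⟩
      · rw [sup_comm]; exact Subgroup.mul_mem_sup he hk
      · apply mem_centralizer_sup
        · -- in C(K0): equals e⁻¹ * (k⁻¹ * l)
          have h1 : (e * k)⁻¹ * l = e⁻¹ * (k⁻¹ * l) := by
            rw [← hek]; group
          rw [h1]
          exact mul_mem (inv_mem (hE'K0 he)) hg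
        · have h1 : (e * k)⁻¹ * l = k⁻¹ * (e⁻¹ * l) := by group
          rw [h1]
          exact mul_mem (inv_mem (hK0E' hk)) hc
  have hfin : Set.Finite {K : Subgroup Y | IsComponent K} := Set.toFinite _
  have hlayer : layer Y = (⨆ K ∈ hfin.toFinset, K : Subgroup Y) := by
    unfold layer
    rw [sSup_eq_iSup]
    simp only [Set.Finite.mem_toFinset]
  rw [hlayer]
  exact key hfin.toFinset (fun K hK => (Set.Finite.mem_toFinset hfin).1 hK)

/-- step (5): a perfect subgroup of `E(Y) C(E(Y))` centralizing `O_p(Y)` lies in `E(Y)` -/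
theorem perfect_le_layer_of_decomp (hY : pPrimeCore p Y = ⊥) {L : Subgroup Y}
    (hLperf : ⁅L, L⁆ = L) (hLQ : L ≤ Subgroup.centralizer (pCore p Y : Set Y))
    (hdec : ∀ l ∈ L, ∃ e ∈ layer Y, e⁻¹ * l ∈ Subgroup.centralizer (layer Y : Set Y)) :
    L ≤ layer Y := by
  set E := layer Y with hE
  set F := fittingSubgroup Y with hF
  set Z := Subgroup.centralizer (generalizedFittingSubgroup Y : Set Y) with hZ
  have hFQ : F ≤ pCore p Y := fittingSubgroup_le_pCore hY
  have hLF : L ≤ Subgroup.centralizer (F : Set Y) := hLQ.trans (Subgroup.centralizer_le hFQ)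
  have hEF : E ≤ Subgroup.centralizer (F : Set Y) :=
    Subgroup.commutator_eq_bot_iff_le_centralizer.1 commutator_layer_fittingSubgroup
  have hLEZ : L ≤ E ⊔ Z := by
    intro l hl
    obtain ⟨e, he, hc⟩ := hdec l hl
    have hcF : e⁻¹ * l ∈ Subgroup.centralizer (F : Set Y) :=
      mul_mem (inv_mem (hEF he)) (hLF hl)
    have hcZ : e⁻¹ * l ∈ Z := by
      rw [hZ]
      unfold generalizedFittingSubgroup
      exact mem_centralizer_sup hc hcF
    have hl' : l = e * (e⁻¹ * l) := by group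
    rw [hl']
    exact Subgroup.mul_mem_sup he hcZ
  have hZle : Z ≤ generalizedFittingSubgroup Y := centralizer_generalizedFittingSubgroup_le
  have hZZ : ⁅Z, Z⁆ = ⊥ := by
    rw [Subgroup.commutator_eq_bot_iff_le_centralizer]
    exact Subgroup.centralizer_le hZle
  calc L = ⁅L, L⁆ := hLperf.symm
    _ ≤ ⁅E ⊔ Z, E ⊔ Z⁆ := Subgroup.commutator_mono hLEZ hLEZ
    _ ≤ E ⊔ ⁅Z, Z⁆ := commutator_sup_le E Z
    _ = E := by rw [hZZ, sup_bot_eq]

/-- **Core theorem** of `L_{p'}`-balance under the Schreier property, in a group with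
`O_{p'}(Y) = 1`. -/
theorem perfect_le_layer (hY : pPrimeCore p Y = ⊥) {R D L : Subgroup Y} (hR : IsPGroup p R)
    (hD : (Nat.card D).Coprime p) (hLR : L ≤ Subgroup.centralizer (R : Set Y))
    (hLperf : ⁅L, L⁆ = L)
    (hLE : ⁅L, layer Y ⊓ Subgroup.centralizer (R : Set Y)⁆ ≤ D)
    (hLQ : ⁅L, pCore p Y ⊓ Subgroup.centralizer (R : Set Y)⁆ ≤ D)
    (hS : ∀ K : Subgroup Y, IsComponent K →
      Group.IsSolvable (Cfsg.Out (↥K ⧸ Subgroup.center ↥K))) :
    L ≤ layer Y := by
  have h1 : L ≤ Subgroup.centralizer (pCore p Y : Set Y) :=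
    perfect_le_centralizer_pCore hR hD hLR hLperf hLQ
  have h2 : ∀ K : Subgroup Y, IsComponent K → L ≤ Subgroup.normalizer (K : Set Y) :=
    fun K hK => le_normalizer_component_of_perfect hY hR hD hLR hLperf h1 hLE hK
  exact perfect_le_layer_of_decomp hY hLperf h1 (exists_layer_decomp hLperf h2 hS)

end Main

end Cfsg.Agent.Lib.Helper4.LBal
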