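import Mathlib
import Cfsg.Agent.Lib.Helper4.LBal9
import Cfsg.Agent.Lib.Helper3.PComp8
import Cfsg.Agent.Lib.Helper3.ExtLayer1

set_option autoImplicit false
open scoped commutatorElement

/-!
`L_{p'}`-balance under the Schreier property: reduction to the core theorem.
-/

namespace Cfsg.Agent.Lib.Helper4.LBal

open Cfsg Cfsg.Agent.Lib.Helper1 Cfsg.Agent.Lib.Helper3

section Dich
variable {N : Type*} [Group N] [Finite N] {p : ℕ} [hp : Fact p.Prime]

/-- a `p`-component `L` and a normal subgroup `H`: either `L ≤ H` or `[L, H] ≤ O_{p'}` -/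
theorem IsPComponent.le_or_commutator_le_pPrimeCore {L H : Subgroup N} (hL : IsPComponent p L)
    [hH : H.Normal] : L ≤ H ∨ ⁅L, H⁆ ≤ pPrimeCore p N := by
  set π := QuotientGroup.mk' (pPrimeCore p N) with hπ
  have hHbar : (H.map π).Normal := hH.map π (QuotientGroup.mk'_surjective _)
  rcases IsComponent.le_or_commutator_eq_bot_of_isSubnormal hL.2.1 hHbar.isSubnormal with h | h
  · left
    have h1 : L ≤ H ⊔ pPrimeCore p N := by
      have h2 := Subgroup.comap_mono (f := π) h
      rw [Subgroup.comap_map_eq, Subgroup.comap_map_eq, QuotientGroup.ker_mk'] at h2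
      exact le_sup_left.trans h2
    exact le_of_le_sup_of_isSubnormal (Cfsg.Agent.Lib.Helper6.pPrimeCore_coprime p)
      (fun M hM hidx => by
        haveI := hM
        exact IsPComponent.eq_top_of_normal_of_coprime_index hL M hidx)
      hH.isSubnormal h1
  · right
    rw [← Subgroup.map_commutator, Subgroup.map_eq_bot_iff, QuotientGroup.ker_mk'] at h
    exact h

/-- a perfect subgroup of a `p`-group is trivial -/
theorem eq_bot_of_perfect_of_le_isPGroup {L Q : Subgroup N} (hLperf : ⁅L, L⁆ = L)
    (hQ : IsPGroup p Q) (hLQ : L ≤ Q) : L = ⊥ := by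
  rw [eq_bot_iff]
  apply perfect_le_of_forall_pow_mem (p := p) _ hLperf
  · intro e he
    obtain ⟨k, hk⟩ := orderOf_of_mem_isPGroup hQ (hLQ he)
    exact ⟨k, by rw [← hk, pow_orderOf_eq_one]; exact Subgroup.mem_bot.2 rfl⟩
  · intro l _
    rw [Subgroup.mem_normalizer_iff]
    intro x
    simp [Subgroup.mem_bot]

end Dich

section Transport
variable {G H : Type*} [Group G] [Group H] {p : ℕ}

theorem no_coprime_index_map (f : G →* H) (hf : Function.Injective f) {K : Subgroup G}
    (hK : ∀ M : Subgroup K, M.Normal → M.index.Coprime p → M = ⊤) :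
    ∀ M : Subgroup (K.map f), M.Normal → M.index.Coprime p → M = ⊤ := by
  intro M hM hidx
  set e := K.equivMapOfInjective f hf with he
  have h1 : M.comap e.toMonoidHom = ⊤ := by
    apply hK _ (hM.comap _)
    rw [Subgroup.index_comap_of_surjective M e.surjective]
    exact hidx
  rw [eq_top_iff]
  intro y _
  obtain ⟨x, rfl⟩ := e.surjective y
  have : x ∈ M.comap e.toMonoidHom := by rw [h1]; exact Subgroup.mem_top x
  exact this

end Transport

section Main
variable {X : Type*} [Group X] [Finite X] {p : ℕ} [hp : Fact p.Prime]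

theorem pComponent_normalizer_map_le_layer
    (hS : ∀ K : Subgroup (X ⧸ pPrimeCore p X), IsComponent K →
      Group.IsSolvable (Cfsg.Out (↥K ⧸ Subgroup.center ↥K)))
    {R : Subgroup X} (hR : IsPGroup p R) {L : Subgroup ↥(Subgroup.normalizer (R : Set X))}
    (hL : IsPComponent p L) :
    L.map ((QuotientGroup.mk' (pPrimeCore p X)).comp (Subgroup.normalizer (R : Set X)).subtype) ≤
      layer (X ⧸ pPrimeCore p X) := by
  classical
  set W := pPrimeCore p X with hW
  set π := QuotientGroup.mk' W with hπ
  set φ : ↥(Subgroup.normalizer (R : Set X)) →* X ⧸ W := π.comp (Subgroup.normalizer (R : Set X)).subtype with hφ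
  have hWcop : (Nat.card W).Coprime p := Cfsg.Agent.Lib.Helper6.pPrimeCore_coprime p
  have hY : pPrimeCore p (X ⧸ W) = ⊥ := pPrimeCore_quotient_eq_bot
  set Lbar := L.map φ with hLbar
  set Rbar := R.map π with hRbardef
  set Dbar := (pPrimeCore p ↥(Subgroup.normalizer (R : Set X))).map φ with hDbardef
  have hRbar : IsPGroup p Rbar := hR.map π
  have hDbar : (Nat.card Dbar).Coprime p :=
    Nat.Coprime.coprime_dvd_left (Subgroup.card_map_dvd _ φ)
      (Cfsg.Agent.Lib.Helper6.pPrimeCore_coprime p)
  have hLperf : ⁅L, L⁆ = L := IsPComponent.commutator_eq_self hL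
  have hLbarperf : ⁅Lbar, Lbar⁆ = Lbar := by rw [hLbar, ← Subgroup.map_commutator, hLperf]
  haveI hR'n : (R.subgroupOf (Subgroup.normalizer (R : Set X))).Normal := Subgroup.normal_in_normalizer
  have hR'p : IsPGroup p (R.subgroupOf (Subgroup.normalizer (R : Set X))) := hR.comap_subtype
  have hLR' : L ≤ Subgroup.centralizer ((R.subgroupOf (Subgroup.normalizer (R : Set X)) : Subgroup ↥(Subgroup.normalizer (R : Set X))) : Set ↥(Subgroup.normalizer (R : Set X))) :=
    ((IsPComponent.le_pLayer hL).trans pLayer_le_comap_layer).trans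
      (pPrimeLayer_le_centralizer_of_normal_isPGroup hR'p)
  have hLRbar : Lbar ≤ Subgroup.centralizer (Rbar : Set (X ⧸ W)) := by
    rintro _ ⟨l, hl, rfl⟩
    rw [Subgroup.mem_centralizer_iff]
    rintro _ ⟨r, hr, rfl⟩
    have hrN : r ∈ (Subgroup.normalizer (R : Set X)) := Subgroup.le_normalizer hr
    have h1 := (Subgroup.mem_centralizer_iff.1 (hLR' hl)) ⟨r, hrN⟩
      (Subgroup.mem_subgroupOf.2 hr)
    have h2 : r * (l : X) = (l : X) * r := congrArg Subtype.val h1
    change π r * π (l : X) = π (l : X) * π r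
    rw [← map_mul, ← map_mul, h2]
  have hrange : φ.range = Subgroup.normalizer (Rbar : Set (X ⧸ W)) := by
    rw [hφ, MonoidHom.range_comp, Subgroup.range_subtype]
    exact normalizer_map_mk'_eq W hWcop hR
  have dich : ∀ H : Subgroup (X ⧸ W), H.Normal →
      Lbar ≤ H ∨ ⁅Lbar, H ⊓ Subgroup.centralizer (Rbar : Set (X ⧸ W))⁆ ≤ Dbar := by
    intro H hH
    haveI : (H.comap φ).Normal := hH.comap φ
    rcases IsPComponent.le_or_commutator_le_pPrimeCore (H := H.comap φ) hL with h | h
    · left
      rw [hLbar, Subgroup.map_le_iff_le_comap]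
      exact h
    · right
      have h1 := Subgroup.map_mono (f := φ) h
      rw [Subgroup.map_commutator, Subgroup.map_comap_eq] at h1
      refine le_trans (Subgroup.commutator_mono le_rfl ?_) h1
      rw [hrange]
      exact le_inf (inf_le_right.trans (Subgroup.centralizer_le_normalizer _)) inf_le_left
  rcases dich (layer (X ⧸ W)) inferInstance with hE | hE
  · exact hE
  rcases dich (pCore p (X ⧸ W)) (pCore_normal p _) with hQ | hQ
  · have := eq_bot_of_perfect_of_le_isPGroup hLbarperf
      (Cfsg.Agent.Lib.Helper2.pCore_isPGroup (G := X ⧸ W) p) hQ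
    rw [this]
    exact bot_le
  exact perfect_le_layer hY hRbar hDbar hLRbar hLbarperf hE hQ hS

/-- **`L_{p'}`-balance** under the Schreier property for the components of `X / O_{p'}(X)`. -/
theorem pLayer_normalizer_map_le
    (hS : ∀ K : Subgroup (X ⧸ pPrimeCore p X), IsComponent K →
      Group.IsSolvable (Cfsg.Out (↥K ⧸ Subgroup.center ↥K)))
    (R : Subgroup X) (hR : IsPGroup p R) :
    (pLayer p ↥(Subgroup.normalizer (R : Set X))).map (Subgroup.normalizer (R : Set X)).subtype ≤
      pLayer p X := by
  set W := pPrimeCore p X with hW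
  set π := QuotientGroup.mk' W with hπ
  have hWcop : (Nat.card W).Coprime p := Cfsg.Agent.Lib.Helper6.pPrimeCore_coprime p
  rw [Subgroup.map_le_iff_le_comap, pLayer_le_iff]
  intro L hL
  rw [← Subgroup.map_le_iff_le_comap]
  have h1 := pComponent_normalizer_map_le_layer hS hR hL
  have h2 : (L.map (Subgroup.normalizer (R : Set X)).subtype).map π ≤ (pLayer p X).map π := by
    rw [Subgroup.map_map, pLayer_map_mk']
    exact h1
  have h3 : L.map (Subgroup.normalizer (R : Set X)).subtype ≤ pLayer p X ⊔ W := by
    have := Subgroup.comap_mono (f := π) h2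
    rw [Subgroup.comap_map_eq, Subgroup.comap_map_eq, QuotientGroup.ker_mk'] at this
    exact le_sup_left.trans this
  exact le_of_le_sup_of_isSubnormal hWcop
    (no_coprime_index_map (Subgroup.normalizer (R : Set X)).subtype (Subgroup.normalizer (R : Set X)).subtype_injective (fun M hM hidx => by
      haveI := hM
      exact IsPComponent.eq_top_of_normal_of_coprime_index hL M hidx))
    (pLayer_normal (p := p) (X := X)).isSubnormal h3

end Main

end Cfsg.Agent.Lib.Helper4.LBal
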