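import Mathlib
import Cfsg.Agent.Lib.Helper4.LBal10

set_option autoImplicit false
open scoped commutatorElement

/-!
The preimage of `E(N/O_{p'}(N))`, `N = N_X(R)`, normalizes every component of `X/O_{p'}(X)`
(no Schreier hypothesis needed).
-/

namespace Cfsg.Agent.Lib.Helper4.LBal

open Cfsg Cfsg.Agent.Lib.Helper1 Cfsg.Agent.Lib.Helper3

section Main
variable {X : Type*} [Group X] [Finite X] {p : ℕ} [hp : Fact p.Prime]

/-- the image of `O_{p'}(N_X(R))` normalizes every component of `X / O_{p'}(X)` -/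
theorem pPrimeCore_normalizer_map_le_normalizer {R : Subgroup X} (hR : IsPGroup p R)
    {K : Subgroup (X ⧸ pPrimeCore p X)} (hK : IsComponent K) :
    (pPrimeCore p ↥(Subgroup.normalizer (R : Set X))).map
      ((QuotientGroup.mk' (pPrimeCore p X)).comp (Subgroup.normalizer (R : Set X)).subtype) ≤
      Subgroup.normalizer (K : Set (X ⧸ pPrimeCore p X)) := by
  classical
  set D := (pPrimeCore p ↥(Subgroup.normalizer (R : Set X))).map
    (Subgroup.normalizer (R : Set X)).subtype with hDdef
  set W := pPrimeCore p X with hW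
  have hWcop : (Nat.card W).Coprime p := Cfsg.Agent.Lib.Helper6.pPrimeCore_coprime p
  have hY : pPrimeCore p (X ⧸ W) = ⊥ := pPrimeCore_quotient_eq_bot
  have hDcop : (Nat.card D).Coprime p := by
    rw [hDdef, Subgroup.card_map_of_injective (Subgroup.normalizer (R : Set X)).subtype_injective]
    exact Cfsg.Agent.Lib.Helper6.pPrimeCore_coprime p
  have hRN : R ≤ Subgroup.normalizer (R : Set X) := Subgroup.le_normalizer
  have hDN : D ≤ Subgroup.normalizer (R : Set X) := by
    rintro _ ⟨y, _, rfl⟩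
    exact y.2
  have hND : Subgroup.normalizer (R : Set X) ≤ Subgroup.normalizer (D : Set X) := by
    have key : ∀ n ∈ Subgroup.normalizer (R : Set X), ∀ x ∈ D, n * x * n⁻¹ ∈ D := by
      rintro n hn _ ⟨y, hy, rfl⟩
      have h1 := (Cfsg.pPrimeCore_normal p ↥(Subgroup.normalizer (R : Set X))).conj_mem y hy ⟨n, hn⟩
      exact ⟨_, h1, rfl⟩
    exact le_normalizer_of_forall_conj_mem key
  have hRD : D ≤ Subgroup.centralizer (R : Set X) := by
    intro d hd
    rw [Subgroup.mem_centralizer_iff]
    intro r hr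
    have h1 : r * d * r⁻¹ * d⁻¹ ∈ D :=
      D.mul_mem ((Subgroup.mem_normalizer_iff.1 (hND (hRN hr)) d).1 hd) (D.inv_mem hd)
    have h2 : r * d * r⁻¹ * d⁻¹ ∈ R := by
      have h3 := (Subgroup.mem_normalizer_iff.1 (hDN hd) r⁻¹).1 (R.inv_mem hr)
      have e : r * d * r⁻¹ * d⁻¹ = r * (d * r⁻¹ * d⁻¹) := by group
      rw [e]
      exact R.mul_mem hr h3
    have h4 := Cfsg.Agent.Lib.Helper6.isPGroup_inf_coprime_eq_bot hDcop hR
    have h5 : r * d * r⁻¹ * d⁻¹ ∈ R ⊓ D := ⟨h2, h1⟩
    rw [h4, Subgroup.mem_bot] at h5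
    calc r * d = (r * d * r⁻¹ * d⁻¹) * (d * r) := by group
      _ = d * r := by rw [h5, one_mul]
  set π := QuotientGroup.mk' W with hπ
  have hRbar : IsPGroup p (R.map π) := hR.map π
  have hDbarcop : (Nat.card (D.map π)).Coprime p :=
    Nat.Coprime.coprime_dvd_left (Subgroup.card_map_dvd _ π) hDcop
  have hRDbar : D.map π ≤ Subgroup.centralizer ((R.map π : Subgroup (X ⧸ W)) : Set (X ⧸ W)) := by
    rintro _ ⟨d, hd, rfl⟩
    rw [Subgroup.mem_centralizer_iff]
    rintro _ ⟨r, hr, rfl⟩
    rw [← map_mul, ← map_mul, (Subgroup.mem_centralizer_iff.1 (hRD hd)) r hr]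
  have hNDbar : Subgroup.centralizer ((R.map π : Subgroup (X ⧸ W)) : Set (X ⧸ W)) ≤
      Subgroup.normalizer ((D.map π : Subgroup (X ⧸ W)) : Set (X ⧸ W)) := by
    refine (Subgroup.centralizer_le_normalizer _).trans ?_
    rw [← normalizer_map_mk'_eq W hWcop hR]
    exact (Subgroup.map_mono hND).trans (Subgroup.le_normalizer_map _)
  have h := le_normalizer_component hY hRbar hDbarcop hRDbar hNDbar hK
  rw [← Subgroup.map_map]
  exact h

/-- the image of a `p`-component of `N_X(R)` normalizes every component of `X / O_{p'}(X)` -/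
theorem pComponent_normalizer_map_le_normalizer
    {R : Subgroup X} (hR : IsPGroup p R) {L : Subgroup ↥(Subgroup.normalizer (R : Set X))}
    (hL : IsPComponent p L) {K : Subgroup (X ⧸ pPrimeCore p X)} (hK : IsComponent K) :
    L.map ((QuotientGroup.mk' (pPrimeCore p X)).comp (Subgroup.normalizer (R : Set X)).subtype) ≤
      Subgroup.normalizer (K : Set (X ⧸ pPrimeCore p X)) := by
  classical
  set W := pPrimeCore p X with hW
  set π := QuotientGroup.mk' W with hπ
  set φ : ↥(Subgroup.normalizer (R : Set X)) →* X ⧸ W :=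
    π.comp (Subgroup.normalizer (R : Set X)).subtype with hφ
  have hWcop : (Nat.card W).Coprime p := Cfsg.Agent.Lib.Helper6.pPrimeCore_coprime p
  have hY : pPrimeCore p (X ⧸ W) = ⊥ := pPrimeCore_quotient_eq_bot
  set Lbar := L.map φ with hLbar
  set Rbar := R.map π with hRbardef
  set Dbar := (pPrimeCore p ↥(Subgroup.normalizer (R : Set X))).map φ with hDbardef
  have hRbar : IsPGroup p Rbar := hR.map π
  have hDbar : (Nat.card Dbar).Coprime p :=
    Nat.Coprime.coprime_dvd_left (Subgroup.card_map_dvd _ φ)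
      (Cfsg.Agent.Lib.Helper6.pPrimeCore_coprime p)
  have hLperf : ⁅L, L⁆ = L := IsPComponent.commutator_eq_self hL
  have hLbarperf : ⁅Lbar, Lbar⁆ = Lbar := by rw [hLbar, ← Subgroup.map_commutator, hLperf]
  haveI hR'n : (R.subgroupOf (Subgroup.normalizer (R : Set X))).Normal :=
    Subgroup.normal_in_normalizer
  have hR'p : IsPGroup p (R.subgroupOf (Subgroup.normalizer (R : Set X))) := hR.comap_subtype
  have hLR' : L ≤ Subgroup.centralizer
      ((R.subgroupOf (Subgroup.normalizer (R : Set X)) :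
        Subgroup ↥(Subgroup.normalizer (R : Set X))) : Set ↥(Subgroup.normalizer (R : Set X))) :=
    ((IsPComponent.le_pLayer hL).trans pLayer_le_comap_layer).trans
      (pPrimeLayer_le_centralizer_of_normal_isPGroup hR'p)
  have hLRbar : Lbar ≤ Subgroup.centralizer (Rbar : Set (X ⧸ W)) := by
    rintro _ ⟨l, hl, rfl⟩
    rw [Subgroup.mem_centralizer_iff]
    rintro _ ⟨r, hr, rfl⟩
    have hrN : r ∈ (Subgroup.normalizer (R : Set X)) := Subgroup.le_normalizer hr
    have h1 := (Subgroup.mem_centralizer_iff.1 (hLR' hl)) ⟨r, hrN⟩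
      (Subgroup.mem_subgroupOf.2 hr)
    have h2 : r * (l : X) = (l : X) * r := congrArg Subtype.val h1
    change π r * π (l : X) = π (l : X) * π r
    rw [← map_mul, ← map_mul, h2]
  have hrange : φ.range = Subgroup.normalizer (Rbar : Set (X ⧸ W)) := by
    rw [hφ, MonoidHom.range_comp, Subgroup.range_subtype]
    exact normalizer_map_mk'_eq W hWcop hR
  have dich : ∀ H : Subgroup (X ⧸ W), H.Normal →
      Lbar ≤ H ∨ ⁅Lbar, H ⊓ Subgroup.centralizer (Rbar : Set (X ⧸ W))⁆ ≤ Dbar := by
    intro H hH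
    haveI : (H.comap φ).Normal := hH.comap φ
    rcases IsPComponent.le_or_commutator_le_pPrimeCore (H := H.comap φ) hL with h | h
    · left
      rw [hLbar, Subgroup.map_le_iff_le_comap]
      exact h
    · right
      have h1 := Subgroup.map_mono (f := φ) h
      rw [Subgroup.map_commutator, Subgroup.map_comap_eq] at h1
      refine le_trans (Subgroup.commutator_mono le_rfl ?_) h1
      rw [hrange]
      exact le_inf (inf_le_right.trans (Subgroup.centralizer_le_normalizer _)) inf_le_left
  rcases dich (layer (X ⧸ W)) inferInstance with hE | hE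
  · exact hE.trans (layer_le_normalizer_of_isSubnormal hK.1)
  rcases dich (pCore p (X ⧸ W)) (pCore_normal p _) with hQ | hQ
  · have := eq_bot_of_perfect_of_le_isPGroup hLbarperf
      (Cfsg.Agent.Lib.Helper2.pCore_isPGroup (G := X ⧸ W) p) hQ
    rw [this]
    exact bot_le
  exact le_normalizer_component_of_perfect hY hRbar hDbar hLRbar hLbarperf
    (perfect_le_centralizer_pCore hRbar hDbar hLRbar hLbarperf hQ) hE hK

/-- the preimage of `E(N/O_{p'}(N))`, `N = N_X(R)`, normalizes (modulo `O_{p'}(X)`) every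
component of `X / O_{p'}(X)` -/
theorem comap_layer_normalizer_map_le_normalizer {R : Subgroup X} (hR : IsPGroup p R)
    {K : Subgroup (X ⧸ pPrimeCore p X)} (hK : IsComponent K) :
    ((layer (↥(Subgroup.normalizer (R : Set X)) ⧸
        pPrimeCore p ↥(Subgroup.normalizer (R : Set X)))).comap
      (QuotientGroup.mk' (pPrimeCore p ↥(Subgroup.normalizer (R : Set X))))).map
      ((QuotientGroup.mk' (pPrimeCore p X)).comp (Subgroup.normalizer (R : Set X)).subtype) ≤
      Subgroup.normalizer (K : Set (X ⧸ pPrimeCore p X)) := by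
  have h1 : (layer (↥(Subgroup.normalizer (R : Set X)) ⧸
        pPrimeCore p ↥(Subgroup.normalizer (R : Set X)))).comap
      (QuotientGroup.mk' (pPrimeCore p ↥(Subgroup.normalizer (R : Set X)))) =
      pLayer p ↥(Subgroup.normalizer (R : Set X)) ⊔
        pPrimeCore p ↥(Subgroup.normalizer (R : Set X)) := by
    rw [← pLayer_map_mk', Subgroup.comap_map_eq, QuotientGroup.ker_mk']
  rw [h1, Subgroup.map_sup]
  apply sup_le
  · rw [Subgroup.map_le_iff_le_comap, pLayer_le_iff]
    intro L hL
    rw [← Subgroup.map_le_iff_le_comap]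
    exact pComponent_normalizer_map_le_normalizer hR hL hK
  · exact pPrimeCore_normalizer_map_le_normalizer hR hK

end Main

end Cfsg.Agent.Lib.Helper4.LBal
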