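import Mathlib
import Cfsg.Agent.Lib.Helper4.LBal11
import Cfsg.Agent.Lib.Helper3.PComp2

set_option autoImplicit false
open scoped commutatorElement

/-!
An involution `t` acting on a group with trivial odd core: a nontrivial subgroup of an
odd order `C(t)`-invariant subgroup `D ≤ C(t)` acts nontrivially on some `t`-invariant component
not centralized by `t`.
-/

namespace Cfsg.Agent.Lib.Helper4.LBal

open Cfsg Cfsg.Agent.Lib.Helper1 Cfsg.Agent.Lib.Helper3

section Gen
variable {Y : Type*} [Group Y]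

/-- an element of `N(K)` acting trivially modulo the centre on the perfect group `K`
centralizes `K` -/
theorem mem_centralizer_of_commutator_mem_center {K : Subgroup Y} (hKp : ⁅K, K⁆ = K) {d : Y}
    (hd : d ∈ Subgroup.normalizer (K : Set Y))
    (h : ∀ k ∈ K, ∀ x ∈ K, (k⁻¹ * (d * k * d⁻¹)) * x = x * (k⁻¹ * (d * k * d⁻¹))) :
    d ∈ Subgroup.centralizer (K : Set Y) := by
  set β := K.normalizerMonoidHom ⟨d, hd⟩ with hβ
  have hβ1 : β = 1 := by
    apply mulAut_eq_one_of_perfect (top_perfect_of_perfect hKp)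
    intro x
    rw [Subgroup.mem_center_iff]
    intro g
    apply Subtype.ext
    have := h x x.2 g g.2
    simpa [hβ] using this.symm
  have hmem : (⟨d, hd⟩ : ↥(Subgroup.normalizer (K : Set Y))) ∈ K.normalizerMonoidHom.ker := hβ1
  rw [Subgroup.normalizerMonoidHom_ker, Subgroup.mem_subgroupOf] at hmem
  exact hmem

/-- the diagonal map `k ↦ k · t k t⁻¹` when `K` and `t K t⁻¹` commute -/
def diagHom (K : Subgroup Y) (t : Y)
    (hcomm : ∀ a ∈ K, ∀ b ∈ K, a * (t * b * t⁻¹) = (t * b * t⁻¹) * a) : ↥K →* Y where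
  toFun k := (k : Y) * (t * k * t⁻¹)
  map_one' := by simp
  map_mul' a b := by
    have h := hcomm b b.2 a a.2
    change ((a : Y) * b) * (t * ((a : Y) * b) * t⁻¹) = (a * (t * a * t⁻¹)) * (b * (t * b * t⁻¹))
    calc ((a : Y) * b) * (t * ((a : Y) * b) * t⁻¹)
        = a * (b * (t * a * t⁻¹)) * (t * b * t⁻¹) := by group
      _ = a * ((t * a * t⁻¹) * b) * (t * b * t⁻¹) := by rw [h]
      _ = (a * (t * a * t⁻¹)) * (b * (t * b * t⁻¹)) := by group

theorem diagHom_apply (K : Subgroup Y) (t : Y)
    (hcomm : ∀ a ∈ K, ∀ b ∈ K, a * (t * b * t⁻¹) = (t * b * t⁻¹) * a) (k : ↥K) :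
    diagHom K t hcomm k = (k : Y) * (t * k * t⁻¹) := rfl

theorem centralizer_singleton_le_centralizer_zpowers (t : Y) :
    Subgroup.centralizer ({t} : Set Y) ≤ Subgroup.centralizer (Subgroup.zpowers t : Set Y) := by
  intro x hx
  have h1 : Subgroup.zpowers t ≤ Subgroup.centralizer ({x} : Set Y) := by
    rw [Subgroup.zpowers_le, Subgroup.mem_centralizer_singleton_iff]
    exact (Subgroup.mem_centralizer_singleton_iff.1 hx).symm
  rw [Subgroup.mem_centralizer_iff]
  intro y hy
  exact (Subgroup.mem_centralizer_singleton_iff.1 (h1 hy))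

theorem centralizer_zpowers_le_centralizer_singleton (t : Y) :
    Subgroup.centralizer (Subgroup.zpowers t : Set Y) ≤ Subgroup.centralizer ({t} : Set Y) :=
  Subgroup.centralizer_le (by
    intro x hx
    rw [Set.mem_singleton_iff] at hx
    rw [hx]
    exact Subgroup.mem_zpowers t)

end Gen

section Unified
variable {Y : Type*} [Group Y] [Finite Y] {p : ℕ} [hp : Fact p.Prime]

/-- a `p'`-group `D` normalizing the component `K`, together with a `D`-equivariant homomorphism
`f` from `K` to `N(D)` with `ker f ≠ K`: then `D` centralizes `K`. -/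
theorem le_centralizer_component_of_hom (hY : pPrimeCore p Y = ⊥) {K D : Subgroup Y}
    (hK : IsComponent K) (hD : (Nat.card D).Coprime p)
    (hDK : D ≤ Subgroup.normalizer (K : Set Y)) (f : ↥K →* Y)
    (hfD : ∀ k : ↥K, f k ∈ Subgroup.normalizer (D : Set Y))
    (hfd : ∀ d ∈ D, ∀ k : ↥K, ∀ hk' : d * k * d⁻¹ ∈ K, d * f k * d⁻¹ = f ⟨d * k * d⁻¹, hk'⟩)
    (hker : f.ker ≠ ⊤) : D ≤ Subgroup.centralizer (K : Set Y) := by
  set ND := Subgroup.normalizer (D : Set Y) with hND
  let f' : ↥K →* ↥ND := f.codRestrict ND hfD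
  haveI : (D.subgroupOf ND).Normal := Subgroup.normal_in_normalizer
  set N₁ := (D.subgroupOf ND).comap f' with hN₁
  have hN₁mem : ∀ k : ↥K, k ∈ N₁ ↔ f k ∈ D := by
    intro k
    rw [hN₁, Subgroup.mem_comap, Subgroup.mem_subgroupOf]
    rfl
  rcases IsQuasisimple.normal_eq_top_or_le_center hK.2 N₁ with h | h
  · exfalso
    apply hker
    have hrange : f.range ≤ D := by
      rintro _ ⟨k, rfl⟩
      rw [← hN₁mem, h]
      exact Subgroup.mem_top k
    have hcop : f.ker.index.Coprime p := by
      rw [Subgroup.index_ker]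
      exact Nat.Coprime.coprime_dvd_left (Subgroup.card_dvd_of_le hrange) hD
    exact IsComponent.eq_top_of_normal_of_coprime_index hY hK f.ker hcop
  · intro d hd
    apply mem_centralizer_of_commutator_mem_center (Subgroup.isPerfect_iff.1 hK.2.1) (hDK hd)
    intro k hk x hx
    have hk' : d * k * d⁻¹ ∈ K := (Subgroup.mem_normalizer_iff.1 (hDK hd) k).1 hk
    set c : ↥K := ⟨k, hk⟩⁻¹ * ⟨d * k * d⁻¹, hk'⟩ with hc
    have hcN : c ∈ N₁ := by
      rw [hN₁mem, hc, map_mul, map_inv, ← hfd d hd ⟨k, hk⟩ hk']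
      have h1 : (f ⟨k, hk⟩)⁻¹ ∈ ND := inv_mem (hfD _)
      have h2 := (Subgroup.mem_normalizer_iff.1 h1 d).1 hd
      have e : (f ⟨k, hk⟩)⁻¹ * (d * f ⟨k, hk⟩ * d⁻¹) =
          ((f ⟨k, hk⟩)⁻¹ * d * ((f ⟨k, hk⟩)⁻¹)⁻¹) * d⁻¹ := by group
      rw [e]
      exact D.mul_mem h2 (D.inv_mem hd)
    have hcc := Subgroup.mem_center_iff.1 (h hcN) ⟨x, hx⟩
    have := congrArg Subtype.val hcc
    simpa [hc] using this.symm

end Unified

section Invol
variable {Y : Type*} [Group Y] [Finite Y]

theorem isPGroup_two_zpowers {t : Y} (ht : t * t = 1) : IsPGroup 2 (Subgroup.zpowers t) := by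
  intro x
  obtain ⟨y, hy⟩ := x
  obtain ⟨n, rfl⟩ := Subgroup.mem_zpowers_iff.1 hy
  refine ⟨1, ?_⟩
  apply Subtype.ext
  change (t ^ n) ^ (2 ^ 1) = 1
  rw [pow_one, ← zpow_natCast, ← zpow_mul, mul_comm, zpow_mul]
  have : t ^ ((2 : ℕ) : ℤ) = 1 := by
    rw [zpow_natCast, pow_two, ht]
  rw [this, one_zpow]

/-- **core theorem**: `Y` with `O(Y) = 1`, `t` an involution, `D ≤ C(t)` of odd order normalized
by `C(t)`, `Z ≤ D` nontrivial: some component `K` is `t`-invariant, not centralized by `t`, and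
not centralized by `Z`. -/
theorem exists_component_of_involution (hY : pPrimeCore 2 Y = ⊥) {t : Y} (ht : t * t = 1)
    {D Z : Subgroup Y} (hD : (Nat.card D).Coprime 2)
    (hDt : D ≤ Subgroup.centralizer ({t} : Set Y))
    (hND : Subgroup.centralizer ({t} : Set Y) ≤ Subgroup.normalizer (D : Set Y))
    (hZD : Z ≤ D) (hZ1 : Z ≠ ⊥) :
    ∃ K : Subgroup Y, IsComponent K ∧ cj t K = K ∧ D ≤ Subgroup.normalizer (K : Set Y) ∧
      t ∉ Subgroup.centralizer (K : Set Y) ∧ ¬ Z ≤ Subgroup.centralizer (K : Set Y) := by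
  haveI : Fact (Nat.Prime 2) := ⟨Nat.prime_two⟩
  have hR : IsPGroup 2 (Subgroup.zpowers t) := isPGroup_two_zpowers ht
  have hRD : D ≤ Subgroup.centralizer (Subgroup.zpowers t : Set Y) :=
    hDt.trans (centralizer_singleton_le_centralizer_zpowers t)
  have hND' : Subgroup.centralizer (Subgroup.zpowers t : Set Y) ≤
      Subgroup.normalizer (D : Set Y) :=
    (centralizer_zpowers_le_centralizer_singleton t).trans hND
  have hnorm : ∀ K : Subgroup Y, IsComponent K → D ≤ Subgroup.normalizer (K : Set Y) :=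
    fun K hK => le_normalizer_component hY hR hD hRD hND' hK
  have hDQ : D ≤ Subgroup.centralizer (pCore 2 Y : Set Y) :=
    le_centralizer_pCore hR hD hRD hND'
  have htinv : t⁻¹ = t := inv_eq_of_mul_eq_one_left ht
  -- some component is not centralized by `Z`
  have hex : ∃ K : Subgroup Y, IsComponent K ∧ ¬ Z ≤ Subgroup.centralizer (K : Set Y) := by
    by_contra hcon
    push_neg at hcon
    apply hZ1
    have h1 : Z ≤ Subgroup.centralizer (layer Y : Set Y) := by
      rw [Subgroup.le_centralizer_iff, layer_le_iff]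
      intro K hK
      rw [← Subgroup.le_centralizer_iff]
      exact hcon K hK
    have h2 : Z ≤ Subgroup.centralizer (fittingSubgroup Y : Set Y) :=
      (hZD.trans hDQ).trans (Subgroup.centralizer_le (fittingSubgroup_le_pCore hY))
    have h3 : Z ≤ Subgroup.centralizer (generalizedFittingSubgroup Y : Set Y) := by
      intro z hz
      unfold generalizedFittingSubgroup
      exact mem_centralizer_sup (h1 hz) (h2 hz)
    set C := Subgroup.centralizer (generalizedFittingSubgroup Y : Set Y) with hC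
    have hCle : C ≤ generalizedFittingSubgroup Y := centralizer_generalizedFittingSubgroup_le
    have hCC : ⁅C, C⁆ = ⊥ := by
      rw [Subgroup.commutator_eq_bot_iff_le_centralizer]
      exact Subgroup.centralizer_le hCle
    have hCnil : Group.IsNilpotent C :=
      isNilpotent_of_commutator_le_centralizer (by rw [hCC]; exact bot_le)
    have hCn : C.Normal := by
      haveI : (generalizedFittingSubgroup Y).Normal := by
        unfold generalizedFittingSubgroup
        haveI := Cfsg.Agent.Lib.Lead.fittingSubgroup_normal (G := Y)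
        infer_instance
      exact Subgroup.normal_centralizer
    have h4 : C ≤ pCore 2 Y :=
      (Cfsg.Agent.Lib.Lead.le_fittingSubgroup hCn hCnil).trans (fittingSubgroup_le_pCore hY)
    have hZ2 : IsPGroup 2 Z :=
      (Cfsg.Agent.Lib.Helper2.pCore_isPGroup (G := Y) 2).to_le (h3.trans h4)
    have hZc : (Nat.card Z).Coprime 2 :=
      Nat.Coprime.coprime_dvd_left (Subgroup.card_dvd_of_le hZD) hD
    have := Cfsg.Agent.Lib.Helper6.isPGroup_inf_coprime_eq_bot hZc hZ2
    rwa [inf_idem] at this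
  obtain ⟨K, hK, hZK⟩ := hex
  have hDK := hnorm K hK
  have hnotD : ¬ D ≤ Subgroup.centralizer (K : Set Y) := fun h => hZK (hZD.trans h)
  refine ⟨K, hK, ?_, hDK, ?_, hZK⟩
  · -- `t` normalizes `K`
    by_contra hne
    apply hnotD
    have hK' : IsComponent (cj t K) := IsComponent.map_conj hK t
    have hcomm0 : ⁅K, cj t K⁆ = ⊥ := IsComponent.commutator_eq_bot_of_ne hK hK' (Ne.symm hne)
    have hcomm : ∀ a ∈ K, ∀ b ∈ K, a * (t * b * t⁻¹) = (t * b * t⁻¹) * a := by
      intro a ha b hb
      have h1 := Subgroup.commutator_eq_bot_iff_le_centralizer.1 hcomm0 ha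
      exact ((Subgroup.mem_centralizer_iff.1 h1) _ (conj_mem_cj t K hb)).symm
    apply le_centralizer_component_of_hom hY hK hD hDK (diagHom K t hcomm)
    · intro k
      apply hND
      rw [Subgroup.mem_centralizer_singleton_iff, diagHom_apply, htinv]
      have h1 := hcomm k k.2 k k.2
      rw [htinv] at h1
      calc (k : Y) * (t * k * t) * t = (t * k * t) * k * t := by rw [h1]
        _ = t * ((k : Y) * (t * k * t)) := by group
    · intro d hd k hk'
      have hdt' : d * t = t * d := Subgroup.mem_centralizer_singleton_iff.1 (hDt hd)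
      have hdt : t * d = d * t := hdt'.symm
      rw [diagHom_apply, diagHom_apply]
      change d * ((k : Y) * (t * k * t⁻¹)) * d⁻¹ = (d * k * d⁻¹) * (t * (d * k * d⁻¹) * t⁻¹)
      have hdt2 : t⁻¹ * d⁻¹ = d⁻¹ * t⁻¹ := by
        rw [← mul_inv_rev, ← mul_inv_rev, hdt]
      calc d * ((k : Y) * (t * k * t⁻¹)) * d⁻¹ = (d * k * d⁻¹) * ((d * t) * k * (t⁻¹ * d⁻¹)) := by
            group
        _ = (d * k * d⁻¹) * ((t * d) * k * (d⁻¹ * t⁻¹)) := by rw [hdt', hdt2]
        _ = (d * k * d⁻¹) * (t * (d * k * d⁻¹) * t⁻¹) := by group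
    · intro hker
      apply hne
      have hle : cj t K ≤ K := by
        intro x hx
        rw [mem_cj] at hx
        -- x = t * y * t⁻¹ with y ∈ K
        set y : ↥K := ⟨t⁻¹ * x * t, hx⟩ with hy
        have h1 : y ∈ (diagHom K t hcomm).ker := by rw [hker]; exact Subgroup.mem_top y
        rw [MonoidHom.mem_ker, diagHom_apply] at h1
        have h2 : x = ((y : Y))⁻¹ := by
          have e : t * (y : Y) * t⁻¹ = x := by rw [hy]; group
          rw [← e]
          exact eq_inv_of_mul_eq_one_right h1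
        rw [h2]
        exact K.inv_mem y.2
      apply le_antisymm hle
      have := cj_mono t hle
      rwa [cj_cj, ht, cj_one] at this
  · -- `t` does not centralize `K`
    intro htK
    apply hnotD
    apply le_centralizer_component_of_hom hY hK hD hDK K.subtype
    · intro k
      apply hND
      rw [Subgroup.mem_centralizer_singleton_iff]
      exact (Subgroup.mem_centralizer_iff.1 htK) k k.2
    · intro d hd k hk'
      rfl
    · intro hker
      rw [Subgroup.ker_subtype] at hker
      have : K = ⊥ := by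
        rw [Subgroup.eq_bot_iff_forall]
        intro x hx
        have h1 : (⟨x, hx⟩ : ↥K) ∈ (⊥ : Subgroup ↥K) := by rw [hker]; exact Subgroup.mem_top _
        exact congrArg Subtype.val (Subgroup.mem_bot.1 h1)
      exact IsQuasisimple.ne_bot hK.2 this

end Invol

end Cfsg.Agent.Lib.Helper4.LBal
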