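import Mathlib

set_option autoImplicit false

/-!
Sections of a group (quotients of subgroups), as a predicate closed under the obvious operations.
-/

namespace Cfsg.Agent.Lib.Helper4.NQ

universe u

/-- `S` is (isomorphic to) a section of `X`: a homomorphic image of a subgroup of `X` -/
def IsSectionOf (S : Type u) [Group S] (X : Type u) [Group X] : Prop :=
  ∃ (H : Subgroup X) (ψ : ↥H →* S), Function.Surjective ψ

section
variable {S S' X Y : Type u} [Group S] [Group S'] [Group X] [Group Y]

theorem IsSectionOf.refl (X : Type u) [Group X] : IsSectionOf X X :=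
  ⟨⊤, (Subgroup.topEquiv : ↥(⊤ : Subgroup X) ≃* X).toMonoidHom, (Subgroup.topEquiv).surjective⟩

theorem IsSectionOf.of_surjective (h : IsSectionOf S X) (f : S →* S')
    (hf : Function.Surjective f) : IsSectionOf S' X := by
  obtain ⟨H, ψ, hψ⟩ := h
  exact ⟨H, f.comp ψ, hf.comp hψ⟩

theorem IsSectionOf.of_mulEquiv (h : IsSectionOf S X) (e : S ≃* S') : IsSectionOf S' X :=
  h.of_surjective e.toMonoidHom e.surjective

theorem IsSectionOf.quotient (h : IsSectionOf S X) (N : Subgroup S) [N.Normal] :
    IsSectionOf (S ⧸ N) X :=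
  h.of_surjective (QuotientGroup.mk' N) (QuotientGroup.mk'_surjective N)

/-- subgroups of `X` are sections -/
theorem IsSectionOf.subgroup (H : Subgroup X) : IsSectionOf ↥H X :=
  ⟨H, MonoidHom.id _, Function.surjective_id⟩

/-- a subgroup of a section is a section -/
theorem IsSectionOf.subgroupOf (h : IsSectionOf S X) (T : Subgroup S) : IsSectionOf ↥T X := by
  obtain ⟨H, ψ, hψ⟩ := h
  set H' : Subgroup ↥H := T.comap ψ with hH'
  let e : ↥H' ≃* ↥(H'.map H.subtype) := H'.equivMapOfInjective H.subtype H.subtype_injective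
  refine ⟨H'.map H.subtype, (ψ.subgroupComap T).comp e.symm.toMonoidHom, ?_⟩
  exact (MonoidHom.subgroupComap_surjective_of_surjective ψ T hψ).comp e.symm.surjective

/-- transitivity -/
theorem IsSectionOf.trans (h1 : IsSectionOf S Y) (h2 : IsSectionOf Y X) : IsSectionOf S X := by
  obtain ⟨HY, ψY, hψY⟩ := h1
  have h3 : IsSectionOf ↥HY X := h2.subgroupOf HY
  exact h3.of_surjective ψY hψY

/-- a section given as a quotient of a subgroup -/
theorem IsSectionOf.exists_equiv (h : IsSectionOf S X) :
    ∃ (H : Subgroup X) (N : Subgroup ↥H) (_ : N.Normal), Nonempty (S ≃* ↥H ⧸ N) := by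
  obtain ⟨H, ψ, hψ⟩ := h
  exact ⟨H, ψ.ker, inferInstance, ⟨(QuotientGroup.quotientKerEquivOfSurjective ψ hψ).symm⟩⟩

end

end Cfsg.Agent.Lib.Helper4.NQ
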