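import Mathlib
import Cfsg.Prelude.Def_EvenTechniques
import Cfsg.Prelude.Def_KGroupFacts
import Cfsg.Agent.Lib.Helper4.NQ1
import Cfsg.Agent.Lib.Helper3.PComp8
import Cfsg.Agent.Lib.Helper3.CharP4

set_option autoImplicit false

/-!
Isomorphism invariance of the notions entering the hypotheses of the `B_{p'}`-balance theorem.
-/

namespace Cfsg.Agent.Lib.Helper4.NQ

open Cfsg Cfsg.Agent.Lib.Helper3

section PComp
variable {A B : Type*} [Group A] [Group B] {p : ℕ}

/-- the isomorphism induced on the quotients by `O_{p'}` -/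
noncomputable def quotCoreEquiv (p : ℕ) (e : A ≃* B) :
    A ⧸ pPrimeCore p A ≃* B ⧸ pPrimeCore p B :=
  QuotientGroup.congr (pPrimeCore p A) (pPrimeCore p B) e (pPrimeCore_map_mulEquiv p e)

theorem map_map_mk'_equiv (e : A ≃* B) (K : Subgroup A) :
    (K.map (e : A →* B)).map (QuotientGroup.mk' (pPrimeCore p B)) =
      (K.map (QuotientGroup.mk' (pPrimeCore p A))).map
        (quotCoreEquiv p e).toMonoidHom := by
  rw [Subgroup.map_map, Subgroup.map_map]
  congr 1

theorem IsPComponent.map_equiv (e : A ≃* B) {K : Subgroup A} (hK : IsPComponent p K) :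
    IsPComponent p (K.map (e : A →* B)) := by
  refine ⟨hK.1.map e.surjective, ?_, ?_⟩
  · rw [map_map_mk'_equiv]
    exact IsComponent.map_equiv (quotCoreEquiv p e) hK.2.1
  · intro H hH hle hmap
    have h1 : H.comap (e : A →* B) ≤ K := by
      intro x hx
      obtain ⟨k, hk, hkx⟩ := hle hx
      have : k = x := e.injective hkx
      rwa [← this]
    have hHe : (H.comap (e : A →* B)).map (e : A →* B) = H :=
      Subgroup.map_comap_eq_self_of_surjective e.surjective H
    have h2 : (H.comap (e : A →* B)).map (QuotientGroup.mk' (pPrimeCore p A)) =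
        K.map (QuotientGroup.mk' (pPrimeCore p A)) := by
      have h3 : ((H.comap (e : A →* B)).map (QuotientGroup.mk' (pPrimeCore p A))).map
          (quotCoreEquiv p e).toMonoidHom =
          (K.map (QuotientGroup.mk' (pPrimeCore p A))).map
            (quotCoreEquiv p e).toMonoidHom := by
        rw [← map_map_mk'_equiv, ← map_map_mk'_equiv, hHe, hmap]
      exact Subgroup.map_injective (quotCoreEquiv p e).injective h3
    have h4 := hK.2.2 _ (hH.comap _) h1 h2
    rw [← hHe, h4]

end PComp

section Bp
variable {S Q : Type*} [Group S] [Group Q] {p : ℕ}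

/-- the isomorphism between centralizers induced by an isomorphism -/
def centralizerEquiv (e : S ≃* Q) (x : S) :
    ↥(Subgroup.centralizer ({x} : Set S)) ≃* ↥(Subgroup.centralizer ({e x} : Set Q)) where
  toFun c := ⟨e c, by
    rw [Subgroup.mem_centralizer_singleton_iff, ← map_mul, ← map_mul,
      Subgroup.mem_centralizer_singleton_iff.1 c.2]⟩
  invFun c := ⟨e.symm c, by
    rw [Subgroup.mem_centralizer_singleton_iff]
    apply e.injective
    rw [map_mul, map_mul, MulEquiv.apply_symm_apply]
    exact Subgroup.mem_centralizer_singleton_iff.1 c.2⟩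
  left_inv c := by ext; simp
  right_inv c := by ext; simp
  map_mul' a b := by ext; simp

theorem hasBpProperty_of_mulEquiv (e : S ≃* Q) (h : HasBpProperty p Q) : HasBpProperty p S := by
  refine ⟨?_, ?_⟩
  · have h1 := pPrimeCore_map_mulEquiv p e
    rw [h.1, Subgroup.map_eq_bot_iff_of_injective _ e.injective] at h1
    exact h1
  · intro x hx K hK
    have hx' : orderOf (e x) = p := by rw [MulEquiv.orderOf_eq]; exact hx
    have hK' := IsPComponent.map_equiv (centralizerEquiv e x) hK
    have hq := h.2 (e x) hx' _ hK'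
    exact isQuasisimple_of_mulEquiv
      (K.equivMapOfInjective _ (centralizerEquiv e x).injective).symm hq

end Bp

section Out
variable {A B : Type*} [Group A] [Group B]

theorem isSolvable_out_of_mulEquiv (e : A ≃* B) (h : Group.IsSolvable (Cfsg.Out A)) :
    Group.IsSolvable (Cfsg.Out B) := by
  have hle : Cfsg.Inn A ≤ (Cfsg.Inn B).comap (MulAut.congr e).toMonoidHom := by
    rintro _ ⟨a, rfl⟩
    refine ⟨e a, ?_⟩
    ext b
    simp [MulAut.congr]
  let f : Cfsg.Out A →* Cfsg.Out B :=
    QuotientGroup.map (Cfsg.Inn A) (Cfsg.Inn B) (MulAut.congr e).toMonoidHom hle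
  have hf : Function.Surjective f := by
    intro y
    obtain ⟨β, rfl⟩ := QuotientGroup.mk_surjective y
    exact ⟨((MulAut.congr e).symm β : MulAut A), by
      change ((MulAut.congr e) ((MulAut.congr e).symm β) : Cfsg.Out B) = _
      rw [MulEquiv.apply_symm_apply]⟩
  exact Group.isSolvable_of_surjective hf

theorem map_center_equiv (e : A ≃* B) :
    (Subgroup.center A).map (e : A →* B) = Subgroup.center B := by
  ext y
  constructor
  · rintro ⟨x, hx, rfl⟩
    have hx := Subgroup.mem_center_iff.1 hx
    rw [Subgroup.mem_center_iff]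
    intro g
    obtain ⟨g', rfl⟩ := e.surjective g
    change e g' * e x = e x * e g'
    rw [← map_mul, ← map_mul, hx g']
  · intro hy
    have hy := Subgroup.mem_center_iff.1 hy
    refine ⟨e.symm y, ?_, by simp⟩
    change e.symm y ∈ Subgroup.center A
    rw [Subgroup.mem_center_iff]
    intro g
    apply e.injective
    rw [map_mul, map_mul, MulEquiv.apply_symm_apply]
    exact hy (e g)

/-- the isomorphism induced on central quotients -/
noncomputable def centerQuotEquiv (e : A ≃* B) :
    A ⧸ Subgroup.center A ≃* B ⧸ Subgroup.center B :=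
  QuotientGroup.congr _ _ e (map_center_equiv e)

end Out

section Fstar
variable {S Q : Type*} [Group S] [Group Q]

/-- the isomorphism induced on generalized Fitting subgroups -/
noncomputable def fstarEquiv (e : S ≃* Q) :
    ↥(generalizedFittingSubgroup S) ≃* ↥(generalizedFittingSubgroup Q) :=
  ((generalizedFittingSubgroup S).equivMapOfInjective (e : S →* Q) e.injective).trans
    (MulEquiv.subgroupCongr (generalizedFittingSubgroup_map_mulEquiv e))

end Fstar

universe u

/-- the hypothesis of the `B_{p'}`-balance theorem, for a single group `S` -/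
def GoodSec (p : ℕ) (S : Type u) [Group S] : Prop :=
  HasQuasisimpleGeneralizedFitting S → pPrimeCore p S = ⊥ →
    HasBpProperty p S ∧
      Group.IsSolvable (Cfsg.Out (↥(generalizedFittingSubgroup S) ⧸
        Subgroup.center ↥(generalizedFittingSubgroup S)))

theorem goodSec_of_mulEquiv {p : ℕ} {S Q : Type u} [Group S] [Group Q] (e : S ≃* Q)
    (h : GoodSec p Q) : GoodSec p S := by
  intro hqs hO
  have hqs' : HasQuasisimpleGeneralizedFitting Q :=
    isQuasisimple_of_mulEquiv (fstarEquiv e) hqs
  have hO' : pPrimeCore p Q = ⊥ := by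
    rw [← pPrimeCore_map_mulEquiv p e, hO, Subgroup.map_bot]
  obtain ⟨h1, h2⟩ := h hqs' hO'
  refine ⟨hasBpProperty_of_mulEquiv e h1, ?_⟩
  exact isSolvable_out_of_mulEquiv (centerQuotEquiv (fstarEquiv e)).symm h2

/-- every section of `X` (with quasisimple `F*` and trivial `p'`-core) has the `B_p`-property and
the Schreier property -/
def Good (p : ℕ) (X : Type u) [Group X] : Prop :=
  ∀ (S : Type u) [Group S] [Finite S], IsSectionOf S X → GoodSec p S

theorem Good.of_isSectionOf {p : ℕ} {X Y : Type u} [Group X] [Group Y] (h : Good p X)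
    (hY : IsSectionOf Y X) : Good p Y :=
  fun S _ _ hS => h S (hS.trans hY)

theorem good_of_hyps {p : ℕ} {X : Type u} [Group X] [Finite X]
    (hB : ∀ (H : Subgroup X) (N : Subgroup ↥H) [N.Normal],
      HasQuasisimpleGeneralizedFitting (↥H ⧸ N) →
      pPrimeCore p (↥H ⧸ N) = ⊥ → HasBpProperty p (↥H ⧸ N))
    (hS : ∀ (H : Subgroup X) (N : Subgroup ↥H) [N.Normal],
      HasQuasisimpleGeneralizedFitting (↥H ⧸ N) →
      pPrimeCore p (↥H ⧸ N) = ⊥ →
        Group.IsSolvable (Cfsg.Out (↥(generalizedFittingSubgroup (↥H ⧸ N)) ⧸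
          Subgroup.center ↥(generalizedFittingSubgroup (↥H ⧸ N))))) : Good p X := by
  intro S _ _ hSec
  obtain ⟨H, N, hN, ⟨e⟩⟩ := hSec.exists_equiv
  apply goodSec_of_mulEquiv e
  intro hqs hO
  exact ⟨hB H N hqs hO, hS H N hqs hO⟩

end Cfsg.Agent.Lib.Helper4.NQ
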