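import Mathlib
import Cfsg.Agent.Lib.Helper4.NQ2
import Cfsg.Agent.Lib.Helper4.LBal12
import Cfsg.Agent.Lib.Helper3.PComp6

set_option autoImplicit false
open scoped commutatorElement

/-!
The automizer section `N(K)/C(K)` of a component `K` of a group with `O_{p'} = 1`:
its generalized Fitting subgroup is the image of `K` (simple), and its `p'`-core is trivial.
-/

namespace Cfsg.Agent.Lib.Helper4.NQ

open Cfsg Cfsg.Agent.Lib.Helper1 Cfsg.Agent.Lib.Helper3 Cfsg.Agent.Lib.Helper4.LBal

section FS
variable {A : Type*} [Group A] [Finite A]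

/-- a normal quasisimple subgroup with trivial centralizer is the generalized Fitting subgroup -/
theorem generalizedFittingSubgroup_eq_of_normal_quasisimple {T : Subgroup A} [hTn : T.Normal]
    (hTq : IsQuasisimple ↥T) (hC : Subgroup.centralizer (T : Set A) = ⊥) :
    generalizedFittingSubgroup A = T := by
  have hTc : IsComponent T := ⟨hTn.isSubnormal, hTq⟩
  have hlayer : layer A = T := by
    apply le_antisymm
    · rw [layer_le_iff]
      intro J hJ
      by_cases hJT : J = T
      · rw [hJT]
      · exfalso
        have h1 := IsComponent.commutator_eq_bot_of_ne hJ hTc hJT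
        rw [Subgroup.commutator_eq_bot_iff_le_centralizer, hC, le_bot_iff] at h1
        exact IsQuasisimple.ne_bot hJ.2 h1
    · exact IsComponent.le_layer hTc
  have hfit : fittingSubgroup A = ⊥ := by
    have h1 : ⁅layer A, fittingSubgroup A⁆ = ⊥ := commutator_layer_fittingSubgroup
    rw [Subgroup.commutator_comm, Subgroup.commutator_eq_bot_iff_le_centralizer, hlayer, hC,
      le_bot_iff] at h1
    exact h1
  unfold generalizedFittingSubgroup
  rw [hlayer, hfit, sup_bot_eq]

end FS

universe u

section Sec
variable {G : Type u} [Group G]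

/-- the automizer section `N(K)/C(K)` -/
abbrev autSec (K : Subgroup G) : Type u :=
  ↥(Subgroup.normalizer (K : Set G)) ⧸
    (Subgroup.centralizer (K : Set G)).subgroupOf (Subgroup.normalizer (K : Set G))

/-- the projection `N(K) → N(K)/C(K)` -/
abbrev autProj (K : Subgroup G) : ↥(Subgroup.normalizer (K : Set G)) →* autSec K :=
  QuotientGroup.mk' _

/-- the image of `K` in `N(K)/C(K)` -/
def innSub (K : Subgroup G) : Subgroup (autSec K) :=
  (K.subgroupOf (Subgroup.normalizer (K : Set G))).map (autProj K)

/-- the map `K → N(K)/C(K)` -/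
def innHom (K : Subgroup G) : ↥K →* autSec K :=
  (autProj K).comp (Subgroup.inclusion (Subgroup.le_normalizer : K ≤ Subgroup.normalizer (K : Set G)))

theorem innHom_range (K : Subgroup G) : (innHom K).range = innSub K := by
  unfold innHom innSub
  rw [MonoidHom.range_comp, Subgroup.inclusion_range]

theorem innHom_ker (K : Subgroup G) : (innHom K).ker = Subgroup.center ↥K := by
  ext k
  rw [MonoidHom.mem_ker]
  unfold innHom
  rw [MonoidHom.comp_apply, QuotientGroup.mk'_apply, QuotientGroup.eq_one_iff,
    Subgroup.mem_subgroupOf, Subgroup.mem_center_iff]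
  change (k : G) ∈ Subgroup.centralizer (K : Set G) ↔ _
  rw [Subgroup.mem_centralizer_iff]
  constructor
  · intro h g
    exact Subtype.ext (h g g.2)
  · intro h g hg
    exact congrArg Subtype.val (h ⟨g, hg⟩)

/-- `K / Z(K) ≅` the image of `K` in `N(K)/C(K)` -/
noncomputable def innEquiv (K : Subgroup G) : ↥K ⧸ Subgroup.center ↥K ≃* ↥(innSub K) :=
  ((QuotientGroup.quotientMulEquivOfEq (innHom_ker K).symm).trans
    (QuotientGroup.quotientKerEquivRange (innHom K))).trans
    (MulEquiv.subgroupCongr (innHom_range K))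

instance innSub_normal (K : Subgroup G) : (innSub K).Normal := by
  unfold innSub
  haveI : (K.subgroupOf (Subgroup.normalizer (K : Set G))).Normal := Subgroup.normal_in_normalizer
  exact Subgroup.Normal.map inferInstance _ (QuotientGroup.mk'_surjective _)

theorem autSec_isSectionOf (K : Subgroup G) : IsSectionOf (autSec K) G :=
  (IsSectionOf.subgroup _).quotient _

theorem centralizer_innSub (K : Subgroup G) (hKp : ⁅K, K⁆ = K) :
    Subgroup.centralizer (innSub K : Set (autSec K)) = ⊥ := by
  rw [Subgroup.eq_bot_iff_forall]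
  intro a ha
  obtain ⟨n, rfl⟩ := QuotientGroup.mk'_surjective _ a
  rw [QuotientGroup.mk'_apply, QuotientGroup.eq_one_iff, Subgroup.mem_subgroupOf]
  apply mem_centralizer_of_commutator_mem_center hKp n.2
  intro k hk x hx
  have hkN : k ∈ Subgroup.normalizer (K : Set G) := Subgroup.le_normalizer hk
  have hmem : autProj K ⟨k, hkN⟩ ∈ innSub K :=
    Subgroup.mem_map_of_mem _ (Subgroup.mem_subgroupOf.2 hk)
  have h1 := (Subgroup.mem_centralizer_iff.1 ha) _ hmem
  -- `ρ(k) ρ(n) = ρ(n) ρ(k)`
  have h2 : (⟨k, hkN⟩ : ↥(Subgroup.normalizer (K : Set G)))⁻¹ * (n * ⟨k, hkN⟩ * n⁻¹) ∈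
      (Subgroup.centralizer (K : Set G)).subgroupOf (Subgroup.normalizer (K : Set G)) := by
    rw [← QuotientGroup.eq_one_iff]
    change (autProj K) _ = 1
    rw [map_mul, map_mul, map_mul, map_inv, map_inv]
    change (autProj K ⟨k, hkN⟩)⁻¹ * (autProj K n * autProj K ⟨k, hkN⟩ * (autProj K n)⁻¹) = 1
    rw [← h1]
    group
  rw [Subgroup.mem_subgroupOf] at h2
  exact ((Subgroup.mem_centralizer_iff.1 h2) x hx).symm

end Sec

section Sec2
variable {G : Type u} [Group G] [Finite G] {p : ℕ} [hp : Fact p.Prime]

theorem isQuasisimple_innSub {K : Subgroup G} (hK : IsQuasisimple ↥K) :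
    IsQuasisimple ↥(innSub K) :=
  isQuasisimple_of_mulEquiv (innEquiv K)
    (isQuasisimple_quotient_of_le_center hK (Subgroup.center ↥K) le_rfl)

theorem generalizedFittingSubgroup_autSec {K : Subgroup G} (hK : IsQuasisimple ↥K) :
    generalizedFittingSubgroup (autSec K) = innSub K :=
  generalizedFittingSubgroup_eq_of_normal_quasisimple (isQuasisimple_innSub hK)
    (centralizer_innSub K (Subgroup.isPerfect_iff.1 hK.1))

theorem pPrimeCore_autSec (hG : pPrimeCore p G = ⊥) {K : Subgroup G} (hK : IsComponent K) :
    pPrimeCore p (autSec K) = ⊥ := by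
  set O := pPrimeCore p (autSec K) with hO
  haveI hOn : O.Normal := pPrimeCore_normal p _
  have hq := isQuasisimple_innSub hK.2
  have hcomp : IsComponent (innSub K) := ⟨(innSub_normal K).isSubnormal, hq⟩
  rcases IsComponent.le_or_commutator_eq_bot_of_isSubnormal hcomp hOn.isSubnormal with h | h
  · exfalso
    have h1 : (Nat.card (innSub K)).Coprime p :=
      Nat.Coprime.coprime_dvd_left (Subgroup.card_dvd_of_le h)
        (Cfsg.Agent.Lib.Helper6.pPrimeCore_coprime p)
    have h2 : (Subgroup.center ↥K).index.Coprime p := by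
      rw [Subgroup.index_eq_card, Nat.card_congr (innEquiv K).toEquiv]
      exact h1
    have h3 := coprime_card_of_isQuasisimple_of_le_center hK.2 (Subgroup.center ↥K) h2 le_rfl
    have h4 := IsComponent.dvd_card hG hK
    have h5 : p ∣ Nat.gcd (Nat.card K) p := Nat.dvd_gcd h4 dvd_rfl
    rw [h3] at h5
    exact hp.out.one_lt.ne' (Nat.dvd_one.mp h5)
  · rw [Subgroup.commutator_comm, Subgroup.commutator_eq_bot_iff_le_centralizer,
      centralizer_innSub K (Subgroup.isPerfect_iff.1 hK.2.1), le_bot_iff] at h
    exact h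

/-- from `Good`: the automizer section of a component has the `B_p`-property and the component
has the Schreier property -/
theorem good_autSec (hgood : Good p G) (hG : pPrimeCore p G = ⊥) {K : Subgroup G}
    (hK : IsComponent K) :
    HasBpProperty p (autSec K) ∧
      Group.IsSolvable (Cfsg.Out (↥K ⧸ Subgroup.center ↥K)) := by
  have hF := generalizedFittingSubgroup_autSec hK.2
  have hqs : HasQuasisimpleGeneralizedFitting (autSec K) := by
    unfold HasQuasisimpleGeneralizedFitting
    rw [hF]
    exact isQuasisimple_innSub hK.2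
  obtain ⟨h1, h2⟩ := hgood (autSec K) (autSec_isSectionOf K) hqs (pPrimeCore_autSec hG hK)
  refine ⟨h1, ?_⟩
  -- transport the Schreier property
  set Kq := ↥K ⧸ Subgroup.center ↥K with hKq
  have hKqq : IsQuasisimple Kq :=
    isQuasisimple_quotient_of_le_center hK.2 (Subgroup.center ↥K) le_rfl
  haveI : IsSimpleGroup Kq := hK.2.2
  have hcz : Subgroup.center Kq = ⊥ := by
    rcases (inferInstance : (Subgroup.center Kq).Normal).eq_bot_or_eq_top with h | h
    · exact h
    · exfalso
      apply IsQuasisimple.not_isSolvable hKqq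
      apply Group.isSolvable_of_comm
      intro a b
      have : b ∈ Subgroup.center Kq := by rw [h]; exact Subgroup.mem_top b
      exact (Subgroup.mem_center_iff.1 this a)
  let e1 : ↥(generalizedFittingSubgroup (autSec K)) ≃* Kq :=
    (MulEquiv.subgroupCongr hF).trans (innEquiv K).symm
  let e2 : ↥(generalizedFittingSubgroup (autSec K)) ⧸
      Subgroup.center ↥(generalizedFittingSubgroup (autSec K)) ≃* Kq :=
    ((centerQuotEquiv e1).trans (QuotientGroup.quotientMulEquivOfEq hcz)).trans
      QuotientGroup.quotientBot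
  exact isSolvable_out_of_mulEquiv e2 h2

end Sec2

end Cfsg.Agent.Lib.Helper4.NQ
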