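import Mathlib
import Cfsg.Agent.Lib.Helper4.NQ3

set_option autoImplicit false
open scoped commutatorElement Pointwise

/-!
The splitting lemma for a `p`-component of a `p`-local subgroup whose image lies in a central
product `M₁ M₂`.
-/

namespace Cfsg.Agent.Lib.Helper4.NQ

open Cfsg Cfsg.Agent.Lib.Helper1 Cfsg.Agent.Lib.Helper3 Cfsg.Agent.Lib.Helper4.LBal

section Dich
variable {N : Type*} [Group N] [Finite N] {p : ℕ} [hp : Fact p.Prime]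

/-- a `p`-component `L` and a subnormal subgroup `H`: either `L ≤ H` or `[L, H] ≤ O_{p'}` -/
theorem IsPComponent.le_or_commutator_le_pPrimeCore_of_isSubnormal {L H : Subgroup N}
    (hL : IsPComponent p L) (hH : H.IsSubnormal) : L ≤ H ∨ ⁅L, H⁆ ≤ pPrimeCore p N := by
  set π := QuotientGroup.mk' (pPrimeCore p N) with hπ
  have hHbar : (H.map π).IsSubnormal := hH.map (QuotientGroup.mk'_surjective _)
  rcases IsComponent.le_or_commutator_eq_bot_of_isSubnormal hL.2.1 hHbar with h | h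
  · left
    have h1 : L ≤ H ⊔ pPrimeCore p N := by
      have h2 := Subgroup.comap_mono (f := π) h
      rw [Subgroup.comap_map_eq, Subgroup.comap_map_eq, QuotientGroup.ker_mk'] at h2
      exact le_sup_left.trans h2
    exact le_of_le_sup_of_isSubnormal (Cfsg.Agent.Lib.Helper6.pPrimeCore_coprime p)
      (fun M hM hidx => by
        haveI := hM
        exact IsPComponent.eq_top_of_normal_of_coprime_index hL M hidx)
      hH h1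
  · right
    rw [← Subgroup.map_commutator, Subgroup.map_eq_bot_iff, QuotientGroup.ker_mk'] at h
    exact h

/-- the image of a `p`-component under a homomorphism is trivial as soon as it is a `p'`-group -/
theorem IsPComponent.map_eq_bot_of_coprime {Ybar : Type*} [Group Ybar] {L : Subgroup N}
    (hL : IsPComponent p L) (φ : N →* Ybar) (hc : (Nat.card (L.map φ)).Coprime p) :
    L.map φ = ⊥ := by
  set f : ↥L →* Ybar := φ.comp L.subtype with hf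
  have hrange : f.range = L.map φ := by
    rw [hf, MonoidHom.range_comp, Subgroup.range_subtype]
  have hidx : f.ker.index.Coprime p := by
    rw [Subgroup.index_ker, hrange]
    exact hc
  have hker : f.ker = ⊤ := IsPComponent.eq_top_of_normal_of_coprime_index hL f.ker hidx
  rw [← hrange, MonoidHom.range_eq_bot_iff]
  exact (MonoidHom.ker_eq_top_iff).1 hker

end Dich

section Comm
variable {G : Type*} [Group G]

theorem commutatorElement_mul_mul_of_commute {a b z w : G} (hza : z * a = a * z)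
    (hzb : z * b = b * z) (hwa : w * a = a * w) (hwb : w * b = b * w) (hzw : z * w = w * z) :
    ⁅a * z, b * w⁆ = ⁅a, b⁆ := by
  rw [commutatorElement_def, commutatorElement_def]
  have h1 : z * (b * w) = (b * w) * z := by
    rw [← mul_assoc, hzb, mul_assoc, hzw, ← mul_assoc]
  have h2 : w * a⁻¹ = a⁻¹ * w := by
    have : a⁻¹ * (w * a) * a⁻¹ = a⁻¹ * (a * w) * a⁻¹ := by rw [hwa]
    have e1 : a⁻¹ * (w * a) * a⁻¹ = a⁻¹ * w := by group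
    have e2 : a⁻¹ * (a * w) * a⁻¹ = w * a⁻¹ := by group
    rw [e1, e2] at this
    exact this.symm
  calc a * z * (b * w) * (a * z)⁻¹ * (b * w)⁻¹
      = a * (z * (b * w)) * z⁻¹ * a⁻¹ * w⁻¹ * b⁻¹ := by group
    _ = a * ((b * w) * z) * z⁻¹ * a⁻¹ * w⁻¹ * b⁻¹ := by rw [h1]
    _ = a * b * (w * a⁻¹) * w⁻¹ * b⁻¹ := by group
    _ = a * b * (a⁻¹ * w) * w⁻¹ * b⁻¹ := by rw [h2]
    _ = a * b * a⁻¹ * b⁻¹ := by group

/-- commutators in a central product are computed factorwise -/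
theorem commutatorElement_mul_mul_of_le_centralizer {M₁ M₂ : Subgroup G}
    (hM : M₁ ≤ Subgroup.centralizer (M₂ : Set G)) {a a' b b' : G} (ha : a ∈ M₁) (ha' : a' ∈ M₁)
    (hb : b ∈ M₂) (hb' : b' ∈ M₂) : ⁅a * b, a' * b'⁆ = ⁅a, a'⁆ * ⁅b, b'⁆ := by
  have comm : ∀ (m : ↥M₁) (n : ↥M₂), Commute (M₁.subtype m) (M₂.subtype n) := by
    intro m n
    exact ((Subgroup.mem_centralizer_iff.1 (hM m.2)) n n.2).symm
  let μ : ↥M₁ × ↥M₂ →* G := M₁.subtype.noncommCoprod M₂.subtype comm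
  have h1 : μ (⟨a, ha⟩, ⟨b, hb⟩) = a * b := rfl
  have h2 : μ (⟨a', ha'⟩, ⟨b', hb'⟩) = a' * b' := rfl
  rw [← h1, ← h2, ← map_commutatorElement]
  rfl

end Comm

section Split
variable {N : Type*} [Group N] [Finite N] {Ybar : Type*} [Group Ybar] [Finite Ybar]
  {p : ℕ} [hp : Fact p.Prime]

/-- **splitting lemma** -/
theorem splitting {L : Subgroup N} (hL : IsPComponent p L) (φ : N →* Ybar)
    {M₁ M₂ R : Subgroup Ybar}
    (hH₁ : (M₁.comap φ).IsSubnormal) (hH₂ : (M₂.comap φ).IsSubnormal)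
    (hLR : L.map φ ≤ Subgroup.centralizer (R : Set Ybar))
    (hR₁ : R ≤ Subgroup.normalizer (M₁ : Set Ybar))
    (hR₂ : R ≤ Subgroup.normalizer (M₂ : Set Ybar))
    (hM : M₁ ≤ Subgroup.centralizer (M₂ : Set Ybar)) (hLM : L.map φ ≤ M₁ ⊔ M₂)
    (hlift₁ : M₁ ⊓ Subgroup.centralizer (R : Set Ybar) ≤ φ.range)
    (hlift₂ : M₂ ⊓ Subgroup.centralizer (R : Set Ybar) ≤ φ.range) :
    L.map φ ≤ M₁ ∨ L.map φ ≤ M₂ := by
  set Lbar := L.map φ with hLbar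
  set Dbar := (pPrimeCore p N).map φ with hDbar
  have hLperf : ⁅L, L⁆ = L := IsPComponent.commutator_eq_self hL
  have hLbarperf : ⁅Lbar, Lbar⁆ = Lbar := by rw [hLbar, ← Subgroup.map_commutator, hLperf]
  rcases IsPComponent.le_or_commutator_le_pPrimeCore_of_isSubnormal hL hH₁ with h1 | h1
  · left
    rw [hLbar, Subgroup.map_le_iff_le_comap]
    exact h1
  rcases IsPComponent.le_or_commutator_le_pPrimeCore_of_isSubnormal hL hH₂ with h2 | h2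
  · right
    rw [hLbar, Subgroup.map_le_iff_le_comap]
    exact h2
  left
  set A₁ := M₁ ⊓ Subgroup.centralizer (R : Set Ybar) with hA₁
  set A₂ := M₂ ⊓ Subgroup.centralizer (R : Set Ybar) with hA₂
  have hLA : ∀ (M : Subgroup Ybar), ⁅L, M.comap φ⁆ ≤ pPrimeCore p N →
      M ⊓ Subgroup.centralizer (R : Set Ybar) ≤ φ.range →
      ⁅Lbar, M ⊓ Subgroup.centralizer (R : Set Ybar)⁆ ≤ Dbar := by
    intro M hc hlift
    have h3 := Subgroup.map_mono (f := φ) hc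
    rw [Subgroup.map_commutator, Subgroup.map_comap_eq] at h3
    refine le_trans (Subgroup.commutator_mono le_rfl ?_) h3
    exact le_inf hlift inf_le_left
  have hLA₁ := hLA M₁ h1 hlift₁
  have hLA₂ := hLA M₂ h2 hlift₂
  -- `D̄` is normal in the range of `φ`
  have hDn : φ.range ≤ Subgroup.normalizer (Dbar : Set Ybar) := by
    have hOn : (pPrimeCore p N).Normal := pPrimeCore_normal p N
    have := Subgroup.le_normalizer_map (H := pPrimeCore p N) φ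
    rw [Subgroup.normalizer_eq_top_iff.2 hOn, ← MonoidHom.range_eq_map] at this
    exact this
  -- commutators of elements of `L̄` lie in `A₁ A₂`
  have hset : ((M₁ ⊔ M₂ : Subgroup Ybar) : Set Ybar) = (M₁ : Set Ybar) * (M₂ : Set Ybar) :=
    Subgroup.coe_mul_of_left_le_normalizer_right M₁ M₂
      (hM.trans (Subgroup.centralizer_le_normalizer _))
  have hdecomp : ∀ l ∈ Lbar, ∃ m₁ ∈ M₁, ∃ m₂ ∈ M₂, l = m₁ * m₂ := by
    intro l hl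
    have : l ∈ ((M₁ ⊔ M₂ : Subgroup Ybar) : Set Ybar) := hLM hl
    rw [hset] at this
    obtain ⟨m₁, h₁, m₂, h₂, rfl⟩ := Set.mem_mul.1 this
    exact ⟨m₁, h₁, m₂, h₂, rfl⟩
  have hcommM : ∀ a ∈ M₁, ∀ b ∈ M₂, b * a = a * b := fun a ha b hb =>
    (Subgroup.mem_centralizer_iff.1 (hM ha)) b hb
  -- the twist elements
  have htwist : ∀ l ∈ Lbar, ∀ m₁ ∈ M₁, ∀ m₂ ∈ M₂, l = m₁ * m₂ → ∀ r ∈ R,
      m₁⁻¹ * (r * m₁ * r⁻¹) ∈ M₁ ⊓ M₂ := by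
    intro l hl m₁ h₁ m₂ h₂ hlm r hr
    have hrl : r * l = l * r := (Subgroup.mem_centralizer_iff.1 (hLR hl)) r hr
    have hc₁ : r * m₁ * r⁻¹ ∈ M₁ := (Subgroup.mem_normalizer_iff.1 (hR₁ hr) m₁).1 h₁
    have hc₂ : r * m₂ * r⁻¹ ∈ M₂ := (Subgroup.mem_normalizer_iff.1 (hR₂ hr) m₂).1 h₂
    refine ⟨M₁.mul_mem (M₁.inv_mem h₁) hc₁, ?_⟩
    have e : m₁⁻¹ * (r * m₁ * r⁻¹) = m₂ * (r * m₂ * r⁻¹)⁻¹ := by
      have h5 : (r * m₁ * r⁻¹) * (r * m₂ * r⁻¹) = m₁ * m₂ := by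
        have : (r * m₁ * r⁻¹) * (r * m₂ * r⁻¹) = r * (m₁ * m₂) * r⁻¹ := by group
        rw [this, ← hlm, hrl]; group
      calc m₁⁻¹ * (r * m₁ * r⁻¹)
          = m₁⁻¹ * ((r * m₁ * r⁻¹) * (r * m₂ * r⁻¹)) * (r * m₂ * r⁻¹)⁻¹ := by group
        _ = m₁⁻¹ * (m₁ * m₂) * (r * m₂ * r⁻¹)⁻¹ := by rw [h5]
        _ = m₂ * (r * m₂ * r⁻¹)⁻¹ := by group
    rw [e]
    exact M₂.mul_mem h₂ (M₂.inv_mem hc₂)
  have hcent : ∀ z ∈ M₁ ⊓ M₂, ∀ a ∈ M₁, z * a = a * z := fun z hz a ha => hcommM a ha z hz.2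
  have hcomm₁ : ∀ l ∈ Lbar, ∀ l' ∈ Lbar, ∀ m₁ ∈ M₁, ∀ m₂ ∈ M₂, ∀ m₁' ∈ M₁, ∀ m₂' ∈ M₂,
      l = m₁ * m₂ → l' = m₁' * m₂' → ⁅m₁, m₁'⁆ ∈ A₁ := by
    intro l hl l' hl' m₁ h₁ m₂ h₂ m₁' h₁' m₂' h₂' hlm hlm'
    refine Subgroup.mem_inf.2 ⟨?_, ?_⟩
    · rw [commutatorElement_def]
      exact M₁.mul_mem (M₁.mul_mem (M₁.mul_mem h₁ h₁') (M₁.inv_mem h₁)) (M₁.inv_mem h₁')
    · rw [Subgroup.mem_centralizer_iff]
      intro r hr
      set z := m₁⁻¹ * (r * m₁ * r⁻¹) with hz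
      set z' := m₁'⁻¹ * (r * m₁' * r⁻¹) with hz'
      have hzM := htwist l hl m₁ h₁ m₂ h₂ hlm r hr
      have hz'M := htwist l' hl' m₁' h₁' m₂' h₂' hlm' r hr
      have e1 : r * m₁ * r⁻¹ = m₁ * z := by rw [hz]; group
      have e2 : r * m₁' * r⁻¹ = m₁' * z' := by rw [hz']; group
      have h6 : r * ⁅m₁, m₁'⁆ * r⁻¹ = ⁅m₁, m₁'⁆ := by
        rw [conjugate_commutatorElement, e1, e2]
        exact commutatorElement_mul_mul_of_commute (hcent z hzM m₁ h₁) (hcent z hzM m₁' h₁')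
          (hcent z' hz'M m₁ h₁) (hcent z' hz'M m₁' h₁') (hcent z hzM z' hz'M.1)
      calc r * ⁅m₁, m₁'⁆ = (r * ⁅m₁, m₁'⁆ * r⁻¹) * r := by group
        _ = ⁅m₁, m₁'⁆ * r := by rw [h6]
  -- symmetric statement for the second factor
  have htwist₂ : ∀ l ∈ Lbar, ∀ m₁ ∈ M₁, ∀ m₂ ∈ M₂, l = m₁ * m₂ → ∀ r ∈ R,
      m₂⁻¹ * (r * m₂ * r⁻¹) ∈ M₁ ⊓ M₂ := by
    intro l hl m₁ h₁ m₂ h₂ hlm r hr
    have hrl : r * l = l * r := (Subgroup.mem_centralizer_iff.1 (hLR hl)) r hr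
    have hc₁ : r * m₁ * r⁻¹ ∈ M₁ := (Subgroup.mem_normalizer_iff.1 (hR₁ hr) m₁).1 h₁
    have hc₂ : r * m₂ * r⁻¹ ∈ M₂ := (Subgroup.mem_normalizer_iff.1 (hR₂ hr) m₂).1 h₂
    refine ⟨?_, M₂.mul_mem (M₂.inv_mem h₂) hc₂⟩
    have e : m₂⁻¹ * (r * m₂ * r⁻¹) = (r * m₁ * r⁻¹)⁻¹ * m₁ := by
      have h5 : (r * m₁ * r⁻¹) * (r * m₂ * r⁻¹) = m₁ * m₂ := by
        have : (r * m₁ * r⁻¹) * (r * m₂ * r⁻¹) = r * (m₁ * m₂) * r⁻¹ := by group
        rw [this, ← hlm, hrl]; group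
      have hcm : m₂⁻¹ * m₁ = m₁ * m₂⁻¹ := hcommM m₁ h₁ m₂⁻¹ (M₂.inv_mem h₂)
      calc m₂⁻¹ * (r * m₂ * r⁻¹)
          = m₂⁻¹ * (r * m₁ * r⁻¹)⁻¹ * ((r * m₁ * r⁻¹) * (r * m₂ * r⁻¹)) := by group
        _ = m₂⁻¹ * (r * m₁ * r⁻¹)⁻¹ * (m₁ * m₂) := by rw [h5]
        _ = (r * m₁ * r⁻¹)⁻¹ * m₁ := by
            have hc' : m₂⁻¹ * (r * m₁ * r⁻¹)⁻¹ = (r * m₁ * r⁻¹)⁻¹ * m₂⁻¹ :=
              hcommM _ (M₁.inv_mem hc₁) _ (M₂.inv_mem h₂)
            rw [hc', mul_assoc, ← mul_assoc m₂⁻¹, hcm]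
            group
    rw [e]
    exact M₁.mul_mem (M₁.inv_mem hc₁) h₁
  have hcent₂ : ∀ z ∈ M₁ ⊓ M₂, ∀ b ∈ M₂, z * b = b * z := fun z hz b hb =>
    (hcommM z hz.1 b hb).symm
  have hcomm₂ : ∀ l ∈ Lbar, ∀ l' ∈ Lbar, ∀ m₁ ∈ M₁, ∀ m₂ ∈ M₂, ∀ m₁' ∈ M₁, ∀ m₂' ∈ M₂,
      l = m₁ * m₂ → l' = m₁' * m₂' → ⁅m₂, m₂'⁆ ∈ A₂ := by
    intro l hl l' hl' m₁ h₁ m₂ h₂ m₁' h₁' m₂' h₂' hlm hlm'
    refine Subgroup.mem_inf.2 ⟨?_, ?_⟩
    · rw [commutatorElement_def]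
      exact M₂.mul_mem (M₂.mul_mem (M₂.mul_mem h₂ h₂') (M₂.inv_mem h₂)) (M₂.inv_mem h₂')
    · rw [Subgroup.mem_centralizer_iff]
      intro r hr
      set z := m₂⁻¹ * (r * m₂ * r⁻¹) with hz
      set z' := m₂'⁻¹ * (r * m₂' * r⁻¹) with hz'
      have hzM := htwist₂ l hl m₁ h₁ m₂ h₂ hlm r hr
      have hz'M := htwist₂ l' hl' m₁' h₁' m₂' h₂' hlm' r hr
      have e1 : r * m₂ * r⁻¹ = m₂ * z := by rw [hz]; group
      have e2 : r * m₂' * r⁻¹ = m₂' * z' := by rw [hz']; group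
      have h6 : r * ⁅m₂, m₂'⁆ * r⁻¹ = ⁅m₂, m₂'⁆ := by
        rw [conjugate_commutatorElement, e1, e2]
        exact commutatorElement_mul_mul_of_commute (hcent₂ z hzM m₂ h₂) (hcent₂ z hzM m₂' h₂')
          (hcent₂ z' hz'M m₂ h₂) (hcent₂ z' hz'M m₂' h₂') (hcent₂ z hzM z' hz'M.2)
      calc r * ⁅m₂, m₂'⁆ = (r * ⁅m₂, m₂'⁆ * r⁻¹) * r := by group
        _ = ⁅m₂, m₂'⁆ * r := by rw [h6]
  have hLL : ⁅Lbar, Lbar⁆ ≤ A₁ ⊔ A₂ := by
    rw [Subgroup.commutator_le]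
    intro l hl l' hl'
    obtain ⟨m₁, h₁, m₂, h₂, hlm⟩ := hdecomp l hl
    obtain ⟨m₁', h₁', m₂', h₂', hlm'⟩ := hdecomp l' hl'
    rw [hlm, hlm', commutatorElement_mul_mul_of_le_centralizer hM h₁ h₁' h₂ h₂']
    exact Subgroup.mul_mem_sup (hcomm₁ l hl l' hl' m₁ h₁ m₂ h₂ m₁' h₁' m₂' h₂' hlm hlm')
      (hcomm₂ l hl l' hl' m₁ h₁ m₂ h₂ m₁' h₁' m₂' h₂' hlm hlm')
  -- `[L̄, A₁ A₂] ≤ D̄`
  have hA₁₂set : ((A₁ ⊔ A₂ : Subgroup Ybar) : Set Ybar) = (A₁ : Set Ybar) * (A₂ : Set Ybar) := by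
    apply Subgroup.coe_mul_of_left_le_normalizer_right
    refine le_trans ?_ (Subgroup.centralizer_le_normalizer _)
    exact (inf_le_left.trans hM).trans (Subgroup.centralizer_le inf_le_left)
  have hLA₁₂ : ⁅Lbar, A₁ ⊔ A₂⁆ ≤ Dbar := by
    rw [Subgroup.commutator_le]
    intro l hl a ha
    have : a ∈ ((A₁ ⊔ A₂ : Subgroup Ybar) : Set Ybar) := ha
    rw [hA₁₂set] at this
    obtain ⟨a₁, ha₁, a₂, ha₂, rfl⟩ := Set.mem_mul.1 this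
    rw [commutatorElement_mul_right_eq_mul_conj]
    have h7 : ⁅l, a₁⁆ ∈ Dbar := hLA₁ (Subgroup.commutator_mem_commutator hl ha₁)
    have h8 : ⁅l, a₂⁆ ∈ Dbar := hLA₂ (Subgroup.commutator_mem_commutator hl ha₂)
    have h9 : a₁ ∈ Subgroup.normalizer (Dbar : Set Ybar) := hDn (hlift₁ ha₁)
    have h10 : a₁ * ⁅l, a₂⁆ * a₁⁻¹ ∈ Dbar := (Subgroup.mem_normalizer_iff.1 h9 _).1 h8
    have e : ⁅l, a₁⁆ * a₁ * ⁅l, a₂⁆ * a₁⁻¹ = ⁅l, a₁⁆ * (a₁ * ⁅l, a₂⁆ * a₁⁻¹) := by group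
    rw [e]
    exact Dbar.mul_mem h7 h10
  have hLD : Lbar ≤ Dbar := by
    calc Lbar = ⁅Lbar, Lbar⁆ := hLbarperf.symm
      _ ≤ ⁅Lbar, A₁ ⊔ A₂⁆ := Subgroup.commutator_mono le_rfl (hLbarperf ▸ hLL)
      _ ≤ Dbar := hLA₁₂
  have hDc : (Nat.card Dbar).Coprime p :=
    Nat.Coprime.coprime_dvd_left (Subgroup.card_map_dvd _ φ)
      (Cfsg.Agent.Lib.Helper6.pPrimeCore_coprime p)
  have hLc : (Nat.card Lbar).Coprime p :=
    Nat.Coprime.coprime_dvd_left (Subgroup.card_dvd_of_le hLD) hDc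
  have hbot : Lbar = ⊥ := IsPComponent.map_eq_bot_of_coprime hL φ hLc
  rw [hbot]
  exact bot_le

end Split

end Cfsg.Agent.Lib.Helper4.NQ
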