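import Mathlib
import Cfsg.Agent.Lib.Helper4.NQ4
import Cfsg.Agent.S1887

set_option autoImplicit false
open scoped commutatorElement

/-!
An intrinsic form of the notion of `p`-component, and relative subnormality.
-/

namespace Cfsg.Agent.Lib.Helper4.NQ

open Cfsg Cfsg.Agent.Lib.Helper1 Cfsg.Agent.Lib.Helper3 Cfsg.Agent.Lib.Helper4.LBal

/-- the intrinsic part of the definition of a `p`-component: `L / O_{p'}(L)` is quasisimple and `L`
has no proper normal subgroup of index prime to `p` -/
def PQS (p : ℕ) (L : Type*) [Group L] : Prop :=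
  IsQuasisimple (L ⧸ pPrimeCore p L) ∧
    ∀ M : Subgroup L, M.Normal → M.index.Coprime p → M = ⊤

section PQS
variable {X : Type*} [Group X] [Finite X] {p : ℕ} [hp : Fact p.Prime]

theorem isPComponent_iff_pqs {K : Subgroup X} :
    IsPComponent p K ↔ K.IsSubnormal ∧ PQS p ↥K := by
  constructor
  · intro hK
    refine ⟨hK.1, IsPComponent.isQuasisimple_quotient hK, ?_⟩
    intro M hM hidx
    haveI := hM
    exact IsPComponent.eq_top_of_normal_of_coprime_index hK M hidx
  · rintro ⟨hsn, hq, hmin⟩
    refine (Cfsg.Agent.S1887.result (X := X) (p := p)).2 K hsn ⟨?_, ?_⟩ hmin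
    · exact hsn.map (QuotientGroup.mk'_surjective _)
    · exact isQuasisimple_of_mulEquiv (quotientPPrimeCoreEquivMap hsn) hq

omit [Finite X] hp in
theorem PQS.of_mulEquiv {Y : Type*} [Group Y] (e : X ≃* Y) (h : PQS p X) : PQS p Y := by
  refine ⟨isQuasisimple_of_mulEquiv (quotCoreEquiv p e) h.1, ?_⟩
  intro M hM hidx
  have h1 : M.comap e.toMonoidHom = ⊤ := by
    apply h.2 _ (hM.comap _)
    rw [Subgroup.index_comap_of_surjective M e.surjective]
    exact hidx
  rw [eq_top_iff]
  intro y _
  obtain ⟨x, rfl⟩ := e.surjective y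
  have : x ∈ M.comap e.toMonoidHom := by rw [h1]; exact Subgroup.mem_top x
  exact this

/-- a `p'`-quotient of a group without proper normal subgroups of `p'`-index is trivial -/
theorem eq_one_of_coprime_card_of_surjective {Y : Type*} [Group Y]
    (hmin : ∀ M : Subgroup X, M.Normal → M.index.Coprime p → M = ⊤)
    (f : X →* Y) (hf : Function.Surjective f) (hY : (Nat.card Y).Coprime p) (y : Y) : y = 1 := by
  have hker : f.ker = ⊤ := by
    apply hmin _ inferInstance
    rw [Subgroup.index_ker, MonoidHom.range_eq_top.2 hf, Subgroup.card_top]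
    exact hY
  obtain ⟨x, rfl⟩ := hf y
  have : x ∈ f.ker := by rw [hker]; exact Subgroup.mem_top x
  exact this

theorem PQS.of_surjective {Y : Type*} [Group Y] (f : X →* Y) (hf : Function.Surjective f)
    (hY : ∃ y : Y, y ≠ 1) (h : PQS p X) : PQS p Y := by
  haveI : Finite Y := Finite.of_surjective f hf
  obtain ⟨hq, hmin⟩ := h
  have hminY : ∀ M : Subgroup Y, M.Normal → M.index.Coprime p → M = ⊤ := by
    intro M hM hidx
    have h1 : M.comap f = ⊤ := by
      apply hmin _ (hM.comap _)
      rw [Subgroup.index_comap_of_surjective M hf]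
      exact hidx
    rw [eq_top_iff]
    intro y _
    obtain ⟨x, rfl⟩ := hf y
    have : x ∈ M.comap f := by rw [h1]; exact Subgroup.mem_top x
    exact this
  refine ⟨?_, hminY⟩
  -- the composite `X → Y → Y / O_{p'}(Y)` kills `O_{p'}(X)`
  set g : X →* Y ⧸ pPrimeCore p Y := (QuotientGroup.mk' (pPrimeCore p Y)).comp f with hg
  have hgsurj : Function.Surjective g :=
    (QuotientGroup.mk'_surjective _).comp hf
  have hOle : pPrimeCore p X ≤ g.ker := by
    have hn : ((pPrimeCore p X).map g).Normal :=
      Subgroup.Normal.map inferInstance g hgsurj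
    have hc : (Nat.card ((pPrimeCore p X).map g)).Coprime p :=
      Nat.Coprime.coprime_dvd_left (Subgroup.card_map_dvd _ g)
        (Cfsg.Agent.Lib.Helper6.pPrimeCore_coprime p)
    have h1 : (pPrimeCore p X).map g ≤ pPrimeCore p (Y ⧸ pPrimeCore p Y) :=
      Cfsg.Agent.Lib.Helper6.le_pPrimeCore hn hc
    rw [pPrimeCore_quotient_eq_bot, le_bot_iff, Subgroup.map_eq_bot_iff] at h1
    exact h1
  set gbar : X ⧸ pPrimeCore p X →* Y ⧸ pPrimeCore p Y :=
    QuotientGroup.lift (pPrimeCore p X) g hOle with hgbar
  have hgbarsurj : Function.Surjective gbar := by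
    intro y
    obtain ⟨x, rfl⟩ := hgsurj y
    exact ⟨QuotientGroup.mk x, rfl⟩
  rcases IsQuasisimple.normal_eq_top_or_le_center hq gbar.ker with hk | hk
  · -- then `Y` is a `p'`-group, hence trivial
    exfalso
    have htriv : ∀ y : Y ⧸ pPrimeCore p Y, y = 1 := by
      intro y
      obtain ⟨x, rfl⟩ := hgbarsurj y
      have : x ∈ gbar.ker := by rw [hk]; exact Subgroup.mem_top x
      exact this
    have hYO : pPrimeCore p Y = ⊤ := by
      rw [eq_top_iff]
      intro y _
      have := htriv (QuotientGroup.mk y)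
      rwa [QuotientGroup.eq_one_iff] at this
    have hYc : (Nat.card Y).Coprime p := by
      have := Cfsg.Agent.Lib.Helper6.pPrimeCore_coprime (G := Y) p
      rwa [hYO, Subgroup.card_top] at this
    obtain ⟨y, hy⟩ := hY
    exact hy (eq_one_of_coprime_card_of_surjective hmin f hf hYc y)
  · have h1 : IsQuasisimple ((X ⧸ pPrimeCore p X) ⧸ gbar.ker) :=
      isQuasisimple_quotient_of_le_center hq gbar.ker hk
    exact isQuasisimple_of_mulEquiv (QuotientGroup.quotientKerEquivOfSurjective gbar hgbarsurj) h1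

end PQS

/-! ### relative subnormality -/

section RelSub
variable {G : Type*} [Group G]

/-- `A` is a subnormal subgroup of the subgroup `B` -/
def RelSub (A B : Subgroup G) : Prop := A ≤ B ∧ (A.subgroupOf B).IsSubnormal

theorem RelSub.le {A B : Subgroup G} (h : RelSub A B) : A ≤ B := h.1

theorem relSub_top {A : Subgroup G} : RelSub A ⊤ ↔ A.IsSubnormal := by
  constructor
  · rintro ⟨_, h⟩
    have := h.map (f := (Subgroup.topEquiv (G := G)).toMonoidHom) (Subgroup.topEquiv).surjective
    convert this using 1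
    ext x
    simp only [Subgroup.mem_map, Subgroup.mem_subgroupOf]
    constructor
    · intro hx
      exact ⟨⟨x, Subgroup.mem_top x⟩, hx, rfl⟩
    · rintro ⟨y, hy, rfl⟩
      exact hy
  · intro h
    exact ⟨le_top, h.subgroupOf⟩

theorem RelSub.refl (A : Subgroup G) : RelSub A A := by
  refine ⟨le_rfl, ?_⟩
  rw [Subgroup.subgroupOf_self]
  exact Subgroup.IsSubnormal.top

theorem RelSub.of_le_normalizer {A B : Subgroup G} (hAB : A ≤ B)
    (hn : B ≤ Subgroup.normalizer (A : Set G)) : RelSub A B :=
  ⟨hAB, (Subgroup.normal_subgroupOf_of_le_normalizer hn).isSubnormal⟩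

/-- a subnormal subgroup is subnormal in every intermediate subgroup -/
theorem RelSub.of_isSubnormal {A B : Subgroup G} (hA : A.IsSubnormal) (hAB : A ≤ B) :
    RelSub A B := ⟨hAB, hA.subgroupOf⟩

theorem RelSub.trans {A B C : Subgroup G} (h1 : RelSub A B) (h2 : RelSub B C) : RelSub A C := by
  refine ⟨h1.1.trans h2.1, ?_⟩
  refine Subgroup.IsSubnormal.trans (K := B.subgroupOf C) ?_ ?_ h2.2
  · intro x hx
    exact h1.1 hx
  · -- transport along `↥(B.subgroupOf C) → ↥B`
    let e : ↥(B.subgroupOf C) →* ↥B :=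
      { toFun := fun x => ⟨((x : ↥C) : G), x.2⟩
        map_one' := rfl
        map_mul' := fun _ _ => rfl }
    have := h1.2.comap e
    convert this using 1
    ext x
    rfl

theorem RelSub.restrict {A B C : Subgroup G} (h : RelSub A B) (hAC : A ≤ C) (hCB : C ≤ B) :
    RelSub A C := by
  refine ⟨hAC, ?_⟩
  let e : ↥C →* ↥B := Subgroup.inclusion hCB
  have := h.2.comap e
  convert this using 1
  ext x
  rfl

/-- the image of a subnormal subgroup is subnormal in the image of the whole group -/
theorem RelSub.map_range {H : Type*} [Group H] (f : H →* G) {S : Subgroup H}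
    (hS : S.IsSubnormal) : RelSub (S.map f) f.range := by
  refine ⟨?_, ?_⟩
  · rintro _ ⟨s, _, rfl⟩
    exact ⟨s, rfl⟩
  · have := hS.map (f := f.rangeRestrict) f.rangeRestrict_surjective
    convert this using 1
    ext x
    simp only [Subgroup.mem_map, Subgroup.mem_subgroupOf]
    constructor
    · rintro ⟨s, hs, hx⟩
      exact ⟨s, hs, Subtype.ext hx⟩
    · rintro ⟨s, hs, rfl⟩
      exact ⟨s, hs, rfl⟩

theorem RelSub.map {H : Type*} [Group H] (f : H →* G) {S T : Subgroup H} (h : RelSub S T) :
    RelSub (S.map f) (T.map f) := by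
  have h1 := RelSub.map_range (f.comp T.subtype) h.2
  have e1 : (S.subgroupOf T).map (f.comp T.subtype) = S.map f := by
    rw [← Subgroup.map_map, Subgroup.subgroupOf_map_subtype, inf_eq_left.2 h.1]
  have e2 : (f.comp T.subtype).range = T.map f := by
    rw [MonoidHom.range_comp, Subgroup.range_subtype]
  rwa [e1, e2] at h1

end RelSub

end Cfsg.Agent.Lib.Helper4.NQ
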