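import Mathlib
import Cfsg.Agent.Lib.Helper4.NQ5

set_option autoImplicit false
open scoped commutatorElement

/-!
The `n`-fold diagonal ("norm") homomorphism `k ↦ k · xkx⁻¹ ⋯ x^{n-1} k x^{-(n-1)}` on a subgroup `K`
commuting with its conjugates `x^i K x^{-i}`, `0 < i < n`, where `x ^ n` centralizes `K`.
-/

namespace Cfsg.Agent.Lib.Helper4.NQ

open Cfsg Cfsg.Agent.Lib.Helper1 Cfsg.Agent.Lib.Helper3 Cfsg.Agent.Lib.Helper4.LBal

section Norm
variable {G : Type*} [Group G]

/-- `k · xkx⁻¹ ⋯ x^{n-1} k x^{-(n-1)}` -/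
def normProd (x : G) : ℕ → G → G
  | 0, _ => 1
  | (n + 1), k => k * (x * normProd x n k * x⁻¹)

@[simp] theorem normProd_zero (x k : G) : normProd x 0 k = 1 := rfl

theorem normProd_succ (x k : G) (n : ℕ) :
    normProd x (n + 1) k = k * (x * normProd x n k * x⁻¹) := rfl

theorem normProd_one_right (x : G) (n : ℕ) : normProd x n 1 = 1 := by
  induction n with
  | zero => rfl
  | succ n ih => rw [normProd_succ, ih]; group

theorem normProd_succ' (x k : G) (n : ℕ) :
    normProd x (n + 1) k = normProd x n k * (x ^ n * k * (x ^ n)⁻¹) := by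
  induction n with
  | zero => simp [normProd_succ]
  | succ n ih =>
    have e : x * (x ^ n * k * (x ^ n)⁻¹) * x⁻¹ = x ^ (n + 1) * k * (x ^ (n + 1))⁻¹ := by
      rw [pow_succ']; group
    calc normProd x (n + 1 + 1) k
        = k * (x * normProd x (n + 1) k * x⁻¹) := normProd_succ x k (n + 1)
      _ = k * (x * (normProd x n k * (x ^ n * k * (x ^ n)⁻¹)) * x⁻¹) := by rw [ih]
      _ = k * (x * normProd x n k * x⁻¹) * (x * (x ^ n * k * (x ^ n)⁻¹) * x⁻¹) := by group
      _ = normProd x (n + 1) k * (x ^ (n + 1) * k * (x ^ (n + 1))⁻¹) := by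
          rw [e, ← normProd_succ]

theorem normProd_mem (x : G) (n : ℕ) : ∀ (S : Subgroup G) (k : G),
    (∀ i, i < n → x ^ i * k * (x ^ i)⁻¹ ∈ S) → normProd x n k ∈ S := by
  induction n with
  | zero => intro S k _; exact S.one_mem
  | succ n ih =>
    intro S k h
    rw [normProd_succ']
    exact S.mul_mem (ih S k fun i hi => h i (Nat.lt_succ_of_lt hi)) (h n (Nat.lt_succ_self n))

theorem conj_normProd_mem (x : G) (n : ℕ) (S : Subgroup G) (k : G)
    (h : ∀ i, 0 < i → i ≤ n → x ^ i * k * (x ^ i)⁻¹ ∈ S) : x * normProd x n k * x⁻¹ ∈ S := by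
  have h1 : normProd x n k ∈ S.comap (MulAut.conj x).toMonoidHom := by
    apply normProd_mem
    intro i hi
    rw [Subgroup.mem_comap]
    have h2 := h (i + 1) (Nat.succ_pos i) hi
    have e : (MulAut.conj x).toMonoidHom (x ^ i * k * (x ^ i)⁻¹) =
        x ^ (i + 1) * k * (x ^ (i + 1))⁻¹ := by
      simp only [MulEquiv.toMonoidHom_eq_coe, MonoidHom.coe_coe, MulAut.conj_apply]
      rw [pow_succ']; group
    rw [e]; exact h2
  rw [Subgroup.mem_comap] at h1
  simpa [MulAut.conj_apply] using h1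

theorem normProd_conj {x d : G} (hdx : d * x = x * d) (n : ℕ) (k : G) :
    d * normProd x n k * d⁻¹ = normProd x n (d * k * d⁻¹) := by
  induction n with
  | zero => simp
  | succ n ih =>
    rw [normProd_succ, normProd_succ, ← ih]
    have hdx' : d⁻¹ * x⁻¹ = x⁻¹ * d⁻¹ := by
      rw [← mul_inv_rev, ← mul_inv_rev, hdx]
    calc d * (k * (x * normProd x n k * x⁻¹)) * d⁻¹
        = d * k * d⁻¹ * ((d * x) * normProd x n k * (x⁻¹ * d⁻¹)) := by group
      _ = d * k * d⁻¹ * ((x * d) * normProd x n k * (d⁻¹ * x⁻¹)) := by rw [hdx, hdx']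
      _ = d * k * d⁻¹ * (x * (d * normProd x n k * d⁻¹) * x⁻¹) := by group

variable {K : Subgroup G} {x : G} {n : ℕ}

/-- the conjugated tail lies in the centralizer of `K` -/
theorem conj_normProd_mem_centralizer
    (h1 : ∀ i, 0 < i → i < n → ∀ k ∈ K, x ^ i * k * (x ^ i)⁻¹ ∈ Subgroup.centralizer (K : Set G))
    {m : ℕ} (hm : m < n) {k : G} (hk : k ∈ K) :
    x * normProd x m k * x⁻¹ ∈ Subgroup.centralizer (K : Set G) :=
  conj_normProd_mem x m _ k fun i hi him => h1 i hi (lt_of_le_of_lt him hm) k hk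

theorem normProd_mul
    (h1 : ∀ i, 0 < i → i < n → ∀ k ∈ K, x ^ i * k * (x ^ i)⁻¹ ∈ Subgroup.centralizer (K : Set G))
    {m : ℕ} (hm : m ≤ n) {k k' : G} (hk : k ∈ K) (hk' : k' ∈ K) :
    normProd x m (k * k') = normProd x m k * normProd x m k' := by
  induction m with
  | zero => simp
  | succ m ih =>
    rw [normProd_succ, normProd_succ, normProd_succ, ih (Nat.le_of_succ_le hm)]
    have hc := conj_normProd_mem_centralizer h1 (Nat.lt_of_succ_le hm) hk
    have hcomm : k' * (x * normProd x m k * x⁻¹) = (x * normProd x m k * x⁻¹) * k' :=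
      (Subgroup.mem_centralizer_iff.1 hc) k' hk'
    calc k * k' * (x * (normProd x m k * normProd x m k') * x⁻¹)
        = k * (k' * (x * normProd x m k * x⁻¹)) * (x * normProd x m k' * x⁻¹) := by group
      _ = k * ((x * normProd x m k * x⁻¹) * k') * (x * normProd x m k' * x⁻¹) := by rw [hcomm]
      _ = k * (x * normProd x m k * x⁻¹) * (k' * (x * normProd x m k' * x⁻¹)) := by group

/-- the `n`-fold diagonal homomorphism -/
def normHom (K : Subgroup G) (x : G) (n : ℕ)
    (h1 : ∀ i, 0 < i → i < n → ∀ k ∈ K, x ^ i * k * (x ^ i)⁻¹ ∈ Subgroup.centralizer (K : Set G)) :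
    ↥K →* G where
  toFun k := normProd x n (k : G)
  map_one' := normProd_one_right x n
  map_mul' k k' := normProd_mul h1 le_rfl k.2 k'.2

theorem normHom_apply
    (h1 : ∀ i, 0 < i → i < n → ∀ k ∈ K, x ^ i * k * (x ^ i)⁻¹ ∈ Subgroup.centralizer (K : Set G))
    (k : ↥K) : normHom K x n h1 k = normProd x n (k : G) := rfl

/-- the diagonal commutes with `x` -/
theorem normProd_comm
    (h1 : ∀ i, 0 < i → i < n → ∀ k ∈ K, x ^ i * k * (x ^ i)⁻¹ ∈ Subgroup.centralizer (K : Set G))
    (hn : 0 < n) (h2 : x ^ n ∈ Subgroup.centralizer (K : Set G)) {k : G} (hk : k ∈ K) :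
    x * normProd x n k * x⁻¹ = normProd x n k := by
  obtain ⟨m, rfl⟩ : ∃ m, n = m + 1 := ⟨n - 1, by omega⟩
  have hc := conj_normProd_mem_centralizer h1 (Nat.lt_succ_self m) hk
  have hcomm : k * (x * normProd x m k * x⁻¹) = (x * normProd x m k * x⁻¹) * k :=
    (Subgroup.mem_centralizer_iff.1 hc) k hk
  have h3 : x ^ (m + 1) * k * (x ^ (m + 1))⁻¹ = k := by
    have := (Subgroup.mem_centralizer_iff.1 h2) k hk
    rw [← this]; group
  calc x * normProd x (m + 1) k * x⁻¹
      = x * (normProd x m k * (x ^ m * k * (x ^ m)⁻¹)) * x⁻¹ := by rw [normProd_succ']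
    _ = (x * normProd x m k * x⁻¹) * (x ^ (m + 1) * k * (x ^ (m + 1))⁻¹) := by
        rw [pow_succ']; group
    _ = (x * normProd x m k * x⁻¹) * k := by rw [h3]
    _ = k * (x * normProd x m k * x⁻¹) := hcomm.symm
    _ = normProd x (m + 1) k := (normProd_succ x k m).symm

end Norm

end Cfsg.Agent.Lib.Helper4.NQ
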