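import Mathlib
import Cfsg.Agent.Lib.Helper4.NQ6

set_option autoImplicit false
open scoped commutatorElement

/-!
The quasisimple and non-quasisimple parts of the `p`-layer.
-/

namespace Cfsg.Agent.Lib.Helper4.NQ

open Cfsg Cfsg.Agent.Lib.Helper1 Cfsg.Agent.Lib.Helper3 Cfsg.Agent.Lib.Helper4.LBal

section Gen
variable {G : Type*} [Group G]

theorem iSup_normal_of_conj {P : Subgroup G → Prop}
    (hP : ∀ (g : G) (K : Subgroup G), P K → P (cj g K)) :
    (⨆ K : {K : Subgroup G // P K}, (K : Subgroup G)).Normal := by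
  apply normal_of_forall_map_conj_le
  intro g
  change cj g _ ≤ _
  rw [cj_iSup]
  apply iSup_le
  rintro ⟨K, hK⟩
  exact le_iSup (fun K : {K : Subgroup G // P K} => (K : Subgroup G)) ⟨cj g K, hP g K hK⟩

theorem le_normalizer_iSup {ι : Sort*} {A : Subgroup G} {f : ι → Subgroup G}
    (h : ∀ i, A ≤ Subgroup.normalizer (f i : Set G)) :
    A ≤ Subgroup.normalizer ((⨆ i, f i : Subgroup G) : Set G) := by
  intro a ha
  apply mem_normalizer_of_cj_eq
  rw [cj_iSup]
  congr 1
  funext i
  exact cj_eq_of_mem_normalizer (h i ha)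

/-- `cj g K ≅ K` -/
noncomputable def cjEquiv (g : G) (K : Subgroup G) : ↥K ≃* ↥(cj g K) :=
  K.equivMapOfInjective (MulAut.conj g).toMonoidHom (MulAut.conj g).injective

theorem isQuasisimple_cj_iff (g : G) (K : Subgroup G) :
    IsQuasisimple ↥(cj g K) ↔ IsQuasisimple ↥K :=
  ⟨fun h => isQuasisimple_of_mulEquiv (cjEquiv g K).symm h,
    fun h => isQuasisimple_of_mulEquiv (cjEquiv g K) h⟩

theorem map_cj {H : Type*} [Group H] (f : G →* H) (g : G) (K : Subgroup G) :
    (cj g K).map f = cj (f g) (K.map f) := by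
  unfold cj
  rw [Subgroup.map_map, Subgroup.map_map]
  congr 1
  ext x
  simp [MulAut.conj_apply]

end Gen

section Parts
variable {X : Type*} [Group X] [Finite X] {p : ℕ} [hp : Fact p.Prime]

/-- the product of the quasisimple `p`-components -/
def quasisimplePLayer (p : ℕ) (X : Type*) [Group X] : Subgroup X :=
  ⨆ K : {K : Subgroup X // IsPComponent p K ∧ IsQuasisimple ↥K}, (K : Subgroup X)

instance nonQuasisimplePLayer_normal : (nonQuasisimplePLayer p X).Normal := by
  unfold nonQuasisimplePLayer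
  apply iSup_normal_of_conj
  rintro g K ⟨hK, hq⟩
  exact ⟨IsPComponent.map_conj hK g, fun h => hq ((isQuasisimple_cj_iff g K).1 h)⟩

instance quasisimplePLayer_normal : (quasisimplePLayer p X).Normal := by
  unfold quasisimplePLayer
  apply iSup_normal_of_conj
  rintro g K ⟨hK, hq⟩
  exact ⟨IsPComponent.map_conj hK g, (isQuasisimple_cj_iff g K).2 hq⟩

theorem le_nonQuasisimplePLayer {K : Subgroup X} (hK : IsPComponent p K)
    (hq : ¬ IsQuasisimple ↥K) : K ≤ nonQuasisimplePLayer p X :=
  le_iSup (fun K : {K : Subgroup X // IsPComponent p K ∧ ¬ IsQuasisimple ↥K} => (K : Subgroup X))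
    ⟨K, hK, hq⟩

theorem le_quasisimplePLayer {K : Subgroup X} (hK : IsPComponent p K)
    (hq : IsQuasisimple ↥K) : K ≤ quasisimplePLayer p X :=
  le_iSup (fun K : {K : Subgroup X // IsPComponent p K ∧ IsQuasisimple ↥K} => (K : Subgroup X))
    ⟨K, hK, hq⟩

/-- a quasisimple `p`-component centralizes `O_{p'}` -/
theorem IsPComponent.commutator_pPrimeCore_eq_bot {K : Subgroup X} (hK : IsPComponent p K)
    (hq : IsQuasisimple ↥K) : ⁅K, pPrimeCore p X⁆ = ⊥ := by
  have hKc : IsComponent K := ⟨hK.1, hq⟩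
  have hWn : (pPrimeCore p X).Normal := pPrimeCore_normal p X
  rcases IsComponent.le_or_commutator_eq_bot_of_isSubnormal hKc hWn.isSubnormal with h | h
  · exfalso
    have h1 : (Nat.card K).Coprime p :=
      Nat.Coprime.coprime_dvd_left (Subgroup.card_dvd_of_le h)
        (Cfsg.Agent.Lib.Helper6.pPrimeCore_coprime p)
    have h2 := IsPComponent.dvd_card hK
    have h3 : p ∣ Nat.gcd (Nat.card K) p := Nat.dvd_gcd h2 dvd_rfl
    rw [h1] at h3
    exact hp.out.one_lt.ne' (Nat.dvd_one.mp h3)
  · exact h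

theorem quasisimplePLayer_le_centralizer :
    quasisimplePLayer p X ≤ Subgroup.centralizer (pPrimeCore p X : Set X) := by
  unfold quasisimplePLayer
  refine iSup_le fun K => ?_
  have h := IsPComponent.commutator_pPrimeCore_eq_bot K.2.1 K.2.2
  exact (Subgroup.commutator_eq_bot_iff_le_centralizer
    (H₁ := (K : Subgroup X)) (H₂ := pPrimeCore p X)).1 h

/-- descent from the quotient by `O_{p'}` to a subnormal subgroup -/
theorem le_of_map_le_map {H L : Subgroup X} (hH : H.IsSubnormal)
    (hmin : ∀ M : Subgroup L, M.Normal → M.index.Coprime p → M = ⊤)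
    (h : L.map (QuotientGroup.mk' (pPrimeCore p X)) ≤ H.map (QuotientGroup.mk' (pPrimeCore p X))) :
    L ≤ H := by
  have : (pPrimeCore p X).Normal := pPrimeCore_normal p X
  apply le_of_le_sup_of_isSubnormal (p := p) (W := pPrimeCore p X)
    (Cfsg.Agent.Lib.Helper6.pPrimeCore_coprime p) hmin hH
  have h2 := Subgroup.comap_mono (f := QuotientGroup.mk' (pPrimeCore p X)) h
  rw [Subgroup.comap_map_eq, Subgroup.comap_map_eq, QuotientGroup.ker_mk'] at h2
  exact le_sup_left.trans h2

/-- a perfect subgroup of the quasisimple part of the `p`-layer which commutes with `O` modulo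
`O_{p'}(X)` commutes with `O`. -/
theorem commutator_eq_bot_of_map_eq_bot {L O : Subgroup X} (hLperf : ⁅L, L⁆ = L)
    (hLQ : L ≤ quasisimplePLayer p X)
    (h : ⁅L.map (QuotientGroup.mk' (pPrimeCore p X)),
      O.map (QuotientGroup.mk' (pPrimeCore p X))⁆ = ⊥) : ⁅L, O⁆ = ⊥ := by
  have h1 : ⁅L, O⁆ ≤ pPrimeCore p X := by
    rw [← Subgroup.map_commutator, Subgroup.map_eq_bot_iff, QuotientGroup.ker_mk'] at h
    exact h
  have h2 : pPrimeCore p X ≤ Subgroup.centralizer (L : Set X) := by
    have := (quasisimplePLayer_le_centralizer (p := p) (X := X))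
    rw [← Subgroup.commutator_eq_bot_iff_le_centralizer] at this
    rw [← Subgroup.commutator_eq_bot_iff_le_centralizer, eq_bot_iff, ← this, Subgroup.commutator_comm]
    exact Subgroup.commutator_mono hLQ le_rfl
  have h3 : ⁅⁅L, O⁆, L⁆ = ⊥ := by
    rw [Subgroup.commutator_eq_bot_iff_le_centralizer]
    exact h1.trans h2
  have h4 : ⁅⁅O, L⁆, L⁆ = ⊥ := by rw [Subgroup.commutator_comm O L]; exact h3
  have h5 : ⁅⁅L, L⁆, O⁆ = ⊥ := Subgroup.commutator_commutator_eq_bot_of_rotate h3 h4
  rwa [hLperf] at h5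

end Parts

end Cfsg.Agent.Lib.Helper4.NQ
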