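import Mathlib
import Cfsg.Agent.Lib.Helper4.NQ7

set_option autoImplicit false
open scoped commutatorElement

/-!
Abstract core, steps 1-3: the image of a `p`-component lies in a single orbit of components.
-/

namespace Cfsg.Agent.Lib.Helper4.NQ

open Cfsg Cfsg.Agent.Lib.Helper1 Cfsg.Agent.Lib.Helper3 Cfsg.Agent.Lib.Helper4.LBal

section Gen
variable {G : Type*} [Group G]

theorem le_normalizer_of_forall_cj_le {A B : Subgroup G} (h : ∀ a ∈ A, cj a B ≤ B) :
    A ≤ Subgroup.normalizer (B : Set G) :=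
  le_normalizer_of_forall_conj_mem fun a ha _ hb => h a ha (conj_mem_cj a B hb)

theorem orbitProd_eq_of_le_normalizer {R K : Subgroup G}
    (h : R ≤ Subgroup.normalizer (K : Set G)) : orbitProd R K = K := by
  apply le_antisymm
  · unfold orbitProd
    refine iSup_le fun r => ?_
    rw [cj_eq_of_mem_normalizer (h r.2)]
  · exact le_orbitProd R K

theorem range_le_normalizer_map {H : Type*} [Group H] (φ : H →* G) (O : Subgroup H) [hO : O.Normal] :
    φ.range ≤ Subgroup.normalizer ((O.map φ : Subgroup G) : Set G) := by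
  have := Subgroup.le_normalizer_map (H := O) φ
  rw [Subgroup.normalizer_eq_top_iff.2 hO, ← MonoidHom.range_eq_map] at this
  exact this

theorem cj_inv_cj (g : G) (K : Subgroup G) : cj g⁻¹ (cj g K) = K := by
  rw [cj_cj, inv_mul_cancel, cj_one]

theorem cj_centralizer_le (g : G) (K : Subgroup G) :
    cj g (Subgroup.centralizer (K : Set G)) ≤ Subgroup.centralizer ((cj g K : Subgroup G) : Set G) := by
  rintro _ ⟨c, hc, rfl⟩
  rw [Subgroup.mem_centralizer_iff]
  rintro _ ⟨k, hk, rfl⟩
  have h1 : k * c = c * k := (Subgroup.mem_centralizer_iff.1 hc) k hk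
  simp only [MulEquiv.toMonoidHom_eq_coe, MonoidHom.coe_coe, MulAut.conj_apply]
  calc g * k * g⁻¹ * (g * c * g⁻¹) = g * (k * c) * g⁻¹ := by group
    _ = g * (c * k) * g⁻¹ := by rw [h1]
    _ = g * c * g⁻¹ * (g * k * g⁻¹) := by group

end Gen

section Core
variable {N Y : Type*} [Group N] [Finite N] [Group Y] [Finite Y] {p : ℕ} [hp : Fact p.Prime]

omit [Finite Y] in
theorem exists_component_not_le_centralizer {Lbar : Subgroup Y} (hperf : ⁅Lbar, Lbar⁆ = Lbar)
    (hLE : Lbar ≤ layer Y) (hne : Lbar ≠ ⊥) :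
    ∃ K : Subgroup Y, IsComponent K ∧ ¬ Lbar ≤ Subgroup.centralizer (K : Set Y) := by
  by_contra h
  push_neg at h
  apply hne
  have h1 : layer Y ≤ Subgroup.centralizer (Lbar : Set Y) := by
    rw [layer_le_iff]
    intro K hK
    exact Subgroup.le_centralizer_iff.1 (h K hK)
  have h2 : ⁅Lbar, Lbar⁆ = ⊥ := by
    rw [Subgroup.commutator_eq_bot_iff_le_centralizer]
    exact hLE.trans h1
  rw [← hperf, h2]

/-- **Step 3**: the image of the `p`-component lies in the product of a single orbit of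
components. -/
theorem le_orbitProd_of_not_le_centralizer
    (φ : N →* Y) {L : Subgroup N} (hL : IsPComponent p L) (x : Y)
    (hlift : layer Y ⊓ Subgroup.centralizer ({x} : Set Y) ≤ φ.range)
    (hLx : L.map φ ≤ Subgroup.centralizer ({x} : Set Y))
    (hLE : L.map φ ≤ layer Y)
    {K : Subgroup Y} (hK : IsComponent K)
    (hLK : ¬ L.map φ ≤ Subgroup.centralizer (K : Set Y)) :
    L.map φ ≤ orbitProd (Subgroup.zpowers x) K := by
  classical
  set Rz := Subgroup.zpowers x with hRz
  set M₁ := orbitProd Rz K with hM₁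
  set M₂ : Subgroup Y := ⨆ J : {J : Subgroup Y // IsComponent J ∧ ∀ g ∈ Rz, J ≠ cj g K},
    (J : Subgroup Y) with hM₂
  have hcomp : ∀ g : Y, IsComponent (cj g K) := fun g => IsComponent.map_conj hK g
  have hM₁E : M₁ ≤ layer Y := orbitProd_le_layer hK
  have hM₂E : M₂ ≤ layer Y := iSup_le fun J => IsComponent.le_layer J.2.1
  have hEN₁ : layer Y ≤ Subgroup.normalizer (M₁ : Set Y) :=
    le_normalizer_iSup fun r => IsComponent.layer_le_normalizer (hcomp r)
  have hEN₂ : layer Y ≤ Subgroup.normalizer (M₂ : Set Y) :=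
    le_normalizer_iSup fun J => IsComponent.layer_le_normalizer J.2.1
  have hEsn : (layer Y).IsSubnormal := (layer_normal (G := Y)).isSubnormal
  have hsn₁ : M₁.IsSubnormal :=
    Subgroup.IsSubnormal.trans hM₁E
      (Subgroup.normal_subgroupOf_of_le_normalizer hEN₁).isSubnormal hEsn
  have hsn₂ : M₂.IsSubnormal :=
    Subgroup.IsSubnormal.trans hM₂E
      (Subgroup.normal_subgroupOf_of_le_normalizer hEN₂).isSubnormal hEsn
  have hcz : Subgroup.centralizer (Rz : Set Y) ≤ Subgroup.centralizer ({x} : Set Y) :=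
    centralizer_zpowers_le_centralizer_singleton x
  have hR₂ : Rz ≤ Subgroup.normalizer (M₂ : Set Y) := by
    apply le_normalizer_of_forall_cj_le
    intro g hg
    rw [hM₂, cj_iSup]
    refine iSup_le fun J => ?_
    have hJ' : IsComponent (cj g (J : Subgroup Y)) ∧ ∀ h ∈ Rz, cj g (J : Subgroup Y) ≠ cj h K := by
      refine ⟨IsComponent.map_conj J.2.1 g, ?_⟩
      intro h hh heq
      apply J.2.2 (g⁻¹ * h) (Rz.mul_mem (Rz.inv_mem hg) hh)
      rw [← cj_cj, ← heq, cj_inv_cj]
    exact le_iSup (fun J : {J : Subgroup Y // IsComponent J ∧ ∀ g ∈ Rz, J ≠ cj g K} =>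
      (J : Subgroup Y)) ⟨cj g (J : Subgroup Y), hJ'⟩
  have hM : M₁ ≤ Subgroup.centralizer (M₂ : Set Y) := by
    rw [Subgroup.le_centralizer_iff, hM₂]
    refine iSup_le fun J => ?_
    rw [Subgroup.le_centralizer_iff]
    refine iSup_le fun r => ?_
    rw [← Subgroup.commutator_eq_bot_iff_le_centralizer]
    exact IsComponent.commutator_eq_bot_of_ne (hcomp r) J.2.1 (fun h => J.2.2 r r.2 h.symm)
  have hLM : L.map φ ≤ M₁ ⊔ M₂ := by
    refine hLE.trans ?_
    rw [layer_le_iff]
    intro J hJ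
    by_cases h : ∃ g ∈ Rz, J = cj g K
    · obtain ⟨g, hg, rfl⟩ := h
      exact (cj_le_orbitProd hg).trans le_sup_left
    · push_neg at h
      exact (le_iSup (fun J : {J : Subgroup Y // IsComponent J ∧ ∀ g ∈ Rz, J ≠ cj g K} =>
        (J : Subgroup Y)) ⟨J, hJ, h⟩).trans le_sup_right
  have hsplit := splitting hL φ (M₁ := M₁) (M₂ := M₂) (R := Rz) (hsn₁.comap φ) (hsn₂.comap φ)
    (hLx.trans (centralizer_singleton_le_centralizer_zpowers x))
    (le_normalizer_orbitProd Rz K) hR₂ hM hLM
    ((inf_le_inf hM₁E hcz).trans hlift) ((inf_le_inf hM₂E hcz).trans hlift)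
  rcases hsplit with h | h
  · exact h
  · exfalso
    apply hLK
    refine h.trans ?_
    rw [hM₂]
    refine iSup_le fun J => ?_
    rw [← Subgroup.commutator_eq_bot_iff_le_centralizer]
    apply IsComponent.commutator_eq_bot_of_ne J.2.1 hK
    have := J.2.2 1 Rz.one_mem
    rwa [cj_one] at this

end Core

end Cfsg.Agent.Lib.Helper4.NQ
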