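import Mathlib
import Cfsg.Agent.Lib.Helper4.NQ8

set_option autoImplicit false
open scoped commutatorElement

/-!
Abstract core, step 4, the cases where `x` centralizes `K` or does not normalize `K`:
the image of `O_{p'}(N)` centralizes the orbit product.
-/

namespace Cfsg.Agent.Lib.Helper4.NQ

open Cfsg Cfsg.Agent.Lib.Helper1 Cfsg.Agent.Lib.Helper3 Cfsg.Agent.Lib.Helper4.LBal

section Gen
variable {G : Type*} [Group G]

/-- if `x ^ p` normalizes `K` but `x` does not, then no `x ^ i`, `0 < i < p`, does -/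
theorem pow_not_mem_normalizer {K : Subgroup G} {x : G} {p : ℕ} (hp : p.Prime)
    (hxp : x ^ p ∈ Subgroup.normalizer (K : Set G)) (hx : x ∉ Subgroup.normalizer (K : Set G))
    {i : ℕ} (hi : 0 < i) (hip : i < p) : x ^ i ∉ Subgroup.normalizer (K : Set G) := by
  intro h
  apply hx
  have hcop : Nat.Coprime i p :=
    Nat.Coprime.symm ((Nat.Prime.coprime_iff_not_dvd hp).2 (Nat.not_dvd_of_pos_of_lt hi hip))
  have hbez : IsCoprime (i : ℤ) (p : ℤ) := Nat.isCoprime_iff_coprime.2 hcop
  obtain ⟨a, b, hab⟩ := hbez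
  have e : x = (x ^ i) ^ a * (x ^ p) ^ b := by
    rw [← zpow_natCast x i, ← zpow_natCast x p, ← zpow_mul, ← zpow_mul, ← zpow_add,
      mul_comm (i : ℤ) a, mul_comm (p : ℤ) b, hab, zpow_one]
  rw [e]
  exact Subgroup.mul_mem _ (Subgroup.zpow_mem _ h a) (Subgroup.zpow_mem _ hxp b)

end Gen

section Core
variable {N Y : Type*} [Group N] [Finite N] [Group Y] [Finite Y] {p : ℕ} [hp : Fact p.Prime]

omit [Finite Y] hp in
theorem map_pPrimeCore_coprime (φ : N →* Y) :
    (Nat.card ((pPrimeCore p N).map φ)).Coprime p :=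
  Nat.Coprime.coprime_dvd_left (Subgroup.card_map_dvd _ φ)
    (Cfsg.Agent.Lib.Helper6.pPrimeCore_coprime p)

/-- case (4a): `x` centralizes `K` -/
theorem map_pPrimeCore_le_centralizer_of_mem (hY : pPrimeCore p Y = ⊥)
    (φ : N →* Y) (x : Y)
    (hlift : layer Y ⊓ Subgroup.centralizer ({x} : Set Y) ≤ φ.range)
    {K : Subgroup Y} (hK : IsComponent K)
    (hDK : (pPrimeCore p N).map φ ≤ Subgroup.normalizer (K : Set Y))
    (hx : x ∈ Subgroup.centralizer (K : Set Y)) :
    (pPrimeCore p N).map φ ≤ Subgroup.centralizer (K : Set Y) := by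
  have : (pPrimeCore p N).Normal := pPrimeCore_normal p N
  apply le_centralizer_component_of_hom hY hK (map_pPrimeCore_coprime φ) hDK K.subtype
  · intro k
    apply range_le_normalizer_map φ (pPrimeCore p N)
    apply hlift
    refine Subgroup.mem_inf.2 ⟨IsComponent.le_layer hK k.2, ?_⟩
    rw [Subgroup.mem_centralizer_singleton_iff]
    exact (Subgroup.mem_centralizer_iff.1 hx) k k.2
  · intro d _ k hk'
    rfl
  · rw [Subgroup.ker_subtype]
    intro h
    apply IsQuasisimple.ne_bot hK.2
    rw [eq_bot_iff]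
    intro k hk
    have : (⟨k, hk⟩ : ↥K) ∈ (⊥ : Subgroup ↥K) := by rw [h]; exact Subgroup.mem_top _
    rw [Subgroup.mem_bot] at this
    rw [Subgroup.mem_bot]
    exact congrArg Subtype.val this

/-- case (4c): `x` does not normalize `K` -/
theorem map_pPrimeCore_le_centralizer_of_not_mem (hY : pPrimeCore p Y = ⊥)
    (φ : N →* Y) (x : Y)
    (hlift : layer Y ⊓ Subgroup.centralizer ({x} : Set Y) ≤ φ.range)
    (hDx : (pPrimeCore p N).map φ ≤ Subgroup.centralizer ({x} : Set Y))
    (hxp : x ^ p ∈ Subgroup.centralizer (layer Y : Set Y))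
    {K : Subgroup Y} (hK : IsComponent K)
    (hDK : (pPrimeCore p N).map φ ≤ Subgroup.normalizer (K : Set Y))
    (hx : x ∉ Subgroup.normalizer (K : Set Y)) :
    (pPrimeCore p N).map φ ≤ Subgroup.centralizer (K : Set Y) := by
  have : (pPrimeCore p N).Normal := pPrimeCore_normal p N
  have hKE : K ≤ layer Y := IsComponent.le_layer hK
  have hxpK : x ^ p ∈ Subgroup.centralizer (K : Set Y) :=
    Subgroup.centralizer_le (by exact_mod_cast hKE) hxp
  have hpow : ∀ i, 0 < i → i < p → x ^ i ∉ Subgroup.normalizer (K : Set Y) := fun i hi hip =>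
    pow_not_mem_normalizer hp.out (Subgroup.centralizer_le_normalizer _ hxpK) hx hi hip
  have h1 : ∀ i, 0 < i → i < p → ∀ k ∈ K,
      x ^ i * k * (x ^ i)⁻¹ ∈ Subgroup.centralizer (K : Set Y) := by
    intro i hi hip k hk
    have hne : cj (x ^ i) K ≠ K := fun h => hpow i hi hip (mem_normalizer_of_cj_eq h)
    have h2 := IsComponent.commutator_eq_bot_of_ne (IsComponent.map_conj hK (x ^ i)) hK hne
    rw [Subgroup.commutator_eq_bot_iff_le_centralizer] at h2
    exact h2 (conj_mem_cj (x ^ i) K hk)
  have hEn : (layer Y).Normal := layer_normal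
  apply le_centralizer_component_of_hom hY hK (map_pPrimeCore_coprime φ) hDK (normHom K x p h1)
  · intro k
    apply range_le_normalizer_map φ (pPrimeCore p N)
    apply hlift
    refine Subgroup.mem_inf.2 ⟨?_, ?_⟩
    · rw [normHom_apply]
      apply normProd_mem
      intro i _
      exact hEn.conj_mem _ (hKE k.2) _
    · rw [Subgroup.mem_centralizer_singleton_iff, normHom_apply]
      have h3 := normProd_comm h1 hp.out.pos hxpK k.2
      calc normProd x p (k : Y) * x = (x * normProd x p (k : Y) * x⁻¹) * x := by rw [h3]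
        _ = x * normProd x p (k : Y) := by group
  · intro d hd k hk'
    rw [normHom_apply, normHom_apply]
    have hdx : d * x = x * d := Subgroup.mem_centralizer_singleton_iff.1 (hDx hd)
    exact normProd_conj hdx p (k : Y)
  · intro hker
    apply IsQuasisimple.ne_bot hK.2
    have hKC : K ≤ Subgroup.centralizer (K : Set Y) := by
      intro k hk
      have h4 : (⟨k, hk⟩ : ↥K) ∈ (normHom K x p h1).ker := by rw [hker]; exact Subgroup.mem_top _
      rw [MonoidHom.mem_ker, normHom_apply] at h4
      obtain ⟨m, hm⟩ : ∃ m, p = m + 1 := ⟨p - 1, by have := hp.out.pos; omega⟩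
      have h5 : x * normProd x m k * x⁻¹ ∈ Subgroup.centralizer (K : Set Y) :=
        conj_normProd_mem_centralizer h1 (by omega) hk
      have h6 : k = (x * normProd x m k * x⁻¹)⁻¹ := by
        have h7 : k * (x * normProd x m k * x⁻¹) = 1 := by
          have := h4
          simp only [hm, normProd_succ] at this
          exact this
        exact eq_inv_of_mul_eq_one_left h7
      rw [h6]
      exact Subgroup.inv_mem _ h5
    have h8 : ⁅K, K⁆ = ⊥ := by
      rw [Subgroup.commutator_eq_bot_iff_le_centralizer]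
      exact hKC
    rw [← IsQuasisimple.commutator_eq_self hK.2, h8]

omit [Finite N] [Finite Y] hp in
/-- `D̄` centralizes the whole orbit product -/
theorem le_centralizer_orbitProd {D K : Subgroup Y} {x : Y}
    (hDx : D ≤ Subgroup.centralizer ({x} : Set Y))
    (hDK : D ≤ Subgroup.centralizer (K : Set Y)) :
    D ≤ Subgroup.centralizer ((orbitProd (Subgroup.zpowers x) K : Subgroup Y) : Set Y) := by
  rw [Subgroup.le_centralizer_iff]
  unfold orbitProd
  refine iSup_le fun g => ?_
  rw [Subgroup.le_centralizer_iff]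
  intro d hd
  apply cj_centralizer_le (g : Y) K
  rw [mem_cj]
  have h1 : d ∈ Subgroup.centralizer ((Subgroup.zpowers x : Subgroup Y) : Set Y) :=
    centralizer_singleton_le_centralizer_zpowers x (hDx hd)
  have h2 : (g : Y) * d = d * (g : Y) := (Subgroup.mem_centralizer_iff.1 h1) g g.2
  have h3 : (g : Y)⁻¹ * d * (g : Y) = d := by
    rw [mul_assoc, ← h2]; group
  rw [h3]
  exact hDK hd

end Core

end Cfsg.Agent.Lib.Helper4.NQ
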