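import Mathlib
import Cfsg.Agent.Lib.Helper4.NQ9

set_option autoImplicit false
open scoped commutatorElement

/-!
Abstract core, step 4, the case where `x` normalizes but does not centralize `K`:
here the `B_p`-property of the automizer section `N(K)/C(K)` is used.
-/

namespace Cfsg.Agent.Lib.Helper4.NQ

open Cfsg Cfsg.Agent.Lib.Helper1 Cfsg.Agent.Lib.Helper3 Cfsg.Agent.Lib.Helper4.LBal

section PQS2
variable {X : Type*} [Group X] [Finite X] {p : ℕ} [hp : Fact p.Prime]

theorem map_pPrimeCore_le_center_of_isQuasisimple {Y : Type*} [Group Y]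
    (hmin : ∀ M : Subgroup X, M.Normal → M.index.Coprime p → M = ⊤)
    (f : X →* Y) (hf : Function.Surjective f) (hq : IsQuasisimple Y) :
    (pPrimeCore p X).map f ≤ Subgroup.center Y := by
  haveI : Finite Y := Finite.of_surjective f hf
  haveI hn : ((pPrimeCore p X).map f).Normal := Subgroup.Normal.map inferInstance f hf
  rcases IsQuasisimple.normal_eq_top_or_le_center hq ((pPrimeCore p X).map f) with h | h
  · exfalso
    have hc : (Nat.card Y).Coprime p := by
      have h1 : (Nat.card ((pPrimeCore p X).map f)).Coprime p :=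
        Nat.Coprime.coprime_dvd_left (Subgroup.card_map_dvd _ f)
          (Cfsg.Agent.Lib.Helper6.pPrimeCore_coprime p)
      rwa [h, Subgroup.card_top] at h1
    haveI := IsQuasisimple.nontrivial hq
    obtain ⟨y, hy⟩ := exists_ne (1 : Y)
    exact hy (eq_one_of_coprime_card_of_surjective hmin f hf hc y)
  · exact h

end PQS2

universe u

section Gen
variable {G : Type*} [Group G]

theorem normalizer_le_normalizer_centralizer_aux (A : Subgroup G) :
    Subgroup.normalizer (A : Set G) ≤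
      Subgroup.normalizer ((Subgroup.centralizer (A : Set G) : Subgroup G) : Set G) := by
  apply le_normalizer_of_forall_conj_mem
  intro h hh c hc
  rw [Subgroup.mem_centralizer_iff] at hc ⊢
  intro a ha
  have h1 : h⁻¹ * a * h ∈ A := by
    have := (Subgroup.mem_normalizer_iff.1 (Subgroup.inv_mem _ hh) a).1 ha
    simpa using this
  have h2 := hc _ h1
  calc a * (h * c * h⁻¹) = h * ((h⁻¹ * a * h) * c) * h⁻¹ := by group
    _ = h * (c * (h⁻¹ * a * h)) * h⁻¹ := by rw [h2]
    _ = h * c * h⁻¹ * a := by group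

end Gen

section AutProj
variable {Y : Type u} [Group Y] {K : Subgroup Y}

theorem autProj_eq_one_iff {n : ↥(Subgroup.normalizer (K : Set Y))} :
    autProj K n = 1 ↔ (n : Y) ∈ Subgroup.centralizer (K : Set Y) := by
  rw [QuotientGroup.mk'_apply, QuotientGroup.eq_one_iff, Subgroup.mem_subgroupOf]

end AutProj

section Core
variable {N : Type*} {Y : Type u} [Group N] [Finite N] [Group Y] [Finite Y] {p : ℕ}
  [hp : Fact p.Prime]

/-- case (4b): `x` normalizes but does not centralize `K`, and `L̄ ≤ K` -/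
theorem commutator_map_eq_bot_of_bp
    (φ : N →* Y) {L : Subgroup N} (hL : IsPComponent p L) (x : Y)
    (hlift : layer Y ⊓ Subgroup.centralizer ({x} : Set Y) ≤ φ.range)
    (hLx : L.map φ ≤ Subgroup.centralizer ({x} : Set Y))
    {K : Subgroup Y} (hK : IsComponent K)
    (hBp : HasBpProperty p (autSec K))
    (hxN : x ∈ Subgroup.normalizer (K : Set Y))
    (hxC : x ∉ Subgroup.centralizer (K : Set Y))
    (hxp : x ^ p ∈ Subgroup.centralizer (K : Set Y))
    (hLK : L.map φ ≤ K) (hne : L.map φ ≠ ⊥) :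
    ⁅L.map φ, ((pPrimeCore p ↥L).map L.subtype).map φ⁆ = ⊥ := by
  classical
  have hLperf : ⁅L, L⁆ = L := IsPComponent.commutator_eq_self hL
  have hLbarperf : ⁅L.map φ, L.map φ⁆ = L.map φ := by rw [← Subgroup.map_commutator, hLperf]
  have hKE : K ≤ layer Y := IsComponent.le_layer hK
  -- the element `x̃` of order `p`
  set X' : ↥(Subgroup.normalizer (K : Set Y)) := ⟨x, hxN⟩ with hX'
  set xt : autSec K := autProj K X' with hxt
  have horder : orderOf xt = p := by
    apply orderOf_eq_prime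
    · rw [hxt, ← map_pow, autProj_eq_one_iff]
      exact hxp
    · rw [hxt, Ne, autProj_eq_one_iff]
      exact hxC
  -- the subgroup `U` and the homomorphism `θ_U`
  set U : Subgroup N := (K ⊓ Subgroup.centralizer ({x} : Set Y)).comap φ with hU
  have hLU : L ≤ U := by
    intro l hl
    exact Subgroup.mem_inf.2 ⟨hLK (Subgroup.mem_map_of_mem φ hl), hLx (Subgroup.mem_map_of_mem φ hl)⟩
  have hUK : ∀ u : ↥U, φ (u : N) ∈ K := fun u => (Subgroup.mem_inf.1 u.2).1
  have hUx : ∀ u : ↥U, φ (u : N) * x = x * φ (u : N) := fun u =>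
    Subgroup.mem_centralizer_singleton_iff.1 (Subgroup.mem_inf.1 u.2).2
  let g : ↥U →* ↥(Subgroup.normalizer (K : Set Y)) :=
    (φ.comp U.subtype).codRestrict _ (fun u => Subgroup.le_normalizer (hUK u))
  have hg : ∀ u : ↥U, ((g u : ↥(Subgroup.normalizer (K : Set Y))) : Y) = φ (u : N) := fun u => rfl
  set θU : ↥U →* autSec K := (autProj K).comp g with hθU
  set C : Subgroup (autSec K) := Subgroup.centralizer ({xt} : Set (autSec K)) with hC
  have hθC : ∀ u : ↥U, θU u ∈ C := by
    intro u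
    rw [hC, Subgroup.mem_centralizer_singleton_iff, hθU, MonoidHom.comp_apply, hxt, ← map_mul,
      ← map_mul]
    congr 1
    apply Subtype.ext
    exact hUx u
  -- relative subnormality
  have hLUsn : (L.subgroupOf U).IsSubnormal := hL.1.subgroupOf
  set LA : Subgroup (autSec K) := (L.subgroupOf U).map θU with hLA
  have hrel1 : RelSub LA θU.range := RelSub.map_range θU hLUsn
  have hrange_le : θU.range ≤ innSub K ⊓ C := by
    rintro _ ⟨u, rfl⟩
    refine Subgroup.mem_inf.2 ⟨?_, hθC u⟩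
    exact Subgroup.mem_map_of_mem _ (Subgroup.mem_subgroupOf.2 (hUK u))
  have hnorm1 : innSub K ⊓ C ≤ Subgroup.normalizer ((θU.range : Subgroup (autSec K)) : Set (autSec K)) := by
    apply le_normalizer_of_forall_conj_mem
    rintro a ha _ ⟨u, rfl⟩
    obtain ⟨ha1, ha2⟩ := Subgroup.mem_inf.1 ha
    obtain ⟨k', hk'0, rfl⟩ := ha1
    have hk' : (k' : Y) ∈ K := Subgroup.mem_subgroupOf.1 hk'0
    -- `z' = k⁻¹ x k x⁻¹ ∈ C(K)`
    have hz : ((k' : Y))⁻¹ * x * (k' : Y) * x⁻¹ ∈ Subgroup.centralizer (K : Set Y) := by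
      have h1 : autProj K (k'⁻¹ * X' * k' * X'⁻¹) = 1 := by
        rw [map_mul, map_mul, map_mul, map_inv, map_inv]
        have h2 : autProj K k' * xt = xt * autProj K k' :=
          Subgroup.mem_centralizer_singleton_iff.1 ha2
        rw [← hxt]
        calc (autProj K k')⁻¹ * xt * autProj K k' * xt⁻¹
            = (autProj K k')⁻¹ * (xt * autProj K k') * xt⁻¹ := by group
          _ = (autProj K k')⁻¹ * (autProj K k' * xt) * xt⁻¹ := by rw [h2]
          _ = 1 := by group
      rw [autProj_eq_one_iff] at h1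
      exact h1
    set c : Y := φ (u : N) with hc
    have hcK : c ∈ K := hUK u
    have hcx : c * x = x * c := hUx u
    have hconjK : (k' : Y) * c * (k' : Y)⁻¹ ∈ K :=
      K.mul_mem (K.mul_mem hk' hcK) (K.inv_mem hk')
    have hconjx : (k' : Y) * c * (k' : Y)⁻¹ ∈ Subgroup.centralizer ({x} : Set Y) := by
      rw [Subgroup.mem_centralizer_singleton_iff]
      set k : Y := (k' : Y) with hk
      set z : Y := k⁻¹ * x * k * x⁻¹ with hzdef
      have e1 : x * k = k * z * x := by rw [hzdef]; group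
      have e2 : z * c = c * z := ((Subgroup.mem_centralizer_iff.1 hz) c hcK).symm
      have e3 : x * k⁻¹ = z⁻¹ * k⁻¹ * x := by rw [hzdef]; group
      have e4 : z * c * z⁻¹ = c := by rw [e2]; group
      calc k * c * k⁻¹ * x = k * (c * x) * (x⁻¹ * k⁻¹ * x) := by group
        _ = k * (x * c) * (x⁻¹ * k⁻¹ * x) := by rw [hcx]
        _ = (k * x) * c * (x⁻¹ * k⁻¹ * x) := by group
        _ = (x * (x⁻¹ * k * x)) * c * (x⁻¹ * k⁻¹ * x) := by group
        _ = x * ((x⁻¹ * k * x) * c * (x⁻¹ * k * x)⁻¹) := by group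
        _ = x * (k * c * k⁻¹) := by
            have e5 : x⁻¹ * k * x = k * (k⁻¹ * x⁻¹ * k * x) := by group
            have hz2 : k⁻¹ * x⁻¹ * k * x ∈ Subgroup.centralizer (K : Set Y) := by
              have hxinv : x⁻¹ ∈ Subgroup.normalizer (K : Set Y) := Subgroup.inv_mem _ hxN
              have h3 : x⁻¹ * z⁻¹ * x⁻¹⁻¹ ∈ Subgroup.centralizer (K : Set Y) := by
                have hnC : Subgroup.normalizer (K : Set Y) ≤
                    Subgroup.normalizer ((Subgroup.centralizer (K : Set Y) : Subgroup Y) : Set Y) :=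
                  normalizer_le_normalizer_centralizer_aux K
                exact (Subgroup.mem_normalizer_iff.1 (hnC hxinv) _).1 (Subgroup.inv_mem _ hz)
              have e6 : x⁻¹ * z⁻¹ * x⁻¹⁻¹ = k⁻¹ * x⁻¹ * k * x := by rw [hzdef]; group
              rwa [e6] at h3
            set w : Y := k⁻¹ * x⁻¹ * k * x with hw
            have e7 : w * c = c * w := ((Subgroup.mem_centralizer_iff.1 hz2) c hcK).symm
            rw [e5]
            have : k * w * c * (k * w)⁻¹ = k * (w * c) * w⁻¹ * k⁻¹ := by group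
            rw [this, e7]
            group
    have hmem : (k' : Y) * c * (k' : Y)⁻¹ ∈ φ.range :=
      hlift (Subgroup.mem_inf.2 ⟨hKE hconjK, hconjx⟩)
    obtain ⟨n, hn⟩ := hmem
    have hnU : n ∈ U := by
      rw [hU, Subgroup.mem_comap, hn]
      exact Subgroup.mem_inf.2 ⟨hconjK, hconjx⟩
    refine ⟨⟨n, hnU⟩, ?_⟩
    rw [hθU, MonoidHom.comp_apply, MonoidHom.comp_apply, ← map_inv, ← map_mul, ← map_mul]
    congr 1
    apply Subtype.ext
    exact hn
  have hrel2 : RelSub θU.range (innSub K ⊓ C) := RelSub.of_le_normalizer hrange_le hnorm1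
  have hnorm2 : C ≤ Subgroup.normalizer ((innSub K ⊓ C : Subgroup (autSec K)) : Set (autSec K)) := by
    apply le_normalizer_of_forall_conj_mem
    intro a ha b hb
    obtain ⟨hb1, hb2⟩ := Subgroup.mem_inf.1 hb
    exact Subgroup.mem_inf.2 ⟨(innSub_normal K).conj_mem b hb1 a,
      C.mul_mem (C.mul_mem ha hb2) (C.inv_mem ha)⟩
  have hrel3 : RelSub (innSub K ⊓ C) C := RelSub.of_le_normalizer inf_le_right hnorm2
  have hrel : RelSub LA C := (hrel1.trans hrel2).trans hrel3
  -- the surjection `ψ : L → L̃`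
  let ψ : ↥L →* ↥C := (θU.comp (Subgroup.inclusion hLU)).codRestrict C (fun l => hθC _)
  have hψ : ∀ l : ↥L, ((ψ l : ↥C) : autSec K) = θU (Subgroup.inclusion hLU l) := fun l => rfl
  have hLteq : ψ.range = LA.subgroupOf C := by
    ext a
    rw [Subgroup.mem_subgroupOf, MonoidHom.mem_range, hLA, Subgroup.mem_map]
    constructor
    · rintro ⟨l, rfl⟩
      exact ⟨Subgroup.inclusion hLU l, Subgroup.mem_subgroupOf.2 l.2, rfl⟩
    · rintro ⟨u, hu, hua⟩
      rw [Subgroup.mem_subgroupOf] at hu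
      refine ⟨⟨(u : N), hu⟩, ?_⟩
      apply Subtype.ext
      rw [hψ, ← hua]
      rfl
  have hLtsn : ψ.range.IsSubnormal := by rw [hLteq]; exact hrel.2
  -- `ψ` is nontrivial
  have hψne : ∃ y : ↥ψ.range, y ≠ 1 := by
    by_contra hall
    push Not at hall
    apply hne
    have hLC : L.map φ ≤ Subgroup.centralizer (K : Set Y) := by
      rintro _ ⟨l, hl, rfl⟩
      have h1 := hall ⟨ψ ⟨l, hl⟩, ⟨⟨l, hl⟩, rfl⟩⟩
      have h2 : ψ ⟨l, hl⟩ = 1 := congrArg Subtype.val h1
      have h3 : θU (Subgroup.inclusion hLU ⟨l, hl⟩) = 1 := by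
        rw [← hψ, h2]; rfl
      rw [hθU, MonoidHom.comp_apply, autProj_eq_one_iff] at h3
      exact h3
    have h4 : ⁅L.map φ, L.map φ⁆ = ⊥ := by
      rw [Subgroup.commutator_eq_bot_iff_le_centralizer]
      exact hLC.trans (Subgroup.centralizer_le (by exact_mod_cast hLK))
    rw [← hLbarperf, h4]
  have hPQSL : PQS p ↥L := (isPComponent_iff_pqs.1 hL).2
  have hPQS : PQS p ↥ψ.range :=
    PQS.of_surjective ψ.rangeRestrict ψ.rangeRestrict_surjective hψne hPQSL
  have hcomp : IsPComponent p ψ.range := isPComponent_iff_pqs.2 ⟨hLtsn, hPQS⟩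
  have hq : IsQuasisimple ↥ψ.range := hBp.2 xt horder ψ.range hcomp
  have hcentral := map_pPrimeCore_le_center_of_isQuasisimple hPQSL.2 ψ.rangeRestrict
    ψ.rangeRestrict_surjective hq
  -- `[L̄, Ō] ≤ C(K)`
  have hcomm : ⁅L.map φ, ((pPrimeCore p ↥L).map L.subtype).map φ⁆ ≤
      Subgroup.centralizer (K : Set Y) := by
    rw [Subgroup.commutator_le]
    rintro _ ⟨l, hl, rfl⟩ _ ⟨_, ⟨o, ho, rfl⟩, rfl⟩
    have h1 : ψ.rangeRestrict o ∈ Subgroup.center ↥ψ.range :=
      hcentral (Subgroup.mem_map_of_mem _ ho)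
    have h2 := (Subgroup.mem_center_iff.1 h1) (ψ.rangeRestrict ⟨l, hl⟩)
    have h3 : ψ ⟨l, hl⟩ * ψ o = ψ o * ψ ⟨l, hl⟩ := congrArg Subtype.val h2
    have h4 : θU (Subgroup.inclusion hLU ⟨l, hl⟩) * θU (Subgroup.inclusion hLU o) =
        θU (Subgroup.inclusion hLU o) * θU (Subgroup.inclusion hLU ⟨l, hl⟩) := by
      rw [← hψ, ← hψ]
      exact congrArg Subtype.val h3
    have h5 : autProj K ⁅g (Subgroup.inclusion hLU ⟨l, hl⟩), g (Subgroup.inclusion hLU o)⁆ = 1 := by
      rw [map_commutatorElement, commutatorElement_eq_one_iff_mul_comm]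
      exact h4
    rw [autProj_eq_one_iff] at h5
    exact h5
  have hOL : ((pPrimeCore p ↥L).map L.subtype).map φ ≤ L.map φ := by
    apply Subgroup.map_mono
    rintro _ ⟨o, _, rfl⟩
    exact o.2
  have hCKL : Subgroup.centralizer (K : Set Y) ≤ Subgroup.centralizer ((L.map φ : Subgroup Y) : Set Y) :=
    Subgroup.centralizer_le (by exact_mod_cast hLK)
  have h3 : ⁅⁅L.map φ, ((pPrimeCore p ↥L).map L.subtype).map φ⁆, L.map φ⁆ = ⊥ := by
    rw [Subgroup.commutator_eq_bot_iff_le_centralizer]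
    exact hcomm.trans hCKL
  have h4 : ⁅⁅((pPrimeCore p ↥L).map L.subtype).map φ, L.map φ⁆, L.map φ⁆ = ⊥ := by
    rw [Subgroup.commutator_comm (((pPrimeCore p ↥L).map L.subtype).map φ) (L.map φ)]
    exact h3
  have h5 := Subgroup.commutator_commutator_eq_bot_of_rotate h3 h4
  rwa [hLbarperf] at h5

end Core

end Cfsg.Agent.Lib.Helper4.NQ
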