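import Mathlib
import Cfsg.Agent.Lib.Helper4.NQ10
import Cfsg.Agent.Lib.Helper4.LBal11

set_option autoImplicit false
open scoped commutatorElement

/-!
Assembly of the abstract core and the generalized base case of `B_{p'}`-balance.
-/

namespace Cfsg.Agent.Lib.Helper4.NQ

open Cfsg Cfsg.Agent.Lib.Helper1 Cfsg.Agent.Lib.Helper3 Cfsg.Agent.Lib.Helper4.LBal

universe u

section Core
variable {N : Type*} {Y : Type u} [Group N] [Finite N] [Group Y] [Finite Y] {p : ℕ}
  [hp : Fact p.Prime]

/-- the abstract core -/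
theorem core (hY : pPrimeCore p Y = ⊥)
    (hBp : ∀ K : Subgroup Y, IsComponent K → HasBpProperty p (autSec K))
    (φ : N →* Y) {L : Subgroup N} (hL : IsPComponent p L) (x : Y)
    (hlift : layer Y ⊓ Subgroup.centralizer ({x} : Set Y) ≤ φ.range)
    (hLx : L.map φ ≤ Subgroup.centralizer ({x} : Set Y))
    (hDx : (pPrimeCore p N).map φ ≤ Subgroup.centralizer ({x} : Set Y))
    (hLE : L.map φ ≤ layer Y)
    (hxp : x ^ p ∈ Subgroup.centralizer (layer Y : Set Y))
    (hDK : ∀ K : Subgroup Y, IsComponent K →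
      (pPrimeCore p N).map φ ≤ Subgroup.normalizer (K : Set Y))
    (hne : L.map φ ≠ ⊥) :
    ∃ K : Subgroup Y, IsComponent K ∧ L.map φ ≤ orbitProd (Subgroup.zpowers x) K ∧
      ⁅L.map φ, ((pPrimeCore p ↥L).map L.subtype).map φ⁆ = ⊥ := by
  have hLperf : ⁅L, L⁆ = L := IsPComponent.commutator_eq_self hL
  have hLbarperf : ⁅L.map φ, L.map φ⁆ = L.map φ := by rw [← Subgroup.map_commutator, hLperf]
  obtain ⟨K, hK, hLK⟩ := exists_component_not_le_centralizer hLbarperf hLE hne
  have hLorb := le_orbitProd_of_not_le_centralizer φ hL x hlift hLx hLE hK hLK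
  refine ⟨K, hK, hLorb, ?_⟩
  have hOD : ((pPrimeCore p ↥L).map L.subtype).map φ ≤ (pPrimeCore p N).map φ :=
    Subgroup.map_mono (pPrimeCore_map_subtype_le_of_isSubnormal hL.1)
  -- the two cases where `D̄` centralizes the orbit product
  have hfin : (pPrimeCore p N).map φ ≤ Subgroup.centralizer (K : Set Y) →
      ⁅L.map φ, ((pPrimeCore p ↥L).map L.subtype).map φ⁆ = ⊥ := by
    intro hDC
    have h1 := le_centralizer_orbitProd hDx hDC
    rw [Subgroup.commutator_comm, Subgroup.commutator_eq_bot_iff_le_centralizer]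
    exact (hOD.trans h1).trans (Subgroup.centralizer_le (by exact_mod_cast hLorb))
  by_cases hxN : x ∈ Subgroup.normalizer (K : Set Y)
  · by_cases hxC : x ∈ Subgroup.centralizer (K : Set Y)
    · exact hfin (map_pPrimeCore_le_centralizer_of_mem hY φ x hlift hK (hDK K hK) hxC)
    · have hz : Subgroup.zpowers x ≤ Subgroup.normalizer (K : Set Y) := by
        rw [Subgroup.zpowers_le]; exact hxN
      rw [orbitProd_eq_of_le_normalizer hz] at hLorb
      have hxpK : x ^ p ∈ Subgroup.centralizer (K : Set Y) :=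
        Subgroup.centralizer_le (by exact_mod_cast IsComponent.le_layer hK) hxp
      exact commutator_map_eq_bot_of_bp φ hL x hlift hLx hK (hBp K hK) hxN hxC hxpK hLorb hne
  · exact hfin (map_pPrimeCore_le_centralizer_of_not_mem hY φ x hlift hDx hxp hK (hDK K hK) hxN)

end Core

section Facts
variable {X : Type*} [Group X] [Finite X] {p : ℕ} [hp : Fact p.Prime]

/-- subgroups of `N_X(R)` inside the preimage of the layer of `N/O_{p'}(N)` map into `C(R̄)` -/
theorem map_le_centralizer_map_of_le {R : Subgroup X} (hR : IsPGroup p R)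
    {S : Subgroup ↥(Subgroup.normalizer (R : Set X))}
    (hS : S ≤ (layer (↥(Subgroup.normalizer (R : Set X)) ⧸
        pPrimeCore p ↥(Subgroup.normalizer (R : Set X)))).comap
      (QuotientGroup.mk' (pPrimeCore p ↥(Subgroup.normalizer (R : Set X))))) :
    S.map ((QuotientGroup.mk' (pPrimeCore p X)).comp (Subgroup.normalizer (R : Set X)).subtype) ≤
      Subgroup.centralizer ((R.map (QuotientGroup.mk' (pPrimeCore p X)) : Subgroup _) : Set _) := by
  haveI hR'n : (R.subgroupOf (Subgroup.normalizer (R : Set X))).Normal :=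
    Subgroup.normal_in_normalizer
  have hR'p : IsPGroup p (R.subgroupOf (Subgroup.normalizer (R : Set X))) := hR.comap_subtype
  have hSR' := hS.trans (pPrimeLayer_le_centralizer_of_normal_isPGroup hR'p)
  rintro _ ⟨l, hl, rfl⟩
  rw [Subgroup.mem_centralizer_iff]
  rintro _ ⟨r, hr, rfl⟩
  have hrN : r ∈ (Subgroup.normalizer (R : Set X)) := Subgroup.le_normalizer hr
  have h1 := (Subgroup.mem_centralizer_iff.1 (hSR' hl)) ⟨r, hrN⟩ (Subgroup.mem_subgroupOf.2 hr)
  have h2 : r * (l : X) = (l : X) * r := congrArg Subtype.val h1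
  change (QuotientGroup.mk' (pPrimeCore p X)) r * (QuotientGroup.mk' (pPrimeCore p X)) (l : X) =
    (QuotientGroup.mk' (pPrimeCore p X)) (l : X) * (QuotientGroup.mk' (pPrimeCore p X)) r
  rw [← map_mul, ← map_mul, h2]

theorem range_comp_subtype_eq_normalizer {R : Subgroup X} (hR : IsPGroup p R) :
    ((QuotientGroup.mk' (pPrimeCore p X)).comp (Subgroup.normalizer (R : Set X)).subtype).range =
      Subgroup.normalizer ((R.map (QuotientGroup.mk' (pPrimeCore p X)) : Subgroup _) : Set _) := by
  rw [MonoidHom.range_comp, Subgroup.range_subtype]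
  exact normalizer_map_mk'_eq (pPrimeCore p X) (Cfsg.Agent.Lib.Helper6.pPrimeCore_coprime p) hR

end Facts

end Cfsg.Agent.Lib.Helper4.NQ
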