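import Mathlib
import Cfsg.Agent.Lib.Helper4.NQ11

set_option autoImplicit false
open scoped commutatorElement

/-!
The generalized base case of `B_{p'}`-balance: `R = R₀⟨x⟩` with `R₀` normal in `X` and
`x ^ p ∈ R₀`.
-/

namespace Cfsg.Agent.Lib.Helper4.NQ

open Cfsg Cfsg.Agent.Lib.Helper1 Cfsg.Agent.Lib.Helper3 Cfsg.Agent.Lib.Helper4.LBal

universe u

section GB
variable {X : Type u} [Group X] [Finite X] {p : ℕ} [hp : Fact p.Prime]

theorem generalized_base (hgood : Good p X)
    {R R₀ : Subgroup X} (hR : IsPGroup p R) [hR₀n : R₀.Normal] (hR₀R : R₀ ≤ R)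
    {x : X} (hxR : x ∈ R) (hgen : ∀ r ∈ R, ∃ r₀ ∈ R₀, ∃ i : ℤ, r = r₀ * x ^ i)
    (hxp : x ^ p ∈ R₀)
    {L : Subgroup ↥(Subgroup.normalizer (R : Set X))} (hL : IsPComponent p L)
    (hLq : ¬ IsQuasisimple ↥L) :
    L.map (Subgroup.normalizer (R : Set X)).subtype ≤ nonQuasisimplePLayer p X := by
  classical
  set W := pPrimeCore p X with hW
  haveI hWn : W.Normal := pPrimeCore_normal p X
  set π := QuotientGroup.mk' W with hπ
  set φ : ↥(Subgroup.normalizer (R : Set X)) →* X ⧸ W :=
    π.comp (Subgroup.normalizer (R : Set X)).subtype with hφ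
  have hWcop : (Nat.card W).Coprime p := Cfsg.Agent.Lib.Helper6.pPrimeCore_coprime p
  have hY : pPrimeCore p (X ⧸ W) = ⊥ := pPrimeCore_quotient_eq_bot
  have hgoodY : Good p (X ⧸ W) := hgood.of_isSectionOf ((IsSectionOf.refl X).quotient W)
  set Rbar := R.map π with hRbar
  set R₀bar := R₀.map π with hR₀bar
  set xbar : X ⧸ W := π x with hxbar
  have hxbarR : xbar ∈ Rbar := Subgroup.mem_map_of_mem π hxR
  -- `R̄₀` centralizes the layer
  have hR₀p : IsPGroup p R₀bar := (hR.to_le hR₀R).map π
  have hR₀E : R₀bar ≤ Subgroup.centralizer (layer (X ⧸ W) : Set (X ⧸ W)) := by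
    have hn : R₀bar.Normal := hR₀n.map π (QuotientGroup.mk'_surjective W)
    haveI : Group.IsNilpotent ↥R₀bar := hR₀p.isNilpotent
    have h1 := commutator_layer_of_isSolvable_of_isSubnormal (G := X ⧸ W) (H := R₀bar)
      inferInstance hn.isSubnormal
    rw [Subgroup.commutator_eq_bot_iff_le_centralizer] at h1
    exact Subgroup.le_centralizer_iff.1 h1
  have hrange : φ.range = Subgroup.normalizer (Rbar : Set (X ⧸ W)) :=
    range_comp_subtype_eq_normalizer hR
  -- the hypotheses of the abstract core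
  have hlift : layer (X ⧸ W) ⊓ Subgroup.centralizer ({xbar} : Set (X ⧸ W)) ≤ φ.range := by
    rw [hrange]
    refine le_trans ?_ (Subgroup.centralizer_le_normalizer _)
    intro y hy
    obtain ⟨hy1, hy2⟩ := Subgroup.mem_inf.1 hy
    rw [Subgroup.mem_centralizer_iff]
    rintro _ ⟨r, hr, rfl⟩
    obtain ⟨r₀, hr₀, i, rfl⟩ := hgen r hr
    have h1 : π r₀ * y = y * π r₀ :=
      ((Subgroup.mem_centralizer_iff.1 (hR₀E (Subgroup.mem_map_of_mem π hr₀))) y hy1).symm
    have h2 : y * xbar = xbar * y := Subgroup.mem_centralizer_singleton_iff.1 hy2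
    have h3 : xbar ^ i * y = y * xbar ^ i := by
      have : Commute xbar y := h2.symm
      exact (this.zpow_left i)
    rw [map_mul, map_zpow, ← hxbar]
    calc π r₀ * xbar ^ i * y = π r₀ * (xbar ^ i * y) := by group
      _ = π r₀ * (y * xbar ^ i) := by rw [h3]
      _ = (π r₀ * y) * xbar ^ i := by group
      _ = (y * π r₀) * xbar ^ i := by rw [h1]
      _ = y * (π r₀ * xbar ^ i) := by group
  have hcx : Subgroup.centralizer (Rbar : Set (X ⧸ W)) ≤
      Subgroup.centralizer ({xbar} : Set (X ⧸ W)) :=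
    Subgroup.centralizer_le (by
      intro y hy
      rw [Set.mem_singleton_iff] at hy
      rw [hy]
      exact hxbarR)
  have hLx : L.map φ ≤ Subgroup.centralizer ({xbar} : Set (X ⧸ W)) :=
    (map_le_centralizer_map_of_le hR
      ((IsPComponent.le_pLayer hL).trans pLayer_le_comap_layer)).trans hcx
  have hDx : (pPrimeCore p ↥(Subgroup.normalizer (R : Set X))).map φ ≤
      Subgroup.centralizer ({xbar} : Set (X ⧸ W)) := by
    refine (map_le_centralizer_map_of_le hR ?_).trans hcx
    intro o ho
    rw [Subgroup.mem_comap]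
    have : QuotientGroup.mk' (pPrimeCore p ↥(Subgroup.normalizer (R : Set X))) o = 1 := by
      rw [QuotientGroup.mk'_apply, QuotientGroup.eq_one_iff]
      exact ho
    rw [this]
    exact Subgroup.one_mem _
  have hSch : ∀ K : Subgroup (X ⧸ W), IsComponent K →
      Group.IsSolvable (Cfsg.Out (↥K ⧸ Subgroup.center ↥K)) :=
    fun K hK => (good_autSec hgoodY hY hK).2
  have hBp : ∀ K : Subgroup (X ⧸ W), IsComponent K → HasBpProperty p (autSec K) :=
    fun K hK => (good_autSec hgoodY hY hK).1
  have hLE : L.map φ ≤ layer (X ⧸ W) := pComponent_normalizer_map_le_layer hSch hR hL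
  have hxpE : xbar ^ p ∈ Subgroup.centralizer (layer (X ⧸ W) : Set (X ⧸ W)) := by
    rw [hxbar, ← map_pow]
    exact hR₀E (Subgroup.mem_map_of_mem π hxp)
  have hDK : ∀ K : Subgroup (X ⧸ W), IsComponent K →
      (pPrimeCore p ↥(Subgroup.normalizer (R : Set X))).map φ ≤
        Subgroup.normalizer (K : Set (X ⧸ W)) :=
    fun K hK => pPrimeCore_normalizer_map_le_normalizer hR hK
  set LX := L.map (Subgroup.normalizer (R : Set X)).subtype with hLX
  have hLXmap : LX.map π = L.map φ := by rw [hLX, Subgroup.map_map]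
  have hne : L.map φ ≠ ⊥ := by
    intro hbot
    have h1 : LX ≤ W := by
      intro l hl
      have h2 : π l ∈ LX.map π := Subgroup.mem_map_of_mem π hl
      rw [hLXmap, hbot, Subgroup.mem_bot, hπ, QuotientGroup.mk'_apply, QuotientGroup.eq_one_iff] at h2
      exact h2
    have h3 : Nat.card LX = Nat.card L :=
      (Nat.card_congr (L.equivMapOfInjective _
        (Subgroup.normalizer (R : Set X)).subtype_injective).toEquiv).symm
    have h4 : (Nat.card L).Coprime p := by
      rw [← h3]
      exact Nat.Coprime.coprime_dvd_left (Subgroup.card_dvd_of_le h1) hWcop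
    have h5 := IsPComponent.dvd_card hL
    have h6 : p ∣ Nat.gcd (Nat.card L) p := Nat.dvd_gcd h5 dvd_rfl
    rw [h4] at h6
    exact hp.out.one_lt.ne' (Nat.dvd_one.mp h6)
  obtain ⟨Kbar, hKbar, hLorb, hcomm⟩ :=
    core hY hBp φ hL xbar hlift hLx hDx hLE hxpE hDK hne
  obtain ⟨K, hK, hKmap⟩ := exists_isPComponent_map_eq (p := p) hKbar
  -- the orbit product lies in the image of every normal subgroup containing `K`
  have horb : ∀ P : Subgroup X, P.Normal → K ≤ P →
      orbitProd (Subgroup.zpowers xbar) Kbar ≤ P.map π := by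
    intro P hP hKP
    unfold orbitProd
    refine iSup_le fun g => ?_
    obtain ⟨i, hi⟩ := Subgroup.mem_zpowers_iff.1 g.2
    rw [← hi, hxbar, ← map_zpow, ← hKmap, ← map_cj]
    apply Subgroup.map_mono
    rintro _ ⟨k, hk, rfl⟩
    exact hP.conj_mem k (hKP hk) _
  have hminL : ∀ M : Subgroup L, M.Normal → M.index.Coprime p → M = ⊤ := fun M hM hidx => by
    haveI := hM
    exact IsPComponent.eq_top_of_normal_of_coprime_index hL M hidx
  have hminLX : ∀ M : Subgroup LX, M.Normal → M.index.Coprime p → M = ⊤ :=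
    no_coprime_index_map (Subgroup.normalizer (R : Set X)).subtype
      (Subgroup.normalizer (R : Set X)).subtype_injective hminL
  by_cases hKq : IsQuasisimple ↥K
  · -- then `L` is quasisimple: contradiction
    exfalso
    apply hLq
    rw [IsPComponent.isQuasisimple_iff hL]
    have hLXQ : LX ≤ quasisimplePLayer p X := by
      apply le_of_map_le_map (quasisimplePLayer_normal (p := p) (X := X)).isSubnormal hminLX
      rw [hLXmap]
      exact hLorb.trans (horb _ quasisimplePLayer_normal (le_quasisimplePLayer hK hKq))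
    have hLXperf : ⁅LX, LX⁆ = LX := by
      rw [hLX, ← Subgroup.map_commutator, IsPComponent.commutator_eq_self hL]
    have h1 : ⁅LX, ((pPrimeCore p ↥L).map L.subtype).map
        (Subgroup.normalizer (R : Set X)).subtype⁆ = ⊥ := by
      apply commutator_eq_bot_of_map_eq_bot hLXperf hLXQ
      rw [hLXmap, Subgroup.map_map]
      exact hcomm
    rw [hLX, ← Subgroup.map_commutator,
      Subgroup.map_eq_bot_iff_of_injective _ (Subgroup.normalizer (R : Set X)).subtype_injective] at h1
    exact h1
  · apply le_of_map_le_map (nonQuasisimplePLayer_normal (p := p) (X := X)).isSubnormal hminLX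
    rw [hLXmap]
    exact hLorb.trans (horb _ nonQuasisimplePLayer_normal (le_nonQuasisimplePLayer hK hKq))

end GB

end Cfsg.Agent.Lib.Helper4.NQ
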