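import Mathlib
import Cfsg.Agent.Lib.Helper4.NQ12

set_option autoImplicit false
open scoped commutatorElement

/-!
The inductive step of `B_{p'}`-balance: passing to `N_X(R₀)` for a maximal subgroup `R₀` of `R`.
-/

namespace Cfsg.Agent.Lib.Helper4.NQ

open Cfsg Cfsg.Agent.Lib.Helper1 Cfsg.Agent.Lib.Helper3 Cfsg.Agent.Lib.Helper4.LBal

section PGroup
variable {G : Type*} [Group G] [Finite G] {p : ℕ} [hp : Fact p.Prime]

/-- a nontrivial finite `p`-group has a normal subgroup of index `p`, and is generated by it together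
with any element outside -/
theorem exists_normal_index_prime (hG : IsPGroup p G) (hne : ∃ g : G, g ≠ 1) :
    ∃ (K : Subgroup G) (x : G), K.Normal ∧ K.index = p ∧ x ^ p ∈ K ∧
      ∀ g : G, ∃ k ∈ K, ∃ i : ℤ, g = k * x ^ i := by
  obtain ⟨k, hk⟩ := IsPGroup.iff_card.1 hG
  have hk0 : k ≠ 0 := by
    rintro rfl
    rw [pow_zero] at hk
    obtain ⟨g, hg⟩ := hne
    haveI : Subsingleton G := (Nat.card_eq_one_iff_unique.1 hk).1
    exact hg (Subsingleton.elim g 1)
  obtain ⟨m, rfl⟩ : ∃ m, k = m + 1 := ⟨k - 1, by omega⟩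
  obtain ⟨K, hK⟩ := Sylow.exists_subgroup_card_pow_prime p
    (show p ^ m ∣ Nat.card G by rw [hk]; exact pow_dvd_pow p (Nat.le_succ m))
  have hidx : K.index = p := by
    have h1 := K.card_mul_index
    rw [hK, hk, pow_succ] at h1
    exact Nat.eq_of_mul_eq_mul_left (pow_pos hp.out.pos m) h1
  have hKn : K.Normal := by
    apply Subgroup.normal_of_index_eq_minFac_card
    rw [hidx, hk, Nat.Prime.pow_minFac hp.out (Nat.succ_ne_zero m)]
  haveI := hKn
  have hcardQ : Nat.card (G ⧸ K) = p := by rw [← Subgroup.index_eq_card, hidx]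
  have hKtop : K ≠ ⊤ := by
    intro h
    rw [h, Subgroup.index_top] at hidx
    exact hp.out.one_lt.ne hidx
  obtain ⟨x, hx⟩ : ∃ x : G, x ∉ K := by
    by_contra hall
    push Not at hall
    exact hKtop (eq_top_iff.2 fun g _ => hall g)
  refine ⟨K, x, hKn, hidx, ?_, ?_⟩
  · rw [← QuotientGroup.eq_one_iff, QuotientGroup.mk_pow]
    have := pow_card_eq_one' (G := G ⧸ K) (x := (QuotientGroup.mk x : G ⧸ K))
    rwa [hcardQ] at this
  · intro g
    have hx1 : (QuotientGroup.mk x : G ⧸ K) ≠ 1 := by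
      rw [Ne, QuotientGroup.eq_one_iff]; exact hx
    have h1 : (QuotientGroup.mk g : G ⧸ K) ∈ Subgroup.zpowers (QuotientGroup.mk x : G ⧸ K) :=
      mem_zpowers_of_prime_card hcardQ hx1
    obtain ⟨i, hi⟩ := Subgroup.mem_zpowers_iff.1 h1
    rw [← QuotientGroup.mk_zpow, QuotientGroup.eq] at hi
    refine ⟨g * (x ^ i)⁻¹, ?_, i, by group⟩
    have := hKn.conj_mem _ hi (x ^ i)
    have e : x ^ i * ((x ^ i)⁻¹ * g) * (x ^ i)⁻¹ = g * (x ^ i)⁻¹ := by group
    rwa [e] at this

end PGroup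

section Norm
variable {X : Type*} [Group X]

theorem coe_mem_normalizer_of_mem_normalizer_subgroupOf {R H : Subgroup X} (hRH : R ≤ H) {n : ↥H}
    (hn : n ∈ Subgroup.normalizer ((R.subgroupOf H : Subgroup ↥H) : Set ↥H)) :
    (n : X) ∈ Subgroup.normalizer (R : Set X) := by
  rw [Subgroup.mem_normalizer_iff] at hn ⊢
  intro h
  constructor
  · intro hh
    have := (hn ⟨h, hRH hh⟩).1 (Subgroup.mem_subgroupOf.2 hh)
    exact Subgroup.mem_subgroupOf.1 this
  · intro hh
    have hhH : h ∈ H := by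
      have h1 : (n : X) * h * (n : X)⁻¹ ∈ H := hRH hh
      have h2 := H.mul_mem (H.mul_mem (H.inv_mem n.2) h1) n.2
      have e : (n : X)⁻¹ * ((n : X) * h * (n : X)⁻¹) * (n : X) = h := by group
      rwa [e] at h2
    have := (hn ⟨h, hhH⟩).2 (Subgroup.mem_subgroupOf.2 hh)
    exact Subgroup.mem_subgroupOf.1 this

theorem mem_normalizer_subgroupOf_of_coe_mem_normalizer {R H : Subgroup X} {n : ↥H}
    (hn : (n : X) ∈ Subgroup.normalizer (R : Set X)) :
    n ∈ Subgroup.normalizer ((R.subgroupOf H : Subgroup ↥H) : Set ↥H) := by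
  rw [Subgroup.mem_normalizer_iff] at hn ⊢
  intro h
  rw [Subgroup.mem_subgroupOf, Subgroup.mem_subgroupOf]
  exact hn (h : X)

end Norm

universe u

section Step
variable {X : Type u} [Group X] [Finite X] {p : ℕ} [hp : Fact p.Prime]

/-- a `p`-component of `N_X(R)` centralizes `R` -/
theorem IsPComponent.coe_mem_centralizer {R : Subgroup X} (hR : IsPGroup p R)
    {L : Subgroup ↥(Subgroup.normalizer (R : Set X))} (hL : IsPComponent p L)
    {l : ↥(Subgroup.normalizer (R : Set X))} (hl : l ∈ L) :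
    (l : X) ∈ Subgroup.centralizer (R : Set X) := by
  haveI hR'n : (R.subgroupOf (Subgroup.normalizer (R : Set X))).Normal :=
    Subgroup.normal_in_normalizer
  have hR'p : IsPGroup p (R.subgroupOf (Subgroup.normalizer (R : Set X))) := hR.comap_subtype
  have hLR' := ((IsPComponent.le_pLayer hL).trans pLayer_le_comap_layer).trans
    (pPrimeLayer_le_centralizer_of_normal_isPGroup hR'p)
  rw [Subgroup.mem_centralizer_iff]
  intro r hr
  have hrN : r ∈ (Subgroup.normalizer (R : Set X)) := Subgroup.le_normalizer hr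
  have h1 := (Subgroup.mem_centralizer_iff.1 (hLR' hl)) ⟨r, hrN⟩ (Subgroup.mem_subgroupOf.2 hr)
  exact congrArg Subtype.val h1

theorem step (hgood : Good p X) {R R₀ : Subgroup X} (hR : IsPGroup p R) (hR₀R : R₀ ≤ R)
    (hRn : R ≤ Subgroup.normalizer (R₀ : Set X))
    {x : X} (hxR : x ∈ R) (hgen : ∀ r ∈ R, ∃ r₀ ∈ R₀, ∃ i : ℤ, r = r₀ * x ^ i)
    (hxp : x ^ p ∈ R₀)
    (hIH : (nonQuasisimplePLayer p ↥(Subgroup.normalizer (R₀ : Set X))).map
      (Subgroup.normalizer (R₀ : Set X)).subtype ≤ nonQuasisimplePLayer p X)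
    {L : Subgroup ↥(Subgroup.normalizer (R : Set X))} (hL : IsPComponent p L)
    (hLq : ¬ IsQuasisimple ↥L) :
    L.map (Subgroup.normalizer (R : Set X)).subtype ≤ nonQuasisimplePLayer p X := by
  classical
  haveI hR₀'n : (R₀.subgroupOf (Subgroup.normalizer (R₀ : Set X))).Normal :=
    Subgroup.normal_in_normalizer
  have hR' : IsPGroup p (R.subgroupOf (Subgroup.normalizer (R₀ : Set X))) := hR.comap_subtype
  have hR₀R' : R₀.subgroupOf (Subgroup.normalizer (R₀ : Set X)) ≤
      R.subgroupOf (Subgroup.normalizer (R₀ : Set X)) := fun y hy => hR₀R hy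
  have hxX₀ : x ∈ Subgroup.normalizer (R₀ : Set X) := hRn hxR
  have hxR' : (⟨x, hxX₀⟩ : ↥(Subgroup.normalizer (R₀ : Set X))) ∈
      R.subgroupOf (Subgroup.normalizer (R₀ : Set X)) := Subgroup.mem_subgroupOf.2 hxR
  have hgen' : ∀ r ∈ R.subgroupOf (Subgroup.normalizer (R₀ : Set X)),
      ∃ r₀ ∈ R₀.subgroupOf (Subgroup.normalizer (R₀ : Set X)), ∃ i : ℤ,
        r = r₀ * (⟨x, hxX₀⟩ : ↥(Subgroup.normalizer (R₀ : Set X))) ^ i := by
    intro r hr
    obtain ⟨r₀, hr₀, i, hi⟩ := hgen (r : X) (Subgroup.mem_subgroupOf.1 hr)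
    refine ⟨⟨r₀, Subgroup.le_normalizer hr₀⟩, Subgroup.mem_subgroupOf.2 hr₀, i, ?_⟩
    apply Subtype.ext
    rw [hi]
    simp
  have hxp' : (⟨x, hxX₀⟩ : ↥(Subgroup.normalizer (R₀ : Set X))) ^ p ∈
      R₀.subgroupOf (Subgroup.normalizer (R₀ : Set X)) := by
    rw [Subgroup.mem_subgroupOf]
    simpa using hxp
  -- the inclusion `N_{X₀}(R') → N_X(R)`
  let j : ↥(Subgroup.normalizer ((R.subgroupOf (Subgroup.normalizer (R₀ : Set X)) :
      Subgroup ↥(Subgroup.normalizer (R₀ : Set X))) : Set ↥(Subgroup.normalizer (R₀ : Set X)))) →*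
      ↥(Subgroup.normalizer (R : Set X)) :=
    (((Subgroup.normalizer (R₀ : Set X)).subtype).comp (Subgroup.subtype _)).codRestrict _
      (fun n => coe_mem_normalizer_of_mem_normalizer_subgroupOf hRn n.2)
  have hj : ∀ n, ((j n : ↥(Subgroup.normalizer (R : Set X))) : X) =
      ((n : ↥(Subgroup.normalizer (R₀ : Set X))) : X) := fun n => rfl
  have hjinj : Function.Injective j := by
    intro a b hab
    apply Subtype.ext
    apply Subtype.ext
    have := congrArg (fun t : ↥(Subgroup.normalizer (R : Set X)) => (t : X)) hab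
    simpa [hj] using this
  -- every element of `L` lies in the range of `j`
  have hLrange : ∀ l ∈ L, ∃ n, j n = l := by
    intro l hl
    have h1 : (l : X) ∈ Subgroup.centralizer (R : Set X) :=
      IsPComponent.coe_mem_centralizer hR hL hl
    have h2 : (l : X) ∈ Subgroup.normalizer (R₀ : Set X) :=
      Subgroup.centralizer_le_normalizer _
        (Subgroup.centralizer_le (by exact_mod_cast hR₀R) h1)
    have h3 : (⟨(l : X), h2⟩ : ↥(Subgroup.normalizer (R₀ : Set X))) ∈
        Subgroup.normalizer ((R.subgroupOf (Subgroup.normalizer (R₀ : Set X)) :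
          Subgroup ↥(Subgroup.normalizer (R₀ : Set X))) : Set ↥(Subgroup.normalizer (R₀ : Set X))) :=
      mem_normalizer_subgroupOf_of_coe_mem_normalizer l.2
    exact ⟨⟨⟨(l : X), h2⟩, h3⟩, Subtype.ext rfl⟩
  set L' := L.comap j with hL'def
  have hL'sn : L'.IsSubnormal := hL.1.comap j
  let e : ↥L' ≃* ↥L := MulEquiv.ofBijective (j.subgroupComap L) (by
    constructor
    · intro a b hab
      apply Subtype.ext
      apply hjinj
      exact congrArg Subtype.val hab
    · intro l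
      obtain ⟨n, hn⟩ := hLrange l l.2
      refine ⟨⟨n, ?_⟩, Subtype.ext hn⟩
      rw [hL'def, Subgroup.mem_comap, hn]
      exact l.2)
  have hPQS' : PQS p ↥L' := PQS.of_mulEquiv e.symm (isPComponent_iff_pqs.1 hL).2
  have hL' : IsPComponent p L' := isPComponent_iff_pqs.2 ⟨hL'sn, hPQS'⟩
  have hL'q : ¬ IsQuasisimple ↥L' := fun h => hLq (isQuasisimple_of_mulEquiv e h)
  have hgood₀ : Good p ↥(Subgroup.normalizer (R₀ : Set X)) :=
    hgood.of_isSectionOf (IsSectionOf.subgroup _)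
  have hGB := generalized_base hgood₀ hR' hR₀R' hxR' hgen' hxp' hL' hL'q
  refine le_trans ?_ hIH
  refine le_trans ?_ (Subgroup.map_mono hGB)
  rintro _ ⟨l, hl, rfl⟩
  obtain ⟨n, hn⟩ := hLrange l hl
  refine ⟨(n : ↥(Subgroup.normalizer (R₀ : Set X))), ⟨n, ?_, rfl⟩, ?_⟩
  · change n ∈ L'
    rw [hL'def, Subgroup.mem_comap, hn]
    exact hl
  · rw [← hn]
    rfl

end Step

end Cfsg.Agent.Lib.Helper4.NQ
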