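import Mathlib
import Cfsg.Agent.Lib.Helper4.NQ13

set_option autoImplicit false
open scoped commutatorElement

/-!
`B_{p'}`-balance: the induction on `|R|`.
-/

namespace Cfsg.Agent.Lib.Helper4.NQ

open Cfsg Cfsg.Agent.Lib.Helper1 Cfsg.Agent.Lib.Helper3 Cfsg.Agent.Lib.Helper4.LBal

universe u

section Main
variable {X : Type u} [Group X] [Finite X] {p : ℕ} [hp : Fact p.Prime]

theorem balance_aux (hgood : Good p X) : ∀ (n : ℕ) (R : Subgroup X), IsPGroup p R → R ≠ ⊥ →
    Nat.card R = n →
    (nonQuasisimplePLayer p ↥(Subgroup.normalizer (R : Set X))).map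
      (Subgroup.normalizer (R : Set X)).subtype ≤ nonQuasisimplePLayer p X := by
  intro n
  induction n using Nat.strong_induction_on with
  | _ n ih =>
    intro R hR hR1 hcard
    have key : ∀ L : Subgroup ↥(Subgroup.normalizer (R : Set X)), IsPComponent p L →
        ¬ IsQuasisimple ↥L →
        L.map (Subgroup.normalizer (R : Set X)).subtype ≤ nonQuasisimplePLayer p X := by
      intro L hL hLq
      have hne : ∃ g : ↥R, g ≠ 1 := by
        by_contra hall
        push Not at hall
        apply hR1
        rw [eq_bot_iff]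
        intro r hr
        have := hall ⟨r, hr⟩
        rw [Subgroup.mem_bot]
        exact congrArg Subtype.val this
      obtain ⟨K, x, hKn, hidx, hxp, hgen⟩ := exists_normal_index_prime (G := ↥R) hR hne
      have hR₀R : K.map R.subtype ≤ R := by
        rintro _ ⟨k, _, rfl⟩
        exact k.2
      have hRn : R ≤ Subgroup.normalizer ((K.map R.subtype : Subgroup X) : Set X) := by
        apply le_normalizer_of_forall_conj_mem
        rintro r hr _ ⟨k, hk, rfl⟩
        exact ⟨(⟨r, hr⟩ : ↥R) * k * (⟨r, hr⟩ : ↥R)⁻¹, hKn.conj_mem k hk _, rfl⟩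
      have hxpX : (x : X) ^ p ∈ K.map R.subtype := ⟨x ^ p, hxp, by simp⟩
      have hgenX : ∀ r ∈ R, ∃ r₀ ∈ K.map R.subtype, ∃ i : ℤ, r = r₀ * (x : X) ^ i := by
        intro r hr
        obtain ⟨k, hk, i, hi⟩ := hgen ⟨r, hr⟩
        refine ⟨(k : X), ⟨k, hk, rfl⟩, i, ?_⟩
        have := congrArg (fun t : ↥R => (t : X)) hi
        simpa using this
      by_cases hR₀ : K.map R.subtype = ⊥
      · haveI : (K.map R.subtype).Normal := by rw [hR₀]; infer_instance
        exact generalized_base hgood hR hR₀R x.2 hgenX hxpX hL hLq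
      · have hcard₀ : Nat.card (K.map R.subtype) < n := by
          have h1 : Nat.card (K.map R.subtype) = Nat.card K :=
            (Nat.card_congr (K.equivMapOfInjective R.subtype R.subtype_injective).toEquiv).symm
          have h2 := K.card_mul_index
          rw [hidx, hcard] at h2
          rw [h1, ← h2]
          have h3 : 0 < Nat.card K := Nat.card_pos
          have h4 := hp.out.two_le
          nlinarith
        exact step hgood hR hR₀R hRn x.2 hgenX hxpX
          (ih _ hcard₀ (K.map R.subtype) (hR.to_le hR₀R) hR₀ rfl) hL hLq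
    have hexp : nonQuasisimplePLayer p ↥(Subgroup.normalizer (R : Set X)) =
        ⨆ K : {K : Subgroup ↥(Subgroup.normalizer (R : Set X)) //
          IsPComponent p K ∧ ¬ IsQuasisimple ↥K},
          (K : Subgroup ↥(Subgroup.normalizer (R : Set X))) := rfl
    rw [hexp, Subgroup.map_iSup]
    exact iSup_le fun L => key L L.2.1 L.2.2

/-- **`B_{p'}`-balance** -/
theorem nonQuasisimplePLayer_balance (hgood : Good p X) (R : Subgroup X) (hR : IsPGroup p R)
    (hR1 : R ≠ ⊥) :
    (nonQuasisimplePLayer p ↥(Subgroup.normalizer (R : Set X))).map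
      (Subgroup.normalizer (R : Set X)).subtype ≤ nonQuasisimplePLayer p X :=
  balance_aux hgood _ R hR hR1 rfl

end Main

end Cfsg.Agent.Lib.Helper4.NQ
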