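import Mathlib
import Cfsg.Agent.Lib.Helper4.NQ14

set_option autoImplicit false
open scoped commutatorElement

/-!
Local balance implies balance: the key lemma on the automizer section.

`K` is a normal subgroup of `X = K · C_X(a)`, `E` is a `p'`-subgroup of `C_X(a)` normalized by `C_X(a)`
and centralizing `Z(K)`, and `π : X → S` is a surjection with kernel `C_X(K)`.  Then the image of `E`
lies in `O_{p'}(C_S(π a))`.
-/

namespace Cfsg.Agent.Lib.Helper4.LB

open Cfsg Cfsg.Agent.Lib.Helper1 Cfsg.Agent.Lib.Helper3 Cfsg.Agent.Lib.Helper4.LBal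
  Cfsg.Agent.Lib.Helper4.NQ

section Gen
variable {X : Type*} [Group X]

theorem mem_normalizer_sup {A B : Subgroup X} {c : X}
    (hA : c ∈ Subgroup.normalizer (A : Set X)) (hB : c ∈ Subgroup.normalizer (B : Set X)) :
    c ∈ Subgroup.normalizer ((A ⊔ B : Subgroup X) : Set X) := by
  have h1 : Subgroup.zpowers c ≤ Subgroup.normalizer ((A ⊔ B : Subgroup X) : Set X) := by
    apply le_normalizer_of_forall_conj_mem
    intro g hg t ht
    have hgA : g ∈ Subgroup.normalizer (A : Set X) :=
      (Subgroup.zpowers_le.2 hA) hg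
    have hgB : g ∈ Subgroup.normalizer (B : Set X) :=
      (Subgroup.zpowers_le.2 hB) hg
    have h2 : A ⊔ B ≤ (A ⊔ B).comap (MulAut.conj g).toMonoidHom := by
      apply sup_le
      · intro x hx
        rw [Subgroup.mem_comap]
        have : g * x * g⁻¹ ∈ A := (Subgroup.mem_normalizer_iff.1 hgA x).1 hx
        simpa [MulAut.conj_apply] using (Subgroup.mem_sup_left this : g * x * g⁻¹ ∈ A ⊔ B)
      · intro x hx
        rw [Subgroup.mem_comap]
        have : g * x * g⁻¹ ∈ B := (Subgroup.mem_normalizer_iff.1 hgB x).1 hx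
        simpa [MulAut.conj_apply] using (Subgroup.mem_sup_right this : g * x * g⁻¹ ∈ A ⊔ B)
    have h3 := h2 ht
    rw [Subgroup.mem_comap] at h3
    simpa [MulAut.conj_apply] using h3
  exact h1 (Subgroup.mem_zpowers c)

/-- conjugation-stability of a join can be checked on the two factors -/
theorem conj_mem_sup_of_forall {A B T : Subgroup X} {m : X}
    (hA : ∀ x ∈ A, m * x * m⁻¹ ∈ T) (hB : ∀ x ∈ B, m * x * m⁻¹ ∈ T) :
    ∀ t ∈ A ⊔ B, m * t * m⁻¹ ∈ T := by
  have h2 : A ⊔ B ≤ T.comap (MulAut.conj m).toMonoidHom := by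
    apply sup_le
    · intro x hx
      rw [Subgroup.mem_comap]
      simpa [MulAut.conj_apply] using hA x hx
    · intro x hx
      rw [Subgroup.mem_comap]
      simpa [MulAut.conj_apply] using hB x hx
  intro t ht
  have h3 := h2 ht
  rw [Subgroup.mem_comap] at h3
  simpa [MulAut.conj_apply] using h3

end Gen

section Key
variable {X S : Type*} [Group X] [Finite X] [Group S] [Finite S] {p : ℕ} [hp : Fact p.Prime]

/-- the key lemma -/
theorem map_le_centralizerPPrimeCore (K : Subgroup X) [hKn : K.Normal] (a : X) (E : Subgroup X)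
    (hE : (Nat.card E).Coprime p)
    (hEa : E ≤ Subgroup.centralizer ({a} : Set X))
    (hEn : Subgroup.centralizer ({a} : Set X) ≤ Subgroup.normalizer (E : Set X))
    (hEZ : ∀ e ∈ E, ∀ z ∈ K, (∀ k ∈ K, z * k = k * z) → e * z = z * e)
    (hX : ∀ h : X, ∃ k ∈ K, ∃ c ∈ Subgroup.centralizer ({a} : Set X), h = k * c)
    (π : X →* S) (hπ : Function.Surjective π)
    (hker : ∀ h : X, π h = 1 ↔ ∀ k ∈ K, h * k = k * h) :
    E.map π ≤ centralizerPPrimeCore p (π a) := by
  set Ca := Subgroup.centralizer ({a} : Set X) with hCa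
  set C₀ := K ⊓ Ca with hC₀
  set T := C₀ ⊔ E with hT
  set C := Subgroup.centralizer ({π a} : Set S) with hC
  have hcomm : ∀ c ∈ Ca, c * a = a * c := fun c hc => Subgroup.mem_centralizer_singleton_iff.1 hc
  have hTCa : T ≤ Ca := sup_le inf_le_right hEa
  -- `C_X(a)` normalizes `C₀`
  have hCaC₀ : Ca ≤ Subgroup.normalizer (C₀ : Set X) := by
    apply le_normalizer_of_forall_conj_mem
    intro c hc t ht
    exact Subgroup.mem_inf.2 ⟨hKn.conj_mem t (Subgroup.mem_inf.1 ht).1 c,
      Ca.mul_mem (Ca.mul_mem hc (Subgroup.mem_inf.1 ht).2) (Ca.inv_mem hc)⟩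
  have hCaT : Ca ≤ Subgroup.normalizer (T : Set X) := fun c hc =>
    mem_normalizer_sup (hCaC₀ hc) (hEn hc)
  -- the preimage of `C_S(π a)` normalizes `T`
  have hM : C.comap π ≤ Subgroup.normalizer (T : Set X) := by
    apply le_normalizer_of_forall_conj_mem
    intro m hm
    rw [Subgroup.mem_comap, hC, Subgroup.mem_centralizer_singleton_iff] at hm
    obtain ⟨k, hk, c, hc, rfl⟩ := hX m
    have hca : c * a = a * c := hcomm c hc
    -- `z = k a k⁻¹ a⁻¹` is central in `K`
    set z : X := k * a * k⁻¹ * a⁻¹ with hz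
    have hzK : z ∈ K := by
      have : z = k * (a * k⁻¹ * a⁻¹) := by rw [hz]; group
      rw [this]
      exact K.mul_mem hk (hKn.conj_mem _ (K.inv_mem hk) a)
    have hzc : ∀ y ∈ K, z * y = y * z := by
      have h1 : π z = 1 := by
        have e1 : z = (k * c) * a * (k * c)⁻¹ * a⁻¹ := by
          have : c * a * c⁻¹ = a := by rw [hca]; group
          calc z = k * a * k⁻¹ * a⁻¹ := hz
            _ = k * (c * a * c⁻¹) * k⁻¹ * a⁻¹ := by rw [this]
            _ = (k * c) * a * (k * c)⁻¹ * a⁻¹ := by group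
        rw [e1, map_mul, map_mul, map_mul, map_inv, map_inv, hm]
        group
      exact (hker z).1 h1
    have hak : a * k * a⁻¹ = z⁻¹ * k := by rw [hz]; group
    -- `k` conjugates `C₀` into `C₀`
    have hkC₀ : ∀ t ∈ C₀, k * t * k⁻¹ ∈ C₀ := by
      intro t ht
      have htK : t ∈ K := (Subgroup.mem_inf.1 ht).1
      have hta : t * a = a * t := hcomm t (Subgroup.mem_inf.1 ht).2
      have hconjK : k * t * k⁻¹ ∈ K := K.mul_mem (K.mul_mem hk htK) (K.inv_mem hk)
      refine Subgroup.mem_inf.2 ⟨hconjK, ?_⟩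
      rw [hCa, Subgroup.mem_centralizer_singleton_iff]
      have h2 : a * t * a⁻¹ = t := by rw [← hta]; group
      have h3 : a * (k * t * k⁻¹) * a⁻¹ = k * t * k⁻¹ := by
        calc a * (k * t * k⁻¹) * a⁻¹ = (a * k * a⁻¹) * (a * t * a⁻¹) * (a * k * a⁻¹)⁻¹ := by group
          _ = (z⁻¹ * k) * t * (z⁻¹ * k)⁻¹ := by rw [hak, h2]
          _ = z⁻¹ * ((k * t * k⁻¹) * z) := by group
          _ = z⁻¹ * (z * (k * t * k⁻¹)) := by rw [hzc _ hconjK]
          _ = k * t * k⁻¹ := by group
      calc k * t * k⁻¹ * a = (a * (k * t * k⁻¹) * a⁻¹) * a := by rw [h3]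
        _ = a * (k * t * k⁻¹) := by group
    -- `k` conjugates `E` into `C₀ E`
    have hkE : ∀ e ∈ E, k * e * k⁻¹ ∈ T := by
      intro e he
      have hea : e * a = a * e := hcomm e (hEa he)
      set w : X := k * e * k⁻¹ * e⁻¹ with hw
      have hwK : w ∈ K := by
        have : w = k * (e * k⁻¹ * e⁻¹) := by rw [hw]; group
        rw [this]
        exact K.mul_mem hk (hKn.conj_mem _ (K.inv_mem hk) e)
      have hez : e * z = z * e := hEZ e he z hzK hzc
      have hwa : w ∈ C₀ := by
        refine Subgroup.mem_inf.2 ⟨hwK, ?_⟩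
        rw [hCa, Subgroup.mem_centralizer_singleton_iff]
        have h2 : a * e * a⁻¹ = e := by rw [← hea]; group
        have h4 : e * z * e⁻¹ = z := by rw [hez]; group
        have h3 : a * w * a⁻¹ = w := by
          calc a * w * a⁻¹ = (a * k * a⁻¹) * (a * e * a⁻¹) * (a * k * a⁻¹)⁻¹ * (a * e * a⁻¹)⁻¹ := by
                rw [hw]; group
            _ = (z⁻¹ * k) * e * (z⁻¹ * k)⁻¹ * e⁻¹ := by rw [hak, h2]
            _ = z⁻¹ * (k * e * k⁻¹ * e⁻¹) * (e * z * e⁻¹) := by group
            _ = z⁻¹ * (w * z) := by rw [h4, ← hw]; group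
            _ = z⁻¹ * (z * w) := by rw [hzc _ hwK]
            _ = w := by group
        calc w * a = (a * w * a⁻¹) * a := by rw [h3]
          _ = a * w := by group
      have : k * e * k⁻¹ = w * e := by rw [hw]; group
      rw [this]
      exact T.mul_mem (Subgroup.mem_sup_left hwa) (Subgroup.mem_sup_right he)
    -- assemble
    have hkT : ∀ t ∈ T, k * t * k⁻¹ ∈ T :=
      conj_mem_sup_of_forall (fun x hx => Subgroup.mem_sup_left (hkC₀ x hx)) hkE
    intro t ht
    have hct : c * t * c⁻¹ ∈ T := (Subgroup.mem_normalizer_iff.1 (hCaT hc) t).1 ht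
    have := hkT _ hct
    have e : k * c * t * (k * c)⁻¹ = k * (c * t * c⁻¹) * k⁻¹ := by group
    rw [e]
    exact this
  -- relative subnormality
  have hmapCa : Ca.map π ≤ C := by
    rintro _ ⟨c, hc, rfl⟩
    rw [hC, Subgroup.mem_centralizer_singleton_iff, ← map_mul, ← map_mul, hcomm c hc]
  have h1 : RelSub (E.map π) (T.map π) := by
    apply RelSub.of_le_normalizer (Subgroup.map_mono le_sup_right)
    exact (Subgroup.map_mono (hTCa.trans hEn)).trans (Subgroup.le_normalizer_map π)
  have h2 : RelSub (T.map π) C := by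
    apply RelSub.of_le_normalizer ((Subgroup.map_mono hTCa).trans hmapCa)
    intro s hs
    obtain ⟨m, rfl⟩ := hπ s
    have hm : m ∈ C.comap π := hs
    exact Subgroup.le_normalizer_map π (Subgroup.mem_map_of_mem π (hM hm))
  have h3 : RelSub (E.map π) C := h1.trans h2
  have hcard : (Nat.card ((E.map π).subgroupOf C)).Coprime p := by
    have hd1 : Nat.card ((E.map π).subgroupOf C) ∣ Nat.card (E.map π) := by
      have hinj : Function.Injective ((C.subtype).subgroupComap (E.map π)) := by
        intro x y hxy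
        have := congrArg Subtype.val hxy
        exact Subtype.ext (Subtype.ext this)
      exact Subgroup.card_dvd_of_injective _ hinj
    exact Nat.Coprime.coprime_dvd_left (hd1.trans (Subgroup.card_map_dvd E π)) hE
  have h4 : (E.map π).subgroupOf C ≤ pPrimeCore p ↥C := le_pPrimeCore_of_isSubnormal h3.2 hcard
  intro s hs
  unfold centralizerPPrimeCore
  exact ⟨⟨s, h3.1 hs⟩, h4 (Subgroup.mem_subgroupOf.2 hs), rfl⟩

end Key

end Cfsg.Agent.Lib.Helper4.LB
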