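import Mathlib
import Cfsg.Agent.Lib.Helper4.LB1

set_option autoImplicit false
open scoped commutatorElement

/-!
Local balance implies balance: the `p'`-cores of centralizers of elements of order `p` in a group with
`O_{p'} = 1`, and the main reduction to the automizers of components.
-/

namespace Cfsg.Agent.Lib.Helper4.LB

open Cfsg Cfsg.Agent.Lib.Helper1 Cfsg.Agent.Lib.Helper3 Cfsg.Agent.Lib.Helper4.LBal
  Cfsg.Agent.Lib.Helper4.NQ

section API
variable {Y : Type*} [Group Y] {p : ℕ}

theorem centralizerPPrimeCore_le_centralizer (x : Y) :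
    centralizerPPrimeCore p x ≤ Subgroup.centralizer ({x} : Set Y) := by
  unfold centralizerPPrimeCore
  rintro _ ⟨c, _, rfl⟩
  exact c.2

theorem centralizer_le_normalizer_centralizerPPrimeCore (x : Y) :
    Subgroup.centralizer ({x} : Set Y) ≤ Subgroup.normalizer (centralizerPPrimeCore p x : Set Y) := by
  unfold centralizerPPrimeCore
  have h := range_le_normalizer_map (Subgroup.centralizer ({x} : Set Y)).subtype
    (pPrimeCore p ↥(Subgroup.centralizer ({x} : Set Y)))
  rwa [Subgroup.range_subtype] at h

theorem card_centralizerPPrimeCore_coprime [Finite Y] (x : Y) :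
    (Nat.card (centralizerPPrimeCore p x)).Coprime p := by
  unfold centralizerPPrimeCore
  exact map_pPrimeCore_coprime _

/-- a `p'`-subgroup of `C(x)` normalized by `C(x)` lies in `O_{p'}(C(x))` -/
theorem le_centralizerPPrimeCore [Finite Y] {x : Y} {D : Subgroup Y}
    (hD : (Nat.card D).Coprime p) (hDx : D ≤ Subgroup.centralizer ({x} : Set Y))
    (hn : Subgroup.centralizer ({x} : Set Y) ≤ Subgroup.normalizer (D : Set Y)) :
    D ≤ centralizerPPrimeCore p x := by
  set C := Subgroup.centralizer ({x} : Set Y) with hC
  have hnorm : (D.subgroupOf C).Normal := (Subgroup.normal_subgroupOf_iff_le_normalizer hDx).2 hn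
  have hcard : (Nat.card (D.subgroupOf C)).Coprime p := by
    have hinj : Function.Injective ((C.subtype).subgroupComap D) := by
      intro a b hab
      have := congrArg Subtype.val hab
      exact Subtype.ext (Subtype.ext this)
    exact Nat.Coprime.coprime_dvd_left (Subgroup.card_dvd_of_injective _ hinj) hD
  have h1 := Cfsg.Agent.Lib.Helper6.le_pPrimeCore hnorm hcard
  intro d hd
  unfold centralizerPPrimeCore
  exact ⟨⟨d, hDx hd⟩, h1 (Subgroup.mem_subgroupOf.2 hd), rfl⟩

end API

section Facts
variable {Y : Type*} [Group Y] [Finite Y] {p : ℕ} [hp : Fact p.Prime]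

omit hp in
theorem isPGroup_zpowers_of_pow_eq_one (hp' : p.Prime) {x : Y} (hx : x ^ p = 1) :
    IsPGroup p (Subgroup.zpowers x) := by
  have : Fact p.Prime := ⟨hp'⟩
  rintro ⟨y, hy⟩
  obtain ⟨k, rfl⟩ := Subgroup.mem_zpowers_iff.1 hy
  refine ⟨1, ?_⟩
  apply Subtype.ext
  simp only [pow_one, Subgroup.coe_pow, Subgroup.coe_one]
  rw [← zpow_natCast, ← zpow_mul, mul_comm, zpow_mul, zpow_natCast, hx, one_zpow]

/-- in a group with `O_{p'} = 1`, a `p'`-subgroup centralizing `O_p` and all components is trivial -/
theorem eq_bot_of_le_centralizer (hY : pPrimeCore p Y = ⊥) {D : Subgroup Y}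
    (hD : (Nat.card D).Coprime p)
    (hDQ : D ≤ Subgroup.centralizer (pCore p Y : Set Y))
    (hDK : ∀ K : Subgroup Y, IsComponent K → D ≤ Subgroup.centralizer (K : Set Y)) : D = ⊥ := by
  have h1 : D ≤ Subgroup.centralizer (layer Y : Set Y) := by
    rw [Subgroup.le_centralizer_iff, layer_le_iff]
    intro K hK
    rw [← Subgroup.le_centralizer_iff]
    exact hDK K hK
  have h2 : D ≤ Subgroup.centralizer (fittingSubgroup Y : Set Y) :=
    hDQ.trans (Subgroup.centralizer_le (fittingSubgroup_le_pCore hY))
  have h3 : D ≤ Subgroup.centralizer (generalizedFittingSubgroup Y : Set Y) := by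
    intro z hz
    unfold generalizedFittingSubgroup
    exact mem_centralizer_sup (h1 hz) (h2 hz)
  set C := Subgroup.centralizer (generalizedFittingSubgroup Y : Set Y) with hC
  have hCle : C ≤ generalizedFittingSubgroup Y := centralizer_generalizedFittingSubgroup_le
  have hCC : ⁅C, C⁆ = ⊥ := by
    rw [Subgroup.commutator_eq_bot_iff_le_centralizer]
    exact Subgroup.centralizer_le hCle
  have hCnil : Group.IsNilpotent C :=
    isNilpotent_of_commutator_le_centralizer (by rw [hCC]; exact bot_le)
  have hCn : C.Normal := by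
    haveI : (generalizedFittingSubgroup Y).Normal := by
      unfold generalizedFittingSubgroup
      haveI := Cfsg.Agent.Lib.Lead.fittingSubgroup_normal (G := Y)
      haveI : (layer Y).Normal := layer_normal
      infer_instance
    exact Subgroup.normal_centralizer
  have h4 : C ≤ pCore p Y :=
    (Cfsg.Agent.Lib.Lead.le_fittingSubgroup hCn hCnil).trans (fittingSubgroup_le_pCore hY)
  have hZ2 : IsPGroup p D :=
    (Cfsg.Agent.Lib.Helper2.pCore_isPGroup (G := Y) p).to_le (h3.trans h4)
  have := Cfsg.Agent.Lib.Helper6.isPGroup_inf_coprime_eq_bot hD hZ2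
  rwa [inf_idem] at this

variable (hY : pPrimeCore p Y = ⊥) {x : Y} (hx : x ^ p = 1)
include hY hx

theorem centralizerPPrimeCore_le_centralizer_pCore :
    centralizerPPrimeCore p x ≤ Subgroup.centralizer (pCore p Y : Set Y) := by
  apply le_centralizer_pCore (isPGroup_zpowers_of_pow_eq_one hp.out hx)
    (card_centralizerPPrimeCore_coprime x)
  · exact (centralizerPPrimeCore_le_centralizer x).trans
      (centralizer_singleton_le_centralizer_zpowers x)
  · exact (centralizer_zpowers_le_centralizer_singleton x).trans
      (centralizer_le_normalizer_centralizerPPrimeCore x)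

theorem centralizerPPrimeCore_le_normalizer_component {K : Subgroup Y} (hK : IsComponent K) :
    centralizerPPrimeCore p x ≤ Subgroup.normalizer (K : Set Y) := by
  apply le_normalizer_component hY (isPGroup_zpowers_of_pow_eq_one hp.out hx)
    (card_centralizerPPrimeCore_coprime x) _ _ hK
  · exact (centralizerPPrimeCore_le_centralizer x).trans
      (centralizer_singleton_le_centralizer_zpowers x)
  · exact (centralizer_zpowers_le_centralizer_singleton x).trans
      (centralizer_le_normalizer_centralizerPPrimeCore x)

theorem centralizerPPrimeCore_le_centralizer_component_of_mem {K : Subgroup Y}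
    (hK : IsComponent K) (hxK : x ∈ Subgroup.centralizer (K : Set Y)) :
    centralizerPPrimeCore p x ≤ Subgroup.centralizer (K : Set Y) := by
  have h := map_pPrimeCore_le_centralizer_of_mem hY
    (Subgroup.centralizer ({x} : Set Y)).subtype x
    (by rw [Subgroup.range_subtype]; exact inf_le_right) hK
    (centralizerPPrimeCore_le_normalizer_component hY hx hK) hxK
  exact h

theorem centralizerPPrimeCore_le_centralizer_component_of_not_mem {K : Subgroup Y}
    (hK : IsComponent K) (hxK : x ∉ Subgroup.normalizer (K : Set Y)) :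
    centralizerPPrimeCore p x ≤ Subgroup.centralizer (K : Set Y) := by
  have h := map_pPrimeCore_le_centralizer_of_not_mem hY
    (Subgroup.centralizer ({x} : Set Y)).subtype x
    (by rw [Subgroup.range_subtype]; exact inf_le_right)
    (centralizerPPrimeCore_le_centralizer x)
    (by rw [hx]; exact Subgroup.one_mem _) hK
    (centralizerPPrimeCore_le_normalizer_component hY hx hK) hxK
  exact h

end Facts

section Main
variable {Y : Type*} [Group Y] [Finite Y] {p : ℕ} [hp : Fact p.Prime]

/-- the main reduction: `⨅_{a ∈ A} O_{p'}(C(a))` is trivial as soon as it centralizes every component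
normalized but not centralized by each `a ∈ A` -/
theorem iInf_centralizerPPrimeCore_eq_bot (hY : pPrimeCore p Y = ⊥) {ι : Type*} [Nonempty ι]
    (x : ι → Y) (hx : ∀ i, x i ^ p = 1)
    (hloc : ∀ K : Subgroup Y, IsComponent K →
      (∀ i, x i ∈ Subgroup.normalizer (K : Set Y) ∧ x i ∉ Subgroup.centralizer (K : Set Y)) →
      ⨅ i, centralizerPPrimeCore p (x i) ≤ Subgroup.centralizer (K : Set Y)) :
    ⨅ i, centralizerPPrimeCore p (x i) = ⊥ := by
  obtain ⟨i₀⟩ := ‹Nonempty ι›
  apply eq_bot_of_le_centralizer hY
  · exact Nat.Coprime.coprime_dvd_left (Subgroup.card_dvd_of_le (iInf_le _ i₀))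
      (card_centralizerPPrimeCore_coprime (x i₀))
  · exact (iInf_le _ i₀).trans (centralizerPPrimeCore_le_centralizer_pCore hY (hx i₀))
  · intro K hK
    by_cases hall : ∀ i, x i ∈ Subgroup.normalizer (K : Set Y) ∧
        x i ∉ Subgroup.centralizer (K : Set Y)
    · exact hloc K hK hall
    · push Not at hall
      obtain ⟨i, hi⟩ := hall
      refine (iInf_le _ i).trans ?_
      by_cases hN : x i ∈ Subgroup.normalizer (K : Set Y)
      · exact centralizerPPrimeCore_le_centralizer_component_of_mem hY (hx i) hK (hi hN)
      · exact centralizerPPrimeCore_le_centralizer_component_of_not_mem hY (hx i) hK hN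

end Main

end Cfsg.Agent.Lib.Helper4.LB
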