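import Mathlib
import Cfsg.Agent.Lib.Helper4.LB2

set_option autoImplicit false
open scoped commutatorElement Pointwise

/-!
Local balance implies balance: the key lemma for a subgroup `H = K B` of `Y`.
-/

namespace Cfsg.Agent.Lib.Helper4.LB

open Cfsg Cfsg.Agent.Lib.Helper1 Cfsg.Agent.Lib.Helper3 Cfsg.Agent.Lib.Helper4.LBal
  Cfsg.Agent.Lib.Helper4.NQ

section Gen
variable {Y : Type*} [Group Y]

theorem card_subgroupOf_dvd (E H : Subgroup Y) : Nat.card (E.subgroupOf H) ∣ Nat.card E := by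
  have hinj : Function.Injective ((H.subtype).subgroupComap E) := by
    intro a b hab
    have := congrArg Subtype.val hab
    exact Subtype.ext (Subtype.ext this)
  exact Subgroup.card_dvd_of_injective _ hinj

theorem sup_le_normalizer_left {K B : Subgroup Y} (hBK : B ≤ Subgroup.normalizer (K : Set Y)) :
    K ⊔ B ≤ Subgroup.normalizer (K : Set Y) :=
  sup_le Subgroup.le_normalizer hBK

theorem exists_mul_of_mem_sup {K B : Subgroup Y} (hBK : B ≤ Subgroup.normalizer (K : Set Y))
    {h : Y} (hh : h ∈ K ⊔ B) : ∃ k ∈ K, ∃ b ∈ B, h = k * b := by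
  have h1 : h ∈ ((K ⊔ B : Subgroup Y) : Set Y) := hh
  rw [Subgroup.coe_mul_of_right_le_normalizer_left K B hBK] at h1
  obtain ⟨k, hk, b, hb, rfl⟩ := h1
  exact ⟨k, hk, b, hb, rfl⟩

end Gen

section Key
variable {Y S : Type*} [Group Y] [Finite Y] [Group S] [Finite S] {p : ℕ} [hp : Fact p.Prime]

/-- the key lemma for a subgroup `H = K B` with `B ≤ N(K) ∩ C(a)` -/
theorem map_subgroupOf_le_centralizerPPrimeCore {K B H E : Subgroup Y} (hH : H = K ⊔ B)
    (hBK : B ≤ Subgroup.normalizer (K : Set Y)) {a : Y} (haH : a ∈ H)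
    (hBa : B ≤ Subgroup.centralizer ({a} : Set Y))
    (hE : (Nat.card E).Coprime p) (hEa : E ≤ Subgroup.centralizer ({a} : Set Y))
    (hEn : H ⊓ Subgroup.centralizer ({a} : Set Y) ≤ Subgroup.normalizer (E : Set Y))
    (hEZ : ∀ e ∈ E, ∀ z ∈ K, z ∈ Subgroup.centralizer (K : Set Y) → e * z = z * e)
    (π : ↥H →* S) (hπ : Function.Surjective π)
    (hker : ∀ h : ↥H, π h = 1 ↔ (h : Y) ∈ Subgroup.centralizer (K : Set Y)) :
    (E.subgroupOf H).map π ≤ centralizerPPrimeCore p (π ⟨a, haH⟩) := by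
  have hKH : K ≤ H := by rw [hH]; exact le_sup_left
  have hHN : H ≤ Subgroup.normalizer (K : Set Y) := by rw [hH]; exact sup_le_normalizer_left hBK
  have hKn : (K.subgroupOf H).Normal := (Subgroup.normal_subgroupOf_iff_le_normalizer hKH).2 hHN
  apply map_le_centralizerPPrimeCore (K.subgroupOf H) ⟨a, haH⟩ (E.subgroupOf H)
    (Nat.Coprime.coprime_dvd_left (card_subgroupOf_dvd E H) hE) _ _ _ _ π hπ
  · -- the kernel
    intro h
    rw [hker h, Subgroup.mem_centralizer_iff]
    constructor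
    · intro h1 k hk
      apply Subtype.ext
      exact (h1 (k : Y) (Subgroup.mem_subgroupOf.1 hk)).symm
    · intro h1 k hk
      have := h1 ⟨k, hKH hk⟩ (Subgroup.mem_subgroupOf.2 hk)
      exact (congrArg Subtype.val this).symm
  · -- `E ≤ C(a)`
    intro e he
    rw [Subgroup.mem_centralizer_singleton_iff]
    apply Subtype.ext
    exact Subgroup.mem_centralizer_singleton_iff.1 (hEa (Subgroup.mem_subgroupOf.1 he))
  · -- `C(a) ≤ N(E)`
    intro c hc
    apply mem_normalizer_subgroupOf_of_coe_mem_normalizer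
    apply hEn
    refine Subgroup.mem_inf.2 ⟨c.2, ?_⟩
    rw [Subgroup.mem_centralizer_singleton_iff]
    exact congrArg Subtype.val (Subgroup.mem_centralizer_singleton_iff.1 hc)
  · -- `E` centralizes `Z(K)`
    intro e he z hz hzc
    apply Subtype.ext
    apply hEZ (e : Y) (Subgroup.mem_subgroupOf.1 he) (z : Y) (Subgroup.mem_subgroupOf.1 hz)
    rw [Subgroup.mem_centralizer_iff]
    intro k hk
    have := hzc ⟨k, hKH hk⟩ (Subgroup.mem_subgroupOf.2 hk)
    exact (congrArg Subtype.val this).symm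
  · -- `H = K C_H(a)`
    intro h
    have hh : (h : Y) ∈ K ⊔ B := by rw [← hH]; exact h.2
    obtain ⟨k, hk, b, hb, hkb⟩ := exists_mul_of_mem_sup hBK hh
    have hbH : b ∈ H := by rw [hH]; exact Subgroup.mem_sup_right hb
    refine ⟨⟨k, hKH hk⟩, Subgroup.mem_subgroupOf.2 hk, ⟨b, hbH⟩, ?_, Subtype.ext hkb⟩
    rw [Subgroup.mem_centralizer_singleton_iff]
    apply Subtype.ext
    exact Subgroup.mem_centralizer_singleton_iff.1 (hBa hb)

end Key

end Cfsg.Agent.Lib.Helper4.LB
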