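import Mathlib
import Cfsg.Agent.Lib.Helper4.LB3
import Cfsg.Agent.Lib.Lead.Thom1

set_option autoImplicit false
open scoped commutatorElement Pointwise

/-!
Local balance implies balance: the automizer of a component, realized abstractly and inside
`Aut (K / Z(K))`; passage to the quotient by `O_{p'}`.
-/

namespace Cfsg.Agent.Lib.Helper4.LB

open Cfsg Cfsg.Agent.Lib.Helper1 Cfsg.Agent.Lib.Helper3 Cfsg.Agent.Lib.Helper4.LBal
  Cfsg.Agent.Lib.Helper4.NQ

section Comp
variable {Y : Type*} [Group Y] [Finite Y]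

/-- the centre of a component lies in the Fitting subgroup -/
theorem inf_centralizer_le_fittingSubgroup {L : Subgroup Y} (hL : IsComponent L) :
    L ⊓ Subgroup.centralizer (L : Set Y) ≤ fittingSubgroup Y := by
  have h1 : orbitProd (⊥ : Subgroup Y) L = L := by
    apply le_antisymm _ (le_orbitProd _ _)
    unfold orbitProd
    apply iSup_le
    rintro ⟨r, hr⟩
    rw [Subgroup.mem_bot] at hr
    subst hr
    rw [cj_one]
  have h2 := center_orbitProd_le (R := (⊥ : Subgroup Y)) hL
  rwa [h1] at h2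

end Comp

section Auto
variable {Y S : Type*} [Group Y] [Finite Y] [Group S] {p : ℕ} [hp : Fact p.Prime]

/-- the automizer section of a component of a group with `O_{p'} = 1` has trivial `p'`-core -/
theorem pPrimeCore_eq_bot_of_ker (hY : pPrimeCore p Y = ⊥) {K H : Subgroup Y}
    (hK : IsComponent K) (hKH : K ≤ H) (hHN : H ≤ Subgroup.normalizer (K : Set Y))
    (π : ↥H →* S) (hπ : Function.Surjective π)
    (hker : ∀ h : ↥H, π h = 1 ↔ (h : Y) ∈ Subgroup.centralizer (K : Set Y)) :
    pPrimeCore p S = ⊥ := by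
  haveI : Finite S := Finite.of_surjective π hπ
  set P := pPrimeCore p S with hP
  have hPn : P.Normal := pPrimeCore_normal p S
  have hKperf : ⁅K, K⁆ = K := Subgroup.isPerfect_iff.1 hK.2.1
  let f : ↥K →* S := π.comp (Subgroup.inclusion hKH)
  set V : Subgroup ↥K := P.comap f with hV
  have hVn : V.Normal := Subgroup.Normal.comap hPn f
  -- `K` is not abelian
  have hnab : ¬ K ≤ Subgroup.centralizer (K : Set Y) := by
    intro hc
    apply IsQuasisimple.ne_bot hK.2
    rw [← hKperf, Subgroup.commutator_eq_bot_iff_le_centralizer]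
    exact hc
  rcases IsQuasisimple.normal_eq_top_or_le_center hK.2 V with h | h
  · exfalso
    have hrange : f.range ≤ P := by
      rintro _ ⟨k, rfl⟩
      have : k ∈ V := by rw [h]; exact Subgroup.mem_top k
      exact this
    have hcop : f.ker.index.Coprime p := by
      rw [Subgroup.index_ker]
      exact Nat.Coprime.coprime_dvd_left (Subgroup.card_dvd_of_le hrange)
        (Cfsg.Agent.Lib.Helper6.pPrimeCore_coprime p)
    have hker2 := IsComponent.eq_top_of_normal_of_coprime_index hY hK f.ker hcop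
    apply hnab
    intro k hk
    have h1 : (⟨k, hk⟩ : ↥K) ∈ f.ker := by rw [hker2]; exact Subgroup.mem_top _
    rw [MonoidHom.mem_ker] at h1
    exact (hker _).1 h1
  · rw [eq_bot_iff]
    intro s hs
    obtain ⟨g, rfl⟩ := hπ s
    rw [Subgroup.mem_bot, hker]
    apply mem_centralizer_of_commutator_mem_center hKperf (hHN g.2)
    intro k hk x hx
    have hgk : (g : Y) * k * (g : Y)⁻¹ ∈ K := (Subgroup.mem_normalizer_iff.1 (hHN g.2) k).1 hk
    set u : ↥K := ⟨k, hk⟩⁻¹ * ⟨(g : Y) * k * (g : Y)⁻¹, hgk⟩ with hu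
    have huV : u ∈ V := by
      rw [hV, Subgroup.mem_comap]
      have e : f u = (π ⟨k, hKH hk⟩)⁻¹ * π g * π ⟨k, hKH hk⟩ * (π g)⁻¹ := by
        rw [← map_inv, ← map_mul, ← map_mul, ← map_inv, ← map_mul]
        change π _ = π _
        congr 1
        apply Subtype.ext
        simp only [hu, Subgroup.coe_inclusion, Subgroup.coe_mul, Subgroup.coe_inv]
        group
      rw [e]
      have h1 : (π ⟨k, hKH hk⟩)⁻¹ * π g * ((π ⟨k, hKH hk⟩)⁻¹)⁻¹ ∈ P := hPn.conj_mem _ hs _
      rw [inv_inv] at h1
      exact P.mul_mem h1 (P.inv_mem hs)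
    have hc := Subgroup.mem_center_iff.1 (h huV) ⟨x, hx⟩
    have := congrArg Subtype.val hc
    simpa [hu] using this.symm

omit [Finite Y] in
/-- a subgroup whose image in the automizer section is trivial centralizes `K` -/
theorem le_centralizer_of_map_le_bot {K H D : Subgroup Y} (hDH : D ≤ H)
    (π : ↥H →* S) (hker : ∀ h : ↥H, π h = 1 ↔ (h : Y) ∈ Subgroup.centralizer (K : Set Y))
    (h : (D.subgroupOf H).map π ≤ ⊥) : D ≤ Subgroup.centralizer (K : Set Y) := by
  intro d hd
  have h1 : π ⟨d, hDH hd⟩ ∈ (⊥ : Subgroup S) :=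
    h (Subgroup.mem_map_of_mem π (Subgroup.mem_subgroupOf.2 hd))
  rw [Subgroup.mem_bot] at h1
  exact (hker _).1 h1

end Auto

section AutHom
variable {Y : Type*} [Group Y]

/-- the action of `N(K)` on `K / Z(K)` -/
def autHom (K : Subgroup Y) :
    ↥(Subgroup.normalizer (K : Set Y)) →* MulAut (↥K ⧸ Subgroup.center ↥K) :=
  (autQuot (Subgroup.center ↥K)).comp K.normalizerMonoidHom

theorem autHom_eq_one_iff {K : Subgroup Y} (hKp : ⁅K, K⁆ = K)
    (n : ↥(Subgroup.normalizer (K : Set Y))) :
    autHom K n = 1 ↔ (n : Y) ∈ Subgroup.centralizer (K : Set Y) := by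
  constructor
  · intro h1
    have hβ2 : K.normalizerMonoidHom n = 1 := by
      apply mulAut_eq_one_of_perfect (top_perfect_of_perfect hKp)
      intro x
      have := DFunLike.congr_fun h1 (x : ↥K ⧸ Subgroup.center ↥K)
      change autQuot (Subgroup.center ↥K) (K.normalizerMonoidHom n) _ = _ at this
      rw [autQuot_mk, MulAut.one_apply] at this
      exact QuotientGroup.eq.1 this.symm
    have hmem : n ∈ K.normalizerMonoidHom.ker := hβ2
    rw [Subgroup.normalizerMonoidHom_ker, Subgroup.mem_subgroupOf] at hmem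
    exact hmem
  · intro h1
    have hmem : n ∈ K.normalizerMonoidHom.ker := by
      rw [Subgroup.normalizerMonoidHom_ker, Subgroup.mem_subgroupOf]
      exact h1
    change autQuot (Subgroup.center ↥K) (K.normalizerMonoidHom n) = 1
    rw [MonoidHom.mem_ker.1 hmem, map_one]

theorem autHom_of_mem {K : Subgroup Y} (k : ↥K)
    (hk : (k : Y) ∈ Subgroup.normalizer (K : Set Y)) :
    autHom K ⟨k, hk⟩ = MulAut.conj (k : ↥K ⧸ Subgroup.center ↥K) := by
  change autQuot (Subgroup.center ↥K) (K.normalizerMonoidHom ⟨k, hk⟩) = _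
  rw [normalizerMonoidHom_of_mem, autQuot_conj]

/-- the restriction of the action to a subgroup `H` with `K ≤ H ≤ N(K)` -/
def autHomOf {K H : Subgroup Y} (hHN : H ≤ Subgroup.normalizer (K : Set Y)) :
    ↥H →* MulAut (↥K ⧸ Subgroup.center ↥K) :=
  (autHom K).comp (Subgroup.inclusion hHN)

theorem autHomOf_eq_one_iff {K H : Subgroup Y} (hKp : ⁅K, K⁆ = K)
    (hHN : H ≤ Subgroup.normalizer (K : Set Y)) (h : ↥H) :
    autHomOf hHN h = 1 ↔ (h : Y) ∈ Subgroup.centralizer (K : Set Y) :=
  autHom_eq_one_iff hKp _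

theorem conj_range_le_autHomOf_range {K H : Subgroup Y} (hKH : K ≤ H)
    (hHN : H ≤ Subgroup.normalizer (K : Set Y)) :
    (MulAut.conj : (↥K ⧸ Subgroup.center ↥K) →* MulAut (↥K ⧸ Subgroup.center ↥K)).range ≤
      (autHomOf hHN).range := by
  rintro _ ⟨c, rfl⟩
  obtain ⟨k, rfl⟩ := QuotientGroup.mk_surjective c
  refine ⟨⟨k, hKH k.2⟩, ?_⟩
  exact autHom_of_mem k (hHN (hKH k.2))

theorem rangeRestrict_autHomOf_eq_one_iff {K H : Subgroup Y} (hKp : ⁅K, K⁆ = K)
    (hHN : H ≤ Subgroup.normalizer (K : Set Y)) (h : ↥H) :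
    (autHomOf hHN).rangeRestrict h = 1 ↔ (h : Y) ∈ Subgroup.centralizer (K : Set Y) := by
  rw [← autHomOf_eq_one_iff hKp hHN h]
  constructor
  · intro h1
    have := congrArg Subtype.val h1
    exact this
  · intro h1
    apply Subtype.ext
    exact h1

end AutHom

section Quot
universe u
variable {X : Type u} [Group X] [Finite X] {p : ℕ} [hp : Fact p.Prime]

/-- the image of `O_{p'}(C_X(a))` in `X / W`, `W` a normal `p'`-subgroup, lies in `O_{p'}(C(ā))` -/
theorem map_centralizerPPrimeCore_le (W : Subgroup X) [hWn : W.Normal]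
    (hW : (Nat.card W).Coprime p) {a : X} (ha : a ^ p = 1) :
    (centralizerPPrimeCore p a).map (QuotientGroup.mk' W) ≤
      centralizerPPrimeCore p (QuotientGroup.mk' W a) := by
  apply le_centralizerPPrimeCore
  · exact Nat.Coprime.coprime_dvd_left (Subgroup.card_map_dvd _ _)
      (card_centralizerPPrimeCore_coprime a)
  · rintro _ ⟨d, hd, rfl⟩
    have h1 := Subgroup.mem_centralizer_singleton_iff.1 (centralizerPPrimeCore_le_centralizer a hd)
    rw [Subgroup.mem_centralizer_singleton_iff, ← map_mul, ← map_mul, h1]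
  · have h1 := Cfsg.Agent.Lib.Lead.Thom.centralizer_map_mk W hW (Subgroup.zpowers a)
      (isPGroup_zpowers_of_pow_eq_one hp.out ha)
    rw [MonoidHom.map_zpowers] at h1
    intro c hc
    have h2 : c ∈ Subgroup.centralizer
        ((Subgroup.zpowers (QuotientGroup.mk' W a) : Subgroup (X ⧸ W)) : Set (X ⧸ W)) :=
      centralizer_singleton_le_centralizer_zpowers _ hc
    rw [h1] at h2
    obtain ⟨g, hg, rfl⟩ := h2
    have hg' : g ∈ Subgroup.centralizer ({a} : Set X) :=
      centralizer_zpowers_le_centralizer_singleton a hg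
    exact Subgroup.le_normalizer_map _
      (Subgroup.mem_map_of_mem _ (centralizer_le_normalizer_centralizerPPrimeCore a hg'))

end Quot

end Cfsg.Agent.Lib.Helper4.LB
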