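import Mathlib
import Cfsg.Agent.Lib.Helper4.LB4

set_option autoImplicit false
open scoped commutatorElement Pointwise

/-!
Local balance implies balance: the local step for a family of elements of order `p`, and the passage
from `G` to `C_G(b) / O_{p'}(C_G(b))`.
-/

namespace Cfsg.Agent.Lib.Helper4.LB

open Cfsg Cfsg.Agent.Lib.Helper1 Cfsg.Agent.Lib.Helper3 Cfsg.Agent.Lib.Helper4.LBal
  Cfsg.Agent.Lib.Helper4.NQ

section Local
variable {Y S : Type*} [Group Y] [Finite Y] [Group S] [Finite S] {p : ℕ} [hp : Fact p.Prime]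

/-- the local step: if the intersection of the `O_{p'}(C_S(π xᵢ))` is trivial in the automizer section
`S` of the component `K`, then the intersection of the `O_{p'}(C_Y(xᵢ))` centralizes `K` -/
theorem iInf_le_centralizer_of_section (hY : pPrimeCore p Y = ⊥) {ι : Type*} (x : ι → Y)
    (hx : ∀ i, x i ^ p = 1) {K B H : Subgroup Y} (hK : IsComponent K) (hH : H = K ⊔ B)
    (hBK : B ≤ Subgroup.normalizer (K : Set Y)) (hxH : ∀ i, x i ∈ H)
    (hBx : ∀ i, B ≤ Subgroup.centralizer ({x i} : Set Y))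
    (hDB : ⨅ i, centralizerPPrimeCore p (x i) ≤ B)
    (π : ↥H →* S) (hπ : Function.Surjective π)
    (hker : ∀ h : ↥H, π h = 1 ↔ (h : Y) ∈ Subgroup.centralizer (K : Set Y))
    (hloc : ⨅ i, centralizerPPrimeCore p (π ⟨x i, hxH i⟩) = ⊥) :
    ⨅ i, centralizerPPrimeCore p (x i) ≤ Subgroup.centralizer (K : Set Y) := by
  have hBH : B ≤ H := by rw [hH]; exact le_sup_right
  apply le_centralizer_of_map_le_bot (hDB.trans hBH) π hker
  rw [← hloc]
  apply le_iInf
  intro i
  set E := centralizerPPrimeCore p (x i) ⊓ H with hE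
  have hEcard : (Nat.card E).Coprime p :=
    Nat.Coprime.coprime_dvd_left (Subgroup.card_dvd_of_le inf_le_left)
      (card_centralizerPPrimeCore_coprime (x i))
  have hEa : E ≤ Subgroup.centralizer ({x i} : Set Y) :=
    inf_le_left.trans (centralizerPPrimeCore_le_centralizer (x i))
  have hEn : H ⊓ Subgroup.centralizer ({x i} : Set Y) ≤ Subgroup.normalizer (E : Set Y) := by
    apply le_normalizer_of_forall_conj_mem
    intro a ha e he
    obtain ⟨ha1, ha2⟩ := Subgroup.mem_inf.1 ha
    obtain ⟨he1, he2⟩ := Subgroup.mem_inf.1 he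
    refine Subgroup.mem_inf.2 ⟨?_, H.mul_mem (H.mul_mem ha1 he2) (H.inv_mem ha1)⟩
    exact (Subgroup.mem_normalizer_iff.1
      (centralizer_le_normalizer_centralizerPPrimeCore (x i) ha2) e).1 he1
  have hEZ : ∀ e ∈ E, ∀ z ∈ K, z ∈ Subgroup.centralizer (K : Set Y) → e * z = z * e := by
    intro e he z hz hzc
    have hzF : z ∈ fittingSubgroup Y :=
      inf_centralizer_le_fittingSubgroup hK (Subgroup.mem_inf.2 ⟨hz, hzc⟩)
    have hzP : z ∈ pCore p Y := fittingSubgroup_le_pCore hY hzF
    have := centralizerPPrimeCore_le_centralizer_pCore hY (hx i) (Subgroup.mem_inf.1 he).1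
    exact ((Subgroup.mem_centralizer_iff.1 this) z hzP).symm
  have h2 := map_subgroupOf_le_centralizerPPrimeCore (p := p) hH hBK (hxH i) (hBx i)
    hEcard hEa hEn hEZ π hπ hker
  refine le_trans ?_ h2
  apply Subgroup.map_mono
  intro d hd
  rw [Subgroup.mem_subgroupOf] at hd ⊢
  have hle : ⨅ j, centralizerPPrimeCore p (x j) ≤ centralizerPPrimeCore p (x i) := iInf_le _ i
  exact Subgroup.mem_inf.2 ⟨hle hd, d.2⟩

end Local

section Pass
variable {G : Type*} [Group G] [Finite G] {p : ℕ} [hp : Fact p.Prime]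

omit hp in
/-- `O_{p'}(C_G(a)) ∩ C_G(b) ≤ O_{p'}(C_{C_G(b)}(a))` for commuting `a`, `b` -/
theorem mem_centralizerPPrimeCore_subtype {a b g : G} (hab : a * b = b * a)
    (hg : g ∈ centralizerPPrimeCore p a) (hgb : g ∈ Subgroup.centralizer ({b} : Set G)) :
    (⟨g, hgb⟩ : ↥(Subgroup.centralizer ({b} : Set G))) ∈
      centralizerPPrimeCore p (⟨a, Subgroup.mem_centralizer_singleton_iff.2 hab⟩ :
        ↥(Subgroup.centralizer ({b} : Set G))) := by
  set X := Subgroup.centralizer ({b} : Set G) with hX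
  set D := (centralizerPPrimeCore p a).subgroupOf X with hD
  have h1 : D ≤ centralizerPPrimeCore p (⟨a, Subgroup.mem_centralizer_singleton_iff.2 hab⟩ : ↥X) := by
    apply le_centralizerPPrimeCore
    · exact Nat.Coprime.coprime_dvd_left (card_subgroupOf_dvd _ _)
        (card_centralizerPPrimeCore_coprime a)
    · intro d hd
      rw [Subgroup.mem_centralizer_singleton_iff]
      apply Subtype.ext
      exact Subgroup.mem_centralizer_singleton_iff.1
        (centralizerPPrimeCore_le_centralizer a (Subgroup.mem_subgroupOf.1 hd))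
    · intro c hc
      apply mem_normalizer_subgroupOf_of_coe_mem_normalizer
      apply centralizer_le_normalizer_centralizerPPrimeCore a
      rw [Subgroup.mem_centralizer_singleton_iff]
      exact congrArg Subtype.val (Subgroup.mem_centralizer_singleton_iff.1 hc)
  exact h1 (Subgroup.mem_subgroupOf.2 hg)

/-- the image of `O_{p'}(C_G(a)) ∩ C_G(b)` in `C_G(b) / O_{p'}(C_G(b))` -/
theorem mk_mem_centralizerPPrimeCore {a b g : G} (hab : a * b = b * a) (ha : a ^ p = 1)
    (hg : g ∈ centralizerPPrimeCore p a) (hgb : g ∈ Subgroup.centralizer ({b} : Set G)) :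
    QuotientGroup.mk' (pPrimeCore p ↥(Subgroup.centralizer ({b} : Set G))) ⟨g, hgb⟩ ∈
      centralizerPPrimeCore p
        (QuotientGroup.mk' (pPrimeCore p ↥(Subgroup.centralizer ({b} : Set G)))
          ⟨a, Subgroup.mem_centralizer_singleton_iff.2 hab⟩) := by
  apply map_centralizerPPrimeCore_le (pPrimeCore p ↥(Subgroup.centralizer ({b} : Set G)))
    (Cfsg.Agent.Lib.Helper6.pPrimeCore_coprime p)
  · apply Subtype.ext
    simpa using ha
  · exact Subgroup.mem_map_of_mem _ (mem_centralizerPPrimeCore_subtype hab hg hgb)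

omit [Finite G] hp in
theorem mem_centralizerPPrimeCore_of_mk_eq_one {b g : G}
    (hgb : g ∈ Subgroup.centralizer ({b} : Set G))
    (h : QuotientGroup.mk' (pPrimeCore p ↥(Subgroup.centralizer ({b} : Set G))) ⟨g, hgb⟩ = 1) :
    g ∈ centralizerPPrimeCore p b := by
  rw [QuotientGroup.mk'_apply, QuotientGroup.eq_one_iff] at h
  unfold centralizerPPrimeCore
  exact ⟨⟨g, hgb⟩, h, rfl⟩

end Pass

end Cfsg.Agent.Lib.Helper4.LB
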