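import Mathlib
import Cfsg.Agent.Lib.Helper4.LB5

set_option autoImplicit false
open scoped commutatorElement Pointwise

/-!
Local balance implies balance: the statements in a group with `O_{p'} = 1`.
-/

namespace Cfsg.Agent.Lib.Helper4.LB

open Cfsg Cfsg.Agent.Lib.Helper1 Cfsg.Agent.Lib.Helper3 Cfsg.Agent.Lib.Helper4.LBal
  Cfsg.Agent.Lib.Helper4.NQ

section Gen
variable {Y S : Type*} [Group Y] [Group S]

theorem card_map_subgroupOf_of_injOn {A H : Subgroup Y} (hAH : A ≤ H) (π : ↥H →* S)
    (hinj : ∀ a : ↥H, (a : Y) ∈ A → π a = 1 → a = 1) :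
    Nat.card ((A.subgroupOf H).map π) = Nat.card A := by
  let θ : ↥A →* S := π.comp (Subgroup.inclusion hAH)
  have hθ : Function.Injective θ := by
    rw [injective_iff_map_eq_one]
    intro a ha
    have := hinj (Subgroup.inclusion hAH a) a.2 ha
    apply Subtype.ext
    have h2 := congrArg Subtype.val this
    simpa using h2
  have hrange : θ.range = (A.subgroupOf H).map π := by
    ext s
    constructor
    · rintro ⟨a, rfl⟩
      exact ⟨Subgroup.inclusion hAH a, Subgroup.mem_subgroupOf.2 a.2, rfl⟩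
    · rintro ⟨a, ha, rfl⟩
      exact ⟨⟨(a : Y), Subgroup.mem_subgroupOf.1 ha⟩, rfl⟩
  rw [← hrange]
  exact Nat.card_congr (MonoidHom.ofInjective hθ).toEquiv.symm

theorem isElementaryAbelian_map_subgroupOf {p : ℕ} {A H : Subgroup Y} (hA : IsElementaryAbelian p A)
    (π : ↥H →* S) : IsElementaryAbelian p ((A.subgroupOf H).map π) := by
  have : IsMulCommutative ↥A := hA.1
  refine ⟨inferInstance, ?_⟩
  rintro _ ⟨a, ha, rfl⟩
  rw [← map_pow]
  have : a ^ p = 1 := by
    apply Subtype.ext
    simpa using hA.2 (a : Y) (Subgroup.mem_subgroupOf.1 ha)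
  rw [this, map_one]

end Gen

section StageA
variable {Y : Type*} [Group Y] [Finite Y]

/-- in a group with `O(Y) = 1` whose components are locally balanced, involution centralizers have
trivial core -/
theorem centralizerPPrimeCore_two_eq_bot (hY : pPrimeCore 2 Y = ⊥)
    (hloc : ∀ K : Subgroup Y, IsComponent K → IsLocallyBalanced (↥K ⧸ Subgroup.center ↥K))
    {x : Y} (hx : x ^ 2 = 1) : centralizerPPrimeCore 2 x = ⊥ := by
  have : Fact (Nat.Prime 2) := ⟨Nat.prime_two⟩
  have hmain := iInf_centralizerPPrimeCore_eq_bot hY (ι := Unit) (fun _ => x) (fun _ => hx) ?_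
  · rwa [iInf_const] at hmain
  · intro K hK hall
    obtain ⟨hxN, hxC⟩ := hall ()
    set D := centralizerPPrimeCore 2 x with hD
    set B := D ⊔ Subgroup.zpowers x with hB
    set H := K ⊔ B with hH
    have hKperf : ⁅K, K⁆ = K := Subgroup.isPerfect_iff.1 hK.2.1
    have hDN : D ≤ Subgroup.normalizer (K : Set Y) :=
      centralizerPPrimeCore_le_normalizer_component hY hx hK
    have hBK : B ≤ Subgroup.normalizer (K : Set Y) :=
      sup_le hDN (Subgroup.zpowers_le.2 hxN)
    have hKH : K ≤ H := le_sup_left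
    have hxH : x ∈ H :=
      (le_sup_right.trans le_sup_right : Subgroup.zpowers x ≤ H) (Subgroup.mem_zpowers x)
    have hHN : H ≤ Subgroup.normalizer (K : Set Y) := sup_le_normalizer_left hBK
    have hBa : B ≤ Subgroup.centralizer ({x} : Set Y) := by
      apply sup_le (centralizerPPrimeCore_le_centralizer x)
      rw [Subgroup.zpowers_le, Subgroup.mem_centralizer_singleton_iff]
    let π := (autHomOf hHN).rangeRestrict
    have hπ : Function.Surjective π := (autHomOf hHN).rangeRestrict_surjective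
    have : Finite ↥(autHomOf hHN).range := Finite.of_surjective π hπ
    have hker : ∀ g : ↥H, π g = 1 ↔ (g : Y) ∈ Subgroup.centralizer (K : Set Y) :=
      rangeRestrict_autHomOf_eq_one_iff hKperf hHN
    have horder : orderOf (π ⟨x, hxH⟩) = 2 := by
      apply orderOf_eq_prime
      · rw [← map_pow]
        have : (⟨x, hxH⟩ : ↥H) ^ 2 = 1 := by
          apply Subtype.ext
          simpa using hx
        rw [this, map_one]
      · rw [Ne, hker]
        exact hxC
    have h1 := hloc K hK (autHomOf hHN).range (conj_range_le_autHomOf_range hKH hHN)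
      (π ⟨x, hxH⟩) horder
    apply iInf_le_centralizer_of_section hY (fun _ : Unit => x) (fun _ => hx) hK rfl hBK
      (fun _ => hxH) (fun _ => hBa) _ π hπ hker
    · rw [iInf_const]
      exact h1
    · rw [iInf_const]
      exact le_sup_left

variable {p k : ℕ} [hp : Fact p.Prime]

/-- in a group with `O_{p'}(Y) = 1` whose components are locally `k`-balanced, `Δ_Y(A) = 1` for every
elementary abelian `p`-subgroup `A` of order `p ^ k`, `k ≥ 1` -/
theorem signalizerDelta_eq_bot (hk : 1 ≤ k) (hY : pPrimeCore p Y = ⊥)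
    (hloc : ∀ K : Subgroup Y, IsComponent K →
      IsLocallyKBalanced p k (↥K ⧸ Subgroup.center ↥K))
    {A : Subgroup Y} (hA : IsElementaryAbelian p A) (hcard : Nat.card A = p ^ k) :
    signalizerDelta p A = ⊥ := by
  unfold signalizerDelta
  have hne : Nonempty {a : Y // a ∈ A ∧ a ≠ 1} := by
    have h1 : 1 < Nat.card A := by
      rw [hcard]
      exact Nat.one_lt_pow (by omega) hp.out.one_lt
    rw [Subgroup.one_lt_card_iff_ne_bot] at h1
    obtain ⟨a, ha1⟩ := (Subgroup.ne_bot_iff_exists_ne_one.1 h1)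
    exact ⟨⟨(a : Y), a.2, fun h => ha1 (Subtype.ext h)⟩⟩
  have hxp : ∀ i : {a : Y // a ∈ A ∧ a ≠ 1}, (i : Y) ^ p = 1 := fun i => hA.2 i.1 i.2.1
  have hAcomm : IsMulCommutative ↥A := hA.1
  apply iInf_centralizerPPrimeCore_eq_bot hY (fun i : {a : Y // a ∈ A ∧ a ≠ 1} => (i : Y)) hxp
  intro K hK hall
  obtain ⟨i₀⟩ := hne
  set D := ⨅ i : {a : Y // a ∈ A ∧ a ≠ 1}, centralizerPPrimeCore p (i : Y) with hD
  set B := D ⊔ A with hB
  set H := K ⊔ B with hH
  have hKperf : ⁅K, K⁆ = K := Subgroup.isPerfect_iff.1 hK.2.1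
  have hDN : D ≤ Subgroup.normalizer (K : Set Y) :=
    (iInf_le _ i₀).trans (centralizerPPrimeCore_le_normalizer_component hY (hxp i₀) hK)
  have hAN : A ≤ Subgroup.normalizer (K : Set Y) := by
    intro a ha
    by_cases ha1 : a = 1
    · rw [ha1]; exact Subgroup.one_mem _
    · exact (hall ⟨a, ha, ha1⟩).1
  have hBK : B ≤ Subgroup.normalizer (K : Set Y) := sup_le hDN hAN
  have hKH : K ≤ H := le_sup_left
  have hAH : A ≤ H := le_sup_right.trans le_sup_right
  have hHN : H ≤ Subgroup.normalizer (K : Set Y) := sup_le_normalizer_left hBK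
  have hBa : ∀ i : {a : Y // a ∈ A ∧ a ≠ 1}, B ≤ Subgroup.centralizer ({(i : Y)} : Set Y) := by
    intro i
    apply sup_le ((iInf_le _ i).trans (centralizerPPrimeCore_le_centralizer (i : Y)))
    intro a ha
    rw [Subgroup.mem_centralizer_singleton_iff]
    exact setLike_mul_comm ha i.2.1
  let π := (autHomOf hHN).rangeRestrict
  have hπ : Function.Surjective π := (autHomOf hHN).rangeRestrict_surjective
  have : Finite ↥(autHomOf hHN).range := Finite.of_surjective π hπ
  have hker : ∀ g : ↥H, π g = 1 ↔ (g : Y) ∈ Subgroup.centralizer (K : Set Y) :=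
    rangeRestrict_autHomOf_eq_one_iff hKperf hHN
  -- the image of `A`
  have hinj : ∀ a : ↥H, (a : Y) ∈ A → π a = 1 → a = 1 := by
    intro a ha h1
    by_contra hne1
    have ha1 : (a : Y) ≠ 1 := fun h => hne1 (Subtype.ext h)
    exact (hall ⟨(a : Y), ha, ha1⟩).2 ((hker a).1 h1)
  have h1 := hloc K hK (autHomOf hHN).range (conj_range_le_autHomOf_range hKH hHN)
    ((A.subgroupOf H).map π) (isElementaryAbelian_map_subgroupOf hA π)
    (by rw [card_map_subgroupOf_of_injOn hAH π hinj, hcard])
  unfold signalizerDelta at h1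
  apply iInf_le_centralizer_of_section hY (fun i : {a : Y // a ∈ A ∧ a ≠ 1} => (i : Y)) hxp hK rfl
    hBK (fun i => hAH i.2.1) hBa _ π hπ hker
  · rw [eq_bot_iff, ← h1]
    apply le_iInf
    rintro ⟨t, ⟨a, ha, rfl⟩, ht1⟩
    have haA : (a : Y) ∈ A := Subgroup.mem_subgroupOf.1 ha
    have ha1 : (a : Y) ≠ 1 := by
      intro h
      apply ht1
      have : a = 1 := Subtype.ext h
      rw [this, map_one]
    exact iInf_le
      (fun i : {a : Y // a ∈ A ∧ a ≠ 1} => centralizerPPrimeCore p (π ⟨(i : Y), hAH i.2.1⟩))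
      ⟨(a : Y), haA, ha1⟩
  · exact le_sup_left

end StageA

end Cfsg.Agent.Lib.Helper4.LB
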