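import Mathlib
import Cfsg.Agent.Lib.Helper4.LB6
import Cfsg.Agent.Lib.Helper4.Balance1

set_option autoImplicit false
open scoped commutatorElement Pointwise

/-!
Local balance implies balance: versions for an arbitrary realization of the automizers of the components,
and weak local balance.
-/

namespace Cfsg.Agent.Lib.Helper4.LB

open Cfsg Cfsg.Agent.Lib.Helper1 Cfsg.Agent.Lib.Helper3 Cfsg.Agent.Lib.Helper4.LBal
  Cfsg.Agent.Lib.Helper4.NQ

section Family
variable {Y S : Type*} [Group Y] [Finite Y] [Group S] [Finite S] {p : ℕ} [hp : Fact p.Prime]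

/-- family version of the key lemma -/
theorem map_iInf_le_iInf (hY : pPrimeCore p Y = ⊥) {ι : Type*} (x : ι → Y)
    (hx : ∀ i, x i ^ p = 1) {K B H : Subgroup Y} (hK : IsComponent K) (hH : H = K ⊔ B)
    (hBK : B ≤ Subgroup.normalizer (K : Set Y)) (hxH : ∀ i, x i ∈ H)
    (hBx : ∀ i, B ≤ Subgroup.centralizer ({x i} : Set Y))
    (π : ↥H →* S) (hπ : Function.Surjective π)
    (hker : ∀ h : ↥H, π h = 1 ↔ (h : Y) ∈ Subgroup.centralizer (K : Set Y)) :
    ((⨅ i, centralizerPPrimeCore p (x i)).subgroupOf H).map π ≤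
      ⨅ i, centralizerPPrimeCore p (π ⟨x i, hxH i⟩) := by
  apply le_iInf
  intro i
  set E := centralizerPPrimeCore p (x i) ⊓ H with hE
  have hEcard : (Nat.card E).Coprime p :=
    Nat.Coprime.coprime_dvd_left (Subgroup.card_dvd_of_le inf_le_left)
      (card_centralizerPPrimeCore_coprime (x i))
  have hEa : E ≤ Subgroup.centralizer ({x i} : Set Y) :=
    inf_le_left.trans (centralizerPPrimeCore_le_centralizer (x i))
  have hEn : H ⊓ Subgroup.centralizer ({x i} : Set Y) ≤ Subgroup.normalizer (E : Set Y) := by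
    apply le_normalizer_of_forall_conj_mem
    intro a ha e he
    obtain ⟨ha1, ha2⟩ := Subgroup.mem_inf.1 ha
    obtain ⟨he1, he2⟩ := Subgroup.mem_inf.1 he
    refine Subgroup.mem_inf.2 ⟨?_, H.mul_mem (H.mul_mem ha1 he2) (H.inv_mem ha1)⟩
    exact (Subgroup.mem_normalizer_iff.1
      (centralizer_le_normalizer_centralizerPPrimeCore (x i) ha2) e).1 he1
  have hEZ : ∀ e ∈ E, ∀ z ∈ K, z ∈ Subgroup.centralizer (K : Set Y) → e * z = z * e := by
    intro e he z hz hzc
    have hzF : z ∈ fittingSubgroup Y :=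
      inf_centralizer_le_fittingSubgroup hK (Subgroup.mem_inf.2 ⟨hz, hzc⟩)
    have hzP : z ∈ pCore p Y := fittingSubgroup_le_pCore hY hzF
    have := centralizerPPrimeCore_le_centralizer_pCore hY (hx i) (Subgroup.mem_inf.1 he).1
    exact ((Subgroup.mem_centralizer_iff.1 this) z hzP).symm
  have h2 := map_subgroupOf_le_centralizerPPrimeCore (p := p) hH hBK (hxH i) (hBx i)
    hEcard hEa hEn hEZ π hπ hker
  refine le_trans ?_ h2
  apply Subgroup.map_mono
  intro d hd
  rw [Subgroup.mem_subgroupOf] at hd ⊢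
  have hle : ⨅ j, centralizerPPrimeCore p (x j) ≤ centralizerPPrimeCore p (x i) := iInf_le _ i
  exact Subgroup.mem_inf.2 ⟨hle hd, d.2⟩

end Family

section Gen
variable {G : Type*} [Group G] {p : ℕ} [hp : Fact p.Prime]

/-- a subgroup of order `p ^ k` inside a finite `p`-group of order at least `p ^ k` -/
theorem exists_le_card_eq [Finite G] {B : Subgroup G} (hB : IsPGroup p B) {k : ℕ}
    (hk : p ^ k ≤ Nat.card B) : ∃ B₀ : Subgroup G, B₀ ≤ B ∧ Nat.card B₀ = p ^ k := by
  obtain ⟨m, hm⟩ := IsPGroup.iff_card.1 hB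
  have hkm : k ≤ m := by
    by_contra hlt
    push Not at hlt
    have : p ^ m < p ^ k := Nat.pow_lt_pow_right hp.out.one_lt hlt
    omega
  have hdvd : p ^ k ∣ Nat.card ↥B := by rw [hm]; exact pow_dvd_pow p hkm
  obtain ⟨K, hK⟩ := Sylow.exists_subgroup_card_pow_prime p hdvd
  refine ⟨K.map B.subtype, Subgroup.map_subtype_le K, ?_⟩
  rw [← hK]
  exact Nat.card_congr (Subgroup.equivMapOfInjective K B.subtype B.subtype_injective).toEquiv.symm

omit hp in
theorem isElementaryAbelian_of_le {A B : Subgroup G} (hA : IsElementaryAbelian p A) (hBA : B ≤ A) :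
    IsElementaryAbelian p B := by
  have : IsMulCommutative ↥A := hA.1
  refine ⟨IsMulCommutative.of_setLike_mul_comm fun a ha b hb => ?_, fun b hb => hA.2 b (hBA hb)⟩
  exact setLike_mul_comm (hBA ha) (hBA hb)

theorem isPGroup_of_isElementaryAbelian {A : Subgroup G} (hA : IsElementaryAbelian p A) :
    IsPGroup p A := by
  rintro ⟨a, ha⟩
  refine ⟨1, ?_⟩
  apply Subtype.ext
  simpa using hA.2 a ha

end Gen

section Real
universe u
variable {Y : Type u} [Group Y] [Finite Y] {p k : ℕ} [hp : Fact p.Prime]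

/-- `Δ_Y(A) = 1`, for an arbitrary realization `ρ K : N(K) → R K` of the automizers -/
theorem signalizerDelta_eq_bot_of_real (hk : 1 ≤ k) (hY : pPrimeCore p Y = ⊥)
    (R : Subgroup Y → Type u) [∀ K, Group (R K)]
    (ρ : ∀ K : Subgroup Y, ↥(Subgroup.normalizer (K : Set Y)) →* R K)
    (hρker : ∀ K : Subgroup Y, IsComponent K → ∀ n : ↥(Subgroup.normalizer (K : Set Y)),
      ρ K n = 1 ↔ (n : Y) ∈ Subgroup.centralizer (K : Set Y))
    (hloc : ∀ K : Subgroup Y, IsComponent K → ∀ H' : Subgroup (R K),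
      (K.subgroupOf (Subgroup.normalizer (K : Set Y))).map (ρ K) ≤ H' →
      ∀ A' : Subgroup ↥H', IsElementaryAbelian p A' → Nat.card A' = p ^ k →
        signalizerDelta p A' = ⊥)
    {A : Subgroup Y} (hA : IsElementaryAbelian p A) (hcard : Nat.card A = p ^ k) :
    signalizerDelta p A = ⊥ := by
  unfold signalizerDelta
  have hne : Nonempty {a : Y // a ∈ A ∧ a ≠ 1} := by
    have h1 : 1 < Nat.card A := by
      rw [hcard]
      exact Nat.one_lt_pow (by omega) hp.out.one_lt
    rw [Subgroup.one_lt_card_iff_ne_bot] at h1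
    obtain ⟨a, ha1⟩ := (Subgroup.ne_bot_iff_exists_ne_one.1 h1)
    exact ⟨⟨(a : Y), a.2, fun h => ha1 (Subtype.ext h)⟩⟩
  have hxp : ∀ i : {a : Y // a ∈ A ∧ a ≠ 1}, (i : Y) ^ p = 1 := fun i => hA.2 i.1 i.2.1
  have hAcomm : IsMulCommutative ↥A := hA.1
  apply iInf_centralizerPPrimeCore_eq_bot hY (fun i : {a : Y // a ∈ A ∧ a ≠ 1} => (i : Y)) hxp
  intro K hK hall
  obtain ⟨i₀⟩ := hne
  set D := ⨅ i : {a : Y // a ∈ A ∧ a ≠ 1}, centralizerPPrimeCore p (i : Y) with hD
  set B := D ⊔ A with hB
  set H := K ⊔ B with hH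
  have hDN : D ≤ Subgroup.normalizer (K : Set Y) :=
    (iInf_le _ i₀).trans (centralizerPPrimeCore_le_normalizer_component hY (hxp i₀) hK)
  have hAN : A ≤ Subgroup.normalizer (K : Set Y) := by
    intro a ha
    by_cases ha1 : a = 1
    · rw [ha1]; exact Subgroup.one_mem _
    · exact (hall ⟨a, ha, ha1⟩).1
  have hBK : B ≤ Subgroup.normalizer (K : Set Y) := sup_le hDN hAN
  have hKH : K ≤ H := le_sup_left
  have hAH : A ≤ H := le_sup_right.trans le_sup_right
  have hHN : H ≤ Subgroup.normalizer (K : Set Y) := sup_le_normalizer_left hBK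
  have hBa : ∀ i : {a : Y // a ∈ A ∧ a ≠ 1}, B ≤ Subgroup.centralizer ({(i : Y)} : Set Y) := by
    intro i
    apply sup_le ((iInf_le _ i).trans (centralizerPPrimeCore_le_centralizer (i : Y)))
    intro a ha
    rw [Subgroup.mem_centralizer_singleton_iff]
    exact setLike_mul_comm ha i.2.1
  let ψ : ↥H →* R K := (ρ K).comp (Subgroup.inclusion hHN)
  let π := ψ.rangeRestrict
  have hπ : Function.Surjective π := ψ.rangeRestrict_surjective
  have : Finite ↥ψ.range := Finite.of_surjective π hπ
  have hker : ∀ g : ↥H, π g = 1 ↔ (g : Y) ∈ Subgroup.centralizer (K : Set Y) := by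
    intro g
    have h0 := hρker K hK (Subgroup.inclusion hHN g)
    rw [Subgroup.coe_inclusion] at h0
    rw [← h0]
    constructor
    · intro h1
      exact congrArg Subtype.val h1
    · intro h1
      exact Subtype.ext h1
  have himg : (K.subgroupOf (Subgroup.normalizer (K : Set Y))).map (ρ K) ≤ ψ.range := by
    rintro _ ⟨n, hn, rfl⟩
    exact ⟨⟨(n : Y), hKH (Subgroup.mem_subgroupOf.1 hn)⟩, rfl⟩
  have hinj : ∀ a : ↥H, (a : Y) ∈ A → π a = 1 → a = 1 := by
    intro a ha h1
    by_contra hne1
    have ha1 : (a : Y) ≠ 1 := fun h => hne1 (Subtype.ext h)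
    exact (hall ⟨(a : Y), ha, ha1⟩).2 ((hker a).1 h1)
  have h1 := hloc K hK ψ.range himg
    ((A.subgroupOf H).map π) (isElementaryAbelian_map_subgroupOf hA π)
    (by rw [card_map_subgroupOf_of_injOn hAH π hinj, hcard])
  unfold signalizerDelta at h1
  apply iInf_le_centralizer_of_section hY (fun i : {a : Y // a ∈ A ∧ a ≠ 1} => (i : Y)) hxp hK rfl
    hBK (fun i => hAH i.2.1) hBa _ π hπ hker
  · rw [eq_bot_iff, ← h1]
    apply le_iInf
    rintro ⟨t, ⟨a, ha, rfl⟩, ht1⟩
    have haA : (a : Y) ∈ A := Subgroup.mem_subgroupOf.1 ha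
    have ha1 : (a : Y) ≠ 1 := by
      intro h
      apply ht1
      have : a = 1 := Subtype.ext h
      rw [this, map_one]
    exact iInf_le
      (fun i : {a : Y // a ∈ A ∧ a ≠ 1} => centralizerPPrimeCore p (π ⟨(i : Y), hAH i.2.1⟩))
      ⟨(a : Y), haA, ha1⟩
  · exact le_sup_left

/-- weak version: `Δ_Y(B)` centralizes `A`, for `B ≤ A` of order `p ^ k`, when the components are
`A`-invariant and weakly locally `k`-balanced -/
theorem signalizerDelta_le_centralizer_of_real (hk : 1 ≤ k) (hY : pPrimeCore p Y = ⊥)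
    (R : Subgroup Y → Type u) [∀ K, Group (R K)]
    (ρ : ∀ K : Subgroup Y, ↥(Subgroup.normalizer (K : Set Y)) →* R K)
    (hρker : ∀ K : Subgroup Y, IsComponent K → ∀ n : ↥(Subgroup.normalizer (K : Set Y)),
      ρ K n = 1 ↔ (n : Y) ∈ Subgroup.centralizer (K : Set Y))
    (hloc : ∀ K : Subgroup Y, IsComponent K → ∀ H' : Subgroup (R K),
      (K.subgroupOf (Subgroup.normalizer (K : Set Y))).map (ρ K) ≤ H' →
      ∀ A' : Subgroup ↥H', IsElementaryAbelian p A' → Nat.card A' = p ^ k →
        ∀ x : ↥H', orderOf x = p → x ∈ Subgroup.centralizer (A' : Set ↥H') →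
          signalizerDelta p A' ≤ Subgroup.centralizer {x})
    {A B : Subgroup Y} (hA : IsElementaryAbelian p A) (hBA : B ≤ A) (hcard : Nat.card B = p ^ k)
    (hinv : ∀ K : Subgroup Y, IsComponent K → A ≤ Subgroup.normalizer (K : Set Y)) :
    signalizerDelta p B ≤ Subgroup.centralizer (A : Set Y) := by
  have hBea : IsElementaryAbelian p B := isElementaryAbelian_of_le hA hBA
  have hne : Nonempty {a : Y // a ∈ B ∧ a ≠ 1} := by
    have h1 : 1 < Nat.card B := by
      rw [hcard]
      exact Nat.one_lt_pow (by omega) hp.out.one_lt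
    rw [Subgroup.one_lt_card_iff_ne_bot] at h1
    obtain ⟨a, ha1⟩ := (Subgroup.ne_bot_iff_exists_ne_one.1 h1)
    exact ⟨⟨(a : Y), a.2, fun h => ha1 (Subtype.ext h)⟩⟩
  obtain ⟨i₀⟩ := hne
  have hxp : ∀ i : {a : Y // a ∈ B ∧ a ≠ 1}, (i : Y) ^ p = 1 := fun i => hBea.2 i.1 i.2.1
  have hAcomm : IsMulCommutative ↥A := hA.1
  have hDdef : signalizerDelta p B =
      ⨅ i : {a : Y // a ∈ B ∧ a ≠ 1}, centralizerPPrimeCore p (i : Y) := rfl
  set D := signalizerDelta p B with hD
  have hAD : A ≤ Subgroup.normalizer (D : Set Y) :=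
    Cfsg.Agent.Lib.Helper4.Balance.le_normalizer_delta p hA.1 hBA
  have hCD : ⁅D, A⁆ ≤ D := by
    rw [Subgroup.commutator_le]
    intro d hd x hx
    have h1 : x * d⁻¹ * x⁻¹ ∈ D := (Subgroup.mem_normalizer_iff.1 (hAD hx) d⁻¹).1 (D.inv_mem hd)
    have e : ⁅d, x⁆ = d * (x * d⁻¹ * x⁻¹) := by rw [commutatorElement_def]; group
    rw [e]
    exact D.mul_mem hd h1
  have hDi : ∀ i : {a : Y // a ∈ B ∧ a ≠ 1}, D ≤ centralizerPPrimeCore p (i : Y) := by
    intro i
    rw [hDdef]
    exact iInf_le _ i
  have hbot : ⁅D, A⁆ = ⊥ := by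
    apply eq_bot_of_le_centralizer hY
    · exact Nat.Coprime.coprime_dvd_left (Subgroup.card_dvd_of_le (hCD.trans (hDi i₀)))
        (card_centralizerPPrimeCore_coprime (i₀ : Y))
    · exact (hCD.trans (hDi i₀)).trans (centralizerPPrimeCore_le_centralizer_pCore hY (hxp i₀))
    · intro K hK
      by_cases hall : ∀ i : {a : Y // a ∈ B ∧ a ≠ 1},
          (i : Y) ∈ Subgroup.normalizer (K : Set Y) ∧ (i : Y) ∉ Subgroup.centralizer (K : Set Y)
      · -- the main case
        set B' := D ⊔ A with hB'
        set H := K ⊔ B' with hH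
        have hDN : D ≤ Subgroup.normalizer (K : Set Y) :=
          (hDi i₀).trans (centralizerPPrimeCore_le_normalizer_component hY (hxp i₀) hK)
        have hBK : B' ≤ Subgroup.normalizer (K : Set Y) := sup_le hDN (hinv K hK)
        have hKH : K ≤ H := le_sup_left
        have hAH : A ≤ H := le_sup_right.trans le_sup_right
        have hDH : D ≤ H := le_sup_left.trans le_sup_right
        have hHN : H ≤ Subgroup.normalizer (K : Set Y) := sup_le_normalizer_left hBK
        have hBa : ∀ i : {a : Y // a ∈ B ∧ a ≠ 1},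
            B' ≤ Subgroup.centralizer ({(i : Y)} : Set Y) := by
          intro i
          apply sup_le ((hDi i).trans (centralizerPPrimeCore_le_centralizer (i : Y)))
          intro a ha
          rw [Subgroup.mem_centralizer_singleton_iff]
          exact setLike_mul_comm ha (hBA i.2.1)
        let ψ : ↥H →* R K := (ρ K).comp (Subgroup.inclusion hHN)
        let π := ψ.rangeRestrict
        have hπ : Function.Surjective π := ψ.rangeRestrict_surjective
        have : Finite ↥ψ.range := Finite.of_surjective π hπ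
        have hker : ∀ g : ↥H, π g = 1 ↔ (g : Y) ∈ Subgroup.centralizer (K : Set Y) := by
          intro g
          have h0 := hρker K hK (Subgroup.inclusion hHN g)
          rw [Subgroup.coe_inclusion] at h0
          rw [← h0]
          constructor
          · intro h1
            exact congrArg Subtype.val h1
          · intro h1
            exact Subtype.ext h1
        have himg : (K.subgroupOf (Subgroup.normalizer (K : Set Y))).map (ρ K) ≤ ψ.range := by
          rintro _ ⟨n, hn, rfl⟩
          exact ⟨⟨(n : Y), hKH (Subgroup.mem_subgroupOf.1 hn)⟩, rfl⟩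
        have hinj : ∀ a : ↥H, (a : Y) ∈ B → π a = 1 → a = 1 := by
          intro a ha h1
          by_contra hne1
          have ha1 : (a : Y) ≠ 1 := fun h => hne1 (Subtype.ext h)
          exact (hall ⟨(a : Y), ha, ha1⟩).2 ((hker a).1 h1)
        have hBH : B ≤ H := hBA.trans hAH
        have hfam := map_iInf_le_iInf hY (fun i : {a : Y // a ∈ B ∧ a ≠ 1} => (i : Y)) hxp hK
          (rfl : H = K ⊔ B') hBK (fun i => hBH i.2.1) hBa π hπ hker
        -- the image of `D` lies in `Δ_S(B̃)`
        have hDΔ : (D.subgroupOf H).map π ≤ signalizerDelta p ((B.subgroupOf H).map π) := by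
          refine hfam.trans ?_
          unfold signalizerDelta
          apply le_iInf
          rintro ⟨t, ⟨a, ha, rfl⟩, ht1⟩
          have haB : (a : Y) ∈ B := Subgroup.mem_subgroupOf.1 ha
          have ha1 : (a : Y) ≠ 1 := by
            intro h
            apply ht1
            have : a = 1 := Subtype.ext h
            rw [this, map_one]
          exact iInf_le
            (fun i : {a : Y // a ∈ B ∧ a ≠ 1} => centralizerPPrimeCore p (π ⟨(i : Y), hBH i.2.1⟩))
            ⟨(a : Y), haB, ha1⟩
        rw [Subgroup.commutator_le]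
        intro d hd x hx
        have hcomm : π ⟨d, hDH hd⟩ * π ⟨x, hAH hx⟩ = π ⟨x, hAH hx⟩ * π ⟨d, hDH hd⟩ := by
          by_cases hx1 : π ⟨x, hAH hx⟩ = 1
          · rw [hx1, mul_one, one_mul]
          · have horder : orderOf (π ⟨x, hAH hx⟩) = p := by
              apply orderOf_eq_prime _ hx1
              rw [← map_pow]
              have : (⟨x, hAH hx⟩ : ↥H) ^ p = 1 := by
                apply Subtype.ext
                simpa using hA.2 x hx
              rw [this, map_one]
            have hcent : π ⟨x, hAH hx⟩ ∈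
                Subgroup.centralizer (((B.subgroupOf H).map π : Subgroup ↥ψ.range) : Set ↥ψ.range) := by
              rw [Subgroup.mem_centralizer_iff]
              rintro _ ⟨b, hb, rfl⟩
              rw [← map_mul, ← map_mul]
              congr 1
              apply Subtype.ext
              exact setLike_mul_comm (hBA (Subgroup.mem_subgroupOf.1 hb)) hx
            have h2 := hloc K hK ψ.range himg ((B.subgroupOf H).map π)
              (isElementaryAbelian_map_subgroupOf hBea π)
              (by rw [card_map_subgroupOf_of_injOn hBH π hinj, hcard])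
              (π ⟨x, hAH hx⟩) horder hcent
            have h3 : π ⟨d, hDH hd⟩ ∈ Subgroup.centralizer {π ⟨x, hAH hx⟩} :=
              h2 (hDΔ (Subgroup.mem_map_of_mem π (Subgroup.mem_subgroupOf.2 hd)))
            exact (Subgroup.mem_centralizer_singleton_iff.1 h3)
        have hmem : ⁅d, x⁆ ∈ H := by
          rw [commutatorElement_def]
          exact H.mul_mem (H.mul_mem (H.mul_mem (hDH hd) (hAH hx)) (H.inv_mem (hDH hd)))
            (H.inv_mem (hAH hx))
        have h4 : π ⟨⁅d, x⁆, hmem⟩ = 1 := by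
          have e : (⟨⁅d, x⁆, hmem⟩ : ↥H) = ⁅(⟨d, hDH hd⟩ : ↥H), ⟨x, hAH hx⟩⁆ := by
            apply Subtype.ext
            simp [commutatorElement_def]
          rw [e, map_commutatorElement, commutatorElement_eq_one_iff_mul_comm]
          exact hcomm
        exact (hker _).1 h4
      · push Not at hall
        obtain ⟨i, hi⟩ := hall
        refine (hCD.trans (hDi i)).trans ?_
        by_cases hN : (i : Y) ∈ Subgroup.normalizer (K : Set Y)
        · exact centralizerPPrimeCore_le_centralizer_component_of_mem hY (hxp i) hK (hi hN)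
        · exact centralizerPPrimeCore_le_centralizer_component_of_not_mem hY (hxp i) hK hN
  rw [Subgroup.commutator_eq_bot_iff_le_centralizer] at hbot
  exact hbot

end Real

end Cfsg.Agent.Lib.Helper4.LB
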