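import Mathlib
import Cfsg.Prelude.Def_Balance
import Cfsg.Agent.S1281
import Cfsg.Agent.Lib.Helper3.Sig6
import Cfsg.Agent.Lib.Helper6.PPrimeCore

set_option autoImplicit false

/-!
The image of a solvable signalizer functor in a quotient by a normal `p'`-subgroup.
-/

namespace Cfsg.Agent.Lib.Helper4.SF

open Cfsg.Agent.Lib.Helper3.Sig

variable {G : Type*} [Group G]

/-- the image of a functor in a quotient -/
def quotFunctor (A : Subgroup G) (θ : G → Subgroup G) (N : Subgroup G) [N.Normal] :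
    G ⧸ N → Subgroup (G ⧸ N) :=
  fun x => ⨆ a : {a : G // a ∈ A ∧ a ≠ 1 ∧ (QuotientGroup.mk' N) a = x},
    (θ (a : G)).map (QuotientGroup.mk' N)

theorem eq_of_mk_eq {A N : Subgroup G} [N.Normal] (hAN : A ⊓ N = ⊥) {a b : G} (ha : a ∈ A)
    (hb : b ∈ A) (h : (QuotientGroup.mk' N) a = (QuotientGroup.mk' N) b) : a = b := by
  have h1 : a⁻¹ * b ∈ N := by
    rw [← QuotientGroup.eq]; exact h
  have h2 : a⁻¹ * b ∈ A ⊓ N := ⟨A.mul_mem (A.inv_mem ha) hb, h1⟩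
  rw [hAN, Subgroup.mem_bot] at h2
  exact inv_mul_eq_one.mp h2

theorem mk_ne_one {A N : Subgroup G} [N.Normal] (hAN : A ⊓ N = ⊥) {a : G} (ha : a ∈ A)
    (ha1 : a ≠ 1) : (QuotientGroup.mk' N) a ≠ 1 := by
  intro h
  apply ha1
  apply eq_of_mk_eq hAN ha A.one_mem
  rw [h, map_one]

theorem quotFunctor_mk {A N : Subgroup G} [N.Normal] (θ : G → Subgroup G) (hAN : A ⊓ N = ⊥)
    {a : G} (ha : a ∈ A) (ha1 : a ≠ 1) :
    quotFunctor A θ N ((QuotientGroup.mk' N) a) = (θ a).map (QuotientGroup.mk' N) := by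
  apply le_antisymm
  · apply iSup_le
    rintro ⟨b, hb, hb1, hbe⟩
    have : b = a := eq_of_mk_eq hAN hb ha hbe
    subst this
    exact le_rfl
  · exact le_iSup (fun b : {b : G // b ∈ A ∧ b ≠ 1 ∧
      (QuotientGroup.mk' N) b = (QuotientGroup.mk' N) a} =>
        (θ (b : G)).map (QuotientGroup.mk' N)) ⟨a, ha, ha1, rfl⟩

theorem inf_eq_bot_of_not_dvd [Finite G] {p : ℕ} [Fact p.Prime] {A N : Subgroup G}
    (hA : Cfsg.IsElementaryAbelian p A) (hN : ¬ p ∣ Nat.card N) : A ⊓ N = ⊥ :=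
  Cfsg.Agent.Lib.Helper6.isPGroup_inf_coprime_eq_bot
    ((Nat.Coprime.symm ((Nat.Prime.coprime_iff_not_dvd Fact.out).mpr hN))) (ea_isPGroup hA)

theorem map_isElementaryAbelian {H : Type*} [Group H] {p : ℕ} {A : Subgroup G}
    (hA : Cfsg.IsElementaryAbelian p A) (f : G →* H) : Cfsg.IsElementaryAbelian p (A.map f) := by
  refine ⟨?_, ?_⟩
  · have := hA.1
    exact Subgroup.map_isMulCommutative A f
  · rintro x ⟨a, ha, rfl⟩
    rw [← map_pow, hA.2 a ha, map_one]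

theorem card_le_card_map {A N : Subgroup G} [N.Normal] [Finite G] (hAN : A ⊓ N = ⊥) :
    Nat.card A ≤ Nat.card (A.map (QuotientGroup.mk' N)) := by
  apply Nat.card_le_card_of_injective
    (fun a : A => (⟨(QuotientGroup.mk' N) a.1, Subgroup.mem_map_of_mem _ a.2⟩ :
      A.map (QuotientGroup.mk' N)))
  intro a b hab
  apply Subtype.ext
  exact eq_of_mk_eq hAN a.2 b.2 (congrArg Subtype.val hab)

theorem quot_isSolvableSignalizerFunctor [Finite G] {p : ℕ} [Fact p.Prime] {A : Subgroup G}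
    (hA : Cfsg.IsElementaryAbelian p A) (hA2 : p ^ 2 ≤ Nat.card A) {θ : G → Subgroup G}
    (hθ : Cfsg.IsSolvableSignalizerFunctor p A θ) (N : Subgroup G) [N.Normal]
    (hN : ¬ p ∣ Nat.card N) :
    Cfsg.IsSolvableSignalizerFunctor p (A.map (QuotientGroup.mk' N)) (quotFunctor A θ N) := by
  have hAN : A ⊓ N = ⊥ := inf_eq_bot_of_not_dvd hA hN
  obtain ⟨⟨hcent, hpp, hinv, hbal⟩, hsolv⟩ := hθ
  have key : ∀ x ∈ A.map (QuotientGroup.mk' N), x ≠ 1 → ∃ a ∈ A, a ≠ 1 ∧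
      (QuotientGroup.mk' N) a = x ∧
      quotFunctor A θ N x = (θ a).map (QuotientGroup.mk' N) := by
    rintro x ⟨a, ha, rfl⟩ hx1
    have ha1 : a ≠ 1 := by
      intro h; apply hx1; rw [h, map_one]
    exact ⟨a, ha, ha1, rfl, quotFunctor_mk θ hAN ha ha1⟩
  refine ⟨⟨?_, ?_, ?_, ?_⟩, ?_⟩
  · intro x hx hx1
    obtain ⟨a, ha, ha1, rfl, he⟩ := key x hx hx1
    rw [he]
    rintro y ⟨t, ht, rfl⟩
    have h1 := hcent a ha ha1 ht
    rw [Subgroup.mem_centralizer_singleton_iff] at h1 ⊢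
    rw [← map_mul, ← map_mul, h1]
  · intro x hx hx1
    obtain ⟨a, ha, ha1, rfl, he⟩ := key x hx hx1
    rw [he]
    intro h
    exact hpp a ha ha1 (h.trans (Subgroup.card_map_dvd _ _))
  · intro x hx hx1 y hy z hz
    obtain ⟨a, ha, ha1, rfl, he⟩ := key x hx hx1
    rw [he] at hz ⊢
    obtain ⟨b, hb, rfl⟩ := hy
    obtain ⟨t, ht, rfl⟩ := hz
    refine ⟨b * t * b⁻¹, hinv a ha ha1 b hb t ht, ?_⟩
    simp
  · intro x hx hx1 y hy hy1
    obtain ⟨a, ha, ha1, rfl, he⟩ := key x hx hx1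
    obtain ⟨b, hb, hb1, rfl, he'⟩ := key y hy hy1
    rw [he, he']
    exact Cfsg.Agent.S1281.result p A hA hA2 θ ⟨⟨hcent, hpp, hinv, hbal⟩, hsolv⟩ N hN a b ha ha1 hb hb1
  · intro x hx hx1
    obtain ⟨a, ha, ha1, rfl, he⟩ := key x hx hx1
    rw [he]
    have := hsolv a ha ha1
    exact solvable_of_surjective ((QuotientGroup.mk' N).subgroupMap_surjective (θ a))

theorem quot_signalizerClosure [Finite G] {A N : Subgroup G} [N.Normal] (θ : G → Subgroup G)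
    (hAN : A ⊓ N = ⊥) :
    Cfsg.signalizerClosure (A.map (QuotientGroup.mk' N)) (quotFunctor A θ N) =
      (Cfsg.signalizerClosure A θ).map (QuotientGroup.mk' N) := by
  unfold Cfsg.signalizerClosure
  rw [Subgroup.map_iSup]
  apply le_antisymm
  · apply iSup_le
    rintro ⟨x, ⟨a, ha, rfl⟩, hx1⟩
    have ha1 : a ≠ 1 := by
      intro h; apply hx1; rw [h, map_one]
    rw [quotFunctor_mk θ hAN ha ha1]
    exact le_iSup (fun b : {b : G // b ∈ A ∧ b ≠ 1} => (θ (b : G)).map (QuotientGroup.mk' N))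
      ⟨a, ha, ha1⟩
  · apply iSup_le
    rintro ⟨a, ha, ha1⟩
    rw [← quotFunctor_mk θ hAN ha ha1]
    exact le_iSup (fun x : {x : G ⧸ N // x ∈ A.map (QuotientGroup.mk' N) ∧ x ≠ 1} =>
      quotFunctor A θ N (x : G ⧸ N))
      ⟨(QuotientGroup.mk' N) a, Subgroup.mem_map_of_mem _ ha, mk_ne_one hAN ha ha1⟩

/-- pulling back the completeness statement from the quotient -/
theorem exists_mul_of_quot_le {A N : Subgroup G} [N.Normal] (θ : G → Subgroup G) {a : G}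
    (hcent : θ a ≤ Subgroup.centralizer {a}) {W : Subgroup G}
    (h : W.map (QuotientGroup.mk' N) ⊓ Subgroup.centralizer {(QuotientGroup.mk' N) a} ≤
      (θ a).map (QuotientGroup.mk' N)) {w : G} (hw : w ∈ W) (hwa : w ∈ Subgroup.centralizer {a}) :
    ∃ x ∈ θ a, ∃ n ∈ N ⊓ Subgroup.centralizer {a}, w = x * n := by
  have h1 : (QuotientGroup.mk' N) w ∈ W.map (QuotientGroup.mk' N) ⊓
      Subgroup.centralizer {(QuotientGroup.mk' N) a} := by
    refine Subgroup.mem_inf.2 ⟨Subgroup.mem_map_of_mem _ hw, ?_⟩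
    rw [Subgroup.mem_centralizer_singleton_iff] at hwa ⊢
    rw [← map_mul, ← map_mul, hwa]
  obtain ⟨x, hx, hxe⟩ := h h1
  have h2 : x⁻¹ * w ∈ N := by
    rw [← QuotientGroup.eq]; exact hxe
  refine ⟨x, hx, x⁻¹ * w, Subgroup.mem_inf.2 ⟨h2, ?_⟩, by group⟩
  exact Subgroup.mul_mem _ (Subgroup.inv_mem _ (hcent hx)) hwa

end Cfsg.Agent.Lib.Helper4.SF
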