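import Mathlib
import Cfsg.Agent.Lib.Helper4.SF1
import Cfsg.Agent.Lib.Helper4.LB7
import Cfsg.Agent.S1331

set_option autoImplicit false

/-!
Normality of the subgroup generated by the `θ a ⊓ K`.
-/

namespace Cfsg.Agent.Lib.Helper4.SF

open Cfsg.Agent.Lib.Helper3.Sig Cfsg.Agent.Lib.Helper3.Gen

variable {G : Type*} [Group G]

theorem conj_mem_iSup_of_forall {ι : Sort*} (K : ι → Subgroup G) (Z : Subgroup G) (t : G)
    (h : ∀ i, ∀ z ∈ K i, t * z * t⁻¹ ∈ Z) : ∀ z ∈ ⨆ i, K i, t * z * t⁻¹ ∈ Z := by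
  have h1 : (⨆ i, K i) ≤ Z.comap (MulAut.conj t).toMonoidHom := by
    apply iSup_le
    intro i z hz
    rw [Subgroup.mem_comap]
    simpa using h i z hz
  intro z hz
  simpa using h1 hz

theorem theta_le_closure {A : Subgroup G} (θ : G → Subgroup G) {a : G} (ha : a ∈ A) (ha1 : a ≠ 1) :
    θ a ≤ Cfsg.signalizerClosure A θ :=
  le_iSup (fun a : {a : G // a ∈ A ∧ a ≠ 1} => θ (a : G)) ⟨a, ha, ha1⟩

theorem closure_le_iSup_signalizerInf [Finite G] {p : ℕ} [Fact p.Prime] {A : Subgroup G}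
    (hA : Cfsg.IsElementaryAbelian p A) (hA3 : p ^ 3 ≤ Nat.card A) {θ : G → Subgroup G}
    (hθ : Cfsg.IsSolvableSignalizerFunctor p A θ) :
    Cfsg.signalizerClosure A θ ≤
      ⨆ D : {D : Subgroup G // D ≤ A ∧ D.relIndex A = p}, Cfsg.signalizerInf (D : Subgroup G) θ := by
  have hp2 : 2 ≤ p := (Fact.out : p.Prime).two_le
  have hA2 : p ^ 2 ≤ Nat.card A := le_trans (Nat.pow_le_pow_right (by omega) (by omega)) hA3
  apply iSup_le
  rintro ⟨a, ha, ha1⟩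
  have h := Cfsg.Agent.S1331.result p A hA hA3 θ hθ (θ a) (theta_mem_family hθ ha ha1) A le_rfl hA2
  calc θ a = ⨆ D : {D : Subgroup G // D ≤ A ∧ D.relIndex A = p},
        θ a ⊓ Cfsg.signalizerInf (D : Subgroup G) θ := h
    _ ≤ _ := iSup_mono fun D => inf_le_right

theorem inf_isSolvableSignalizerFunctor [Finite G] {p : ℕ} {A : Subgroup G} {θ : G → Subgroup G}
    (hθ : Cfsg.IsSolvableSignalizerFunctor p A θ) {K : Subgroup G}
    (hAK : A ≤ Subgroup.normalizer (K : Set G)) :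
    Cfsg.IsSolvableSignalizerFunctor p A (fun a => θ a ⊓ K) := by
  obtain ⟨⟨hcent, hpp, hinv, hbal⟩, hsolv⟩ := hθ
  refine ⟨⟨?_, ?_, ?_, ?_⟩, ?_⟩
  · intro a ha ha1
    exact inf_le_left.trans (hcent a ha ha1)
  · intro a ha ha1 h
    exact hpp a ha ha1 (h.trans (Subgroup.card_dvd_of_le inf_le_left))
  · intro a ha ha1 b hb x hx
    obtain ⟨hx1, hx2⟩ := Subgroup.mem_inf.mp hx
    exact Subgroup.mem_inf.2 ⟨hinv a ha ha1 b hb x hx1,
      (Subgroup.mem_normalizer_iff.mp (hAK hb) x).mp hx2⟩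
  · intro a ha ha1 b hb hb1 x hx
    obtain ⟨hx1, hx2⟩ := Subgroup.mem_inf.mp hx
    obtain ⟨hx3, hx4⟩ := Subgroup.mem_inf.mp hx1
    exact Subgroup.mem_inf.2 ⟨hbal a ha ha1 b hb hb1 (Subgroup.mem_inf.2 ⟨hx3, hx2⟩), hx4⟩
  · intro a ha ha1
    have := hsolv a ha ha1
    exact Group.isSolvable_of_isSolvable_injective
      (f := Subgroup.inclusion (inf_le_left : θ a ⊓ K ≤ θ a))
      (Subgroup.inclusion_injective _)

theorem card_hyperplane_ge [Finite G] {p : ℕ} [Fact p.Prime] {A D : Subgroup G}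
    (hA3 : p ^ 3 ≤ Nat.card A) (hDA : D ≤ A) (hidx : D.relIndex A = p) : p ^ 2 ≤ Nat.card D := by
  have h := card_mul_relIndex hDA
  rw [hidx] at h
  have hp : 0 < p := (Fact.out : p.Prime).pos
  have : p ^ 2 * p ≤ Nat.card D * p := by
    rw [h]; calc p ^ 2 * p = p ^ 3 := by ring
      _ ≤ _ := hA3
  exact Nat.le_of_mul_le_mul_right this hp

/-- the subgroup generated by the `θ a ⊓ K` is normalized by the closure and by `A` -/
theorem le_normalizer_iSup_inf [Finite G] {p : ℕ} [Fact p.Prime] {A : Subgroup G}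
    (hA : Cfsg.IsElementaryAbelian p A) (hA3 : p ^ 3 ≤ Nat.card A) {θ : G → Subgroup G}
    (hθ : Cfsg.IsSolvableSignalizerFunctor p A θ) {K : Subgroup G} (hK : ¬ p ∣ Nat.card K)
    (hWK : Cfsg.signalizerClosure A θ ≤ Subgroup.normalizer (K : Set G))
    (hAK : A ≤ Subgroup.normalizer (K : Set G)) :
    Cfsg.signalizerClosure A θ ⊔ A ≤
      Subgroup.normalizer ((⨆ a : {a : G // a ∈ A ∧ a ≠ 1}, θ (a : G) ⊓ K : Subgroup G) : Set G) := by
  have hθ' := hθ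
  obtain ⟨⟨hcent, hpp, hinv, hbal⟩, hsolv⟩ := hθ
  have hgen : ∀ a (ha : a ∈ A) (ha1 : a ≠ 1), θ a ⊓ K ≤
      ⨆ a : {a : G // a ∈ A ∧ a ≠ 1}, θ (a : G) ⊓ K := fun a ha ha1 =>
    le_iSup (fun a : {a : G // a ∈ A ∧ a ≠ 1} => θ (a : G) ⊓ K) ⟨a, ha, ha1⟩
  apply sup_le
  · refine (closure_le_iSup_signalizerInf hA hA3 hθ').trans (iSup_le ?_)
    rintro ⟨D, hDA, hidx⟩
    apply Cfsg.Agent.Lib.Helper3.Sig.le_normalizer_of_conj_mem
    intro t ht
    apply conj_mem_iSup_of_forall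
    rintro ⟨a, ha, ha1⟩ z hz
    -- a subgroup of order p^2 in D
    have hD2 : p ^ 2 ≤ Nat.card D := card_hyperplane_ge hA3 hDA hidx
    have hDea := ea_of_le hA hDA
    obtain ⟨E, hED, hEcard⟩ := Cfsg.Agent.Lib.Helper4.LB.exists_le_card_eq (ea_isPGroup hDea) hD2
    have hEea := ea_of_le hDea hED
    have hEA : E ≤ A := hED.trans hDA
    have hAθa : A ≤ Subgroup.normalizer ((θ a : Subgroup G) : Set G) :=
      Cfsg.Agent.Lib.Helper3.Sig.le_normalizer_of_conj_mem (hinv a ha ha1)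
    have hY : θ a ⊓ K ≤ fixJoin E (θ a ⊓ K) :=
      le_fixJoin hEea hEcard (Nat.card (θ a ⊓ K : Subgroup G)) (θ a ⊓ K) le_rfl
        (fun h => hK (h.trans (Subgroup.card_dvd_of_le inf_le_right)))
        (hEA.trans (le_normalizer_inf hAθa hAK))
    have hz' := hY hz
    unfold fixJoin at hz'
    revert hz'
    apply conj_mem_iSup_of_forall
    rintro ⟨d, hdE, hd1⟩ z' hz'
    obtain ⟨hz1, hz2⟩ := Subgroup.mem_inf.mp hz'
    obtain ⟨hz3, hz4⟩ := Subgroup.mem_inf.mp hz1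
    have hdA : d ∈ A := hEA hdE
    have hzd : z' ∈ θ d := hbal a ha ha1 d hdA hd1 (Subgroup.mem_inf.2 ⟨hz3, hz2⟩)
    have htd : t ∈ θ d := signalizerInf_le_theta (hED hdE) hd1 ht
    have htK : t ∈ Subgroup.normalizer (K : Set G) := hWK (theta_le_closure θ hdA hd1 htd)
    apply hgen d hdA hd1
    exact Subgroup.mem_inf.2 ⟨Subgroup.mul_mem _ (Subgroup.mul_mem _ htd hzd) (Subgroup.inv_mem _ htd),
      (Subgroup.mem_normalizer_iff.mp htK z').mp hz4⟩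
  · apply Cfsg.Agent.Lib.Helper3.Sig.le_normalizer_of_conj_mem
    intro b hb
    apply conj_mem_iSup_of_forall
    rintro ⟨a, ha, ha1⟩ z hz
    obtain ⟨hz1, hz2⟩ := Subgroup.mem_inf.mp hz
    apply hgen a ha ha1
    exact Subgroup.mem_inf.2 ⟨hinv a ha ha1 b hb z hz1,
      (Subgroup.mem_normalizer_iff.mp (hAK hb) z).mp hz2⟩

end Cfsg.Agent.Lib.Helper4.SF
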