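import Mathlib
import Cfsg.Agent.Lib.Helper4.SF2
import Cfsg.Agent.S1285
import Cfsg.Agent.Lib.Helper2.CoreFree
import Cfsg.Agent.Lib.Helper7.PUD7

set_option autoImplicit false

/-!
A solvable signalizer functor whose closure is a solvable `p'`-group is complete: auxiliary lemmas.
-/

namespace Cfsg.Agent.Lib.Helper4.SF

open Cfsg.Agent.Lib.Helper3.Sig Cfsg.Agent.Lib.Helper3.Gen

universe u

variable {G : Type u} [Group G]

theorem card_map_lt [Finite G] {W N : Subgroup G} [N.Normal] (hNW : N ≤ W) (hN1 : N ≠ ⊥) :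
    Nat.card (W.map (QuotientGroup.mk' N)) < Nat.card W := by
  classical
  haveI := Fintype.ofFinite W
  haveI := Fintype.ofFinite (W.map (QuotientGroup.mk' N))
  rw [Nat.card_eq_fintype_card, Nat.card_eq_fintype_card]
  apply Fintype.card_lt_of_surjective_not_injective ((QuotientGroup.mk' N).subgroupMap W)
    ((QuotientGroup.mk' N).subgroupMap_surjective W)
  intro hinj
  obtain ⟨n, hn1⟩ := (Subgroup.ne_bot_iff_exists_ne_one).mp hN1
  apply hn1
  have h1 : (QuotientGroup.mk' N).subgroupMap W ⟨n.1, hNW n.2⟩ =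
      (QuotientGroup.mk' N).subgroupMap W 1 := by
    apply Subtype.ext
    rw [map_one]
    simp only [MonoidHom.subgroupMap_apply_coe, QuotientGroup.mk'_apply]
    rw [Subgroup.coe_one, QuotientGroup.eq_one_iff]
    exact n.2
  have h2 := hinj h1
  apply Subtype.ext
  exact congrArg (fun x : W => (x : G)) h2

/-- the statement proved by induction on the order of the closure -/
def ClosedComplete (p n : ℕ) : Prop :=
  ∀ (G : Type u) [Group G] [Finite G] (A : Subgroup G) (θ : G → Subgroup G) (W : Subgroup G),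
    Cfsg.IsElementaryAbelian p A → p ^ 3 ≤ Nat.card A → Cfsg.IsSolvableSignalizerFunctor p A θ →
    Cfsg.signalizerClosure A θ = W → Nat.card W ≤ n → Group.IsSolvable W → ¬ p ∣ Nat.card W →
    W ⊔ A = ⊤ → ∀ a ∈ A, a ≠ 1 → W ⊓ Subgroup.centralizer {a} ≤ θ a

theorem pow_two_le_of_pow_three_le {p m : ℕ} (hp : p.Prime) (h : p ^ 3 ≤ m) : p ^ 2 ≤ m :=
  le_trans (Nat.pow_le_pow_right hp.pos (by omega)) h

theorem quot_step {p n : ℕ} [Fact p.Prime] (ih : ClosedComplete.{u} p n) [Finite G]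
    {A : Subgroup G} {θ : G → Subgroup G} {W : Subgroup G}
    (hA : Cfsg.IsElementaryAbelian p A) (hA3 : p ^ 3 ≤ Nat.card A)
    (hθ : Cfsg.IsSolvableSignalizerFunctor p A θ) (hW : Cfsg.signalizerClosure A θ = W)
    (hn : Nat.card W ≤ n + 1) (hWs : Group.IsSolvable W) (hWp : ¬ p ∣ Nat.card W)
    (hWA : W ⊔ A = ⊤) (N : Subgroup G) [N.Normal] (hNW : N ≤ W) (hN1 : N ≠ ⊥) {a : G}
    (ha : a ∈ A) (ha1 : a ≠ 1) {w : G} (hw : w ∈ W) (hwa : w ∈ Subgroup.centralizer {a}) :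
    ∃ x ∈ θ a, ∃ m ∈ N ⊓ Subgroup.centralizer {a}, w = x * m := by
  have hNp : ¬ p ∣ Nat.card N := fun h => hWp (h.trans (Subgroup.card_dvd_of_le hNW))
  have hAN : A ⊓ N = ⊥ := inf_eq_bot_of_not_dvd hA hNp
  have hA2 := pow_two_le_of_pow_three_le (Fact.out : p.Prime) hA3
  have h1 := ih (G ⧸ N) (A.map (QuotientGroup.mk' N)) (quotFunctor A θ N)
    (W.map (QuotientGroup.mk' N)) (map_isElementaryAbelian hA _)
    (le_trans hA3 (card_le_card_map hAN)) (quot_isSolvableSignalizerFunctor hA hA2 hθ N hNp)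
    (by rw [quot_signalizerClosure θ hAN, hW])
    (by have := card_map_lt hNW hN1; omega)
    (Group.isSolvable_of_surjective ((QuotientGroup.mk' N).subgroupMap_surjective W))
    (fun h => hWp (h.trans (Subgroup.card_map_dvd _ _)))
    (by rw [← Subgroup.map_sup, hWA, ← MonoidHom.range_eq_map,
      MonoidHom.range_eq_top.mpr (QuotientGroup.mk'_surjective N)])
    ((QuotientGroup.mk' N) a) (Subgroup.mem_map_of_mem _ ha) (mk_ne_one hAN ha ha1)
  rw [quotFunctor_mk θ hAN ha ha1] at h1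
  exact exists_mul_of_quot_le (A := A) θ (hθ.1.1 a ha ha1) h1 hw hwa

theorem isPGroup_of_minNormal_solvable [Finite G] {M : Subgroup G} [hMn : M.Normal] (hM1 : M ≠ ⊥)
    (hmin : ∀ K : Subgroup G, K.Normal → K ≤ M → K = ⊥ ∨ K = M) (hs : Group.IsSolvable M) :
    ∃ q : ℕ, q.Prime ∧ IsPGroup q M := by
  have hab := Cfsg.Agent.Lib.Helper7.PUD.abelian_of_minNormal_solvable hM1
    (fun K hK hK1 hKM => (hmin K hK hKM).resolve_left hK1) hs
  have hc : IsMulCommutative M :=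
    ⟨⟨fun x y => Subtype.ext (hab x.1 x.2 y.1 y.2)⟩⟩
  obtain ⟨q, hq, -, d, -, hd⟩ :=
    Cfsg.Agent.Lib.Helper2.exists_prime_pow_of_minNormal_abelian M hM1 hmin hc
  haveI : Fact q.Prime := ⟨hq⟩
  exact ⟨q, hq, IsPGroup.of_card hd⟩

theorem exists_le_card_sq [Finite G] {p : ℕ} [Fact p.Prime] {A : Subgroup G}
    (hA : Cfsg.IsElementaryAbelian p A) (hA3 : p ^ 3 ≤ Nat.card A) :
    ∃ E : Subgroup G, E ≤ A ∧ Nat.card E = p ^ 2 ∧ Cfsg.IsElementaryAbelian p E := by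
  obtain ⟨E, hEA, hE⟩ := Cfsg.Agent.Lib.Helper4.LB.exists_le_card_eq (ea_isPGroup hA)
    (pow_two_le_of_pow_three_le (Fact.out : p.Prime) hA3)
  exact ⟨E, hEA, hE, ea_of_le hA hEA⟩

/-- an `A`-invariant `p'`-group is generated by its subgroups `X ⊓ C(a)` -/
theorem le_iSup_inf_centralizer [Finite G] {p : ℕ} [Fact p.Prime] {A : Subgroup G}
    (hA : Cfsg.IsElementaryAbelian p A) (hA3 : p ^ 3 ≤ Nat.card A) {X : Subgroup G}
    (hXp : ¬ p ∣ Nat.card X) (hAX : A ≤ Subgroup.normalizer (X : Set G)) :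
    X ≤ ⨆ a : {a : G // a ∈ A ∧ a ≠ 1}, X ⊓ Subgroup.centralizer {(a : G)} := by
  obtain ⟨E, hEA, hEcard, hEea⟩ := exists_le_card_sq hA hA3
  refine (le_fixJoin hEea hEcard (Nat.card X) X le_rfl hXp (hEA.trans hAX)).trans ?_
  unfold fixJoin
  apply iSup_le
  rintro ⟨d, hd, hd1⟩
  exact le_iSup (fun a : {a : G // a ∈ A ∧ a ≠ 1} => X ⊓ Subgroup.centralizer {(a : G)})
    ⟨d, hEA hd, hd1⟩

theorem complete_witness_eq [Finite G] {p : ℕ} [Fact p.Prime] {A : Subgroup G}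
    (hA : Cfsg.IsElementaryAbelian p A) (hA3 : p ^ 3 ≤ Nat.card A) {θ : G → Subgroup G}
    {X : Subgroup G} (hXinv : ∀ b ∈ A, ∀ x ∈ X, b * x * b⁻¹ ∈ X) (hXp : ¬ p ∣ Nat.card X)
    (hXc : ∀ a ∈ A, a ≠ 1 → X ⊓ Subgroup.centralizer {a} = θ a) :
    X = Cfsg.signalizerClosure A θ := by
  apply le_antisymm
  · refine (le_iSup_inf_centralizer hA hA3 hXp
      (Cfsg.Agent.Lib.Helper3.Sig.le_normalizer_of_conj_mem hXinv)).trans ?_
    apply iSup_le
    rintro ⟨a, ha, ha1⟩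
    rw [hXc a ha ha1]
    exact theta_le_closure θ ha ha1
  · apply iSup_le
    rintro ⟨a, ha, ha1⟩
    rw [← hXc a ha ha1]
    exact inf_le_left

theorem normal_of_sup_le_normalizer {W A Z : Subgroup G} (hWA : W ⊔ A = ⊤)
    (h : W ⊔ A ≤ Subgroup.normalizer (Z : Set G)) : Z.Normal := by
  rw [hWA] at h
  exact Subgroup.normalizer_eq_top_iff.mp (top_le_iff.mp h)

/-- the sub-functor cut out by a normal subgroup all of whose values are `q`-groups -/
theorem inf_complete [Finite G] {p : ℕ} [Fact p.Prime] {A : Subgroup G}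
    (hA : Cfsg.IsElementaryAbelian p A) (hA3 : p ^ 3 ≤ Nat.card A) {θ : G → Subgroup G}
    (hθ : Cfsg.IsSolvableSignalizerFunctor p A θ) {K : Subgroup G}
    (hAK : A ≤ Subgroup.normalizer (K : Set G)) {q : ℕ} (hq : q.Prime)
    (hqK : ∀ a ∈ A, a ≠ 1 → IsPGroup q (θ a ⊓ K : Subgroup G)) :
    ∀ a ∈ A, a ≠ 1 → (⨆ b : {b : G // b ∈ A ∧ b ≠ 1}, θ (b : G) ⊓ K) ⊓ Subgroup.centralizer {a} =
      θ a ⊓ K := by
  have : Fact q.Prime := ⟨hq⟩
  obtain ⟨-, X, hXinv, hXp, hXc⟩ := Cfsg.Agent.S1285.result p A hA hA3 (fun a => θ a ⊓ K)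
    (inf_isSolvableSignalizerFunctor hθ hAK) q hqK
  have h := complete_witness_eq hA hA3 hXinv hXp hXc
  unfold Cfsg.signalizerClosure at h
  rw [← h]
  exact hXc

end Cfsg.Agent.Lib.Helper4.SF
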