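import Mathlib
import Cfsg.Agent.Lib.Helper4.BG23a
import Cfsg.Agent.Lib.Helper4.SF3
import Cfsg.Agent.Lib.Helper4.HH19
import Cfsg.Agent.Lib.Helper4.PStab3a
import Cfsg.Agent.Lib.Helper7.MinAction

set_option autoImplicit false
set_option linter.style.haveILetI false
set_option linter.unusedSectionVars false
set_option maxHeartbeats 1600000

/-! Bender–Glauberman Theorem 15.2, the abstract part: a solvable group `X` of odd order with a
coprime operator group `K` such that `C_X(k) = C_X(K)` has order dividing the prime `q` for every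
`k ∈ K#` and `[X, K] = X` has a normal Sylow `q`-subgroup. -/

namespace Cfsg.Agent.Lib.Helper4.BG23

open Cfsg.Agent.Lib.Lead
open scoped commutatorElement

universe u

section

variable {Γ : Type u} [Group Γ] [Finite Γ]

/-- a `q`-subgroup of `X` lies in a normal (in `X`) `q`-subgroup of `X` of index prime to `q` -/
theorem le_of_normal_sylow {q : ℕ} [hq : Fact q.Prime] {Q X P : Subgroup Γ} (hQX : Q ≤ X)
    (hn : X ≤ Subgroup.normalizer (Q : Set Γ)) (hQ : IsPGroup q Q) (hidx : ¬ q ∣ Q.relIndex X)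
    (hPX : P ≤ X) (hP : IsPGroup q P) : P ≤ Q := by
  have hPQ : IsPGroup q (P ⊔ Q : Subgroup Γ) := hP.to_sup_of_normal_right' hQ (hPX.trans hn)
  have hle : P ⊔ Q ≤ X := sup_le hPX hQX
  have h1 : Q.relIndex (P ⊔ Q) ∣ Q.relIndex X :=
    Dvd.intro _ (Subgroup.relIndex_mul_relIndex Q (P ⊔ Q) X le_sup_right hle)
  have h2 : ∃ n : ℕ, Q.relIndex (P ⊔ Q) = q ^ n := by
    have := (hPQ.index (Q.subgroupOf (P ⊔ Q)))
    exact this
  obtain ⟨n, hn'⟩ := h2
  have h3 : Q.relIndex (P ⊔ Q) = 1 := by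
    rcases Nat.eq_zero_or_pos n with h0 | h0
    · rw [hn', h0, pow_zero]
    · exfalso
      apply hidx
      refine dvd_trans ?_ h1
      rw [hn']
      exact dvd_pow_self q h0.ne'
  exact le_sup_left.trans (Subgroup.relIndex_eq_one.mp h3)

/-- an element of prime order in a nontrivial subgroup -/
theorem exists_prime_orderOf_mem {K : Subgroup Γ} (hK1 : K ≠ ⊥) :
    ∃ k ∈ K, ∃ r : ℕ, r.Prime ∧ orderOf k = r ∧ r ∣ Nat.card K := by
  obtain ⟨⟨x, hx⟩, hx1⟩ := (Subgroup.ne_bot_iff_exists_ne_one).mp hK1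
  have hx1' : x ≠ 1 := fun h => hx1 (Subtype.ext h)
  have ho : orderOf x ≠ 1 := fun h => hx1' (orderOf_eq_one_iff.mp h)
  have hr := Nat.minFac_prime ho
  have hd := Nat.minFac_dvd (orderOf x)
  refine ⟨x ^ (orderOf x / (orderOf x).minFac), K.pow_mem hx _, (orderOf x).minFac, hr, ?_, ?_⟩
  · exact orderOf_pow_orderOf_div (orderOf_pos x).ne' hd
  · have h1 : orderOf x ∣ Nat.card K := by
      rw [← Subgroup.orderOf_mk x hx]
      exact orderOf_dvd_natCard _
    exact hd.trans h1

/-- the centralizer of an element is the centralizer of the cyclic group it generates -/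
theorem centralizer_singleton_eq (x : Γ) :
    Subgroup.centralizer ({x} : Set Γ) =
      Subgroup.centralizer ((Subgroup.zpowers x : Subgroup Γ) : Set Γ) := by
  apply le_antisymm
  · have h1 : Subgroup.zpowers x ≤ Subgroup.centralizer
        ((Subgroup.centralizer ({x} : Set Γ) : Subgroup Γ) : Set Γ) := by
      rw [Subgroup.zpowers_le, Subgroup.mem_centralizer_iff]
      intro g hg
      exact ((Subgroup.mem_centralizer_iff.mp hg) x rfl).symm
    exact Subgroup.le_centralizer_iff.mp h1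
  · apply Subgroup.centralizer_le
    intro a ha
    rw [Set.mem_singleton_iff] at ha
    rw [ha]
    exact Subgroup.mem_zpowers x

end

/-- **Lemma B**: the normal Sylow `q`-subgroup -/
theorem exists_normal_sylow_aux (n : ℕ) :
    ∀ {Γ : Type u} [Group Γ] [Finite Γ] (X K : Subgroup Γ) [X.Normal] (q : ℕ) [Fact q.Prime],
      Nat.card X ≤ n → Odd (Nat.card Γ) → Group.IsSolvable X →
      (Nat.card K).Coprime (Nat.card X) → K ≠ ⊥ →
      (∀ k ∈ K, k ≠ 1 → X ⊓ Subgroup.centralizer ({k} : Set Γ) =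
        X ⊓ Subgroup.centralizer (K : Set Γ)) →
      Nat.card ↥(X ⊓ Subgroup.centralizer (K : Set Γ)) ∣ q → ⁅X, K⁆ = X →
      ∃ Q : Subgroup Γ, Q.Normal ∧ Q ≤ X ∧ IsPGroup q Q ∧ ¬ q ∣ Q.relIndex X := by
  induction n with
  | zero =>
    intro Γ _ _ X K _ q _ hn _ _ _ _ _ _ _
    have : 0 < Nat.card X := Nat.card_pos
    omega
  | succ n ih =>
    intro Γ _ _ X K hXn q hq hn hodd hsolv hcop hK1 hsemi hcard hXK
    classical
    -- trivial case
    by_cases hqX : q ∣ Nat.card X
    swap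
    · refine ⟨⊥, inferInstance, bot_le, IsPGroup.of_bot, ?_⟩
      rwa [Subgroup.relIndex_bot_left]
    have hX1 : X ≠ ⊥ := by
      intro h0
      rw [h0, Subgroup.card_bot] at hqX
      exact hq.out.one_lt.ne' (Nat.dvd_one.mp hqX)
    have hKX : K ⊓ X = ⊥ := (Subgroup.disjoint_of_coprime_natCard hcop).eq_bot
    have hq2 : q ≠ 2 := by
      rintro rfl
      have h2 : 2 ∣ Nat.card Γ := hqX.trans (Subgroup.card_subgroup_dvd_card X)
      exact (Nat.not_even_iff_odd.mpr hodd) (even_iff_two_dvd.mpr h2)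
    -- a minimal normal subgroup `Y ≤ X`
    obtain ⟨Y, hY⟩ := exists_minimal_of_wellFoundedLT
      (fun L : Subgroup Γ => L.Normal ∧ L ≤ X ∧ L ≠ ⊥) ⟨X, hXn, le_rfl, hX1⟩
    obtain ⟨⟨hYn, hYX, hY1⟩, hYmin⟩ := hY
    haveI := hYn
    have hmin : ∀ L : Subgroup Γ, L.Normal → L ≤ Y → L = ⊥ ∨ L = Y := by
      intro L hLn hLY
      by_cases hL1 : L = ⊥
      · exact Or.inl hL1
      · exact Or.inr (le_antisymm hLY (hYmin ⟨hLn, hLY.trans hYX, hL1⟩ hLY))
    haveI hsolvX : Group.IsSolvable ↥X := hsolv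
    have hsolvY : Group.IsSolvable ↥Y := isSolvable_of_le hYX
    obtain ⟨ℓ, hℓ, hYℓ⟩ := Cfsg.Agent.Lib.Helper4.SF.isPGroup_of_minNormal_solvable hY1 hmin hsolvY
    haveI : Fact ℓ.Prime := ⟨hℓ⟩
    have hYab : ∀ a ∈ Y, ∀ b ∈ Y, a * b = b * a :=
      Cfsg.Agent.Lib.Helper7.PUD.abelian_of_minNormal_solvable hY1
        (fun L hL hL1 hLY => (hmin L hL hLY).resolve_left hL1) hsolvY
    -- the quotient
    set π := QuotientGroup.mk' Y with hπ
    have hπs : Function.Surjective π := QuotientGroup.mk'_surjective Y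
    have hker : π.ker = Y := QuotientGroup.ker_mk' Y
    haveI hX'n : (X.map π).Normal := hXn.map π hπs
    have hlt : Nat.card ↥(X.map π) < Nat.card X :=
      Cfsg.Agent.Lib.Helper4.SF.card_map_lt hYX hY1
    have hodd' : Odd (Nat.card (Γ ⧸ Y)) := by
      obtain ⟨c, hc⟩ := Subgroup.card_quotient_dvd_card Y
      rw [hc] at hodd
      exact (Nat.odd_mul.mp hodd).1
    have hsolv' : Group.IsSolvable ↥(X.map π) :=
      Group.isSolvable_of_surjective (π.subgroupMap_surjective X)
    have hcop' : (Nat.card ↥(K.map π)).Coprime (Nat.card ↥(X.map π)) :=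
      Nat.Coprime.coprime_dvd_left (Subgroup.card_map_dvd K π)
        (Nat.Coprime.coprime_dvd_right (Subgroup.card_map_dvd X π) hcop)
    have hπK : ∀ k ∈ K, π k = 1 → k = 1 := by
      intro k hk h1
      have hkY : k ∈ Y := by
        rw [← hker]; exact h1
      have : k ∈ K ⊓ X := ⟨hk, hYX hkY⟩
      rwa [hKX, Subgroup.mem_bot] at this
    have hK1' : K.map π ≠ ⊥ := by
      intro h0
      obtain ⟨⟨k, hk⟩, hk1⟩ := (Subgroup.ne_bot_iff_exists_ne_one).mp hK1
      apply hk1
      apply Subtype.ext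
      apply hπK k hk
      have : π k ∈ K.map π := ⟨k, hk, rfl⟩
      rwa [h0, Subgroup.mem_bot] at this
    have hfp : ∀ A : Subgroup Γ, A ≤ K →
        X.map π ⊓ Subgroup.centralizer ((A.map π : Subgroup (Γ ⧸ Y)) : Set (Γ ⧸ Y)) =
          (X ⊓ Subgroup.centralizer (A : Set Γ)).map π := by
      intro A hAK
      exact map_inf_centralizer_of_coprime X A Y hYX
        (Nat.Coprime.coprime_dvd_left (Subgroup.card_dvd_of_le hAK) hcop) (Or.inr hsolv)
    have hsemi' : ∀ k' ∈ K.map π, k' ≠ 1 →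
        X.map π ⊓ Subgroup.centralizer ({k'} : Set (Γ ⧸ Y)) =
          X.map π ⊓ Subgroup.centralizer ((K.map π : Subgroup (Γ ⧸ Y)) : Set (Γ ⧸ Y)) := by
      rintro _ ⟨k, hk, rfl⟩ hk1
      have hk1' : k ≠ 1 := fun h => hk1 (by rw [h, map_one])
      rw [centralizer_singleton_eq, ← MonoidHom.map_zpowers,
        hfp (Subgroup.zpowers k) (Subgroup.zpowers_le.mpr hk), ← centralizer_singleton_eq,
        hsemi k hk hk1', hfp K le_rfl]
    have hcard' : Nat.card ↥(X.map π ⊓
        Subgroup.centralizer ((K.map π : Subgroup (Γ ⧸ Y)) : Set (Γ ⧸ Y))) ∣ q := by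
      rw [hfp K le_rfl]
      exact (Subgroup.card_map_dvd _ π).trans hcard
    have hXK' : ⁅X.map π, K.map π⁆ = X.map π := by
      rw [← Subgroup.map_commutator, hXK]
    obtain ⟨Q', hQ'n, hQ'X, hQ'q, hQ'idx⟩ := ih (X.map π) (K.map π) q (by omega) hodd' hsolv'
      hcop' hK1' hsemi' hcard' hXK'
    haveI := hQ'n
    set Q₁ := Q'.comap π with hQ₁
    haveI hQ₁n : Q₁.Normal := hQ'n.comap π
    have hYQ₁ : Y ≤ Q₁ := by
      rw [← hker]; exact Subgroup.ker_le_comap π Q'
    have hQ₁X : Q₁ ≤ X := by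
      have h1 : Q₁ ≤ (X.map π).comap π := Subgroup.comap_mono hQ'X
      rw [Subgroup.comap_map_eq, hker, sup_eq_left.mpr hYX] at h1
      exact h1
    have hQ₁map : Q₁.map π = Q' := Subgroup.map_comap_eq_self_of_surjective hπs Q'
    have hQ₁idx : ¬ q ∣ Q₁.relIndex X := by
      rw [hQ₁, Subgroup.relIndex_comap]; exact hQ'idx
    by_cases hℓq : ℓ = q
    · subst hℓq
      refine ⟨Q₁, hQ₁n, hQ₁X, ?_, hQ₁idx⟩
      apply hQ'q.comap_of_ker_isPGroup π
      rw [hker]; exact hYℓ
    -- `ℓ ≠ q`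
    set Ks := X ⊓ Subgroup.centralizer (K : Set Γ) with hKs
    have hKsq : IsPGroup q Ks := by
      rcases (Nat.dvd_prime hq.out).mp hcard with h | h
      · exact IsPGroup.of_card (n := 0) (by rw [h, pow_zero])
      · exact IsPGroup.of_card (n := 1) (by rw [h, pow_one])
    have hQ'top : X.map π ≤ Subgroup.normalizer (Q' : Set (Γ ⧸ Y)) := by
      rw [Subgroup.normalizer_eq_top_iff.mpr hQ'n]; exact le_top
    have hKsQ₁ : Ks ≤ Q₁ := by
      have h1 : Ks.map π ≤ Q' := le_of_normal_sylow hQ'X hQ'top hQ'q hQ'idx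
        (Subgroup.map_mono inf_le_left) (hKsq.map π)
      intro s hs
      exact h1 ⟨s, hs, rfl⟩
    have hKQ₁ : K ≤ Subgroup.normalizer (Q₁ : Set Γ) := by
      rw [Subgroup.normalizer_eq_top_iff.mpr hQ₁n]; exact le_top
    have hcopQ₁ : (Nat.card K).Coprime (Nat.card Q₁) :=
      Nat.Coprime.coprime_dvd_right (Subgroup.card_dvd_of_le hQ₁X) hcop
    have hsolvQ₁ : Group.IsSolvable ↥Q₁ := isSolvable_of_le hQ₁X
    have hKKs : K ≤ Subgroup.normalizer (Ks : Set Γ) := by
      have h1 : Ks ≤ Subgroup.centralizer (K : Set Γ) := inf_le_right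
      exact (Subgroup.le_centralizer_iff.mp h1).trans (Subgroup.centralizer_le_normalizer _)
    obtain ⟨P, hKsP, hKP⟩ := coprime_invariant_pgroup_le_sylow K Q₁ hKQ₁ hcopQ₁ (Or.inr hsolvQ₁) q
      Ks hKsQ₁ hKsq hKKs
    set Q := (P : Subgroup ↥Q₁).map Q₁.subtype with hQdef
    have hQq : IsPGroup q Q := P.2.map _
    have hQQ₁ : Q ≤ Q₁ := Subgroup.map_subtype_le _
    have hQidx : ¬ q ∣ Q.relIndex Q₁ := by
      have h2 : Q.relIndex Q₁ = (P : Subgroup ↥Q₁).index := by
        unfold Subgroup.relIndex Subgroup.subgroupOf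
        rw [hQdef, Subgroup.comap_map_eq_self_of_injective Q₁.subtype_injective]
      rw [h2]
      exact P.not_dvd_index
    -- `Q₁ = Y Q`
    have hYQ : Q₁ ≤ Y ⊔ Q := by
      have hle : Y ⊔ Q ≤ Q₁ := sup_le hYQ₁ hQQ₁
      have h1 : (Y ⊔ Q).relIndex Q₁ ∣ Q.relIndex Q₁ :=
        Dvd.intro_left _ (Subgroup.relIndex_mul_relIndex Q (Y ⊔ Q) Q₁ le_sup_right hle)
      have h2 : (Y ⊔ Q).relIndex Q₁ ∣ Y.relIndex Q₁ :=
        Dvd.intro_left _ (Subgroup.relIndex_mul_relIndex Y (Y ⊔ Q) Q₁ le_sup_left hle)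
      have h3 : Y.relIndex Q₁ = Nat.card Q' := by
        have e1 : π.ker.relIndex Q₁ = Y.relIndex Q₁ := congrArg (fun L => L.relIndex Q₁) hker
        rw [← e1, Subgroup.relIndex_ker, hQ₁map]
      obtain ⟨m, hm⟩ := IsPGroup.iff_card.mp hQ'q
      rw [h3, hm] at h2
      obtain ⟨j, -, hj⟩ := (Nat.dvd_prime_pow hq.out).mp h2
      have h4 : (Y ⊔ Q).relIndex Q₁ = 1 := by
        rcases Nat.eq_zero_or_pos j with h0 | h0
        · rw [hj, h0, pow_zero]
        · exfalso
          apply hQidx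
          refine dvd_trans ?_ h1
          rw [hj]
          exact dvd_pow_self q h0.ne'
      exact Subgroup.relIndex_eq_one.mp h4
    -- an element of prime order of `K`
    obtain ⟨k, hk, r, hr, hko, hrK⟩ := exists_prime_orderOf_mem hK1
    have hk1 : k ≠ 1 := by
      intro h
      rw [h, orderOf_one] at hko
      exact hr.one_lt.ne hko
    have hkr : k ^ r = 1 := by
      rw [← hko]; exact pow_orderOf_eq_one k
    have hrX : ¬ r ∣ Nat.card X := fun h =>
      (Nat.Prime.not_coprime_iff_dvd.mpr ⟨r, hr, hrK, h⟩) hcop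
    have hqr : q ≠ r := fun h => hrX (h ▸ hqX)
    have hℓY : ℓ ∣ Nat.card Y := by
      obtain ⟨m, hm⟩ := IsPGroup.iff_card.mp hYℓ
      rcases Nat.eq_zero_or_pos m with h0 | h0
      · exfalso
        rw [h0, pow_zero] at hm
        exact hY1 (Subgroup.card_eq_one.mp hm)
      · rw [hm]; exact dvd_pow_self ℓ h0.ne'
    have hrℓ : r ≠ ℓ := fun h => hrX (h ▸ hℓY.trans (Subgroup.card_dvd_of_le hYX))
    have hkQ : Subgroup.zpowers k ≤ Subgroup.normalizer (Q : Set Γ) :=
      (Subgroup.zpowers_le.mpr hk).trans hKP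
    have hCk : X ⊓ Subgroup.centralizer ((Subgroup.zpowers k : Subgroup Γ) : Set Γ) = Ks := by
      rw [← centralizer_singleton_eq]; exact hsemi k hk hk1
    have hCP : Y ⊓ Subgroup.centralizer ((Subgroup.zpowers k : Subgroup Γ) : Set Γ) = ⊥ := by
      have hle : Y ⊓ Subgroup.centralizer ((Subgroup.zpowers k : Subgroup Γ) : Set Γ) ≤ Ks := by
        rw [← hCk]; exact inf_le_inf_right _ hYX
      have hWℓ : IsPGroup ℓ ↥(Y ⊓ Subgroup.centralizer
          ((Subgroup.zpowers k : Subgroup Γ) : Set Γ)) := hYℓ.to_le inf_le_left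
      have hWq : IsPGroup q ↥(Y ⊓ Subgroup.centralizer
          ((Subgroup.zpowers k : Subgroup Γ) : Set Γ)) := hKsq.to_le hle
      have h1 := IsPGroup.disjoint_of_ne ℓ q hℓq _ _ hWℓ hWq
      exact disjoint_self.mp h1
    have hT : ⁅Q, Subgroup.zpowers k⁆ ≤ Subgroup.centralizer (Y : Set Γ) := by
      apply Cfsg.Agent.Lib.Helper4.HH.hh_pgroup Q Y k q r ℓ hq.out hr hℓ hqr (Ne.symm hℓq) hrℓ hQq hYℓ
        hkr _ _ hCP hq2
      · intro m hm
        exact (Subgroup.mem_normalizer_iff.mp (hkQ (Subgroup.mem_zpowers k)) m).mp hm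
      · intro g _ h hh
        exact hYn.conj_mem h hh g
    have hQdec : Q ≤ ⁅Q, Subgroup.zpowers k⁆ ⊔ Ks := by
      have hcopk : (Nat.card ↥(Subgroup.zpowers k)).Coprime (Nat.card Q) := by
        apply Nat.Coprime.coprime_dvd_left (Subgroup.card_dvd_of_le (Subgroup.zpowers_le.mpr hk))
        exact Nat.Coprime.coprime_dvd_right (Subgroup.card_dvd_of_le (hQQ₁.trans hQ₁X)) hcop
      have hsolvQ : Group.IsSolvable ↥Q := isSolvable_of_le (hQQ₁.trans hQ₁X)
      have h1 : ⁅Q, Subgroup.zpowers k⁆ ⊔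
          (Q ⊓ Subgroup.centralizer ((Subgroup.zpowers k : Subgroup Γ) : Set Γ)) = Q :=
        coprime_commutator_sup_centralizer (Subgroup.zpowers k) Q hkQ hcopk (Or.inr hsolvQ)
      have h2 : Q ⊓ Subgroup.centralizer ((Subgroup.zpowers k : Subgroup Γ) : Set Γ) ≤ Ks := by
        refine le_trans ?_ (le_of_eq hCk)
        exact inf_le_inf_right _ (hQQ₁.trans hQ₁X)
      exact le_trans (le_of_eq h1.symm) (sup_le_sup_left h2 _)
    by_cases hKsY : Ks ≤ Subgroup.centralizer (Y : Set Γ)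
    · -- `Q` centralizes `Y`
      have hQY : Q ≤ Subgroup.centralizer (Y : Set Γ) := hQdec.trans (sup_le hT hKsY)
      have hQ₁N : Q₁ ≤ Subgroup.normalizer (Q : Set Γ) := by
        refine hYQ.trans (sup_le ?_ Subgroup.le_normalizer)
        exact (Subgroup.le_centralizer_iff.mp hQY).trans (Subgroup.centralizer_le_normalizer _)
      have hQn : Q.Normal := by
        refine ⟨fun x hx g => ?_⟩
        have hP' : Q.map (MulAut.conj g).toMonoidHom ≤ Q := by
          apply le_of_normal_sylow hQQ₁ hQ₁N hQq hQidx _ (hQq.map _)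
          rintro _ ⟨y, hy, rfl⟩
          exact hQ₁n.conj_mem y (hQQ₁ hy) g
        exact hP' ⟨x, hx, rfl⟩
      refine ⟨Q, hQn, hQQ₁.trans hQ₁X, hQq, ?_⟩
      rw [← Subgroup.relIndex_mul_relIndex Q Q₁ X hQQ₁ hQ₁X]
      intro hd
      rcases (Nat.Prime.dvd_mul hq.out).mp hd with h | h
      · exact hQidx h
      · exact hQ₁idx h
    · -- contradiction
      exfalso
      set C₀ := Q₁ ⊓ Subgroup.centralizer (Y : Set Γ) with hC₀
      haveI hCYn : (Subgroup.centralizer (Y : Set Γ)).Normal := Subgroup.normal_centralizer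
      haveI hC₀n : C₀.Normal := Subgroup.normal_inf_normal _ _
      -- a non-identity element of `Ks` in `C(Y)` would put `Ks` in `C(Y)`
      have hKsC : ∀ s ∈ Ks, s ∈ Subgroup.centralizer (Y : Set Γ) → s = 1 := by
        intro s hs hsC
        by_contra hs1
        apply hKsY
        have h1 : Subgroup.zpowers s ≤ Ks := Subgroup.zpowers_le.mpr hs
        have h2 : Nat.card ↥(Subgroup.zpowers s) ∣ q :=
          (Subgroup.card_dvd_of_le h1).trans hcard
        have h3 : Nat.card ↥(Subgroup.zpowers s) ≠ 1 := by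
          intro h
          rw [Subgroup.card_eq_one, Subgroup.zpowers_eq_bot] at h
          exact hs1 h
        have h4 : Nat.card ↥(Subgroup.zpowers s) = q :=
          ((Nat.dvd_prime hq.out).mp h2).resolve_left h3
        have h5 : Subgroup.zpowers s = Ks := by
          apply Subgroup.eq_of_le_of_card_ge h1
          rw [h4]
          exact Nat.le_of_dvd hq.out.pos hcard
        rw [← h5]
        exact Subgroup.zpowers_le.mpr hsC
      have hYC₀ : Y ≤ C₀ := by
        refine le_inf hYQ₁ ?_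
        intro a ha
        rw [Subgroup.mem_centralizer_iff]
        intro b hb
        exact hYab b hb a ha
      have hTC₀ : ⁅Q, Subgroup.zpowers k⁆ ≤ C₀ := by
        refine le_inf ?_ hT
        refine le_trans ?_ hQQ₁
        exact Cfsg.Agent.Lib.Lead.commutator_le_left_of_le_normalizer Q (Subgroup.zpowers k) hkQ
      have hQ₁C₀ : Q₁ ≤ C₀ ⊔ Ks := by
        refine hYQ.trans (sup_le (hYC₀.trans le_sup_left) ?_)
        exact hQdec.trans (sup_le (hTC₀.trans le_sup_left) le_sup_right)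
      have hKQ₁C : ⁅K, Q₁⁆ ≤ C₀ := by
        rw [Subgroup.commutator_le]
        intro k' hk' z hz
        have hz' := hQ₁C₀ hz
        rw [Subgroup.mem_sup_of_normal_left] at hz'
        obtain ⟨c, hc, s, hs, rfl⟩ := hz'
        have hsk : k' * s = s * k' := (Subgroup.mem_centralizer_iff.mp hs.2) k' hk'
        have e : ⁅k', c * s⁆ = k' * c * k'⁻¹ * c⁻¹ := by
          rw [commutatorElement_def]
          calc k' * (c * s) * k'⁻¹ * (c * s)⁻¹ = k' * c * (s * k'⁻¹) * s⁻¹ * c⁻¹ := by group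
            _ = k' * c * (k'⁻¹ * s) * s⁻¹ * c⁻¹ := by
                have : s * k'⁻¹ = k'⁻¹ * s := by
                  calc s * k'⁻¹ = k'⁻¹ * (k' * s) * k'⁻¹ := by group
                    _ = k'⁻¹ * (s * k') * k'⁻¹ := by rw [hsk]
                    _ = k'⁻¹ * s := by group
                rw [this]
            _ = k' * c * k'⁻¹ * c⁻¹ := by group
        rw [e]
        exact C₀.mul_mem (hC₀n.conj_mem c hc k') (C₀.inv_mem hc)
      have h3s : ⁅⁅X, K⁆, Q₁⁆ ≤ C₀ := by
        apply Cfsg.Agent.Lib.Helper4.three_subgroups_le X K Q₁ C₀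
        · exact (Subgroup.commutator_mono hKQ₁C le_rfl).trans (Subgroup.commutator_le_left C₀ X)
        · have h1 : ⁅Q₁, X⁆ ≤ Q₁ := Subgroup.commutator_le_left Q₁ X
          refine (Subgroup.commutator_mono h1 le_rfl).trans ?_
          rw [Subgroup.commutator_comm]
          exact hKQ₁C
      rw [hXK] at h3s
      -- the fixed points lie in the derived subgroup
      have hKX : K ≤ Subgroup.normalizer (X : Set Γ) := by
        rw [Subgroup.normalizer_eq_top_iff.mpr hXn]; exact le_top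
      have hder : Ks ≤ ⁅X, X⁆ :=
        Cfsg.Agent.Lib.Helper7.centralizer_le_commutator_of_commutator_eq X K hKX hcop hXK
      -- a non-identity element of `Ks`
      have hKs1 : Ks ≠ ⊥ := by
        intro h0
        apply hKsY
        rw [h0]
        exact bot_le
      obtain ⟨⟨s, hs⟩, hs1⟩ := (Subgroup.ne_bot_iff_exists_ne_one).mp hKs1
      have hs1' : s ≠ 1 := fun h => hs1 (Subtype.ext h)
      -- the quotient by `C₀`
      set π₀ := QuotientGroup.mk' C₀ with hπ₀
      have hker₀ : π₀.ker = C₀ := QuotientGroup.ker_mk' C₀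
      have hsX : π₀ s ∈ X.map π₀ := ⟨s, hs.1, rfl⟩
      have hcen : (Q₁.map π₀).subgroupOf (X.map π₀) ≤ Subgroup.center ↥(X.map π₀) := by
        rintro ⟨z, hzX⟩ hz
        rw [Subgroup.mem_subgroupOf] at hz
        obtain ⟨a, ha, rfl⟩ := hz
        rw [Subgroup.mem_center_iff]
        rintro ⟨_, ⟨x, hx, rfl⟩⟩
        apply Subtype.ext
        show π₀ x * π₀ a = π₀ a * π₀ x
        have h1 : ⁅x, a⁆ ∈ C₀ := h3s (Subgroup.commutator_mem_commutator hx ha)
        have h2 : π₀ ⁅x, a⁆ = 1 := by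
          rw [hπ₀, QuotientGroup.mk'_apply, QuotientGroup.eq_one_iff]
          exact h1
        rw [commutatorElement_def, map_mul, map_mul, map_mul, map_inv, map_inv] at h2
        calc π₀ x * π₀ a = (π₀ x * π₀ a * (π₀ x)⁻¹ * (π₀ a)⁻¹) * π₀ a * π₀ x := by group
          _ = π₀ a * π₀ x := by rw [h2, one_mul]
      have hSq : IsPGroup q ↥((Q₁.map π₀).subgroupOf (X.map π₀)) := by
        have h1 : Q₁.map π₀ ≤ Ks.map π₀ := by
          refine (Subgroup.map_mono hQ₁C₀).trans ?_
          rw [Subgroup.map_sup]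
          refine sup_le ?_ le_rfl
          have : C₀.map π₀ = ⊥ := by
            rw [Subgroup.map_eq_bot_iff, hker₀]
          rw [this]
          exact bot_le
        have h2 : IsPGroup q ↥(Q₁.map π₀) := (hKsq.map π₀).to_le h1
        exact h2.comap_of_injective (X.map π₀).subtype (Subgroup.subtype_injective _)
      have hSidx : ¬ q ∣ ((Q₁.map π₀).subgroupOf (X.map π₀)).index := by
        have h1 : ((Q₁.map π₀).subgroupOf (X.map π₀)).index = Q₁.relIndex X := by
          have e1 : (Q₁.map π₀).comap π₀ = Q₁ := by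
            rw [Subgroup.comap_map_eq, hker₀]
            exact sup_eq_left.mpr inf_le_left
          have e2 := Subgroup.relIndex_comap (H := Q₁.map π₀) π₀ X
          rw [e1] at e2
          exact e2.symm
        rw [h1]
        exact hQ₁idx
      have hbot := inf_commutator_eq_bot_of_central ((Q₁.map π₀).subgroupOf (X.map π₀)) hSq hcen hSidx
      have hmem : (⟨π₀ s, hsX⟩ : ↥(X.map π₀)) ∈
          (Q₁.map π₀).subgroupOf (X.map π₀) ⊓ commutator ↥(X.map π₀) := by
        refine ⟨?_, ?_⟩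
        · apply Subgroup.mem_subgroupOf.mpr
          exact ⟨s, hKsQ₁ hs, rfl⟩
        · have h1 : π₀ s ∈ (⁅X, X⁆).map π₀ := ⟨s, hder hs, rfl⟩
          rw [Subgroup.map_commutator, ← Subgroup.map_subtype_commutator] at h1
          obtain ⟨c, hc, hcs⟩ := h1
          have : c = ⟨π₀ s, hsX⟩ := Subtype.ext hcs
          rw [← this]
          exact hc
      rw [hbot, Subgroup.mem_bot] at hmem
      have h1 : π₀ s = 1 := congrArg Subtype.val hmem
      have h2 : s ∈ C₀ := by
        rw [← hker₀]; exact h1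
      exact hs1' (hKsC s hs h2.2)

/-- **Lemma B**: a solvable normal subgroup `X` of a group `Γ` of odd order, with a coprime operator
group `K ≠ 1` such that `C_X(k) = C_X(K)` has order dividing the prime `q` for all `k ∈ K#` and
`[X, K] = X`, has a normal Sylow `q`-subgroup -/
theorem exists_normal_sylow_of_semiprime {Γ : Type u} [Group Γ] [Finite Γ] (X K : Subgroup Γ)
    [X.Normal] (q : ℕ) [Fact q.Prime] (hodd : Odd (Nat.card Γ)) (hsolv : Group.IsSolvable X)
    (hcop : (Nat.card K).Coprime (Nat.card X)) (hK1 : K ≠ ⊥)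
    (hsemi : ∀ k ∈ K, k ≠ 1 → X ⊓ Subgroup.centralizer ({k} : Set Γ) =
      X ⊓ Subgroup.centralizer (K : Set Γ))
    (hcard : Nat.card ↥(X ⊓ Subgroup.centralizer (K : Set Γ)) ∣ q) (hXK : ⁅X, K⁆ = X) :
    ∃ Q : Subgroup Γ, Q.Normal ∧ Q ≤ X ∧ IsPGroup q Q ∧ ¬ q ∣ Q.relIndex X :=
  exists_normal_sylow_aux (Nat.card X) X K q le_rfl hodd hsolv hcop hK1 hsemi hcard hXK

end Cfsg.Agent.Lib.Helper4.BG23
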