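import Mathlib
import Cfsg.Agent.Lib.Helper4.BG23b

set_option autoImplicit false
set_option linter.style.haveILetI false
set_option linter.unusedSectionVars false
set_option maxHeartbeats 1600000

/-! Lemma B for subgroups `X, K ≤ M` of an ambient group `G`. -/

namespace Cfsg.Agent.Lib.Helper4.BG23

open Cfsg.Agent.Lib.Lead
open scoped commutatorElement

universe u

variable {G : Type u} [Group G] [Finite G]

/-- membership in the centralizer of an element, inside a subgroup -/
theorem mem_centralizer_singleton_subtype {M : Subgroup G} (k z : ↥M) :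
    z ∈ Subgroup.centralizer ({k} : Set ↥M) ↔
      (z : G) ∈ Subgroup.centralizer ({(k : G)} : Set G) := by
  rw [Subgroup.mem_centralizer_iff, Subgroup.mem_centralizer_iff]
  constructor
  · intro h a ha
    rw [Set.mem_singleton_iff] at ha
    rw [ha]
    exact congrArg Subtype.val (h k rfl)
  · intro h a ha
    rw [Set.mem_singleton_iff] at ha
    rw [ha]
    exact Subtype.ext (h (k : G) rfl)

/-- membership in the centralizer of a subgroup, inside a subgroup -/
theorem mem_centralizer_subgroupOf {M K : Subgroup G} (hKM : K ≤ M) (z : ↥M) :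
    z ∈ Subgroup.centralizer ((K.subgroupOf M : Subgroup ↥M) : Set ↥M) ↔
      (z : G) ∈ Subgroup.centralizer (K : Set G) := by
  rw [Subgroup.mem_centralizer_iff, Subgroup.mem_centralizer_iff]
  constructor
  · intro h a ha
    exact congrArg Subtype.val (h ⟨a, hKM ha⟩ (Subgroup.mem_subgroupOf.mpr ha))
  · intro h a ha
    exact Subtype.ext (h (a : G) (Subgroup.mem_subgroupOf.mp ha))

theorem card_subgroupOf_eq {M L : Subgroup G} (hLM : L ≤ M) :
    Nat.card ↥(L.subgroupOf M) = Nat.card L :=
  Nat.card_congr (Subgroup.subgroupOfEquivOfLe hLM).toEquiv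

/-- **Lemma B** for subgroups of an ambient group -/
theorem exists_normal_sylow_of_semiprime' (M X K : Subgroup G) (q : ℕ) [hq : Fact q.Prime]
    (hXM : X ≤ M) (hKM : K ≤ M) (hMX : M ≤ Subgroup.normalizer (X : Set G))
    (hodd : Odd (Nat.card M)) (hsolv : Group.IsSolvable X)
    (hcop : (Nat.card K).Coprime (Nat.card X)) (hK1 : K ≠ ⊥)
    (hsemi : ∀ k ∈ K, k ≠ 1 → X ⊓ Subgroup.centralizer ({k} : Set G) =
      X ⊓ Subgroup.centralizer (K : Set G))
    (hcard : Nat.card ↥(X ⊓ Subgroup.centralizer (K : Set G)) ∣ q) (hXK : ⁅X, K⁆ = X) :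
    ∃ Q : Subgroup G, Q ≤ X ∧ M ≤ Subgroup.normalizer (Q : Set G) ∧ IsPGroup q Q ∧
      ¬ q ∣ Q.relIndex X := by
  haveI hXn : (X.subgroupOf M).Normal := Subgroup.normal_subgroupOf_of_le_normalizer hMX
  have hsolv' : Group.IsSolvable ↥(X.subgroupOf M) :=
    solvable_of_solvable_injective (f := (Subgroup.subgroupOfEquivOfLe hXM).toMonoidHom)
      (Subgroup.subgroupOfEquivOfLe hXM).injective
  have hcop' : (Nat.card ↥(K.subgroupOf M)).Coprime (Nat.card ↥(X.subgroupOf M)) := by
    rw [card_subgroupOf_eq hKM, card_subgroupOf_eq hXM]; exact hcop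
  have hK1' : K.subgroupOf M ≠ ⊥ := by
    intro h0
    apply hK1
    rw [eq_bot_iff]
    intro k hk
    have : (⟨k, hKM hk⟩ : ↥M) ∈ K.subgroupOf M := Subgroup.mem_subgroupOf.mpr hk
    rw [h0, Subgroup.mem_bot] at this
    rw [Subgroup.mem_bot]
    exact congrArg Subtype.val this
  have hfixK : X.subgroupOf M ⊓
      Subgroup.centralizer ((K.subgroupOf M : Subgroup ↥M) : Set ↥M) =
        (X ⊓ Subgroup.centralizer (K : Set G)).subgroupOf M := by
    ext z
    rw [Subgroup.mem_inf, Subgroup.mem_subgroupOf, Subgroup.mem_subgroupOf, Subgroup.mem_inf,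
      mem_centralizer_subgroupOf hKM]
  have hsemi' : ∀ k ∈ K.subgroupOf M, k ≠ 1 →
      X.subgroupOf M ⊓ Subgroup.centralizer ({k} : Set ↥M) =
        X.subgroupOf M ⊓ Subgroup.centralizer ((K.subgroupOf M : Subgroup ↥M) : Set ↥M) := by
    intro k hk hk1
    have hk' : (k : G) ∈ K := Subgroup.mem_subgroupOf.mp hk
    have hk1' : (k : G) ≠ 1 := fun h => hk1 (Subtype.ext h)
    rw [hfixK]
    ext z
    rw [Subgroup.mem_inf, Subgroup.mem_subgroupOf, Subgroup.mem_subgroupOf,
      mem_centralizer_singleton_subtype, ← hsemi (k : G) hk' hk1', Subgroup.mem_inf]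
  have hcard' : Nat.card ↥(X.subgroupOf M ⊓
      Subgroup.centralizer ((K.subgroupOf M : Subgroup ↥M) : Set ↥M)) ∣ q := by
    rw [hfixK, card_subgroupOf_eq (inf_le_left.trans hXM)]
    exact hcard
  have hXK' : ⁅X.subgroupOf M, K.subgroupOf M⁆ = X.subgroupOf M := by
    apply Subgroup.map_injective M.subtype_injective
    rw [Subgroup.map_commutator, Subgroup.map_subgroupOf_eq_of_le hXM,
      Subgroup.map_subgroupOf_eq_of_le hKM, hXK]
  obtain ⟨Q', hQ'n, hQ'X, hQ'q, hQ'idx⟩ := exists_normal_sylow_of_semiprime (X.subgroupOf M)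
    (K.subgroupOf M) q hodd hsolv' hcop' hK1' hsemi' hcard' hXK'
  haveI := hQ'n
  refine ⟨Q'.map M.subtype, ?_, ?_, hQ'q.map _, ?_⟩
  · rw [← Subgroup.map_subgroupOf_eq_of_le hXM]
    exact Subgroup.map_mono hQ'X
  · have h1 := Subgroup.le_normalizer_map (H := Q') M.subtype
    rw [Subgroup.normalizer_eq_top Q', ← MonoidHom.range_eq_map, Subgroup.range_subtype] at h1
    exact h1
  · have h1 : (Q'.map M.subtype).relIndex X = Q'.relIndex (X.subgroupOf M) := by
      have e := Subgroup.relIndex_map_map_of_injective Q' (X.subgroupOf M) M.subtype_injective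
      rw [Subgroup.map_subgroupOf_eq_of_le hXM] at e
      exact e
    rw [h1]
    exact hQ'idx

end Cfsg.Agent.Lib.Helper4.BG23
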