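import Mathlib
import Cfsg.Agent.Lib.Helper4.BG23c
import Cfsg.Agent.Lib.Helper4.BG22d
import Cfsg.Agent.S1373
import Cfsg.Agent.S1426
import Cfsg.Agent.S1429
import Cfsg.Agent.S1414

set_option autoImplicit false
set_option linter.style.haveILetI false
set_option linter.unusedSectionVars false
set_option maxHeartbeats 1600000

/-! Bender–Glauberman Theorem 15.2: a maximal subgroup `M` with `M_F ≠ M_σ` is of type `P₁`, and
`M_σ` has a normal Sylow `q`-subgroup for `q = |C_{M_σ}(K)|`. -/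

namespace Cfsg.Agent.Lib.Helper4.BG23

open Cfsg Cfsg.Agent.Lib.Lead Cfsg.Agent.Lib.Lead.BG10 Cfsg.Agent.Lib.Helper7 Cfsg.Agent.Lib.Helper4
open Cfsg.Agent.Lib.Helper4.BG76 Cfsg.Agent.Lib.Helper4.BG8 Cfsg.Agent.Lib.Helper4.BG9
open Cfsg.Agent.Lib.Helper4.BG7 Cfsg.Agent.Lib.Helper4.BG12 Cfsg.Agent.Lib.Helper4.BGConj
open Cfsg.Agent.Lib.Helper4.BG13 Cfsg.Agent.Lib.Lead.BG95 Cfsg.Agent.Lib.Lead.BG12q
open Cfsg.Agent.Lib.Lead.BG11 Cfsg.Agent.Lib.Lead.BG13q Cfsg.Agent.Lib.Helper4.BG18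
open Cfsg.Agent.Lib.Helper2.BG12 Cfsg.Agent.Lib.Helper6 Cfsg.Agent.Lib.Helper2.BG13x
open Cfsg.Agent.Lib.Helper2.BG14y Cfsg.Agent.Lib.Helper4.BG14 Cfsg.Agent.Lib.Helper5.BG139
open Cfsg.Agent.Lib.Helper2.BG14z Cfsg.Agent.Lib.Lead.BG14n Cfsg.Agent.Lib.Helper4.BG21
open Cfsg.Agent.Lib.Helper4.BG22
open scoped commutatorElement

universe u

variable {G : Type u} [Group G] [Finite G]

/-- `M' < M` -/
theorem commutator_lt (hG : IsMinSimpleOddOrder G) {M : Subgroup G} (hM : IsCoatom M) :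
    ⁅M, M⁆ < M := by
  haveI : Group.IsSolvable ↥M := solvable_of_ne_top hG hM.1
  have hM1 : M ≠ ⊥ := fun h =>
    Cfsg.Agent.Lib.Helper2.BG11.sigmaCore_ne_bot hG hM (by
      rw [eq_bot_iff, ← h]; exact sigmaCore_le M)
  haveI : Nontrivial ↥M := (Subgroup.nontrivial_iff_ne_bot M).mpr hM1
  have h1 : commutator ↥M < ⊤ := IsSolvable.commutator_lt_top_of_nontrivial ↥M
  rw [← Subgroup.map_subtype_commutator]
  have h2 : (commutator ↥M).map M.subtype < (⊤ : Subgroup ↥M).map M.subtype :=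
    (Subgroup.map_lt_map_iff_of_injective M.subtype_injective).mpr h1
  rwa [← MonoidHom.range_eq_map, Subgroup.range_subtype] at h2

/-- **Theorem 15.2(a)**: if `M_F ≠ M_σ` then `M_σ` is not nilpotent, `U = 1`, `K ≠ 1`,
`M = K M_σ` and `M' = M_σ` -/
theorem p1_of_fittingHall_ne (hG : IsMinSimpleOddOrder G) {M K U : Subgroup G} (hM : IsCoatom M)
    (hKU : IsSigmaDecomposition M K U) (hne : fittingHallOf M ≠ sigmaCore M) :
    ¬ Group.IsNilpotent ↥(sigmaCore M) ∧ U = ⊥ ∧ K ≠ ⊥ ∧ IsComplIn K (sigmaCore M) M ∧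
      ⁅M, M⁆ = sigmaCore M := by
  have hnn : ¬ Group.IsNilpotent ↥(sigmaCore M) := fun h =>
    hne (sigmaCore_eq_fittingHallOf hG hM h).symm
  have hP1 : ∀ q : ℕ, q.Prime → q ∣ Nat.card M → q ∉ sigma M → q ∈ kappa M := by
    by_contra hcon
    have hcon' := hcon
    push Not at hcon
    obtain ⟨p, hp, hpM, hpσ, hpκ⟩ := hcon
    haveI : Fact p.Prime := ⟨hp⟩
    obtain ⟨S⟩ : Nonempty (Sylow p ↥M) := inferInstance
    have := Cfsg.Agent.S1429.result hG M hM hcon' p hpM (fun h => h.elim hpσ hpκ) S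
    exact hnn this.2.2
  have hU : U = ⊥ := by
    by_contra hU1
    have hc : Nat.card U ≠ 1 := fun h => hU1 (Subgroup.card_eq_one.mp h)
    obtain ⟨p, hp, hpd⟩ := Nat.exists_prime_and_dvd hc
    have hpM : p ∣ Nat.card M := hpd.trans (Subgroup.card_dvd_of_le hKU.compl.1)
    exact sd_not_kappa hKU hp hpd (hP1 p hp hpM (sd_not_sigma hKU hG hM hp hpd))
  have hc := sd_isComplIn_K hG hM hKU
  rw [hU, bot_sup_eq] at hc
  have hK1 : K ≠ ⊥ := by
    intro hK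
    have h1 : M ≤ sigmaCore M := by
      intro m hm
      obtain ⟨k, hk, s, hs, rfl⟩ := hc.2.2.2 m hm
      rw [hK, Subgroup.mem_bot] at hk
      rw [hk, one_mul]
      exact hs
    have h2 := (sigmaCore_le_commutator hG hM).trans_lt (commutator_lt hG hM)
    exact absurd (h1.trans_lt h2) (lt_irrefl _)
  refine ⟨hnn, hU, hK1, hc, ?_⟩
  have := sd_commutator_eq hG hM hKU hK1
  rwa [hU, bot_sup_eq] at this

/-- **Theorem 15.2(c)**: the normal Sylow `q`-subgroup of `M`, `q = |C_{M_σ}(K)|` -/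
theorem exists_normal_sylow_sigmaCore (hG : IsMinSimpleOddOrder G) {M K U : Subgroup G}
    (hM : IsCoatom M) (hKU : IsSigmaDecomposition M K U)
    (hne : fittingHallOf M ≠ sigmaCore M) :
    (Nat.card ↥(sigmaCore M ⊓ Subgroup.centralizer (K : Set G))).Prime ∧
    ∃ Q : Subgroup G, Q ≤ sigmaCore M ∧ M ≤ Subgroup.normalizer (Q : Set G) ∧
      IsPGroup (Nat.card ↥(sigmaCore M ⊓ Subgroup.centralizer (K : Set G))) Q ∧
      ¬ Nat.card ↥(sigmaCore M ⊓ Subgroup.centralizer (K : Set G)) ∣ Q.relIndex (sigmaCore M) := by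
  obtain ⟨hnn, hU, hK1, hc, hder⟩ := p1_of_fittingHall_ne hG hM hKU hne
  have hq := Cfsg.Agent.S1373.result hG M hM K U hKU hK1 hU
  haveI : Fact (Nat.card ↥(sigmaCore M ⊓ Subgroup.centralizer (K : Set G))).Prime := ⟨hq⟩
  refine ⟨hq, ?_⟩
  have d := Cfsg.Agent.Lib.Helper2.BG14v.kdata' hG hM hKU.hall hK1
  have hXK : ⁅sigmaCore M, K⁆ = sigmaCore M := (Cfsg.Agent.S1426.result hG M hM K hc).2.1
  exact exists_normal_sylow_of_semiprime' M (sigmaCore M) K _ (sigmaCore_le M) hKU.hall.1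
    (le_normalizer_sigmaCore M) (odd_card_sub hG M)
    (solvable_of_ne_top hG (ne_top_of_le_ne_top hM.1 (sigmaCore_le M)))
    (coprime_card_kappa_hall hG hM hKU.hall) hK1 d.semiprime dvd_rfl hXK

end Cfsg.Agent.Lib.Helper4.BG23
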