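import Mathlib
import Cfsg.Agent.Lib.Helper4.BG23d
import Cfsg.Agent.Lib.Helper7.CoprimeHall
import Cfsg.Agent.S1545
import Cfsg.Agent.Lib.Helper4.BG22a
import Cfsg.Agent.Lib.Helper4.BG7f
import Cfsg.Agent.Lib.Lead.Frattini
import Cfsg.Agent.Lib.Lead.CoprimeFrattini

set_option autoImplicit false
set_option linter.style.haveILetI false
set_option linter.unusedSectionVars false
set_option maxHeartbeats 1600000

/-! Bender–Glauberman Theorem 15.2, abstract part: a cyclic group `K` acting coprimely and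
semiprimely on a solvable non-nilpotent group `X = Q ⋊ D` with a normal Sylow `q`-subgroup `Q`,
`|C_X(K)| = q`. -/

namespace Cfsg.Agent.Lib.Helper4.BG23

open Cfsg Cfsg.Agent.Lib.Lead Cfsg.Agent.Lib.Helper7 Cfsg.Agent.Lib.Helper4
open Cfsg.Agent.Lib.Helper4.BG14 Cfsg.Agent.Lib.Helper4.BG22
open scoped commutatorElement Pointwise

universe u

variable {Γ : Type u} [Group Γ] [Finite Γ]

/-- the abstract configuration of Theorem 15.2 -/
structure Cfg (K X Q : Subgroup Γ) (q : ℕ) : Prop where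
  hq : q.Prime
  hKX : K ≤ Subgroup.normalizer (X : Set Γ)
  hcop : (Nat.card K).Coprime (Nat.card X)
  hsolv : Group.IsSolvable ↥X
  hK1 : K ≠ ⊥
  hsemi : ∀ k ∈ K, k ≠ 1 → X ⊓ Subgroup.centralizer ({k} : Set Γ) =
    X ⊓ Subgroup.centralizer (K : Set Γ)
  hcard : Nat.card ↥(X ⊓ Subgroup.centralizer (K : Set Γ)) = q
  hQX : Q ≤ X
  hXQ : X ≤ Subgroup.normalizer (Q : Set Γ)
  hKQ : K ≤ Subgroup.normalizer (Q : Set Γ)
  hQ : IsPGroup q Q
  hQs : ¬ q ∣ Q.relIndex X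
  hnn : ¬ Group.IsNilpotent ↥X

/-- a product of two commuting nilpotent subgroups is nilpotent -/
theorem nilpotent_of_commuting_compl {Q D X : Subgroup Γ} (hD : IsComplIn Q D X)
    (hQn : Group.IsNilpotent ↥Q) (hDn : Group.IsNilpotent ↥D)
    (hc : Q ≤ Subgroup.centralizer (D : Set Γ)) : Group.IsNilpotent ↥X := by
  have comm : ∀ (a : ↥Q) (b : ↥D), Commute (Subgroup.inclusion hD.1 a) (Subgroup.inclusion hD.2.1 b) := by
    intro a b
    apply Subtype.ext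
    have := Subgroup.mem_centralizer_iff.mp (hc a.2) b.1 b.2
    simpa using this.symm
  let f : ↥Q × ↥D →* ↥X :=
    MonoidHom.noncommCoprod (Subgroup.inclusion hD.1) (Subgroup.inclusion hD.2.1) comm
  have hf : Function.Surjective f := by
    rintro ⟨x, hx⟩
    obtain ⟨a, ha, b, hb, rfl⟩ := hD.2.2.2 x hx
    exact ⟨(⟨a, ha⟩, ⟨b, hb⟩), Subtype.ext (by simp [f, MonoidHom.noncommCoprod_apply])⟩
  exact Group.nilpotent_of_surjective f hf

/-- a subgroup meets a subgroup of prime order trivially or contains it -/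
theorem inf_eq_bot_or_le_of_prime {A T : Subgroup Γ} (hA : (Nat.card A).Prime) :
    T ⊓ A = ⊥ ∨ A ≤ T := by
  have h1 : Nat.card ↥(T ⊓ A) ∣ Nat.card A := Subgroup.card_dvd_of_le inf_le_right
  rcases (Nat.dvd_prime hA).mp h1 with h | h
  · left; exact Subgroup.card_eq_one.mp h
  · right
    have : T ⊓ A = A := Subgroup.eq_of_le_of_card_ge inf_le_right (le_of_eq h.symm)
    rw [← this]; exact inf_le_left

/-- the Frattini subgroup of `Q` is non-generating, internal form -/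
theorem eq_of_le_sup_frattini {Q Q₀ : Subgroup Γ} (hQ₀ : Q₀ ≤ Q)
    (h : Q ≤ Q₀ ⊔ (frattini ↥Q).map Q.subtype) : Q₀ = Q := by
  have h1 : Q₀.subgroupOf Q ⊔ frattini ↥Q = ⊤ := by
    apply Subgroup.map_injective Q.subtype_injective
    rw [Subgroup.map_sup, Subgroup.map_subgroupOf_eq_of_le hQ₀, ← MonoidHom.range_eq_map,
      Subgroup.range_subtype]
    exact le_antisymm (sup_le hQ₀ (Subgroup.map_subtype_le _)) h
  have h2 := frattini_nongenerating h1
  exact le_antisymm hQ₀ (Subgroup.subgroupOf_eq_top.mp h2)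

theorem mem_cjs_iff (x g : Γ) (D : Subgroup Γ) :
    g ∈ MulAut.conj x • D ↔ x⁻¹ * g * x ∈ D := by
  rw [Subgroup.mem_pointwise_smul_iff_inv_smul_mem]
  simp [MulAut.smul_def]

theorem conj_mem_centralizer_cjs_iff (x g : Γ) (D : Subgroup Γ) :
    x * g * x⁻¹ ∈ Subgroup.centralizer ((MulAut.conj x • D : Subgroup Γ) : Set Γ) ↔
      g ∈ Subgroup.centralizer (D : Set Γ) := by
  constructor
  · intro h
    apply Subgroup.mem_centralizer_iff.mpr
    intro d hd
    have h1 : x * d * x⁻¹ ∈ MulAut.conj x • D := by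
      rw [mem_cjs_iff]
      have : x⁻¹ * (x * d * x⁻¹) * x = d := by group
      rw [this]; exact hd
    have h2 := Subgroup.mem_centralizer_iff.mp h _ h1
    have h3 : x * (d * g) * x⁻¹ = x * (g * d) * x⁻¹ := by
      calc x * (d * g) * x⁻¹ = x * d * x⁻¹ * (x * g * x⁻¹) := by group
        _ = x * g * x⁻¹ * (x * d * x⁻¹) := h2
        _ = x * (g * d) * x⁻¹ := by group
    exact mul_left_cancel (mul_right_cancel h3)
  · intro h
    apply Subgroup.mem_centralizer_iff.mpr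
    intro d hd
    rw [SetLike.mem_coe, mem_cjs_iff] at hd
    have h2 := Subgroup.mem_centralizer_iff.mp h _ hd
    calc d * (x * g * x⁻¹) = x * ((x⁻¹ * d * x) * g) * x⁻¹ := by group
      _ = x * (g * (x⁻¹ * d * x)) * x⁻¹ := by rw [h2]
      _ = x * g * x⁻¹ * d := by group

theorem isComplIn_cjs {Q D X : Subgroup Γ} (hD : IsComplIn Q D X) {x : Γ} (hx : x ∈ X)
    (hXQ : X ≤ Subgroup.normalizer (Q : Set Γ)) : IsComplIn Q (MulAut.conj x • D) X := by
  refine ⟨hD.1, ?_, ?_, ?_⟩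
  · intro g hg
    rw [mem_cjs_iff] at hg
    have := X.mul_mem (X.mul_mem hx (hD.2.1 hg)) (X.inv_mem hx)
    have e : x * (x⁻¹ * g * x) * x⁻¹ = g := by group
    rwa [e] at this
  · rw [eq_bot_iff]
    intro g hg
    rw [Subgroup.mem_bot]
    have h1 : x⁻¹ * g * x ∈ Q := by
      have := (Subgroup.mem_normalizer_iff.mp (hXQ (X.inv_mem hx)) g).mp hg.1
      simpa using this
    have h2 : x⁻¹ * g * x ∈ Q ⊓ D := ⟨h1, (mem_cjs_iff x g D).mp hg.2⟩
    rw [hD.2.2.1, Subgroup.mem_bot] at h2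
    calc g = x * (x⁻¹ * g * x) * x⁻¹ := by group
      _ = 1 := by rw [h2]; group
  · intro m hm
    obtain ⟨a, ha, b, hb, hab⟩ := hD.2.2.2 (x⁻¹ * m * x)
      (X.mul_mem (X.mul_mem (X.inv_mem hx) hm) hx)
    refine ⟨x * a * x⁻¹, (Subgroup.mem_normalizer_iff.mp (hXQ hx) a).mp ha, x * b * x⁻¹, ?_, ?_⟩
    · rw [mem_cjs_iff]
      have : x⁻¹ * (x * b * x⁻¹) * x = b := by group
      rw [this]; exact hb
    · calc m = x * (x⁻¹ * m * x) * x⁻¹ := by group
        _ = x * (a * b) * x⁻¹ := by rw [hab]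
        _ = x * a * x⁻¹ * (x * b * x⁻¹) := by group

namespace Cfg

variable {K X Q D : Subgroup Γ} {q : ℕ}

theorem fix_le (c : Cfg K X Q q) : X ⊓ Subgroup.centralizer (K : Set Γ) ≤ Q := by
  haveI : Fact q.Prime := ⟨c.hq⟩
  refine le_of_normal_sylow c.hQX c.hXQ c.hQ c.hQs inf_le_left ?_
  exact IsPGroup.of_card (n := 1) (by rw [c.hcard, pow_one])

theorem card_D (c : Cfg K X Q q) (hD : IsComplIn Q D X) : Nat.card D = Q.relIndex X := by
  have h1 := card_mul_of_isComplIn hD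
  have h2 := Subgroup.relIndex_mul_relIndex ⊥ Q X bot_le c.hQX
  rw [Subgroup.relIndex_bot_left, Subgroup.relIndex_bot_left, h1] at h2
  exact (Nat.eq_of_mul_eq_mul_left Nat.card_pos h2).symm

theorem not_dvd_card_D (c : Cfg K X Q q) (hD : IsComplIn Q D X) : ¬ q ∣ Nat.card D := by
  rw [c.card_D hD]; exact c.hQs

theorem D_inf_fix (c : Cfg K X Q q) (hD : IsComplIn Q D X) :
    D ⊓ (X ⊓ Subgroup.centralizer (K : Set Γ)) = ⊥ := by
  rw [eq_bot_iff, ← hD.2.2.1]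
  exact le_inf (inf_le_right.trans c.fix_le) inf_le_left

theorem D_regular (c : Cfg K X Q q) (hD : IsComplIn Q D X) {k : Γ} (hk : k ∈ K) (hk1 : k ≠ 1) :
    D ⊓ Subgroup.centralizer ({k} : Set Γ) = ⊥ := by
  rw [eq_bot_iff, ← c.D_inf_fix hD, ← c.hsemi k hk hk1]
  exact le_inf inf_le_left (le_inf (inf_le_left.trans hD.2.1) inf_le_right)

theorem D_nilpotent (c : Cfg K X Q q) (hD : IsComplIn Q D X)
    (hKD : K ≤ Subgroup.normalizer (D : Set Γ)) : Group.IsNilpotent ↥D := by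
  obtain ⟨k, hk, r, hr, hord, -⟩ := exists_prime_orderOf_mem c.hK1
  have hk1 : k ≠ 1 := by
    intro h; rw [h, orderOf_one] at hord; exact hr.one_lt.ne hord
  exact Cfsg.Agent.Lib.Helper2.BG14.nilpotent_of_regular hr (by rw [← hord]; exact pow_orderOf_eq_one k)
    (hKD hk) (c.D_regular hD hk hk1)

theorem D_ne_bot (c : Cfg K X Q q) (hD : IsComplIn Q D X) : D ≠ ⊥ := by
  intro h
  apply c.hnn
  haveI : Fact q.Prime := ⟨c.hq⟩
  have hXQ : X ≤ Q := by
    intro x hx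
    obtain ⟨a, ha, b, hb, rfl⟩ := hD.2.2.2 x hx
    rw [h, Subgroup.mem_bot] at hb
    rw [hb, mul_one]; exact ha
  have : X = Q := le_antisymm hXQ c.hQX
  rw [this]
  exact c.hQ.isNilpotent

theorem q_dvd_card_X (c : Cfg K X Q q) : q ∣ Nat.card X := by
  rw [← c.hcard]; exact Subgroup.card_dvd_of_le inf_le_left

theorem q_coprime_card_K (c : Cfg K X Q q) : q.Coprime (Nat.card K) :=
  (Nat.Coprime.coprime_dvd_right c.q_dvd_card_X c.hcop).symm

theorem inf_centralizer_eq (c : Cfg K X Q q) {K₁ T : Subgroup Γ} (hK₁ : K₁ ≤ K) (hK₁1 : K₁ ≠ ⊥)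
    (hTX : T ≤ X) :
    T ⊓ Subgroup.centralizer (K₁ : Set Γ) = T ⊓ (X ⊓ Subgroup.centralizer (K : Set Γ)) := by
  obtain ⟨⟨k, hk⟩, hk1⟩ := (Subgroup.ne_bot_iff_exists_ne_one).mp hK₁1
  have hk1' : k ≠ 1 := fun h => hk1 (Subtype.ext h)
  apply le_antisymm
  · rw [← c.hsemi k (hK₁ hk) hk1']
    refine le_inf inf_le_left (le_inf (inf_le_left.trans hTX) ?_)
    exact inf_le_right.trans (Subgroup.centralizer_le (by simpa using hk))
  · exact le_inf inf_le_left ((inf_le_right.trans inf_le_right).trans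
      (Subgroup.centralizer_le (SetLike.coe_subset_coe.mpr hK₁)))

/-- the fixed point formula for a `D K₁`-invariant subgroup `T` of `Q` -/
theorem formula (c : Cfg K X Q q) (hD : IsComplIn Q D X)
    (hKD : K ≤ Subgroup.normalizer (D : Set Γ)) {K₁ T : Subgroup Γ} (hK₁ : K₁ ≤ K)
    (hK₁1 : K₁ ≠ ⊥) (hTQ : T ≤ Q) (hDT : D ≤ Subgroup.normalizer (T : Set Γ))
    (hKT : K₁ ≤ Subgroup.normalizer (T : Set Γ)) :
    Nat.card ↥(T ⊓ (X ⊓ Subgroup.centralizer (K : Set Γ)) ⊓ Subgroup.centralizer (D : Set Γ)) ^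
        Nat.card K₁ * Nat.card T =
      Nat.card ↥(T ⊓ (X ⊓ Subgroup.centralizer (K : Set Γ))) ^ Nat.card K₁ *
        Nat.card ↥(T ⊓ Subgroup.centralizer (D : Set Γ)) := by
  haveI : Fact q.Prime := ⟨c.hq⟩
  have hTX : T ≤ X := hTQ.trans c.hQX
  have hcopDK : (Nat.card K₁).Coprime (Nat.card D) :=
    Nat.Coprime.coprime_dvd_left (Subgroup.card_dvd_of_le hK₁)
      (Nat.Coprime.coprime_dvd_right (Subgroup.card_dvd_of_le hD.2.1) c.hcop)
  have hKD₁ : K₁ ≤ Subgroup.normalizer (D : Set Γ) := hK₁.trans hKD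
  have hdisj : K₁ ⊓ D = ⊥ := (Subgroup.disjoint_of_coprime_natCard hcopDK).eq_bot
  have hcardsup : Nat.card ↥(D ⊔ K₁ : Subgroup Γ) = Nat.card K₁ * Nat.card D := by
    rw [sup_comm]; exact card_sup_of_disjoint K₁ D hKD₁ hdisj
  have hTcop : (Nat.card T).Coprime (Nat.card ↥(D ⊔ K₁ : Subgroup Γ)) := by
    obtain ⟨n, hn⟩ := (c.hQ.to_le hTQ).exists_card_eq
    rw [hn, hcardsup]
    apply Nat.Coprime.pow_left
    apply Nat.Coprime.mul_right
    · exact Nat.Coprime.coprime_dvd_right (Subgroup.card_dvd_of_le hK₁) c.q_coprime_card_K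
    · exact (Nat.Prime.coprime_iff_not_dvd c.hq).mpr (c.not_dvd_card_D hD)
  haveI := c.hsolv
  have key := Cfsg.Agent.S1545.result D K₁ T (c.D_ne_bot hD) hK₁1 (by rw [inf_comm]; exact hdisj)
    (fun e he u hu => (Subgroup.mem_normalizer_iff.mp (hKD₁ he) u).mp hu)
    (fun e he he1 u hu hcomm => by
      have h1 : u ∈ D ⊓ Subgroup.centralizer ({e} : Set Γ) := by
        refine ⟨hu, ?_⟩
        apply Subgroup.mem_centralizer_iff.mpr
        intro y hy
        rw [Set.mem_singleton_iff] at hy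
        rw [hy]; exact hcomm
      rw [c.D_regular hD (hK₁ he) he1, Subgroup.mem_bot] at h1
      exact h1)
    (fun x hx t ht => (Subgroup.mem_normalizer_iff.mp ((sup_le hDT hKT) hx) t).mp ht)
    (Subgroup.disjoint_of_coprime_natCard hTcop).eq_bot
    (isSolvable_of_le hTX) hTcop
  rw [centralizer_sup_eq, ← inf_assoc, inf_right_comm, c.inf_centralizer_eq hK₁ hK₁1 hTX] at key
  exact key

theorem fix_inf_centralizer_D (c : Cfg K X Q q) (hD : IsComplIn Q D X)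
    (hKD : K ≤ Subgroup.normalizer (D : Set Γ)) :
    (X ⊓ Subgroup.centralizer (K : Set Γ)) ⊓ Subgroup.centralizer (D : Set Γ) = ⊥ := by
  haveI : Fact q.Prime := ⟨c.hq⟩
  rcases inf_eq_bot_or_le_of_prime (A := X ⊓ Subgroup.centralizer (K : Set Γ))
    (T := Subgroup.centralizer (D : Set Γ)) (by rw [c.hcard]; exact c.hq) with h | h
  · rw [inf_comm]; exact h
  · exfalso
    have key := c.formula hD hKD le_rfl c.hK1 le_rfl (hD.2.1.trans c.hXQ) c.hKQ
    have e1 : Q ⊓ (X ⊓ Subgroup.centralizer (K : Set Γ)) = X ⊓ Subgroup.centralizer (K : Set Γ) :=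
      inf_eq_right.mpr c.fix_le
    have e2 : Q ⊓ (X ⊓ Subgroup.centralizer (K : Set Γ)) ⊓ Subgroup.centralizer (D : Set Γ) =
        X ⊓ Subgroup.centralizer (K : Set Γ) := by rw [e1]; exact inf_eq_left.mpr h
    rw [e2, e1, c.hcard] at key
    have h3 : Nat.card Q = Nat.card ↥(Q ⊓ Subgroup.centralizer (D : Set Γ)) :=
      Nat.eq_of_mul_eq_mul_left (pow_pos c.hq.pos _) key
    have h4 : Q ⊓ Subgroup.centralizer (D : Set Γ) = Q :=
      Subgroup.eq_of_le_of_card_ge inf_le_left (le_of_eq h3)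
    have h5 : Q ≤ Subgroup.centralizer (D : Set Γ) := by rw [← h4]; exact inf_le_right
    exact c.hnn (nilpotent_of_commuting_compl hD c.hQ.isNilpotent (c.D_nilpotent hD hKD) h5)

/-- the simplified fixed point formula -/
theorem formula' (c : Cfg K X Q q) (hD : IsComplIn Q D X)
    (hKD : K ≤ Subgroup.normalizer (D : Set Γ)) {K₁ T : Subgroup Γ} (hK₁ : K₁ ≤ K)
    (hK₁1 : K₁ ≠ ⊥) (hTQ : T ≤ Q) (hDT : D ≤ Subgroup.normalizer (T : Set Γ))
    (hKT : K₁ ≤ Subgroup.normalizer (T : Set Γ)) :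
    Nat.card T =
      Nat.card ↥(T ⊓ (X ⊓ Subgroup.centralizer (K : Set Γ))) ^ Nat.card K₁ *
        Nat.card ↥(T ⊓ Subgroup.centralizer (D : Set Γ)) := by
  have key := c.formula hD hKD hK₁ hK₁1 hTQ hDT hKT
  have e : T ⊓ (X ⊓ Subgroup.centralizer (K : Set Γ)) ⊓ Subgroup.centralizer (D : Set Γ) = ⊥ := by
    rw [eq_bot_iff, ← c.fix_inf_centralizer_D hD hKD, inf_assoc]
    exact inf_le_right
  rw [e, Subgroup.card_bot, one_pow, one_mul] at key
  exact key

theorem card_Q (c : Cfg K X Q q) (hD : IsComplIn Q D X)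
    (hKD : K ≤ Subgroup.normalizer (D : Set Γ)) {K₁ : Subgroup Γ} (hK₁ : K₁ ≤ K)
    (hK₁1 : K₁ ≠ ⊥) :
    Nat.card Q = Nat.card ↥(Q ⊓ Subgroup.centralizer (D : Set Γ)) * q ^ Nat.card K₁ := by
  have key := c.formula' hD hKD hK₁ hK₁1 le_rfl (hD.2.1.trans c.hXQ) (hK₁.trans c.hKQ)
  rw [inf_eq_right.mpr c.fix_le, c.hcard, mul_comm] at key
  exact key

theorem card_K_prime (c : Cfg K X Q q) (hD : IsComplIn Q D X)
    (hKD : K ≤ Subgroup.normalizer (D : Set Γ)) : (Nat.card K).Prime := by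
  obtain ⟨k, hk, r, hr, hord, -⟩ := exists_prime_orderOf_mem c.hK1
  have hk1 : k ≠ 1 := by
    intro h; rw [h, orderOf_one] at hord; exact hr.one_lt.ne hord
  have hle : Subgroup.zpowers k ≤ K := Subgroup.zpowers_le.mpr hk
  have h1 := c.card_Q hD hKD hle (by rwa [Ne, Subgroup.zpowers_eq_bot])
  have h2 := c.card_Q hD hKD le_rfl c.hK1
  rw [h1, Nat.card_zpowers, hord] at h2
  have h3 := Nat.eq_of_mul_eq_mul_left Nat.card_pos h2
  have h4 := Nat.pow_right_injective c.hq.two_le h3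
  rw [← h4]; exact hr

theorem Q0_lt (c : Cfg K X Q q) (hD : IsComplIn Q D X)
    (hKD : K ≤ Subgroup.normalizer (D : Set Γ)) : Q ⊓ Subgroup.centralizer (D : Set Γ) < Q := by
  refine lt_of_le_of_ne inf_le_left ?_
  intro h
  have h2 := c.card_Q hD hKD le_rfl c.hK1
  rw [h] at h2
  have h3 : Nat.card Q * 1 = Nat.card Q * q ^ Nat.card K := by rw [mul_one]; exact h2
  have h4 := Nat.eq_of_mul_eq_mul_left Nat.card_pos h3
  have h5 : 1 < q ^ Nat.card K := Nat.one_lt_pow Nat.card_pos.ne' c.hq.one_lt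
  omega

/-- `Φ(Q) ≤ C_Q(D)` -/
theorem frattini_le (c : Cfg K X Q q) (hD : IsComplIn Q D X)
    (hKD : K ≤ Subgroup.normalizer (D : Set Γ)) :
    (frattini ↥Q).map Q.subtype ≤ Q ⊓ Subgroup.centralizer (D : Set Γ) := by
  set Φ := (frattini ↥Q).map Q.subtype with hΦ
  have hΦQ : Φ ≤ Q := Subgroup.map_subtype_le _
  have hNΦ : Subgroup.normalizer (Q : Set Γ) ≤ Subgroup.normalizer (Φ : Set Γ) :=
    le_normalizer_map_characteristic Q (frattini ↥Q)
  have hDΦ : D ≤ Subgroup.normalizer (Φ : Set Γ) := (hD.2.1.trans c.hXQ).trans hNΦ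
  have hKΦ : K ≤ Subgroup.normalizer (Φ : Set Γ) := c.hKQ.trans hNΦ
  have key := c.formula' hD hKD le_rfl c.hK1 hΦQ hDΦ hKΦ
  rcases inf_eq_bot_or_le_of_prime (A := X ⊓ Subgroup.centralizer (K : Set Γ))
    (T := Φ) (by rw [c.hcard]; exact c.hq) with h | h
  · rw [h, Subgroup.card_bot, one_pow, one_mul] at key
    have h4 : Φ ⊓ Subgroup.centralizer (D : Set Γ) = Φ :=
      Subgroup.eq_of_le_of_card_ge inf_le_left (le_of_eq key)
    exact le_inf hΦQ (by rw [← h4]; exact inf_le_right)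
  · exfalso
    rw [inf_eq_right.mpr h, c.hcard] at key
    set Q₀ := Q ⊓ Subgroup.centralizer (D : Set Γ) with hQ₀
    have e1 : Φ ⊓ Subgroup.centralizer (D : Set Γ) = Q₀ ⊓ Φ := by
      rw [hQ₀, inf_right_comm, inf_eq_right.mpr hΦQ, inf_comm]
    have h2 := c.card_Q hD hKD le_rfl c.hK1
    have h3 := card_sup_mul_card_inf Q₀ Φ ((inf_le_left.trans Subgroup.le_normalizer).trans hNΦ)
    rw [key, e1] at h3
    have h4 : Nat.card ↥(Q₀ ⊔ Φ) * Nat.card ↥(Q₀ ⊓ Φ) = Nat.card Q * Nat.card ↥(Q₀ ⊓ Φ) := by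
      rw [h3, h2]; ring
    have h5 := Nat.eq_of_mul_eq_mul_right Nat.card_pos h4
    have h6 : Q₀ ⊔ Φ = Q :=
      Subgroup.eq_of_le_of_card_ge (sup_le inf_le_left hΦQ) (le_of_eq h5.symm)
    have h7 := eq_of_le_sup_frattini (Q₀ := Q₀) inf_le_left (le_of_eq h6.symm)
    exact (c.Q0_lt hD hKD).ne h7

theorem pow_mem (c : Cfg K X Q q) (hD : IsComplIn Q D X)
    (hKD : K ≤ Subgroup.normalizer (D : Set Γ)) {a : Γ} (ha : a ∈ Q) :
    a ^ q ∈ Q ⊓ Subgroup.centralizer (D : Set Γ) := by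
  haveI : Fact q.Prime := ⟨c.hq⟩
  apply c.frattini_le hD hKD
  exact ⟨⟨a, ha⟩ ^ q, pow_mem_frattini_of_isPGroup c.hQ _, rfl⟩

theorem comm_mem (c : Cfg K X Q q) (hD : IsComplIn Q D X)
    (hKD : K ≤ Subgroup.normalizer (D : Set Γ)) {a b : Γ} (ha : a ∈ Q) (hb : b ∈ Q) :
    a * b * a⁻¹ * b⁻¹ ∈ Q ⊓ Subgroup.centralizer (D : Set Γ) := by
  haveI : Fact q.Prime := ⟨c.hq⟩
  apply c.frattini_le hD hKD
  refine ⟨⁅(⟨a, ha⟩ : ↥Q), ⟨b, hb⟩⁆, commutator_le_frattini_of_isPGroup c.hQ ?_, ?_⟩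
  · rw [commutator_def]
    exact Subgroup.commutator_mem_commutator (Subgroup.mem_top _) (Subgroup.mem_top _)
  · simp [commutatorElement_def]

theorem Q_le_normalizer_Q0 (c : Cfg K X Q q) (hD : IsComplIn Q D X)
    (hKD : K ≤ Subgroup.normalizer (D : Set Γ)) :
    Q ≤ Subgroup.normalizer ((Q ⊓ Subgroup.centralizer (D : Set Γ) : Subgroup Γ) : Set Γ) := by
  have key : ∀ a ∈ Q, ∀ b ∈ Q ⊓ Subgroup.centralizer (D : Set Γ),
      a * b * a⁻¹ ∈ Q ⊓ Subgroup.centralizer (D : Set Γ) := by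
    intro a ha b hb
    have h1 := c.comm_mem hD hKD ha hb.1
    have : a * b * a⁻¹ = (a * b * a⁻¹ * b⁻¹) * b := by group
    rw [this]
    exact Subgroup.mul_mem _ h1 hb
  intro a ha
  rw [Subgroup.mem_normalizer_iff]
  intro b
  refine ⟨key a ha b, fun h => ?_⟩
  have := key a⁻¹ (Q.inv_mem ha) _ h
  have e : a⁻¹ * (a * b * a⁻¹) * a⁻¹⁻¹ = b := by group
  rwa [e] at this

theorem X_le_normalizer_Q0 (c : Cfg K X Q q) (hD : IsComplIn Q D X)
    (hKD : K ≤ Subgroup.normalizer (D : Set Γ)) :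
    X ≤ Subgroup.normalizer ((Q ⊓ Subgroup.centralizer (D : Set Γ) : Subgroup Γ) : Set Γ) := by
  have hDn : D ≤ Subgroup.normalizer
      ((Q ⊓ Subgroup.centralizer (D : Set Γ) : Subgroup Γ) : Set Γ) :=
    (le_inf (hD.2.1.trans c.hXQ)
      (Subgroup.le_normalizer.trans (BG7.normalizer_le_normalizer_centralizer D))).trans
      Subgroup.inf_normalizer_le_normalizer_inf
  intro x hx
  obtain ⟨a, ha, b, hb, rfl⟩ := hD.2.2.2 x hx
  exact Subgroup.mul_mem _ (c.Q_le_normalizer_Q0 hD hKD ha) (hDn hb)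

theorem K_le_normalizer_Q0 (c : Cfg K X Q q)
    (hKD : K ≤ Subgroup.normalizer (D : Set Γ)) :
    K ≤ Subgroup.normalizer ((Q ⊓ Subgroup.centralizer (D : Set Γ) : Subgroup Γ) : Set Γ) :=
  (le_inf c.hKQ (hKD.trans (BG7.normalizer_le_normalizer_centralizer D))).trans
    Subgroup.inf_normalizer_le_normalizer_inf

/-- `Q / C_Q(D)` is a chief factor -/
theorem chief (c : Cfg K X Q q) (hD : IsComplIn Q D X)
    (hKD : K ≤ Subgroup.normalizer (D : Set Γ)) {N : Subgroup Γ}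
    (h1 : Q ⊓ Subgroup.centralizer (D : Set Γ) < N) (h2 : N < Q)
    (hXN : X ≤ Subgroup.normalizer (N : Set Γ)) (hKN : K ≤ Subgroup.normalizer (N : Set Γ)) :
    False := by
  have key := c.formula' hD hKD le_rfl c.hK1 h2.le (hD.2.1.trans hXN) hKN
  have e : N ⊓ Subgroup.centralizer (D : Set Γ) = Q ⊓ Subgroup.centralizer (D : Set Γ) :=
    le_antisymm (inf_le_inf_right _ h2.le) (le_inf h1.le inf_le_right)
  rw [e] at key
  rcases inf_eq_bot_or_le_of_prime (A := X ⊓ Subgroup.centralizer (K : Set Γ))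
    (T := N) (by rw [c.hcard]; exact c.hq) with h | h
  · rw [h, Subgroup.card_bot, one_pow, one_mul] at key
    exact h1.ne (Subgroup.eq_of_le_of_card_ge h1.le (le_of_eq key))
  · rw [inf_eq_right.mpr h, c.hcard, mul_comm, ← c.card_Q hD hKD le_rfl c.hK1] at key
    exact h2.ne (Subgroup.eq_of_le_of_card_ge h2.le (le_of_eq key.symm))

theorem exists_invariant_cjs (c : Cfg K X Q q) (hD : IsComplIn Q D X) :
    ∃ x ∈ X, K ≤ Subgroup.normalizer ((MulAut.conj x • D : Subgroup Γ) : Set Γ) := by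
  have hcard : Nat.card X = Nat.card D * Nat.card Q := by
    rw [card_mul_of_isComplIn hD, mul_comm]
  haveI : Fact q.Prime := ⟨c.hq⟩
  have hcopDQ : (Nat.card D).Coprime (Nat.card Q) := by
    obtain ⟨n, hn⟩ := c.hQ.exists_card_eq
    rw [hn]
    exact Nat.Coprime.pow_right _
      ((Nat.Prime.coprime_iff_not_dvd c.hq).mpr (c.not_dvd_card_D hD)).symm
  exact coprime_invariant_exists_gen K X c.hKX c.hcop (Or.inr c.hsolv) (Nat.card D)
    (fun P P' hP hP' hcP hcP' =>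
      hall_conj_in_subgroup X c.hsolv (Nat.card D) (Nat.card Q) hcard hcopDQ P P' hP hP' hcP hcP')
    D hD.2.1 rfl

/-- **Theorem 15.2, abstract form**, for an arbitrary complement `D` of `Q` in `X` -/
theorem main (c : Cfg K X Q q) (hD : IsComplIn Q D X) :
    Group.IsNilpotent ↥D ∧ (Nat.card K).Prime ∧
    X ≤ Subgroup.normalizer ((Q ⊓ Subgroup.centralizer (D : Set Γ) : Subgroup Γ) : Set Γ) ∧
    K ≤ Subgroup.normalizer ((Q ⊓ Subgroup.centralizer (D : Set Γ) : Subgroup Γ) : Set Γ) ∧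
    Q ⊓ Subgroup.centralizer (D : Set Γ) < Q ∧
    Nat.card Q = Nat.card ↥(Q ⊓ Subgroup.centralizer (D : Set Γ)) * q ^ Nat.card K ∧
    (∀ a ∈ Q, ∀ b ∈ Q, a ^ q ∈ Q ⊓ Subgroup.centralizer (D : Set Γ) ∧
      a * b * a⁻¹ * b⁻¹ ∈ Q ⊓ Subgroup.centralizer (D : Set Γ)) ∧
    ∀ N : Subgroup Γ, Q ⊓ Subgroup.centralizer (D : Set Γ) < N → N < Q →
      X ≤ Subgroup.normalizer (N : Set Γ) → K ≤ Subgroup.normalizer (N : Set Γ) → False := by
  obtain ⟨x, hx, hKD'⟩ := c.exists_invariant_cjs hD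
  have hD' := isComplIn_cjs hD hx c.hXQ
  have hXn := c.X_le_normalizer_Q0 hD' hKD'
  have heq : Q ⊓ Subgroup.centralizer (D : Set Γ) =
      Q ⊓ Subgroup.centralizer ((MulAut.conj x • D : Subgroup Γ) : Set Γ) := by
    ext g
    rw [Subgroup.mem_normalizer_iff.mp (hXn hx) g]
    constructor
    · intro hg
      exact ⟨(Subgroup.mem_normalizer_iff.mp (c.hXQ hx) g).mp hg.1,
        (conj_mem_centralizer_cjs_iff x g D).mpr hg.2⟩
    · intro hg
      exact ⟨(Subgroup.mem_normalizer_iff.mp (c.hXQ hx) g).mpr hg.1,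
        (conj_mem_centralizer_cjs_iff x g D).mp hg.2⟩
  rw [heq]
  refine ⟨?_, c.card_K_prime hD' hKD', hXn, c.K_le_normalizer_Q0 hKD', c.Q0_lt hD' hKD',
    c.card_Q hD' hKD' le_rfl c.hK1, fun a ha b hb => ⟨c.pow_mem hD' hKD' ha,
      c.comm_mem hD' hKD' ha hb⟩, fun N h1 h2 h3 h4 => c.chief hD' hKD' h1 h2 h3 h4⟩
  haveI := c.D_nilpotent hD' hKD'
  exact Group.nilpotent_of_mulEquiv (Subgroup.equivSMul (MulAut.conj x) D).symm

end Cfg

end Cfsg.Agent.Lib.Helper4.BG23
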