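import Mathlib
import Cfsg.Agent.Lib.Helper4.BG23e
import Cfsg.Agent.Lib.Helper4.FittingHall
import Cfsg.Agent.S1414

set_option autoImplicit false
set_option linter.style.haveILetI false
set_option linter.unusedSectionVars false
set_option maxHeartbeats 1600000

/-! Bender–Glauberman Theorem 15.2, concrete part. -/

namespace Cfsg.Agent.Lib.Helper4.BG23

open Cfsg Cfsg.Agent.Lib.Lead Cfsg.Agent.Lib.Lead.BG10 Cfsg.Agent.Lib.Helper7 Cfsg.Agent.Lib.Helper4
open Cfsg.Agent.Lib.Helper4.BG76 Cfsg.Agent.Lib.Helper4.BG8 Cfsg.Agent.Lib.Helper4.BG9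
open Cfsg.Agent.Lib.Helper4.BG7 Cfsg.Agent.Lib.Helper4.BG12 Cfsg.Agent.Lib.Helper4.BGConj
open Cfsg.Agent.Lib.Helper4.BG13 Cfsg.Agent.Lib.Lead.BG95 Cfsg.Agent.Lib.Lead.BG12q
open Cfsg.Agent.Lib.Lead.BG11 Cfsg.Agent.Lib.Lead.BG13q Cfsg.Agent.Lib.Helper4.BG18
open Cfsg.Agent.Lib.Helper2.BG12 Cfsg.Agent.Lib.Helper6 Cfsg.Agent.Lib.Helper2.BG13x
open Cfsg.Agent.Lib.Helper2.BG14y Cfsg.Agent.Lib.Helper4.BG14 Cfsg.Agent.Lib.Helper5.BG139
open Cfsg.Agent.Lib.Helper2.BG14z Cfsg.Agent.Lib.Lead.BG14n Cfsg.Agent.Lib.Helper4.BG21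
open Cfsg.Agent.Lib.Helper4.BG22
open scoped commutatorElement Pointwise

universe u

section abstract

variable {Γ : Type u} [Group Γ] [Finite Γ]

/-- two subgroups of coprime orders with `|X| = |Q| |D|`, one normalizing the other, are
complements in `X` -/
theorem isComplIn_of_card {Q D X : Subgroup Γ} (hQX : Q ≤ X) (hDX : D ≤ X)
    (hQD : Q ≤ Subgroup.normalizer (D : Set Γ))
    (hcop : (Nat.card Q).Coprime (Nat.card D)) (hcard : Nat.card X = Nat.card Q * Nat.card D) :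
    IsComplIn Q D X := by
  have hdisj : Q ⊓ D = ⊥ := (Subgroup.disjoint_of_coprime_natCard hcop).eq_bot
  have h1 : Nat.card ↥(Q ⊔ D) = Nat.card Q * Nat.card D := card_sup_of_disjoint Q D hQD hdisj
  have h2 : Q ⊔ D = X := Subgroup.eq_of_le_of_card_ge (sup_le hQX hDX) (by rw [h1, hcard])
  refine ⟨hQX, hDX, hdisj, ?_⟩
  intro m hm
  rw [← h2, ← SetLike.mem_coe, Subgroup.coe_mul_of_left_le_normalizer_right Q D hQD,
    Set.mem_mul] at hm
  obtain ⟨a, ha, b, hb, hab⟩ := hm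
  exact ⟨a, ha, b, hb, hab.symm⟩

/-- two subgroups of `X` normalized by `X` with trivial intersection commute -/
theorem le_centralizer_of_normal_disjoint {Q D X : Subgroup Γ} (hQX : Q ≤ X) (hDX : D ≤ X)
    (hXQ : X ≤ Subgroup.normalizer (Q : Set Γ)) (hXD : X ≤ Subgroup.normalizer (D : Set Γ))
    (hdisj : Q ⊓ D = ⊥) : Q ≤ Subgroup.centralizer (D : Set Γ) := by
  intro a ha
  apply Subgroup.mem_centralizer_iff.mpr
  intro d hd
  have h1 : a * d * a⁻¹ * d⁻¹ ∈ Q ⊓ D := by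
    constructor
    · have : a * d * a⁻¹ * d⁻¹ = a * (d * a⁻¹ * d⁻¹) := by group
      rw [this]
      exact Q.mul_mem ha ((Subgroup.mem_normalizer_iff.mp (hXQ (hDX hd)) _).mp (Q.inv_mem ha))
    · exact D.mul_mem ((Subgroup.mem_normalizer_iff.mp (hXD (hQX ha)) _).mp hd) (D.inv_mem hd)
  rw [hdisj, Subgroup.mem_bot] at h1
  calc d * a = (a * d * a⁻¹ * d⁻¹)⁻¹ * (a * d) := by group
    _ = a * d := by rw [h1]; group

theorem eq_of_pow_mul_eq {q a b r n : ℕ} (hq : q.Prime) (h : q ^ b * r = n * q ^ a)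
    (hr : ¬ q ∣ r) (hn : ¬ q ∣ n) : r = n := by
  have c1 : (q ^ b).Coprime n := Nat.Coprime.pow_left _ ((Nat.Prime.coprime_iff_not_dvd hq).mpr hn)
  have c2 : (q ^ a).Coprime r := Nat.Coprime.pow_left _ ((Nat.Prime.coprime_iff_not_dvd hq).mpr hr)
  have h1 : q ^ b ∣ q ^ a := by
    apply c1.dvd_of_dvd_mul_left
    rw [← h]; exact dvd_mul_right _ _
  have h2 : q ^ a ∣ q ^ b := by
    apply c2.dvd_of_dvd_mul_right
    rw [h]; exact dvd_mul_left _ _
  have h3 := Nat.dvd_antisymm h1 h2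
  rw [h3, mul_comm] at h
  exact Nat.eq_of_mul_eq_mul_right (pow_pos hq.pos _) h

/-- a normal `q`-complement of `X` gives a complement of the normal Sylow `q`-subgroup `Q`
centralized by `Q` -/
theorem exists_central_compl_of_npc {Q X : Subgroup Γ} {q : ℕ} (hq : q.Prime) (hQX : Q ≤ X)
    (hXQ : X ≤ Subgroup.normalizer (Q : Set Γ)) (hQ : IsPGroup q Q) (hQs : ¬ q ∣ Q.relIndex X)
    (h : HasNormalPComplement q ↥X) :
    ∃ D : Subgroup Γ, IsComplIn Q D X ∧ Q ≤ Subgroup.centralizer (D : Set Γ) := by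
  haveI : Fact q.Prime := ⟨hq⟩
  obtain ⟨P, N, hN, hNP⟩ := h
  have hXD : X ≤ Subgroup.normalizer ((N.map X.subtype : Subgroup Γ) : Set Γ) := by
    have h1 := Subgroup.le_normalizer_map (H := N) X.subtype
    rw [Subgroup.normalizer_eq_top, ← MonoidHom.range_eq_map, Subgroup.range_subtype] at h1
    exact h1
  have hDX : N.map X.subtype ≤ X := Subgroup.map_subtype_le N
  have hcD : Nat.card ↥(N.map X.subtype) = Nat.card N :=
    Subgroup.card_map_of_injective X.subtype_injective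
  have h1 := hNP.card_mul_card
  have h2 := Subgroup.relIndex_mul_relIndex ⊥ Q X bot_le hQX
  rw [Subgroup.relIndex_bot_left, Subgroup.relIndex_bot_left] at h2
  obtain ⟨a, ha⟩ := P.2.exists_card_eq
  obtain ⟨b, hb⟩ := hQ.exists_card_eq
  have hnN : ¬ q ∣ Nat.card N := by
    rw [← hNP.index_eq_card]; exact P.not_dvd_index
  have h3 : Q.relIndex X = Nat.card N := by
    apply eq_of_pow_mul_eq hq (a := a) (b := b) _ hQs hnN
    rw [← hb, h2, ← h1, ← ha]
  have hcop : (Nat.card Q).Coprime (Nat.card ↥(N.map X.subtype)) := by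
    rw [hb, hcD]
    exact Nat.Coprime.pow_left _ ((Nat.Prime.coprime_iff_not_dvd hq).mpr hnN)
  have hc : IsComplIn Q (N.map X.subtype) X :=
    isComplIn_of_card hQX hDX (hQX.trans hXD) hcop (by rw [hcD, ← h3, h2])
  exact ⟨_, hc, le_centralizer_of_normal_disjoint hQX hDX hXQ hXD hc.2.2.1⟩

/-- variant: `D` normalizes `Q` -/
theorem isComplIn_of_card' {Q D X : Subgroup Γ} (hQX : Q ≤ X) (hDX : D ≤ X)
    (hDQ : D ≤ Subgroup.normalizer (Q : Set Γ))
    (hcop : (Nat.card Q).Coprime (Nat.card D)) (hcard : Nat.card X = Nat.card Q * Nat.card D) :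
    IsComplIn Q D X := by
  have hdisj : Q ⊓ D = ⊥ := (Subgroup.disjoint_of_coprime_natCard hcop).eq_bot
  have h1 : Nat.card ↥(Q ⊔ D) = Nat.card Q * Nat.card D := by
    rw [sup_comm, mul_comm]
    exact card_sup_of_disjoint D Q hDQ (by rw [inf_comm]; exact hdisj)
  have h2 : Q ⊔ D = X := Subgroup.eq_of_le_of_card_ge (sup_le hQX hDX) (by rw [h1, hcard])
  refine ⟨hQX, hDX, hdisj, ?_⟩
  intro m hm
  rw [← h2, ← SetLike.mem_coe, Subgroup.coe_mul_of_right_le_normalizer_left Q D hDQ,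
    Set.mem_mul] at hm
  obtain ⟨a, ha, b, hb, hab⟩ := hm
  exact ⟨a, ha, b, hb, hab.symm⟩

/-- Schur–Zassenhaus: a normal Sylow subgroup has a complement -/
theorem exists_isComplIn_of_normal_sylow {Q X : Subgroup Γ} {q : ℕ} (hq : q.Prime) (hQX : Q ≤ X)
    (hXQ : X ≤ Subgroup.normalizer (Q : Set Γ)) (hQ : IsPGroup q Q) (hQs : ¬ q ∣ Q.relIndex X) :
    ∃ D : Subgroup Γ, IsComplIn Q D X := by
  haveI : Fact q.Prime := ⟨hq⟩
  haveI : (Q.subgroupOf X).Normal := Subgroup.normal_subgroupOf_of_le_normalizer hXQ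
  obtain ⟨b, hb⟩ := hQ.exists_card_eq
  have hcQ : Nat.card ↥(Q.subgroupOf X) = Nat.card Q :=
    Nat.card_congr (Subgroup.subgroupOfEquivOfLe hQX).toEquiv
  have hcop : (Nat.card ↥(Q.subgroupOf X)).Coprime (Q.subgroupOf X).index := by
    rw [hcQ, hb]
    exact Nat.Coprime.pow_left _ ((Nat.Prime.coprime_iff_not_dvd hq).mpr hQs)
  obtain ⟨H, hH⟩ := Subgroup.exists_right_complement'_of_coprime hcop
  have hDX : H.map X.subtype ≤ X := Subgroup.map_subtype_le H
  have hcD : Nat.card ↥(H.map X.subtype) = Nat.card H :=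
    Subgroup.card_map_of_injective X.subtype_injective
  have h1 := hH.card_mul_card
  refine ⟨H.map X.subtype, isComplIn_of_card' hQX hDX (hDX.trans hXQ) ?_ ?_⟩
  · rw [hcD, ← hH.symm.index_eq_card]
    rw [hcQ] at hcop
    exact hcop
  · rw [hcD, ← hcQ, h1]

end abstract

variable {G : Type u} [Group G] [Finite G]

/-- the configuration of Theorem 15.2 holds in `M` when `M_F ≠ M_σ` -/
theorem exists_cfg (hG : IsMinSimpleOddOrder G) {M K U : Subgroup G}
    (hM : IsCoatom M) (hKU : IsSigmaDecomposition M K U)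
    (hne : fittingHallOf M ≠ sigmaCore M) :
    ∃ Q : Subgroup G, M ≤ Subgroup.normalizer (Q : Set G) ∧
      Cfg K (sigmaCore M) Q (Nat.card ↥(sigmaCore M ⊓ Subgroup.centralizer (K : Set G))) := by
  obtain ⟨hnn, hU, hK1, hc, hder⟩ := p1_of_fittingHall_ne hG hM hKU hne
  obtain ⟨hq, Q, hQX, hMQ, hQ, hQs⟩ := exists_normal_sylow_sigmaCore hG hM hKU hne
  have d := Cfsg.Agent.Lib.Helper2.BG14v.kdata' hG hM hKU.hall hK1
  refine ⟨Q, hMQ, ?_⟩
  exact
    { hq := hq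
      hKX := hKU.hall.1.trans (le_normalizer_sigmaCore M)
      hcop := coprime_card_kappa_hall hG hM hKU.hall
      hsolv := solvable_of_ne_top hG (ne_top_of_le_ne_top hM.1 (sigmaCore_le M))
      hK1 := hK1
      hsemi := d.semiprime
      hcard := rfl
      hQX := hQX
      hXQ := (sigmaCore_le M).trans hMQ
      hKQ := hKU.hall.1.trans hMQ
      hQ := hQ
      hQs := hQs
      hnn := hnn }

/-- `q = |C_{M_σ}(K)| ∈ β(M)` -/
theorem card_fix_mem_beta (hG : IsMinSimpleOddOrder G) {M K U : Subgroup G}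
    (hM : IsCoatom M) (hKU : IsSigmaDecomposition M K U)
    (hne : fittingHallOf M ≠ sigmaCore M) :
    Nat.card ↥(sigmaCore M ⊓ Subgroup.centralizer (K : Set G)) ∈ beta M := by
  obtain ⟨Q, hMQ, c⟩ := exists_cfg hG hM hKU hne
  by_contra hβ
  have hqM : Nat.card ↥(sigmaCore M ⊓ Subgroup.centralizer (K : Set G)) ∣ Nat.card M :=
    c.q_dvd_card_X.trans (Subgroup.card_dvd_of_le (sigmaCore_le M))
  have h := ((Cfsg.Agent.S1414.result hG M hM).2.2.2.2 _ c.hq hqM hβ).2.1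
  obtain ⟨D, hD, hQD⟩ := exists_central_compl_of_npc c.hq c.hQX c.hXQ c.hQ c.hQs h
  have h1 := (c.main hD).2.2.2.2.1
  exact h1.ne (inf_eq_left.mpr hQD)

/-- `Q ≤ M_F` -/
theorem Q_le_fittingHallOf (hG : IsMinSimpleOddOrder G) {M K U Q : Subgroup G}
    (hM : IsCoatom M) (hKU : IsSigmaDecomposition M K U)
    (hne : fittingHallOf M ≠ sigmaCore M) (hMQ : M ≤ Subgroup.normalizer (Q : Set G))
    (c : Cfg K (sigmaCore M) Q (Nat.card ↥(sigmaCore M ⊓ Subgroup.centralizer (K : Set G)))) :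
    Q ≤ fittingHallOf M := by
  obtain ⟨hnn, hU, hK1, hc, hder⟩ := p1_of_fittingHall_ne hG hM hKU hne
  haveI : Fact (Nat.card ↥(sigmaCore M ⊓ Subgroup.centralizer (K : Set G))).Prime := ⟨c.hq⟩
  apply le_fittingHallOf M (c.hQX.trans (sigmaCore_le M)) hMQ c.hQ.isNilpotent
  have h1 := Subgroup.relIndex_mul_relIndex Q (sigmaCore M) M c.hQX (sigmaCore_le M)
  have h2 : (sigmaCore M).relIndex M = Nat.card K := by
    have h3 := card_mul_of_isComplIn hc
    have h4 := Subgroup.relIndex_mul_relIndex ⊥ (sigmaCore M) M bot_le (sigmaCore_le M)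
    rw [Subgroup.relIndex_bot_left, Subgroup.relIndex_bot_left, h3, mul_comm] at h4
    exact Nat.eq_of_mul_eq_mul_right Nat.card_pos h4
  obtain ⟨n, hn⟩ := c.hQ.exists_card_eq
  rw [hn, ← h1, h2]
  apply Nat.Coprime.pow_left
  apply Nat.Coprime.mul_right
  · exact (Nat.Prime.coprime_iff_not_dvd c.hq).mpr c.hQs
  · exact c.q_coprime_card_K

end Cfsg.Agent.Lib.Helper4.BG23
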