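import Mathlib
import Cfsg.Agent.Lib.Helper4.NR5
import Cfsg.Agent.Lib.Helper4.RT15
import Cfsg.Agent.Lib.Lead.Frattini2
import Cfsg.Agent.S0640
import Cfsg.Prelude.Def_Solvable

set_option autoImplicit false

/-! Narrow `p`-groups: the final pieces. -/

namespace Cfsg.Agent.Lib.Helper4.NR

open scoped commutatorElement
open Cfsg.Agent.Lib.Lead

universe u

section s7

variable {G : Type u} [Group G] [Finite G] {p : ℕ} [hp : Fact p.Prime]

/-- if `A'` is a `p`-group then `A' ≤ O_p(A)` and `A / O_p(A)` is a `p'`-group -/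
theorem pCore_facts (A : Subgroup G) (h : IsPGroup p ↥⁅A, A⁆) :
    commutator ↥A ≤ Cfsg.pCore p ↥A ∧ ((Cfsg.pCore p ↥A).index).Coprime p := by
  have hKp : IsPGroup p ↥(commutator ↥A) := by
    have e : (commutator ↥A).map A.subtype = ⁅A, A⁆ := Subgroup.map_subtype_commutator A
    let f : ↥(commutator ↥A) →* ↥⁅A, A⁆ :=
      { toFun := fun x => ⟨((x : ↥A) : G), by rw [← e]; exact ⟨x, x.2, rfl⟩⟩
        map_one' := rfl
        map_mul' := fun _ _ => rfl }
    refine IsPGroup.of_injective h f ?_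
    intro x y hxy
    have := congrArg Subtype.val hxy
    exact Subtype.ext (Subtype.ext this)
  have hKn : (commutator ↥A).Normal := inferInstance
  have h1 : commutator ↥A ≤ Cfsg.pCore p ↥A := le_sSup ⟨hKn, hKp⟩
  refine ⟨h1, ?_⟩
  obtain ⟨P, hP⟩ := hKp.exists_le_sylow
  haveI hPn : (P : Subgroup ↥A).Normal := normal_of_commutator_le hP
  have h2 : (P : Subgroup ↥A) ≤ Cfsg.pCore p ↥A := le_sSup ⟨hPn, P.isPGroup'⟩
  have h3 := Subgroup.index_dvd_of_le h2
  have h4 : ¬ p ∣ (P : Subgroup ↥A).index := P.not_dvd_index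
  have h5 : ¬ p ∣ (Cfsg.pCore p ↥A).index := fun h => h4 (h.trans h3)
  exact ((Nat.Prime.coprime_iff_not_dvd hp.out).mpr h5).symm

/-- a faithful group of prime order `q ≠ p` on a `p`-group of rank at most two: `q ∣ p ^ 2 - 1` -/
theorem dvd_sq_sub_one (hp2 : p ≠ 2) (R A : Subgroup G) (hR : IsPGroup p R)
    (hr : Cfsg.PRankLE p 2 R) (hA : A ≤ Subgroup.normalizer (R : Set G))
    (hfaith : A ⊓ Subgroup.centralizer (R : Set G) = ⊥) (hq : (Nat.card A).Prime)
    (hqp : Nat.card A ≠ p) : Nat.card A ∣ p ^ 2 - 1 := by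
  set f : ↥A →* MulAut ↥R := R.normalizerMonoidHom.comp (Subgroup.inclusion hA) with hf
  have hinj : Function.Injective f := by
    rw [injective_iff_map_eq_one]
    intro a ha
    have h1 : Subgroup.inclusion hA a ∈ R.normalizerMonoidHom.ker := ha
    rw [Subgroup.normalizerMonoidHom_ker, Subgroup.mem_subgroupOf] at h1
    have h2 : (a : G) ∈ A ⊓ Subgroup.centralizer (R : Set G) := Subgroup.mem_inf.mpr ⟨a.2, h1⟩
    rw [hfaith, Subgroup.mem_bot] at h2
    exact Subtype.ext h2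
  have hdvd : Nat.card ↥A ∣ Nat.card (MulAut ↥R) := Subgroup.card_dvd_of_injective f hinj
  exact (Cfsg.Agent.S0640.result hp2 hR hr (Nat.card A) hq hqp hdvd).1

theorem exists_mul_of_mem_sup_of_comm {H K : Subgroup G} (hc : ∀ a ∈ H, ∀ b ∈ K, a * b = b * a)
    {x : G} (hx : x ∈ H ⊔ K) : ∃ a ∈ H, ∃ b ∈ K, x = a * b := by
  rw [Subgroup.sup_eq_closure] at hx
  induction hx using Subgroup.closure_induction with
  | mem y hy =>
    rcases hy with hy | hy
    · exact ⟨y, hy, 1, K.one_mem, (mul_one y).symm⟩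
    · exact ⟨1, H.one_mem, y, hy, (one_mul y).symm⟩
  | one => exact ⟨1, H.one_mem, 1, K.one_mem, (mul_one 1).symm⟩
  | mul y z _ _ ihy ihz =>
    obtain ⟨a, ha, b, hb, rfl⟩ := ihy
    obtain ⟨a', ha', b', hb', rfl⟩ := ihz
    refine ⟨a * a', H.mul_mem ha ha', b * b', K.mul_mem hb hb', ?_⟩
    calc a * b * (a' * b') = a * (b * a') * b' := by group
      _ = a * (a' * b) * b' := by rw [hc a' ha' b hb]
      _ = a * a' * (b * b') := by group
  | inv y _ ih =>
    obtain ⟨a, ha, b, hb, rfl⟩ := ih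
    refine ⟨a⁻¹, H.inv_mem ha, b⁻¹, K.inv_mem hb, ?_⟩
    rw [mul_inv_rev, ← hc a⁻¹ (H.inv_mem ha) b⁻¹ (K.inv_mem hb)]

/-- prime order `q ∤ p (p - 1)` acting on a nonabelian `p`-group `R = [R, A]` of rank at most two:
`|R| = p ^ 3` -/
theorem card_eq_cube (hp2 : p ≠ 2) (R A : Subgroup G) (hR : IsPGroup p R)
    (hr : Cfsg.PRankLE p 2 R) (hA : A ≤ Subgroup.normalizer (R : Set G))
    (hq : (Nat.card A).Prime) (hqp : ¬ Nat.card A ∣ p * (p - 1)) (hAodd : Odd (Nat.card A))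
    (hRA : ⁅R, A⁆ = R) (hnc : ¬ IsMulCommutative R) : Nat.card R = p ^ 3 := by
  have hR1 : R ≠ ⊥ := by
    rintro rfl
    apply hnc
    refine ⟨⟨fun a b => ?_⟩⟩
    have ha : a = 1 := Subtype.ext (Subgroup.mem_bot.mp a.2)
    have hb : b = 1 := Subtype.ext (Subgroup.mem_bot.mp b.2)
    rw [ha, hb]
  have hqp' : ¬ Nat.card A ∣ p := fun h => hqp (h.mul_right _)
  have hcop : (Nat.card A).Coprime p := (Nat.Prime.coprime_iff_not_dvd hq).mpr hqp'
  obtain ⟨-, hcase⟩ := Cfsg.Agent.Lib.Helper4.RT.main_structure hp2 R A hR hR1 hr hA hcop hAodd hRA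
  rcases hcase with h | ⟨R₁, R₂, hsup, hcomm, -, hcard, hexp, hcyc, hom⟩
  · exact absurd h hnc
  have hR₁R : R₁ ≤ R := by rw [← hsup]; exact le_sup_left
  have hR₂R : R₂ ≤ R := by rw [← hsup]; exact le_sup_right
  have hexp' : ∀ x ∈ R₁, x ^ p = 1 := by
    intro x hx
    have := Monoid.pow_exponent_eq_one (⟨x, hx⟩ : ↥R₁)
    rw [hexp] at this
    exact congrArg Subtype.val this
  have hmem : ∀ x ∈ R, x ^ p = 1 → x ∈ R₁ := by
    intro x hx hxp
    rw [← hsup] at hx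
    obtain ⟨a, ha, b, hb, rfl⟩ := exists_mul_of_mem_sup_of_comm hcomm hx
    have hab : Commute a b := hcomm a ha b hb
    rw [hab.mul_pow, hexp' a ha, one_mul] at hxp
    have hb' : b ∈ Subgroup.closure {x : G | x ∈ R₂ ∧ x ^ p = 1} :=
      Subgroup.subset_closure ⟨hb, hxp⟩
    rw [hom] at hb'
    exact R₁.mul_mem ha (commutator_le_left_of_le_normalizer R₁ R₁ Subgroup.le_normalizer hb')
  have hNR₁ : Subgroup.normalizer (R : Set G) ≤ Subgroup.normalizer (R₁ : Set G) := by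
    apply Cfsg.Agent.Lib.Helper4.Rk2.le_normalizer_of_conj_mem
    intro g hg y hy
    apply hmem
    · exact (Subgroup.mem_normalizer_iff.mp hg y).mp (hR₁R hy)
    · rw [conj_pow, hexp' y hy, mul_one, mul_inv_cancel]
  have hKH : R ≤ Subgroup.normalizer (R₁ : Set G) := Subgroup.le_normalizer.trans hNR₁
  have hcyc' : ∃ y ∈ R, ∀ k ∈ R, ∃ i : ℤ, ∃ h ∈ R₁, k = y ^ i * h := by
    obtain ⟨g, hg⟩ := hcyc.exists_generator
    refine ⟨(g : G), hR₂R g.2, fun k hk => ?_⟩
    rw [← hsup] at hk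
    obtain ⟨a, ha, b, hb, rfl⟩ := exists_mul_of_mem_sup_of_comm hcomm hk
    obtain ⟨i, hi⟩ := Subgroup.mem_zpowers_iff.mp (hg ⟨b, hb⟩)
    refine ⟨i, a, ha, ?_⟩
    have hb' : b = (g : G) ^ i := by
      have := congrArg Subtype.val hi
      simpa using this.symm
    rw [hcomm a ha b hb, hb']
  have hle : ⁅R, A⁆ ≤ R₁ := by
    rw [Subgroup.commutator_le]
    intro r hr' a ha
    have haq : a ^ Nat.card A = 1 := by
      have := pow_card_eq_one' (G := ↥A) (x := ⟨a, ha⟩)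
      exact congrArg Subtype.val this
    have h1 := sect_prime hR₁R hKH hcyc' hR hq hqp
      (Subgroup.mem_inf.mpr ⟨hNR₁ (hA ha), hA ha⟩) haq r hr'
    rw [← commutatorElement_inv]
    exact R₁.inv_mem h1
  rw [hRA] at hle
  have : R = R₁ := le_antisymm hle hR₁R
  rw [this, hcard]

end s7

end Cfsg.Agent.Lib.Helper4.NR
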