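import Mathlib
import Cfsg.Agent.Lib.Helper4.BG23f
import Cfsg.Agent.Lib.Helper5.NilSym2
import Cfsg.Agent.Lib.Lead.BG14n4
import Cfsg.Agent.S1423

set_option autoImplicit false
set_option linter.style.haveILetI false
set_option linter.unusedSectionVars false
set_option maxHeartbeats 1600000

/-! Bender–Glauberman Theorem 15.2, the TI-property of `F(M)` when `M_F ≠ M_σ`. -/

namespace Cfsg.Agent.Lib.Helper4.BG23

open Cfsg Cfsg.Agent.Lib.Lead Cfsg.Agent.Lib.Lead.BG10 Cfsg.Agent.Lib.Helper7 Cfsg.Agent.Lib.Helper4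
open Cfsg.Agent.Lib.Helper4.BG76 Cfsg.Agent.Lib.Helper4.BG8 Cfsg.Agent.Lib.Helper4.BG9
open Cfsg.Agent.Lib.Helper4.BG7 Cfsg.Agent.Lib.Helper4.BG12 Cfsg.Agent.Lib.Helper4.BGConj
open Cfsg.Agent.Lib.Helper4.BG13 Cfsg.Agent.Lib.Lead.BG95 Cfsg.Agent.Lib.Lead.BG12q
open Cfsg.Agent.Lib.Lead.BG11 Cfsg.Agent.Lib.Lead.BG13q Cfsg.Agent.Lib.Helper4.BG18
open Cfsg.Agent.Lib.Helper2.BG12 Cfsg.Agent.Lib.Helper6 Cfsg.Agent.Lib.Helper2.BG13x
open Cfsg.Agent.Lib.Helper2.BG14y Cfsg.Agent.Lib.Helper4.BG14 Cfsg.Agent.Lib.Helper5.BG139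
open Cfsg.Agent.Lib.Helper2.BG14z Cfsg.Agent.Lib.Lead.BG14n Cfsg.Agent.Lib.Helper4.BG21
open Cfsg.Agent.Lib.Helper4.BG22
open scoped commutatorElement Pointwise

universe u

variable {G : Type u} [Group G] [Finite G]

/-- elements of `F(M)` of order prime to `q` centralize `Q` -/
theorem commute_of_mem_fittingOf_Q {M Q : Subgroup G} {q : ℕ} [Fact q.Prime] (hQM : Q ≤ M)
    (hMQ : M ≤ Subgroup.normalizer (Q : Set G)) (hQ : IsPGroup q Q) {z : G}
    (hz : z ∈ fittingOf M) (hzq : ¬ q ∣ orderOf z) {y : G} (hy : y ∈ Q) : z * y = y * z := by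
  have hyF : y ∈ fittingOf M := le_fittingOf hQM hMQ hQ.isNilpotent hy
  haveI : Group.IsNilpotent ↥(fittingOf M) := isNilpotent_fittingOf M
  have hcop : (orderOf (⟨z, hz⟩ : ↥(fittingOf M))).Coprime (orderOf (⟨y, hyF⟩ : ↥(fittingOf M))) := by
    rw [Subgroup.orderOf_mk, Subgroup.orderOf_mk]
    obtain ⟨n, hn⟩ := (IsPGroup.iff_orderOf.mp hQ) ⟨y, hy⟩
    rw [Subgroup.orderOf_mk] at hn
    rw [hn]
    exact Nat.Coprime.pow_right _ ((Nat.Prime.coprime_iff_not_dvd Fact.out).mpr hzq).symm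
  have h := Cfsg.Agent.Lib.Helper5.NilSym.commute_of_coprime ↥(fittingOf M) ⟨z, hz⟩ ⟨y, hyF⟩
    (isOfFinOrder_of_finite _) (isOfFinOrder_of_finite _) hcop
  exact congrArg Subtype.val h.eq

/-- `Q` is not contained in `C_{M_σ}(K)` -/
theorem Cfg.not_Q_le_fix {Γ : Type u} [Group Γ] [Finite Γ] {K X Q : Subgroup Γ} {q : ℕ}
    (c : Cfg K X Q q) : ¬ Q ≤ X ⊓ Subgroup.centralizer (K : Set Γ) := by
  intro h
  obtain ⟨D, hD⟩ := exists_isComplIn_of_normal_sylow c.hq c.hQX c.hXQ c.hQ c.hQs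
  obtain ⟨-, hKp, -, -, -, h6, -, -⟩ := c.main hD
  have h1 : Nat.card Q ∣ q := by rw [← c.hcard]; exact Subgroup.card_dvd_of_le h
  have h2 : q ^ 2 ∣ Nat.card Q := by
    rw [h6]
    exact Dvd.dvd.mul_left (pow_dvd_pow q hKp.two_le) _
  have h3 := Nat.le_of_dvd c.hq.pos (h2.trans h1)
  have : q < q ^ 2 := by
    have := c.hq.two_le
    nlinarith
  omega

/-- `F(M) ≤ M_σ` when `M_F ≠ M_σ` -/
theorem fittingOf_le_sigmaCore_of_ne (hG : IsMinSimpleOddOrder G) {M K U : Subgroup G}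
    (hM : IsCoatom M) (hKU : IsSigmaDecomposition M K U)
    (hne : fittingHallOf M ≠ sigmaCore M) : fittingOf M ≤ sigmaCore M := by
  obtain ⟨hnn, hU, hK1, hc, hder⟩ := p1_of_fittingHall_ne hG hM hKU hne
  obtain ⟨Q, hMQ, c⟩ := exists_cfg hG hM hKU hne
  haveI : Fact (Nat.card ↥(sigmaCore M ⊓ Subgroup.centralizer (K : Set G))).Prime := ⟨c.hq⟩
  intro z hz
  apply mem_sigmaCore_of_orderOf hG hM (fittingOf_le M hz)
  intro p hp hpz
  by_contra hpσ
  obtain ⟨n, hn⟩ : ∃ n : ℕ, n = orderOf z / p := ⟨_, rfl⟩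
  have hyl : orderOf (z ^ n) = p := by
    rw [hn]; exact orderOf_pow_orderOf_div (orderOf_pos z).ne' hpz
  have hyF : z ^ n ∈ fittingOf M := Subgroup.pow_mem _ hz n
  obtain ⟨y, hy⟩ : ∃ y : G, y = z ^ n := ⟨_, rfl⟩
  rw [← hy] at hyl hyF
  have hyM : y ∈ M := fittingOf_le M hyF
  have hy1 : y ≠ 1 := by
    intro h
    rw [h, orderOf_one] at hyl
    exact hp.one_lt.ne hyl
  have hpM : p ∣ Nat.card M := by
    rw [← hyl, ← Subgroup.orderOf_mk y hyM]
    exact orderOf_dvd_natCard _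
  have hcard := card_mul_of_isComplIn hc
  have hpK : p ∣ Nat.card K := by
    rw [hcard] at hpM
    rcases (Nat.Prime.dvd_mul hp).mp hpM with h | h
    · exact h
    · exact absurd ((sigmaCore_hall hG hM).1.2.1 p hp h) hpσ
  have hpκ : ∀ r : ℕ, r.Prime → r ∣ Nat.card (Subgroup.zpowers y) → r ∈ kappa M := by
    intro r hr hrd
    rw [Nat.card_zpowers, hyl] at hrd
    rw [(Nat.prime_dvd_prime_iff_eq hr hp).mp hrd]
    exact hKU.hall.2.1 p hp hpK
  obtain ⟨m, hm, hmK⟩ := exists_cj_le_hall (solvable_of_ne_top hG hM.1) (kappa M) hKU.hall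
    (Subgroup.zpowers_le.mpr hyM) hpκ
  have hy'K : m * y * m⁻¹ ∈ K := hmK ⟨y, Subgroup.mem_zpowers y, rfl⟩
  have hy'F : m * y * m⁻¹ ∈ fittingOf M :=
    (Subgroup.mem_normalizer_iff.mp (le_normalizer_fittingOf M hm) y).mp hyF
  have hy'ord : orderOf (m * y * m⁻¹) = p := by
    rw [← hyl]
    exact orderOf_injective (MulAut.conj m).toMonoidHom (MulAut.conj m).injective y
  have hy'1 : m * y * m⁻¹ ≠ 1 := by
    intro h
    rw [h, orderOf_one] at hy'ord
    exact hp.one_lt.ne hy'ord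
  have hqσ : Nat.card ↥(sigmaCore M ⊓ Subgroup.centralizer (K : Set G)) ∈ sigma M :=
    (sigmaCore_hall hG hM).1.2.1 _ c.hq c.q_dvd_card_X
  have hqp : ¬ Nat.card ↥(sigmaCore M ⊓ Subgroup.centralizer (K : Set G)) ∣
      orderOf (m * y * m⁻¹) := by
    rw [hy'ord]
    intro hd
    rw [(Nat.prime_dvd_prime_iff_eq c.hq hp).mp hd] at hqσ
    exact hpσ hqσ
  apply c.not_Q_le_fix
  rw [← c.hsemi _ hy'K hy'1]
  intro a ha
  refine ⟨c.hQX ha, ?_⟩
  apply Subgroup.mem_centralizer_iff.mpr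
  intro h hh
  rw [Set.mem_singleton_iff] at hh
  rw [hh]
  exact commute_of_mem_fittingOf_Q (c.hQX.trans (sigmaCore_le M)) hMQ c.hQ hy'F hqp ha

/-- centralizers of elements of prime order of `F(M)` lie in `M` -/
theorem centralizer_le_of_mem_fittingOf (hG : IsMinSimpleOddOrder G) {M K U : Subgroup G}
    (hM : IsCoatom M) (hKU : IsSigmaDecomposition M K U)
    (hne : fittingHallOf M ≠ sigmaCore M) {x : G} (hx : x ∈ fittingOf M) {l : ℕ} (hl : l.Prime)
    (hxl : orderOf x = l) : Subgroup.centralizer ({x} : Set G) ≤ M := by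
  obtain ⟨Q, hMQ, c⟩ := exists_cfg hG hM hKU hne
  haveI : Fact (Nat.card ↥(sigmaCore M ⊓ Subgroup.centralizer (K : Set G))).Prime := ⟨c.hq⟩
  have hβ := card_fix_mem_beta hG hM hKU hne
  have hqσ : Nat.card ↥(sigmaCore M ⊓ Subgroup.centralizer (K : Set G)) ∈ sigma M :=
    (sigmaCore_hall hG hM).1.2.1 _ c.hq c.q_dvd_card_X
  have hx1 : x ≠ 1 := by
    intro h
    rw [h, orderOf_one] at hxl
    exact hl.one_lt.ne hxl
  obtain ⟨P⟩ : Nonempty (Sylow (Nat.card ↥(sigmaCore M ⊓ Subgroup.centralizer (K : Set G)))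
    ↥(sigmaCore M)) := inferInstance
  by_cases hlq : l = Nat.card ↥(sigmaCore M ⊓ Subgroup.centralizer (K : Set G))
  · have h1 := (Cfsg.Agent.S1423.result hG M hM _ hqσ (Subgroup.zpowers x)
      (Subgroup.zpowers_le.mpr (fittingOf_le M hx)) (by rw [Nat.card_zpowers, hxl, hlq]) P
      (Or.inl hβ)).1.1
    rwa [← centralizer_singleton_eq] at h1
  · have h1 := (Cfsg.Agent.S1423.result hG M hM _ hqσ
      (sigmaCore M ⊓ Subgroup.centralizer (K : Set G)) (inf_le_left.trans (sigmaCore_le M)) rfl P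
      (Or.inl hβ)).2
    have hPQ : (P : Subgroup ↥(sigmaCore M)).map (sigmaCore M).subtype ≤ Q := by
      apply le_of_normal_sylow c.hQX c.hXQ c.hQ c.hQs (Subgroup.map_subtype_le _)
      exact P.2.map _
    have hQC : Q ≤ Subgroup.centralizer ({x} : Set G) := by
      intro a ha
      apply Subgroup.mem_centralizer_iff.mpr
      intro h hh
      rw [Set.mem_singleton_iff] at hh
      rw [hh]
      apply commute_of_mem_fittingOf_Q (c.hQX.trans (sigmaCore_le M)) hMQ c.hQ hx _ ha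
      rw [hxl]
      intro hd
      exact hlq ((Nat.prime_dvd_prime_iff_eq c.hq hl).mp hd).symm
    obtain ⟨N, hN, hCN⟩ := exists_coatom_ge (BG7.center_ne_top hG hx1)
    have hNM : N = M := h1.1.unique ⟨hN, (hPQ.trans hQC).trans hCN⟩ ⟨hM, h1.2⟩
    rw [← hNM]; exact hCN

/-- **Theorem 15.2**: `F(M)` is a TI-subset when `M_F ≠ M_σ` -/
theorem fittingOf_ti_of_ne (hG : IsMinSimpleOddOrder G) {M K U : Subgroup G}
    (hM : IsCoatom M) (hKU : IsSigmaDecomposition M K U)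
    (hne : fittingHallOf M ≠ sigmaCore M) : IsTISubset (fittingOf M : Set G) := by
  intro g hg x hx hgx
  by_contra hx1
  apply hg
  apply le_normalizer_fittingOf M
  have hFσ := fittingOf_le_sigmaCore_of_ne hG hM hKU hne
  have hord : orderOf x ≠ 1 := fun h => hx1 (orderOf_eq_one_iff.mp h)
  obtain ⟨l, hl, hlx⟩ := Nat.exists_prime_and_dvd hord
  have hx0 : orderOf x ≠ 0 := (orderOf_pos x).ne'
  obtain ⟨n, hn⟩ : ∃ n : ℕ, n = orderOf x / l := ⟨_, rfl⟩
  have hzl : orderOf (x ^ n) = l := by rw [hn]; exact orderOf_pow_orderOf_div hx0 hlx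
  have hzF : x ^ n ∈ fittingOf M := Subgroup.pow_mem _ hx n
  have hconj : g * x ^ n * g⁻¹ = (g * x * g⁻¹) ^ n := (conj_pow (i := n) (a := g) (b := x)).symm
  have hwF : g * x ^ n * g⁻¹ ∈ fittingOf M := by rw [hconj]; exact Subgroup.pow_mem _ hgx n
  have hC := centralizer_le_of_mem_fittingOf hG hM hKU hne hzF hl hzl
  have hxg : x ^ n ∈ cj g⁻¹ M := by
    rw [mem_cj, inv_inv]
    exact fittingOf_le M hwF
  obtain ⟨c, hc, hcg⟩ := Cfsg.Agent.Lib.Lead.BG14n.exists_centralizer_cj hG hM (hFσ hzF) hxg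
  have h4 : cj g⁻¹ M = M := by rw [hcg]; exact Cfsg.Agent.Lib.Helper7.cj_eq_self_of_mem (hC hc)
  have hM1 : M ≠ ⊥ := by
    rintro rfl
    apply hx1
    have := fittingOf_le _ hx
    rwa [Subgroup.mem_bot] at this
  have h5 : Subgroup.normalizer (M : Set G) = M :=
    normalizer_eq_of_isCoatom hG hM hM1 le_rfl Subgroup.le_normalizer
  have h6 : g⁻¹ ∈ M := by
    rw [← h5]; exact mem_normalizer_iff_cj.mpr h4
  simpa using M.inv_mem h6

end Cfsg.Agent.Lib.Helper4.BG23
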