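import Mathlib
import Cfsg.Agent.Lib.Helper4.BG23g
import Cfsg.Agent.Lib.Helper4.BG19g
import Cfsg.Agent.Lib.Helper4.BG7j
import Cfsg.Agent.Lib.Helper4.BG13f
import Cfsg.Agent.S1351

set_option autoImplicit false
set_option linter.style.haveILetI false
set_option linter.unusedSectionVars false
set_option maxHeartbeats 1600000

/-! Bender–Glauberman Corollary 15.? : `M' / M_F` is nilpotent. -/

namespace Cfsg.Agent.Lib.Helper4.BG23

open Cfsg Cfsg.Agent.Lib.Lead Cfsg.Agent.Lib.Lead.BG10 Cfsg.Agent.Lib.Helper7 Cfsg.Agent.Lib.Helper4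
open Cfsg.Agent.Lib.Helper4.BG76 Cfsg.Agent.Lib.Helper4.BG8 Cfsg.Agent.Lib.Helper4.BG9
open Cfsg.Agent.Lib.Helper4.BG7 Cfsg.Agent.Lib.Helper4.BG12 Cfsg.Agent.Lib.Helper4.BGConj
open Cfsg.Agent.Lib.Helper4.BG13 Cfsg.Agent.Lib.Lead.BG95 Cfsg.Agent.Lib.Lead.BG12q
open Cfsg.Agent.Lib.Lead.BG11 Cfsg.Agent.Lib.Lead.BG13q Cfsg.Agent.Lib.Helper4.BG18
open Cfsg.Agent.Lib.Helper2.BG12 Cfsg.Agent.Lib.Helper6 Cfsg.Agent.Lib.Helper2.BG13x
open Cfsg.Agent.Lib.Helper2.BG14y Cfsg.Agent.Lib.Helper4.BG14 Cfsg.Agent.Lib.Helper5.BG139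
open Cfsg.Agent.Lib.Helper2.BG14z Cfsg.Agent.Lib.Lead.BG14n Cfsg.Agent.Lib.Helper4.BG21
open Cfsg.Agent.Lib.Helper4.BG22
open scoped commutatorElement Pointwise

universe u

variable {G : Type u} [Group G] [Finite G]

/-- existence of the standard factorisation -/
theorem exists_sd' (hG : IsMinSimpleOddOrder G) {M : Subgroup G} (hM : IsCoatom M) :
    ∃ K U : Subgroup G, IsSigmaDecomposition M K U := by
  obtain ⟨⟨K, hK⟩, hc⟩ := Cfsg.Agent.S1351.result hG M hM
  obtain ⟨U, hU⟩ := Cfsg.Agent.Lib.Helper4.BG19.exists_sigmaDecomposition hG hM (hc K hK) hK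
  exact ⟨K, U, hU⟩

/-- the image of `M'` in `M / M_F` is nilpotent as soon as `M' ≤ M_F H` with `H ≤ M` nilpotent -/
theorem nilpotent_map_commutator_of_le {M H : Subgroup G} (hHM : H ≤ M)
    (hH : Group.IsNilpotent ↥H) (hle : ⁅M, M⁆ ≤ fittingHallOf M ⊔ H) :
    Group.IsNilpotent ↥((commutator ↥M).map (QuotientGroup.mk' (fittingHall ↥M))) := by
  have hHn : H ≤ Subgroup.normalizer (fittingHallOf M : Set G) :=
    hHM.trans (le_normalizer_fittingHallOf M)
  have h1 : (commutator ↥M).map (QuotientGroup.mk' (fittingHall ↥M)) ≤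
      (H.subgroupOf M).map (QuotientGroup.mk' (fittingHall ↥M)) := by
    rintro _ ⟨x, hx, rfl⟩
    have hx' : (x : G) ∈ ⁅M, M⁆ := by
      rw [← Subgroup.map_subtype_commutator]
      exact ⟨x, hx, rfl⟩
    have hx2 := hle hx'
    rw [← SetLike.mem_coe, Subgroup.coe_mul_of_right_le_normalizer_left _ _ hHn, Set.mem_mul] at hx2
    obtain ⟨f, hf, h, hh, hfh⟩ := hx2
    obtain ⟨f', hf', rfl⟩ := hf
    refine ⟨⟨h, hHM hh⟩, Subgroup.mem_subgroupOf.mpr hh, ?_⟩
    have e : x = f' * ⟨h, hHM hh⟩ := Subtype.ext hfh.symm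
    have e1 : (QuotientGroup.mk' (fittingHall ↥M)) f' = 1 :=
      (QuotientGroup.eq_one_iff f').mpr hf'
    rw [e, map_mul, e1, one_mul]
  haveI : Group.IsNilpotent ↥(H.subgroupOf M) :=
    haveI := hH
    Group.nilpotent_of_mulEquiv (Subgroup.subgroupOfEquivOfLe hHM).symm
  have h2 : Group.IsNilpotent ↥((H.subgroupOf M).map (QuotientGroup.mk' (fittingHall ↥M))) :=
    Group.nilpotent_of_surjective _
      ((QuotientGroup.mk' (fittingHall ↥M)).subgroupMap_surjective (H.subgroupOf M))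
  exact isNilpotent_of_le h2 h1

/-- **Corollary 15.?**: `M_F ≠ 1` and `M' / M_F` is nilpotent -/
theorem fittingHall_props (hG : IsMinSimpleOddOrder G) {M : Subgroup G} (hM : IsCoatom M) :
    fittingHallOf M ≠ ⊥ ∧
      Group.IsNilpotent ↥((commutator ↥M).map (QuotientGroup.mk' (fittingHall ↥M))) := by
  by_cases hnil : Group.IsNilpotent ↥(sigmaCore M)
  · have heq := Cfsg.Agent.Lib.Lead.BG14n.sigmaCore_eq_fittingHallOf hG hM hnil
    refine ⟨by rw [← heq]; exact Cfsg.Agent.Lib.Helper2.BG11.sigmaCore_ne_bot hG hM, ?_⟩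
    obtain ⟨E, hE, -⟩ := BG13.exists_complIn_ge hG hM (bot_le : (⊥ : Subgroup G) ≤ M)
      (by rw [Subgroup.card_bot]; exact Nat.coprime_one_left _)
    have hEn : E ≤ Subgroup.normalizer (sigmaCore M : Set G) :=
      hE.1.trans (le_normalizer_sigmaCore M)
    have h1 : ⁅M, M⁆ ≤ sigmaCore M ⊔ ⁅E, E⁆ := by
      have := BG7.commutator_sup_le (K := sigmaCore M) (N₁ := E) hEn
      rwa [sup_comm (sigmaCore M) E, IsComplIn.sup_eq hE] at this
    rw [heq] at h1
    exact nilpotent_map_commutator_of_le ((BG10.commutator_self_le E).trans hE.1)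
      (commutator_compl_nilpotent hG hM hE) h1
  · obtain ⟨K, U, hKU⟩ := exists_sd' hG hM
    have hne : fittingHallOf M ≠ sigmaCore M := by
      intro h
      apply hnil
      rw [← h]
      exact isNilpotent_fittingHallOf M
    obtain ⟨hnn, hU, hK1, hc, hder⟩ := p1_of_fittingHall_ne hG hM hKU hne
    obtain ⟨Q, hMQ, c⟩ := exists_cfg hG hM hKU hne
    have hQF := Q_le_fittingHallOf hG hM hKU hne hMQ c
    obtain ⟨D, hD⟩ := exists_isComplIn_of_normal_sylow c.hq c.hQX c.hXQ c.hQ c.hQs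
    constructor
    · intro h
      have h1 : sigmaCore M ⊓ Subgroup.centralizer (K : Set G) = ⊥ := by
        rw [eq_bot_iff, ← h]; exact c.fix_le.trans hQF
      have h2 := c.hq
      rw [h1, Subgroup.card_bot] at h2
      exact Nat.not_prime_one h2
    · apply nilpotent_map_commutator_of_le (hD.2.1.trans (sigmaCore_le M)) (c.main hD).1
      rw [hder]
      intro x hx
      obtain ⟨a, ha, b, hb, rfl⟩ := hD.2.2.2 x hx
      exact Subgroup.mul_mem _ (Subgroup.mem_sup_left (hQF ha)) (Subgroup.mem_sup_right hb)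

end Cfsg.Agent.Lib.Helper4.BG23
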