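import Mathlib
import Cfsg.Prelude.Def_OddOrderChar

set_option autoImplicit false

namespace Cfsg.Agent.Lib.Helper4

section Dade
variable {G : Type*} [Group G] {A : Set G} {L : Subgroup G} {H : G → Subgroup G}

theorem dade_mem_inf (hD : Cfsg.DadeHypothesis A L H) {a : G} (ha : a ∈ A) :
    a ∈ L ⊓ Subgroup.centralizer ({a} : Set G) := by
  refine ⟨hD.subset ha, ?_⟩
  show a ∈ Subgroup.centralizer ({a} : Set G)
  rw [Subgroup.mem_centralizer_iff]
  intro y hy
  rw [Set.mem_singleton_iff] at hy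
  rw [hy]

theorem dade_commute (hD : Cfsg.DadeHypothesis A L H) {a : G} (ha : a ∈ A) {u : G}
    (hu : u ∈ H a) : a * u = u * a := by
  have := hD.le_centralizer a ha hu
  rw [Subgroup.mem_centralizer_iff] at this
  exact this a rfl

/-- There is an exponent `k` with `(a u)^k = a` for all `a ∈ A`-type elements among two given
ones. -/
theorem dade_exponent [Finite G] (hD : Cfsg.DadeHypothesis A L H) {a b : G} (ha : a ∈ A) (hb : b ∈ A) :
    ∃ k : ℕ, (∀ u ∈ H a, (a * u) ^ k = a) ∧ (∀ v ∈ H b, (b * v) ^ k = b) := by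
  set m₁ := Nat.card ↥(L ⊓ Subgroup.centralizer ({a} : Set G)) *
    Nat.card ↥(L ⊓ Subgroup.centralizer ({b} : Set G)) with hm₁
  set m₂ := Nat.card (H a) * Nat.card (H b) with hm₂
  have hcop : Nat.Coprime m₁ m₂ := by
    apply Nat.Coprime.mul_left
    · apply Nat.Coprime.mul_right
      · exact (hD.coprime a ha a ha).symm
      · exact (hD.coprime b hb a ha).symm
    · apply Nat.Coprime.mul_right
      · exact (hD.coprime a ha b hb).symm
      · exact (hD.coprime b hb b hb).symm
  obtain ⟨k, hk1, hk2⟩ := Nat.chineseRemainder hcop 1 0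
  have hpow_self : ∀ c : G, c ∈ A → orderOf c ∣ m₁ → c ^ k = c := by
    intro c _ hc
    conv_rhs => rw [← pow_one c]
    rw [pow_eq_pow_iff_modEq]
    exact hk1.of_dvd hc
  have hpow_one : ∀ w : G, orderOf w ∣ m₂ → w ^ k = 1 := by
    intro w hw
    rw [← pow_zero w, pow_eq_pow_iff_modEq]
    exact hk2.of_dvd hw
  have hoa : orderOf a ∣ m₁ := by
    have h1 : orderOf (⟨a, dade_mem_inf hD ha⟩ : ↥(L ⊓ Subgroup.centralizer ({a} : Set G)))
        ∣ Nat.card ↥(L ⊓ Subgroup.centralizer ({a} : Set G)) := orderOf_dvd_natCard _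
    rw [← Subgroup.orderOf_coe] at h1
    exact dvd_mul_of_dvd_left h1 _
  have hob : orderOf b ∣ m₁ := by
    have h1 : orderOf (⟨b, dade_mem_inf hD hb⟩ : ↥(L ⊓ Subgroup.centralizer ({b} : Set G)))
        ∣ Nat.card ↥(L ⊓ Subgroup.centralizer ({b} : Set G)) := orderOf_dvd_natCard _
    rw [← Subgroup.orderOf_coe] at h1
    exact dvd_mul_of_dvd_right h1 _
  refine ⟨k, fun u hu => ?_, fun v hv => ?_⟩
  · have hou : orderOf u ∣ m₂ := by
      have h1 : orderOf (⟨u, hu⟩ : H a) ∣ Nat.card (H a) := orderOf_dvd_natCard _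
      rw [← Subgroup.orderOf_coe] at h1
      exact dvd_mul_of_dvd_left h1 _
    rw [(show Commute a u from dade_commute hD ha hu).mul_pow, hpow_self a ha hoa,
      hpow_one u hou, mul_one]
  · have hov : orderOf v ∣ m₂ := by
      have h1 : orderOf (⟨v, hv⟩ : H b) ∣ Nat.card (H b) := orderOf_dvd_natCard _
      rw [← Subgroup.orderOf_coe] at h1
      exact dvd_mul_of_dvd_right h1 _
    rw [(show Commute b v from dade_commute hD hb hv).mul_pow, hpow_self b hb hob,
      hpow_one v hov, mul_one]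

/-- Key lemma: conjugating an element of `a H(a)` into `b H(b)` conjugates `a` to `b`. -/
theorem dade_key [Finite G] (hD : Cfsg.DadeHypothesis A L H) {a b : G} (ha : a ∈ A) (hb : b ∈ A)
    {u v g : G} (hu : u ∈ H a) (hv : v ∈ H b) (hg : g * (a * u) * g⁻¹ = b * v) :
    g * a * g⁻¹ = b := by
  obtain ⟨k, hk1, hk2⟩ := dade_exponent hD ha hb
  have h1 : g * (a * u) ^ k * g⁻¹ = (b * v) ^ k := by
    rw [← hg, conj_pow]
  rw [hk1 u hu, hk2 v hv] at h1
  exact h1

end Dade

end Cfsg.Agent.Lib.Helper4
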