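import Mathlib
import Cfsg.Prelude.Def_OddOrderChar
import Cfsg.Agent.Lib.Helper4.Dade
import Cfsg.Agent.Lib.Lead.CoprimeTools
import Cfsg.Agent.Lib.Helper6.ChermakDelgado

set_option autoImplicit false

namespace Cfsg.Agent.Lib.Helper4

open scoped Pointwise

section General
variable {G : Type*} [Group G]

/-- An element whose order is coprime to the index of a normal subgroup lies in it. -/
theorem mem_of_coprime_index [Finite G] (N : Subgroup G) [N.Normal] (g : G)
    (h : Nat.Coprime (orderOf g) N.index) : g ∈ N := by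
  have h1 : orderOf (QuotientGroup.mk' N g) ∣ orderOf g := orderOf_map_dvd _ g
  have h2 : orderOf (QuotientGroup.mk' N g) ∣ N.index := by
    rw [Subgroup.index_eq_card]
    exact orderOf_dvd_natCard _
  have h3 : orderOf (QuotientGroup.mk' N g) = 1 := Nat.eq_one_of_dvd_coprimes h h1 h2
  rw [orderOf_eq_one_iff] at h3
  exact (QuotientGroup.eq_one_iff g).1 h3

end General

section Dade2
variable {G : Type*} [Group G] [Finite G] {A : Set G} {L : Subgroup G} {H : G → Subgroup G}

theorem dade_card_centralizer (hD : Cfsg.DadeHypothesis A L H) {a : G} (ha : a ∈ A) :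
    Nat.card (Subgroup.centralizer ({a} : Set G))
      = Nat.card ↥(L ⊓ Subgroup.centralizer ({a} : Set G)) * Nat.card (H a) := by
  have hnorm : L ⊓ Subgroup.centralizer ({a} : Set G) ≤ Subgroup.normalizer ((H a : Subgroup G) : Set G) := by
    intro c hc
    rw [Subgroup.mem_normalizer_iff]
    intro u
    constructor
    · intro hu
      exact hD.conj_mem_H a ha c hc.2 u hu
    · intro hu
      have := hD.conj_mem_H a ha c⁻¹ (inv_mem hc.2) _ hu
      simpa [mul_assoc] using this
  have hd : (L ⊓ Subgroup.centralizer ({a} : Set G)) ⊓ H a = ⊥ := by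
    rw [inf_comm]
    exact hD.inf_eq_bot a ha
  have h1 := Cfsg.Agent.Lib.Lead.card_sup_of_disjoint _ _ hnorm hd
  rw [sup_comm, hD.sup_eq a ha] at h1
  exact h1

theorem dade_mem_H_of_coprime (hD : Cfsg.DadeHypothesis A L H) {b : G} (hb : b ∈ A) {k : G}
    (hk : k ∈ Subgroup.centralizer ({b} : Set G))
    (hcop : Nat.Coprime (orderOf k) (Nat.card ↥(L ⊓ Subgroup.centralizer ({b} : Set G)))) :
    k ∈ H b := by
  set C := Subgroup.centralizer ({b} : Set G) with hC
  have hHC : H b ≤ C := hD.le_centralizer b hb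
  have hnormal : ((H b).subgroupOf C).Normal := by
    constructor
    intro n hn g
    rw [Subgroup.mem_subgroupOf] at hn ⊢
    exact hD.conj_mem_H b hb g g.2 n hn
  have hidx : ((H b).subgroupOf C).index = Nat.card ↥(L ⊓ C) := by
    have h1 := Subgroup.card_mul_index ((H b).subgroupOf C)
    have h2 : Nat.card ((H b).subgroupOf C) = Nat.card (H b) :=
      Nat.card_congr (Subgroup.subgroupOfEquivOfLe hHC).toEquiv
    rw [h2, dade_card_centralizer hD hb, mul_comm] at h1
    exact Nat.eq_of_mul_eq_mul_right Nat.card_pos h1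
  have h3 : (⟨k, hk⟩ : C) ∈ (H b).subgroupOf C := by
    apply mem_of_coprime_index
    rw [hidx]
    have : orderOf (⟨k, hk⟩ : C) = orderOf k := by
      rw [← Subgroup.orderOf_coe]
    rw [this]
    exact hcop
  exact Subgroup.mem_subgroupOf.1 h3

/-- Equivariance of the supplementing subgroups. -/
theorem dade_H_conj (hD : Cfsg.DadeHypothesis A L H) {a : G} (ha : a ∈ A) (y : G)
    (hb : y * a * y⁻¹ ∈ A) {u : G} (hu : u ∈ H a) : y * u * y⁻¹ ∈ H (y * a * y⁻¹) := by
  apply dade_mem_H_of_coprime hD hb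
  · rw [Subgroup.mem_centralizer_iff]
    intro z hz
    rw [Set.mem_singleton_iff] at hz
    subst hz
    have h1 := dade_commute hD ha hu
    calc y * a * y⁻¹ * (y * u * y⁻¹) = y * (a * u) * y⁻¹ := by group
      _ = y * (u * a) * y⁻¹ := by rw [h1]
      _ = y * u * y⁻¹ * (y * a * y⁻¹) := by group
  · have h1 : orderOf (y * u * y⁻¹) = orderOf u := by
      have hs : SemiconjBy y u (y * u * y⁻¹) := by
        unfold SemiconjBy
        group
      exact (hs.orderOf_eq y).symm
    rw [h1]
    have h2 : orderOf u ∣ Nat.card (H a) := by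
      have h3 : orderOf (⟨u, hu⟩ : H a) ∣ Nat.card (H a) := orderOf_dvd_natCard _
      rwa [← Subgroup.orderOf_coe] at h3
    exact Nat.Coprime.coprime_dvd_left h2 (hD.coprime a ha _ hb)

theorem dade_card_H_conj (hD : Cfsg.DadeHypothesis A L H) {a : G} (ha : a ∈ A) (y : G)
    (hb : y * a * y⁻¹ ∈ A) : Nat.card (H (y * a * y⁻¹)) = Nat.card (H a) := by
  have ha' : y⁻¹ * (y * a * y⁻¹) * y⁻¹⁻¹ = a := by group
  apply le_antisymm
  · refine Nat.card_le_card_of_injective
      (fun v : H (y * a * y⁻¹) => (⟨y⁻¹ * v * y⁻¹⁻¹, ?_⟩ : H a)) ?_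
    · have := dade_H_conj hD hb y⁻¹ (by rw [ha']; exact ha) v.2
      rwa [ha'] at this
    · intro v w hvw
      have := congrArg Subtype.val hvw
      simp only [mul_left_inj, mul_right_inj] at this
      exact Subtype.ext this
  · refine Nat.card_le_card_of_injective
      (fun v : H a => (⟨y * v * y⁻¹, dade_H_conj hD ha y hb v.2⟩ : H (y * a * y⁻¹))) ?_
    intro v w hvw
    have := congrArg Subtype.val hvw
    simp only [mul_left_inj, mul_right_inj] at this
    exact Subtype.ext this

/-- The set of elements conjugating `a` into `A` is `L · C_G(a)`. -/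
theorem dade_conj_set (hD : Cfsg.DadeHypothesis A L H) {a : G} (ha : a ∈ A) :
    {y : G | y * a * y⁻¹ ∈ A} = (L : Set G) * (Subgroup.centralizer ({a} : Set G) : Set G) := by
  ext y
  constructor
  · intro hy
    obtain ⟨l, hl, hla⟩ := hD.fusion a ha y hy
    refine ⟨l, hl, l⁻¹ * y, ?_, by group⟩
    rw [SetLike.mem_coe, Subgroup.mem_centralizer_iff]
    intro z hz
    rw [Set.mem_singleton_iff] at hz
    subst hz
    calc z * (l⁻¹ * y) = l⁻¹ * (l * z * l⁻¹) * y := by group
      _ = l⁻¹ * (y * z * y⁻¹) * y := by rw [hla]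
      _ = l⁻¹ * y * z := by group
  · rintro ⟨l, hl, c, hc, rfl⟩
    rw [SetLike.mem_coe, Subgroup.mem_centralizer_iff] at hc
    have hca : c * a * c⁻¹ = a := by
      rw [← hc a rfl]
      group
    show l * c * a * (l * c)⁻¹ ∈ A
    have : l * c * a * (l * c)⁻¹ = l * (c * a * c⁻¹) * l⁻¹ := by group
    rw [this, hca]
    exact hD.conj_mem l hl a ha

theorem dade_card_conj_set (hD : Cfsg.DadeHypothesis A L H) {a : G} (ha : a ∈ A) :
    Nat.card {y : G // y * a * y⁻¹ ∈ A} = Nat.card L * Nat.card (H a) := by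
  have h1 := Cfsg.Agent.Lib.Helper6.card_setMul_mul_card_inf L (Subgroup.centralizer ({a} : Set G))
  rw [← dade_conj_set hD ha, dade_card_centralizer hD ha, ← mul_assoc] at h1
  have h2 : Nat.card ↥{y : G | y * a * y⁻¹ ∈ A} * Nat.card ↥(L ⊓ Subgroup.centralizer ({a} : Set G))
      = Nat.card L * Nat.card (H a) * Nat.card ↥(L ⊓ Subgroup.centralizer ({a} : Set G)) := by
    rw [h1]
    ring
  exact Nat.eq_of_mul_eq_mul_right Nat.card_pos h2

end Dade2

end Cfsg.Agent.Lib.Helper4
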