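import Mathlib
import Cfsg.Agent.Lib.Helper4.BG23h
import Cfsg.Agent.Lib.Helper4.Dade2
import Cfsg.Agent.S1431
import Cfsg.Agent.S1420
import Cfsg.Agent.S1359

set_option autoImplicit false
set_option linter.style.haveILetI false
set_option linter.unusedSectionVars false
set_option maxHeartbeats 1600000

/-! Bender–Glauberman Corollary 15.5 (Fitting structure): general part and the case `M_σ` nilpotent. -/

namespace Cfsg.Agent.Lib.Helper4.BG23

open Cfsg Cfsg.Agent.Lib.Lead Cfsg.Agent.Lib.Lead.BG10 Cfsg.Agent.Lib.Helper7 Cfsg.Agent.Lib.Helper4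
open Cfsg.Agent.Lib.Helper4.BG76 Cfsg.Agent.Lib.Helper4.BG8 Cfsg.Agent.Lib.Helper4.BG9
open Cfsg.Agent.Lib.Helper4.BG7 Cfsg.Agent.Lib.Helper4.BG12 Cfsg.Agent.Lib.Helper4.BGConj
open Cfsg.Agent.Lib.Helper4.BG13 Cfsg.Agent.Lib.Lead.BG95 Cfsg.Agent.Lib.Lead.BG12q
open Cfsg.Agent.Lib.Lead.BG11 Cfsg.Agent.Lib.Lead.BG13q Cfsg.Agent.Lib.Helper4.BG18
open Cfsg.Agent.Lib.Helper2.BG12 Cfsg.Agent.Lib.Helper6 Cfsg.Agent.Lib.Helper2.BG13x
open Cfsg.Agent.Lib.Helper2.BG14y Cfsg.Agent.Lib.Helper4.BG14 Cfsg.Agent.Lib.Helper5.BG139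
open Cfsg.Agent.Lib.Helper2.BG14z Cfsg.Agent.Lib.Lead.BG14n Cfsg.Agent.Lib.Helper4.BG21
open Cfsg.Agent.Lib.Helper4.BG22
open scoped commutatorElement Pointwise

universe u

variable {G : Type u} [Group G] [Finite G]

/-- elements of `F(M)` of coprime orders commute -/
theorem commute_of_mem_fittingOf_coprime {M : Subgroup G} {z y : G} (hz : z ∈ fittingOf M)
    (hy : y ∈ fittingOf M) (hcop : (orderOf z).Coprime (orderOf y)) : z * y = y * z := by
  haveI : Group.IsNilpotent ↥(fittingOf M) := isNilpotent_fittingOf M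
  have hcop' : (orderOf (⟨z, hz⟩ : ↥(fittingOf M))).Coprime
      (orderOf (⟨y, hy⟩ : ↥(fittingOf M))) := by
    rw [Subgroup.orderOf_mk, Subgroup.orderOf_mk]; exact hcop
  have h := Cfsg.Agent.Lib.Helper5.NilSym.commute_of_coprime ↥(fittingOf M) ⟨z, hz⟩ ⟨y, hy⟩
    (isOfFinOrder_of_finite _) (isOfFinOrder_of_finite _) hcop'
  exact congrArg Subtype.val h.eq

theorem fittingHallOf_le_fittingOf (M : Subgroup G) : fittingHallOf M ≤ fittingOf M :=
  le_fittingOf (fittingHallOf_le M) (le_normalizer_fittingHallOf M) (isNilpotent_fittingHallOf M)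

/-- an element of `M` whose order is prime to `|M : M_F|` lies in `M_F` -/
theorem mem_fittingHallOf_of_coprime {M : Subgroup G} {x : G} (hx : x ∈ M)
    (h : (orderOf x).Coprime ((fittingHallOf M).relIndex M)) : x ∈ fittingHallOf M := by
  have hidx : (fittingHallOf M).relIndex M = (fittingHall ↥M).index := by
    unfold Subgroup.relIndex Cfsg.fittingHallOf
    congr 1
    ext x
    simp only [Subgroup.mem_subgroupOf, Subgroup.mem_map, Subgroup.coe_subtype]
    constructor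
    · rintro ⟨y, hy, hyx⟩
      have : y = x := Subtype.ext hyx
      rw [← this]; exact hy
    · intro hx; exact ⟨x, hx, rfl⟩
  have h1 : (⟨x, hx⟩ : ↥M) ∈ fittingHall ↥M := by
    apply mem_of_coprime_index
    rw [Subgroup.orderOf_mk, ← hidx]
    exact h
  exact ⟨⟨x, hx⟩, h1, rfl⟩

/-- `F(M) ≤ C_M(M_F) M_F` -/
theorem fittingOf_le_centralizer_sup (M : Subgroup G) :
    fittingOf M ≤ (M ⊓ Subgroup.centralizer (fittingHallOf M : Set G)) ⊔ fittingHallOf M := by
  intro z hz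
  have hzM : z ∈ M := fittingOf_le M hz
  obtain ⟨n, hn⟩ : ∃ n : ℕ, n = Nat.card (fittingHallOf M) := ⟨_, rfl⟩
  obtain ⟨i, hi⟩ : ∃ i : ℕ, i = (fittingHallOf M).relIndex M := ⟨_, rfl⟩
  have hcop : n.Coprime i := by rw [hn, hi]; exact fittingHallOf_coprime M
  have hcard : n * i = Nat.card M := by
    have := Subgroup.relIndex_mul_relIndex ⊥ (fittingHallOf M) M bot_le (fittingHallOf_le M)
    rw [Subgroup.relIndex_bot_left, Subgroup.relIndex_bot_left] at this
    rw [hn, hi]; exact this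
  have hz1 : z ^ (n * i) = 1 := by
    rw [hcard]
    have : (⟨z, hzM⟩ : ↥M) ^ Nat.card M = 1 := pow_card_eq_one'
    exact congrArg Subtype.val this
  -- `z ^ i ∈ M_F`
  have h1 : z ^ i ∈ fittingHallOf M := by
    apply mem_fittingHallOf_of_coprime (M.pow_mem hzM i)
    rw [← hi]
    apply Nat.Coprime.coprime_dvd_left _ hcop
    apply orderOf_dvd_of_pow_eq_one
    rw [← pow_mul, mul_comm]; exact hz1
  -- `z ^ n` centralizes `M_F`
  have h2 : z ^ n ∈ M ⊓ Subgroup.centralizer (fittingHallOf M : Set G) := by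
    refine ⟨M.pow_mem hzM n, ?_⟩
    apply Subgroup.mem_centralizer_iff.mpr
    intro y hy
    symm
    apply commute_of_mem_fittingOf_coprime (Subgroup.pow_mem _ hz n)
      (fittingHallOf_le_fittingOf M hy)
    have h3 : orderOf (z ^ n) ∣ i := by
      apply orderOf_dvd_of_pow_eq_one
      rw [← pow_mul]; exact hz1
    have h4 : orderOf y ∣ n := by
      rw [hn, ← Subgroup.orderOf_mk y hy]
      exact orderOf_dvd_natCard _
    exact Nat.Coprime.coprime_dvd_left h3 (Nat.Coprime.coprime_dvd_right h4 hcop.symm)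
  have hb : (1 : ℤ) = n * Nat.gcdA n i + i * Nat.gcdB n i := by
    have := Nat.gcd_eq_gcd_ab n i
    rw [hcop] at this
    exact_mod_cast this
  have hz : z = (z ^ n) ^ (Nat.gcdA n i) * (z ^ i) ^ (Nat.gcdB n i) := by
    rw [← zpow_natCast z n, ← zpow_natCast z i, ← zpow_mul, ← zpow_mul, ← zpow_add, ← hb, zpow_one]
  rw [hz]
  exact Subgroup.mul_mem _ (Subgroup.mem_sup_left (Subgroup.zpow_mem _ h2 _))
    (Subgroup.mem_sup_right (Subgroup.zpow_mem _ h1 _))

/-- a subgroup whose commutator subgroup is central is nilpotent -/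
theorem nilpotent_of_commutator_le_centralizer {C : Subgroup G}
    (h : ⁅C, C⁆ ≤ Subgroup.centralizer (C : Set G)) : Group.IsNilpotent ↥C := by
  rw [nilpotent_iff_lowerCentralSeries]
  refine ⟨2, ?_⟩
  rw [lowerCentralSeries_succ, lowerCentralSeries_succ, lowerCentralSeries_zero]
  have key : ∀ a b x : ↥C, x * ⁅a, b⁆ = ⁅a, b⁆ * x := by
    intro a b x
    have h1 : ⁅(a : G), (b : G)⁆ ∈ ⁅C, C⁆ := Subgroup.commutator_mem_commutator a.2 b.2
    have h2 := Subgroup.mem_centralizer_iff.mp (h h1) x.1 x.2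
    apply Subtype.ext
    simpa [commutatorElement_def] using h2
  rw [eq_bot_iff]
  apply (Subgroup.closure_le _).mpr
  rintro _ ⟨y, hy, x, -, rfl⟩
  have hy' : ∀ x : ↥C, x * y = y * x := by
    intro x
    have hcl : (Subgroup.closure {g : ↥C | ∃ g₁ ∈ (⊤ : Subgroup ↥C), ∃ g₂ ∈ (⊤ : Subgroup ↥C),
        ⁅g₁, g₂⁆ = g}) ≤ Subgroup.centralizer ({x} : Set ↥C) := by
      apply (Subgroup.closure_le _).mpr
      rintro _ ⟨a, -, b, -, rfl⟩
      apply Subgroup.mem_centralizer_iff.mpr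
      intro z hz
      rw [Set.mem_singleton_iff] at hz
      rw [hz]; exact key a b x
    exact Subgroup.mem_centralizer_iff.mp (hcl hy) x rfl
  rw [SetLike.mem_coe, Subgroup.mem_bot, commutatorElement_eq_one_iff_mul_comm]
  exact (hy' x).symm

/-- `M'' ≤ M_σ` -/
theorem second_derived_le_sigmaCore (hG : IsMinSimpleOddOrder G) {M : Subgroup G}
    (hM : IsCoatom M) : ⁅⁅M, M⁆, ⁅M, M⁆⁆ ≤ sigmaCore M := by
  obtain ⟨E, hE, -⟩ := BG13.exists_complIn_ge hG hM (bot_le : (⊥ : Subgroup G) ≤ M)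
    (by rw [Subgroup.card_bot]; exact Nat.coprime_one_left _)
  have hEn : E ≤ Subgroup.normalizer (sigmaCore M : Set G) :=
    hE.1.trans (le_normalizer_sigmaCore M)
  have h1 : ⁅M, M⁆ ≤ sigmaCore M ⊔ ⁅E, E⁆ := by
    have := BG7.commutator_sup_le (K := sigmaCore M) (N₁ := E) hEn
    rwa [sup_comm (sigmaCore M) E, IsComplIn.sup_eq hE] at this
  have h2 := BG7.commutator_sup_le (K := sigmaCore M) (N₁ := ⁅E, E⁆)
    ((BG10.commutator_self_le E).trans hEn)
  have hab := (Cfsg.Agent.S1420.result hG M hM E hE).2.1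
  have h3 : ⁅⁅E, E⁆, ⁅E, E⁆⁆ = ⊥ := by
    rw [Subgroup.commutator_eq_bot_iff_le_centralizer]
    intro a ha
    apply Subgroup.mem_centralizer_iff.mpr
    intro b hb
    have := hab.is_comm.comm (⟨b, hb⟩ : ↥⁅E, E⁆) ⟨a, ha⟩
    exact congrArg Subtype.val this
  rw [h3, sup_bot_eq] at h2
  exact (Subgroup.commutator_mono h1 h1).trans h2

/-- a nonidentity element of `K` does not centralize `M_σ` -/
theorem not_sigmaCore_le_centralizer_of_mem_K (hG : IsMinSimpleOddOrder G) {M K : Subgroup G}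
    (hM : IsCoatom M) (hK : IsPiHallOf (kappa M) K M) {k : G} (hk : k ∈ K) (hk1 : k ≠ 1) :
    ¬ sigmaCore M ≤ Subgroup.centralizer ({k} : Set G) := by
  intro hc
  have hK1 : K ≠ ⊥ := by
    intro h
    rw [h, Subgroup.mem_bot] at hk
    exact hk1 hk
  have d := Cfsg.Agent.Lib.Helper2.BG14v.kdata' hG hM hK hK1
  have h1 : sigmaCore M ≤ sigmaCore M ⊓ Subgroup.centralizer (K : Set G) := by
    rw [← d.semiprime k hk hk1]
    exact le_inf le_rfl hc
  have hc1 : Nat.card ↥(sigmaCore M ⊓ Subgroup.centralizer (K : Set G)) ≠ 1 :=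
    fun h => d.fix_ne (Subgroup.card_eq_one.mp h)
  obtain ⟨p, hp, hpd⟩ := Nat.exists_prime_and_dvd hc1
  haveI : Fact p.Prime := ⟨hp⟩
  obtain ⟨S⟩ : Nonempty (Sylow p ↥(sigmaCore M)) := inferInstance
  have h2 := ((Cfsg.Agent.S1431.result hG M hM K hK hK1).2.2.1 p hp hpd S).2.2
  exact h2 ((Subgroup.map_subtype_le _).trans h1)

/-- an element of `M` centralizing `M_σ` has order prime to `κ(M)` -/
theorem not_kappa_of_centralizes (hG : IsMinSimpleOddOrder G) {M K : Subgroup G}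
    (hM : IsCoatom M) (hK : IsPiHallOf (kappa M) K M) {c : G} (hcM : c ∈ M)
    (hc : sigmaCore M ≤ Subgroup.centralizer ({c} : Set G)) {r : ℕ} (hr : r.Prime)
    (hrc : r ∣ orderOf c) : r ∉ kappa M := by
  intro hrκ
  obtain ⟨n, hn⟩ : ∃ n : ℕ, n = orderOf c / r := ⟨_, rfl⟩
  have hyl : orderOf (c ^ n) = r := by
    rw [hn]; exact orderOf_pow_orderOf_div (orderOf_pos c).ne' hrc
  have hyM : c ^ n ∈ M := M.pow_mem hcM n
  have hpκ : ∀ p : ℕ, p.Prime → p ∣ Nat.card (Subgroup.zpowers (c ^ n)) → p ∈ kappa M := by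
    intro p hp hpd
    rw [Nat.card_zpowers, hyl] at hpd
    rw [(Nat.prime_dvd_prime_iff_eq hp hr).mp hpd]
    exact hrκ
  obtain ⟨m, hm, hmK⟩ := exists_cj_le_hall (solvable_of_ne_top hG hM.1) (kappa M) hK
    (Subgroup.zpowers_le.mpr hyM) hpκ
  have hkK : m * c ^ n * m⁻¹ ∈ K := hmK ⟨c ^ n, Subgroup.mem_zpowers _, rfl⟩
  have hk1 : m * c ^ n * m⁻¹ ≠ 1 := by
    intro h
    have h1 : c ^ n = 1 := by
      calc c ^ n = m⁻¹ * (m * c ^ n * m⁻¹) * m := by group
        _ = 1 := by rw [h]; group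
    rw [h1, orderOf_one] at hyl
    exact hr.one_lt.ne hyl
  apply not_sigmaCore_le_centralizer_of_mem_K hG hM hK hkK hk1
  intro y hy
  apply Subgroup.mem_centralizer_iff.mpr
  intro h hh
  rw [Set.mem_singleton_iff] at hh
  rw [hh]
  have hy' : m⁻¹ * y * m ∈ sigmaCore M := by
    have := (Subgroup.mem_normalizer_iff.mp (le_normalizer_sigmaCore M (M.inv_mem hm)) y).mp hy
    simpa using this
  have h1 : c * (m⁻¹ * y * m) = (m⁻¹ * y * m) * c :=
    Subgroup.mem_centralizer_iff.mp (hc hy') c rfl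
  have h2 : c ^ n * (m⁻¹ * y * m) = (m⁻¹ * y * m) * c ^ n :=
    ((Commute.pow_left (show Commute c (m⁻¹ * y * m) from h1) n)).eq
  calc m * c ^ n * m⁻¹ * y = m * (c ^ n * (m⁻¹ * y * m)) * m⁻¹ := by group
    _ = m * ((m⁻¹ * y * m) * c ^ n) * m⁻¹ := by rw [h2]
    _ = y * (m * c ^ n * m⁻¹) := by group

/-- `C_M(M_σ) ≤ F(M)` when `M_σ` is nilpotent -/
theorem centralizer_sigmaCore_le_fittingOf (hG : IsMinSimpleOddOrder G) {M K U : Subgroup G}
    (hM : IsCoatom M) (hKU : IsSigmaDecomposition M K U)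
    (hnil : Group.IsNilpotent ↥(sigmaCore M)) :
    M ⊓ Subgroup.centralizer (sigmaCore M : Set G) ≤ fittingOf M := by
  have hσ1 : sigmaCore M ≠ ⊥ := Cfsg.Agent.Lib.Helper2.BG11.sigmaCore_ne_bot hG hM
  haveI : Nontrivial ↥(sigmaCore M) := (Subgroup.nontrivial_iff_ne_bot _).mpr hσ1
  -- a central element of `M_σ`
  obtain ⟨⟨z₀, hz₀⟩, hz₀c, hz₀1⟩ : ∃ z : ↥(sigmaCore M), z ∈ Subgroup.center ↥(sigmaCore M) ∧
      z ≠ 1 := by
    have := Group.IsNilpotent.center_ne_bot (G := ↥(sigmaCore M))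
    obtain ⟨⟨z, hz⟩, hz1⟩ := (Subgroup.ne_bot_iff_exists_ne_one).mp this
    exact ⟨z, hz, fun h1 => hz1 (Subtype.ext h1)⟩
  have hz₀1' : z₀ ≠ 1 := fun h => hz₀1 (Subtype.ext h)
  have hz₀comm : ∀ s ∈ sigmaCore M, s * z₀ = z₀ * s := by
    intro s hs
    have := (Subgroup.mem_center_iff.mp hz₀c) ⟨s, hs⟩
    exact congrArg Subtype.val this
  have hab := Cfsg.Agent.S1359.result hG M hM K U hKU
  have hUn : U ≤ Subgroup.normalizer (sigmaCore M : Set G) :=
    hKU.compl.1.trans (le_normalizer_sigmaCore M)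
  -- every element of `C` is `u * s` with `u` in the abelian group `⟨U ∩ M̂_σ⟩`
  have hdec : ∀ c ∈ M ⊓ Subgroup.centralizer (sigmaCore M : Set G),
      ∃ u ∈ Subgroup.closure ((U : Set G) ∩ sigmaHat M), ∃ s ∈ sigmaCore M, c = u * s := by
    intro c hc
    have hcσ : sigmaCore M ≤ Subgroup.centralizer ({c} : Set G) := by
      intro y hy
      apply Subgroup.mem_centralizer_iff.mpr
      intro h hh
      rw [Set.mem_singleton_iff] at hh
      rw [hh]
      exact (Subgroup.mem_centralizer_iff.mp hc.2 y hy).symm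
    have h1 : c ∈ U ⊔ sigmaCore M :=
      sd_mem_of_not_kappa hKU hc.1
        (fun p hp hpd => not_kappa_of_centralizes hG hM hKU.hall hc.1 hcσ hp hpd)
    rw [← SetLike.mem_coe, Subgroup.coe_mul_of_left_le_normalizer_right U _ hUn, Set.mem_mul] at h1
    obtain ⟨u, hu, s, hs, hus⟩ := h1
    refine ⟨u, Subgroup.subset_closure ⟨hu, hKU.compl.1 hu, z₀, hz₀, hz₀1', ?_⟩, s, hs, hus.symm⟩
    -- `u = c s⁻¹` commutes with `z₀`
    have hc0 : z₀ * c = c * z₀ := Subgroup.mem_centralizer_iff.mp hc.2 z₀ hz₀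
    have hs0 : s * z₀ = z₀ * s := hz₀comm s hs
    have hu' : u = c * s⁻¹ := by rw [← hus]; group
    rw [hu']
    calc c * s⁻¹ * z₀ = c * (s⁻¹ * (z₀ * s) * s⁻¹) := by group
      _ = c * (s⁻¹ * (s * z₀) * s⁻¹) := by rw [hs0]
      _ = (c * z₀) * s⁻¹ := by group
      _ = (z₀ * c) * s⁻¹ := by rw [hc0]
      _ = z₀ * (c * s⁻¹) := by group
  have hMn : M ≤ Subgroup.normalizer
      ((M ⊓ Subgroup.centralizer (sigmaCore M : Set G) : Subgroup G) : Set G) :=
    (le_inf Subgroup.le_normalizer ((le_normalizer_sigmaCore M).trans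
      (BG7.normalizer_le_normalizer_centralizer _))).trans
      Subgroup.inf_normalizer_le_normalizer_inf
  apply le_fittingOf inf_le_left hMn
  apply nilpotent_of_commutator_le_centralizer
  -- `[C, C] ≤ M_σ ∩ C ≤ Z(C)`
  have h1 : ⁅M ⊓ Subgroup.centralizer (sigmaCore M : Set G),
      M ⊓ Subgroup.centralizer (sigmaCore M : Set G)⁆ ≤ sigmaCore M := by
    rw [Subgroup.commutator_le]
    intro c₁ hc₁ c₂ hc₂
    obtain ⟨u₁, hu₁, s₁, hs₁, rfl⟩ := hdec c₁ hc₁
    obtain ⟨u₂, hu₂, s₂, hs₂, rfl⟩ := hdec c₂ hc₂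
    have hcomm : u₁ * u₂ = u₂ * u₁ := by
      have := hab.is_comm.comm (⟨u₁, hu₁⟩ : ↥(Subgroup.closure ((U : Set G) ∩ sigmaHat M)))
        ⟨u₂, hu₂⟩
      exact congrArg Subtype.val this
    have hclU : Subgroup.closure ((U : Set G) ∩ sigmaHat M) ≤ U :=
      (Subgroup.closure_le _).mpr (fun x hx => hx.1)
    have hu₁M := hKU.compl.1 (hclU hu₁)
    have hu₂M := hKU.compl.1 (hclU hu₂)
    have hs₁M := sigmaCore_le M hs₁
    have hs₂M := sigmaCore_le M hs₂
    haveI : ((sigmaCore M).subgroupOf M).Normal :=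
      Subgroup.normal_subgroupOf_of_le_normalizer (le_normalizer_sigmaCore M)
    have hπs : ∀ (s : G) (hs : s ∈ sigmaCore M),
        QuotientGroup.mk' ((sigmaCore M).subgroupOf M) ⟨s, sigmaCore_le M hs⟩ = 1 := by
      intro s hs
      exact (QuotientGroup.eq_one_iff _).mpr (Subgroup.mem_subgroupOf.mpr hs)
    have h3 : QuotientGroup.mk' ((sigmaCore M).subgroupOf M)
        ⁅(⟨u₁, hu₁M⟩ * ⟨s₁, hs₁M⟩ : ↥M), (⟨u₂, hu₂M⟩ * ⟨s₂, hs₂M⟩ : ↥M)⁆ = 1 := by
      rw [map_commutatorElement, map_mul, map_mul, hπs s₁ hs₁, hπs s₂ hs₂, mul_one, mul_one,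
        ← map_commutatorElement]
      have : ⁅(⟨u₁, hu₁M⟩ : ↥M), (⟨u₂, hu₂M⟩ : ↥M)⁆ = 1 := by
        rw [commutatorElement_eq_one_iff_mul_comm]
        exact Subtype.ext hcomm
      rw [this, map_one]
    have h4 := Subgroup.mem_subgroupOf.mp ((QuotientGroup.eq_one_iff _).mp h3)
    simpa [commutatorElement_def] using h4
  intro x hx
  apply Subgroup.mem_centralizer_iff.mpr
  intro c hc
  exact (Subgroup.mem_centralizer_iff.mp hc.2 x (h1 hx)).symm

/-- `κ(M) ≠ ∅` gives `K ≠ 1` -/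
theorem K_ne_bot_of_kappa_nonempty {M K : Subgroup G} (hK : IsPiHallOf (kappa M) K M)
    (h : (kappa M).Nonempty) : K ≠ ⊥ := by
  obtain ⟨p, hp⟩ := h
  intro hK1
  have h1 := hK.2.2 p hp.1 hp
  rw [hK1, Subgroup.relIndex_bot_left] at h1
  exact h1 hp.2.1

/-- `F(M) ≤ M'` when `K ≠ 1` and `M_σ` is nilpotent -/
theorem fittingOf_le_commutator_of_nilpotent (hG : IsMinSimpleOddOrder G) {M K U : Subgroup G}
    (hM : IsCoatom M) (hKU : IsSigmaDecomposition M K U) (hK1 : K ≠ ⊥)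
    (hnil : Group.IsNilpotent ↥(sigmaCore M)) : fittingOf M ≤ ⁅M, M⁆ := by
  rw [sd_commutator_eq hG hM hKU hK1]
  have hσF : sigmaCore M ≤ fittingOf M :=
    le_fittingOf (sigmaCore_le M) (le_normalizer_sigmaCore M) hnil
  intro z hz
  apply sd_mem_of_not_kappa hKU (fittingOf_le M hz)
  intro r hr hrz hrκ
  obtain ⟨n, hn⟩ : ∃ n : ℕ, n = orderOf z / r := ⟨_, rfl⟩
  have hyl : orderOf (z ^ n) = r := by
    rw [hn]; exact orderOf_pow_orderOf_div (orderOf_pos z).ne' hrz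
  have hyF : z ^ n ∈ fittingOf M := Subgroup.pow_mem _ hz n
  have hc : sigmaCore M ≤ Subgroup.centralizer ({z ^ n} : Set G) := by
    intro y hy
    apply Subgroup.mem_centralizer_iff.mpr
    intro h hh
    rw [Set.mem_singleton_iff] at hh
    rw [hh]
    apply commute_of_mem_fittingOf_coprime hyF (hσF hy)
    rw [hyl, Nat.Prime.coprime_iff_not_dvd hr]
    intro hd
    exact hrκ.2.2.1 (Cfsg.Agent.Lib.Lead.BG14n.mem_sigma_of_dvd_orderOf hG hM hy hr hd)
  exact not_kappa_of_centralizes hG hM hKU.hall (fittingOf_le M hyF) hc hr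
    (by rw [hyl]) hrκ

/-- **Corollary 15.5** when `M_σ` is nilpotent -/
theorem fitting_structure_of_nilpotent (hG : IsMinSimpleOddOrder G) {M : Subgroup G}
    (hM : IsCoatom M) (hnil : Group.IsNilpotent ↥(sigmaCore M)) :
    ⁅⁅M, M⁆, ⁅M, M⁆⁆ ≤ fittingOf M ∧
      fittingOf M = (M ⊓ Subgroup.centralizer (fittingHallOf M : Set G)) ⊔ fittingHallOf M ∧
      ((kappa M).Nonempty → fittingOf M ≤ ⁅M, M⁆) := by
  obtain ⟨K, U, hKU⟩ := exists_sd' hG hM
  have heq := Cfsg.Agent.Lib.Lead.BG14n.sigmaCore_eq_fittingHallOf hG hM hnil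
  have hσF : sigmaCore M ≤ fittingOf M :=
    le_fittingOf (sigmaCore_le M) (le_normalizer_sigmaCore M) hnil
  refine ⟨(second_derived_le_sigmaCore hG hM).trans hσF, ?_, ?_⟩
  · apply le_antisymm (fittingOf_le_centralizer_sup M)
    apply sup_le _ (fittingHallOf_le_fittingOf M)
    rw [← heq]
    exact centralizer_sigmaCore_le_fittingOf hG hM hKU hnil
  · intro hκ
    exact fittingOf_le_commutator_of_nilpotent hG hM hKU
      (K_ne_bot_of_kappa_nonempty hKU.hall hκ) hnil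

end Cfsg.Agent.Lib.Helper4.BG23
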