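import Mathlib
import Cfsg.Agent.Lib.Helper2.BG16g2
import Cfsg.Agent.Lib.Helper4.BG23i

set_option autoImplicit false
set_option linter.style.haveILetI false
set_option linter.unusedSectionVars false
set_option maxHeartbeats 1600000

/-! Peterfalvi (7.?): for `M` of Type II the sets `A₀(M)`, `A(M)`, `A₁(M)` are TI-subsets with
normalizer `M`. -/

namespace Cfsg.Agent.Lib.Helper4.BG24

open Cfsg Cfsg.Agent.Lib.Helper7 Cfsg.Agent.Lib.Helper4 Cfsg.Agent.Lib.Helper4.BG8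
open Cfsg.Agent.Lib.Helper4.BG9 Cfsg.Agent.Lib.Lead.BG10 Cfsg.Agent.Lib.Helper4.BG14
open Cfsg.Agent.Lib.Helper4.BG22 Cfsg.Agent.Lib.Lead.BG14n Cfsg.Agent.Lib.Helper5.BG139
open Cfsg.Agent.Lib.Helper2.BG16a Cfsg.Agent.Lib.Helper2.BG16b Cfsg.Agent.Lib.Helper2.BG16c
open Cfsg.Agent.Lib.Helper2.BG16d Cfsg.Agent.Lib.Helper2.BG16e Cfsg.Agent.Lib.Helper5.BG147
open Cfsg.Agent.Lib.Helper4.BGConj Cfsg.Agent.Lib.Helper2.BG16g Cfsg.Agent.Lib.Helper4.BG23

universe u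

variable {G : Type u} [Group G] [Finite G]

/-- a subgroup `M` all of whose elements map `S` into `S` by conjugation normalizes `S` -/
theorem le_setNormalizer {M : Subgroup G} {S : Set G}
    (h : ∀ m ∈ M, ∀ n ∈ S, m * n * m⁻¹ ∈ S) : M ≤ Subgroup.normalizer S := by
  intro m hm
  rw [Subgroup.mem_set_normalizer_iff]
  intro n
  refine ⟨h m hm n, fun hn => ?_⟩
  have := h m⁻¹ (M.inv_mem hm) _ hn
  have e : m⁻¹ * (m * n * m⁻¹) * m⁻¹⁻¹ = n := by group
  rwa [e] at this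

/-- the data of a Type II subgroup -/
structure T2 (M K U : Subgroup G) : Prop where
  hKU : IsSigmaDecomposition M K U
  hK1 : K ≠ ⊥
  hU1 : U ≠ ⊥
  hF : fittingHallOf M = sigmaCore M
  hnotI : ¬ IsOfTypeI M
  hT : typeCore M = sigmaCore M
  hder : ⁅M, M⁆ = U ⊔ sigmaCore M
  hTI : IsTISubset (fittingOf M : Set G)

theorem exists_t2 (hG : IsMinSimpleOddOrder G) {M : Subgroup G} (hM : IsCoatom M)
    (hII : IsOfTypeII M) : ∃ K U : Subgroup G, T2 M K U := by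
  have hII' := hII
  obtain ⟨W₁, U, W₂, hP, -, -, hTI, -, -, -, -⟩ := hII
  have hc := hP.U_compl
  obtain ⟨K, hKU, hK1, hU1, hF⟩ := sd_of_compl_typeII hG hM hII' hc
  have hNU := not_normalizer_le_of_typeII hG hM hII' hc
  have hnotI : ¬ IsOfTypeI M := by
    intro hI
    have hKs : K ≠ ⊥ →
        (sigmaCore M ⊓ Subgroup.centralizer (K : Set G)) ⊓ fittingHallOf M ≠ ⊥ := by
      intro hK1
      obtain ⟨-, h1, h2, -⟩ := Cfsg.Agent.S1364.result hG M hM K U hKU hK1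
      rwa [inf_eq_left.mpr h2]
    exact hK1 (of_typeF hG hM hKU hI.1 hKs).1
  have hnot : ¬ (IsOfTypeIII M ∨ IsOfTypeIV M) := by
    intro h
    exact hU1 (of_typeIII_IV hG hM hKU (fun _ _ => hNU) h).2.1
  have hT : typeCore M = sigmaCore M := by
    unfold typeCore
    rw [if_neg hnot, hF]
  exact ⟨K, U, ⟨hKU, hK1, hU1, hF, hnotI, hT, sd_commutator_eq hG hM hKU hK1, hTI⟩⟩

namespace T2

variable {M K U : Subgroup G}

theorem typeA_eq (t : T2 M K U) :
    typeA M = {a | a ∈ U ⊔ sigmaCore M ∧ a ≠ 1 ∧ ∃ x ∈ sigmaCore M, x ≠ 1 ∧ a * x = x * a} := by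
  unfold typeA
  rw [if_neg t.hnotI, t.hT, t.hder]

theorem typeA1_eq (t : T2 M K U) : typeA1 M = (sigmaCore M : Set G) \ {1} := by
  unfold typeA1
  rw [t.hT]

theorem typeA1_subset (t : T2 M K U) : typeA1 M ⊆ typeA M := by
  rw [t.typeA1_eq, t.typeA_eq]
  rintro a ⟨ha, ha1⟩
  exact ⟨Subgroup.mem_sup_right ha, ha1, a, ha, ha1, rfl⟩

theorem typeA_subset : typeA M ⊆ typeA0 M := fun _ h => Or.inl h

theorem typeA1_nonempty (hG : IsMinSimpleOddOrder G) (hM : IsCoatom M) (t : T2 M K U) :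
    (typeA1 M).Nonempty := by
  rw [t.typeA1_eq]
  obtain ⟨⟨x, hx⟩, hx1⟩ := (Subgroup.ne_bot_iff_exists_ne_one).mp
    (Cfsg.Agent.Lib.Helper2.BG11.sigmaCore_ne_bot hG hM)
  exact ⟨x, hx, fun h => hx1 (Subtype.ext h)⟩

theorem typeA0_subset (t : T2 M K U) : typeA0 M ⊆ (M : Set G) := by
  rintro a (ha | ⟨-, W₁, U', W₂, hP, m, hm, w, hw, -, -, rfl⟩)
  · rw [t.typeA_eq] at ha
    exact sup_le (sd_U_le t.hKU) (sigmaCore_le M) ha.1
  · have hW : W₁ ⊔ W₂ ≤ M :=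
      sup_le hP.W₁_compl.2.1 ((hP.W₂_le.trans inf_le_left).trans (fittingHallOf_le M))
    exact M.mul_mem (M.mul_mem hm (hW hw)) (M.inv_mem hm)

/-- an element of `A₀(M)` of order prime to `σ(M)` lies in `A(M) ∖ M_σ` -/
theorem mem_sigmaA_diff (hG : IsMinSimpleOddOrder G) (hM : IsCoatom M) (t : T2 M K U) {a : G}
    (ha : a ∈ typeA0 M) (hord : ∀ p : ℕ, p.Prime → p ∣ orderOf a → p ∉ sigma M) :
    a ∈ sigmaA M U \ (sigmaCore M : Set G) := by
  have hnotσ : ∀ y : G, y ∈ sigmaCore M → y ≠ 1 →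
      ∃ p : ℕ, p.Prime ∧ p ∣ orderOf y ∧ p ∈ sigma M := by
    intro y hy hy1
    have ho : orderOf y ≠ 1 := fun h => hy1 (orderOf_eq_one_iff.mp h)
    obtain ⟨p, hp, hpd⟩ := Nat.exists_prime_and_dvd ho
    exact ⟨p, hp, hpd, Cfsg.Agent.Lib.Lead.BG14n.mem_sigma_of_dvd_orderOf hG hM hy hp hpd⟩
  rcases ha with ha | ⟨-, W₁, U', W₂, hP, m, hm, w, hw, hw1, hw2, rfl⟩
  · rw [t.typeA_eq] at ha
    obtain ⟨haL, ha1, x, hx, hx1, hax⟩ := ha
    refine ⟨⟨⟨sup_le (sd_U_le t.hKU) (sigmaCore_le M) haL, x, hx, hx1, hax⟩, haL⟩, ?_⟩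
    intro haσ
    obtain ⟨p, hp, hpd, hpσ⟩ := hnotσ a haσ ha1
    exact hord p hp hpd hpσ
  · exfalso
    obtain ⟨-, -, -, hcomm, -, -⟩ := hP.selfNormalizing
    have hn : W₁ ≤ Subgroup.normalizer (W₂ : Set G) := by
      intro a ha
      rw [Subgroup.mem_normalizer_iff]
      intro b
      have e : ∀ b ∈ W₂, a * b * a⁻¹ = b := by
        intro b hb
        rw [hcomm a ha b hb]; group
      constructor
      · intro hb; rw [e b hb]; exact hb
      · intro hb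
        have h2 : a⁻¹ * (a * b * a⁻¹) * a⁻¹⁻¹ = b := by group
        have h3 := hcomm a⁻¹ (W₁.inv_mem ha) _ hb
        have h4 : a⁻¹ * (a * b * a⁻¹) * a⁻¹⁻¹ = a * b * a⁻¹ := by rw [h3]; group
        rw [h2] at h4
        rw [h4]; exact hb
    rw [← SetLike.mem_coe, Subgroup.coe_mul_of_left_le_normalizer_right W₁ W₂ hn, Set.mem_mul] at hw
    obtain ⟨w₁, hw₁, w₂, hw₂, rfl⟩ := hw
    have hw₂1 : w₂ ≠ 1 := by
      rintro rfl
      rw [mul_one] at hw1
      exact hw1 hw₁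
    have hw₂σ : w₂ ∈ sigmaCore M := by
      rw [← t.hF]; exact (hP.W₂_le.trans inf_le_left) hw₂
    obtain ⟨p, hp, hpd, hpσ⟩ := hnotσ w₂ hw₂σ hw₂1
    -- orders of `w₁` and `w₂` are coprime
    have hcard := card_mul_of_isComplIn hP.W₁_compl
    have h1 : orderOf w₁ ∣ Nat.card W₁ := by
      rw [← Subgroup.orderOf_mk w₁ hw₁]; exact orderOf_dvd_natCard _
    have h2 : orderOf w₂ ∣ Nat.card ↥⁅M, M⁆ := by
      have hw₂M : w₂ ∈ ⁅M, M⁆ := sigmaCore_le_commutator hG hM hw₂σ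
      rw [← Subgroup.orderOf_mk w₂ hw₂M]; exact orderOf_dvd_natCard _
    have h3 : (Nat.card W₁).Coprime (Nat.card ↥⁅M, M⁆) := by
      have h4 := hP.W₁_hall
      have h5 := Subgroup.relIndex_mul_relIndex ⊥ W₁ M bot_le hP.W₁_compl.2.1
      rw [Subgroup.relIndex_bot_left, Subgroup.relIndex_bot_left, hcard] at h5
      have h6 : W₁.relIndex M = Nat.card ↥⁅M, M⁆ := by
        rw [mul_comm] at h5
        exact Nat.eq_of_mul_eq_mul_right Nat.card_pos h5
      rwa [h6] at h4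
    have hcop : (orderOf w₁).Coprime (orderOf w₂) :=
      Nat.Coprime.coprime_dvd_left h1 (Nat.Coprime.coprime_dvd_right h2 h3)
    have hord' : orderOf (w₁ * w₂) = orderOf w₁ * orderOf w₂ :=
      (show Commute w₁ w₂ from hcomm w₁ hw₁ w₂ hw₂).orderOf_mul_eq_mul_orderOf_of_coprime hcop
    have hconj : orderOf (m * (w₁ * w₂) * m⁻¹) = orderOf (w₁ * w₂) :=
      orderOf_injective (MulAut.conj m).toMonoidHom (MulAut.conj m).injective _
    apply hord p hp _ hpσ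
    rw [hconj, hord']
    exact Dvd.dvd.mul_left hpd _

/-- the strong TI-property of `A₀(M)` -/
theorem mem_of_conj_mem (hG : IsMinSimpleOddOrder G) (hM : IsCoatom M) (t : T2 M K U) {g a : G}
    (ha : a ∈ typeA0 M) (hga : g * a * g⁻¹ ∈ typeA0 M) : g ∈ M := by
  have hFne : fittingOf M ≠ ⊥ := by
    intro h
    apply Cfsg.Agent.Lib.Helper2.BG11.sigmaCore_ne_bot hG hM
    rw [eq_bot_iff, ← h, ← t.hF]
    exact fittingHallOf_le_fittingOf M
  have hNF : Subgroup.normalizer (fittingOf M : Set G) = M :=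
    normalizer_eq_of_isCoatom hG hM hFne (fittingOf_le M) (le_normalizer_fittingOf M)
  have hσF : sigmaCore M ≤ fittingOf M := by
    rw [← t.hF]; exact fittingHallOf_le_fittingOf M
  by_cases hex : ∃ p : ℕ, p.Prime ∧ p ∣ orderOf a ∧ p ∈ sigma M
  · obtain ⟨p, hp, hpa, hpσ⟩ := hex
    obtain ⟨n, hn⟩ : ∃ n : ℕ, n = orderOf a / p := ⟨_, rfl⟩
    have hyl : orderOf (a ^ n) = p := by
      rw [hn]; exact orderOf_pow_orderOf_div (orderOf_pos a).ne' hpa
    have hy1 : a ^ n ≠ 1 := by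
      intro h
      rw [h, orderOf_one] at hyl
      exact hp.one_lt.ne hyl
    have hmem : ∀ y : G, y ∈ M → orderOf y = p → y ∈ sigmaCore M := by
      intro y hyM hyo
      apply Cfsg.Agent.Lib.Lead.BG14n.mem_sigmaCore_of_orderOf hG hM hyM
      intro r hr hrd
      rw [hyo] at hrd
      rw [(Nat.prime_dvd_prime_iff_eq hr hp).mp hrd]
      exact hpσ
    have h1 : a ^ n ∈ sigmaCore M := hmem _ (M.pow_mem (t.typeA0_subset ha) n) hyl
    have hconj : g * a ^ n * g⁻¹ = (g * a * g⁻¹) ^ n := (conj_pow (i := n) (a := g) (b := a)).symm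
    have h2 : g * a ^ n * g⁻¹ ∈ sigmaCore M := by
      apply hmem
      · rw [hconj]; exact M.pow_mem (t.typeA0_subset hga) n
      · rw [← hyl]
        exact orderOf_injective (MulAut.conj g).toMonoidHom (MulAut.conj g).injective _
    by_contra hgM
    apply hy1
    apply t.hTI g _ (a ^ n) (hσF h1) (hσF h2)
    rw [hNF]; exact hgM
  · push Not at hex
    have hord : ∀ p : ℕ, p.Prime → p ∣ orderOf a → p ∉ sigma M := hex
    have hord' : ∀ p : ℕ, p.Prime → p ∣ orderOf (g * a * g⁻¹) → p ∉ sigma M := by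
      have e : orderOf (g * a * g⁻¹) = orderOf a :=
        orderOf_injective (MulAut.conj g).toMonoidHom (MulAut.conj g).injective _
      rw [e]; exact hord
    exact Cfsg.Agent.Lib.Helper2.BG14t.mem_of_conj_mem_sigmaA_diff hG hM t.hKU
      (t.mem_sigmaA_diff hG hM ha hord) (t.mem_sigmaA_diff hG hM hga hord')

end T2

end Cfsg.Agent.Lib.Helper4.BG24
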