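import Mathlib
import Cfsg.Agent.Lib.Helper4.BG23a
import Cfsg.Agent.Lib.Helper4.BG23b
import Cfsg.Agent.Lib.Lead.HallTools
import Cfsg.Agent.Lib.Lead.CoprimeTools
import Cfsg.Agent.S1446

set_option autoImplicit false
set_option linter.style.haveILetI false
set_option linter.unusedSectionVars false
set_option maxHeartbeats 1600000

/-! A Frobenius group `D K` acting on a `q`-group `Q` with `C_{Q/Q₀}(D) = 1` and prime action of
`K` with cyclic fixed points: `D'` centralizes `Q / Q₀` (B and G, Theorem 3.? applied to a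
quotient). -/

namespace Cfsg.Agent.Lib.Helper4.BG23

open Cfsg Cfsg.Agent.Lib.Lead Cfsg.Agent.Lib.Helper4
open scoped commutatorElement

universe u

variable {Γ : Type u} [Group Γ] [Finite Γ]

theorem card_map_dvd' {Γ' : Type*} [Group Γ'] (f : Γ →* Γ') (H : Subgroup Γ) :
    Nat.card (H.map f) ∣ Nat.card H :=
  Dvd.intro _ (card_map_mul_card_inf_ker f H)

/-- **Lemma Z**: `[D', Q] ≤ Q₀` -/
theorem commutator_commutator_mem_of_frobenius (hsolv : Group.IsSolvable Γ)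
    (hodd : Odd (Nat.card Γ)) {q : ℕ} [hq : Fact q.Prime] (Q Q₀ D K : Subgroup Γ) [hQn : Q.Normal]
    [hQ₀n : Q₀.Normal] (hQ₀Q : Q₀ ≤ Q) (hQ : IsPGroup q Q) (hKD : K ≤ Subgroup.normalizer (D : Set Γ))
    (hD1 : D ≠ ⊥) (hK1 : K ≠ ⊥) (hqD : ¬ q ∣ Nat.card D) (hqK : ¬ q ∣ Nat.card K)
    (hDK : (Nat.card D).Coprime (Nat.card K))
    (hfrob : ∀ k ∈ K, k ≠ 1 → D ⊓ Subgroup.centralizer ({k} : Set Γ) = ⊥)
    (hCD : Q ⊓ Subgroup.centralizer (D : Set Γ) ≤ Q₀) (hQQ₀ : ¬ Q ≤ Q₀)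
    (hsemi : ∀ k ∈ K, k ≠ 1 → Q ⊓ Subgroup.centralizer ({k} : Set Γ) =
      Q ⊓ Subgroup.centralizer (K : Set Γ))
    (hcyc : IsCyclic ↥(Q ⊓ Subgroup.centralizer (K : Set Γ))) :
    ∀ g ∈ ⁅D, D⁆, ∀ a ∈ Q, ⁅g, a⁆ ∈ Q₀ := by
  set π := QuotientGroup.mk' Q₀ with hπ
  have hker : π.ker = Q₀ := QuotientGroup.ker_mk' Q₀
  have hπ1 : ∀ x : Γ, π x = 1 ↔ x ∈ Q₀ := fun x => QuotientGroup.eq_one_iff x
  have hcopQ : ∀ A : Subgroup Γ, ¬ q ∣ Nat.card A → (Nat.card A).Coprime (Nat.card Q) := by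
    intro A hA
    obtain ⟨n, hn⟩ := hQ.exists_card_eq
    rw [hn]
    exact Nat.Coprime.pow_right _ ((Nat.Prime.coprime_iff_not_dvd hq.out).mpr hA).symm
  have hdisj : ∀ A : Subgroup Γ, ¬ q ∣ Nat.card A → A ⊓ Q₀ = ⊥ := by
    intro A hA
    apply (Subgroup.disjoint_of_coprime_natCard _).eq_bot
    exact Nat.Coprime.coprime_dvd_right (Subgroup.card_dvd_of_le hQ₀Q) (hcopQ A hA)
  have hmap1 : ∀ A : Subgroup Γ, ¬ q ∣ Nat.card A → A ≠ ⊥ → A.map π ≠ ⊥ := by
    intro A hA hA1 h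
    apply hA1
    rw [eq_bot_iff, ← hdisj A hA]
    refine le_inf le_rfl ?_
    intro x hx
    rw [← hπ1]
    have : π x ∈ A.map π := ⟨x, hx, rfl⟩
    rwa [h, Subgroup.mem_bot] at this
  have hcardD := card_map_dvd' π D
  have hcardK := card_map_dvd' π K
  have hcardQ := card_map_dvd' π Q
  have hQmapn : (Q.map π).Normal := hQn.map π (QuotientGroup.mk'_surjective Q₀)
  have key := Cfsg.Agent.S1446.result (D.map π) (K.map π) (Q.map π) (hmap1 D hqD hD1)
    (hmap1 K hqK hK1) ?_ ?_ ?_ inferInstance ?_ ?_ ?_ ?_ ?_ ?_ ?_ ?_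
  · -- conclusion
    have h3 := key.2.2 ?_
    · intro g hg a ha
      rw [← hπ1, map_commutatorElement, commutatorElement_eq_one_iff_mul_comm]
      have h4 : π g ∈ ⁅D.map π, D.map π⁆ := by
        rw [← Subgroup.map_commutator]
        exact ⟨g, hg, rfl⟩
      exact (Subgroup.mem_centralizer_iff.mp (h3 h4) (π a) ⟨a, ha, rfl⟩).symm
    · -- cyclic fixed points
      rw [map_inf_centralizer_of_coprime Q K Q₀ hQ₀Q (hcopQ K hqK) (Or.inr inferInstance)]
      haveI := hcyc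
      exact isCyclic_of_surjective (π.subgroupMap _) (π.subgroupMap_surjective _)
  · -- `D̄ ∩ K̄ = 1`
    apply (Subgroup.disjoint_of_coprime_natCard _).eq_bot
    exact Nat.Coprime.coprime_dvd_left hcardD (Nat.Coprime.coprime_dvd_right hcardK hDK)
  · -- `K̄` normalizes `D̄`
    exact (Subgroup.map_mono hKD).trans (Subgroup.le_normalizer_map π)
  · -- Frobenius action
    rintro _ ⟨k, hk, rfl⟩ hk1
    have hk1' : k ≠ 1 := by
      rintro rfl
      exact hk1 (map_one π)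
    rw [eq_bot_iff]
    rintro _ ⟨⟨d, hd, rfl⟩, hc⟩
    rw [Subgroup.mem_bot]
    have h1 : π k * π d = π d * π k := Subgroup.mem_centralizer_iff.mp hc (π k) rfl
    have h2 : d * k * d⁻¹ * k⁻¹ ∈ D ⊓ Q₀ := by
      constructor
      · have := (Subgroup.mem_normalizer_iff.mp (hKD hk) d⁻¹).mp (D.inv_mem hd)
        have e : d * k * d⁻¹ * k⁻¹ = d * (k * d⁻¹ * k⁻¹) := by group
        rw [e]; exact D.mul_mem hd this
      · apply (hπ1 _).mp
        rw [map_mul, map_mul, map_mul, map_inv, map_inv, ← h1]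
        group
    rw [hdisj D hqD, Subgroup.mem_bot] at h2
    have h3 : d ∈ D ⊓ Subgroup.centralizer ({k} : Set Γ) := by
      refine ⟨hd, ?_⟩
      apply Subgroup.mem_centralizer_iff.mpr
      intro y hy
      rw [Set.mem_singleton_iff] at hy
      rw [hy]
      calc k * d = (d * k * d⁻¹ * k⁻¹)⁻¹ * (d * k) := by group
        _ = d * k := by rw [h2]; group
    rw [hfrob k hk hk1', Subgroup.mem_bot] at h3
    rw [h3, map_one]
  · -- odd order
    have h1 : Nat.card ↥(D.map π ⊔ K.map π) ∣ Nat.card Γ :=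
      (Subgroup.card_subgroup_dvd_card _).trans
        (by rw [← Subgroup.index_eq_card]; exact Subgroup.index_dvd_card Q₀)
    exact Odd.of_dvd_nat hodd h1
  · -- `Q̄ ≠ 1`
    intro h
    apply hQQ₀
    intro x hx
    rw [← hπ1]
    have : π x ∈ Q.map π := ⟨x, hx, rfl⟩
    rwa [h, Subgroup.mem_bot] at this
  · -- nilpotent
    exact (hQ.map π).isNilpotent
  · exact Subgroup.le_normalizer_of_normal
  · exact Subgroup.le_normalizer_of_normal
  · -- coprime
    have h1 := card_sup_mul_card_inf (K.map π) (D.map π)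
      ((Subgroup.map_mono hKD).trans (Subgroup.le_normalizer_map π))
    have h2 : Nat.card ↥(D.map π ⊔ K.map π) ∣ Nat.card (K.map π) * Nat.card (D.map π) := by
      rw [← h1, sup_comm]; exact dvd_mul_right _ _
    obtain ⟨n, hn⟩ := (hQ.map π).exists_card_eq
    rw [hn]
    apply Nat.Coprime.pow_right
    apply Nat.Coprime.coprime_dvd_left h2
    apply Nat.Coprime.mul_left
    · exact ((Nat.Prime.coprime_iff_not_dvd hq.out).mpr (fun h => hqK (h.trans hcardK))).symm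
    · exact ((Nat.Prime.coprime_iff_not_dvd hq.out).mpr (fun h => hqD (h.trans hcardD))).symm
  · -- `C_{Q̄}(D̄) = 1`
    rw [map_inf_centralizer_of_coprime Q D Q₀ hQ₀Q (hcopQ D hqD) (Or.inr inferInstance),
      eq_bot_iff]
    rintro _ ⟨x, hx, rfl⟩
    rw [Subgroup.mem_bot, hπ1]
    exact hCD hx
  · -- semiprime action on `Q̄`
    rintro _ ⟨k, hk, rfl⟩ hk1
    have hk1' : k ≠ 1 := by
      rintro rfl
      exact hk1 (map_one π)
    have hzq : ¬ q ∣ Nat.card (Subgroup.zpowers k) :=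
      fun h => hqK (h.trans (Subgroup.card_dvd_of_le (Subgroup.zpowers_le.mpr hk)))
    rw [centralizer_singleton_eq, ← MonoidHom.map_zpowers,
      map_inf_centralizer_of_coprime Q (Subgroup.zpowers k) Q₀ hQ₀Q (hcopQ _ hzq)
        (Or.inr inferInstance),
      map_inf_centralizer_of_coprime Q K Q₀ hQ₀Q (hcopQ K hqK) (Or.inr inferInstance),
      ← centralizer_singleton_eq, hsemi k hk hk1']

end Cfsg.Agent.Lib.Helper4.BG23
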