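import Mathlib
import Cfsg.Agent.Lib.Helper4.BG23j
import Cfsg.Agent.Lib.Helper4.BG23c

set_option autoImplicit false
set_option linter.style.haveILetI false
set_option linter.unusedSectionVars false
set_option maxHeartbeats 1600000

/-! Lemma Z for subgroups of an ambient group. -/

namespace Cfsg.Agent.Lib.Helper4.BG23

open Cfsg Cfsg.Agent.Lib.Lead Cfsg.Agent.Lib.Helper4
open scoped commutatorElement

universe u

variable {G : Type u} [Group G] [Finite G]

theorem subgroupOf_ne_bot {M A : Subgroup G} (hAM : A ≤ M) (hA1 : A ≠ ⊥) : A.subgroupOf M ≠ ⊥ := by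
  intro h0
  apply hA1
  rw [eq_bot_iff]
  intro k hk
  have : (⟨k, hAM hk⟩ : ↥M) ∈ A.subgroupOf M := Subgroup.mem_subgroupOf.mpr hk
  rw [h0, Subgroup.mem_bot] at this
  rw [Subgroup.mem_bot]
  exact congrArg Subtype.val this

theorem inf_centralizer_subgroupOf {M A B : Subgroup G} (hBM : B ≤ M) :
    A.subgroupOf M ⊓ Subgroup.centralizer ((B.subgroupOf M : Subgroup ↥M) : Set ↥M) =
      (A ⊓ Subgroup.centralizer (B : Set G)).subgroupOf M := by
  ext z
  rw [Subgroup.mem_inf, Subgroup.mem_subgroupOf, Subgroup.mem_subgroupOf, Subgroup.mem_inf,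
    mem_centralizer_subgroupOf hBM]

theorem inf_centralizer_singleton_subgroupOf {M A : Subgroup G} (k : ↥M) :
    A.subgroupOf M ⊓ Subgroup.centralizer ({k} : Set ↥M) =
      (A ⊓ Subgroup.centralizer ({(k : G)} : Set G)).subgroupOf M := by
  ext z
  rw [Subgroup.mem_inf, Subgroup.mem_subgroupOf, Subgroup.mem_subgroupOf, Subgroup.mem_inf,
    mem_centralizer_singleton_subtype]

/-- **Lemma Z**, internal form -/
theorem commutator_commutator_mem_of_frobenius' (W : Subgroup G) (hsolv : Group.IsSolvable ↥W)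
    (hodd : Odd (Nat.card ↥W)) {q : ℕ} [hq : Fact q.Prime] (Q Q₀ D K : Subgroup G)
    (hQW : Q ≤ W) (hDW : D ≤ W) (hKW : K ≤ W)
    (hWQ : W ≤ Subgroup.normalizer (Q : Set G)) (hWQ₀ : W ≤ Subgroup.normalizer (Q₀ : Set G))
    (hQ₀Q : Q₀ ≤ Q) (hQ : IsPGroup q Q) (hKD : K ≤ Subgroup.normalizer (D : Set G))
    (hD1 : D ≠ ⊥) (hK1 : K ≠ ⊥) (hqD : ¬ q ∣ Nat.card D) (hqK : ¬ q ∣ Nat.card K)
    (hDK : (Nat.card D).Coprime (Nat.card K))
    (hfrob : ∀ k ∈ K, k ≠ 1 → D ⊓ Subgroup.centralizer ({k} : Set G) = ⊥)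
    (hCD : Q ⊓ Subgroup.centralizer (D : Set G) ≤ Q₀) (hQQ₀ : ¬ Q ≤ Q₀)
    (hsemi : ∀ k ∈ K, k ≠ 1 → Q ⊓ Subgroup.centralizer ({k} : Set G) =
      Q ⊓ Subgroup.centralizer (K : Set G))
    (hcyc : IsCyclic ↥(Q ⊓ Subgroup.centralizer (K : Set G))) :
    ∀ g ∈ ⁅D, D⁆, ∀ a ∈ Q, ⁅g, a⁆ ∈ Q₀ := by
  have hQ₀W : Q₀ ≤ W := hQ₀Q.trans hQW
  haveI : (Q.subgroupOf W).Normal := Subgroup.normal_subgroupOf_of_le_normalizer hWQ
  haveI : (Q₀.subgroupOf W).Normal := Subgroup.normal_subgroupOf_of_le_normalizer hWQ₀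
  have h1 : Q₀.subgroupOf W ≤ Q.subgroupOf W := fun x hx =>
    Subgroup.mem_subgroupOf.mpr (hQ₀Q (Subgroup.mem_subgroupOf.mp hx))
  have h2 : IsPGroup q ↥(Q.subgroupOf W) :=
    hQ.of_equiv (Subgroup.subgroupOfEquivOfLe hQW).symm
  have h3 : K.subgroupOf W ≤ Subgroup.normalizer ((D.subgroupOf W : Subgroup ↥W) : Set ↥W) := by
    intro k hk
    rw [Subgroup.mem_normalizer_iff]
    intro d
    rw [Subgroup.mem_subgroupOf, Subgroup.mem_subgroupOf]
    exact Subgroup.mem_normalizer_iff.mp (hKD (Subgroup.mem_subgroupOf.mp hk)) (d : G)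
  have h4 : ∀ k ∈ K.subgroupOf W, k ≠ 1 →
      D.subgroupOf W ⊓ Subgroup.centralizer ({k} : Set ↥W) = ⊥ := by
    intro k hk hk1
    rw [inf_centralizer_singleton_subgroupOf,
      hfrob (k : G) (Subgroup.mem_subgroupOf.mp hk) (fun h => hk1 (Subtype.ext h))]
    exact Subgroup.bot_subgroupOf (H := W)
  have h5 : Q.subgroupOf W ⊓ Subgroup.centralizer ((D.subgroupOf W : Subgroup ↥W) : Set ↥W) ≤
      Q₀.subgroupOf W := by
    rw [inf_centralizer_subgroupOf hDW]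
    intro x hx
    exact Subgroup.mem_subgroupOf.mpr (hCD (Subgroup.mem_subgroupOf.mp hx))
  have h6 : ¬ Q.subgroupOf W ≤ Q₀.subgroupOf W := by
    intro h
    apply hQQ₀
    intro x hx
    exact Subgroup.mem_subgroupOf.mp (h (Subgroup.mem_subgroupOf.mpr hx : (⟨x, hQW hx⟩ : ↥W) ∈ _))
  have h7 : ∀ k ∈ K.subgroupOf W, k ≠ 1 →
      Q.subgroupOf W ⊓ Subgroup.centralizer ({k} : Set ↥W) =
        Q.subgroupOf W ⊓ Subgroup.centralizer ((K.subgroupOf W : Subgroup ↥W) : Set ↥W) := by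
    intro k hk hk1
    rw [inf_centralizer_singleton_subgroupOf, inf_centralizer_subgroupOf hKW,
      hsemi (k : G) (Subgroup.mem_subgroupOf.mp hk) (fun h => hk1 (Subtype.ext h))]
  have h8 : IsCyclic ↥(Q.subgroupOf W ⊓
      Subgroup.centralizer ((K.subgroupOf W : Subgroup ↥W) : Set ↥W)) := by
    rw [inf_centralizer_subgroupOf hKW]
    haveI := hcyc
    exact isCyclic_of_surjective
      (Subgroup.subgroupOfEquivOfLe (inf_le_left.trans hQW)).symm.toMonoidHom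
      (Subgroup.subgroupOfEquivOfLe (inf_le_left.trans hQW)).symm.surjective
  have key := commutator_commutator_mem_of_frobenius (Γ := ↥W) hsolv hodd (q := q)
    (Q.subgroupOf W) (Q₀.subgroupOf W) (D.subgroupOf W) (K.subgroupOf W) h1 h2 h3
    (subgroupOf_ne_bot hDW hD1) (subgroupOf_ne_bot hKW hK1)
    (by rw [card_subgroupOf_eq hDW]; exact hqD) (by rw [card_subgroupOf_eq hKW]; exact hqK)
    (by rw [card_subgroupOf_eq hDW, card_subgroupOf_eq hKW]; exact hDK) h4 h5 h6 h7 h8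
  intro g hg a ha
  have hmap : (⁅D.subgroupOf W, D.subgroupOf W⁆).map W.subtype = ⁅D, D⁆ := by
    rw [Subgroup.map_commutator, Subgroup.map_subgroupOf_eq_of_le hDW]
  rw [← hmap] at hg
  obtain ⟨g', hg', rfl⟩ := hg
  have := key g' hg' ⟨a, hQW ha⟩ (Subgroup.mem_subgroupOf.mpr ha)
  have h9 := Subgroup.mem_subgroupOf.mp this
  simpa [commutatorElement_def] using h9

end Cfsg.Agent.Lib.Helper4.BG23
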