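import Mathlib
import Cfsg.Agent.Lib.Helper4.BG23i
import Cfsg.Agent.Lib.Helper4.BG23k
import Cfsg.Agent.Lib.Lead.CoprimeAction2
import Cfsg.Agent.Lib.Lead.CoprimeAction3

set_option autoImplicit false
set_option linter.style.haveILetI false
set_option linter.unusedSectionVars false
set_option maxHeartbeats 1600000

/-! Bender–Glauberman Corollary 15.5 (Fitting structure): the case `M_σ` not nilpotent. -/

namespace Cfsg.Agent.Lib.Helper4.BG23

open Cfsg Cfsg.Agent.Lib.Lead Cfsg.Agent.Lib.Lead.BG10 Cfsg.Agent.Lib.Helper7 Cfsg.Agent.Lib.Helper4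
open Cfsg.Agent.Lib.Helper4.BG76 Cfsg.Agent.Lib.Helper4.BG8 Cfsg.Agent.Lib.Helper4.BG9
open Cfsg.Agent.Lib.Helper4.BG7 Cfsg.Agent.Lib.Helper4.BG12 Cfsg.Agent.Lib.Helper4.BGConj
open Cfsg.Agent.Lib.Helper4.BG13 Cfsg.Agent.Lib.Lead.BG95 Cfsg.Agent.Lib.Lead.BG12q
open Cfsg.Agent.Lib.Lead.BG11 Cfsg.Agent.Lib.Lead.BG13q Cfsg.Agent.Lib.Helper4.BG18
open Cfsg.Agent.Lib.Helper2.BG12 Cfsg.Agent.Lib.Helper6 Cfsg.Agent.Lib.Helper2.BG13x
open Cfsg.Agent.Lib.Helper2.BG14y Cfsg.Agent.Lib.Helper4.BG14 Cfsg.Agent.Lib.Helper5.BG139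
open Cfsg.Agent.Lib.Helper2.BG14z Cfsg.Agent.Lib.Lead.BG14n Cfsg.Agent.Lib.Helper4.BG21
open Cfsg.Agent.Lib.Helper4.BG22
open scoped commutatorElement Pointwise

universe u

section abstract

variable {Γ : Type u} [Group Γ] [Finite Γ]

/-- a subgroup of `X = Q D` centralizing the normal subgroup `Q` is nilpotent when `D` is -/
theorem nilpotent_of_centralizes_normal {Q D X C : Subgroup Γ} (hD : IsComplIn Q D X)
    (hXQ : X ≤ Subgroup.normalizer (Q : Set Γ)) (hDn : Group.IsNilpotent ↥D) (hCX : C ≤ X)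
    (hCQ : C ≤ Subgroup.centralizer (Q : Set Γ)) : Group.IsNilpotent ↥C := by
  haveI : (Q.subgroupOf X).Normal := Subgroup.normal_subgroupOf_of_le_normalizer hXQ
  -- `X / Q` is nilpotent
  have hsurj : Function.Surjective
      ((QuotientGroup.mk' (Q.subgroupOf X)).comp (Subgroup.inclusion hD.2.1)) := by
    intro z
    obtain ⟨⟨x, hx⟩, rfl⟩ := QuotientGroup.mk'_surjective (Q.subgroupOf X) z
    obtain ⟨a, ha, b, hb, rfl⟩ := hD.2.2.2 x hx
    refine ⟨⟨b, hb⟩, ?_⟩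
    have e : (⟨a * b, hx⟩ : ↥X) = ⟨a, hD.1 ha⟩ * ⟨b, hD.2.1 hb⟩ := rfl
    have e1 : QuotientGroup.mk' (Q.subgroupOf X) ⟨a, hD.1 ha⟩ = 1 :=
      (QuotientGroup.eq_one_iff _).mpr (Subgroup.mem_subgroupOf.mpr ha)
    rw [e, map_mul, e1, one_mul]
    rfl
  haveI := hDn
  haveI : Group.IsNilpotent (↥X ⧸ Q.subgroupOf X) := Group.nilpotent_of_surjective _ hsurj
  apply Subgroup.isNilpotent_of_ker_le_center
    ((QuotientGroup.mk' (Q.subgroupOf X)).comp (Subgroup.inclusion hCX))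
  intro c hc
  rw [MonoidHom.mem_ker, MonoidHom.comp_apply, QuotientGroup.mk'_apply,
    QuotientGroup.eq_one_iff, Subgroup.mem_subgroupOf] at hc
  rw [Subgroup.mem_center_iff]
  intro x
  apply Subtype.ext
  exact (Subgroup.mem_centralizer_iff.mp (hCQ x.2) c.1 hc).symm

/-- a subgroup between `X'` and `X` is normal in `X` -/
theorem le_normalizer_of_commutator_le {X L : Subgroup Γ} (hLX : L ≤ X) (h : ⁅X, X⁆ ≤ L) :
    X ≤ Subgroup.normalizer (L : Set Γ) := by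
  have key : ∀ x ∈ X, ∀ l ∈ L, x * l * x⁻¹ ∈ L := by
    intro x hx l hl
    have h1 : ⁅x, l⁆ ∈ L := h (Subgroup.commutator_mem_commutator hx (hLX hl))
    have e : x * l * x⁻¹ = ⁅x, l⁆ * l := by rw [commutatorElement_def]; group
    rw [e]; exact L.mul_mem h1 hl
  intro x hx
  rw [Subgroup.mem_normalizer_iff]
  intro l
  refine ⟨key x hx l, fun h2 => ?_⟩
  have := key x⁻¹ (X.inv_mem hx) _ h2
  have e : x⁻¹ * (x * l * x⁻¹) * x⁻¹⁻¹ = l := by group
  rwa [e] at this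

namespace Cfg

variable {K X Q D : Subgroup Γ} {q : ℕ}

/-- `D'` centralizes `Q` -/
theorem Q_le_centralizer_commutator (c : Cfg K X Q q) (hD : IsComplIn Q D X)
    (hKD : K ≤ Subgroup.normalizer (D : Set Γ)) (W : Subgroup Γ) (hsolvW : Group.IsSolvable ↥W)
    (hoddW : Odd (Nat.card ↥W)) (hKW : K ≤ W) (hXW : X ≤ W)
    (hWQ : W ≤ Subgroup.normalizer (Q : Set Γ))
    (hWQ₀ : W ≤ Subgroup.normalizer ((Q ⊓ Subgroup.centralizer (D : Set Γ) : Subgroup Γ) : Set Γ)) :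
    Q ≤ Subgroup.centralizer ((⁅D, D⁆ : Subgroup Γ) : Set Γ) := by
  haveI : Fact q.Prime := ⟨c.hq⟩
  have hDK : (Nat.card D).Coprime (Nat.card K) :=
    (Nat.Coprime.coprime_dvd_right (Subgroup.card_dvd_of_le hD.2.1) c.hcop).symm
  have hqK : ¬ q ∣ Nat.card K := (Nat.Prime.coprime_iff_not_dvd c.hq).mp c.q_coprime_card_K
  have hQfix : Q ⊓ Subgroup.centralizer (K : Set Γ) = X ⊓ Subgroup.centralizer (K : Set Γ) :=
    le_antisymm (inf_le_inf_right _ c.hQX) (le_inf c.fix_le inf_le_right)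
  have hsemi : ∀ k ∈ K, k ≠ 1 → Q ⊓ Subgroup.centralizer ({k} : Set Γ) =
      Q ⊓ Subgroup.centralizer (K : Set Γ) := by
    intro k hk hk1
    apply le_antisymm
    · rw [hQfix, ← c.hsemi k hk hk1]
      exact le_inf (inf_le_left.trans c.hQX) inf_le_right
    · exact le_inf inf_le_left
        (inf_le_right.trans (Subgroup.centralizer_le (by simpa using hk)))
  have hcyc : IsCyclic ↥(Q ⊓ Subgroup.centralizer (K : Set Γ)) := by
    rw [hQfix]
    exact isCyclic_of_prime_card (p := q) c.hcard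
  have key := commutator_commutator_mem_of_frobenius' W hsolvW hoddW Q
    (Q ⊓ Subgroup.centralizer (D : Set Γ)) D K (c.hQX.trans hXW) (hD.2.1.trans hXW) hKW hWQ hWQ₀
    inf_le_left c.hQ hKD (c.D_ne_bot hD) c.hK1 (c.not_dvd_card_D hD) hqK hDK
    (fun k hk hk1 => c.D_regular hD hk hk1) le_rfl
    (fun h => (c.Q0_lt hD hKD).ne (le_antisymm inf_le_left (le_inf le_rfl (h.trans inf_le_right))))
    hsemi hcyc
  have hD'D : ⁅D, D⁆ ≤ D := Subgroup.commutator_le.mpr (fun a ha b hb =>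
    D.mul_mem (D.mul_mem (D.mul_mem ha hb) (D.inv_mem ha)) (D.inv_mem hb))
  have hD'Q : ⁅D, D⁆ ≤ Subgroup.normalizer (Q : Set Γ) := (hD'D.trans hD.2.1).trans c.hXQ
  have h1 : ⁅Q, ⁅D, D⁆⁆ ≤ Q ⊓ Subgroup.centralizer (D : Set Γ) := by
    rw [Subgroup.commutator_comm, Subgroup.commutator_le]
    intro g hg a ha
    exact key g hg a ha
  have h2 : ⁅⁅Q, ⁅D, D⁆⁆, ⁅D, D⁆⁆ = ⊥ := by
    rw [Subgroup.commutator_eq_bot_iff_le_centralizer]
    exact (h1.trans inf_le_right).trans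
      (Subgroup.centralizer_le (SetLike.coe_subset_coe.mpr hD'D))
  have hcop : (Nat.card ↥⁅D, D⁆).Coprime (Nat.card Q) := by
    obtain ⟨n, hn⟩ := c.hQ.exists_card_eq
    rw [hn]
    apply Nat.Coprime.pow_right
    exact ((Nat.Prime.coprime_iff_not_dvd c.hq).mpr
      (fun h => c.not_dvd_card_D hD (h.trans (Subgroup.card_dvd_of_le hD'D)))).symm
  haveI hQnil : Group.IsNilpotent ↥Q := c.hQ.isNilpotent
  have hQsolv : Group.IsSolvable ↥Q := inferInstance
  have h3 := coprime_commutator_stable ⁅D, D⁆ Q hD'Q hcop (Or.inr hQsolv)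
  rw [h2] at h3
  exact Subgroup.commutator_eq_bot_iff_le_centralizer.mp h3.symm

end Cfg

end abstract

variable {G : Type u} [Group G] [Finite G]

/-- an element of `M` centralizing `Q` lies in `M_σ` -/
theorem mem_sigmaCore_of_centralizes_Q (hG : IsMinSimpleOddOrder G) {M K U Q : Subgroup G}
    (hM : IsCoatom M) (hKU : IsSigmaDecomposition M K U)
    (hne : fittingHallOf M ≠ sigmaCore M) (hMQ : M ≤ Subgroup.normalizer (Q : Set G))
    (c : Cfg K (sigmaCore M) Q (Nat.card ↥(sigmaCore M ⊓ Subgroup.centralizer (K : Set G))))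
    {z : G} (hzM : z ∈ M) (hz : z ∈ Subgroup.centralizer (Q : Set G)) : z ∈ sigmaCore M := by
  obtain ⟨hnn, hU, hK1, hc, hder⟩ := p1_of_fittingHall_ne hG hM hKU hne
  apply Cfsg.Agent.Lib.Lead.BG14n.mem_sigmaCore_of_orderOf hG hM hzM
  intro p hp hpz
  by_contra hpσ
  obtain ⟨n, hn⟩ : ∃ n : ℕ, n = orderOf z / p := ⟨_, rfl⟩
  have hyl : orderOf (z ^ n) = p := by
    rw [hn]; exact orderOf_pow_orderOf_div (orderOf_pos z).ne' hpz
  have hyM : z ^ n ∈ M := M.pow_mem hzM n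
  have hyC : z ^ n ∈ Subgroup.centralizer (Q : Set G) := Subgroup.pow_mem _ hz n
  have hpM : p ∣ Nat.card M := by
    rw [← hyl, ← Subgroup.orderOf_mk (z ^ n) hyM]
    exact orderOf_dvd_natCard _
  have hcard := card_mul_of_isComplIn hc
  have hpK : p ∣ Nat.card K := by
    rw [hcard] at hpM
    rcases (Nat.Prime.dvd_mul hp).mp hpM with h | h
    · exact h
    · exact absurd ((sigmaCore_hall hG hM).1.2.1 p hp h) hpσ
  have hpκ : ∀ r : ℕ, r.Prime → r ∣ Nat.card (Subgroup.zpowers (z ^ n)) → r ∈ kappa M := by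
    intro r hr hrd
    rw [Nat.card_zpowers, hyl] at hrd
    rw [(Nat.prime_dvd_prime_iff_eq hr hp).mp hrd]
    exact hKU.hall.2.1 p hp hpK
  obtain ⟨m, hm, hmK⟩ := exists_cj_le_hall (solvable_of_ne_top hG hM.1) (kappa M) hKU.hall
    (Subgroup.zpowers_le.mpr hyM) hpκ
  have hy'K : m * z ^ n * m⁻¹ ∈ K := hmK ⟨z ^ n, Subgroup.mem_zpowers _, rfl⟩
  have hy'1 : m * z ^ n * m⁻¹ ≠ 1 := by
    intro h
    have h1 : z ^ n = 1 := by
      calc z ^ n = m⁻¹ * (m * z ^ n * m⁻¹) * m := by group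
        _ = 1 := by rw [h]; group
    rw [h1, orderOf_one] at hyl
    exact hp.one_lt.ne hyl
  have hy'C : m * z ^ n * m⁻¹ ∈ Subgroup.centralizer (Q : Set G) :=
    (Subgroup.mem_normalizer_iff.mp
      ((hMQ.trans (BG7.normalizer_le_normalizer_centralizer Q)) hm) _).mp hyC
  apply c.not_Q_le_fix
  rw [← c.hsemi _ hy'K hy'1]
  intro a ha
  refine ⟨c.hQX ha, ?_⟩
  apply Subgroup.mem_centralizer_iff.mpr
  intro h hh
  rw [Set.mem_singleton_iff] at hh
  rw [hh]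
  exact (Subgroup.mem_centralizer_iff.mp hy'C a ha).symm

/-- **Corollary 15.5** when `M_F ≠ M_σ` -/
theorem fitting_structure_of_ne (hG : IsMinSimpleOddOrder G) {M K U : Subgroup G}
    (hM : IsCoatom M) (hKU : IsSigmaDecomposition M K U)
    (hne : fittingHallOf M ≠ sigmaCore M) :
    ⁅⁅M, M⁆, ⁅M, M⁆⁆ ≤ fittingOf M ∧
      fittingOf M = (M ⊓ Subgroup.centralizer (fittingHallOf M : Set G)) ⊔ fittingHallOf M ∧
      fittingOf M ≤ ⁅M, M⁆ := by
  obtain ⟨hnn, hU, hK1, hc, hder⟩ := p1_of_fittingHall_ne hG hM hKU hne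
  obtain ⟨Q, hMQ, c⟩ := exists_cfg hG hM hKU hne
  haveI : Fact (Nat.card ↥(sigmaCore M ⊓ Subgroup.centralizer (K : Set G))).Prime := ⟨c.hq⟩
  have hQF := Q_le_fittingHallOf hG hM hKU hne hMQ c
  obtain ⟨D₀, hD₀⟩ := exists_isComplIn_of_normal_sylow c.hq c.hQX c.hXQ c.hQ c.hQs
  obtain ⟨x, hx, hKD'⟩ := c.exists_invariant_cjs hD₀
  have hD' := isComplIn_cjs hD₀ hx c.hXQ
  obtain ⟨D, hDdef⟩ : ∃ D : Subgroup G, D = MulAut.conj x • D₀ := ⟨_, rfl⟩
  rw [← hDdef] at hKD' hD'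
  obtain ⟨hDnil, -, hXQ₀, hKQ₀, -, -, -, -⟩ := c.main hD'
  have hMn : ∀ N : Subgroup G, sigmaCore M ≤ Subgroup.normalizer (N : Set G) →
      K ≤ Subgroup.normalizer (N : Set G) → M ≤ Subgroup.normalizer (N : Set G) := by
    intro N hXN hKN m hm
    obtain ⟨k, hk, x, hx, rfl⟩ := hc.2.2.2 m hm
    exact Subgroup.mul_mem _ (hKN hk) (hXN hx)
  have hQD := c.Q_le_centralizer_commutator hD' hKD' M (solvable_of_ne_top hG hM.1)
    (odd_card_sub hG M) hKU.hall.1 (sigmaCore_le M) hMQ (hMn _ hXQ₀ hKQ₀)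
  have hD'D : ⁅D, D⁆ ≤ D := BG10.commutator_self_le D
  have hDQn : D ≤ Subgroup.normalizer (Q : Set G) := hD'.2.1.trans c.hXQ
  refine ⟨?_, ?_, ?_⟩
  · -- `M'' ≤ Q D' ≤ F(M)`
    have h1 : ⁅sigmaCore M, sigmaCore M⁆ ≤ Q ⊔ ⁅D, D⁆ := by
      have := BG7.commutator_sup_le (K := Q) (N₁ := D) hDQn
      rwa [IsComplIn.sup_eq hD'] at this
    have hLX : Q ⊔ ⁅D, D⁆ ≤ sigmaCore M := sup_le c.hQX (hD'D.trans hD'.2.1)
    have hL : IsComplIn Q ⁅D, D⁆ (Q ⊔ ⁅D, D⁆) := by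
      refine ⟨le_sup_left, le_sup_right, ?_, ?_⟩
      · rw [eq_bot_iff, ← hD'.2.2.1]
        exact inf_le_inf_left _ hD'D
      · intro m hm
        rw [← SetLike.mem_coe, Subgroup.coe_mul_of_right_le_normalizer_left Q _
          (hD'D.trans hDQn), Set.mem_mul] at hm
        obtain ⟨a, ha, b, hb, hab⟩ := hm
        exact ⟨a, ha, b, hb, hab.symm⟩
    have hLnil : Group.IsNilpotent ↥(Q ⊔ ⁅D, D⁆) :=
      nilpotent_of_commuting_compl hL c.hQ.isNilpotent (isNilpotent_of_le hDnil hD'D) hQD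
    have hXL : sigmaCore M ≤ Subgroup.normalizer ((Q ⊔ ⁅D, D⁆ : Subgroup G) : Set G) :=
      le_normalizer_of_commutator_le hLX h1
    have hKL : K ≤ Subgroup.normalizer ((Q ⊔ ⁅D, D⁆ : Subgroup G) : Set G) :=
      (le_inf c.hKQ ((le_inf hKD' hKD').trans (normalizer_inf_le_normalizer_commutator D D))).trans
        (Subgroup.normalizer_inf_normalizer_le_normalizer_sup Q _)
    rw [hder]
    exact h1.trans (le_fittingOf (hLX.trans (sigmaCore_le M)) (hMn _ hXL hKL) hLnil)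
  · -- `F(M) = C_M(M_F) M_F`
    apply le_antisymm (fittingOf_le_centralizer_sup M)
    apply sup_le _ (fittingHallOf_le_fittingOf M)
    have h1 : M ⊓ Subgroup.centralizer (fittingHallOf M : Set G) ≤
        M ⊓ Subgroup.centralizer (Q : Set G) :=
      inf_le_inf_left _ (Subgroup.centralizer_le (SetLike.coe_subset_coe.mpr hQF))
    refine h1.trans ?_
    have hCX : M ⊓ Subgroup.centralizer (Q : Set G) ≤ sigmaCore M := fun z hz =>
      mem_sigmaCore_of_centralizes_Q hG hM hKU hne hMQ c hz.1 hz.2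
    have hCnil := nilpotent_of_centralizes_normal hD' c.hXQ hDnil hCX inf_le_right
    have hMC : M ≤ Subgroup.normalizer
        ((M ⊓ Subgroup.centralizer (Q : Set G) : Subgroup G) : Set G) :=
      (le_inf Subgroup.le_normalizer (hMQ.trans
        (BG7.normalizer_le_normalizer_centralizer _))).trans
        Subgroup.inf_normalizer_le_normalizer_inf
    exact le_fittingOf inf_le_left hMC hCnil
  · rw [hder]
    exact fittingOf_le_sigmaCore_of_ne hG hM hKU hne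

/-- **Corollary 15.5** (B and G): `M'' ≤ F(M) = C_M(M_F) M_F`, and `F(M) ≤ M'` if `κ(M) ≠ ∅` -/
theorem fitting_structure (hG : IsMinSimpleOddOrder G) {M : Subgroup G} (hM : IsCoatom M) :
    ⁅⁅M, M⁆, ⁅M, M⁆⁆ ≤ fittingOf M ∧
      fittingOf M = (M ⊓ Subgroup.centralizer (fittingHallOf M : Set G)) ⊔ fittingHallOf M ∧
      ((kappa M).Nonempty → fittingOf M ≤ ⁅M, M⁆) := by
  by_cases hnil : Group.IsNilpotent ↥(sigmaCore M)
  · exact fitting_structure_of_nilpotent hG hM hnil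
  · obtain ⟨K, U, hKU⟩ := exists_sd' hG hM
    have hne : fittingHallOf M ≠ sigmaCore M := by
      intro h
      apply hnil
      rw [← h]
      exact isNilpotent_fittingHallOf M
    obtain ⟨h1, h2, h3⟩ := fitting_structure_of_ne hG hM hKU hne
    exact ⟨h1, h2, fun _ => h3⟩

end Cfsg.Agent.Lib.Helper4.BG23
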