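import Mathlib
import Cfsg.Agent.Lib.Lead.BrandtDefs

/-!
# S4607 (Brandt), package A3: the local case `brandt_local`

See `notes/S4607_PROOF_lead.md`, Step 0 (e).
-/

set_option autoImplicit false
set_option linter.unusedVariables false
set_option linter.unusedSectionVars false

namespace Cfsg.Agent.Lib.Lead.Brandt

open Module

section A3
variable {k R : Type*} [Field k] [Ring R] [Algebra k R]

/-- `x` lies in the two-sided ideal generated by `e`, with explicit coefficients -/
def InIdeal (e x : R) : Prop := ∃ (n : ℕ) (a b : Fin n → R), x = ∑ i, a i * e * b i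

omit [Field k] [Algebra k R] in
theorem InIdeal.zero (e : R) : InIdeal e 0 := ⟨0, Fin.elim0, Fin.elim0, by simp⟩

omit [Field k] [Algebra k R] in
theorem InIdeal.add {e x y : R} (hx : InIdeal e x) (hy : InIdeal e y) : InIdeal e (x + y) := by
  obtain ⟨n, a, b, rfl⟩ := hx
  obtain ⟨m, a', b', rfl⟩ := hy
  refine ⟨n + m, Fin.append a a', Fin.append b b', ?_⟩
  rw [Fin.sum_univ_add]
  simp only [Fin.append_left, Fin.append_right]

omit [Field k] [Algebra k R] in
theorem InIdeal.mul_left {e x : R} (hx : InIdeal e x) (y : R) : InIdeal e (y * x) := by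
  obtain ⟨n, a, b, rfl⟩ := hx
  refine ⟨n, fun i => y * a i, b, ?_⟩
  rw [Finset.mul_sum]
  exact Finset.sum_congr rfl fun i _ => by simp only [mul_assoc]

omit [Field k] [Algebra k R] in
theorem InIdeal.mul_right {e x : R} (hx : InIdeal e x) (y : R) : InIdeal e (x * y) := by
  obtain ⟨n, a, b, rfl⟩ := hx
  refine ⟨n, a, fun i => b i * y, ?_⟩
  rw [Finset.sum_mul]
  exact Finset.sum_congr rfl fun i _ => by simp only [mul_assoc]

omit [Field k] [Algebra k R] in
theorem inIdeal_pow_sub (e s j : R) (hs : InIdeal e s) (m : ℕ) :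
    InIdeal e ((s + j) ^ m - j ^ m) := by
  induction m with
  | zero => simpa using InIdeal.zero e
  | succ m ih =>
    have h1 : (s + j) ^ (m + 1) - j ^ (m + 1) =
        ((s + j) ^ m - j ^ m) * (s + j) + j ^ m * s := by
      rw [pow_succ, pow_succ]; noncomm_ring
    rw [h1]
    exact (ih.mul_right _).add (hs.mul_left _)

omit [Field k] [Algebra k R] in
/-- fullness: `ε` lies in `R e R` exactly -/
theorem full_of_mod (e ε : R) (hε : IsIdempotentElem ε)
    (J : Set R)
    (hJnil : ∃ N : ℕ, ∀ f : Fin N → R, (∀ i, f i ∈ J) → (List.ofFn f).prod = 0)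
    (hfull : ∃ (n : ℕ) (a b : Fin n → R), ε - ∑ i, a i * e * b i ∈ J) :
    InIdeal e ε := by
  obtain ⟨N, hN⟩ := hJnil
  obtain ⟨n, a, b, hj⟩ := hfull
  set s := ∑ i, a i * e * b i with hs
  set j := ε - s with hjdef
  have hsI : InIdeal e s := ⟨n, a, b, rfl⟩
  have hjN : j ^ (N + 1) = 0 := by
    have h1 := hN (fun _ => j) (fun _ => hj)
    rw [List.ofFn_const, List.prod_replicate] at h1
    rw [pow_succ, h1, zero_mul]
  have h2 : ε = (s + j) ^ (N + 1) := by
    have : s + j = ε := by rw [hjdef]; abel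
    rw [this, hε.pow_succ_eq]
  have h3 := inIdeal_pow_sub e s j hsI (N + 1)
  rw [hjN, sub_zero, ← h2] at h3
  exact h3

omit [Field k] [Algebra k R] in
/-- centre transfer from the corner `e R e` to `R` -/
theorem central_transfer (e ε : R) (he : IsIdempotentElem e) (hεc : ∀ x, ε * x = x * ε)
    (heε : e * ε = e) {n : ℕ} (a b : Fin n → R) (hε : ε = ∑ i, a i * e * b i)
    (w : R) (hw : e * w * e = w) (hwc : ∀ x, w * (e * x * e) = (e * x * e) * w) :
    (∀ x, (∑ i, a i * w * b i) * x = x * (∑ i, a i * w * b i)) ∧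
      (∑ i, a i * w * b i) * ε = ∑ i, a i * w * b i ∧ (∑ i, a i * w * b i) * e = w := by
  have hεe : ε * e = e := by rw [hεc, heε]
  have hew : e * w = w := by rw [← hw]; simp only [← mul_assoc, he.eq]
  have hwe : w * e = w := by rw [← hw]; simp only [mul_assoc, he.eq]
  have hwε : w * ε = w := by rw [← hwe, mul_assoc, heε]
  have hεw : ε * w = w := by rw [hεc, hwε]
  set z := ∑ i, a i * w * b i with hz
  have hzε : z * ε = z := by
    rw [hz, Finset.sum_mul]
    refine Finset.sum_congr rfl fun i _ => ?_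
    rw [mul_assoc, ← hεc, ← mul_assoc, mul_assoc (a i), hwε]
  have hεz : ε * z = z := by rw [hεc, hzε]
  refine ⟨fun x => ?_, hzε, ?_⟩
  · -- z x = z x ε = Σ_{i,j} a_i w b_i x a_j e b_j
    have h1 : z * x = ∑ i, ∑ j, a i * (w * (e * (b i * x * a j) * e)) * b j := by
      calc z * x = z * (x * ε) := by rw [← hεc, ← mul_assoc, hzε]
        _ = z * (x * ∑ j, a j * e * b j) := by rw [← hε]
        _ = ∑ i, ∑ j, a i * (w * (e * (b i * x * a j) * e)) * b j := by
          rw [hz, Finset.mul_sum, Finset.sum_mul]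
          refine Finset.sum_congr rfl fun i _ => ?_
          rw [Finset.mul_sum]
          refine Finset.sum_congr rfl fun j _ => ?_
          have : w * (e * (b i * x * a j) * e) = w * (b i * x * a j) * e := by
            rw [← mul_assoc, ← mul_assoc, hwe]
          rw [this]
          simp only [mul_assoc]
    have h2 : x * z = ∑ i, ∑ j, a i * ((e * (b i * x * a j) * e) * w) * b j := by
      calc x * z = (ε * x) * z := by rw [hεc, mul_assoc, hεz]
        _ = ((∑ i, a i * e * b i) * x) * z := by rw [← hε]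
        _ = ∑ i, ∑ j, a i * ((e * (b i * x * a j) * e) * w) * b j := by
          rw [hz, Finset.sum_mul, Finset.sum_mul]
          refine Finset.sum_congr rfl fun i _ => ?_
          rw [Finset.mul_sum]
          refine Finset.sum_congr rfl fun j _ => ?_
          have : (e * (b i * x * a j) * e) * w = e * (b i * x * a j) * w := by
            rw [mul_assoc, hew]
          rw [this]
          simp only [mul_assoc]
    rw [h1, h2]
    refine Finset.sum_congr rfl fun i _ => Finset.sum_congr rfl fun j _ => ?_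
    rw [hwc]
  · -- z e = w
    calc z * e = ∑ i, a i * ((e * b i * e) * w) := by
          rw [hz, Finset.sum_mul]
          refine Finset.sum_congr rfl fun i _ => ?_
          rw [← hwc]
          have : w * (e * b i * e) = w * b i * e := by
            rw [← mul_assoc, ← mul_assoc, hwe]
          rw [this]; simp only [mul_assoc]
      _ = (∑ i, a i * e * b i) * w := by
          rw [Finset.sum_mul]
          refine Finset.sum_congr rfl fun i _ => ?_
          have : (e * b i * e) * w = e * b i * w := by rw [mul_assoc, hew]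
          rw [this]; simp only [mul_assoc]
      _ = w := by rw [← hε, hεw]

end A3

section L3
variable {k R : Type*} [Field k] [Ring R] [Algebra k R] [FiniteDimensional k R]

omit [FiniteDimensional k R] in
theorem mem_corner_iff {e : R} (he : IsIdempotentElem e) (c : R) :
    c ∈ corner k e ↔ e * c * e = c := by
  rw [mem_corner]
  constructor
  · rintro ⟨y, rfl⟩
    have h1 : e * (e * y * e) * e = (e * e) * y * (e * e) := by noncomm_ring
    rw [h1, he.eq]
  · intro h; exact ⟨c, h⟩

omit [FiniteDimensional k R] in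
theorem exists_three_indep (C : Submodule k R) [FiniteDimensional k ↥C] (W : Submodule k ↥C)
    (h : 3 ≤ finrank k W) :
    ∃ w : Fin 3 → R, LinearIndependent k w ∧ ∀ i, ∃ hC : w i ∈ C, (⟨w i, hC⟩ : ↥C) ∈ W := by
  have h1 : finrank k (W.map C.subtype) = finrank k W := Submodule.finrank_map_subtype_eq C W
  obtain ⟨f, hf⟩ := exists_linearIndependent_of_le_finrank (R := k)
      (M := ↥(W.map C.subtype)) (n := 3) (by omega)
  refine ⟨fun i => (f i : R), hf.map' (W.map C.subtype).subtype (Submodule.ker_subtype _), ?_⟩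
  intro i
  obtain ⟨v, hv, hvi⟩ := (f i).2
  have hC : (f i : R) ∈ C := by rw [← hvi]; exact v.2
  refine ⟨hC, ?_⟩
  have : (⟨(f i : R), hC⟩ : ↥C) = v := Subtype.ext hvi.symm
  rw [this]; exact hv

/-- dimension bound from a nondegenerate form on a subspace -/
theorem finrank_le_of_orth (C U : Submodule k R) (hUC : U ≤ C) (t : R →ₗ[k] k)
    (hnd : ∀ a ∈ C, (∀ c ∈ C, t (a * c) = 0) → a = 0) (Pz : R → Prop)
    (hP : ∀ v ∈ C, (∀ u ∈ U, t (u * v) = 0) → Pz v)
    (h3 : ∀ w : Fin 3 → R, (∀ i, w i ∈ C) → (∀ i, Pz (w i)) → ¬ LinearIndependent k w) :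
    finrank k ↥C ≤ finrank k ↥U + 2 := by
  classical
  obtain ⟨B, hBapp⟩ : ∃ B : LinearMap.BilinForm k ↥C, ∀ c d : ↥C, B c d = t ((c : R) * (d : R)) :=
    ⟨LinearMap.mk₂ k (fun c d : ↥C => t ((c : R) * (d : R)))
      (fun a b c => by simp [add_mul])
      (fun r a b => by simp)
      (fun a b c => by simp [mul_add])
      (fun r a b => by simp), fun c d => rfl⟩
  have hBker : LinearMap.ker B = ⊥ := by
    rw [LinearMap.ker_eq_bot']
    intro v hv
    apply Subtype.ext
    apply hnd (v : R) v.2
    intro c hc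
    have := congrArg (fun f : ↥C →ₗ[k] k => f ⟨c, hc⟩) hv
    simpa [hBapp] using this
  set UV : Submodule k ↥C := Submodule.comap C.subtype U with hUV
  have hUVrank : finrank k UV = finrank k U :=
    (Submodule.comapSubtypeEquivOfLe hUC).finrank_eq
  have hsum := LinearMap.BilinForm.finrank_add_finrank_orthogonal' (B := B) UV
  have hBker' : (UV ⊓ B.ker : Subspace k ↥C) = ⊥ := by
    have : B.ker = ⊥ := hBker
    rw [this, inf_bot_eq]
  rw [hBker', finrank_bot, add_zero] at hsum
  have hZle : finrank k (B.orthogonal UV) ≤ 2 := by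
    by_contra hcon
    push Not at hcon
    obtain ⟨w, hw, hwm⟩ := exists_three_indep C (B.orthogonal UV) (by omega)
    refine h3 w (fun i => (hwm i).1) (fun i => ?_) hw
    obtain ⟨hC, hmem⟩ := hwm i
    apply hP _ hC
    intro u hu
    have h4 := (LinearMap.BilinForm.mem_orthogonal_iff.1 hmem) ⟨u, hUC hu⟩ hu
    have h5 : B ⟨u, hUC hu⟩ ⟨w i, hC⟩ = 0 := h4
    rw [hBapp] at h5
    exact h5
  rw [← hUVrank]; omega

/-- a symmetric local corner algebra with at most two independent central elements has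
dimension at most two -/
theorem corner_finrank_le_two (t : R →ₗ[k] k) (ht : ∀ a b, t (a * b) = t (b * a))
    (e : R) (he : IsIdempotentElem e)
    (Js : Submodule k R) (hJl : ∀ a ∈ Js, ∀ x, x * a ∈ Js) (hJr : ∀ a ∈ Js, ∀ x, a * x ∈ Js)
    (hJnil : ∃ M : ℕ, Js ^ M = ⊥)
    (hC : ∀ x, ∃ c : k, e * x * e - c • e ∈ Js)
    (hndC : ∀ a, e * a * e = a → (∀ c, t (a * (e * c * e)) = 0) → a = 0)
    (hZC : ∀ w : Fin 3 → R, (∀ i, e * w i * e = w i) →
      (∀ i x, w i * (e * x * e) = (e * x * e) * w i) → ¬ LinearIndependent k w) :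
    finrank k ↥(corner k e) ≤ 2 := by
  classical
  set C : Submodule k R := corner k e with hCdef
  have hCm : ∀ c, c ∈ C ↔ e * c * e = c := fun c => mem_corner_iff he c
  have heC : e ∈ C := by rw [hCm]; rw [he.eq, he.eq]
  have hec : ∀ c ∈ C, e * c = c := by
    intro c hc
    have := (hCm c).1 hc
    calc e * c = e * (e * c * e) := by rw [this]
      _ = (e * e) * c * e := by noncomm_ring
      _ = c := by rw [he.eq, this]
  have hce : ∀ c ∈ C, c * e = c := by
    intro c hc
    have := (hCm c).1 hc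
    calc c * e = (e * c * e) * e := by rw [this]
      _ = e * c * (e * e) := by noncomm_ring
      _ = c := by rw [he.eq, this]
  have hCmul : ∀ c ∈ C, ∀ d ∈ C, c * d ∈ C := by
    intro c hc d hd
    rw [hCm]
    calc e * (c * d) * e = (e * c) * (d * e) := by noncomm_ring
      _ = c * d := by rw [hec c hc, hce d hd]
  have hexe : ∀ x, e * x * e ∈ C := fun x => (mem_corner e _).2 ⟨x, rfl⟩
  obtain ⟨M, hM⟩ := hJnil
  -- degenerate case
  by_cases heJ : e ∈ Js
  · have h1 : e ^ (M + 1) ∈ Js ^ (M + 1) := Submodule.pow_mem_pow Js heJ (M + 1)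
    rw [pow_succ Js, hM, Submodule.bot_mul, Submodule.mem_bot, he.pow_succ_eq] at h1
    have hCbot : C = ⊥ := by
      rw [eq_bot_iff]
      intro c hc
      rw [Submodule.mem_bot, ← (hCm c).1 hc, h1, zero_mul, zero_mul]
    rw [hCbot, finrank_bot]; omega
  set Nn : Submodule k R := C ⊓ Js with hNn
  have hNC : Nn ≤ C := inf_le_left
  have hNJ : Nn ≤ Js := inf_le_right
  set N2 : Submodule k R := Nn * Nn with hN2
  have hNmulC : ∀ n ∈ Nn, ∀ c ∈ C, n * c ∈ Nn := fun n hn c hc =>
    ⟨hCmul n hn.1 c hc, hJr n hn.2 c⟩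
  have hCmulN : ∀ c ∈ C, ∀ n ∈ Nn, c * n ∈ Nn := fun c hc n hn =>
    ⟨hCmul c hc n hn.1, hJl n hn.2 c⟩
  have hN2N : N2 ≤ Nn := by
    rw [hN2, Submodule.mul_le]
    intro a ha b hb
    exact hNmulC a ha b hb.1
  have hN2C : N2 ≤ C := hN2N.trans hNC
  -- decomposition c = λ e + n
  have hdec : ∀ c ∈ C, ∃ l : k, c - l • e ∈ Nn := by
    intro c hc
    obtain ⟨l, hl⟩ := hC c
    rw [(hCm c).1 hc] at hl
    exact ⟨l, C.sub_mem hc (C.smul_mem l heC), hl⟩
  -- commutators lie in N2, and equal commutators of the nilpotent parts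
  have hcomm : ∀ c ∈ C, ∀ d ∈ C, ∃ n₁ ∈ Nn, ∃ n₂ ∈ Nn, c * d - d * c = n₁ * n₂ - n₂ * n₁ := by
    intro c hc d hd
    obtain ⟨l, hl⟩ := hdec c hc
    obtain ⟨m, hm⟩ := hdec d hd
    refine ⟨c - l • e, hl, d - m • e, hm, ?_⟩
    have e1 := hec c hc
    have e2 := hce c hc
    have e3 := hec d hd
    have e4 := hce d hd
    simp only [sub_mul, mul_sub, smul_mul_assoc, mul_smul_comm, e1, e2, e3, e4, he.eq, smul_sub]
    rw [smul_comm m l e]
    abel
  have hcommN2 : ∀ c ∈ C, ∀ d ∈ C, c * d - d * c ∈ N2 := by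
    intro c hc d hd
    obtain ⟨n₁, h1, n₂, h2, h⟩ := hcomm c hc d hd
    rw [h]
    exact N2.sub_mem (Submodule.mul_mem_mul h1 h2) (Submodule.mul_mem_mul h2 h1)
  -- central elements via the form
  have horth : ∀ v ∈ C, (∀ u ∈ N2, t (u * v) = 0) →
      ∀ x, v * (e * x * e) = (e * x * e) * v := by
    intro v hvC hv x
    set d := e * x * e with hd
    have hdC : d ∈ C := hexe x
    have hg : v * d - d * v ∈ C :=
      C.sub_mem (hCmul _ hvC _ hdC) (hCmul _ hdC _ hvC)
    have : v * d - d * v = 0 := by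
      apply hndC _ ((hCm _).1 hg)
      intro y
      set c' := e * y * e with hc'
      have hc'C : c' ∈ C := hexe y
      have hu : d * c' - c' * d ∈ N2 := hcommN2 d hdC c' hc'C
      have h1 : t ((d * c' - c' * d) * v) = 0 := hv _ hu
      simp only [sub_mul, map_sub] at h1 ⊢
      have a1 : t (v * d * c') = t (d * c' * v) := by
        rw [mul_assoc, ht]
      have a2 : t (d * v * c') = t (c' * d * v) := by
        rw [ht, ← mul_assoc]
      rw [a1, a2]
      exact h1
    exact sub_eq_zero.1 this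
  have hCfin : finrank k ↥C ≤ finrank k N2 + 2 := by
    refine finrank_le_of_orth C N2 hN2C t ?_
      (fun v => ∀ x, v * (e * x * e) = (e * x * e) * v) horth ?_
    · intro a ha h
      apply hndC a ((hCm a).1 ha)
      intro c
      exact h _ (hexe c)
    · intro w hw hwc
      exact hZC w (fun i => (hCm _).1 (hw i)) hwc
  -- e ∉ Nn, so Nn < C
  have hNlt : Nn < C := by
    refine lt_of_le_of_ne hNC ?_
    intro h
    exact heJ (hNJ (h ▸ heC))
  have hNfin : finrank k Nn < finrank k ↥C := Submodule.finrank_lt_finrank_of_lt hNlt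
  have hNN2 : finrank k Nn ≤ finrank k N2 + 1 := by omega
  -- generator of Nn modulo N2
  obtain ⟨x, hxN, hx⟩ : ∃ x ∈ Nn, Nn ≤ Submodule.span k {x} ⊔ N2 := by
    by_cases heq : N2 = Nn
    · exact ⟨0, Nn.zero_mem, by rw [heq]; exact le_sup_right⟩
    · have hlt : N2 < Nn := lt_of_le_of_ne hN2N heq
      obtain ⟨x, hxN, hxN2⟩ := SetLike.exists_of_lt hlt
      refine ⟨x, hxN, ?_⟩
      set S := Submodule.span k {x} ⊔ N2 with hS
      have hSN : S ≤ Nn := sup_le (by rw [Submodule.span_singleton_le_iff_mem]; exact hxN) hN2N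
      have hN2S : N2 < S := by
        refine lt_of_le_of_ne le_sup_right ?_
        intro h
        apply hxN2
        rw [h]
        exact (le_sup_left : Submodule.span k {x} ≤ S) (Submodule.mem_span_singleton_self x)
      have h3 : finrank k N2 < finrank k S := Submodule.finrank_lt_finrank_of_lt hN2S
      have h4 : S = Nn := Submodule.eq_of_le_of_finrank_le hSN (by omega)
      rw [h4]
  have hdecN : ∀ n ∈ Nn, ∃ (a : k) (p : R), p ∈ N2 ∧ n = a • x + p := by
    intro n hn
    obtain ⟨y, hy, p, hp, rfl⟩ := Submodule.mem_sup.1 (hx hn)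
    obtain ⟨a, rfl⟩ := Submodule.mem_span_singleton.1 hy
    exact ⟨a, p, hp, rfl⟩
  -- commutators of Nn lie in all powers
  have hP : ∀ m : ℕ, ∀ n₁ ∈ Nn, ∀ n₂ ∈ Nn, n₁ * n₂ - n₂ * n₁ ∈ Nn ^ (m + 2) := by
    intro m
    induction m with
    | zero =>
      intro n₁ h1 n₂ h2
      rw [zero_add, pow_two]
      exact Submodule.sub_mem _ (Submodule.mul_mem_mul h1 h2) (Submodule.mul_mem_mul h2 h1)
    | succ m ih =>
      have hQ : ∀ n ∈ Nn, ∀ q ∈ N2, n * q - q * n ∈ Nn ^ (m + 3) := by
        intro n hn q hq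
        refine Submodule.mul_induction_on hq ?_ ?_
        · intro a ha b hb
          have h1 : n * (a * b) - a * b * n = (n * a - a * n) * b + a * (n * b - b * n) := by
            noncomm_ring
          rw [h1]
          refine Submodule.add_mem _ ?_ ?_
          · rw [pow_succ]
            exact Submodule.mul_mem_mul (ih n hn a ha) hb
          · rw [pow_succ']
            exact Submodule.mul_mem_mul ha (ih n hn b hb)
        · intro y z hy hz
          have h1 : n * (y + z) - (y + z) * n = (n * y - y * n) + (n * z - z * n) := by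
            noncomm_ring
          rw [h1]
          exact Submodule.add_mem _ hy hz
      intro n₁ h1 n₂ h2
      obtain ⟨a, p, hp, rfl⟩ := hdecN n₁ h1
      obtain ⟨b, q, hq, rfl⟩ := hdecN n₂ h2
      have c1 : (a • x) * (b • x) = (b • x) * (a • x) := by
        simp only [smul_mul_assoc, mul_smul_comm, smul_smul, mul_comm]
      have c2 : ∀ (c : k) (y : R), (c • x) * y - y * (c • x) = c • (x * y - y * x) := by
        intro c y
        simp only [smul_mul_assoc, mul_smul_comm, smul_sub]
      have h3 : (a • x + p) * (b • x + q) - (b • x + q) * (a • x + p) =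
          a • (x * q - q * x) - b • (x * p - p * x) + (p * q - q * p) := by
        rw [← c2 a q, ← c2 b p]
        have : ∀ x₁ x₂ : R, x₁ * x₂ = x₂ * x₁ →
            (x₁ + p) * (x₂ + q) - (x₂ + q) * (x₁ + p) =
              (x₁ * q - q * x₁) - (x₂ * p - p * x₂) + (p * q - q * p) := by
          intro x₁ x₂ h12
          have e1 : (x₁ + p) * (x₂ + q) - (x₂ + q) * (x₁ + p) =
              (x₁ * x₂ - x₂ * x₁) + (x₁ * q - q * x₁) - (x₂ * p - p * x₂) + (p * q - q * p) := by
            noncomm_ring
          rw [e1, h12, sub_self, zero_add]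
        exact this _ _ c1
      rw [h3, show m + 1 + 2 = m + 3 by ring]
      refine Submodule.add_mem _ (Submodule.sub_mem _ ?_ ?_) ?_
      · exact Submodule.smul_mem _ _ (hQ x hxN q hq)
      · exact Submodule.smul_mem _ _ (hQ x hxN p hp)
      · exact hQ p (hN2N hp) q hq
  -- Nn is nilpotent
  have hNpow : ∀ m : ℕ, Nn ^ m ≤ Js ^ m := by
    intro m
    induction m with
    | zero => simp
    | succ m ih =>
      rw [pow_succ, pow_succ]
      exact Submodule.mul_le.2 (fun a ha b hb => Submodule.mul_mem_mul (ih ha) (hNJ hb))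
  have hNnil : Nn ^ (M + 2) = ⊥ := by
    rw [eq_bot_iff, pow_add]
    calc Nn ^ M * Nn ^ 2 ≤ Js ^ M * Nn ^ 2 :=
          Submodule.mul_le.2 (fun a ha b hb => Submodule.mul_mem_mul (hNpow M ha) hb)
      _ = ⊥ := by rw [hM, Submodule.bot_mul]
  -- C is commutative
  have hCcomm : ∀ c ∈ C, ∀ d ∈ C, c * d = d * c := by
    intro c hc d hd
    obtain ⟨n₁, h1, n₂, h2, h⟩ := hcomm c hc d hd
    have h3 := hP M n₁ h1 n₂ h2
    rw [hNnil, Submodule.mem_bot] at h3
    rw [h3] at h
    exact sub_eq_zero.1 h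
  -- conclusion
  by_contra hcon
  push Not at hcon
  obtain ⟨f, hf⟩ := exists_linearIndependent_of_le_finrank (R := k) (M := ↥C) (n := 3)
    (by omega)
  have hf2 : LinearIndependent k (fun i => ((f i : ↥C) : R)) :=
    hf.map' C.subtype (Submodule.ker_subtype _)
  exact hZC _ (fun i => (hCm _).1 (f i).2) (fun i x => hCcomm _ (f i).2 _ (hexe x)) hf2


/-- A3 (the local case): the heart of Brandt's argument.  `hC`: the corner is `k e` modulo `ker π`;
`hfull`: `ε` lies in the two-sided ideal generated by `e`, modulo `J` (Nakayama iteration inside). -/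
theorem brandt_local (t : R →ₗ[k] k) (ht : ∀ a b, t (a * b) = t (b * a))
    (hnd : ∀ a, (∀ b, t (a * b) = 0) → a = 0)
    (ε : R) (hε : IsIdempotentElem ε) (hεc : ∀ x, ε * x = x * ε)
    (hZ : ∀ z : Fin 3 → R, (∀ i x, z i * x = x * z i) → (∀ i, z i * ε = z i) →
      ¬ LinearIndependent k z)
    (e : R) (he : IsIdempotentElem e) (heε : e * ε = e)
    (J : Set R) (hJadd : ∀ a ∈ J, ∀ b ∈ J, a + b ∈ J) (hJl : ∀ a ∈ J, ∀ x, x * a ∈ J)
    (hJr : ∀ a ∈ J, ∀ x, a * x ∈ J) (hJsmul : ∀ (c : k), ∀ a ∈ J, c • a ∈ J)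
    (hJnil : ∃ N : ℕ, ∀ f : Fin N → R, (∀ i, f i ∈ J) → (List.ofFn f).prod = 0)
    (hC : ∀ x, ∃ c : k, e * x * e - c • e ∈ J)
    (hfull : ∃ (n : ℕ) (a b : Fin n → R), ε - ∑ i, a i * e * b i ∈ J) :
    Module.finrank k ↥(corner k e) ≤ 2 := by
  classical
  -- J as a submodule
  have h0 : (0 : R) ∈ J := by
    obtain ⟨n, a, b, hj⟩ := hfull
    have := hJsmul 0 _ hj
    rwa [zero_smul] at this
  let Js : Submodule k R :=
    { carrier := J
      add_mem' := fun {a b} ha hb => hJadd a ha b hb
      zero_mem' := h0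
      smul_mem' := fun c {a} ha => hJsmul c a ha }
  have hJs : ∀ x, x ∈ Js ↔ x ∈ J := fun x => Iff.rfl
  -- nilpotency
  have hnil : ∃ M : ℕ, Js ^ M = ⊥ := by
    obtain ⟨N, hN⟩ := hJnil
    refine ⟨N, ?_⟩
    rw [Submodule.pow_eq_span_pow_set, eq_bot_iff, Submodule.span_le]
    intro x hx
    obtain ⟨f, rfl⟩ := Set.mem_pow.1 hx
    have := hN (fun i => (f i : R)) (fun i => (f i).2)
    rw [this]
    exact Submodule.zero_mem _
  -- fullness
  obtain ⟨n, a, b, hεab⟩ := full_of_mod e ε hε J hJnil hfull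
  -- nondegeneracy on the corner
  have hndC : ∀ a', e * a' * e = a' → (∀ c, t (a' * (e * c * e)) = 0) → a' = 0 := by
    intro a' ha' h
    apply hnd
    intro x
    have h1 : t (a' * x) = t (a' * (e * x * e)) := by
      calc t (a' * x) = t (e * (a' * e * x)) := by
            congr 1
            calc a' * x = (e * a' * e) * x := by rw [ha']
              _ = e * (a' * e * x) := by noncomm_ring
        _ = t ((a' * e * x) * e) := ht _ _
        _ = t (a' * (e * x * e)) := by congr 1; noncomm_ring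
    rw [h1]; exact h x
  -- no three independent central elements of the corner
  have hZC : ∀ w : Fin 3 → R, (∀ i, e * w i * e = w i) →
      (∀ i x, w i * (e * x * e) = (e * x * e) * w i) → ¬ LinearIndependent k w := by
    intro w hw hwc hli
    have key := fun i => central_transfer e ε he hεc heε a b hεab (w i) (hw i) (hwc i)
    refine hZ (fun i => ∑ j, a j * w i * b j) (fun i => (key i).1) (fun i => (key i).2.1) ?_
    apply LinearIndependent.of_comp (LinearMap.mulRight k e)
    have : (LinearMap.mulRight k e) ∘ (fun i => ∑ j, a j * w i * b j) = w := by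
      funext i
      exact (key i).2.2
    rw [this]
    exact hli
  exact corner_finrank_le_two t ht e he Js (fun a' ha' x => hJl a' ha' x)
    (fun a' ha' x => hJr a' ha' x) hnil hC hndC hZC

end L3

end Cfsg.Agent.Lib.Lead.Brandt
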