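import Mathlib

set_option autoImplicit false

/-!
# Degree eleven: the concrete permutations on `Fin 11` (shared definitions of the S0679 swarm)

All permutations are on `Fin 11`, thought of as `ZMod 11`:
`d11c : x ↦ x + 1`, `d11d : x ↦ 3 * x`, `d11z : x ↦ 2 * x`, `d11n : x ↦ -x`.
`(f * g) x = f (g x)` (Mathlib convention).
-/

namespace Cfsg.Agent.Lib.Deg11

/-- a permutation of `Fin 11` from its table of values and the table of its inverse -/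
def mkP (f g : Fin 11 → Fin 11) (h1 : ∀ x, g (f x) = x) (h2 : ∀ x, f (g x) = x) :
    Equiv.Perm (Fin 11) := ⟨f, g, h1, h2⟩

@[simp] theorem mkP_apply (f g : Fin 11 → Fin 11) (h1 : ∀ x, g (f x) = x) (h2 : ∀ x, f (g x) = x)
    (x : Fin 11) : mkP f g h1 h2 x = f x := rfl

/-- `x ↦ x + 1` -/
def d11c : Equiv.Perm (Fin 11) :=
  mkP ![1, 2, 3, 4, 5, 6, 7, 8, 9, 10, 0] ![10, 0, 1, 2, 3, 4, 5, 6, 7, 8, 9] (by decide) (by decide)

/-- `x ↦ 3 * x` -/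
def d11d : Equiv.Perm (Fin 11) :=
  mkP ![0, 3, 6, 9, 1, 4, 7, 10, 2, 5, 8] ![0, 4, 8, 1, 5, 9, 2, 6, 10, 3, 7] (by decide) (by decide)

/-- `x ↦ 2 * x` -/
def d11z : Equiv.Perm (Fin 11) :=
  mkP ![0, 2, 4, 6, 8, 10, 1, 3, 5, 7, 9] ![0, 6, 1, 7, 2, 8, 3, 9, 4, 10, 5] (by decide) (by decide)

/-- `x ↦ -x` -/
def d11n : Equiv.Perm (Fin 11) :=
  mkP ![0, 10, 9, 8, 7, 6, 5, 4, 3, 2, 1] ![0, 10, 9, 8, 7, 6, 5, 4, 3, 2, 1] (by decide) (by decide)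

theorem d11c_apply (x : Fin 11) : d11c x = x + 1 := by revert x; decide
theorem d11d_apply (x : Fin 11) : d11d x = 3 * x := by revert x; decide
theorem d11z_apply (x : Fin 11) : d11z x = 2 * x := by revert x; decide
theorem d11n_apply (x : Fin 11) : d11n x = -x := by revert x; decide

/-- the normalizing element with `y (3 * x) = 3 ^ 2 * y x`, `y 1 = 1`, `y 2 = 6` -/
def d11g26 : Equiv.Perm (Fin 11) :=
  mkP ![0, 1, 6, 9, 5, 3, 10, 2, 8, 4, 7] ![0, 1, 7, 5, 9, 4, 2, 10, 8, 3, 6] (by decide) (by decide)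

/-- the normalizing element with `y (3 * x) = 3 ^ 2 * y x`, `y 1 = 1`, `y 2 = 10` -/
def d11g2a : Equiv.Perm (Fin 11) :=
  mkP ![0, 1, 10, 9, 5, 3, 2, 7, 6, 4, 8] ![0, 1, 6, 5, 9, 4, 8, 7, 10, 3, 2] (by decide) (by decide)

/-- the normalizing element with `y (3 * x) = 3 ^ 3 * y x`, `y 1 = 1`, `y 2 = 6` -/
def d11g36 : Equiv.Perm (Fin 11) :=
  mkP ![0, 1, 6, 5, 9, 4, 8, 7, 10, 3, 2] ![0, 1, 10, 9, 5, 3, 2, 7, 6, 4, 8] (by decide) (by decide)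

/-- the normalizing element with `y (3 * x) = 3 ^ 3 * y x`, `y 1 = 1`, `y 2 = 7` -/
def d11g37 : Equiv.Perm (Fin 11) :=
  mkP ![0, 1, 7, 5, 9, 4, 2, 10, 8, 3, 6] ![0, 1, 6, 9, 5, 3, 10, 2, 8, 4, 7] (by decide) (by decide)

/-- the normalizing element with `y (3 * x) = 3 ^ 4 * y x`, `y 1 = 1`, `y 2 = 8` -/
def d11g48 : Equiv.Perm (Fin 11) :=
  mkP ![0, 1, 8, 4, 3, 9, 10, 7, 2, 5, 6] ![0, 1, 8, 4, 3, 9, 10, 7, 2, 5, 6] (by decide) (by decide)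

/-- the normalizing element with `y (3 * x) = 3 ^ 4 * y x`, `y 1 = 1`, `y 2 = 10` -/
def d11g4a : Equiv.Perm (Fin 11) :=
  mkP ![0, 1, 10, 4, 3, 9, 7, 6, 8, 5, 2] ![0, 1, 10, 4, 3, 9, 7, 6, 8, 5, 2] (by decide) (by decide)

/-- the group contains no cycle of prime length `2, 3, 5, 7` (consequence of Jordan's theorem) -/
def NoSmallCycle (G : Subgroup (Equiv.Perm (Fin 11))) : Prop :=
  ∀ g ∈ G, g.IsCycle → g.support.card ∈ ({2, 3, 5, 7} : Finset ℕ) → False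

end Cfsg.Agent.Lib.Deg11
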