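import Mathlib
import Cfsg.Agent.Lib.Helper2.G2LDefs
import Cfsg.Agent.Lib.Helper9.G2LC

set_option autoImplicit false
set_option linter.style.haveILetI false
set_option linter.unusedSectionVars false

namespace Cfsg.Agent.Lib.Helper4.G2LF1

open Cfsg Cfsg.Agent.Lib.Helper2.G2L Cfsg.Agent.Lib.Helper9.G2LC

universe u v

section helpers
variable {K' : Type*} [Field K'] {U' : Type*} [AddCommGroup U'] [Module K' U']

/-- a plane is spanned by any two independent vectors in it -/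
theorem plane_span {P : Submodule K' U'} (hP2 : Module.finrank K' P = 2) {p₁ p₂ : U'}
    (h1 : p₁ ∈ P) (h2 : p₂ ∈ P) (hli : ∀ s t : K', s • p₁ + t • p₂ = 0 → s = 0 ∧ t = 0) :
    ∀ q ∈ P, ∃ α β : K', q = α • p₁ + β • p₂ := by
  haveI : FiniteDimensional K' P := Module.finite_of_finrank_pos (by rw [hP2]; norm_num)
  have hind : LinearIndependent K' ![p₁, p₂] := LinearIndependent.pair_iff.mpr hli
  have hle : Submodule.span K' (Set.range ![p₁, p₂]) ≤ P := by
    rw [Submodule.span_le]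
    rintro x ⟨i, rfl⟩
    fin_cases i
    · exact h1
    · exact h2
  have hfr : Module.finrank K' (Submodule.span K' (Set.range ![p₁, p₂])) = 2 := by
    rw [finrank_span_eq_card hind]; simp
  have heq : Submodule.span K' (Set.range ![p₁, p₂]) = P :=
    Submodule.eq_of_le_of_finrank_eq hle (by rw [hfr, hP2])
  intro q hq
  rw [← heq] at hq
  have hr : Set.range ![p₁, p₂] = {p₁, p₂} := by
    simp [Matrix.range_cons, Matrix.range_empty, Set.pair_comm]
  rw [hr, Submodule.mem_span_pair] at hq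
  obtain ⟨a, b, hab⟩ := hq
  exact ⟨a, b, hab.symm⟩

theorem pow_apply_of_apply_eq (Z : Module.End K' U') {u : U'} (h : Z u = u) (k : ℕ) :
    (Z ^ k) u = u := by
  induction k with
  | zero => simp
  | succ k ih => rw [pow_succ, Module.End.mul_apply, h, ih]

theorem pow_apply_of_apply_neg (Z : Module.End K' U') {u : U'} (h : Z u = -u) {k : ℕ}
    (hk : Even k) : (Z ^ k) u = u := by
  obtain ⟨r, rfl⟩ := hk
  have h2 : (Z ^ 2) u = u := by
    rw [pow_two, Module.End.mul_apply, h, map_neg, h, neg_neg]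
  rw [← two_mul, pow_mul]
  exact pow_apply_of_apply_eq _ h2 r

theorem pow_apply_of_apply_smul (Z : Module.End K' U') {u : U'} {z : K'} (h : Z u = z • u)
    (k : ℕ) : (Z ^ k) u = z ^ k • u := by
  induction k with
  | zero => simp
  | succ k ih => rw [pow_succ, Module.End.mul_apply, h, map_smul, ih, smul_smul, pow_succ, mul_comm]

variable {ι : Type*} {W : ι → Submodule K' U'}

theorem mem_biSup_ne {n l : ι} (hn : n ≠ l) {b : U'} (hb : b ∈ W n) :
    b ∈ ⨆ n' ≠ l, W n' :=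
  Submodule.mem_iSup_of_mem n (Submodule.mem_iSup_of_mem hn hb)

theorem indep_zero (hW : iSupIndep W) {l : ι} {a b : U'} (ha : a ∈ W l)
    (hb : b ∈ ⨆ n ≠ l, W n) (h : a = b) : a = 0 := by
  have h1 : a ∈ W l ⊓ ⨆ n ≠ l, W n := ⟨ha, h ▸ hb⟩
  rw [(hW l).eq_bot] at h1
  simpa using h1

theorem indep_two (hW : iSupIndep W) {i j : ι} (hij : i ≠ j) {a b : U'} (ha : a ∈ W i)
    (hb : b ∈ W j) (h : a + b = 0) : a = 0 ∧ b = 0 := by
  have h1 : a = 0 := indep_zero hW ha (mem_biSup_ne hij.symm ((W j).neg_mem hb))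
    (eq_neg_of_add_eq_zero_left h)
  refine ⟨h1, ?_⟩
  rw [h1, zero_add] at h
  exact h

theorem indep_three (hW : iSupIndep W) {i j k : ι} (hij : i ≠ j) (hik : i ≠ k) (hjk : j ≠ k)
    {a b c : U'} (ha : a ∈ W i) (hb : b ∈ W j) (hc : c ∈ W k) (h : a + b + c = 0) :
    a = 0 ∧ b = 0 ∧ c = 0 := by
  have h1 : a = 0 := by
    refine indep_zero hW ha (b := -b + -c) ?_ ?_
    · exact Submodule.add_mem _ (mem_biSup_ne hij.symm ((W j).neg_mem hb))
        (mem_biSup_ne hik.symm ((W k).neg_mem hc))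
    · have : a = -(b + c) := by rw [eq_neg_iff_add_eq_zero, ← add_assoc]; exact h
      rw [this]; abel
  refine ⟨h1, ?_⟩
  rw [h1, zero_add] at h
  exact indep_two hW hjk hb hc h

end helpers


section core
variable {K' : Type*} [Field K'] {U' : Type*} [AddCommGroup U'] [Module K' U'] {ι : Type*}

/-- the abstract situation of Lemma W: an operator of plane type permuting an independent family
of subspaces along an injective map of the index set -/
structure Core (X : Module.End K' U') (P C : Submodule K' U') (m : ℕ)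
    (W : ι → Submodule K' U') (ρ : ι → ι) : Prop where
  h2 : (2 : K') ≠ 0
  hXinj : Function.Injective X
  hPC : IsCompl P C
  hP2 : Module.finrank K' P = 2
  hC : ∀ v ∈ C, X v = v
  hPP : ∀ v ∈ P, X v ∈ P
  hm : Even m
  hPm : ∀ v ∈ P, (X ^ m) v = -v
  hW : iSupIndep W
  hρ : Function.Injective ρ
  hXW : ∀ i, ∀ v ∈ W i, X v ∈ W (ρ i)

variable {X : Module.End K' U'} {P C : Submodule K' U'} {m : ℕ} {W : ι → Submodule K' U'}
  {ρ : ι → ι}

theorem pow_three_apply (Y : Module.End K' U') (u : U') : (Y ^ 3) u = Y (Y (Y u)) := by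
  simp [pow_succ]

theorem Core.exists_decomp (h : Core X P C m W ρ) (u : U') :
    ∃ p ∈ P, ∃ c ∈ C, u = p + c := by
  have hu : u ∈ P ⊔ C := by rw [h.hPC.sup_eq_top]; trivial
  obtain ⟨p, hp, c, hc, e⟩ := Submodule.mem_sup.mp hu
  exact ⟨p, hp, c, hc, e.symm⟩

theorem Core.sub_mem_P (h : Core X P C m W ρ) (u : U') : X u - u ∈ P := by
  obtain ⟨p, hp, c, hc, rfl⟩ := h.exists_decomp u
  rw [map_add, h.hC c hc]
  have e : X p + c - (p + c) = X p - p := by abel
  rw [e]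
  exact P.sub_mem (h.hPP p hp) hp

theorem Core.eq_zero_of_eq_neg (h : Core X P C m W ρ) {p : U'} (hp : p = -p) : p = 0 := by
  have e : (2 : K') • p = 0 := by
    rw [two_smul]
    nth_rewrite 2 [hp]
    exact add_neg_cancel p
  exact (smul_eq_zero.mp e).resolve_left h.h2

theorem Core.eq_zero_of_pow_fix (h : Core X P C m W ρ) {p : U'} (hp : p ∈ P)
    (hf : (X ^ m) p = p) : p = 0 := by
  apply h.eq_zero_of_eq_neg
  rw [← h.hPm p hp]
  exact hf.symm

theorem Core.ne_of_moved (h : Core X P C m W ρ) {i : ι} {v : U'} (hv : v ∈ W i) (hv0 : v ≠ 0)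
    (hmv : ρ i ≠ i) : X v ≠ v := by
  intro e
  have h1 : v + -(X v) = 0 := by rw [e]; exact add_neg_cancel v
  exact hv0 (indep_two h.hW (Ne.symm hmv) hv ((W (ρ i)).neg_mem (h.hXW i v hv)) h1).1

theorem Core.apply_ne_zero (h : Core X P C m W ρ) {v : U'} (hv0 : v ≠ 0) : X v ≠ 0 := by
  intro e
  exact hv0 (h.hXinj (by rw [e, map_zero]))

theorem Core.rho_rho (h : Core X P C m W ρ) {i : ι} (hne : W i ≠ ⊥) (hmv : ρ i ≠ i) :
    ρ (ρ i) = i := by
  by_contra hB
  obtain ⟨v, hv, hv0⟩ := Submodule.exists_mem_ne_zero_of_ne_bot hne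
  obtain ⟨j, hj⟩ : ∃ j, j = ρ i := ⟨_, rfl⟩
  obtain ⟨k, hk⟩ : ∃ k, k = ρ j := ⟨_, rfl⟩
  obtain ⟨l, hl⟩ : ∃ l, l = ρ k := ⟨_, rfl⟩
  have hji : j ≠ i := by rw [hj]; exact hmv
  have hkj : k ≠ j := by
    intro e; rw [hk, hj] at e; exact hmv (h.hρ e)
  have hki : k ≠ i := by rw [hk, hj]; exact hB
  have hlj : l ≠ j := by
    intro e; rw [hl, hj] at e; exact hki (h.hρ e)
  have hlk : l ≠ k := by
    intro e; rw [hl] at e; exact hkj (h.hρ (e.trans hk))
  obtain ⟨w, hw⟩ : ∃ w, w = X v := ⟨_, rfl⟩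
  obtain ⟨x, hx⟩ : ∃ x, x = X w := ⟨_, rfl⟩
  obtain ⟨y, hy⟩ : ∃ y, y = X x := ⟨_, rfl⟩
  have hwW : w ∈ W j := by rw [hw, hj]; exact h.hXW i v hv
  have hxW : x ∈ W k := by rw [hx, hk]; exact h.hXW j w hwW
  have hyW : y ∈ W l := by rw [hy, hl]; exact h.hXW k x hxW
  have hw0 : w ≠ 0 := by rw [hw]; exact h.apply_ne_zero hv0
  have hx0 : x ≠ 0 := by rw [hx]; exact h.apply_ne_zero hw0
  have hy0 : y ≠ 0 := by rw [hy]; exact h.apply_ne_zero hx0
  have hwv : w ≠ v := by rw [hw]; exact h.ne_of_moved hv hv0 hmv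
  have hp1 : w - v ∈ P := by rw [hw]; exact h.sub_mem_P v
  have hp2 : x - w ∈ P := by rw [hx]; exact h.sub_mem_P w
  have hp3 : y - x ∈ P := by rw [hy]; exact h.sub_mem_P x
  have hli : ∀ s t : K', s • (w - v) + t • (x - w) = 0 → s = 0 ∧ t = 0 := by
    intro s t e
    have e' : (-s) • v + (s - t) • w + t • x = 0 := by
      rw [← e]; simp only [smul_sub, sub_smul, neg_smul]; abel
    obtain ⟨a1, -, a3⟩ := indep_three h.hW hji.symm hki.symm hkj.symm
      ((W i).smul_mem _ hv) ((W j).smul_mem _ hwW) ((W k).smul_mem _ hxW) e'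
    have hs : s = 0 := by
      have := (smul_eq_zero.mp a1).resolve_right hv0
      exact neg_eq_zero.mp this
    exact ⟨hs, (smul_eq_zero.mp a3).resolve_right hx0⟩
  obtain ⟨α, β, hαβ⟩ := plane_span h.hP2 hp1 hp2 hli _ hp3
  have hyeq : y = x + (α • (w - v) + β • (x - w)) := by rw [← hαβ]; abel
  by_cases hli' : l = i
  · have e' : (y + α • v) + (β - α) • w + (-(1 + β)) • x = 0 := by
      nth_rewrite 1 [hyeq]
      simp only [smul_sub, sub_smul, neg_smul, add_smul, one_smul]; abel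
    obtain ⟨a1, a2, a3⟩ := indep_three h.hW hji.symm hki.symm hkj.symm
      ((W i).add_mem (hli' ▸ hyW) ((W i).smul_mem _ hv)) ((W j).smul_mem _ hwW)
      ((W k).smul_mem _ hxW) e'
    have hβα : β = α := sub_eq_zero.mp ((smul_eq_zero.mp a2).resolve_right hw0)
    have hβ : β = -1 := by
      have := neg_eq_zero.mp ((smul_eq_zero.mp a3).resolve_right hx0)
      exact (eq_neg_of_add_eq_zero_right this)
    have hyv : y = v := by
      rw [← hβα, hβ, neg_smul, one_smul] at a1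
      exact eq_of_sub_eq_zero (by rw [sub_eq_add_neg]; exact a1)
    have h3 : (X ^ 3) (w - v) = w - v := by
      rw [pow_three_apply, map_sub, map_sub, map_sub, ← hw, ← hx, ← hy, hyv, ← hw]
    have h4 : ((X ^ 3) ^ m) (w - v) = w - v := pow_apply_of_apply_eq _ h3 m
    have h5 : ((X ^ m) ^ 3) (w - v) = -(w - v) := by
      rw [pow_three_apply, h.hPm _ hp1, map_neg, h.hPm _ hp1, neg_neg, h.hPm _ hp1]
    have h6 : (X ^ 3) ^ m = (X ^ m) ^ 3 := by rw [← pow_mul, ← pow_mul, mul_comm]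
    rw [h6, h5] at h4
    exact hwv (sub_eq_zero.mp (h.eq_zero_of_eq_neg h4.symm))
  · have e' : y = (-α) • v + (α - β) • w + (1 + β) • x := by
      nth_rewrite 1 [hyeq]
      simp only [smul_sub, sub_smul, neg_smul, add_smul, one_smul]; abel
    have hmem : (-α) • v + (α - β) • w + (1 + β) • x ∈ ⨆ n ≠ l, W n :=
      Submodule.add_mem _ (Submodule.add_mem _
        (mem_biSup_ne (Ne.symm hli') ((W i).smul_mem _ hv))
        (mem_biSup_ne hlj.symm ((W j).smul_mem _ hwW)))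
        (mem_biSup_ne hlk.symm ((W k).smul_mem _ hxW))
    exact hy0 (indep_zero h.hW hyW hmem e')

theorem Core.moved (h : Core X P C m W ρ) {i : ι} (hne : W i ≠ ⊥) (hmv : ρ i ≠ i) :
    ρ (ρ i) = i ∧ W i ≤ P ∧ P ≤ W i ⊔ W (ρ i) := by
  have hB := h.rho_rho hne hmv
  refine ⟨hB, ?_⟩
  obtain ⟨v, hv, hv0⟩ := Submodule.exists_mem_ne_zero_of_ne_bot hne
  obtain ⟨j, hj⟩ : ∃ j, j = ρ i := ⟨_, rfl⟩
  obtain ⟨w, hw⟩ : ∃ w, w = X v := ⟨_, rfl⟩
  obtain ⟨x, hx⟩ : ∃ x, x = X w := ⟨_, rfl⟩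
  have hwW : w ∈ W j := by rw [hw, hj]; exact h.hXW i v hv
  have hxW : x ∈ W i := by
    have := h.hXW j w hwW
    rw [hj, hB] at this
    rw [hx]; exact this
  have hji : j ≠ i := by rw [hj]; exact hmv
  have hw0 : w ≠ 0 := by rw [hw]; exact h.apply_ne_zero hv0
  have hwv : w ≠ v := by rw [hw]; exact h.ne_of_moved hv hv0 hmv
  have hp1 : w - v ∈ P := by rw [hw]; exact h.sub_mem_P v
  have hp2 : x - w ∈ P := by rw [hx]; exact h.sub_mem_P w
  have hxv : x ≠ v := by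
    intro e
    have h1 : X (w - v) = -(w - v) := by rw [map_sub, ← hx, ← hw, e]; abel
    have h2 := pow_apply_of_apply_neg X h1 h.hm
    exact hwv (sub_eq_zero.mp (h.eq_zero_of_pow_fix hp1 h2))
  have hli : ∀ s t : K', s • (w - v) + t • (x - w) = 0 → s = 0 ∧ t = 0 := by
    intro s t e
    have e' : (t • x - s • v) + (s - t) • w = 0 := by
      rw [← e]; simp only [smul_sub, sub_smul]; abel
    obtain ⟨a1, a2⟩ := indep_two h.hW hji.symm
      ((W i).sub_mem ((W i).smul_mem _ hxW) ((W i).smul_mem _ hv)) ((W j).smul_mem _ hwW) e'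
    have hst : s = t := sub_eq_zero.mp ((smul_eq_zero.mp a2).resolve_right hw0)
    rw [hst, ← smul_sub] at a1
    have ht : t = 0 := (smul_eq_zero.mp a1).resolve_right (sub_ne_zero.mpr hxv)
    exact ⟨hst.trans ht, ht⟩
  have hspan := plane_span h.hP2 hp1 hp2 hli
  have hPle : P ≤ W i ⊔ W j := by
    intro q hq
    obtain ⟨α, β, rfl⟩ := hspan q hq
    have e : α • (w - v) + β • (x - w) = (β • x - α • v) + (α - β) • w := by
      simp only [smul_sub, sub_smul]; abel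
    rw [e]
    exact Submodule.add_mem_sup
      ((W i).sub_mem ((W i).smul_mem _ hxW) ((W i).smul_mem _ hv)) ((W j).smul_mem _ hwW)
  have hline : ∀ v' ∈ W i, ∃ μ : K', v' = μ • v := by
    intro v' hv'
    obtain ⟨α, β, e⟩ := hspan _ (h.sub_mem_P v')
    have e' : (-v' + α • v - β • x) + (X v' - (α - β) • w) = 0 := by
      have e2 : X v' = v' + (α • (w - v) + β • (x - w)) := by rw [← e]; abel
      rw [e2]; simp only [smul_sub, sub_smul]; abel
    have hXv' : X v' ∈ W j := by rw [hj]; exact h.hXW i v' hv'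
    obtain ⟨-, a2⟩ := indep_two h.hW hji.symm
      ((W i).sub_mem ((W i).add_mem ((W i).neg_mem hv') ((W i).smul_mem _ hv))
        ((W i).smul_mem _ hxW))
      ((W j).sub_mem hXv' ((W j).smul_mem _ hwW)) e'
    refine ⟨α - β, h.hXinj ?_⟩
    rw [map_smul, ← hw]; exact sub_eq_zero.mp a2
  obtain ⟨lam, hlam⟩ := hline x hxW
  have hlam1 : lam ≠ 1 := fun e => hxv (by rw [hlam, e, one_smul])
  have hvP : v ∈ P := by
    have h1 : (w - v) + (x - w) ∈ P := P.add_mem hp1 hp2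
    have h2 : (w - v) + (x - w) = (lam - 1) • v := by rw [hlam, sub_smul, one_smul]; abel
    rw [h2] at h1
    have h3 := P.smul_mem (lam - 1)⁻¹ h1
    rwa [smul_smul, inv_mul_cancel₀ (sub_ne_zero.mpr hlam1), one_smul] at h3
  refine ⟨?_, hj ▸ hPle⟩
  intro v' hv'
  obtain ⟨μ, rfl⟩ := hline v' hv'
  exact P.smul_mem _ hvP

theorem Core.fixed_le_C (h : Core X P C m W ρ) {i n : ι} (hne : W i ≠ ⊥) (hmv : ρ i ≠ i)
    (hfix : ρ n = n) : W n ≤ C := by
  obtain ⟨hB, -, hP⟩ := h.moved hne hmv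
  have hni : n ≠ i := fun e => hmv (e ▸ hfix)
  have hnj : n ≠ ρ i := fun e => hni (h.hρ (hfix.trans e))
  intro u hu
  obtain ⟨p, hp, c, hc, rfl⟩ := h.exists_decomp u
  have hpow : ∀ k, (X ^ k) (p + c) ∈ W n := by
    intro k
    induction k with
    | zero => simpa using hu
    | succ k ih =>
      rw [pow_succ', Module.End.mul_apply]
      have := h.hXW n _ ih
      rwa [hfix] at this
  have h1 : (X ^ m) (p + c) = -p + c := by
    rw [map_add, h.hPm p hp, pow_apply_of_apply_eq X (h.hC c hc)]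
  have h2 : (2 : K') • p ∈ W n := by
    have h3 := (W n).sub_mem hu (hpow m)
    rw [h1] at h3
    have e : p + c - (-p + c) = (2 : K') • p := by rw [two_smul]; abel
    rwa [e] at h3
  have h3 : (2 : K') • p ∈ ⨆ n' ≠ n, W n' := by
    obtain ⟨a, ha, b, hb, e⟩ := Submodule.mem_sup.mp (hP (P.smul_mem 2 hp))
    rw [← e]
    exact Submodule.add_mem _ (mem_biSup_ne hni.symm ha) (mem_biSup_ne hnj.symm hb)
  have h4 := indep_zero h.hW h2 h3 rfl
  have hp0 : p = 0 := (smul_eq_zero.mp h4).resolve_left h.h2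
  rw [hp0, zero_add]; exact hc

theorem Core.moved_unique (h : Core X P C m W ρ) {i n : ι} (hne : W i ≠ ⊥) (hmv : ρ i ≠ i)
    (hne' : W n ≠ ⊥) (hmv' : ρ n ≠ n) : n = i ∨ n = ρ i := by
  by_contra hcon
  push Not at hcon
  obtain ⟨hni, hnj⟩ := hcon
  obtain ⟨-, -, hP⟩ := h.moved hne hmv
  obtain ⟨-, hnP, -⟩ := h.moved hne' hmv'
  apply hne'
  rw [eq_bot_iff]
  intro u hu
  have h3 : u ∈ ⨆ n' ≠ n, W n' := by
    obtain ⟨a, ha, b, hb, e⟩ := Submodule.mem_sup.mp (hP (hnP hu))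
    rw [← e]
    exact Submodule.add_mem _ (mem_biSup_ne hni.symm ha) (mem_biSup_ne hnj.symm hb)
  rw [Submodule.mem_bot]
  exact indep_zero h.hW hu h3 rfl

end core

section main

theorem exists_pow_eq_neg_one {F : Type*} [Field F] {z : F} (hz : z ≠ 1) (k : ℕ)
    (hk : z ^ 2 ^ k = 1) : ∃ N : ℕ, z ^ N = -1 := by
  induction k with
  | zero => exact absurd (by simpa using hk) hz
  | succ k ih =>
    have h1 : z ^ 2 ^ k * z ^ 2 ^ k = 1 := by
      rw [← pow_add, ← two_mul, ← pow_succ']; exact hk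
    rcases mul_self_eq_one_iff.mp h1 with h | h
    · exact ih h
    · exact ⟨_, h⟩

variable {K' : Type*} [Field K'] [IsAlgClosed K']

theorem lemmaW_aux (h2 : (2 : K') ≠ 0) (S : Type u) [Group S] (U' : Type v)
    [AddCommGroup U'] [Module K' U'] [FiniteDimensional K' U'] (σ : Representation K' S U')
    (hσ : Function.Injective σ) (g : S) (m : ℕ) (hm : Even m) (hg : PlaneType (σ g) m)
    {B : Type*} [CommGroup B] [Finite B] (hB2 : IsPGroup 2 B) (f : B →* S) (φ' : B → B)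
    (hφ' : ∀ b, f (φ' b) = g⁻¹ * f b * g) (hφ's : Function.Surjective φ') :
    (∀ b, g * f b = f b * g) ∨ g ^ m ∈ f.range := by
  classical
  obtain ⟨P, C, hPC, hP2, hC, hPP, hPm⟩ := hg
  let τ : Representation K' B U' := σ.comp f
  have hτ : ∀ b u, τ b u = σ (f b) u := fun b u => rfl
  let ρ : (B → K') → (B → K') := fun χ a => χ (φ' a)
  have hρ : Function.Injective ρ := by
    intro χ χ' e
    funext b
    obtain ⟨a, rfl⟩ := hφ's b
    exact congrFun e a
  have hcard : (Nat.card B : K') ≠ 0 := by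
    haveI : Fact (Nat.Prime 2) := ⟨Nat.prime_two⟩
    obtain ⟨k, hk⟩ := IsPGroup.iff_card.mp hB2
    rw [hk]; push_cast; exact pow_ne_zero _ h2
  have hXW : ∀ χ : B → K', ∀ v ∈ wtSpace τ χ, σ g v ∈ wtSpace τ (ρ χ) := by
    intro χ v hv
    rw [mem_wtSpace] at hv ⊢
    intro a
    have e1 : f a * g = g * f (φ' a) := by rw [hφ']; group
    calc τ a (σ g v) = σ (f a * g) v := by rw [hτ, map_mul]; rfl
      _ = σ g (τ (φ' a) v) := by rw [e1, map_mul]; rfl
      _ = ρ χ a • σ g v := by rw [hv (φ' a), map_smul]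
  have hXinj : Function.Injective (σ g) := by
    apply Function.LeftInverse.injective (g := σ g⁻¹)
    intro u
    have : σ g⁻¹ * σ g = 1 := by rw [← map_mul, inv_mul_cancel, map_one]
    calc σ g⁻¹ (σ g u) = (σ g⁻¹ * σ g) u := rfl
      _ = u := by rw [this]; rfl
  have hcore : Core (σ g) P C m (fun χ => wtSpace τ χ) ρ :=
    ⟨h2, hXinj, hPC, hP2, hC, hPP, hm, hPm, iSupIndep_wtSpace τ, hρ, hXW⟩
  have htop : (⨆ χ : B → K', wtSpace τ χ) = ⊤ := iSup_wtSpace τ hcard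
  have hext : ∀ F F' : Module.End K' U', (∀ χ : B → K', ∀ u ∈ wtSpace τ χ, F u = F' u) →
      F = F' := by
    intro F F' hFF
    have hle : (⨆ χ : B → K', wtSpace τ χ) ≤ LinearMap.eqLocus F F' :=
      iSup_le (fun χ u hu => hFF χ u hu)
    rw [htop] at hle
    ext u
    exact hle (Submodule.mem_top)
  have hne_bot : ∀ (ψ : B → K') (u : U'), u ∈ wtSpace τ ψ → u ≠ 0 → wtSpace τ ψ ≠ ⊥ := by
    intro ψ u hu hu0 e
    rw [e, Submodule.mem_bot] at hu
    exact hu0 hu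
  have hnz : ∀ (ψ : B → K') (u : U'), u ∈ wtSpace τ ψ → u ≠ 0 → ∀ a, ψ a ≠ 0 := by
    intro ψ u hu hu0 a e
    have h1 := (mem_wtSpace τ ψ u).mp hu a
    rw [e, zero_smul] at h1
    have h3 : τ a⁻¹ (τ a u) = u := by
      have : τ a⁻¹ * τ a = 1 := by rw [← map_mul, inv_mul_cancel, map_one]
      calc τ a⁻¹ (τ a u) = (τ a⁻¹ * τ a) u := rfl
        _ = u := by rw [this]; rfl
    rw [h1, map_zero] at h3
    exact hu0 h3.symm
  by_cases hmv : ∃ χ : B → K', wtSpace τ χ ≠ ⊥ ∧ ρ χ ≠ χ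
  · -- some weight moves
    right
    obtain ⟨χ₀, hne0, hmv0⟩ := hmv
    obtain ⟨hB, hW0P, -⟩ := hcore.moved hne0 hmv0
    obtain ⟨v, hv, hv0⟩ := Submodule.exists_mem_ne_zero_of_ne_bot hne0
    have hw : σ g v ∈ wtSpace τ (ρ χ₀) := hXW χ₀ v hv
    have hw0 : σ g v ≠ 0 := hcore.apply_ne_zero hv0
    have hne1 : wtSpace τ (ρ χ₀) ≠ ⊥ := hne_bot _ _ hw hw0
    have hmv1 : ρ (ρ χ₀) ≠ ρ χ₀ := by rw [hB]; exact fun e => hmv0 e.symm
    obtain ⟨-, hW1P, -⟩ := hcore.moved hne1 hmv1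
    obtain ⟨a₀, ha₀⟩ := Function.ne_iff.mp hmv0
    -- ha₀ : ρ χ₀ a₀ ≠ χ₀ a₀
    obtain ⟨c, hc⟩ : ∃ c : B, c = a₀⁻¹ * φ' a₀ := ⟨_, rfl⟩
    have hkey : ∀ (ψ : B → K') (u : U'), u ∈ wtSpace τ ψ → u ≠ 0 →
        ψ c * ψ a₀ = ρ ψ a₀ := by
      intro ψ u hu hu0
      have hm' := (mem_wtSpace τ ψ u).mp hu
      have e1 : τ (a₀ * c) u = (ψ c * ψ a₀) • u := by
        rw [map_mul]
        calc (τ a₀ * τ c) u = τ a₀ (τ c u) := rfl
          _ = (ψ c * ψ a₀) • u := by rw [hm' c, map_smul, hm' a₀, smul_smul]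
      have e2 : a₀ * c = φ' a₀ := by rw [hc, mul_inv_cancel_left]
      rw [e2, hm' (φ' a₀)] at e1
      have e3 : (ρ ψ a₀ - ψ c * ψ a₀) • u = 0 := by
        rw [sub_smul, ← e1]; exact sub_self _
      exact (sub_eq_zero.mp ((smul_eq_zero.mp e3).resolve_right hu0)).symm
    have hz0 : χ₀ c * χ₀ a₀ = ρ χ₀ a₀ := hkey χ₀ v hv hv0
    have hz1 : ρ χ₀ c * ρ χ₀ a₀ = χ₀ a₀ := by
      have := hkey (ρ χ₀) _ hw hw0
      rwa [hB] at this
    have hz0ne : χ₀ c ≠ 1 := by
      intro e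
      rw [e, one_mul] at hz0
      exact ha₀ hz0.symm
    have hz01 : χ₀ c * ρ χ₀ c = 1 := by
      have hnz0 : χ₀ a₀ * ρ χ₀ a₀ ≠ 0 :=
        mul_ne_zero (hnz χ₀ v hv hv0 a₀) (hnz (ρ χ₀) _ hw hw0 a₀)
      have e : χ₀ c * ρ χ₀ c * (χ₀ a₀ * ρ χ₀ a₀) = 1 * (χ₀ a₀ * ρ χ₀ a₀) := by
        calc χ₀ c * ρ χ₀ c * (χ₀ a₀ * ρ χ₀ a₀) = (χ₀ c * χ₀ a₀) * (ρ χ₀ c * ρ χ₀ a₀) := by ring
          _ = 1 * (χ₀ a₀ * ρ χ₀ a₀) := by rw [hz0, hz1]; ring
      exact mul_right_cancel₀ hnz0 e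
    obtain ⟨k, hk⟩ := hB2 c
    have hpw : ∀ (ψ : B → K') (u : U'), u ∈ wtSpace τ ψ → ∀ N : ℕ,
        τ (c ^ N) u = ψ c ^ N • u := by
      intro ψ u hu N
      rw [map_pow]
      exact pow_apply_of_apply_smul (τ c) ((mem_wtSpace τ ψ u).mp hu c) N
    have hzk : χ₀ c ^ 2 ^ k = 1 := by
      have h1 := hpw χ₀ v hv (2 ^ k)
      rw [hk, map_one] at h1
      have h3 : (χ₀ c ^ 2 ^ k - 1) • v = 0 := by
        rw [sub_smul, one_smul, ← h1]; exact sub_self _
      exact sub_eq_zero.mp ((smul_eq_zero.mp h3).resolve_right hv0)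
    obtain ⟨N, hN⟩ := exists_pow_eq_neg_one hz0ne k hzk
    have hN1 : ρ χ₀ c ^ N = -1 := by
      have e : ρ χ₀ c = (χ₀ c)⁻¹ := eq_inv_of_mul_eq_one_right hz01
      rw [e, inv_pow, hN]; norm_num
    have hfin : τ (c ^ N) = σ g ^ m := by
      apply hext
      intro ψ u hu
      by_cases hu0 : u = 0
      · rw [hu0, map_zero, map_zero]
      have hneψ := hne_bot ψ u hu hu0
      rw [hpw ψ u hu N]
      by_cases hfix : ρ ψ = ψ
      · have huC : u ∈ C := hcore.fixed_le_C hne0 hmv0 hfix hu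
        rw [pow_apply_of_apply_eq (σ g) (hC u huC) m]
        have h1 := hkey ψ u hu hu0
        rw [hfix] at h1
        have h3 : ψ c = 1 := by
          have h4 : ψ c * ψ a₀ = 1 * ψ a₀ := by rw [h1, one_mul]
          exact mul_right_cancel₀ (hnz ψ u hu hu0 a₀) h4
        rw [h3, one_pow, one_smul]
      · rcases hcore.moved_unique hne0 hmv0 hneψ hfix with e | e
        · rw [e] at hu ⊢
          rw [hPm u (hW0P hu), hN, neg_smul, one_smul]
        · rw [e] at hu ⊢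
          rw [hPm u (hW1P hu), hN1, neg_smul, one_smul]
    refine ⟨c ^ N, hσ ?_⟩
    rw [map_pow σ g m, ← hfin]
    rfl
  · -- every weight is fixed
    left
    push Not at hmv
    intro b
    have h1 : τ (φ' b) = τ b := by
      apply hext
      intro ψ u hu
      by_cases hu0 : u = 0
      · rw [hu0, map_zero, map_zero]
      have hfix := hmv ψ (hne_bot ψ u hu hu0)
      have hm' := (mem_wtSpace τ ψ u).mp hu
      rw [hm' (φ' b), hm' b]
      exact congrArg (· • u) (congrFun hfix b)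
    have h3 : f (φ' b) = f b := hσ h1
    rw [hφ'] at h3
    calc g * f b = g * (g⁻¹ * f b * g) := by rw [h3]
      _ = f b * g := by group

/-- **Lemma W** (S3801, package F1). -/
theorem lemmaW (h2 : (2 : K') ≠ 0) (S : Type u) [Group S] [Finite S] (U' : Type v)
    [AddCommGroup U'] [Module K' U'] [FiniteDimensional K' U'] (σ : Representation K' S U')
    (hσ : Function.Injective σ) (g : S) (m : ℕ) (hm : Even m) (hg : PlaneType (σ g) m)
    (A : Subgroup S) (hA2 : IsPGroup 2 A) (hAc : ∀ a ∈ A, ∀ b ∈ A, a * b = b * a)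
    (hAg : ∀ a ∈ A, g * a * g⁻¹ ∈ A) :
    (∀ a ∈ A, g * a = a * g) ∨ g ^ m ∈ A := by
  letI instA : CommGroup A :=
    { (inferInstance : Group A) with mul_comm := fun a b => Subtype.ext (hAc a a.2 b b.2) }
  let φ : A → A := fun a => ⟨g * a * g⁻¹, hAg a a.2⟩
  have hφi : Function.Injective φ := by
    intro a b e
    have e1 : g * (a : S) * g⁻¹ = g * (b : S) * g⁻¹ := congrArg Subtype.val e
    exact Subtype.ext (mul_left_cancel (mul_right_cancel e1))
  have hφs : Function.Surjective φ := Finite.surjective_of_injective hφi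
  have hAg' : ∀ a ∈ A, g⁻¹ * a * g ∈ A := by
    intro a ha
    obtain ⟨b, hb⟩ := hφs ⟨a, ha⟩
    have e1 : g * (b : S) * g⁻¹ = a := congrArg Subtype.val hb
    rw [← e1]
    have e2 : g⁻¹ * (g * (b : S) * g⁻¹) * g = b := by group
    rw [e2]; exact b.2
  let φ' : A → A := fun a => ⟨g⁻¹ * a * g, hAg' a a.2⟩
  have hφ's : Function.Surjective φ' := by
    intro a
    refine ⟨φ a, Subtype.ext ?_⟩
    show g⁻¹ * (g * (a : S) * g⁻¹) * g = a
    group
  rcases lemmaW_aux h2 S U' σ hσ g m hm hg (B := A) hA2 A.subtype φ' (fun b => rfl) hφ's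
    with h | h
  · left; intro a ha; exact h ⟨a, ha⟩
  · right
    obtain ⟨b, hb⟩ := h
    rw [← hb]; exact b.2

end main

end Cfsg.Agent.Lib.Helper4.G2LF1
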