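import Mathlib
import Cfsg.Agent.Lib.Helper2.G2LDefs
import Cfsg.Agent.Lib.Lead.Nilpotent

/-!
# S3801, package F2

In a finite `p`-group `S` with a normal subgroup `T`: if `g` centralises every abelian normal
subgroup of `S` contained in `T`, then `[[τ, g], g] = 1` for all `τ ∈ T`.
(A maximal `S`-normal abelian subgroup `A ≤ T` is self-centralising in `T`, hence `[T, g] ≤ A`.)
-/

set_option autoImplicit false
set_option linter.style.haveILetI false

namespace Cfsg.Agent.Lib.Helper4.G2LF2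

open Cfsg Cfsg.Agent.Lib.Helper2.G2L

universe u

section
variable {S : Type u} [Group S]

/-- `A` is an abelian normal subgroup of `S` contained in `T` -/
def AbNormalIn (T A : Subgroup S) : Prop :=
  A.Normal ∧ A ≤ T ∧ ∀ a ∈ A, ∀ b ∈ A, a * b = b * a

theorem exists_max_abNormalIn [Finite S] (T : Subgroup S) :
    ∃ A : Subgroup S, AbNormalIn T A ∧ ∀ B : Subgroup S, AbNormalIn T B → A ≤ B → B = A := by
  have hfin : {A : Subgroup S | AbNormalIn T A}.Finite := Set.toFinite _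
  have hne : {A : Subgroup S | AbNormalIn T A}.Nonempty := by
    refine ⟨⊥, inferInstance, bot_le, ?_⟩
    intro a ha b hb
    rw [Subgroup.mem_bot] at ha hb
    rw [ha, hb]
  obtain ⟨A, hA⟩ := hfin.exists_maximal hne
  exact ⟨A, hA.1, fun B hB hAB => le_antisymm (hA.2 hB hAB) hAB⟩

/-- a maximal `S`-normal abelian subgroup of `T` is self-centralising in `T` -/
theorem centralizer_inf_le_of_max [Finite S] {p : ℕ} [Fact p.Prime] (hS : IsPGroup p S)
    (T : Subgroup S) [hT : T.Normal] (A : Subgroup S) (hA : AbNormalIn T A)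
    (hmax : ∀ B : Subgroup S, AbNormalIn T B → A ≤ B → B = A) :
    T ⊓ Subgroup.centralizer (A : Set S) ≤ A := by
  by_contra hnot
  haveI hAn : A.Normal := hA.1
  haveI : Group.IsNilpotent (S ⧸ A) := (hS.to_quotient A).isNilpotent
  haveI hCn : (T ⊓ Subgroup.centralizer (A : Set S)).Normal := inferInstance
  -- the image of `C = C_T(A)` in `S/A` is a nontrivial normal subgroup
  have hne : (T ⊓ Subgroup.centralizer (A : Set S)).map (QuotientGroup.mk' A) ≠ ⊥ := by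
    intro h
    apply hnot
    intro c hc
    have h1 : QuotientGroup.mk' A c ∈
        (T ⊓ Subgroup.centralizer (A : Set S)).map (QuotientGroup.mk' A) :=
      Subgroup.mem_map_of_mem _ hc
    rw [h, Subgroup.mem_bot] at h1
    exact (QuotientGroup.eq_one_iff c).mp h1
  haveI : ((T ⊓ Subgroup.centralizer (A : Set S)).map (QuotientGroup.mk' A)).Normal :=
    Subgroup.Normal.map hCn _ (QuotientGroup.mk'_surjective A)
  have h2 := Cfsg.Agent.Lib.Lead.inf_center_ne_bot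
    ((T ⊓ Subgroup.centralizer (A : Set S)).map (QuotientGroup.mk' A)) hne
  obtain ⟨z, hz1⟩ := (Subgroup.ne_bot_iff_exists_ne_one).mp h2
  obtain ⟨hzC, hzZ⟩ := Subgroup.mem_inf.mp z.2
  obtain ⟨c, hc, hcz⟩ := Subgroup.mem_map.mp hzC
  have hcA : c ∉ A := by
    intro hcA
    apply hz1
    apply Subtype.ext
    rw [← hcz]
    exact (QuotientGroup.eq_one_iff c).mpr hcA
  obtain ⟨hcT, hcC⟩ := Subgroup.mem_inf.mp hc
  rw [← hcz] at hzZ
  -- the bigger subgroup `B = A⟨c⟩`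
  haveI hzn : (Subgroup.zpowers (QuotientGroup.mk' A c)).Normal :=
    Cfsg.Agent.Lib.Lead.zpowers_normal_of_mem_center hzZ
  have hBmem : ∀ x, x ∈ (Subgroup.zpowers (QuotientGroup.mk' A c)).comap (QuotientGroup.mk' A) →
      ∃ k : ℤ, ∃ a ∈ A, x = c ^ k * a := by
    intro x hx
    rw [Subgroup.mem_comap, Subgroup.mem_zpowers_iff] at hx
    obtain ⟨k, hk⟩ := hx
    refine ⟨k, (c ^ k)⁻¹ * x, ?_, by group⟩
    rw [← map_zpow] at hk
    exact (QuotientGroup.eq).mp hk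
  have hcomm : ∀ a ∈ A, c * a = a * c := by
    intro a ha
    exact ((Subgroup.mem_centralizer_iff.mp hcC) a ha).symm
  have hcommk : ∀ (k : ℤ), ∀ a ∈ A, c ^ k * a = a * c ^ k := by
    intro k a ha
    exact ((Commute.zpow_left (show Commute c a from hcomm a ha)) k).eq
  have hB : AbNormalIn T ((Subgroup.zpowers (QuotientGroup.mk' A c)).comap (QuotientGroup.mk' A)) := by
    refine ⟨inferInstance, ?_, ?_⟩
    · intro x hx
      obtain ⟨k, a, ha, rfl⟩ := hBmem x hx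
      exact T.mul_mem (T.zpow_mem hcT k) (hA.2.1 ha)
    · intro x hx y hy
      obtain ⟨k, a, ha, rfl⟩ := hBmem x hx
      obtain ⟨l, b, hb, rfl⟩ := hBmem y hy
      have h1 := hcommk l a ha
      have h2 := hcommk k b hb
      have h3 := hA.2.2 a ha b hb
      have h4 : c ^ k * c ^ l = c ^ l * c ^ k := (Commute.zpow_zpow_self c k l).eq
      calc c ^ k * a * (c ^ l * b) = c ^ k * (a * c ^ l) * b := by group
        _ = c ^ k * (c ^ l * a) * b := by rw [h1]
        _ = (c ^ k * c ^ l) * (a * b) := by group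
        _ = (c ^ l * c ^ k) * (b * a) := by rw [h4, h3]
        _ = c ^ l * (c ^ k * b) * a := by group
        _ = c ^ l * (b * c ^ k) * a := by rw [h2]
        _ = c ^ l * b * (c ^ k * a) := by group
  have hAB : A ≤ (Subgroup.zpowers (QuotientGroup.mk' A c)).comap (QuotientGroup.mk' A) := by
    intro a ha
    rw [Subgroup.mem_comap]
    have : QuotientGroup.mk' A a = 1 := (QuotientGroup.eq_one_iff a).mpr ha
    rw [this]
    exact Subgroup.one_mem _
  have hcB : c ∈ (Subgroup.zpowers (QuotientGroup.mk' A c)).comap (QuotientGroup.mk' A) := by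
    rw [Subgroup.mem_comap]
    exact Subgroup.mem_zpowers _
  have := hmax _ hB hAB
  rw [this] at hcB
  exact hcA hcB

end

/-- F2 -/
theorem comm_comm_eq_one (p : ℕ) [Fact p.Prime] (S : Type u) [Group S] [Finite S]
    (hS : IsPGroup p S) (T : Subgroup S) [T.Normal] (g : S)
    (hc : ∀ A : Subgroup S, A.Normal → A ≤ T → (∀ a ∈ A, ∀ b ∈ A, a * b = b * a) →
      ∀ a ∈ A, g * a = a * g) :
    ∀ τ ∈ T, cm (cm τ g) g = 1 := by
  obtain ⟨A, hA, hmax⟩ := exists_max_abNormalIn T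
  have hself := centralizer_inf_le_of_max hS T A hA hmax
  have hgA := hc A hA.1 hA.2.1 hA.2.2
  haveI := hA.1
  intro τ hτ
  -- `[τ, g] ∈ T` and centralises `A`
  have h1 : cm τ g ∈ T := by
    unfold cm
    have : τ⁻¹ * g⁻¹ * τ * g = τ⁻¹ * (g⁻¹ * τ * g⁻¹⁻¹) := by group
    rw [this]
    exact T.mul_mem (T.inv_mem hτ) (‹T.Normal›.conj_mem τ hτ g⁻¹)
  have h2 : cm τ g ∈ Subgroup.centralizer (A : Set S) := by
    rw [Subgroup.mem_centralizer_iff]
    intro a ha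
    -- `a` commutes with `g`; `τ a τ⁻¹ ∈ A` commutes with `g` and with `a`
    have ha' : τ * a * τ⁻¹ ∈ A := hA.1.conj_mem a ha τ
    have e1 := hgA a ha
    have e2 := hgA _ ha'
    have e3 := hA.2.2 a ha _ ha'
    unfold cm
    -- a * (τ⁻¹ g⁻¹ τ g) = (τ⁻¹ g⁻¹ τ g) * a
    have f1 : g⁻¹ * (τ * a * τ⁻¹) = (τ * a * τ⁻¹) * g⁻¹ := by
      have : (τ * a * τ⁻¹) = g⁻¹ * (g * (τ * a * τ⁻¹)) := by group
      rw [e2] at this
      calc g⁻¹ * (τ * a * τ⁻¹) = g⁻¹ * (τ * a * τ⁻¹) * g * g⁻¹ := by group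
        _ = (g⁻¹ * ((τ * a * τ⁻¹) * g)) * g⁻¹ := by group
        _ = (τ * a * τ⁻¹) * g⁻¹ := by rw [← this]
    have f2 : a * g = g * a := e1.symm
    calc a * (τ⁻¹ * g⁻¹ * τ * g) = τ⁻¹ * ((τ * a * τ⁻¹) * g⁻¹) * τ * g := by group
      _ = τ⁻¹ * (g⁻¹ * (τ * a * τ⁻¹)) * τ * g := by rw [f1]
      _ = τ⁻¹ * g⁻¹ * τ * (a * g) := by group
      _ = τ⁻¹ * g⁻¹ * τ * (g * a) := by rw [f2]
      _ = τ⁻¹ * g⁻¹ * τ * g * a := by group
  have h3 : cm τ g ∈ A := hself (Subgroup.mem_inf.mpr ⟨h1, h2⟩)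
  have h4 := hgA _ h3
  unfold cm at h4 ⊢
  calc (τ⁻¹ * g⁻¹ * τ * g)⁻¹ * g⁻¹ * (τ⁻¹ * g⁻¹ * τ * g) * g
      = (τ⁻¹ * g⁻¹ * τ * g)⁻¹ * g⁻¹ * ((τ⁻¹ * g⁻¹ * τ * g) * g) := by group
    _ = (τ⁻¹ * g⁻¹ * τ * g)⁻¹ * g⁻¹ * (g * (τ⁻¹ * g⁻¹ * τ * g)) := by rw [← h4]
    _ = 1 := by group

end Cfsg.Agent.Lib.Helper4.G2LF2
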