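import Mathlib
import Cfsg.Agent.Lib.Helper2.G2LDefs
import Cfsg.Agent.Lib.Helper4.G2LF1
import Cfsg.Agent.Lib.Helper4.G2LF2
import Cfsg.Agent.Lib.Helper8.G2LF3

/-!
# S3801, package FS = Lemma S

`L` finite solvable, faithful on `U'` in characteristic `≠ 2`, `g` of plane type `2 ^ k`, `k ≥ 1`.
Then `g ^ 2 ^ k ∈ O_{2',2}(L)`.
-/

set_option autoImplicit false
set_option linter.style.haveILetI false
set_option linter.unusedSectionVars false

namespace Cfsg.Agent.Lib.Helper4.G2LFS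

open Cfsg Cfsg.Agent.Lib.Helper2.G2L

universe u v

section prelim
variable {L : Type*} [Group L]

theorem pCore_isPGroup' (p : ℕ) : IsPGroup p (pCore p L) :=
  Sylow.sSup_of_normal _ (fun _ hH => hH.2) (fun _ hH => hH.1)

theorem pCore_normal' (p : ℕ) : (pCore p L).Normal :=
  Subgroup.sSup_normal _ (fun _ hH => hH.1)

theorem pPrimePCore_normal' (p : ℕ) : (pPrimePCore p L).Normal :=
  Subgroup.Normal.comap (pCore_normal' p) _

theorem pPrimeCore_le_pPrimePCore' (p : ℕ) : pPrimeCore p L ≤ pPrimePCore p L := by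
  intro x hx
  unfold pPrimePCore
  rw [Subgroup.mem_comap]
  have h1 : (QuotientGroup.mk' (pPrimeCore p L)) x = 1 := (QuotientGroup.eq_one_iff x).mpr hx
  rw [h1]
  exact Subgroup.one_mem _

/-- a Sylow `p`-subgroup covers `O_{p',p}` modulo `O_{p'}` -/
theorem pPrimeCore_sup_sylow_inf [Finite L] (p : ℕ) [Fact p.Prime] (Q : Sylow p L) :
    pPrimeCore p L ⊔ ((Q : Subgroup L) ⊓ pPrimePCore p L) = pPrimePCore p L := by
  apply le_antisymm (sup_le (pPrimeCore_le_pPrimePCore' p) inf_le_right)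
  intro x hx
  have hπ : Function.Surjective (QuotientGroup.mk' (pPrimeCore p L)) :=
    QuotientGroup.mk'_surjective _
  haveI := pCore_normal' (L := L ⧸ pPrimeCore p L) p
  have hle : pCore p (L ⧸ pPrimeCore p L) ≤ (Q.mapSurjective hπ : Subgroup _) :=
    (pCore_isPGroup' p).le_sylow_of_normal (Q.mapSurjective hπ)
  have hx' : (QuotientGroup.mk' (pPrimeCore p L)) x ∈ pCore p (L ⧸ pPrimeCore p L) := hx
  have hx2 := hle hx'
  rw [Sylow.coe_mapSurjective] at hx2
  obtain ⟨q, hq, hqx⟩ := hx2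
  have hn : q⁻¹ * x ∈ pPrimeCore p L := by
    rw [← QuotientGroup.eq_one_iff, QuotientGroup.mk_mul, QuotientGroup.mk_inv]
    have : (QuotientGroup.mk' (pPrimeCore p L)) q = (QuotientGroup.mk' (pPrimeCore p L)) x := hqx
    simp only [QuotientGroup.mk'_apply] at this
    rw [this, inv_mul_cancel]
  have hqM : q ∈ pPrimePCore p L := by
    have e : q = x * (q⁻¹ * x)⁻¹ := by group
    rw [e]
    exact (pPrimePCore p L).mul_mem hx
      ((pPrimePCore p L).inv_mem (pPrimeCore_le_pPrimePCore' p hn))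
  have e : x = q * (q⁻¹ * x) := by group
  rw [e, sup_comm]
  exact Subgroup.mul_mem_sup ⟨hq, hqM⟩ hn

end prelim

section main
variable {K' : Type*} [Field K'] [IsAlgClosed K']

omit [IsAlgClosed K'] in
theorem pow_eq_one_of_planeType {U' : Type*} [AddCommGroup U'] [Module K' U']
    (X : Module.End K' U') (k : ℕ) (hg : PlaneType X (2 ^ k)) : X ^ 2 ^ (k + 1) = 1 := by
  obtain ⟨P, C, hPC, -, hC, -, hPm⟩ := hg
  ext u
  have hu : u ∈ P ⊔ C := by rw [hPC.sup_eq_top]; trivial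
  obtain ⟨p, hp, c, hc, rfl⟩ := Submodule.mem_sup.mp hu
  have hYc : (X ^ 2 ^ k) c = c := G2LF1.pow_apply_of_apply_eq X (hC c hc) _
  have e : X ^ 2 ^ (k + 1) = X ^ 2 ^ k * X ^ 2 ^ k := by
    rw [← pow_add, ← two_mul, ← pow_succ']
  rw [e, Module.End.mul_apply, map_add, hPm p hp, hYc, map_add, map_neg, hPm p hp, hYc, neg_neg]
  rfl

/-- **Lemma S** (S3801, package FS). -/
theorem lemmaS (h2 : (2 : K') ≠ 0) (L : Type u) [Group L] [Finite L] (U' : Type v)
    [AddCommGroup U'] [Module K' U'] [FiniteDimensional K' U'] (σ : Representation K' L U')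
    (hσ : Function.Injective σ) (hL : Group.IsSolvable L) (g : L) (k : ℕ) (hk : 1 ≤ k)
    (hg : PlaneType (σ g) (2 ^ k)) : g ^ 2 ^ k ∈ pPrimePCore 2 L := by
  by_contra ht
  haveI : Fact (Nat.Prime 2) := ⟨Nat.prime_two⟩
  have hgo : g ^ 2 ^ (k + 1) = 1 := by
    apply hσ
    rw [map_pow, map_one]
    exact pow_eq_one_of_planeType (σ g) k hg
  have hgp : IsPGroup 2 (Subgroup.zpowers g) := by
    rintro ⟨x, hx⟩
    obtain ⟨z, rfl⟩ := Subgroup.mem_zpowers_iff.mp hx
    refine ⟨k + 1, Subtype.ext ?_⟩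
    rw [Subgroup.coe_pow, Subgroup.coe_mk, Subgroup.coe_one, ← zpow_natCast, ← zpow_mul, mul_comm,
      zpow_mul, zpow_natCast, hgo, one_zpow]
  obtain ⟨Q, hQ⟩ := hgp.exists_le_sylow
  have hgQ : g ∈ (Q : Subgroup L) := hQ (Subgroup.mem_zpowers g)
  have hT₀2 : IsPGroup 2 ((Q : Subgroup L) ⊓ pPrimePCore 2 L : Subgroup L) :=
    Q.isPGroup'.to_le inf_le_left
  have hT₀ := pPrimeCore_sup_sylow_inf 2 Q
  apply Cfsg.Agent.Lib.Helper8.G2LF3.not_comm_comm_trivial L hL g (k + 1) (by omega) hgo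
    (by simpa using ht) _ hT₀2 hT₀
  -- work inside the Sylow subgroup `Q`
  haveI hMn : (pPrimePCore 2 L).Normal := pPrimePCore_normal' 2
  haveI hTn : ((pPrimePCore 2 L).subgroupOf (Q : Subgroup L)).Normal := hMn.subgroupOf _
  let σ' : Representation K' (Q : Subgroup L) U' := σ.comp (Q : Subgroup L).subtype
  have hσ' : Function.Injective σ' := by
    intro a b e
    exact Subtype.ext (hσ e)
  have heven : Even (2 ^ k) := by
    obtain ⟨j, rfl⟩ : ∃ j, k = j + 1 := ⟨k - 1, by omega⟩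
    rw [pow_succ']; exact even_two_mul _
  have key := Cfsg.Agent.Lib.Helper4.G2LF2.comm_comm_eq_one 2 (Q : Subgroup L) Q.isPGroup'
    ((pPrimePCore 2 L).subgroupOf (Q : Subgroup L)) ⟨g, hgQ⟩ (by
      intro A hAn hAT hAc
      rcases G2LF1.lemmaW h2 (Q : Subgroup L) U' σ' hσ' ⟨g, hgQ⟩ (2 ^ k) heven hg A
        (Q.isPGroup'.to_subgroup A) hAc (fun a ha => hAn.conj_mem a ha _) with h | h
      · exact h
      · exfalso
        apply ht
        have := hAT h
        rw [Subgroup.mem_subgroupOf] at this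
        simpa using this)
  intro τ hτ
  have h1 := key ⟨τ, hτ.1⟩ (by rw [Subgroup.mem_subgroupOf]; exact hτ.2)
  have h3 := congrArg Subtype.val h1
  simpa [cm] using h3

end main

end Cfsg.Agent.Lib.Helper4.G2LFS
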