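import Mathlib
import Cfsg.Agent.Lib.Helper4.PPDefs
import Cfsg.Agent.Lib.Helper4.HH13
import Cfsg.Agent.Lib.Helper9.PPMN

set_option autoImplicit false
set_option linter.unusedVariables false
set_option linter.unusedSectionVars false
set_option linter.style.haveILetI false

/-! M-E: the exceptional (Fermat) configuration is incompatible with a fixed-point-free action on
the centre. -/

namespace Cfsg.Agent.Lib.Helper4.PPE

open Module Cfsg.Agent.Lib.Helper4.FM Cfsg.Agent.Lib.Helper4.HH Cfsg.Agent.Lib.Helper4.PP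
  Cfsg.Agent.Lib.Lead

open Cfsg.Agent.Lib.Helper9.PPMN (lte_bound index_modEq_one_of_semiregular)

open scoped commutatorElement

universe u

section chars

variable {K : Type*} [Field K] {G : Type*} [Group G] {W : Type*} [AddCommGroup W] [Module K W]
  (σ : Representation K G W) (Z : Subgroup G)

theorem wt_char_mul (χ : Z → K) (hY : wt σ Z χ ≠ ⊥) (z z' : Z) : χ (z * z') = χ z * χ z' := by
  obtain ⟨y₀, hy₀, hy₀0⟩ := Submodule.exists_mem_ne_zero_of_ne_bot hY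
  have hχ : ∀ z : Z, σ (z : G) y₀ = χ z • y₀ := (mem_wt σ Z χ y₀).1 hy₀
  have h1 : σ ((z * z' : Z) : G) y₀ = χ (z * z') • y₀ := hχ _
  rw [Subgroup.coe_mul, rho_mul_apply, hχ z', map_smul, hχ z, smul_smul] at h1
  have h2 : (χ z' * χ z - χ (z * z')) • y₀ = 0 := by rw [sub_smul, h1, sub_self]
  rcases smul_eq_zero.1 h2 with h | h
  · rw [mul_comm]
    exact (sub_eq_zero.1 h).symm
  · exact absurd h hy₀0

theorem wt_char_one (χ : Z → K) (hY : wt σ Z χ ≠ ⊥) : χ 1 = 1 := by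
  obtain ⟨y₀, hy₀, hy₀0⟩ := Submodule.exists_mem_ne_zero_of_ne_bot hY
  have hχ : ∀ z : Z, σ (z : G) y₀ = χ z • y₀ := (mem_wt σ Z χ y₀).1 hy₀
  have h1 := hχ 1
  rw [Subgroup.coe_one, map_one, Module.End.one_apply] at h1
  have h2 : (χ 1 - 1) • y₀ = 0 := by rw [sub_smul, one_smul, ← h1, sub_self]
  rcases smul_eq_zero.1 h2 with h | h
  · exact sub_eq_zero.1 h
  · exact absurd h hy₀0

theorem wt_char_ne_zero (χ : Z → K) (hY : wt σ Z χ ≠ ⊥) (z : Z) : χ z ≠ 0 := by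
  intro h0
  have h1 := wt_char_mul σ Z χ hY z z⁻¹
  rw [mul_inv_cancel, wt_char_one σ Z χ hY, h0, zero_mul] at h1
  exact one_ne_zero h1

end chars

section main

variable {K : Type*} [Field K] [IsAlgClosed K] {G : Type u} [Group G] [Finite G] {W : Type*}
  [AddCommGroup W] [Module K W] [FiniteDimensional K W] (σ : Representation K G W)
  (Q : Subgroup G) [hQn : Q.Normal]

/-- weight spaces of a subgroup central in `Q` are `Q`-stable. -/
theorem wt_stable_of_central (Z : Subgroup G) (hZQ : Z ≤ Q)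
    (hZc : ∀ z ∈ Z, ∀ m ∈ Q, m * z = z * m) (χ : Z → K) :
    ∀ m ∈ Q, wt σ Z χ ≤ (wt σ Z χ).comap (σ m) := by
  intro m hm v hv
  rw [Submodule.mem_comap, mem_wt]
  intro z
  rw [← rho_mul_apply, ← hZc z z.2 m hm, rho_mul_apply, (mem_wt σ Z χ v).1 hv z, map_smul]

/-- membership in the relative commuting kernel of a non-zero weight space, through the character. -/
theorem mem_zkerOn_wt_iff (Z : Subgroup G) (hZQ : Z ≤ Q)
    (hZc : ∀ z ∈ Z, ∀ m ∈ Q, m * z = z * m)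
    (hder : ∀ u ∈ Q, ∀ v ∈ Q, ⁅u, v⁆ ∈ Z) (χ : Z → K) (hY : wt σ Z χ ≠ ⊥) (m : G) (hm : m ∈ Q) :
    m ∈ zkerOn σ Q (wt σ Z χ) (wt_stable_of_central σ Q Z hZQ hZc χ) ↔
      ∀ u (hu : u ∈ Q), χ ⟨⁅u, m⁆, hder u hu m hm⟩ = 1 := by
  have hstab := wt_stable_of_central σ Q Z hZQ hZc χ
  have hkey : ∀ u (hu : u ∈ Q), ∀ y ∈ wt σ Z χ,
      σ (u * m) y = χ ⟨⁅u, m⁆, hder u hu m hm⟩ • σ (m * u) y := by
    intro u hu y hy
    have hy' : σ (m * u) y ∈ wt σ Z χ := hstab _ (Q.mul_mem hm hu) hy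
    have h1 := (mem_wt σ Z χ _).1 hy' ⟨⁅u, m⁆, hder u hu m hm⟩
    rw [← h1, ← rho_mul_apply]
    congr 2
    show u * m = ⁅u, m⁆ * (m * u)
    rw [commutatorElement_def]
    group
  constructor
  · intro h u hu
    obtain ⟨y₀, hy₀, hy₀0⟩ := Submodule.exists_mem_ne_zero_of_ne_bot hY
    have h1 := h.2 u hu y₀ hy₀
    rw [hkey u hu y₀ hy₀] at h1
    have h2 : (χ ⟨⁅u, m⁆, hder u hu m hm⟩ - 1) • σ (m * u) y₀ = 0 := by
      rw [sub_smul, one_smul, h1, sub_self]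
    rcases smul_eq_zero.1 h2 with h3 | h3
    · exact sub_eq_zero.1 h3
    · exfalso
      apply hy₀0
      have : σ (m * u)⁻¹ (σ (m * u) y₀) = 0 := by rw [h3, map_zero]
      rwa [rho_inv_cancel'] at this
  · intro h
    refine ⟨hm, fun u hu y hy => ?_⟩
    rw [hkey u hu y hy, h u hu, one_smul]

/-- conjugation moves the relative commuting kernels. -/
theorem conj_mem_zkerOn (Y Y' : Submodule K W) (hYQ : ∀ m ∈ Q, Y ≤ Y.comap (σ m))
    (hYQ' : ∀ m ∈ Q, Y' ≤ Y'.comap (σ m)) (g : G) (hg : ∀ y' ∈ Y', σ g⁻¹ y' ∈ Y)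
    (m : G) (hm : m ∈ zkerOn σ Q Y hYQ) : g * m * g⁻¹ ∈ zkerOn σ Q Y' hYQ' := by
  refine ⟨hQn.conj_mem m hm.1 g, fun u hu y' hy' => ?_⟩
  have hu' : g⁻¹ * u * g ∈ Q := by
    have := hQn.conj_mem u hu g⁻¹
    rwa [inv_inv] at this
  have h1 := hm.2 _ hu' _ (hg y' hy')
  have e1 : u * (g * m * g⁻¹) = g * ((g⁻¹ * u * g) * m) * g⁻¹ := by group
  have e2 : g * m * g⁻¹ * u = g * (m * (g⁻¹ * u * g)) * g⁻¹ := by group
  rw [e1, e2, rho_mul_apply, rho_mul_apply, h1, ← rho_mul_apply, ← rho_mul_apply]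

theorem pp_kill (hQ2 : IsPGroup 2 Q)
    (Z : Subgroup G) [hZn : Z.Normal] (hZQ : Z ≤ Q)
    (hZc : ∀ z ∈ Z, ∀ m ∈ Q, m * z = z * m)
    (hder : ∀ u ∈ Q, ∀ v ∈ Q, ⁅u, v⁆ ∈ Z)
    (x : G) (p n : ℕ) (hp : p.Prime) (hp2 : p ≠ 2) (hord : orderOf x = p ^ (n + 1))
    (hZfpf : ∀ z ∈ Z, x * z = z * x → z = 1)
    (hminZ : ∀ P : Subgroup G, P ≤ Q → (∀ m ∈ P, x * m * x⁻¹ ∈ P) → P ≠ Q → P ≤ Z)
    (hsemi : ∀ e ∈ Subgroup.zpowers x, e ≠ 1 → ∀ m ∈ Q, m⁻¹ * e⁻¹ * m * e ∈ Z → m ∈ Z)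
    (χ : Z → K) (hY : wt σ Z χ ≠ ⊥)
    (s : ℕ) (hs : 0 < s) (hstab : conjWt Z (x ^ s) χ = χ)
    (hmins : ∀ i, 0 < i → i < s → conjWt Z (x ^ i) χ ≠ χ)
    (j : ℕ) (hj : orderOf (x ^ s) = 2 ^ j + 1)
    (hidx : ∀ i < s, ((zkerOn σ Q (wt σ Z (conjWt Z (x ^ i) χ))
      (wt_stable_of_central σ Q Z hZQ hZc _)).subgroupOf Q).index ≤ 2 ^ (2 * j))
    (hne : ¬ Q ≤ zkerOn σ Q (wt σ Z χ) (wt_stable_of_central σ Q Z hZQ hZc χ)) : False := by
  classical
  haveI : Fact (Nat.Prime 2) := ⟨Nat.prime_two⟩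
  -- notation
  set χi : ℕ → Z → K := fun i => conjWt Z (x ^ i) χ with hχi
  have hχ0 : χi 0 = χ := by
    show conjWt Z (x ^ 0) χ = χ
    rw [pow_zero, conjWt_one]
  have hχs : χi s = χ := hstab
  have hYi : ∀ i, wt σ Z (χi i) ≠ ⊥ := fun i => wt_ne_bot_conj σ Z (x ^ i) χ hY
  have hχsucc : ∀ i, conjWt Z x (χi i) = χi (i + 1) := by
    intro i
    show conjWt Z x (conjWt Z (x ^ i) χ) = conjWt Z (x ^ (i + 1)) χ
    rw [← conjWt_mul, ← pow_succ']
  let T : ℕ → Subgroup G := fun i =>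
    zkerOn σ Q (wt σ Z (χi i)) (wt_stable_of_central σ Q Z hZQ hZc _)
  have hT0 : T 0 = zkerOn σ Q (wt σ Z χ) (wt_stable_of_central σ Q Z hZQ hZc χ) := by
    show zkerOn σ Q (wt σ Z (χi 0)) _ = _
    congr 2
  have hTs : T s = T 0 := by
    show zkerOn σ Q (wt σ Z (χi s)) _ = zkerOn σ Q (wt σ Z (χi 0)) _
    congr 2
    rw [hχs, hχ0]
  have hTQ : ∀ i, T i ≤ Q := fun i => zkerOn_le σ Q _ _
  -- Step A: the product of the characters of the orbit is trivial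
  have hxZ : ∀ z ∈ Z, x⁻¹ * z * x ∈ Z := by
    intro z hz
    have := hZn.conj_mem z hz x⁻¹
    rwa [inv_inv] at this
  let ψ : Z → K := fun z => ∏ i ∈ Finset.range s, χi i z
  have hψmul : ∀ z z' : Z, ψ (z * z') = ψ z * ψ z' := by
    intro z z'
    show ∏ i ∈ Finset.range s, χi i (z * z') = _
    rw [← Finset.prod_mul_distrib]
    exact Finset.prod_congr rfl (fun i _ => wt_char_mul σ Z (χi i) (hYi i) z z')
  have hψone : ψ 1 = 1 := Finset.prod_eq_one (fun i _ => wt_char_one σ Z (χi i) (hYi i))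
  have hψinv : ∀ z : Z, ψ z⁻¹ * ψ z = 1 := by
    intro z
    rw [← hψmul, inv_mul_cancel, hψone]
  have hψx : ∀ (z : G) (hz : z ∈ Z), ψ ⟨x⁻¹ * z * x, hxZ z hz⟩ = ψ ⟨z, hz⟩ := by
    intro z hz
    have h1 : ∀ i, χi i ⟨x⁻¹ * z * x, hxZ z hz⟩ = χi (i + 1) ⟨z, hz⟩ := by
      intro i
      rw [← hχsucc i]
      rfl
    show ∏ i ∈ Finset.range s, χi i ⟨x⁻¹ * z * x, hxZ z hz⟩ = ∏ i ∈ Finset.range s, χi i ⟨z, hz⟩
    rw [Finset.prod_congr rfl (fun i _ => h1 i)]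
    have h2 := Finset.prod_range_succ' (fun i => χi i ⟨z, hz⟩) s
    have h3 := Finset.prod_range_succ (fun i => χi i ⟨z, hz⟩) s
    rw [h2] at h3
    have h4 : χi s ⟨z, hz⟩ = χi 0 ⟨z, hz⟩ := by rw [hχs, hχ0]
    rw [h4] at h3
    exact mul_right_cancel₀ (wt_char_ne_zero σ Z (χi 0) (hYi 0) ⟨z, hz⟩) h3
  obtain ⟨N, hN⟩ := IsPGroup.iff_card.1 hQ2
  have hp2' : Nat.Coprime p 2 := (Nat.coprime_primes hp Nat.prime_two).2 hp2
  have hψtriv : ∀ (z : G) (hz : z ∈ Z), ψ ⟨z, hz⟩ = 1 := by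
    let S : Subgroup G :=
      { carrier := {g | ∃ h : g ∈ Z, ψ ⟨g, h⟩ = 1}
        one_mem' := ⟨Z.one_mem, hψone⟩
        mul_mem' := by
          rintro a b ⟨ha, ha'⟩ ⟨hb, hb'⟩
          refine ⟨Z.mul_mem ha hb, ?_⟩
          have := hψmul ⟨a, ha⟩ ⟨b, hb⟩
          rw [ha', hb', mul_one] at this
          exact this
        inv_mem' := by
          rintro a ⟨ha, ha'⟩
          refine ⟨Z.inv_mem ha, ?_⟩
          have := hψinv ⟨a, ha⟩
          rw [ha', mul_one] at this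
          exact this }
    have hcop : (Nat.card (Subgroup.zpowers x)).Coprime (Nat.card Z) := by
      rw [Nat.card_zpowers, hord]
      have hdvd : Nat.card Z ∣ 2 ^ N := by
        rw [← hN]
        exact Subgroup.card_dvd_of_le hZQ
      exact Nat.Coprime.coprime_dvd_right hdvd (Nat.Coprime.pow _ _ hp2')
    have hsolvZ : Group.IsSolvable Z := by
      haveI : Group.IsSolvable Q := min_solvable Q 2 Nat.prime_two hQ2
      exact isSolvable_of_le hZQ
    have hgenZ := gen_of_coprime Z x (by rw [Subgroup.normalizer_eq_top]; exact le_top) hcop hsolvZ ⊥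
      (by
        intro m hm
        rw [Subgroup.mem_bot]
        exact hZfpf m hm.1 ((mem_centralizer_zpowers_iff m x).1 hm.2))
    have hZS : Z ≤ S := by
      apply hgenZ S _ bot_le
      intro m hm
      have hmem : m⁻¹ * x⁻¹ * m * x ∈ Z := by
        have e : m⁻¹ * x⁻¹ * m * x = m⁻¹ * (x⁻¹ * m * x) := by group
        rw [e]
        exact Z.mul_mem (Z.inv_mem hm) (hxZ m hm)
      refine ⟨hmem, ?_⟩
      have e : (⟨m⁻¹ * x⁻¹ * m * x, hmem⟩ : Z) = (⟨m, hm⟩ : Z)⁻¹ * ⟨x⁻¹ * m * x, hxZ m hm⟩ := by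
        apply Subtype.ext
        show m⁻¹ * x⁻¹ * m * x = m⁻¹ * (x⁻¹ * m * x)
        group
      rw [e, hψmul, hψx m hm, hψinv]
    intro z hz
    obtain ⟨_, h⟩ := hZS hz
    exact h
  -- Step B
  have hB : ∀ m ∈ Q, (∀ i, 0 < i → i < s → m ∈ T i) → m ∈ T 0 := by
    intro m hm hall
    rw [show T 0 = zkerOn σ Q (wt σ Z (χi 0)) (wt_stable_of_central σ Q Z hZQ hZc _) from rfl,
      mem_zkerOn_wt_iff σ Q Z hZQ hZc hder (χi 0) (hYi 0) m hm]
    intro u hu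
    have h1 := hψtriv _ (hder u hu m hm)
    have h2 : ∀ i, 0 < i → i < s → χi i ⟨⁅u, m⁆, hder u hu m hm⟩ = 1 := by
      intro i hi his
      exact (mem_zkerOn_wt_iff σ Q Z hZQ hZc hder (χi i) (hYi i) m hm).1 (hall i hi his) u hu
    obtain ⟨s', rfl⟩ : ∃ s', s = s' + 1 := ⟨s - 1, by omega⟩
    have h3 : ∏ i ∈ Finset.range (s' + 1), χi i ⟨⁅u, m⁆, hder u hu m hm⟩ = 1 := h1
    rw [Finset.prod_range_succ', Finset.prod_eq_one (fun i hi => h2 (i + 1) (Nat.succ_pos i)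
      (by have := Finset.mem_range.1 hi; omega)), one_mul] at h3
    exact h3
  -- Step C: the intersection is invariant
  have hconj : ∀ i, ∀ m ∈ T i, x * m * x⁻¹ ∈ T (i + 1) := by
    intro i m hm
    apply conj_mem_zkerOn σ Q (wt σ Z (χi i)) (wt σ Z (χi (i + 1))) _ _ x _ m hm
    intro y' hy'
    have h1 := map_mem_wt σ Z x⁻¹ _ y' hy'
    rw [← hχsucc i, ← conjWt_mul, inv_mul_cancel, conjWt_one] at h1
    exact h1
  let Tinf : Subgroup G := Q ⊓ ⨅ i : Fin s, T i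
  have hTinfQ : Tinf ≤ Q := inf_le_left
  have hmemTinf : ∀ m, m ∈ Tinf ↔ m ∈ Q ∧ ∀ i, i < s → m ∈ T i := by
    intro m
    show m ∈ Q ⊓ ⨅ i : Fin s, T i ↔ _
    rw [Subgroup.mem_inf, Subgroup.mem_iInf]
    constructor
    · rintro ⟨h1, h2⟩
      exact ⟨h1, fun i hi => h2 ⟨i, hi⟩⟩
    · rintro ⟨h1, h2⟩
      exact ⟨h1, fun i => h2 i i.2⟩
  have hTinfx : ∀ m ∈ Tinf, x * m * x⁻¹ ∈ Tinf := by
    intro m hm
    rw [hmemTinf] at hm ⊢
    refine ⟨hQn.conj_mem m hm.1 x, fun i hi => ?_⟩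
    rcases Nat.eq_zero_or_pos i with rfl | hipos
    · have := hconj (s - 1) m (hm.2 (s - 1) (by omega))
      rw [show s - 1 + 1 = s by omega, hTs] at this
      exact this
    · have := hconj (i - 1) m (hm.2 (i - 1) (by omega))
      rwa [show i - 1 + 1 = i by omega] at this
  have hTinfne : Tinf ≠ Q := by
    intro h
    apply hne
    rw [← hT0]
    intro m hm
    have : m ∈ Tinf := by rw [h]; exact hm
    exact ((hmemTinf m).1 this).2 0 hs
  have hTinfZ : Tinf ≤ Z := hminZ Tinf hTinfQ hTinfx hTinfne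
  -- the intersection over `i ≥ 1`
  have hinterZ : ∀ m ∈ Q, (∀ i, 0 < i → i < s → m ∈ T i) → m ∈ Z := by
    intro m hm hall
    apply hTinfZ
    rw [hmemTinf]
    refine ⟨hm, fun i hi => ?_⟩
    rcases Nat.eq_zero_or_pos i with rfl | hipos
    · exact hB m hm hall
    · exact hall i hipos hi
  -- Step D: counting
  have hZT0 : Z ≤ T 0 := by
    intro z hz
    refine ⟨hZQ hz, fun u hu y hy => ?_⟩
    rw [hZc z hz u hu]
  have hZneQ : ¬ Q ≤ Z := fun h => hne (by rw [← hT0]; exact h.trans hZT0)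
  have hidx' : ∀ i, i < s → ((T i).subgroupOf Q).index ≤ 2 ^ (2 * j) := fun i hi => hidx i hi
  have hle1 : (⨅ i : Fin (s - 1), (T (i + 1)).subgroupOf Q) ≤ Z.subgroupOf Q := by
    intro m hm
    rw [Subgroup.mem_iInf] at hm
    rw [Subgroup.mem_subgroupOf]
    apply hinterZ m m.2
    intro i hi his
    have := hm ⟨i - 1, by omega⟩
    rw [Subgroup.mem_subgroupOf] at this
    simpa [show i - 1 + 1 = i by omega] using this
  have hfinidx : (⨅ i : Fin (s - 1), (T (i + 1)).subgroupOf Q).index ≠ 0 :=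
    Subgroup.index_ne_zero_of_finite
  have hle2 : (Z.subgroupOf Q).index ≤ (2 ^ (2 * j)) ^ (s - 1) := by
    calc (Z.subgroupOf Q).index ≤ (⨅ i : Fin (s - 1), (T (i + 1)).subgroupOf Q).index :=
          Nat.le_of_dvd (Nat.pos_of_ne_zero hfinidx) (Subgroup.index_dvd_of_le hle1)
      _ ≤ ∏ i : Fin (s - 1), ((T (i + 1)).subgroupOf Q).index := Subgroup.index_iInf_le _
      _ ≤ ∏ _i : Fin (s - 1), 2 ^ (2 * j) :=
          Finset.prod_le_prod' (fun i _ => hidx' (i + 1) (by have := i.2; omega))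
      _ = (2 ^ (2 * j)) ^ (s - 1) := by simp
  -- the index of `Z` is a power of two
  have hdvdQ : (Z.subgroupOf Q).index ∣ 2 ^ N := by
    rw [← hN]
    exact Subgroup.index_dvd_card _
  obtain ⟨e, -, he⟩ := (Nat.dvd_prime_pow Nat.prime_two).1 hdvdQ
  have he0 : 0 < e := by
    rcases Nat.eq_zero_or_pos e with rfl | h
    · exfalso
      apply hZneQ
      rw [pow_zero, Subgroup.index_eq_one, Subgroup.subgroupOf_eq_top] at he
      exact he
    · exact h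
  have hmod := index_modEq_one_of_semiregular Q Z hZQ (fun m _ t ht => hZn.conj_mem t ht m) x
    (fun m hm => hQn.conj_mem m hm x) (fun t ht => hZn.conj_mem t ht x) hsemi
  rw [he, hord] at hmod
  have hdvd : p ^ (n + 1) ∣ 2 ^ e - 1 :=
    (Nat.modEq_iff_dvd' Nat.one_le_two_pow).1 hmod.symm
  -- `s` divides the order of `x`
  have hsdvd : s ∣ p ^ (n + 1) := by
    set g := Nat.gcd (p ^ (n + 1)) s with hg
    have hgpos : 0 < g := Nat.gcd_pos_of_pos_right _ hs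
    have hgs : g ∣ s := Nat.gcd_dvd_right _ _
    have hstabg : conjWt Z (x ^ g) χ = χ := by
      have hmem : x ^ g ∈ Subgroup.zpowers (x ^ s) := by
        have hb := Nat.gcd_eq_gcd_ab (p ^ (n + 1)) s
        rw [Subgroup.mem_zpowers_iff]
        refine ⟨Nat.gcdB (p ^ (n + 1)) s, ?_⟩
        have h1 : x ^ ((g : ℕ) : ℤ) = (x ^ ((p ^ (n + 1) : ℕ) : ℤ)) ^ Nat.gcdA (p ^ (n + 1)) s *
            (x ^ ((s : ℕ) : ℤ)) ^ Nat.gcdB (p ^ (n + 1)) s := by
          rw [← zpow_mul, ← zpow_mul, ← zpow_add, ← hb]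
        have hxord : x ^ (p ^ (n + 1)) = 1 := by rw [← hord]; exact pow_orderOf_eq_one x
        rw [zpow_natCast, zpow_natCast, zpow_natCast, hxord, one_zpow, one_mul] at h1
        exact h1.symm
      have hsub : Subgroup.zpowers (x ^ s) ≤ wstab Z χ := by
        rw [Subgroup.zpowers_le]
        exact hstab
      exact hsub hmem
    have hge : s ≤ g := by
      by_contra hlt
      push Not at hlt
      exact hmins g hgpos hlt hstabg
    have hgeq : g = s := le_antisymm (Nat.le_of_dvd hs hgs) hge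
    rw [← hgeq]
    exact Nat.gcd_dvd_left _ _
  obtain ⟨b, hb, hsb⟩ := (Nat.dvd_prime_pow hp).1 hsdvd
  have hordy : 2 ^ j + 1 = p ^ (n + 1 - b) := by
    rw [← hj, orderOf_pow' x hs.ne', hord, Nat.gcd_eq_right hsdvd, hsb,
      Nat.pow_div hb hp.pos]
  have hdvd' : p ^ ((n + 1 - b) + b) ∣ 2 ^ e - 1 := by
    rw [Nat.sub_add_cancel hb]
    exact hdvd
  have hlte := lte_bound p (n + 1 - b) b j e hp hp2 hordy.symm he0 hdvd'
  rw [← hsb] at hlte
  -- upper bound for `e`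
  have hup : e ≤ 2 * j * (s - 1) := by
    rw [he, ← pow_mul] at hle2
    exact (Nat.pow_le_pow_iff_right (le_refl 2)).1 hle2
  have hj0 : j = 0 := by
    by_contra hj0
    have hjpos : 0 < j := Nat.pos_of_ne_zero hj0
    have h1 : 2 * j * s ≤ 2 * j * (s - 1) := le_trans hlte hup
    have h2 : s ≤ s - 1 := Nat.le_of_mul_le_mul_left h1 (by omega)
    omega
  rw [hj0, pow_zero] at hordy
  have hpdvd : p ∣ 2 := by
    have hab : n + 1 - b ≠ 0 := by
      intro h0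
      rw [h0, pow_zero] at hordy
      omega
    rw [show (2 : ℕ) = 1 + 1 from rfl, hordy]
    exact dvd_pow_self p hab
  exact hp2 ((Nat.prime_dvd_prime_iff_eq hp Nat.prime_two).1 hpdvd)

end main

end Cfsg.Agent.Lib.Helper4.PPE
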