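import Mathlib
import Cfsg.Agent.Lib.Helper4.PPE
import Cfsg.Agent.Lib.Helper9.PPMA
import Cfsg.Agent.Lib.Helper6.PPMB

set_option autoImplicit false
set_option linter.unusedVariables false
set_option linter.unusedSectionVars false
set_option linter.style.haveILetI false

/-! M-D1: the per-weight step of the prime-power Hall–Higman argument. -/

namespace Cfsg.Agent.Lib.Helper4.PPD

open Module Cfsg.Agent.Lib.Helper4.FM Cfsg.Agent.Lib.Helper4.HH Cfsg.Agent.Lib.Helper4.PP
  Cfsg.Agent.Lib.Lead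

open Cfsg.Agent.Lib.Helper9.PPMN (fermat_arith_pp index_modEq_one_of_semiregular)
open Cfsg.Agent.Lib.Helper4.PPE (wt_char_mul wt_char_one wt_char_ne_zero)
open Cfsg.Agent.Lib.Helper9.PPMA (core_bound_pp)
open Cfsg.Agent.Lib.Helper6.PPMB (ab_comm_trivial_pp)

open scoped commutatorElement

universe u

section semi

variable {G : Type u} [Group G] [Finite G]

/-- an element acting coprimely whose fixed points in `Q` lie in `T` fixes no coset outside `T`. -/
theorem mem_of_comm_mem (Q T : Subgroup G) [hQn : Q.Normal] [hTn : T.Normal] (hTQ : T ≤ Q)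
    (e : G) (hcop : (Nat.card (Subgroup.zpowers e)).Coprime (Nat.card Q))
    (hsolv : Group.IsSolvable Q)
    (hC : ∀ c ∈ Q, e * c = c * e → c ∈ T) :
    ∀ m ∈ Q, m⁻¹ * e⁻¹ * m * e ∈ T → m ∈ T := by
  intro m hm hme
  let S : Subgroup G :=
    { carrier := {a | a * m * a⁻¹ * m⁻¹ ∈ T}
      one_mem' := by
        show (1 : G) * m * (1 : G)⁻¹ * m⁻¹ ∈ T
        simp [T.one_mem]
      mul_mem' := by
        intro a b ha hb
        show (a * b) * m * (a * b)⁻¹ * m⁻¹ ∈ T
        have e1 : (a * b) * m * (a * b)⁻¹ * m⁻¹ =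
            (a * (b * m * b⁻¹ * m⁻¹) * a⁻¹) * (a * m * a⁻¹ * m⁻¹) := by group
        rw [e1]
        exact T.mul_mem (hTn.conj_mem _ hb a) ha
      inv_mem' := by
        intro a ha
        show a⁻¹ * m * a⁻¹⁻¹ * m⁻¹ ∈ T
        have e1 : a⁻¹ * m * a⁻¹⁻¹ * m⁻¹ = a⁻¹ * (a * m * a⁻¹ * m⁻¹)⁻¹ * a⁻¹⁻¹ := by group
        rw [e1]
        exact hTn.conj_mem _ (T.inv_mem ha) a⁻¹ }
  have heS : e⁻¹ ∈ S := by
    show e⁻¹ * m * e⁻¹⁻¹ * m⁻¹ ∈ T
    have e1 : e⁻¹ * m * e⁻¹⁻¹ * m⁻¹ = m * (m⁻¹ * e⁻¹ * m * e) * m⁻¹ := by group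
    rw [e1]
    exact hTn.conj_mem _ hme m
  have hzS : Subgroup.zpowers e ≤ S := by
    rw [Subgroup.zpowers_le]
    have := S.inv_mem heS
    rwa [inv_inv] at this
  obtain ⟨c, hc, hmc⟩ := coprime_fixed_coset (Subgroup.zpowers e) Q
    (by rw [Subgroup.normalizer_eq_top]; exact le_top) hcop (Or.inr hsolv) T hTQ
    (by rw [Subgroup.normalizer_eq_top]; exact le_top)
    (by rw [Subgroup.normalizer_eq_top]; exact le_top) m hm (fun a ha => hzS ha)
  have hcT : c ∈ T := hC c hc.1 ((mem_centralizer_zpowers_iff c e).1 hc.2)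
  have e1 : m = c * (m⁻¹ * c)⁻¹ := by group
  rw [e1]
  exact T.mul_mem hcT (T.inv_mem hmc)

end semi

section main

variable {K : Type*} [Field K] [IsAlgClosed K] {G : Type u} [Group G] [Finite G] {W : Type*}
  [AddCommGroup W] [Module K W] [FiniteDimensional K W] (σ : Representation K G W)
  (Q : Subgroup G) [hQn : Q.Normal]

theorem pp_weight (q : ℕ) (hq : q.Prime) (hQ : IsPGroup q Q) (hqK : (q : K) ≠ 0)
    (Z : Subgroup G) (hZQ : Z ≤ Q)
    (hZc : ∀ z ∈ Z, ∀ m ∈ Q, m * z = z * m)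
    (hder : ∀ u ∈ Q, ∀ v ∈ Q, ⁅u, v⁆ ∈ Z) (hpow : ∀ m ∈ Q, m ^ q ∈ Z)
    (y τ : G) (p a : ℕ) (hp : p.Prime) (hp2 : p ≠ 2) (hqp : q ≠ p) (hy : orderOf y = p ^ a)
    (hpK : (p : K) ≠ 0)
    (hcyc : ∀ e ∈ Subgroup.zpowers y, e ≠ 1 → τ ∈ Subgroup.zpowers e)
    (hτy : τ ∈ Subgroup.zpowers y)
    (hZτ : ∀ m ∈ Q, τ * m = m * τ → m ∈ Z)
    (Hgenτ : ∀ S : Subgroup G, (∀ m ∈ Q, m⁻¹ * τ⁻¹ * m * τ ∈ S) → Q ≤ S)
    (Y : Submodule K W) (hYinv : ∀ g, Y ≤ Y.comap (σ g)) (hY : Y ≠ ⊥)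
    (hZs : ∀ z ∈ Z, ∃ c : K, ∀ v ∈ Y, σ z v = c • v)
    (H4 : ∀ v ∈ Y, σ y v = v → v = 0) :
    (∀ m ∈ Q, ∀ v ∈ Y, σ m v = v) ∨
    (q = 2 ∧ ∃ j : ℕ, p ^ a = 2 ^ j + 1 ∧
      ((zker (σ.subrepresentation Y hYinv) Q).subgroupOf Q).index = 2 ^ (2 * j)) := by
  classical
  haveI : Fact q.Prime := ⟨hq⟩
  set ρ : Representation K G Y := σ.subrepresentation Y hYinv with hρ
  have hρval : ∀ (g : G) (w : Y), ((ρ g w : Y) : W) = σ g (w : W) := fun g w => rfl
  haveI : Nontrivial Y := (Submodule.nontrivial_iff_ne_bot).2 hY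
  obtain ⟨N, hN⟩ := IsPGroup.iff_card.1 hQ
  have hQK : (Nat.card Q : K) ≠ 0 := by
    rw [hN, Nat.cast_pow]
    exact pow_ne_zero N hqK
  have hfin : IsOfFinOrder y := isOfFinOrder_of_finite y
  have H4' : ∀ w : Y, ρ y w = w → w = 0 := by
    intro w hw
    apply Subtype.ext
    apply H4 w w.2
    have := congrArg Subtype.val hw
    rwa [hρval] at this
  have H4inv : inv ρ (Subgroup.zpowers y) = ⊥ := by
    rw [Submodule.eq_bot_iff]
    intro w hw
    exact H4' w (hw y (Subgroup.mem_zpowers y))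
  have hsolvQ : Group.IsSolvable Q := min_solvable Q q hq hQ
  have hcoppq : Nat.Coprime p q := (Nat.coprime_primes hp hq).2 (Ne.symm hqp)
  have hcop : ∀ e ∈ Subgroup.zpowers y, ∀ T : Subgroup G, T ≤ Q →
      (Nat.card (Subgroup.zpowers e)).Coprime (Nat.card T) := by
    intro e he T hTQ
    have h1 : Nat.card (Subgroup.zpowers e) ∣ p ^ a := by
      rw [← hy, ← Nat.card_zpowers y]
      exact Subgroup.card_dvd_of_le ((Subgroup.zpowers_le).2 he)
    have h2 : Nat.card T ∣ q ^ N := by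
      rw [← hN]
      exact Subgroup.card_dvd_of_le hTQ
    exact Nat.Coprime.coprime_dvd_left h1 (Nat.Coprime.coprime_dvd_right h2
      (Nat.Coprime.pow _ _ hcoppq))
  -- the kernel of `ρ`
  let S₁ : Subgroup G :=
    { carrier := {g | ρ g = 1}
      one_mem' := map_one ρ
      mul_mem' := by
        intro a b ha hb
        show ρ (a * b) = 1
        rw [map_mul, show ρ a = 1 from ha, show ρ b = 1 from hb, one_mul]
      inv_mem' := by
        intro a ha
        show ρ a⁻¹ = 1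
        have h1 : ρ a⁻¹ * ρ a = 1 := by rw [← map_mul, inv_mul_cancel, map_one]
        rwa [show ρ a = 1 from ha, mul_one] at h1 }
  by_cases hall : ∀ a b : Q, Commute (ρ (a : G)) (ρ (b : G))
  · left
    have h1 := ab_comm_trivial_pp ρ Q hQK hall y τ hfin hcyc H4'
    have hQS : Q ≤ S₁ := Hgenτ S₁ h1
    intro m hm v hv
    have h2 : ρ m = 1 := hQS hm
    have h3 := LinearMap.congr_fun h2 ⟨v, hv⟩
    exact congrArg Subtype.val h3
  · right
    set T : Subgroup G := zker ρ Q with hT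
    haveI hTn : T.Normal := zker_normal ρ Q
    have hTQ : T ≤ Q := zker_le ρ Q
    have hZT : Z ≤ T := by
      intro z hz
      refine ⟨hZQ hz, fun u hu => ?_⟩
      show ρ z * ρ u = ρ u * ρ z
      rw [← map_mul, ← map_mul, hZc z hz u hu]
    have hTK : (Nat.card T : K) ≠ 0 := cast_card_ne_zero_of_le hTQ hQK
    have h2 := ab_comm_trivial_pp ρ T hTK (zker_comm ρ Q) y τ hfin hcyc H4'
    -- the scalar subgroup
    have hscal0 : ∀ (g : G) (c : K), ρ g = c • 1 → c ≠ 0 := by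
      intro g c hg hc0
      have h1 : ρ g⁻¹ * ρ g = 1 := by rw [← map_mul, inv_mul_cancel, map_one]
      rw [hg, hc0, zero_smul, mul_zero] at h1
      obtain ⟨w, hw⟩ := exists_ne (0 : Y)
      apply hw
      have := LinearMap.congr_fun h1 w
      rw [LinearMap.zero_apply, Module.End.one_apply] at this
      exact this.symm
    let S₂ : Subgroup G :=
      { carrier := {g | ∃ c : K, ρ g = c • 1}
        one_mem' := ⟨1, by rw [map_one, one_smul]⟩
        mul_mem' := by
          rintro a b ⟨c, hc⟩ ⟨d, hd⟩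
          refine ⟨c * d, ?_⟩
          rw [map_mul, hc, hd, smul_mul_assoc, one_mul, smul_smul]
        inv_mem' := by
          rintro a ⟨c, hc⟩
          refine ⟨c⁻¹, ?_⟩
          have hc0 := hscal0 a c hc
          have h1 : ρ a⁻¹ * ρ a = 1 := by rw [← map_mul, inv_mul_cancel, map_one]
          rw [hc, mul_smul_comm, mul_one] at h1
          rw [← h1, smul_smul, inv_mul_cancel₀ hc0, one_smul] }
    have hZS₂ : Z ≤ S₂ := by
      intro z hz
      obtain ⟨c, hc⟩ := hZs z hz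
      refine ⟨c, ?_⟩
      apply LinearMap.ext
      intro w
      apply Subtype.ext
      rw [hρval]
      exact hc w w.2
    have hτT : ∀ m ∈ T, τ * m = m * τ → m ∈ Z := fun m hm h => hZτ m (hTQ hm) h
    have hgenT := gen_of_coprime T τ (by rw [Subgroup.normalizer_eq_top]; exact le_top)
      (hcop τ hτy T hTQ) (isSolvable_of_le hTQ) Z
      (fun m hm => hτT m hm.1 ((mem_centralizer_zpowers_iff m τ).1 hm.2))
    have hTS : T ≤ S₂ :=
      hgenT S₂ (fun m hm => ⟨1, by rw [h2 m hm, one_smul]⟩) hZS₂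
    have H1 : ∀ u ∈ Q, ∀ v ∈ Q, ∃ c : K, ρ ⁅u, v⁆ = c • 1 :=
      fun u hu v hv => hTS (hZT (hder u hu v hv))
    have H2 : ∀ v ∈ Q, (∀ u ∈ Q, ρ ⁅u, v⁆ = 1) → v ∈ T :=
      fun v hv h => ⟨hv, fun u hu => commute_of_comm_eq_one ρ u v (h u hu)⟩
    have hCe : ∀ e ∈ Subgroup.zpowers y, e ≠ 1 → ∀ c ∈ Q, e * c = c * e → c ∈ T := by
      intro e he he1 c hc hec
      apply hZT
      apply hZτ c hc
      obtain ⟨i, hi⟩ := Subgroup.mem_zpowers_iff.1 (hcyc e he he1)
      rw [← hi]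
      have : Commute e c := hec
      exact (this.zpow_left i).eq
    have Hgen : ∀ e ∈ Subgroup.zpowers y, e ≠ 1 → ∀ S : Subgroup G,
        (∀ m ∈ Q, m⁻¹ * e⁻¹ * m * e ∈ S) → T ≤ S → Q ≤ S := by
      intro e he he1
      exact gen_of_coprime Q e (by rw [Subgroup.normalizer_eq_top]; exact le_top)
        (hcop e he Q le_rfl) hsolvQ T
        (fun m hm => hCe e he he1 m hm.1 ((mem_centralizer_zpowers_iff m e).1 hm.2))
    have hrK : (orderOf y : K) ≠ 0 := by
      rw [hy, Nat.cast_pow]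
      exact pow_ne_zero a hpK
    have hb := core_bound_pp ρ Q hQK H1 T hTQ (fun n hn => hTS hn) H2 y hfin hrK Hgen H4inv
    rw [hy] at hb
    -- the character of `Z` on `Y`
    let χ : Z → K := fun z => Classical.choose (hZs z z.2)
    have hχ : ∀ (z : Z), ∀ v ∈ Y, σ (z : G) v = χ z • v := fun z => Classical.choose_spec (hZs z z.2)
    have hYwt : Y ≤ wt σ Z χ := by
      intro v hv
      rw [mem_wt]
      intro z
      exact hχ z v hv
    have hwt : wt σ Z χ ≠ ⊥ := fun h => hY (le_bot_iff.1 (h ▸ hYwt))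
    have hρχ : ∀ (z : G) (hz : z ∈ Z), ρ z = χ ⟨z, hz⟩ • 1 := by
      intro z hz
      apply LinearMap.ext
      intro w
      apply Subtype.ext
      rw [hρval]
      exact hχ ⟨z, hz⟩ w w.2
    have hχeq1 : ∀ (z : G) (hz : z ∈ Z), ρ z = 1 ↔ χ ⟨z, hz⟩ = 1 := by
      intro z hz
      rw [hρχ z hz]
      constructor
      · intro h
        obtain ⟨w, hw⟩ := exists_ne (0 : Y)
        have h1 := LinearMap.congr_fun h w
        rw [LinearMap.smul_apply, Module.End.one_apply] at h1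
        have h2 : (χ ⟨z, hz⟩ - 1) • w = 0 := by rw [sub_smul, one_smul, h1, sub_self]
        rcases smul_eq_zero.1 h2 with h3 | h3
        · exact sub_eq_zero.1 h3
        · exact absurd h3 hw
      · intro h
        rw [h, one_smul]
    let χu : Z →* Kˣ :=
      { toFun := fun z => Units.mk0 (χ z) (wt_char_ne_zero σ Z χ hwt z)
        map_one' := Units.ext (wt_char_one σ Z χ hwt)
        map_mul' := fun z z' => Units.ext (wt_char_mul σ Z χ hwt z z') }
    have hconj : ∀ z ∈ Z, ∀ g ∈ Q, g * z * g⁻¹ = z := by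
      intro z hz g hg
      rw [hZc z hz g hg, mul_assoc, mul_inv_cancel, mul_one]
    let β : Q → Q → Kˣ := fun a b => χu ⟨⁅(a : G), (b : G)⁆, hder a a.2 b b.2⟩
    have B1 : ∀ a a' b, β (a * a') b = β a b * β a' b := by
      intro a a' b
      have e : (⟨⁅((a * a' : Q) : G), (b : G)⁆, hder _ (a * a').2 b b.2⟩ : Z) =
          ⟨⁅(a' : G), (b : G)⁆, hder a' a'.2 b b.2⟩ * ⟨⁅(a : G), (b : G)⁆, hder a a.2 b b.2⟩ := by
        apply Subtype.ext
        show ⁅(a : G) * (a' : G), (b : G)⁆ = ⁅(a' : G), (b : G)⁆ * ⁅(a : G), (b : G)⁆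
        have h1 : ⁅(a : G) * (a' : G), (b : G)⁆ =
            ((a : G) * ⁅(a' : G), (b : G)⁆ * (a : G)⁻¹) * ⁅(a : G), (b : G)⁆ := by
          rw [commutatorElement_def, commutatorElement_def, commutatorElement_def]
          group
        rw [h1, hconj _ (hder a' a'.2 b b.2) a a.2]
      show χu _ = χu _ * χu _
      rw [e, map_mul, mul_comm]
    have B2 : ∀ a b b', β a (b * b') = β a b * β a b' := by
      intro a b b'
      have e : (⟨⁅(a : G), ((b * b' : Q) : G)⁆, hder a a.2 _ (b * b').2⟩ : Z) =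
          ⟨⁅(a : G), (b : G)⁆, hder a a.2 b b.2⟩ * ⟨⁅(a : G), (b' : G)⁆, hder a a.2 b' b'.2⟩ := by
        apply Subtype.ext
        show ⁅(a : G), (b : G) * (b' : G)⁆ = ⁅(a : G), (b : G)⁆ * ⁅(a : G), (b' : G)⁆
        have h1 : ⁅(a : G), (b : G) * (b' : G)⁆ =
            ⁅(a : G), (b : G)⁆ * ((b : G) * ⁅(a : G), (b' : G)⁆ * (b : G)⁻¹) := by
          rw [commutatorElement_def, commutatorElement_def, commutatorElement_def]
          group
        rw [h1, hconj _ (hder a a.2 b' b'.2) b b.2]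
      show χu _ = χu _ * χu _
      rw [e, map_mul]
    have B3 : ∀ a, β a a = 1 := by
      intro a
      have e : (⟨⁅(a : G), (a : G)⁆, hder a a.2 a a.2⟩ : Z) = 1 := by
        apply Subtype.ext
        show ⁅(a : G), (a : G)⁆ = 1
        exact commutatorElement_self _
      show χu _ = 1
      rw [e, map_one]
    have B5 : ∀ a b, β a (b ^ q) = 1 := by
      intro a b
      have e : (⟨⁅(a : G), ((b ^ q : Q) : G)⁆, hder a a.2 _ (b ^ q).2⟩ : Z) = 1 := by
        apply Subtype.ext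
        show ⁅(a : G), (b : G) ^ q⁆ = 1
        rw [commutatorElement_def, hconj _ (hpow b b.2) a a.2, mul_inv_cancel]
      show χu _ = 1
      rw [e, map_one]
    have hRad : ∀ v : Q, v ∈ T.subgroupOf Q ↔ ∀ a, β a v = 1 := by
      intro v
      rw [Subgroup.mem_subgroupOf]
      constructor
      · intro hv a
        have h1 : Commute (ρ (v : G)) (ρ (a : G)) := hv.2 a a.2
        have h2 : ρ ⁅(a : G), (v : G)⁆ = 1 := by
          rw [commutatorElement_def, map_mul, map_mul, map_mul, ← h1.eq, mul_assoc (ρ (v : G)),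
            ← map_mul ρ (a : G), mul_inv_cancel, map_one, mul_one, ← map_mul, mul_inv_cancel,
            map_one]
        have h3 := (hχeq1 _ (hder a a.2 v v.2)).1 h2
        apply Units.ext
        exact h3
      · intro h
        refine ⟨v.2, fun a ha => ?_⟩
        apply commute_of_comm_eq_one
        rw [hχeq1 _ (hder a ha v v.2)]
        have h1 := h ⟨a, ha⟩
        have h2 : ((β ⟨a, ha⟩ v : Kˣ) : K) = 1 := by rw [h1, Units.val_one]
        exact h2
    obtain ⟨j, hj⟩ := sympl_card q hq (Nat.card Q) Q β rfl B1 B2 B3 B5 (T.subgroupOf Q) hRad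
    -- the congruence
    have hmod := index_modEq_one_of_semiregular Q T hTQ (fun m _ t ht => hTn.conj_mem t ht m) y
      (fun m hm => hQn.conj_mem m hm y) (fun t ht => hTn.conj_mem t ht y)
      (fun e he he1 => mem_of_comm_mem Q T hTQ e (hcop e he Q le_rfl) hsolvQ (hCe e he he1))
    rw [hy] at hmod
    have hM1 : (T.subgroupOf Q).index ≠ 1 := by
      intro h
      apply hall
      rw [Subgroup.index_eq_one, Subgroup.subgroupOf_eq_top] at h
      intro a b
      exact (h a.2).2 b b.2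
    obtain ⟨hq2, hpa⟩ := fermat_arith_pp q p a j _ hq hp hp2 hj hb hM1 hmod
    exact ⟨hq2, j, hpa, by rw [hj, hq2]⟩

end main

end Cfsg.Agent.Lib.Helper4.PPD
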