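import Mathlib
import Cfsg.Agent.Lib.Helper4.PPD

set_option autoImplicit false
set_option linter.unusedVariables false
set_option linter.unusedSectionVars false
set_option linter.style.haveILetI false

/-! M-D2: the per-weight step for a submodule that is only stable under `Q` and `y`
(transport of `pp_weight` to the subgroup `Q ⊔ ⟨y⟩`). -/

namespace Cfsg.Agent.Lib.Helper4.PPD2

open Module Cfsg.Agent.Lib.Helper4.FM Cfsg.Agent.Lib.Helper4.HH Cfsg.Agent.Lib.Helper4.PP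
  Cfsg.Agent.Lib.Lead

open scoped commutatorElement

universe u

section stab

variable {K : Type*} [Field K] {G : Type*} [Group G] {W : Type*} [AddCommGroup W] [Module K W]
  (σ : Representation K G W) (Y : Submodule K W)

/-- the subgroup of elements stabilising `Y` in both directions. -/
def stabY : Subgroup G where
  carrier := {g | Y ≤ Y.comap (σ g) ∧ Y ≤ Y.comap (σ g⁻¹)}
  one_mem' := by
    constructor
    · intro v hv
      rw [Submodule.mem_comap, map_one, Module.End.one_apply]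
      exact hv
    · intro v hv
      rw [Submodule.mem_comap, inv_one, map_one, Module.End.one_apply]
      exact hv
  mul_mem' := by
    rintro a b ⟨ha, ha'⟩ ⟨hb, hb'⟩
    constructor
    · intro v hv
      rw [Submodule.mem_comap, rho_mul_apply]
      exact ha (hb hv)
    · intro v hv
      rw [Submodule.mem_comap, mul_inv_rev, rho_mul_apply]
      exact hb' (ha' hv)
  inv_mem' := by
    rintro a ⟨ha, ha'⟩
    refine ⟨ha', ?_⟩
    rw [inv_inv]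
    exact ha

theorem mem_stabY_of_finOrder (y : G) (hfin : IsOfFinOrder y) (hYy : Y ≤ Y.comap (σ y)) :
    y ∈ stabY σ Y := by
  have hpow : ∀ k : ℕ, Y ≤ Y.comap (σ (y ^ k)) := by
    intro k
    induction k with
    | zero =>
      intro v hv
      rw [Submodule.mem_comap, pow_zero, map_one, Module.End.one_apply]
      exact hv
    | succ k ih =>
      intro v hv
      rw [Submodule.mem_comap, pow_succ, rho_mul_apply]
      exact ih (hYy hv)
  refine ⟨hYy, ?_⟩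
  have hpos := hfin.orderOf_pos
  have h1 : y⁻¹ = y ^ (orderOf y - 1) := by
    apply inv_eq_of_mul_eq_one_right
    rw [← pow_succ', show orderOf y - 1 + 1 = orderOf y by omega, pow_orderOf_eq_one]
  rw [h1]
  exact hpow _

end stab

section main

variable {K : Type*} [Field K] [IsAlgClosed K] {G : Type u} [Group G] [Finite G] {W : Type*}
  [AddCommGroup W] [Module K W] [FiniteDimensional K W] (σ : Representation K G W)
  (Q : Subgroup G) [hQn : Q.Normal]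

theorem pp_weight' (q : ℕ) (hq : q.Prime) (hQ : IsPGroup q Q) (hqK : (q : K) ≠ 0)
    (Z : Subgroup G) (hZQ : Z ≤ Q)
    (hZc : ∀ z ∈ Z, ∀ m ∈ Q, m * z = z * m)
    (hder : ∀ u ∈ Q, ∀ v ∈ Q, ⁅u, v⁆ ∈ Z) (hpow : ∀ m ∈ Q, m ^ q ∈ Z)
    (y τ : G) (p a : ℕ) (hp : p.Prime) (hp2 : p ≠ 2) (hqp : q ≠ p) (hy : orderOf y = p ^ a)
    (hpK : (p : K) ≠ 0)
    (hcyc : ∀ e ∈ Subgroup.zpowers y, e ≠ 1 → τ ∈ Subgroup.zpowers e)
    (hτy : τ ∈ Subgroup.zpowers y)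
    (hZτ : ∀ m ∈ Q, τ * m = m * τ → m ∈ Z)
    (Hgenτ : ∀ S : Subgroup G, (∀ m ∈ Q, m⁻¹ * τ⁻¹ * m * τ ∈ S) → Q ≤ S)
    (Y : Submodule K W) (hYQ : ∀ m ∈ Q, Y ≤ Y.comap (σ m)) (hYy : Y ≤ Y.comap (σ y))
    (hY : Y ≠ ⊥)
    (hZs : ∀ z ∈ Z, ∃ c : K, ∀ v ∈ Y, σ z v = c • v)
    (H4 : ∀ v ∈ Y, σ y v = v → v = 0) :
    (∀ m ∈ Q, ∀ v ∈ Y, σ m v = v) ∨
    (q = 2 ∧ ∃ j : ℕ, p ^ a = 2 ^ j + 1 ∧
      ((zkerOn σ Q Y hYQ).subgroupOf Q).index = 2 ^ (2 * j)) := by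
  classical
  set G₀ : Subgroup G := Q ⊔ Subgroup.zpowers y with hG₀
  have hQG₀ : Q ≤ G₀ := le_sup_left
  have hyG₀ : y ∈ G₀ := (le_sup_right : Subgroup.zpowers y ≤ G₀) (Subgroup.mem_zpowers y)
  have hτG₀ : τ ∈ G₀ := (le_sup_right : Subgroup.zpowers y ≤ G₀) hτy
  let σ₀ : Representation K G₀ W := σ.comp G₀.subtype
  have hσ₀ : ∀ g : G₀, σ₀ g = σ (g : G) := fun g => rfl
  set Q₀ : Subgroup G₀ := Q.subgroupOf G₀ with hQ₀
  haveI hQ₀n : Q₀.Normal := hQn.subgroupOf G₀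
  set Z₀ : Subgroup G₀ := Z.subgroupOf G₀ with hZ₀
  let y₀ : G₀ := ⟨y, hyG₀⟩
  let τ₀ : G₀ := ⟨τ, hτG₀⟩
  have hfin : IsOfFinOrder y := isOfFinOrder_of_finite y
  -- stability of `Y` under `G₀`
  have hG₀stab : G₀ ≤ stabY σ Y := by
    apply sup_le
    · intro m hm
      exact ⟨hYQ m hm, hYQ m⁻¹ (Q.inv_mem hm)⟩
    · rw [Subgroup.zpowers_le]
      exact mem_stabY_of_finOrder σ Y y hfin hYy
  have hYinv₀ : ∀ g : G₀, Y ≤ Y.comap (σ₀ g) := fun g => (hG₀stab g.2).1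
  have hQ₀p : IsPGroup q Q₀ := hQ.comap_subtype
  have hZ₀Q₀ : Z₀ ≤ Q₀ := fun m hm => hZQ hm
  have hZc₀ : ∀ z ∈ Z₀, ∀ m ∈ Q₀, m * z = z * m := by
    intro z hz m hm
    apply Subtype.ext
    exact hZc z hz m hm
  have hcoe_comm : ∀ u v : G₀, ((⁅u, v⁆ : G₀) : G) = ⁅(u : G), (v : G)⁆ := by
    intro u v
    rw [commutatorElement_def, commutatorElement_def]
    simp
  have hder₀ : ∀ u ∈ Q₀, ∀ v ∈ Q₀, ⁅u, v⁆ ∈ Z₀ := by
    intro u hu v hv
    show ((⁅u, v⁆ : G₀) : G) ∈ Z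
    rw [hcoe_comm]
    exact hder u hu v hv
  have hpow₀ : ∀ m ∈ Q₀, m ^ q ∈ Z₀ := by
    intro m hm
    show ((m ^ q : G₀) : G) ∈ Z
    rw [Subgroup.coe_pow]
    exact hpow m hm
  have hy₀ : orderOf y₀ = p ^ a := by
    rw [← hy]
    exact Subgroup.orderOf_mk y hyG₀
  have hzp : ∀ e : G₀, e ∈ Subgroup.zpowers y₀ → (e : G) ∈ Subgroup.zpowers y := by
    intro e he
    obtain ⟨i, rfl⟩ := Subgroup.mem_zpowers_iff.1 he
    rw [Subgroup.coe_zpow]
    exact Subgroup.zpow_mem _ (Subgroup.mem_zpowers y) i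
  have hcyc₀ : ∀ e ∈ Subgroup.zpowers y₀, e ≠ 1 → τ₀ ∈ Subgroup.zpowers e := by
    intro e he he1
    have h1 : (e : G) ≠ 1 := fun h => he1 (Subtype.ext h)
    obtain ⟨i, hi⟩ := Subgroup.mem_zpowers_iff.1 (hcyc (e : G) (hzp e he) h1)
    rw [Subgroup.mem_zpowers_iff]
    refine ⟨i, ?_⟩
    apply Subtype.ext
    rw [Subgroup.coe_zpow]
    exact hi
  have hτy₀ : τ₀ ∈ Subgroup.zpowers y₀ := by
    obtain ⟨i, hi⟩ := Subgroup.mem_zpowers_iff.1 hτy
    rw [Subgroup.mem_zpowers_iff]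
    refine ⟨i, ?_⟩
    apply Subtype.ext
    rw [Subgroup.coe_zpow]
    exact hi
  have hZτ₀ : ∀ m ∈ Q₀, τ₀ * m = m * τ₀ → m ∈ Z₀ := by
    intro m hm h
    apply hZτ (m : G) hm
    have := congrArg Subtype.val h
    simpa using this
  have Hgenτ₀ : ∀ S : Subgroup G₀, (∀ m ∈ Q₀, m⁻¹ * τ₀⁻¹ * m * τ₀ ∈ S) → Q₀ ≤ S := by
    intro S hS
    have h1 : Q ≤ S.map G₀.subtype := by
      apply Hgenτ
      intro m hm
      refine ⟨(⟨m, hQG₀ hm⟩ : G₀)⁻¹ * τ₀⁻¹ * ⟨m, hQG₀ hm⟩ * τ₀, hS ⟨m, hQG₀ hm⟩ hm, ?_⟩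
      simp [τ₀]
    intro m hm
    obtain ⟨s, hs, hsm⟩ := h1 hm
    have : s = m := Subtype.ext hsm
    rw [← this]
    exact hs
  have hZs₀ : ∀ z ∈ Z₀, ∃ c : K, ∀ v ∈ Y, σ₀ z v = c • v := fun z hz => hZs (z : G) hz
  have H4₀ : ∀ v ∈ Y, σ₀ y₀ v = v → v = 0 := H4
  have hmain := Cfsg.Agent.Lib.Helper4.PPD.pp_weight σ₀ Q₀ q hq hQ₀p hqK Z₀ hZ₀Q₀ hZc₀ hder₀ hpow₀
    y₀ τ₀ p a hp hp2 hqp hy₀ hpK hcyc₀ hτy₀ hZτ₀ Hgenτ₀ Y hYinv₀ hY hZs₀ H4₀
  rcases hmain with h | ⟨hq2, j, hj, hidx⟩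
  · left
    intro m hm v hv
    exact h ⟨m, hQG₀ hm⟩ hm v hv
  · right
    refine ⟨hq2, j, hj, ?_⟩
    rw [← hidx]
    -- transport of the index along `Q₀ ≃* Q`
    let e : Q₀ ≃* Q := Subgroup.subgroupOfEquivOfLe hQG₀
    have hcomap : ((zker (σ₀.subrepresentation Y hYinv₀) Q₀).subgroupOf Q₀) =
        ((zkerOn σ Q Y hYQ).subgroupOf Q).comap (e : Q₀ →* Q) := by
      ext m
      rw [Subgroup.mem_comap, Subgroup.mem_subgroupOf, Subgroup.mem_subgroupOf]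
      have hem : (((e : Q₀ →* Q) m : Q) : G) = ((m : G₀) : G) := rfl
      rw [hem]
      constructor
      · rintro ⟨hmQ, hcomm⟩
        refine ⟨hmQ, fun u hu v hv => ?_⟩
        have h1 := hcomm ⟨u, hQG₀ hu⟩ hu
        have h2 := LinearMap.congr_fun h1.eq ⟨v, hv⟩
        have h3 := congrArg Subtype.val h2
        -- h3 : σ m (σ u v) = σ u (σ m v)
        rw [rho_mul_apply, rho_mul_apply]
        exact h3.symm
      · rintro ⟨hmQ, hcomm⟩
        refine ⟨hmQ, fun u hu => ?_⟩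
        show (σ₀.subrepresentation Y hYinv₀) (m : G₀) * (σ₀.subrepresentation Y hYinv₀) u =
          (σ₀.subrepresentation Y hYinv₀) u * (σ₀.subrepresentation Y hYinv₀) (m : G₀)
        apply LinearMap.ext
        intro w
        apply Subtype.ext
        have h1 := hcomm (u : G) hu (w : W) w.2
        rw [rho_mul_apply, rho_mul_apply] at h1
        exact h1.symm
    rw [hcomap, Subgroup.index_comap_of_surjective _ e.surjective]

end main

end Cfsg.Agent.Lib.Helper4.PPD2
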