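import Mathlib
import Cfsg.Agent.Lib.Helper4.PPD2
import Cfsg.Agent.Lib.Helper7.PPMC
import Cfsg.Agent.Lib.Helper4.SecMod

set_option autoImplicit false
set_option linter.unusedVariables false
set_option linter.unusedSectionVars false
set_option linter.style.haveILetI false

/-! M-F1: the minimal configuration over an algebraically closed field is impossible. -/

namespace Cfsg.Agent.Lib.Helper4.PPF1

open Module Cfsg.Agent.Lib.Helper4.FM Cfsg.Agent.Lib.Helper4.HH Cfsg.Agent.Lib.Helper4.PP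
  Cfsg.Agent.Lib.Lead Cfsg.Agent.Lib.Helper7.PPMC

open Cfsg.Agent.Lib.Helper6.PPMB (orbit_sum_fixed)
open Cfsg.Agent.Lib.Helper4.PPE (wt_stable_of_central pp_kill)
open Cfsg.Agent.Lib.Helper4.PPD2 (pp_weight')

open scoped commutatorElement

universe u

section stab

variable {K : Type*} [Field K] {G : Type*} [Group G] (Z : Subgroup G) [hZn : Z.Normal]

/-- the least positive exponent stabilising a weight. -/
theorem exists_min_stab (x : G) (hfin : IsOfFinOrder x) (χ : Z → K) :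
    ∃ s : ℕ, 0 < s ∧ conjWt Z (x ^ s) χ = χ ∧
      ∀ i, 0 < i → i < s → conjWt Z (x ^ i) χ ≠ χ := by
  classical
  have hex : ∃ i : ℕ, 0 < i ∧ conjWt Z (x ^ i) χ = χ :=
    ⟨orderOf x, hfin.orderOf_pos, by rw [pow_orderOf_eq_one, conjWt_one]⟩
  refine ⟨Nat.find hex, (Nat.find_spec hex).1, (Nat.find_spec hex).2, ?_⟩
  intro i hi hlt h
  exact Nat.find_min hex hlt ⟨hi, h⟩

theorem conjWt_pow_comm (x : G) (i k : ℕ) (χ : Z → K) :
    conjWt Z (x ^ k) (conjWt Z (x ^ i) χ) = conjWt Z (x ^ i) (conjWt Z (x ^ k) χ) := by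
  rw [← conjWt_mul, ← conjWt_mul, ← pow_add, ← pow_add, add_comm]

theorem stab_shift (x : G) (i k : ℕ) (χ : Z → K) :
    conjWt Z (x ^ k) (conjWt Z (x ^ i) χ) = conjWt Z (x ^ i) χ ↔ conjWt Z (x ^ k) χ = χ := by
  rw [conjWt_pow_comm]
  constructor
  · intro h
    exact conjWt_injective Z (x ^ i) h
  · intro h
    rw [h]

end stab

section main

variable {K : Type*} [Field K] [IsAlgClosed K] {G : Type u} [Group G] [Finite G] {W : Type*}
  [AddCommGroup W] [Module K W] [FiniteDimensional K W] (σ : Representation K G W)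
  (Q : Subgroup G) [hQn : Q.Normal]

/-- a subgroup acting trivially on a `Q`-stable submodule lies in the relative commuting kernel. -/
theorem le_zkerOn_of_trivial (Y : Submodule K W) (hYQ : ∀ m ∈ Q, Y ≤ Y.comap (σ m))
    (h : ∀ m ∈ Q, ∀ v ∈ Y, σ m v = v) : Q ≤ zkerOn σ Q Y hYQ := by
  intro m hm
  refine ⟨hm, fun u hu y hy => ?_⟩
  rw [h _ (Q.mul_mem hu hm) y hy, h _ (Q.mul_mem hm hu) y hy]

theorem index_zkerOn_of_trivial (Y : Submodule K W) (hYQ : ∀ m ∈ Q, Y ≤ Y.comap (σ m))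
    (h : ∀ m ∈ Q, ∀ v ∈ Y, σ m v = v) : ((zkerOn σ Q Y hYQ).subgroupOf Q).index = 1 := by
  rw [Subgroup.index_eq_one, Subgroup.subgroupOf_eq_top]
  exact le_zkerOn_of_trivial σ Q Y hYQ h

theorem pp_min_closed (hσ : ∀ m : G, σ m = 1 → m = 1)
    (x : G) (p q n : ℕ) (hp : p.Prime) (hp2 : p ≠ 2) (hq : q.Prime) (hqp : q ≠ p)
    (hQ : IsPGroup q Q) (hx : x ^ (p ^ (n + 1)) = 1)
    (hgen : ∀ S : Subgroup G, Q ≤ S → x ∈ S → S = ⊤)
    (hqK : (q : K) ≠ 0) (hpK : (p : K) ≠ 0)
    (hfpf : ∀ m ∈ Q, x * m = m * x → m = 1)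
    (hmin : ∀ P : Subgroup G, P ≤ Q → (∀ m ∈ P, x * m * x⁻¹ ∈ P) → P ≠ Q →
      ∀ m ∈ P, x ^ (p ^ n) * m = m * x ^ (p ^ n))
    (hnc : ∃ u ∈ Q, x ^ (p ^ n) * u ≠ u * x ^ (p ^ n))
    (H4σ : inv σ (Subgroup.zpowers x) = ⊥) : False := by
  classical
  haveI : Fact q.Prime := ⟨hq⟩
  set τ : G := x ^ (p ^ n) with hτ
  set Z : Subgroup G :=
    Q ⊓ Subgroup.centralizer ((Subgroup.zpowers τ : Subgroup G) : Set G) with hZdef
  have hfinx : IsOfFinOrder x := isOfFinOrder_of_finite x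
  have hZQ : Z ≤ Q := inf_le_left
  have hZτ : ∀ m ∈ Q, τ * m = m * τ → m ∈ Z := fun m hm h =>
    Subgroup.mem_inf.2 ⟨hm, (mem_centralizer_zpowers_iff m τ).2 h⟩
  have hZcomm : ∀ z ∈ Z, τ * z = z * τ := fun z hz => (mem_centralizer_zpowers_iff z τ).1 hz.2
  have hcentral := pp_central Q x p q n hp hq hqp hQ hx hmin hnc
  have hZc : ∀ z ∈ Z, ∀ m ∈ Q, m * z = z * m := fun z hz m hm =>
    (hcentral z hz.1 (hZcomm z hz) m hm).symm
  have hK1 := pp_K1 Q x p q n hq hQ hmin hnc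
  have hder : ∀ u ∈ Q, ∀ v ∈ Q, ⁅u, v⁆ ∈ Z := fun u hu v hv =>
    hZτ _ (K1_le Q q (comm_mem_K1 Q q u v hu hv)) (hK1 _ (comm_mem_K1 Q q u v hu hv))
  have hxτ : ∀ c ∈ Subgroup.zpowers x, c * τ = τ * c := by
    intro c hc
    obtain ⟨i, rfl⟩ := Subgroup.mem_zpowers_iff.1 hc
    exact ((Commute.refl x).zpow_left i).pow_right (p ^ n) |>.eq
  have hZconj : ∀ c ∈ Subgroup.zpowers x, ∀ z ∈ Z, c * z * c⁻¹ ∈ Z := by
    intro c hc z hz
    apply hZτ _ (hQn.conj_mem z hz.1 c)
    have h1 : Commute τ c := (hxτ c hc).symm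
    have h2 : Commute τ z := hZcomm z hz
    exact ((h1.mul_right h2).mul_right h1.inv_right).eq
  have hZnorm : Z.Normal := by
    have hN : Subgroup.normalizer (Z : Set G) = ⊤ := by
      apply hgen
      · apply Cfsg.Agent.Lib.Helper4.SecMod.le_normalizer_of_conj_mem
        intro c hc z hz
        have : c * z = z * c := hZc z hz c hc
        rw [this, mul_assoc, mul_inv_cancel, mul_one]
        exact hz
      · have := Cfsg.Agent.Lib.Helper4.SecMod.le_normalizer_of_conj_mem (Subgroup.zpowers x) Z hZconj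
        exact this (Subgroup.mem_zpowers x)
    exact Subgroup.normalizer_eq_top_iff.1 hN
  haveI := hZnorm
  obtain ⟨N, hN⟩ := IsPGroup.iff_card.1 hQ
  have hQK : (Nat.card Q : K) ≠ 0 := by
    rw [hN, Nat.cast_pow]
    exact pow_ne_zero N hqK
  have hZK : (Nat.card Z : K) ≠ 0 := cast_card_ne_zero_of_le hZQ hQK
  have hcommZ : ∀ a b : Z, Commute (σ (a : G)) (σ (b : G)) := by
    intro a b
    show σ (a : G) * σ (b : G) = σ (b : G) * σ (a : G)
    rw [← map_mul, ← map_mul, hZc b b.2 a (hZQ a.2)]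
  have hspan := iSup_wt_eq_top σ Z hcommZ hZK
  have hxfix : ∀ w : W, σ x w = w → w = 0 := by
    intro w hw
    have hxf : x ∈ fixer σ w := hw
    have hle : Subgroup.zpowers x ≤ fixer σ w := (Subgroup.zpowers_le).2 hxf
    have hwi : w ∈ inv σ (Subgroup.zpowers x) := fun s hs => hle hs
    rw [H4σ] at hwi
    exact (Submodule.mem_bot K).1 hwi
  have hord := pp_orderOf Q x p n hp hx hnc
  have hcyc := pp_cyc Q x p n hp hx hnc
  have hGenτ := pp_gen Q x p q n hp hq hqp hQ hx hmin hnc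
  have hpow : ∀ m ∈ Q, m ^ q ∈ Z := fun m hm =>
    hZτ _ (K1_le Q q (pow_mem_K1 Q q m hm)) (hK1 _ (pow_mem_K1 Q q m hm))
  -- the per-weight alternative
  have key : ∀ (χ : Z → K) (s : ℕ), wt σ Z χ ≠ ⊥ → 0 < s → conjWt Z (x ^ s) χ = χ →
      (∀ i, 0 < i → i < s → conjWt Z (x ^ i) χ ≠ χ) →
      ∃ a : ℕ, orderOf (x ^ s) = p ^ a ∧
        ((∀ m ∈ Q, ∀ v ∈ wt σ Z χ, σ m v = v) ∨
          (q = 2 ∧ ∃ j : ℕ, p ^ a = 2 ^ j + 1 ∧
            ((zkerOn σ Q (wt σ Z χ) (wt_stable_of_central σ Q Z hZQ hZc χ)).subgroupOf Q).index =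
              2 ^ (2 * j))) := by
    intro χ s hY hs hstab hmins
    have hdvd : orderOf (x ^ s) ∣ p ^ (n + 1) := by
      rw [← hord]
      exact orderOf_pow_dvd s
    obtain ⟨a, -, ha⟩ := (Nat.dvd_prime_pow hp).1 hdvd
    refine ⟨a, ha, ?_⟩
    have H4 : ∀ v ∈ wt σ Z χ, σ (x ^ s) v = v → v = 0 := fun v hv hfix =>
      orbit_sum_fixed σ Z hcommZ x s hs χ hmins v hv hfix hxfix
    have hy1 : x ^ s ≠ 1 := by
      intro h1
      apply hY
      rw [Submodule.eq_bot_iff]
      intro v hv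
      apply H4 v hv
      rw [h1, map_one, Module.End.one_apply]
    have hyx : x ^ s ∈ Subgroup.zpowers x := Subgroup.pow_mem _ (Subgroup.mem_zpowers x) s
    have hle : Subgroup.zpowers (x ^ s) ≤ Subgroup.zpowers x := (Subgroup.zpowers_le).2 hyx
    have hYy : wt σ Z χ ≤ (wt σ Z χ).comap (σ (x ^ s)) := by
      intro v hv
      rw [Submodule.mem_comap]
      have := map_mem_wt σ Z (x ^ s) χ v hv
      rwa [hstab] at this
    exact pp_weight' σ Q q hq hQ hqK Z hZQ hZc hder hpow (x ^ s) τ p a hp hp2 hqp ha hpK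
      (fun e he he1 => hcyc e (hle he) he1) (hcyc _ hyx hy1) hZτ hGenτ
      (wt σ Z χ) (wt_stable_of_central σ Q Z hZQ hZc χ) hYy hY
      (fun z hz => ⟨χ ⟨z, hz⟩, fun v hv => (mem_wt σ Z χ v).1 hv ⟨z, hz⟩⟩) H4
  by_cases hall : ∀ χ : Z → K, wt σ Z χ ≠ ⊥ → ∀ m ∈ Q, ∀ v ∈ wt σ Z χ, σ m v = v
  · -- `Q` acts trivially
    have htriv : ∀ m ∈ Q, σ m = 1 := by
      intro m hm
      apply LinearMap.ext
      intro w
      have hw : w ∈ ⨆ χ : Z → K, wt σ Z χ := by
        rw [hspan]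
        exact Submodule.mem_top
      induction hw using Submodule.iSup_induction' with
      | mem χ y hy =>
        by_cases hb : wt σ Z χ = ⊥
        · rw [hb, Submodule.mem_bot] at hy
          rw [hy, map_zero, map_zero]
        · rw [hall χ hb m hm y hy, Module.End.one_apply]
      | zero => simp
      | add a b _ _ ha hb => rw [map_add, map_add, ha, hb]
    obtain ⟨u, hu, hxu⟩ := hnc
    apply hxu
    have h3 : u = 1 := hσ u (htriv u hu)
    rw [h3, mul_one, one_mul]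
  · push Not at hall
    obtain ⟨χ, hY, m₀, hm₀, v₀, hv₀, hmv⟩ := hall
    obtain ⟨s, hs, hstab, hmins⟩ := exists_min_stab Z x hfinx χ
    obtain ⟨a, ha, halt⟩ := key χ s hY hs hstab hmins
    rcases halt with h | ⟨hq2, j, hj, hidx0⟩
    · exact hmv (h m₀ hm₀ v₀ hv₀)
    · have hj1 : j ≠ 0 := by
        rintro rfl
        rw [pow_zero] at hj
        have h2 : p ∣ 2 := by
          have ha0 : a ≠ 0 := by
            rintro rfl
            rw [pow_zero] at hj
            omega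
          rw [show (1 + 1 : ℕ) = 2 from rfl] at hj
          rw [← hj]
          exact dvd_pow_self p ha0
        exact hp2 ((Nat.prime_dvd_prime_iff_eq hp Nat.prime_two).1 h2)
      have hQ2 : IsPGroup 2 Q := hq2 ▸ hQ
      have hne : ¬ Q ≤ zkerOn σ Q (wt σ Z χ) (wt_stable_of_central σ Q Z hZQ hZc χ) := by
        intro hle
        have h1 : ((zkerOn σ Q (wt σ Z χ)
            (wt_stable_of_central σ Q Z hZQ hZc χ)).subgroupOf Q).index = 1 := by
          rw [Subgroup.index_eq_one, Subgroup.subgroupOf_eq_top]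
          exact hle
        rw [h1] at hidx0
        have : 2 ^ (2 * j) ≥ 2 ^ 1 := Nat.pow_le_pow_right (by norm_num) (by omega)
        omega
      have hsolvQ : Group.IsSolvable Q := min_solvable Q q hq hQ
      have hsemi : ∀ e ∈ Subgroup.zpowers x, e ≠ 1 → ∀ m ∈ Q, m⁻¹ * e⁻¹ * m * e ∈ Z → m ∈ Z := by
        intro e he he1 m hm hme
        -- the subgroup of elements fixing the coset of `m`
        let S : Subgroup G :=
          { carrier := {a | a * m * a⁻¹ * m⁻¹ ∈ Z}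
            one_mem' := by
              show (1 : G) * m * (1 : G)⁻¹ * m⁻¹ ∈ Z
              simp [Z.one_mem]
            mul_mem' := by
              intro a b ha hb
              show (a * b) * m * (a * b)⁻¹ * m⁻¹ ∈ Z
              have e1 : (a * b) * m * (a * b)⁻¹ * m⁻¹ =
                  (a * (b * m * b⁻¹ * m⁻¹) * a⁻¹) * (a * m * a⁻¹ * m⁻¹) := by group
              rw [e1]
              exact Z.mul_mem (hZnorm.conj_mem _ hb a) ha
            inv_mem' := by
              intro a ha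
              show a⁻¹ * m * a⁻¹⁻¹ * m⁻¹ ∈ Z
              have e1 : a⁻¹ * m * a⁻¹⁻¹ * m⁻¹ = a⁻¹ * (a * m * a⁻¹ * m⁻¹)⁻¹ * a⁻¹⁻¹ := by group
              rw [e1]
              exact hZnorm.conj_mem _ (Z.inv_mem ha) a⁻¹ }
        have heS : e⁻¹ ∈ S := by
          show e⁻¹ * m * e⁻¹⁻¹ * m⁻¹ ∈ Z
          have e1 : e⁻¹ * m * e⁻¹⁻¹ * m⁻¹ = m * (m⁻¹ * e⁻¹ * m * e) * m⁻¹ := by group
          rw [e1]
          exact hZnorm.conj_mem _ hme m
        have hzS : Subgroup.zpowers e ≤ S := by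
          rw [Subgroup.zpowers_le]
          have := S.inv_mem heS
          rwa [inv_inv] at this
        obtain ⟨c, hc, hmc⟩ := coprime_fixed_coset (Subgroup.zpowers e) Q
          (by rw [Subgroup.normalizer_eq_top]; exact le_top)
          (pp_coprime Q x p q n hp hq hqp hQ hx e he) (Or.inr hsolvQ) Z hZQ
          (by rw [Subgroup.normalizer_eq_top]; exact le_top)
          (by rw [Subgroup.normalizer_eq_top]; exact le_top) m hm (fun a ha => hzS ha)
        have hcτ : τ * c = c * τ := by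
          have h1 : τ ∈ Subgroup.zpowers e := hcyc e he he1
          have h2 := Subgroup.mem_centralizer_iff.1 hc.2 τ h1
          exact h2
        have hcZ : c ∈ Z := hZτ c hc.1 hcτ
        have e1 : m = c * (m⁻¹ * c)⁻¹ := by group
        rw [e1]
        exact Z.mul_mem hcZ (Z.inv_mem hmc)
      have hidx : ∀ i < s, ((zkerOn σ Q (wt σ Z (conjWt Z (x ^ i) χ))
          (wt_stable_of_central σ Q Z hZQ hZc _)).subgroupOf Q).index ≤ 2 ^ (2 * j) := by
        intro i hi
        have hYi : wt σ Z (conjWt Z (x ^ i) χ) ≠ ⊥ := wt_ne_bot_conj σ Z (x ^ i) χ hY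
        have hstabi : conjWt Z (x ^ s) (conjWt Z (x ^ i) χ) = conjWt Z (x ^ i) χ :=
          (stab_shift Z x i s χ).2 hstab
        have hminsi : ∀ k, 0 < k → k < s →
            conjWt Z (x ^ k) (conjWt Z (x ^ i) χ) ≠ conjWt Z (x ^ i) χ :=
          fun k hk hks h => hmins k hk hks ((stab_shift Z x i k χ).1 h)
        obtain ⟨a', ha', halt'⟩ := key _ s hYi hs hstabi hminsi
        rcases halt' with h | ⟨-, j', hj', hidx'⟩
        · rw [index_zkerOn_of_trivial σ Q _ _ h]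
          exact Nat.one_le_two_pow
        · have h1 : 2 ^ j' = 2 ^ j := by
            have : p ^ a' = p ^ a := by rw [← ha', ← ha]
            omega
          have h2 : j' = j := Nat.pow_right_injective (le_refl 2) h1
          rw [hidx', h2]
      exact pp_kill σ Q hQ2 Z hZQ hZc hder x p n hp hp2 hord
        (fun z hz h => hfpf z (hZQ hz) h)
        (fun P hPQ hPx hPne m hm => hZτ m (hPQ hm) (hmin P hPQ hPx hPne m hm))
        hsemi χ hY s hs hstab hmins j (by rw [ha, hj]) hidx hne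

end main

end Cfsg.Agent.Lib.Helper4.PPF1
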