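import Mathlib

set_option autoImplicit false

namespace Cfsg.Agent.Lib.Helper4.GR2Schur

open Module

variable {K : Type*} [Field K] [IsAlgClosed K] {Y : Type*} [AddCommGroup Y] [Module K Y]
  [FiniteDimensional K Y] [Nontrivial Y]

/-- Schur's lemma, elementary form: if no proper non-zero subspace is stable under the set `S` of
endomorphisms, every endomorphism commuting with `S` is a scalar. -/
theorem schur_of_irred (S : Set (Module.End K Y))
    (hirr : ∀ U : Submodule K Y, (∀ f ∈ S, U ≤ U.comap f) → U = ⊥ ∨ U = ⊤)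
    (T : Module.End K Y) (hT : ∀ f ∈ S, f * T = T * f) : ∃ c : K, T = c • 1 := by
  obtain ⟨c, hc⟩ := Module.End.exists_eigenvalue T
  refine ⟨c, ?_⟩
  have hU : Module.End.eigenspace T c ≠ ⊥ := hc
  have hinv : ∀ f ∈ S, Module.End.eigenspace T c ≤ (Module.End.eigenspace T c).comap f := by
    intro f hf v hv
    rw [Submodule.mem_comap, Module.End.mem_eigenspace_iff]
    rw [Module.End.mem_eigenspace_iff] at hv
    have h1 : T (f v) = f (T v) := by
      have := LinearMap.congr_fun (hT f hf) v
      simp only [Module.End.mul_apply] at this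
      exact this.symm
    rw [h1, hv, map_smul]
  rcases hirr _ hinv with h | h
  · exact absurd h hU
  · apply LinearMap.ext
    intro v
    have hv : v ∈ Module.End.eigenspace T c := by rw [h]; exact Submodule.mem_top
    rw [Module.End.mem_eigenspace_iff] at hv
    rw [hv, LinearMap.smul_apply, Module.End.one_apply]

/-- the version for a representation, a subgroup and one more element -/
theorem schur_of_irred_rep {G : Type*} [Group G] (ρ : Representation K G Y) (Q : Subgroup G)
    (x : G)
    (hirr : ∀ U : Submodule K Y, (∀ m ∈ Q, U ≤ U.comap (ρ m)) → U ≤ U.comap (ρ x) →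
      U = ⊥ ∨ U = ⊤)
    (T : Module.End K Y) (hQ : ∀ m ∈ Q, ρ m * T = T * ρ m) (hx : ρ x * T = T * ρ x) :
    ∃ c : K, T = c • 1 := by
  apply schur_of_irred ({f | ∃ m ∈ Q, f = ρ m} ∪ {ρ x}) _ T
  · rintro f (⟨m, hm, rfl⟩ | rfl)
    · exact hQ m hm
    · exact hx
  · intro U hU
    apply hirr U
    · intro m hm
      exact hU _ (Or.inl ⟨m, hm, rfl⟩)
    · exact hU _ (Or.inr rfl)

end Cfsg.Agent.Lib.Helper4.GR2Schur
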