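import Mathlib
import Cfsg.Agent.Lib.Helper4.PPD

set_option autoImplicit false
set_option linter.unusedVariables false
set_option linter.unusedSectionVars false
set_option linter.style.haveILetI false

/-! The prime-independent part of `PPD.pp_weight`: on a `Z`-weight space `Y` either `Q` acts
trivially, or `Q` is non-commutative on `Y` and all hypotheses of `Helper9.PPMA.core_bound_pp`
(`second_ineq_pp`, `third_ineq_pp`) hold with `Z₁ := zker ρ Q`.  No hypothesis `p ≠ 2`, no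
arithmetic: reusable for `p = 2` (S3795). -/

namespace Cfsg.Agent.Lib.Helper4.PPD0

open Module Cfsg.Agent.Lib.Helper4.FM Cfsg.Agent.Lib.Helper4.HH Cfsg.Agent.Lib.Helper4.PP
  Cfsg.Agent.Lib.Lead

open Cfsg.Agent.Lib.Helper6.PPMB (ab_comm_trivial_pp)

open scoped commutatorElement

universe u

variable {K : Type*} [Field K] [IsAlgClosed K] {G : Type u} [Group G] [Finite G] {W : Type*}
  [AddCommGroup W] [Module K W] [FiniteDimensional K W] (σ : Representation K G W)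
  (Q : Subgroup G) [hQn : Q.Normal]

theorem pp_weight_hyps (q : ℕ) (hq : q.Prime) (hQ : IsPGroup q Q) (hqK : (q : K) ≠ 0)
    (Z : Subgroup G) (hZQ : Z ≤ Q)
    (hZc : ∀ z ∈ Z, ∀ m ∈ Q, m * z = z * m)
    (hder : ∀ u ∈ Q, ∀ v ∈ Q, ⁅u, v⁆ ∈ Z)
    (y τ : G) (p a : ℕ) (hp : p.Prime) (hqp : q ≠ p) (hy : orderOf y = p ^ a)
    (hcyc : ∀ e ∈ Subgroup.zpowers y, e ≠ 1 → τ ∈ Subgroup.zpowers e)
    (hτy : τ ∈ Subgroup.zpowers y)
    (hZτ : ∀ m ∈ Q, τ * m = m * τ → m ∈ Z)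
    (Hgenτ : ∀ S : Subgroup G, (∀ m ∈ Q, m⁻¹ * τ⁻¹ * m * τ ∈ S) → Q ≤ S)
    (Y : Submodule K W) (hYinv : ∀ g, Y ≤ Y.comap (σ g)) (hY : Y ≠ ⊥)
    (hZs : ∀ z ∈ Z, ∃ c : K, ∀ v ∈ Y, σ z v = c • v)
    (H4 : ∀ v ∈ Y, σ y v = v → v = 0) :
    (∀ m ∈ Q, ∀ v ∈ Y, σ m v = v) ∨
    ((¬ ∀ a b : Q, Commute (σ.subrepresentation Y hYinv (a : G))
        (σ.subrepresentation Y hYinv (b : G))) ∧
     Z ≤ zker (σ.subrepresentation Y hYinv) Q ∧
     (∀ n ∈ zker (σ.subrepresentation Y hYinv) Q, ∃ c : K,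
        σ.subrepresentation Y hYinv n = c • 1) ∧
     (∀ u ∈ Q, ∀ v ∈ Q, ∃ c : K, σ.subrepresentation Y hYinv ⁅u, v⁆ = c • 1) ∧
     (∀ v ∈ Q, (∀ u ∈ Q, σ.subrepresentation Y hYinv ⁅u, v⁆ = 1) →
        v ∈ zker (σ.subrepresentation Y hYinv) Q) ∧
     (∀ e ∈ Subgroup.zpowers y, e ≠ 1 → ∀ S : Subgroup G,
        (∀ m ∈ Q, m⁻¹ * e⁻¹ * m * e ∈ S) → zker (σ.subrepresentation Y hYinv) Q ≤ S → Q ≤ S) ∧
     (∀ e ∈ Subgroup.zpowers y, e ≠ 1 → ∀ c ∈ Q, e * c = c * e →
        c ∈ zker (σ.subrepresentation Y hYinv) Q) ∧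
     inv (σ.subrepresentation Y hYinv) (Subgroup.zpowers y) = ⊥) := by
  classical
  haveI : Fact q.Prime := ⟨hq⟩
  set ρ : Representation K G Y := σ.subrepresentation Y hYinv with hρ
  have hρval : ∀ (g : G) (w : Y), ((ρ g w : Y) : W) = σ g (w : W) := fun g w => rfl
  haveI : Nontrivial Y := (Submodule.nontrivial_iff_ne_bot).2 hY
  obtain ⟨N, hN⟩ := IsPGroup.iff_card.1 hQ
  have hQK : (Nat.card Q : K) ≠ 0 := by
    rw [hN, Nat.cast_pow]
    exact pow_ne_zero N hqK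
  have hfin : IsOfFinOrder y := isOfFinOrder_of_finite y
  have H4' : ∀ w : Y, ρ y w = w → w = 0 := by
    intro w hw
    apply Subtype.ext
    apply H4 w w.2
    have := congrArg Subtype.val hw
    rwa [hρval] at this
  have H4inv : inv ρ (Subgroup.zpowers y) = ⊥ := by
    rw [Submodule.eq_bot_iff]
    intro w hw
    exact H4' w (hw y (Subgroup.mem_zpowers y))
  have hsolvQ : Group.IsSolvable Q := min_solvable Q q hq hQ
  have hcoppq : Nat.Coprime p q := (Nat.coprime_primes hp hq).2 (Ne.symm hqp)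
  have hcop : ∀ e ∈ Subgroup.zpowers y, ∀ T : Subgroup G, T ≤ Q →
      (Nat.card (Subgroup.zpowers e)).Coprime (Nat.card T) := by
    intro e he T hTQ
    have h1 : Nat.card (Subgroup.zpowers e) ∣ p ^ a := by
      rw [← hy, ← Nat.card_zpowers y]
      exact Subgroup.card_dvd_of_le ((Subgroup.zpowers_le).2 he)
    have h2 : Nat.card T ∣ q ^ N := by
      rw [← hN]
      exact Subgroup.card_dvd_of_le hTQ
    exact Nat.Coprime.coprime_dvd_left h1 (Nat.Coprime.coprime_dvd_right h2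
      (Nat.Coprime.pow _ _ hcoppq))
  -- the kernel of `ρ`
  let S₁ : Subgroup G :=
    { carrier := {g | ρ g = 1}
      one_mem' := map_one ρ
      mul_mem' := by
        intro a b ha hb
        show ρ (a * b) = 1
        rw [map_mul, show ρ a = 1 from ha, show ρ b = 1 from hb, one_mul]
      inv_mem' := by
        intro a ha
        show ρ a⁻¹ = 1
        have h1 : ρ a⁻¹ * ρ a = 1 := by rw [← map_mul, inv_mul_cancel, map_one]
        rwa [show ρ a = 1 from ha, mul_one] at h1 }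
  by_cases hall : ∀ a b : Q, Commute (ρ (a : G)) (ρ (b : G))
  · left
    have h1 := ab_comm_trivial_pp ρ Q hQK hall y τ hfin hcyc H4'
    have hQS : Q ≤ S₁ := Hgenτ S₁ h1
    intro m hm v hv
    have h2 : ρ m = 1 := hQS hm
    have h3 := LinearMap.congr_fun h2 ⟨v, hv⟩
    exact congrArg Subtype.val h3
  · right
    set T : Subgroup G := zker ρ Q with hT
    haveI hTn : T.Normal := zker_normal ρ Q
    have hTQ : T ≤ Q := zker_le ρ Q
    have hZT : Z ≤ T := by
      intro z hz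
      refine ⟨hZQ hz, fun u hu => ?_⟩
      show ρ z * ρ u = ρ u * ρ z
      rw [← map_mul, ← map_mul, hZc z hz u hu]
    have hTK : (Nat.card T : K) ≠ 0 := cast_card_ne_zero_of_le hTQ hQK
    have h2 := ab_comm_trivial_pp ρ T hTK (zker_comm ρ Q) y τ hfin hcyc H4'
    -- the scalar subgroup
    have hscal0 : ∀ (g : G) (c : K), ρ g = c • 1 → c ≠ 0 := by
      intro g c hg hc0
      have h1 : ρ g⁻¹ * ρ g = 1 := by rw [← map_mul, inv_mul_cancel, map_one]
      rw [hg, hc0, zero_smul, mul_zero] at h1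
      obtain ⟨w, hw⟩ := exists_ne (0 : Y)
      apply hw
      have := LinearMap.congr_fun h1 w
      rw [LinearMap.zero_apply, Module.End.one_apply] at this
      exact this.symm
    let S₂ : Subgroup G :=
      { carrier := {g | ∃ c : K, ρ g = c • 1}
        one_mem' := ⟨1, by rw [map_one, one_smul]⟩
        mul_mem' := by
          rintro a b ⟨c, hc⟩ ⟨d, hd⟩
          refine ⟨c * d, ?_⟩
          rw [map_mul, hc, hd, smul_mul_assoc, one_mul, smul_smul]
        inv_mem' := by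
          rintro a ⟨c, hc⟩
          refine ⟨c⁻¹, ?_⟩
          have hc0 := hscal0 a c hc
          have h1 : ρ a⁻¹ * ρ a = 1 := by rw [← map_mul, inv_mul_cancel, map_one]
          rw [hc, mul_smul_comm, mul_one] at h1
          rw [← h1, smul_smul, inv_mul_cancel₀ hc0, one_smul] }
    have hZS₂ : Z ≤ S₂ := by
      intro z hz
      obtain ⟨c, hc⟩ := hZs z hz
      refine ⟨c, ?_⟩
      apply LinearMap.ext
      intro w
      apply Subtype.ext
      rw [hρval]
      exact hc w w.2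
    have hτT : ∀ m ∈ T, τ * m = m * τ → m ∈ Z := fun m hm h => hZτ m (hTQ hm) h
    have hgenT := gen_of_coprime T τ (by rw [Subgroup.normalizer_eq_top]; exact le_top)
      (hcop τ hτy T hTQ) (isSolvable_of_le hTQ) Z
      (fun m hm => hτT m hm.1 ((mem_centralizer_zpowers_iff m τ).1 hm.2))
    have hTS : T ≤ S₂ :=
      hgenT S₂ (fun m hm => ⟨1, by rw [h2 m hm, one_smul]⟩) hZS₂
    have H1 : ∀ u ∈ Q, ∀ v ∈ Q, ∃ c : K, ρ ⁅u, v⁆ = c • 1 :=
      fun u hu v hv => hTS (hZT (hder u hu v hv))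
    have H2 : ∀ v ∈ Q, (∀ u ∈ Q, ρ ⁅u, v⁆ = 1) → v ∈ T :=
      fun v hv h => ⟨hv, fun u hu => commute_of_comm_eq_one ρ u v (h u hu)⟩
    have hCe : ∀ e ∈ Subgroup.zpowers y, e ≠ 1 → ∀ c ∈ Q, e * c = c * e → c ∈ T := by
      intro e he he1 c hc hec
      apply hZT
      apply hZτ c hc
      obtain ⟨i, hi⟩ := Subgroup.mem_zpowers_iff.1 (hcyc e he he1)
      rw [← hi]
      have : Commute e c := hec
      exact (this.zpow_left i).eq
    have Hgen : ∀ e ∈ Subgroup.zpowers y, e ≠ 1 → ∀ S : Subgroup G,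
        (∀ m ∈ Q, m⁻¹ * e⁻¹ * m * e ∈ S) → T ≤ S → Q ≤ S := by
      intro e he he1
      exact gen_of_coprime Q e (by rw [Subgroup.normalizer_eq_top]; exact le_top)
        (hcop e he Q le_rfl) hsolvQ T
        (fun m hm => hCe e he he1 m hm.1 ((mem_centralizer_zpowers_iff m e).1 hm.2))
    exact ⟨hall, hZT, fun n hn => hTS hn, H1, H2, Hgen, hCe, H4inv⟩

end Cfsg.Agent.Lib.Helper4.PPD0
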