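import Mathlib
import Cfsg.Agent.Lib.Helper4.PPD0
import Cfsg.Agent.Lib.Helper4.PPD2
import Cfsg.Agent.Lib.Helper4.GR2Schur
import Cfsg.Agent.Lib.Helper2.GrPWA

set_option autoImplicit false
set_option linter.unusedVariables false
set_option linter.unusedSectionVars false
set_option linter.style.haveILetI false

/-! S3795 (Gross, `p = 2`), package PW-B: the sharp per-weight lemma on a `Q⟨y⟩`-irreducible
piece `Y`: either `Q` is trivial on `Y`, or `4 ∣ |y|` and every non-trivial `|y|`-th root of unity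
is an eigenvalue of `y` on `Y`.  (`PPD0.pp_weight_hyps` transported to `Q ⊔ ⟨y⟩`, then
`GrPWA.pw_piece` with Schur from `GR2Schur.schur_of_irred_rep`.) -/

namespace Cfsg.Agent.Lib.Helper4.GR2PWB

open Module Cfsg.Agent.Lib.Helper4.FM Cfsg.Agent.Lib.Helper4.HH Cfsg.Agent.Lib.Helper4.PP
  Cfsg.Agent.Lib.Lead Cfsg.Agent.Lib.Helper4.PPD2

open scoped commutatorElement

universe u

variable {K : Type*} [Field K] [IsAlgClosed K] {G : Type u} [Group G] [Finite G] {W : Type*}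
  [AddCommGroup W] [Module K W] [FiniteDimensional K W] (σ : Representation K G W)
  (Q : Subgroup G) [hQn : Q.Normal]

theorem pw2 (q : ℕ) (hq : q.Prime) (hQ : IsPGroup q Q) (hqK : (q : K) ≠ 0)
    (Z : Subgroup G) (hZQ : Z ≤ Q)
    (hZc : ∀ z ∈ Z, ∀ m ∈ Q, m * z = z * m)
    (hder : ∀ u ∈ Q, ∀ v ∈ Q, ⁅u, v⁆ ∈ Z)
    (y τ : G) (a : ℕ) (hq2 : q ≠ 2) (hy : orderOf y = 2 ^ a) (h2K : (2 : K) ≠ 0)
    (hcyc : ∀ e ∈ Subgroup.zpowers y, e ≠ 1 → τ ∈ Subgroup.zpowers e)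
    (hτy : τ ∈ Subgroup.zpowers y)
    (hZτ : ∀ m ∈ Q, τ * m = m * τ → m ∈ Z)
    (Hgenτ : ∀ S : Subgroup G, (∀ m ∈ Q, m⁻¹ * τ⁻¹ * m * τ ∈ S) → Q ≤ S)
    (Y : Submodule K W) (hYQ : ∀ m ∈ Q, Y ≤ Y.comap (σ m)) (hYy : Y ≤ Y.comap (σ y))
    (hY : Y ≠ ⊥)
    (hirr : ∀ Y₁ : Submodule K W, Y₁ ≤ Y → (∀ m ∈ Q, Y₁ ≤ Y₁.comap (σ m)) →
      Y₁ ≤ Y₁.comap (σ y) → Y₁ = ⊥ ∨ Y₁ = Y)
    (hZs : ∀ z ∈ Z, ∃ c : K, ∀ v ∈ Y, σ z v = c • v)
    (H4 : ∀ v ∈ Y, σ y v = v → v = 0) :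
    (∀ m ∈ Q, ∀ v ∈ Y, σ m v = v) ∨
    (2 ≤ a ∧ ∀ μ : K, μ ^ (2 ^ a) = 1 → μ ≠ 1 → ∃ v ∈ Y, v ≠ 0 ∧ σ y v = μ • v) := by
  classical
  set G₀ : Subgroup G := Q ⊔ Subgroup.zpowers y with hG₀
  have hQG₀ : Q ≤ G₀ := le_sup_left
  have hyG₀ : y ∈ G₀ := (le_sup_right : Subgroup.zpowers y ≤ G₀) (Subgroup.mem_zpowers y)
  have hτG₀ : τ ∈ G₀ := (le_sup_right : Subgroup.zpowers y ≤ G₀) hτy
  let σ₀ : Representation K G₀ W := σ.comp G₀.subtype
  have hσ₀ : ∀ g : G₀, σ₀ g = σ (g : G) := fun g => rfl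
  set Q₀ : Subgroup G₀ := Q.subgroupOf G₀ with hQ₀
  haveI hQ₀n : Q₀.Normal := hQn.subgroupOf G₀
  set Z₀ : Subgroup G₀ := Z.subgroupOf G₀ with hZ₀
  let y₀ : G₀ := ⟨y, hyG₀⟩
  let τ₀ : G₀ := ⟨τ, hτG₀⟩
  have hfin : IsOfFinOrder y := isOfFinOrder_of_finite y
  -- stability of `Y` under `G₀`
  have hG₀stab : G₀ ≤ stabY σ Y := by
    apply sup_le
    · intro m hm
      exact ⟨hYQ m hm, hYQ m⁻¹ (Q.inv_mem hm)⟩
    · rw [Subgroup.zpowers_le]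
      exact mem_stabY_of_finOrder σ Y y hfin hYy
  have hYinv₀ : ∀ g : G₀, Y ≤ Y.comap (σ₀ g) := fun g => (hG₀stab g.2).1
  have hQ₀p : IsPGroup q Q₀ := hQ.comap_subtype
  have hZ₀Q₀ : Z₀ ≤ Q₀ := fun m hm => hZQ hm
  have hZc₀ : ∀ z ∈ Z₀, ∀ m ∈ Q₀, m * z = z * m := by
    intro z hz m hm
    apply Subtype.ext
    exact hZc z hz m hm
  have hcoe_comm : ∀ u v : G₀, ((⁅u, v⁆ : G₀) : G) = ⁅(u : G), (v : G)⁆ := by
    intro u v
    rw [commutatorElement_def, commutatorElement_def]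
    simp
  have hder₀ : ∀ u ∈ Q₀, ∀ v ∈ Q₀, ⁅u, v⁆ ∈ Z₀ := by
    intro u hu v hv
    show ((⁅u, v⁆ : G₀) : G) ∈ Z
    rw [hcoe_comm]
    exact hder u hu v hv
  have hy₀ : orderOf y₀ = 2 ^ a := by
    rw [← hy]
    exact Subgroup.orderOf_mk y hyG₀
  have hzp : ∀ e : G₀, e ∈ Subgroup.zpowers y₀ → (e : G) ∈ Subgroup.zpowers y := by
    intro e he
    obtain ⟨i, rfl⟩ := Subgroup.mem_zpowers_iff.1 he
    rw [Subgroup.coe_zpow]
    exact Subgroup.zpow_mem _ (Subgroup.mem_zpowers y) i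
  have hcyc₀ : ∀ e ∈ Subgroup.zpowers y₀, e ≠ 1 → τ₀ ∈ Subgroup.zpowers e := by
    intro e he he1
    have h1 : (e : G) ≠ 1 := fun h => he1 (Subtype.ext h)
    obtain ⟨i, hi⟩ := Subgroup.mem_zpowers_iff.1 (hcyc (e : G) (hzp e he) h1)
    rw [Subgroup.mem_zpowers_iff]
    refine ⟨i, ?_⟩
    apply Subtype.ext
    rw [Subgroup.coe_zpow]
    exact hi
  have hτy₀ : τ₀ ∈ Subgroup.zpowers y₀ := by
    obtain ⟨i, hi⟩ := Subgroup.mem_zpowers_iff.1 hτy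
    rw [Subgroup.mem_zpowers_iff]
    refine ⟨i, ?_⟩
    apply Subtype.ext
    rw [Subgroup.coe_zpow]
    exact hi
  have hZτ₀ : ∀ m ∈ Q₀, τ₀ * m = m * τ₀ → m ∈ Z₀ := by
    intro m hm h
    apply hZτ (m : G) hm
    have := congrArg Subtype.val h
    simpa using this
  have Hgenτ₀ : ∀ S : Subgroup G₀, (∀ m ∈ Q₀, m⁻¹ * τ₀⁻¹ * m * τ₀ ∈ S) → Q₀ ≤ S := by
    intro S hS
    have h1 : Q ≤ S.map G₀.subtype := by
      apply Hgenτ
      intro m hm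
      refine ⟨(⟨m, hQG₀ hm⟩ : G₀)⁻¹ * τ₀⁻¹ * ⟨m, hQG₀ hm⟩ * τ₀, hS ⟨m, hQG₀ hm⟩ hm, ?_⟩
      simp [τ₀]
    intro m hm
    obtain ⟨s, hs, hsm⟩ := h1 hm
    have : s = m := Subtype.ext hsm
    rw [← this]
    exact hs
  have hZs₀ : ∀ z ∈ Z₀, ∃ c : K, ∀ v ∈ Y, σ₀ z v = c • v := fun z hz => hZs (z : G) hz
  have H4₀ : ∀ v ∈ Y, σ₀ y₀ v = v → v = 0 := H4
  have hmain := Cfsg.Agent.Lib.Helper4.PPD0.pp_weight_hyps σ₀ Q₀ q hq hQ₀p hqK Z₀ hZ₀Q₀ hZc₀ hder₀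
    y₀ τ₀ 2 a Nat.prime_two hq2 hy₀ hcyc₀ hτy₀ hZτ₀ Hgenτ₀ Y hYinv₀ hY hZs₀ H4₀
  rcases hmain with h | ⟨hnc, hZ1, hHs, hH1, hH2, hHgen, hCe, hinv⟩
  · left
    intro m hm v hv
    exact h ⟨m, hQG₀ hm⟩ hm v hv
  · right
    set ρ : Representation K G₀ Y := σ₀.subrepresentation Y hYinv₀ with hρ
    have hρval : ∀ (g : G₀) (w : Y), ((ρ g w : Y) : W) = σ (g : G) (w : W) := fun g w => rfl
    haveI : Nontrivial Y := (Submodule.nontrivial_iff_ne_bot).2 hY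
    haveI : Fact q.Prime := ⟨hq⟩
    obtain ⟨N, hN⟩ := IsPGroup.iff_card.1 hQ₀p
    have hQK : (Nat.card Q₀ : K) ≠ 0 := by
      rw [hN, Nat.cast_pow]
      exact pow_ne_zero N hqK
    have hfin₀ : IsOfFinOrder y₀ := isOfFinOrder_of_finite y₀
    have hrK : (orderOf y₀ : K) ≠ 0 := by
      rw [hy₀, Nat.cast_pow]
      exact pow_ne_zero a (by exact_mod_cast h2K)
    -- Schur
    have hirr' : ∀ U : Submodule K Y, (∀ m ∈ Q₀, U ≤ U.comap (ρ m)) → U ≤ U.comap (ρ y₀) →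
        U = ⊥ ∨ U = ⊤ := by
      intro U hUQ hUy
      have hmapmem : ∀ (g : G₀), U ≤ U.comap (ρ g) →
          U.map Y.subtype ≤ (U.map Y.subtype).comap (σ (g : G)) := by
        intro g hg v hv
        obtain ⟨w, hw, rfl⟩ := (Submodule.mem_map).1 hv
        rw [Submodule.mem_comap, Submodule.mem_map]
        exact ⟨ρ g w, hg hw, rfl⟩
      have h1 : U.map Y.subtype ≤ Y := by
        intro v hv
        obtain ⟨w, hw, rfl⟩ := (Submodule.mem_map).1 hv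
        exact w.2
      rcases hirr (U.map Y.subtype) h1
        (fun m hm => hmapmem ⟨m, hQG₀ hm⟩ (hUQ ⟨m, hQG₀ hm⟩ hm)) (hmapmem y₀ hUy) with h | h
      · left
        rw [Submodule.eq_bot_iff]
        intro w hw
        have : (w : W) ∈ U.map Y.subtype := (Submodule.mem_map).2 ⟨w, hw, rfl⟩
        rw [h, Submodule.mem_bot] at this
        exact Subtype.ext this
      · right
        rw [Submodule.eq_top_iff']
        intro w
        have : (w : W) ∈ U.map Y.subtype := by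
          rw [h]
          exact w.2
        obtain ⟨w', hw', hww'⟩ := (Submodule.mem_map).1 this
        have : w' = w := Subtype.ext hww'
        rw [← this]
        exact hw'
    have hschur : ∀ T : Module.End K Y, (∀ m ∈ Q₀, ρ m * T = T * ρ m) → ρ y₀ * T = T * ρ y₀ →
        ∃ c : K, T = c • 1 := fun T hTQ hTy =>
      Cfsg.Agent.Lib.Helper4.GR2Schur.schur_of_irred_rep ρ Q₀ y₀ hirr' T hTQ hTy
    -- dimension at least two
    have hd : 2 ≤ finrank K Y := by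
      by_contra hlt
      push Not at hlt
      have hpos : 0 < finrank K Y := Module.finrank_pos
      have h1 : finrank K Y = 1 := by omega
      apply hnc
      intro a' b'
      obtain ⟨w₀, hw₀⟩ := finrank_eq_one_iff'.1 h1
      have hsc : ∀ T : Module.End K Y, ∃ c : K, T = c • 1 := by
        intro T
        obtain ⟨c, hc⟩ := hw₀.2 (T w₀)
        refine ⟨c, ?_⟩
        apply LinearMap.ext
        intro w
        obtain ⟨d, hd⟩ := hw₀.2 w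
        rw [← hd, map_smul, ← hc, LinearMap.smul_apply, Module.End.one_apply, smul_comm]
      obtain ⟨c₁, hc₁⟩ := hsc (ρ (a' : G₀))
      obtain ⟨c₂, hc₂⟩ := hsc (ρ (b' : G₀))
      show ρ (a' : G₀) * ρ (b' : G₀) = ρ (b' : G₀) * ρ (a' : G₀)
      rw [hc₁, hc₂, smul_mul_assoc, smul_mul_assoc, one_mul, one_mul]
      exact smul_comm c₁ c₂ _
    have hpiece := Cfsg.Agent.Lib.Helper2.GrPWA.pw_piece ρ Q₀ hQK hH1 (zker ρ Q₀) (zker_le ρ Q₀)
      hHs y₀ hfin₀ hrK hHgen hinv hschur hd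
    obtain ⟨hdim, heig⟩ := hpiece
    rw [hy₀] at hdim heig
    constructor
    · by_contra hlt
      push Not at hlt
      have h2a : 2 ^ a ≤ 2 := by
        calc 2 ^ a ≤ 2 ^ 1 := Nat.pow_le_pow_right (by norm_num) (by omega)
          _ = 2 := by norm_num
      omega
    · intro μ hμ hμ1
      have hne := heig μ hμ hμ1
      obtain ⟨w, hw, hw0⟩ := Submodule.exists_mem_ne_zero_of_ne_bot hne
      rw [Module.End.mem_eigenspace_iff] at hw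
      refine ⟨(w : W), w.2, fun h => hw0 (Subtype.ext h), ?_⟩
      have := congrArg Subtype.val hw
      rw [hρval] at this
      exact this

end Cfsg.Agent.Lib.Helper4.GR2PWB
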