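import Mathlib
import Cfsg.Agent.Lib.Helper4.PPF1
import Cfsg.Agent.Lib.Helper9.GR2PWC

set_option autoImplicit false
set_option linter.unusedVariables false
set_option linter.unusedSectionVars false
set_option linter.style.haveILetI false

/-! S3795 (Gross, `p = 2`), package CORE: the minimal closed configuration over an algebraically
closed field (frame of `PPF1.pp_min_closed` with `p = 2`, the per-weight step being
`Helper9.GR2PWC.pw2_space`). -/

namespace Cfsg.Agent.Lib.Helper4.GR2CORE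

open Module Cfsg.Agent.Lib.Helper4.FM Cfsg.Agent.Lib.Helper4.HH Cfsg.Agent.Lib.Helper4.PP
  Cfsg.Agent.Lib.Lead Cfsg.Agent.Lib.Helper7.PPMC

open Cfsg.Agent.Lib.Helper6.PPMB (orbit_sum_fixed)
open Cfsg.Agent.Lib.Helper4.PPE (wt_stable_of_central)
open Cfsg.Agent.Lib.Helper4.PPF1 (exists_min_stab)
open Cfsg.Agent.Lib.Helper9.GR2PWC (pw2_space)

open scoped commutatorElement

universe u

section cyc

variable {G : Type*} [Group G]

/-- an element of a subgroup `{1, e}` different from `1` is `e`. -/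
theorem eq_of_mem_zpowers_of_sq (e t : G) (he2 : e ^ 2 = 1) (ht : t ∈ Subgroup.zpowers e)
    (ht1 : t ≠ 1) : t = e := by
  obtain ⟨k, rfl⟩ := Subgroup.mem_zpowers_iff.1 ht
  have hk : k = 2 * (k / 2) + k % 2 := (Int.mul_ediv_add_emod k 2).symm
  have h2 : e ^ (2 : ℤ) = 1 := by
    rw [show (2 : ℤ) = ((2 : ℕ) : ℤ) from rfl, zpow_natCast]
    exact he2
  rcases Int.emod_two_eq_zero_or_one k with h | h
  · exfalso
    apply ht1
    rw [hk, h, add_zero, zpow_mul, h2, one_zpow]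
  · rw [hk, h, zpow_add, zpow_mul, h2, one_zpow, one_mul, zpow_one]

/-- in the cyclic `2`-group `⟨x⟩` the element `ι = x ^ (2 ^ (n - 1))` of order four is a power
`y ^ k` with `k = 2 ^ (a - 2)` or `k = 3 * 2 ^ (a - 2)` of every `y` of order `2 ^ a ≥ 4`. -/
theorem iota_eq_pow (x : G) (n : ℕ) (hn : 1 ≤ n) (hx : x ^ (2 ^ (n + 1)) = 1)
    (hcyc : ∀ e ∈ Subgroup.zpowers x, e ≠ 1 → x ^ (2 ^ n) ∈ Subgroup.zpowers e)
    (hτ1 : x ^ (2 ^ n) ≠ 1)
    (y : G) (hyx : y ∈ Subgroup.zpowers x) (a : ℕ) (ha : 2 ≤ a) (hy : orderOf y = 2 ^ a) :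
    x ^ (2 ^ (n - 1)) = y ^ (2 ^ (a - 2)) ∨ x ^ (2 ^ (n - 1)) = y ^ (3 * 2 ^ (a - 2)) := by
  set ι : G := x ^ (2 ^ (n - 1)) with hι
  set τ : G := x ^ (2 ^ n) with hτ
  set c : G := y ^ (2 ^ (a - 2)) with hc
  have hι2 : ι ^ 2 = τ := by
    rw [hι, hτ, ← pow_mul]
    congr 1
    obtain ⟨n', rfl⟩ : ∃ n', n = n' + 1 := ⟨n - 1, by omega⟩
    rw [Nat.add_sub_cancel, pow_succ]
  have hτ2 : τ ^ 2 = 1 := by
    rw [hτ, ← pow_mul, ← pow_succ]
    exact hx
  have hc2 : c ^ 2 = y ^ (2 ^ (a - 1)) := by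
    rw [hc, ← pow_mul]
    congr 1
    obtain ⟨a', rfl⟩ : ∃ a', a = a' + 2 := ⟨a - 2, by omega⟩
    rw [Nat.add_sub_cancel, show a' + 2 - 1 = a' + 1 by omega, pow_succ]
  have hc4 : (c ^ 2) ^ 2 = 1 := by
    rw [hc2, ← pow_mul, ← pow_succ, show a - 1 + 1 = a by omega, ← hy]
    exact pow_orderOf_eq_one y
  have hc2ne : c ^ 2 ≠ 1 := by
    rw [hc2]
    apply pow_ne_one_of_lt_orderOf (by positivity)
    rw [hy]
    exact Nat.pow_lt_pow_right (by norm_num) (by omega)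
  have hcx : c ∈ Subgroup.zpowers x := Subgroup.pow_mem _ hyx _
  have hιx : ι ∈ Subgroup.zpowers x := Subgroup.pow_mem _ (Subgroup.mem_zpowers x) _
  have hc2τ : c ^ 2 = τ :=
    (eq_of_mem_zpowers_of_sq (c ^ 2) τ hc4 (hcyc _ (Subgroup.pow_mem _ hcx 2) hc2ne) hτ1).symm
  have hcomm : Commute c ι := by
    obtain ⟨i, hi⟩ := Subgroup.mem_zpowers_iff.1 hcx
    rw [← hi, hι]
    exact ((Commute.refl x).zpow_left i).pow_right _
  have he2 : (c * ι⁻¹) ^ 2 = 1 := by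
    rw [hcomm.inv_right.mul_pow, inv_pow, hc2τ, hι2, mul_inv_cancel]
  have hc3 : c ^ 3 = y ^ (3 * 2 ^ (a - 2)) := by
    rw [hc, ← pow_mul, mul_comm]
  by_cases he1 : c * ι⁻¹ = 1
  · left
    have : c = ι := by
      have := mul_inv_eq_one.1 he1
      exact this
    exact this.symm
  · right
    have hex : c * ι⁻¹ ∈ Subgroup.zpowers x :=
      (Subgroup.zpowers x).mul_mem hcx ((Subgroup.zpowers x).inv_mem hιx)
    have h1 : τ = c * ι⁻¹ := eq_of_mem_zpowers_of_sq _ τ he2 (hcyc _ hex he1) hτ1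
    rw [← hc3]
    -- `ι = τ⁻¹ * c = c ^ 2 * c` up to `τ ^ 2 = 1`
    have h2 : ι = τ⁻¹ * c := by
      rw [h1]
      have : (c * ι⁻¹)⁻¹ * c = ι := by
        rw [mul_inv_rev, inv_inv, mul_assoc, inv_mul_cancel, mul_one]
      exact this.symm
    have h3 : τ⁻¹ = τ := by
      rw [inv_eq_iff_mul_eq_one, ← pow_two]
      exact hτ2
    rw [h2, h3, ← hc2τ, pow_succ c 2]

end cyc

section main

variable {K : Type*} [Field K] [IsAlgClosed K] {G : Type u} [Group G] [Finite G] {W : Type*}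
  [AddCommGroup W] [Module K W] [FiniteDimensional K W] (σ : Representation K G W)
  (Q : Subgroup G) [hQn : Q.Normal]

theorem gr2_core (hσ : ∀ m : G, σ m = 1 → m = 1)
    (x : G) (q n : ℕ) (hq : q.Prime) (hq2 : q ≠ 2)
    (hQ : IsPGroup q Q) (hx : x ^ (2 ^ (n + 1)) = 1)
    (hgen : ∀ S : Subgroup G, Q ≤ S → x ∈ S → S = ⊤)
    (hqK : (q : K) ≠ 0) (h2K : (2 : K) ≠ 0)
    (hfpf : ∀ m ∈ Q, x * m = m * x → m = 1)
    (hmin : ∀ P : Subgroup G, P ≤ Q → (∀ m ∈ P, x * m * x⁻¹ ∈ P) → P ≠ Q →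
      ∀ m ∈ P, x ^ (2 ^ n) * m = m * x ^ (2 ^ n))
    (hnc : ∃ u ∈ Q, x ^ (2 ^ n) * u ≠ u * x ^ (2 ^ n))
    (H4σ : inv σ (Subgroup.zpowers x) = ⊥) :
    1 ≤ n ∧ (∃ v : W, v ≠ 0 ∧ σ (x ^ (2 ^ (n - 1))) v = -v) ∧
      ∀ f : W →ₗ[K] W, (∀ m ∈ Q, ∀ v, f (σ m v) = σ m (f v)) →
        ∀ u ∈ Q, ∀ w ∈ Q, ∀ v : W,
          f (σ (x ^ (2 ^ (n - 1))) (σ ⁅u, w⁆ v - v)) =
            σ (x ^ (2 ^ (n - 1))) (f (σ ⁅u, w⁆ v - v)) := by
  classical
  haveI : Fact q.Prime := ⟨hq⟩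
  have hp : (2 : ℕ).Prime := Nat.prime_two
  set τ : G := x ^ (2 ^ n) with hτ
  set Z : Subgroup G :=
    Q ⊓ Subgroup.centralizer ((Subgroup.zpowers τ : Subgroup G) : Set G) with hZdef
  have hfinx : IsOfFinOrder x := isOfFinOrder_of_finite x
  have hZQ : Z ≤ Q := inf_le_left
  have hZτ : ∀ m ∈ Q, τ * m = m * τ → m ∈ Z := fun m hm h =>
    Subgroup.mem_inf.2 ⟨hm, (mem_centralizer_zpowers_iff m τ).2 h⟩
  have hZcomm : ∀ z ∈ Z, τ * z = z * τ := fun z hz => (mem_centralizer_zpowers_iff z τ).1 hz.2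
  have hcentral := pp_central Q x 2 q n hp hq hq2 hQ hx hmin hnc
  have hZc : ∀ z ∈ Z, ∀ m ∈ Q, m * z = z * m := fun z hz m hm =>
    (hcentral z hz.1 (hZcomm z hz) m hm).symm
  have hK1 := pp_K1 Q x 2 q n hq hQ hmin hnc
  have hder : ∀ u ∈ Q, ∀ v ∈ Q, ⁅u, v⁆ ∈ Z := fun u hu v hv =>
    hZτ _ (K1_le Q q (comm_mem_K1 Q q u v hu hv)) (hK1 _ (comm_mem_K1 Q q u v hu hv))
  have hxτ : ∀ c ∈ Subgroup.zpowers x, c * τ = τ * c := by
    intro c hc
    obtain ⟨i, rfl⟩ := Subgroup.mem_zpowers_iff.1 hc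
    exact ((Commute.refl x).zpow_left i).pow_right (2 ^ n) |>.eq
  have hZconj : ∀ c ∈ Subgroup.zpowers x, ∀ z ∈ Z, c * z * c⁻¹ ∈ Z := by
    intro c hc z hz
    apply hZτ _ (hQn.conj_mem z hz.1 c)
    have h1 : Commute τ c := (hxτ c hc).symm
    have h2 : Commute τ z := hZcomm z hz
    exact ((h1.mul_right h2).mul_right h1.inv_right).eq
  have hZnorm : Z.Normal := by
    have hN : Subgroup.normalizer (Z : Set G) = ⊤ := by
      apply hgen
      · apply Cfsg.Agent.Lib.Helper4.SecMod.le_normalizer_of_conj_mem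
        intro c hc z hz
        have : c * z = z * c := hZc z hz c hc
        rw [this, mul_assoc, mul_inv_cancel, mul_one]
        exact hz
      · have := Cfsg.Agent.Lib.Helper4.SecMod.le_normalizer_of_conj_mem (Subgroup.zpowers x) Z hZconj
        exact this (Subgroup.mem_zpowers x)
    exact Subgroup.normalizer_eq_top_iff.1 hN
  haveI := hZnorm
  obtain ⟨N, hN⟩ := IsPGroup.iff_card.1 hQ
  have hQK : (Nat.card Q : K) ≠ 0 := by
    rw [hN, Nat.cast_pow]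
    exact pow_ne_zero N hqK
  have hZK : (Nat.card Z : K) ≠ 0 := cast_card_ne_zero_of_le hZQ hQK
  have hcommZ : ∀ a b : Z, Commute (σ (a : G)) (σ (b : G)) := by
    intro a b
    show σ (a : G) * σ (b : G) = σ (b : G) * σ (a : G)
    rw [← map_mul, ← map_mul, hZc b b.2 a (hZQ a.2)]
  have hspan := iSup_wt_eq_top σ Z hcommZ hZK
  have hxfix : ∀ w : W, σ x w = w → w = 0 := by
    intro w hw
    have hxf : x ∈ fixer σ w := hw
    have hle : Subgroup.zpowers x ≤ fixer σ w := (Subgroup.zpowers_le).2 hxf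
    have hwi : w ∈ inv σ (Subgroup.zpowers x) := fun s hs => hle hs
    rw [H4σ] at hwi
    exact (Submodule.mem_bot K).1 hwi
  have hord := pp_orderOf Q x 2 n hp hx hnc
  have hcyc := pp_cyc Q x 2 n hp hx hnc
  have hGenτ := pp_gen Q x 2 q n hp hq hq2 hQ hx hmin hnc
  have hτ1 : τ ≠ 1 := by
    intro h
    obtain ⟨u, hu, hxu⟩ := hnc
    apply hxu
    rw [h, one_mul, mul_one]
  -- the per-weight alternative
  have key : ∀ (χ : Z → K) (s : ℕ), wt σ Z χ ≠ ⊥ → 0 < s → conjWt Z (x ^ s) χ = χ →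
      (∀ i, 0 < i → i < s → conjWt Z (x ^ i) χ ≠ χ) →
      ∃ a : ℕ, orderOf (x ^ s) = 2 ^ a ∧
        ((∀ m ∈ Q, ∀ v ∈ wt σ Z χ, σ m v = v) ∨
          (2 ≤ a ∧ (∀ μ : K, μ ^ (2 ^ a) = 1 → μ ≠ 1 →
              ∃ v ∈ wt σ Z χ, v ≠ 0 ∧ σ (x ^ s) v = μ • v) ∧
            ∀ f : W →ₗ[K] W, (∀ v ∈ wt σ Z χ, f v ∈ wt σ Z χ) →
              (∀ m ∈ Q, ∀ v ∈ wt σ Z χ, f (σ m v) = σ m (f v)) →
              ∀ v ∈ wt σ Z χ, f (σ (x ^ s) v) = σ (x ^ s) (f v))) := by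
    intro χ s hY hs hstab hmins
    have hdvd : orderOf (x ^ s) ∣ 2 ^ (n + 1) := by
      rw [← hord]
      exact orderOf_pow_dvd s
    obtain ⟨a, -, ha⟩ := (Nat.dvd_prime_pow hp).1 hdvd
    refine ⟨a, ha, ?_⟩
    have H4 : ∀ v ∈ wt σ Z χ, σ (x ^ s) v = v → v = 0 := fun v hv hfix =>
      orbit_sum_fixed σ Z hcommZ x s hs χ hmins v hv hfix hxfix
    have hy1 : x ^ s ≠ 1 := by
      intro h1
      apply hY
      rw [Submodule.eq_bot_iff]
      intro v hv
      apply H4 v hv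
      rw [h1, map_one, Module.End.one_apply]
    have hyx : x ^ s ∈ Subgroup.zpowers x := Subgroup.pow_mem _ (Subgroup.mem_zpowers x) s
    have hle : Subgroup.zpowers (x ^ s) ≤ Subgroup.zpowers x := (Subgroup.zpowers_le).2 hyx
    have hYy : wt σ Z χ ≤ (wt σ Z χ).comap (σ (x ^ s)) := by
      intro v hv
      rw [Submodule.mem_comap]
      have := map_mem_wt σ Z (x ^ s) χ v hv
      rwa [hstab] at this
    exact pw2_space σ Q q hq hQ hqK Z hZQ hZc hder (x ^ s) τ a hq2 ha h2K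
      (fun e he he1 => hcyc e (hle he) he1) (hcyc _ hyx hy1) hZτ hGenτ
      (wt σ Z χ) (wt_stable_of_central σ Q Z hZQ hZc χ) hYy hY
      (fun z hz => ⟨χ ⟨z, hz⟩, fun v hv => (mem_wt σ Z χ v).1 hv ⟨z, hz⟩⟩) H4
  -- consequences of the non-trivial alternative for `ι`
  have hpowv : ∀ (y : G) (μ : K) (v : W), σ y v = μ • v → ∀ k : ℕ, σ (y ^ k) v = μ ^ k • v := by
    intro y μ v hv k
    induction k with
    | zero => rw [pow_zero, pow_zero, map_one, Module.End.one_apply, one_smul]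
    | succ k ih => rw [pow_succ, rho_mul_apply, hv, map_smul, ih, smul_smul, pow_succ, mul_comm]
  have hpowf : ∀ (Y : Submodule K W) (y : G) (f : W →ₗ[K] W), Y ≤ Y.comap (σ y) →
      (∀ v ∈ Y, f (σ y v) = σ y (f v)) → ∀ k : ℕ, ∀ v ∈ Y, f (σ (y ^ k) v) = σ (y ^ k) (f v) := by
    intro Y y f hYy hf k
    induction k with
    | zero =>
      intro v hv
      rw [pow_zero, map_one, Module.End.one_apply, Module.End.one_apply]
    | succ k ih =>
      intro v hv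
      rw [pow_succ, rho_mul_apply, rho_mul_apply, ih _ (hYy hv), hf v hv]
  -- existence of a weight on which `Q` acts non-trivially
  have hex : ∃ χ : Z → K, wt σ Z χ ≠ ⊥ ∧ ¬ ∀ m ∈ Q, ∀ v ∈ wt σ Z χ, σ m v = v := by
    by_contra hall
    push Not at hall
    have htriv : ∀ m ∈ Q, σ m = 1 := by
      intro m hm
      apply LinearMap.ext
      intro w
      have hw : w ∈ ⨆ χ : Z → K, wt σ Z χ := by
        rw [hspan]
        exact Submodule.mem_top
      induction hw using Submodule.iSup_induction' with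
      | mem χ y hy =>
        by_cases hb : wt σ Z χ = ⊥
        · rw [hb, Submodule.mem_bot] at hy
          rw [hy, map_zero, map_zero]
        · rw [hall χ hb m hm y hy, Module.End.one_apply]
      | zero => simp
      | add a b _ _ ha hb => rw [map_add, map_add, ha, hb]
    obtain ⟨u, hu, hxu⟩ := hnc
    apply hxu
    have h3 : u = 1 := hσ u (htriv u hu)
    rw [h3, mul_one, one_mul]
  obtain ⟨χ₀, hY₀, hnt₀⟩ := hex
  obtain ⟨s₀, hs₀, hstab₀, hmins₀⟩ := exists_min_stab Z x hfinx χ₀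
  obtain ⟨a₀, ha₀, halt₀⟩ := key χ₀ s₀ hY₀ hs₀ hstab₀ hmins₀
  rcases halt₀ with h | ⟨h2a₀, heig₀, -⟩
  · exact absurd h hnt₀
  have hn1 : 1 ≤ n := by
    have hdvd : orderOf (x ^ s₀) ∣ 2 ^ (n + 1) := by
      rw [← hord]
      exact orderOf_pow_dvd s₀
    rw [ha₀] at hdvd
    have : a₀ ≤ n + 1 := (Nat.pow_dvd_pow_iff_le_right (le_refl 2)).1 hdvd
    omega
  have hιpow : ∀ (s a : ℕ), 2 ≤ a → orderOf (x ^ s) = 2 ^ a →
      x ^ (2 ^ (n - 1)) = (x ^ s) ^ (2 ^ (a - 2)) ∨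
        x ^ (2 ^ (n - 1)) = (x ^ s) ^ (3 * 2 ^ (a - 2)) := fun s a h2a ha =>
    iota_eq_pow x n hn1 hx hcyc hτ1 (x ^ s)
      (Subgroup.pow_mem _ (Subgroup.mem_zpowers x) s) a h2a ha
  refine ⟨hn1, ?_, ?_⟩
  · -- a `(-1)`-eigenvector of `ι`
    obtain ⟨μ, hμ⟩ := IsAlgClosed.exists_pow_nat_eq (-1 : K) (n := 2 ^ (a₀ - 2)) (by positivity)
    have hμ4 : μ ^ (2 ^ a₀) = 1 := by
      have h4 : 2 ^ a₀ = 2 ^ (a₀ - 2) * 4 := by
        obtain ⟨a', rfl⟩ : ∃ a', a₀ = a' + 2 := ⟨a₀ - 2, by omega⟩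
        rw [Nat.add_sub_cancel, pow_succ, pow_succ]
        ring
      rw [h4, pow_mul, hμ]
      norm_num
    have hμ1 : μ ≠ 1 := by
      intro h
      rw [h, one_pow] at hμ
      apply h2K
      linear_combination hμ
    obtain ⟨v, hvY, hv0, hv⟩ := heig₀ μ hμ4 hμ1
    refine ⟨v, hv0, ?_⟩
    rcases hιpow s₀ a₀ h2a₀ ha₀ with h | h
    · rw [h, hpowv _ μ v hv, hμ, neg_smul, one_smul]
    · rw [h, hpowv _ μ v hv, mul_comm, pow_mul, hμ]
      have : ((-1 : K)) ^ 3 = -1 := by norm_num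
      rw [this, neg_smul, one_smul]
  · -- commutation with `ι` on the commutator part
    intro f hf u hu w hw v
    have hzZ : ⁅u, w⁆ ∈ Z := hder u hu w hw
    have hzQ : ⁅u, w⁆ ∈ Q := hZQ hzZ
    have hv : v ∈ ⨆ χ : Z → K, wt σ Z χ := by
      rw [hspan]
      exact Submodule.mem_top
    induction hv using Submodule.iSup_induction' with
    | mem χ y hy =>
      by_cases hb : wt σ Z χ = ⊥
      · rw [hb, Submodule.mem_bot] at hy
        rw [hy]
        simp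
      · obtain ⟨s, hs, hstab, hmins⟩ := exists_min_stab Z x hfinx χ
        obtain ⟨a, ha, halt⟩ := key χ s hb hs hstab hmins
        rcases halt with h | ⟨h2a, -, hcomm⟩
        · rw [h _ hzQ y hy, sub_self]
          simp
        · have hYQ := wt_stable_of_central σ Q Z hZQ hZc χ
          have hfY : ∀ v ∈ wt σ Z χ, f v ∈ wt σ Z χ := by
            intro v hv
            rw [mem_wt]
            intro z
            rw [← hf _ (hZQ z.2), (mem_wt σ Z χ v).1 hv z, map_smul]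
          have hYy : wt σ Z χ ≤ (wt σ Z χ).comap (σ (x ^ s)) := by
            intro v hv
            rw [Submodule.mem_comap]
            have := map_mem_wt σ Z (x ^ s) χ v hv
            rwa [hstab] at this
          have hfy := hcomm f hfY (fun m hm v _ => hf m hm v)
          have hmem : σ ⁅u, w⁆ y - y ∈ wt σ Z χ :=
            Submodule.sub_mem _ (hYQ _ hzQ hy) hy
          rcases hιpow s a h2a ha with h | h
          · rw [h]
            exact hpowf _ _ f hYy hfy _ _ hmem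
          · rw [h]
            exact hpowf _ _ f hYy hfy _ _ hmem
    | zero => simp
    | add a b _ _ ha hb =>
      have e1 : σ ⁅u, w⁆ (a + b) - (a + b) = (σ ⁅u, w⁆ a - a) + (σ ⁅u, w⁆ b - b) := by
        rw [map_add]
        abel
      rw [e1, map_add, map_add, map_add, map_add, ha, hb]

end main

end Cfsg.Agent.Lib.Helper4.GR2CORE
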