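import Mathlib
import Cfsg.Agent.Lib.Helper4.Brandt_A3

/-!
# S4648 swarm, package K1: Külshammer's lemma for a local symmetric corner algebra
A symmetric local corner algebra `C = k e + N` with at most four independent central elements is
commutative; hence its dimension is at most the number of independent central elements.
-/

set_option autoImplicit false
set_option maxHeartbeats 800000

namespace Cfsg.Agent.Lib.Lead.Brandt

open Module

section K1
variable {k R : Type*} [Field k] [Ring R] [Algebra k R] [FiniteDimensional k R]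

omit [FiniteDimensional k R] in
theorem kuls_exists_indep (n : ℕ) (C : Submodule k R) [FiniteDimensional k ↥C]
    (W : Submodule k ↥C) (h : n ≤ finrank k W) :
    ∃ w : Fin n → R, LinearIndependent k w ∧ ∀ i, ∃ hC : w i ∈ C, (⟨w i, hC⟩ : ↥C) ∈ W := by
  have h1 : finrank k (W.map C.subtype) = finrank k W := Submodule.finrank_map_subtype_eq C W
  obtain ⟨f, hf⟩ := exists_linearIndependent_of_le_finrank (R := k)
      (M := ↥(W.map C.subtype)) (n := n) (by omega)
  refine ⟨fun i => (f i : R), hf.map' (W.map C.subtype).subtype (Submodule.ker_subtype _), ?_⟩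
  intro i
  obtain ⟨v, hv, hvi⟩ := (f i).2
  have hC : (f i : R) ∈ C := by rw [← hvi]; exact v.2
  refine ⟨hC, ?_⟩
  have : (⟨(f i : R), hC⟩ : ↥C) = v := Subtype.ext hvi.symm
  rw [this]; exact hv

/-- dimension bound from a nondegenerate form on a subspace (general number of independent
elements) -/
theorem kuls_finrank_le_of_orth (n : ℕ) (C U : Submodule k R) (hUC : U ≤ C) (t : R →ₗ[k] k)
    (hnd : ∀ a ∈ C, (∀ c ∈ C, t (a * c) = 0) → a = 0) (Pz : R → Prop)
    (hP : ∀ v ∈ C, (∀ u ∈ U, t (u * v) = 0) → Pz v)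
    (hn : ∀ w : Fin (n + 1) → R, (∀ i, w i ∈ C) → (∀ i, Pz (w i)) → ¬ LinearIndependent k w) :
    finrank k ↥C ≤ finrank k ↥U + n := by
  classical
  obtain ⟨B, hBapp⟩ : ∃ B : LinearMap.BilinForm k ↥C, ∀ c d : ↥C, B c d = t ((c : R) * (d : R)) :=
    ⟨LinearMap.mk₂ k (fun c d : ↥C => t ((c : R) * (d : R)))
      (fun a b c => by simp [add_mul])
      (fun r a b => by simp)
      (fun a b c => by simp [mul_add])
      (fun r a b => by simp), fun c d => rfl⟩
  have hBker : LinearMap.ker B = ⊥ := by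
    rw [LinearMap.ker_eq_bot']
    intro v hv
    apply Subtype.ext
    apply hnd (v : R) v.2
    intro c hc
    have := congrArg (fun f : ↥C →ₗ[k] k => f ⟨c, hc⟩) hv
    simpa [hBapp] using this
  set UV : Submodule k ↥C := Submodule.comap C.subtype U with hUV
  have hUVrank : finrank k UV = finrank k U :=
    (Submodule.comapSubtypeEquivOfLe hUC).finrank_eq
  have hsum := LinearMap.BilinForm.finrank_add_finrank_orthogonal' (B := B) UV
  have hBker' : (UV ⊓ B.ker : Subspace k ↥C) = ⊥ := by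
    have : B.ker = ⊥ := hBker
    rw [this, inf_bot_eq]
  rw [hBker', finrank_bot, add_zero] at hsum
  have hZle : finrank k (B.orthogonal UV) ≤ n := by
    by_contra hcon
    push Not at hcon
    obtain ⟨w, hw, hwm⟩ := kuls_exists_indep (n + 1) C (B.orthogonal UV) (by omega)
    refine hn w (fun i => (hwm i).1) (fun i => ?_) hw
    obtain ⟨hC, hmem⟩ := hwm i
    apply hP _ hC
    intro u hu
    have h4 := (LinearMap.BilinForm.mem_orthogonal_iff.1 hmem) ⟨u, hUC hu⟩ hu
    have h5 : B ⟨u, hUC hu⟩ ⟨w i, hC⟩ = 0 := h4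
    rw [hBapp] at h5
    exact h5
  rw [← hUVrank]; omega

omit [FiniteDimensional k R] in
/-- the associativity computation: `c x` lies in the fourth power -/
theorem kuls_cx_mem (I3 I4 : Submodule k R) (x y c : R)
    (hxl : ∀ r ∈ I3, x * r ∈ I4) (hyl : ∀ r ∈ I3, y * r ∈ I4) (hxr : ∀ r ∈ I3, r * x ∈ I4)
    (α β γ δ : k) (r1 r2 r3 r4 : R) (h1 : r1 ∈ I3) (h2 : r2 ∈ I3) (h3 : r3 ∈ I3) (h4 : r4 ∈ I3)
    (exx : x * x = α • c + r1) (exy : x * y = β • c + r2) (eyx : y * x = γ • c + r3)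
    (eyy : y * y = δ • c + r4) (hbg : β - γ = 1) : c * x ∈ I4 := by
  set A := c * x with hA
  set B := x * c with hB
  set D := y * c with hD
  have e1 : α • A - α • B ∈ I4 := by
    have h := mul_assoc x x x
    rw [exx] at h
    simp only [add_mul, mul_add, smul_mul_assoc, mul_smul_comm] at h
    have : α • A - α • B = x * r1 - r1 * x := by
      rw [sub_eq_sub_iff_add_eq_add, hA, hB, h, add_comm]
    rw [this]
    exact I4.sub_mem (hxl r1 h1) (hxr r1 h1)
  have e2 : β • A - γ • B ∈ I4 := by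
    have h := mul_assoc x y x
    rw [exy, eyx] at h
    simp only [add_mul, mul_add, smul_mul_assoc, mul_smul_comm] at h
    have : β • A - γ • B = x * r3 - r2 * x := by
      rw [sub_eq_sub_iff_add_eq_add, hA, hB, h, add_comm]
    rw [this]
    exact I4.sub_mem (hxl r3 h3) (hxr r2 h2)
  have e3 : γ • A - α • D ∈ I4 := by
    have h := mul_assoc y x x
    rw [eyx, exx] at h
    simp only [add_mul, mul_add, smul_mul_assoc, mul_smul_comm] at h
    have : γ • A - α • D = y * r1 - r3 * x := by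
      rw [sub_eq_sub_iff_add_eq_add, hA, hD, h, add_comm]
    rw [this]
    exact I4.sub_mem (hyl r1 h1) (hxr r3 h3)
  have e4 : δ • A - γ • D ∈ I4 := by
    have h := mul_assoc y y x
    rw [eyy, eyx] at h
    simp only [add_mul, mul_add, smul_mul_assoc, mul_smul_comm] at h
    have : δ • A - γ • D = y * r3 - r4 * x := by
      rw [sub_eq_sub_iff_add_eq_add, hA, hD, h, add_comm]
    rw [this]
    exact I4.sub_mem (hyl r3 h3) (hxr r4 h4)
  have hβ : β = γ + 1 := by linear_combination hbg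
  have f1 : α • A ∈ I4 := by
    have : α • A = -(γ • (α • A - α • B) - α • (β • A - γ • B)) := by
      rw [hβ]; module
    rw [this]
    exact I4.neg_mem (I4.sub_mem (I4.smul_mem _ e1) (I4.smul_mem _ e2))
  have f2 : (γ * γ - α * δ) • A ∈ I4 := by
    have : (γ * γ - α * δ) • A = γ • (γ • A - α • D) - α • (δ • A - γ • D) := by module
    rw [this]
    exact I4.sub_mem (I4.smul_mem _ e3) (I4.smul_mem _ e4)
  by_cases hα : α = 0
  · by_cases hγ : γ = 0
    · have : A = β • A - γ • B := by rw [hβ, hγ]; module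
      rw [this]; exact e2
    · have hne : γ * γ - α * δ ≠ 0 := by
        rw [hα, zero_mul, sub_zero]; exact mul_ne_zero hγ hγ
      have := I4.smul_mem (γ * γ - α * δ)⁻¹ f2
      rwa [smul_smul, inv_mul_cancel₀ hne, one_smul] at this
  · have := I4.smul_mem α⁻¹ f1
    rwa [smul_smul, inv_mul_cancel₀ hα, one_smul] at this

/-- Külshammer's lemma, abstract form: a local symmetric algebra `C = k e + Nn` with no five
independent central elements is commutative -/
theorem kuls_comm_abs (C Nn : Submodule k R) (e : R) (heC : e ∈ C)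
    (hce : ∀ c ∈ C, c * e = c)
    (hCmul : ∀ c ∈ C, ∀ d ∈ C, c * d ∈ C)
    (hNC : Nn ≤ C) (hNmulC : ∀ n ∈ Nn, ∀ c ∈ C, n * c ∈ Nn)
    (hnil : ∃ M : ℕ, Nn ^ M = ⊥)
    (hcomm : ∀ c ∈ C, ∀ d ∈ C, ∃ n₁ ∈ Nn, ∃ n₂ ∈ Nn, c * d - d * c = n₁ * n₂ - n₂ * n₁)
    (hdec : ∀ c ∈ C, ∃ l : k, c - l • e ∈ Nn) (heN : e ∉ Nn)
    (t : R →ₗ[k] k) (ht : ∀ a b, t (a * b) = t (b * a))
    (hnd : ∀ a ∈ C, (∀ c ∈ C, t (a * c) = 0) → a = 0)
    (h5 : ∀ w : Fin 5 → R, (∀ i, w i ∈ C) → (∀ i, ∀ c ∈ C, w i * c = c * w i) →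
      ¬ LinearIndependent k w) :
    ∀ c ∈ C, ∀ d ∈ C, c * d = d * c := by
  classical
  obtain ⟨M, hM⟩ := hnil
  -- powers of Nn
  have hN2N : Nn ^ 2 ≤ Nn := by
    rw [pow_two, Submodule.mul_le]
    intro a ha b hb
    exact hNmulC a ha b (hNC hb)
  have hanti1 : ∀ j, 1 ≤ j → Nn ^ (j + 1) ≤ Nn ^ j := by
    intro j hj
    induction j, hj using Nat.le_induction with
    | base => simpa using hN2N
    | succ j hj ih =>
      rw [pow_succ Nn (j + 1), pow_succ Nn j]
      exact mul_le_mul' ih le_rfl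
  have hanti : ∀ i j, 1 ≤ i → i ≤ j → Nn ^ j ≤ Nn ^ i := by
    intro i j hi hij
    induction j, hij using Nat.le_induction with
    | base => exact le_rfl
    | succ j hj ih => exact (hanti1 j (hi.trans hj)).trans ih
  have hpowN : ∀ j, 1 ≤ j → Nn ^ j ≤ Nn := fun j hj => by
    have := hanti 1 j le_rfl hj
    simpa using this
  have hpowC : ∀ j, 1 ≤ j → Nn ^ j ≤ C := fun j hj => (hpowN j hj).trans hNC
  have hbot : ∀ j, M ≤ j → Nn ^ j = ⊥ := by
    intro j hj
    obtain ⟨i, rfl⟩ := Nat.exists_eq_add_of_le hj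
    rw [pow_add, hM, Submodule.bot_mul]
  have habsorb : ∀ j, Nn ^ j ≤ Nn ^ (j + 1) → Nn ^ j = ⊥ := by
    intro j hj
    have h : ∀ i, Nn ^ j ≤ Nn ^ (j + i) := by
      intro i
      induction i with
      | zero => exact le_rfl
      | succ i ih =>
        calc Nn ^ j ≤ Nn ^ (j + 1) := hj
          _ = Nn ^ j * Nn := pow_succ Nn j
          _ ≤ Nn ^ (j + i) * Nn := mul_le_mul' ih le_rfl
          _ = Nn ^ (j + (i + 1)) := by rw [← pow_succ, add_assoc]
    have := h M
    rw [hbot (j + M) (by omega)] at this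
    exact eq_bot_iff.2 this
  -- the commutator space
  set K : Submodule k R := Submodule.span k {u | ∃ c ∈ C, ∃ d ∈ C, u = c * d - d * c} with hK
  have hKN2 : K ≤ Nn ^ 2 := by
    rw [hK, Submodule.span_le]
    rintro u ⟨c, hc, d, hd, rfl⟩
    obtain ⟨n₁, h1, n₂, h2, h⟩ := hcomm c hc d hd
    rw [h, SetLike.mem_coe, pow_two]
    exact Submodule.sub_mem _ (Submodule.mul_mem_mul h1 h2) (Submodule.mul_mem_mul h2 h1)
  have hKt : ∀ u ∈ K, t u = 0 := by
    intro u hu
    induction hu using Submodule.span_induction with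
    | mem u hu =>
      obtain ⟨c, -, d, -, rfl⟩ := hu
      rw [map_sub, ht c d, sub_self]
    | zero => exact map_zero t
    | add a b _ _ ha hb => rw [map_add, ha, hb, add_zero]
    | smul r a _ ha => rw [map_smul, ha, smul_zero]
  have hKC : K ≤ C := hKN2.trans (hpowC 2 (by norm_num))
  have horth : ∀ v ∈ C, (∀ u ∈ K, t (u * v) = 0) → ∀ d ∈ C, v * d = d * v := by
    intro v hvC hv d hdC
    have hg : v * d - d * v ∈ C :=
      C.sub_mem (hCmul _ hvC _ hdC) (hCmul _ hdC _ hvC)
    have : v * d - d * v = 0 := by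
      apply hnd _ hg
      intro c' hc'C
      have hu : d * c' - c' * d ∈ K := Submodule.subset_span ⟨d, hdC, c', hc'C, rfl⟩
      have h1 : t ((d * c' - c' * d) * v) = 0 := hv _ hu
      simp only [sub_mul, map_sub] at h1 ⊢
      have a1 : t (v * d * c') = t (d * c' * v) := by
        rw [mul_assoc, ht]
      have a2 : t (d * v * c') = t (c' * d * v) := by
        rw [ht, ← mul_assoc]
      rw [a1, a2]
      exact h1
    exact sub_eq_zero.1 this
  have hdimC : finrank k ↥C ≤ finrank k ↥K + 4 :=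
    kuls_finrank_le_of_orth 4 C K hKC t hnd (fun v => ∀ d ∈ C, v * d = d * v) horth
      (fun w hw hwc => h5 w hw hwc)
  -- (P)
  have hPz : ∀ s ∈ C, (∀ n ∈ Nn, s * n = 0) → t s = 0 → s = 0 := by
    intro s hs hsN hts
    apply hnd s hs
    intro c hc
    obtain ⟨l, hl⟩ := hdec c hc
    have : c = l • e + (c - l • e) := by abel
    rw [this, mul_add, mul_smul_comm, hce s hs, hsN _ hl, add_zero, map_smul, hts, smul_zero]
  have hgoalK : K = ⊥ → ∀ c ∈ C, ∀ d ∈ C, c * d = d * c := by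
    intro hK0 c hc d hd
    have : c * d - d * c ∈ K := Submodule.subset_span ⟨c, hc, d, hd, rfl⟩
    rw [hK0, Submodule.mem_bot] at this
    exact sub_eq_zero.1 this
  by_cases h3 : Nn ^ 3 = ⊥
  · apply hgoalK
    rw [eq_bot_iff]
    intro u hu
    rw [Submodule.mem_bot]
    apply hPz u (hKC hu) _ (hKt u hu)
    intro n hn
    have : u * n ∈ Nn ^ 3 := by
      rw [pow_succ]; exact Submodule.mul_mem_mul (hKN2 hu) hn
    rwa [h3, Submodule.mem_bot] at this
  -- now Nn^3 ≠ ⊥
  have hex : ∃ j, Nn ^ j = ⊥ := ⟨M, hM⟩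
  set m := Nat.find hex with hm
  have hmbot : Nn ^ m = ⊥ := Nat.find_spec hex
  have hmmin : ∀ j, j < m → Nn ^ j ≠ ⊥ := fun j hj => Nat.find_min hex hj
  have hm4 : 4 ≤ m := by
    by_contra hcon
    push Not at hcon
    apply h3
    obtain ⟨i, hi⟩ := Nat.exists_eq_add_of_le (show m ≤ 3 by omega)
    rw [hi, pow_add, hmbot, Submodule.bot_mul]
  obtain ⟨s, hsm, hs0⟩ := Submodule.exists_mem_ne_zero_of_ne_bot (hmmin (m - 1) (by omega))
  have hs3 : s ∈ Nn ^ 3 := hanti 3 (m - 1) (by norm_num) (by omega) hsm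
  have hs2 : s ∈ Nn ^ 2 := hanti 2 3 (by norm_num) (by norm_num) hs3
  have hsC : s ∈ C := hpowC 3 (by norm_num) hs3
  have hsN : ∀ n ∈ Nn, s * n = 0 := by
    intro n hn
    have : s * n ∈ Nn ^ (m - 1 + 1) := by
      rw [pow_succ]; exact Submodule.mul_mem_mul hsm hn
    rwa [show m - 1 + 1 = m by omega, hmbot, Submodule.mem_bot] at this
  have hts : t s ≠ 0 := fun h => hs0 (hPz s hsC hsN h)
  have hsK : s ∉ K := fun h => hts (hKt s h)
  set KS : Submodule k R := K ⊔ Submodule.span k {s} with hKS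
  have hKSle : KS ≤ Nn ^ 2 :=
    sup_le hKN2 (by rw [Submodule.span_singleton_le_iff_mem]; exact hs2)
  have hKlt : K < KS := by
    refine lt_of_le_of_ne le_sup_left ?_
    intro h
    apply hsK
    rw [h]
    exact (le_sup_right : Submodule.span k {s} ≤ KS) (Submodule.mem_span_singleton_self s)
  have hd1 : finrank k ↥K < finrank k ↥KS := Submodule.finrank_lt_finrank_of_lt hKlt
  have hd2 : finrank k ↥KS ≤ finrank k ↥(Nn ^ 2) := Submodule.finrank_mono hKSle
  have hNlt : Nn < C := by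
    refine lt_of_le_of_ne hNC ?_
    intro h
    exact heN (h ▸ heC)
  have hd3 : finrank k ↥Nn < finrank k ↥C := Submodule.finrank_lt_finrank_of_lt hNlt
  by_cases hA : finrank k ↥Nn ≤ finrank k ↥(Nn ^ 2) + 1
  · -- case A: Nn is generated by one element modulo Nn^2
    set N2 : Submodule k R := Nn * Nn with hN2
    have hN2eq : Nn ^ 2 = N2 := pow_two Nn
    have hN2N' : N2 ≤ Nn := hN2eq ▸ hN2N
    obtain ⟨x, hxN, hx⟩ : ∃ x ∈ Nn, Nn ≤ Submodule.span k {x} ⊔ N2 := by
      by_cases heq : N2 = Nn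
      · exact ⟨0, Nn.zero_mem, by rw [heq]; exact le_sup_right⟩
      · have hlt : N2 < Nn := lt_of_le_of_ne hN2N' heq
        obtain ⟨x, hxN, hxN2⟩ := SetLike.exists_of_lt hlt
        refine ⟨x, hxN, ?_⟩
        set S := Submodule.span k {x} ⊔ N2 with hS
        have hSN : S ≤ Nn :=
          sup_le (by rw [Submodule.span_singleton_le_iff_mem]; exact hxN) hN2N'
        have hN2S : N2 < S := by
          refine lt_of_le_of_ne le_sup_right ?_
          intro h
          apply hxN2
          rw [h]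
          exact (le_sup_left : Submodule.span k {x} ≤ S) (Submodule.mem_span_singleton_self x)
        have h3' : finrank k N2 < finrank k S := Submodule.finrank_lt_finrank_of_lt hN2S
        have h4 : S = Nn := Submodule.eq_of_le_of_finrank_le hSN (by rw [hN2eq] at hA; omega)
        rw [h4]
    have hdecN : ∀ n ∈ Nn, ∃ (a : k) (p : R), p ∈ N2 ∧ n = a • x + p := by
      intro n hn
      obtain ⟨y, hy, p, hp, rfl⟩ := Submodule.mem_sup.1 (hx hn)
      obtain ⟨a, rfl⟩ := Submodule.mem_span_singleton.1 hy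
      exact ⟨a, p, hp, rfl⟩
    have hP : ∀ m : ℕ, ∀ n₁ ∈ Nn, ∀ n₂ ∈ Nn, n₁ * n₂ - n₂ * n₁ ∈ Nn ^ (m + 2) := by
      intro m
      induction m with
      | zero =>
        intro n₁ h1 n₂ h2
        rw [zero_add, pow_two]
        exact Submodule.sub_mem _ (Submodule.mul_mem_mul h1 h2) (Submodule.mul_mem_mul h2 h1)
      | succ m ih =>
        have hQ : ∀ n ∈ Nn, ∀ q ∈ N2, n * q - q * n ∈ Nn ^ (m + 3) := by
          intro n hn q hq
          refine Submodule.mul_induction_on hq ?_ ?_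
          · intro a ha b hb
            have h1 : n * (a * b) - a * b * n = (n * a - a * n) * b + a * (n * b - b * n) := by
              noncomm_ring
            rw [h1]
            refine Submodule.add_mem _ ?_ ?_
            · rw [pow_succ]
              exact Submodule.mul_mem_mul (ih n hn a ha) hb
            · rw [pow_succ']
              exact Submodule.mul_mem_mul ha (ih n hn b hb)
          · intro y z hy hz
            have h1 : n * (y + z) - (y + z) * n = (n * y - y * n) + (n * z - z * n) := by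
              noncomm_ring
            rw [h1]
            exact Submodule.add_mem _ hy hz
        intro n₁ h1 n₂ h2
        obtain ⟨a, p, hp, rfl⟩ := hdecN n₁ h1
        obtain ⟨b, q, hq, rfl⟩ := hdecN n₂ h2
        have c1 : (a • x) * (b • x) = (b • x) * (a • x) := by
          simp only [smul_mul_assoc, mul_smul_comm, smul_smul, mul_comm]
        have c2 : ∀ (c : k) (y : R), (c • x) * y - y * (c • x) = c • (x * y - y * x) := by
          intro c y
          simp only [smul_mul_assoc, mul_smul_comm, smul_sub]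
        have h3' : (a • x + p) * (b • x + q) - (b • x + q) * (a • x + p) =
            a • (x * q - q * x) - b • (x * p - p * x) + (p * q - q * p) := by
          rw [← c2 a q, ← c2 b p]
          have : ∀ x₁ x₂ : R, x₁ * x₂ = x₂ * x₁ →
              (x₁ + p) * (x₂ + q) - (x₂ + q) * (x₁ + p) =
                (x₁ * q - q * x₁) - (x₂ * p - p * x₂) + (p * q - q * p) := by
            intro x₁ x₂ h12
            have e1 : (x₁ + p) * (x₂ + q) - (x₂ + q) * (x₁ + p) =
                (x₁ * x₂ - x₂ * x₁) + (x₁ * q - q * x₁) - (x₂ * p - p * x₂) + (p * q - q * p) := by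
              noncomm_ring
            rw [e1, h12, sub_self, zero_add]
          exact this _ _ c1
        rw [h3', show m + 1 + 2 = m + 3 by ring]
        refine Submodule.add_mem _ (Submodule.sub_mem _ ?_ ?_) ?_
        · exact Submodule.smul_mem _ _ (hQ x hxN q hq)
        · exact Submodule.smul_mem _ _ (hQ x hxN p hp)
        · exact hQ p (hN2N' hp) q hq
    intro c hc d hd
    obtain ⟨n₁, h1, n₂, h2, h⟩ := hcomm c hc d hd
    have h4 := hP M n₁ h1 n₂ h2
    rw [hbot (M + 2) (by omega), Submodule.mem_bot] at h4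
    rw [h4] at h
    exact sub_eq_zero.1 h
  · -- case B: impossible
    exfalso
    push Not at hA
    have hdN : finrank k ↥Nn = finrank k ↥(Nn ^ 2) + 2 := by omega
    have hKSeq : KS = Nn ^ 2 := Submodule.eq_of_le_of_finrank_le hKSle (by omega)
    -- choice of x, y with Nn = k x + k y + Nn^2
    have hN2lt : Nn ^ 2 < Nn := by
      refine lt_of_le_of_ne hN2N ?_
      intro h
      rw [h] at hdN
      omega
    obtain ⟨x, hxN, hxN2⟩ := SetLike.exists_of_lt hN2lt
    have hx0 : x ≠ 0 := fun h => hxN2 (h ▸ (Nn ^ 2).zero_mem)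
    obtain ⟨S1, hS1⟩ : ∃ S : Submodule k R, S = Submodule.span k {x} ⊔ Nn ^ 2 := ⟨_, rfl⟩
    have hxS1 : x ∈ S1 := by
      rw [hS1]; exact Submodule.mem_sup_left (Submodule.mem_span_singleton_self x)
    have hN2S1le : Nn ^ 2 ≤ S1 := by rw [hS1]; exact le_sup_right
    have hS1N : S1 ≤ Nn := by
      rw [hS1]
      exact sup_le (by rw [Submodule.span_singleton_le_iff_mem]; exact hxN) hN2N
    have hS1d : finrank k ↥S1 ≤ finrank k ↥(Nn ^ 2) + 1 := by
      have h1 := Submodule.finrank_add_le_finrank_add_finrank (Submodule.span k {x}) (Nn ^ 2)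
      rw [finrank_span_singleton hx0, ← hS1] at h1
      omega
    have hS1lt : S1 < Nn := by
      refine lt_of_le_of_ne hS1N ?_
      intro h
      rw [h] at hS1d
      omega
    obtain ⟨y, hyN, hyS1⟩ := SetLike.exists_of_lt hS1lt
    have hN2S1 : Nn ^ 2 < S1 := by
      refine lt_of_le_of_ne hN2S1le ?_
      intro h
      apply hxN2
      rw [h]; exact hxS1
    obtain ⟨S2, hS2⟩ : ∃ S : Submodule k R, S = Submodule.span k {y} ⊔ S1 := ⟨_, rfl⟩
    have hyS2 : y ∈ S2 := by
      rw [hS2]; exact Submodule.mem_sup_left (Submodule.mem_span_singleton_self y)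
    have hS1S2le : S1 ≤ S2 := by rw [hS2]; exact le_sup_right
    have hS2N : S2 ≤ Nn := by
      rw [hS2]
      exact sup_le (by rw [Submodule.span_singleton_le_iff_mem]; exact hyN) hS1N
    have hS1S2 : S1 < S2 := by
      refine lt_of_le_of_ne hS1S2le ?_
      intro h
      apply hyS1
      rw [h]; exact hyS2
    have hS2eq : S2 = Nn := by
      have h1 := Submodule.finrank_lt_finrank_of_lt hN2S1
      have h2 := Submodule.finrank_lt_finrank_of_lt hS1S2
      exact Submodule.eq_of_le_of_finrank_le hS2N (by omega)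
    have hdecN : ∀ n ∈ Nn, ∃ (a b : k) (p : R), p ∈ Nn ^ 2 ∧ n = a • x + b • y + p := by
      intro n hn
      rw [← hS2eq, hS2] at hn
      obtain ⟨y', hy', z, hz, rfl⟩ := Submodule.mem_sup.1 hn
      obtain ⟨b, rfl⟩ := Submodule.mem_span_singleton.1 hy'
      rw [hS1] at hz
      obtain ⟨x', hx', p, hp, rfl⟩ := Submodule.mem_sup.1 hz
      obtain ⟨a, rfl⟩ := Submodule.mem_span_singleton.1 hx'
      exact ⟨a, b, p, hp, by abel⟩
    -- membership in powers
    have hmem2 : ∀ a ∈ Nn, ∀ b ∈ Nn, a * b ∈ Nn ^ 2 := fun a ha b hb => by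
      rw [pow_two]; exact Submodule.mul_mem_mul ha hb
    have hmem3l : ∀ a ∈ Nn, ∀ q ∈ Nn ^ 2, a * q ∈ Nn ^ 3 := fun a ha q hq => by
      rw [pow_succ']; exact Submodule.mul_mem_mul ha hq
    have hmem3r : ∀ q ∈ Nn ^ 2, ∀ a ∈ Nn, q * a ∈ Nn ^ 3 := fun q hq a ha => by
      rw [pow_succ]; exact Submodule.mul_mem_mul hq ha
    have hmem4l : ∀ a ∈ Nn, ∀ r ∈ Nn ^ 3, a * r ∈ Nn ^ 4 := fun a ha r hr => by
      rw [pow_succ']; exact Submodule.mul_mem_mul ha hr
    have hmem4r : ∀ r ∈ Nn ^ 3, ∀ a ∈ Nn, r * a ∈ Nn ^ 4 := fun r hr a ha => by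
      rw [pow_succ]; exact Submodule.mul_mem_mul hr ha
    have hmem22 : ∀ p ∈ Nn ^ 2, ∀ q ∈ Nn ^ 2, p * q ∈ Nn ^ 4 := fun p hp q hq => by
      rw [show (4 : ℕ) = 2 + 2 from rfl, pow_add]; exact Submodule.mul_mem_mul hp hq
    have h43 : Nn ^ 4 ≤ Nn ^ 3 := hanti 3 4 (by norm_num) (by norm_num)
    set c := x * y - y * x with hc
    have hcN2 : c ∈ Nn ^ 2 := Submodule.sub_mem _ (hmem2 x hxN y hyN) (hmem2 y hyN x hxN)
    set T : Submodule k R := Submodule.span k {c} ⊔ Nn ^ 3 with hT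
    have hKT : K ≤ T := by
      rw [hK, Submodule.span_le]
      rintro u ⟨c1, hc1, d1, hd1, rfl⟩
      obtain ⟨n₁, h1, n₂, h2, h⟩ := hcomm c1 hc1 d1 hd1
      obtain ⟨a, b, p, hp, rfl⟩ := hdecN n₁ h1
      obtain ⟨a', b', p', hp', rfl⟩ := hdecN n₂ h2
      rw [h, SetLike.mem_coe]
      have hXN : a • x + b • y ∈ Nn := Nn.add_mem (Nn.smul_mem _ hxN) (Nn.smul_mem _ hyN)
      have hX'N : a' • x + b' • y ∈ Nn := Nn.add_mem (Nn.smul_mem _ hxN) (Nn.smul_mem _ hyN)
      have e1 : ∀ X X' : R, (X + p) * (X' + p') - (X' + p') * (X + p) =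
          (X * X' - X' * X) + ((X * p' - p' * X) + (p * X' - X' * p) + (p * p' - p' * p)) := by
        intro X X'; noncomm_ring
      have e2 : (a • x + b • y) * (a' • x + b' • y) - (a' • x + b' • y) * (a • x + b • y) =
          (a * b' - b * a') • c := by
        rw [hc]
        simp only [add_mul, mul_add, smul_mul_assoc, mul_smul_comm]
        module
      rw [e1, e2]
      refine Submodule.add_mem _ (Submodule.mem_sup_left
        (Submodule.smul_mem _ _ (Submodule.mem_span_singleton_self c))) (Submodule.mem_sup_right ?_)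
      refine Submodule.add_mem _ (Submodule.add_mem _ (Submodule.sub_mem _ ?_ ?_)
        (Submodule.sub_mem _ ?_ ?_)) (Submodule.sub_mem _ ?_ ?_)
      · exact hmem3l _ hXN p' hp'
      · exact hmem3r p' hp' _ hXN
      · exact hmem3r p hp _ hX'N
      · exact hmem3l _ hX'N p hp
      · exact h43 (hmem22 p hp p' hp')
      · exact h43 (hmem22 p' hp' p hp)
    have hN2T : Nn ^ 2 ≤ T := by
      rw [← hKSeq]
      exact sup_le hKT (by
        rw [Submodule.span_singleton_le_iff_mem]; exact Submodule.mem_sup_right hs3)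
    have hcN3 : c ∉ Nn ^ 3 := by
      intro hc3
      have hT3 : T ≤ Nn ^ 3 :=
        sup_le (by rw [Submodule.span_singleton_le_iff_mem]; exact hc3) le_rfl
      have h23 : Nn ^ 2 ≤ Nn ^ (2 + 1) := hN2T.trans hT3
      have h2bot := habsorb 2 h23
      apply h3
      rw [eq_bot_iff]
      exact (hanti 2 3 (by norm_num) (by norm_num)).trans (le_of_eq h2bot)
    have hcoef : ∀ q ∈ Nn ^ 2, ∃ (l : k) (r : R), r ∈ Nn ^ 3 ∧ q = l • c + r := by
      intro q hq
      obtain ⟨z, hz, r, hr, rfl⟩ := Submodule.mem_sup.1 (hN2T hq)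
      obtain ⟨l, rfl⟩ := Submodule.mem_span_singleton.1 hz
      exact ⟨l, r, hr, rfl⟩
    obtain ⟨α, r1, hr1, exx⟩ := hcoef _ (hmem2 x hxN x hxN)
    obtain ⟨β, r2, hr2, exy⟩ := hcoef _ (hmem2 x hxN y hyN)
    obtain ⟨γ, r3, hr3, eyx⟩ := hcoef _ (hmem2 y hyN x hxN)
    obtain ⟨δ, r4, hr4, eyy⟩ := hcoef _ (hmem2 y hyN y hyN)
    have hbg : β - γ = 1 := by
      by_contra hne
      apply hcN3
      have hcc : c = (β • c + r2) - (γ • c + r3) := by
        rw [← exy, ← eyx]
      have h1 : (1 - (β - γ)) • c = r2 - r3 := by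
        have e3 : (1 - (β - γ)) • c = c - (β • c - γ • c) := by module
        have e4 : c - (β • c - γ • c) = ((β • c + r2) - (γ • c + r3)) - (β • c - γ • c) := by
          rw [← hcc]
        rw [e3, e4]; abel
      have hne' : (1 - (β - γ)) ≠ 0 := fun h => hne (by linear_combination -h)
      have h2 : (1 - (β - γ)) • c ∈ Nn ^ 3 := by
        rw [h1]; exact Submodule.sub_mem _ hr2 hr3
      have := (Nn ^ 3).smul_mem (1 - (β - γ))⁻¹ h2
      rwa [smul_smul, inv_mul_cancel₀ hne', one_smul] at this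
    have hxl : ∀ r ∈ Nn ^ 3, x * r ∈ Nn ^ 4 := hmem4l x hxN
    have hyl : ∀ r ∈ Nn ^ 3, y * r ∈ Nn ^ 4 := hmem4l y hyN
    have hxr : ∀ r ∈ Nn ^ 3, r * x ∈ Nn ^ 4 := fun r hr => hmem4r r hr x hxN
    have hyr : ∀ r ∈ Nn ^ 3, r * y ∈ Nn ^ 4 := fun r hr => hmem4r r hr y hyN
    have hcx : c * x ∈ Nn ^ 4 :=
      kuls_cx_mem (Nn ^ 3) (Nn ^ 4) x y c hxl hyl hxr α β γ δ r1 r2 r3 r4 hr1 hr2 hr3 hr4
        exx exy eyx eyy hbg
    have hcy : c * y ∈ Nn ^ 4 := by
      have := kuls_cx_mem (Nn ^ 3) (Nn ^ 4) y x (-c) hyl hxl hyr (-δ) (-γ) (-β) (-α)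
        r4 r3 r2 r1 hr4 hr3 hr2 hr1
        (by rw [eyy]; module) (by rw [eyx]; module) (by rw [exy]; module) (by rw [exx]; module)
        (by linear_combination hbg)
      rw [neg_mul] at this
      exact (Submodule.neg_mem_iff _).1 this
    have hcN : ∀ n ∈ Nn, c * n ∈ Nn ^ 4 := by
      intro n hn
      obtain ⟨a, b, p, hp, rfl⟩ := hdecN n hn
      rw [mul_add, mul_add, mul_smul_comm, mul_smul_comm]
      exact Submodule.add_mem _ (Submodule.add_mem _ (Submodule.smul_mem _ _ hcx)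
        (Submodule.smul_mem _ _ hcy)) (hmem22 c hcN2 p hp)
    have h34 : Nn ^ 3 ≤ Nn ^ (3 + 1) := by
      have e5 : Nn ^ 3 = Nn ^ 2 * Nn := pow_succ Nn 2
      rw [e5, Submodule.mul_le]
      intro q hq n hn
      obtain ⟨l, r, hr, rfl⟩ := hcoef q hq
      rw [add_mul, smul_mul_assoc]
      exact Submodule.add_mem _ (Submodule.smul_mem _ _ (hcN n hn)) (hmem4r r hr n hn)
    exact h3 (habsorb 3 h34)

/-- **K1** (Külshammer's lemma): a symmetric local corner algebra with no five independent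
central elements is commutative. -/
theorem corner_comm_of_no_five (t : R →ₗ[k] k) (ht : ∀ a b, t (a * b) = t (b * a))
    (e : R) (he : IsIdempotentElem e)
    (Js : Submodule k R) (hJl : ∀ a ∈ Js, ∀ x, x * a ∈ Js) (hJr : ∀ a ∈ Js, ∀ x, a * x ∈ Js)
    (hJnil : ∃ M : ℕ, Js ^ M = ⊥)
    (hC : ∀ x, ∃ c : k, e * x * e - c • e ∈ Js)
    (hndC : ∀ a, e * a * e = a → (∀ c, t (a * (e * c * e)) = 0) → a = 0)
    (hZC : ∀ w : Fin 5 → R, (∀ i, e * w i * e = w i) →
      (∀ i x, w i * (e * x * e) = (e * x * e) * w i) → ¬ LinearIndependent k w) :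
    ∀ c ∈ corner k e, ∀ d ∈ corner k e, c * d = d * c := by
  classical
  set C : Submodule k R := corner k e with hCdef
  have hCm : ∀ c, c ∈ C ↔ e * c * e = c := fun c => mem_corner_iff he c
  have heC : e ∈ C := by rw [hCm]; rw [he.eq, he.eq]
  have hec : ∀ c ∈ C, e * c = c := by
    intro c hc
    have := (hCm c).1 hc
    calc e * c = e * (e * c * e) := by rw [this]
      _ = (e * e) * c * e := by noncomm_ring
      _ = c := by rw [he.eq, this]
  have hce : ∀ c ∈ C, c * e = c := by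
    intro c hc
    have := (hCm c).1 hc
    calc c * e = (e * c * e) * e := by rw [this]
      _ = e * c * (e * e) := by noncomm_ring
      _ = c := by rw [he.eq, this]
  have hCmul : ∀ c ∈ C, ∀ d ∈ C, c * d ∈ C := by
    intro c hc d hd
    rw [hCm]
    calc e * (c * d) * e = (e * c) * (d * e) := by noncomm_ring
      _ = c * d := by rw [hec c hc, hce d hd]
  have hexe : ∀ x, e * x * e ∈ C := fun x => (mem_corner e _).2 ⟨x, rfl⟩
  obtain ⟨M, hM⟩ := hJnil
  by_cases heJ : e ∈ Js
  · have h1 : e ^ (M + 1) ∈ Js ^ (M + 1) := Submodule.pow_mem_pow Js heJ (M + 1)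
    rw [pow_succ Js, hM, Submodule.bot_mul, Submodule.mem_bot, he.pow_succ_eq] at h1
    intro c hc d hd
    have hc0 : c = 0 := by rw [← (hCm c).1 hc, h1, zero_mul, zero_mul]
    rw [hc0, zero_mul, mul_zero]
  set Nn : Submodule k R := C ⊓ Js with hNn
  have hNC : Nn ≤ C := inf_le_left
  have hNJ : Nn ≤ Js := inf_le_right
  have hNmulC : ∀ n ∈ Nn, ∀ c ∈ C, n * c ∈ Nn := fun n hn c hc =>
    ⟨hCmul n hn.1 c hc, hJr n hn.2 c⟩
  have hdec : ∀ c ∈ C, ∃ l : k, c - l • e ∈ Nn := by
    intro c hc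
    obtain ⟨l, hl⟩ := hC c
    rw [(hCm c).1 hc] at hl
    exact ⟨l, C.sub_mem hc (C.smul_mem l heC), hl⟩
  have hcomm : ∀ c ∈ C, ∀ d ∈ C, ∃ n₁ ∈ Nn, ∃ n₂ ∈ Nn, c * d - d * c = n₁ * n₂ - n₂ * n₁ := by
    intro c hc d hd
    obtain ⟨l, hl⟩ := hdec c hc
    obtain ⟨m, hm⟩ := hdec d hd
    refine ⟨c - l • e, hl, d - m • e, hm, ?_⟩
    have e1 := hec c hc
    have e2 := hce c hc
    have e3 := hec d hd
    have e4 := hce d hd
    simp only [sub_mul, mul_sub, smul_mul_assoc, mul_smul_comm, e1, e2, e3, e4, he.eq, smul_sub]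
    rw [smul_comm m l e]
    abel
  have hNpow : ∀ m : ℕ, Nn ^ m ≤ Js ^ m := by
    intro m
    induction m with
    | zero => simp
    | succ m ih =>
      rw [pow_succ, pow_succ]
      exact Submodule.mul_le.2 (fun a ha b hb => Submodule.mul_mem_mul (ih ha) (hNJ hb))
  have hNnil : ∃ M' : ℕ, Nn ^ M' = ⊥ := ⟨M, by rw [eq_bot_iff, ← hM]; exact hNpow M⟩
  have heN : e ∉ Nn := fun h => heJ (hNJ h)
  refine kuls_comm_abs C Nn e heC hce hCmul hNC hNmulC hNnil hcomm hdec heN t ht ?_ ?_
  · intro a ha h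
    apply hndC a ((hCm a).1 ha)
    intro c
    exact h _ (hexe c)
  · intro w hw hwc
    exact hZC w (fun i => (hCm _).1 (hw i)) (fun i x => hwc i _ (hexe x))

/-- **K1'**: a symmetric local corner algebra with no `n + 1` independent central elements
(`n ≤ 4`) has dimension at most `n`. -/
theorem corner_finrank_le_of_no_indep (t : R →ₗ[k] k) (ht : ∀ a b, t (a * b) = t (b * a))
    (e : R) (he : IsIdempotentElem e)
    (Js : Submodule k R) (hJl : ∀ a ∈ Js, ∀ x, x * a ∈ Js) (hJr : ∀ a ∈ Js, ∀ x, a * x ∈ Js)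
    (hJnil : ∃ M : ℕ, Js ^ M = ⊥)
    (hC : ∀ x, ∃ c : k, e * x * e - c • e ∈ Js)
    (hndC : ∀ a, e * a * e = a → (∀ c, t (a * (e * c * e)) = 0) → a = 0)
    (n : ℕ) (hn : n ≤ 4)
    (hZC : ∀ w : Fin (n + 1) → R, (∀ i, e * w i * e = w i) →
      (∀ i x, w i * (e * x * e) = (e * x * e) * w i) → ¬ LinearIndependent k w) :
    finrank k ↥(corner k e) ≤ n := by
  classical
  have h5 : ∀ w : Fin 5 → R, (∀ i, e * w i * e = w i) →
      (∀ i x, w i * (e * x * e) = (e * x * e) * w i) → ¬ LinearIndependent k w := by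
    intro w hw hwc hli
    have hle : n + 1 ≤ 5 := by omega
    exact hZC (fun i => w (Fin.castLE hle i)) (fun i => hw _) (fun i x => hwc _ x)
      (hli.comp _ (Fin.castLE_injective hle))
  have hcomm := corner_comm_of_no_five t ht e he Js hJl hJr hJnil hC hndC h5
  by_contra hcon
  push Not at hcon
  obtain ⟨f, hf⟩ := exists_linearIndependent_of_le_finrank (R := k) (M := ↥(corner k e))
    (n := n + 1) (by omega)
  have hf2 : LinearIndependent k (fun i => ((f i : ↥(corner k e)) : R)) :=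
    hf.map' (corner k e).subtype (Submodule.ker_subtype _)
  exact hZC _ (fun i => (mem_corner_iff he _).1 (f i).2)
    (fun i x => hcomm _ (f i).2 _ ((mem_corner e _).2 ⟨x, rfl⟩)) hf2

end K1

end Cfsg.Agent.Lib.Lead.Brandt
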