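import Mathlib

/-! Self-reciprocal irreducible polynomials over a finite field (package P2 for S2264/S2265). -/

namespace Cfsg.Agent.Lib.MeoF3

open Polynomial

/-- a polynomial dividing its reverse has nonzero constant coefficient. -/
theorem coeff_zero_ne_zero_of_dvd_reverse {R : Type*} [CommRing R] [IsDomain R] (f : R[X])
    (hf0 : f ≠ 0) (hsr : f ∣ f.reverse) : f.coeff 0 ≠ 0 := by
  have hrev0 : f.reverse ≠ 0 := by
    simpa [Polynomial.reverse_eq_zero] using hf0
  have hle := Polynomial.natDegree_le_of_dvd hsr hrev0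
  rw [Polynomial.reverse_natDegree] at hle
  have htd : f.natTrailingDegree ≤ f.natDegree := Polynomial.natTrailingDegree_le_natDegree f
  have h0 : f.natTrailingDegree = 0 := by omega
  have := (Polynomial.trailingCoeff_nonzero_iff_nonzero (p := f)).mpr hf0
  rwa [Polynomial.trailingCoeff, h0] at this

/-- in a finite field `K` of cardinality `q^d` over `F`, `x^(q^i) = x^(q^(i % d))`. -/
theorem pow_card_pow_mod {K : Type*} [Field K] [Fintype K] (q d : ℕ)
    (hK : Fintype.card K = q ^ d) (x : K) (i : ℕ) :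
    x ^ (q ^ i) = x ^ (q ^ (i % d)) := by
  conv_lhs => rw [← Nat.div_add_mod i d]
  rw [pow_add, pow_mul, pow_mul q d, ← hK, FiniteField.pow_card_pow]


theorem sr_irreducible_dvd {F : Type*} [Field F] [Fintype F] (f : F[X]) (hf : Irreducible f)
    (hsr : f ∣ f.reverse) (h1 : ¬ f ∣ X - 1) (h2 : ¬ f ∣ X + 1) :
    ∃ a : ℕ, 0 < a ∧ f.natDegree = 2 * a ∧ f ∣ X ^ (Fintype.card F ^ a + 1) - 1 := by
  classical
  have : Fact (Irreducible f) := ⟨hf⟩
  have hf0 : f ≠ 0 := hf.ne_zero
  have hd0 : 0 < f.natDegree := hf.natDegree_pos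
  obtain ⟨p, hp⟩ := CharP.exists F
  have : Fact (Nat.Prime p) := ⟨CharP.char_is_prime F p⟩
  have : Module.Finite F (AdjoinRoot f) := (AdjoinRoot.powerBasis hf0).finite
  have : Finite (AdjoinRoot f) := Module.finite_of_finite F
  haveI : Fintype (AdjoinRoot f) := Fintype.ofFinite _
  have hcardK : Fintype.card (AdjoinRoot f) = Fintype.card F ^ f.natDegree := by
    rw [Module.card_eq_pow_finrank (K := F) (V := AdjoinRoot f)]
    congr 1
    exact finrank_quotient_span_eq_natDegree
  have hr : aeval (AdjoinRoot.root f) f = 0 := by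
    rw [AdjoinRoot.aeval_eq, AdjoinRoot.mk_self]
  have hr0 : AdjoinRoot.root f ≠ 0 := by
    intro h
    rw [h] at hr
    have : f.coeff 0 = 0 := by
      have h3 : aeval (0 : AdjoinRoot f) f = algebraMap F (AdjoinRoot f) (f.coeff 0) := by
        rw [Polynomial.aeval_def, Polynomial.eval₂_at_zero]
      rw [h3] at hr
      exact (map_eq_zero _).mp hr
    exact coeff_zero_ne_zero_of_dvd_reverse f hf0 hsr this
  -- the inverse of the root is a root
  have hrinv : f.eval₂ (Algebra.ofId F (AdjoinRoot f) : F →+* AdjoinRoot f)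
      (AdjoinRoot.root f)⁻¹ = 0 := by
    have hrev : aeval (AdjoinRoot.root f) f.reverse = 0 := by
      obtain ⟨g, hg⟩ := hsr
      rw [hg, map_mul, hr, zero_mul]
    let _inst : Invertible (AdjoinRoot.root f)⁻¹ := invertibleOfNonzero (inv_ne_zero hr0)
    have h4 := (Polynomial.eval₂_reverse_eq_zero_iff
      (algebraMap F (AdjoinRoot f)) (AdjoinRoot.root f)⁻¹ f).mp
    apply h4
    rw [invOf_eq_inv, inv_inv]
    exact hrev
  -- the Galois automorphism
  let τ₀ : AdjoinRoot f →ₐ[F] AdjoinRoot f :=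
    AdjoinRoot.liftAlgHom f (Algebra.ofId F (AdjoinRoot f)) (AdjoinRoot.root f)⁻¹ hrinv
  have hτ₀ : τ₀ (AdjoinRoot.root f) = (AdjoinRoot.root f)⁻¹ :=
    AdjoinRoot.liftAlgHom_root f _ _ hrinv
  have hbij : Function.Bijective τ₀ :=
    (Finite.injective_iff_bijective).mp τ₀.toRingHom.injective
  let τ : AdjoinRoot f ≃ₐ[F] AdjoinRoot f := AlgEquiv.ofBijective τ₀ hbij
  obtain ⟨i, hi⟩ := FiniteField.exists_forall_apply_eq_pow F p (AdjoinRoot f) τ
  have hi' : (AdjoinRoot.root f)⁻¹ = (AdjoinRoot.root f) ^ (Fintype.card F ^ i) := by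
    have := hi (AdjoinRoot.root f)
    rw [Nat.card_eq_fintype_card] at this
    rw [← this, ← hτ₀]
    rfl
  -- reduce mod the degree
  set j := i % f.natDegree with hj
  have hjlt : j < f.natDegree := Nat.mod_lt _ hd0
  have hrj : (AdjoinRoot.root f)⁻¹ = (AdjoinRoot.root f) ^ (Fintype.card F ^ j) := by
    rw [hi', pow_card_pow_mod (Fintype.card F) f.natDegree hcardK]
  -- applying twice
  have hr2 : (AdjoinRoot.root f) ^ (Fintype.card F ^ (2 * j)) = AdjoinRoot.root f := by
    rw [two_mul, pow_add, pow_mul, ← hrj, inv_pow, ← hrj, inv_inv]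
  have hdvd : f ∣ X ^ (Nat.card F) ^ (2 * j) - X := by
    rw [← AdjoinRoot.mk_eq_zero, map_sub, map_pow, AdjoinRoot.mk_X, Nat.card_eq_fintype_card, hr2,
      sub_self]
  have hd2 : f.natDegree ∣ 2 * j := hf.natDegree_dvd_of_dvd_X_pow_card_pow_sub_X hdvd
  have hj0 : j ≠ 0 := by
    intro hj0
    rw [hj0, pow_zero, pow_one] at hrj
    have hsq : (AdjoinRoot.root f - 1) * (AdjoinRoot.root f + 1) = 0 := by
      have : AdjoinRoot.root f * AdjoinRoot.root f = 1 := by
        have h5 := mul_inv_cancel₀ hr0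
        rwa [hrj] at h5
      linear_combination this
    rcases mul_eq_zero.mp hsq with h | h
    · apply h1
      rw [← AdjoinRoot.mk_eq_zero, map_sub, AdjoinRoot.mk_X, map_one]
      exact h
    · apply h2
      rw [← AdjoinRoot.mk_eq_zero, map_add, AdjoinRoot.mk_X, map_one]
      exact h
  have hdeg : f.natDegree = 2 * j := by
    obtain ⟨c, hc⟩ := hd2
    have hc1 : c = 1 := by
      rcases c with _ | _ | c
      · omega
      · rfl
      · exfalso
        have : 2 * f.natDegree ≤ f.natDegree * (c + 1 + 1) := by nlinarith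
        omega
    rw [hc, hc1, mul_one]
  refine ⟨j, Nat.pos_of_ne_zero hj0, hdeg, ?_⟩
  rw [← AdjoinRoot.mk_eq_zero, map_sub, map_pow, AdjoinRoot.mk_X, map_one, pow_succ, ← hrj,
    inv_mul_cancel₀ hr0, sub_self]

end Cfsg.Agent.Lib.MeoF3
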