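import Mathlib
import Cfsg.Prelude
import Cfsg.Agent.Lib.Helper2.PGUMeoDefs
import Cfsg.Agent.Lib.Helper8.PGUMeoBlock

/-!
# S2263, package E1: a cyclic torus of order `q^k + 1` in `GU_k(q)`, `k` odd
-/

set_option autoImplicit false
set_option linter.unusedSectionVars false
set_option linter.unusedVariables false
set_option linter.style.longLine false
set_option linter.style.haveILetI false

namespace Cfsg.Agent.Lib.PGUMeo

open Polynomial Cfsg.Agent.Lib.Helper5.SSOrder Cfsg.Agent.S0278 Cfsg.Agent.Lib.Helper5.PGUr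
open Cfsg.Agent.Lib.Helper5.Pal Cfsg.Agent.Lib.Helper5.Wall Cfsg.Agent.Lib.Helper5

/-- arithmetic: `q^k + 1 ∣ q^(2m) - 1` with `0 < m` forces `k ≤ m` (`k` odd, `q ≥ 2`). -/
theorem e1_arith {q k m : ℕ} (hq : 2 ≤ q) (hk : Odd k) (hm : 0 < m) (hmk : m < k)
    (hd : q ^ k + 1 ∣ q ^ (2 * m) - 1) : False := by
  have hq0 : 0 < q := by omega
  rcases Nat.lt_or_ge (2 * m) k with h | h
  · have h1 : q ^ (2 * m) < q ^ k := Nat.pow_lt_pow_right (by omega) h
    have h2 : 0 < q ^ (2 * m) - 1 := by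
      have : 2 ≤ q ^ (2 * m) := by
        calc 2 ≤ q := hq
          _ = q ^ 1 := (pow_one q).symm
          _ ≤ q ^ (2 * m) := Nat.pow_le_pow_right hq0 (by omega)
      omega
    have := Nat.le_of_dvd h2 hd
    omega
  · have hne : 2 * m ≠ k := by
      intro e
      rw [← e] at hk
      exact (Nat.not_odd_iff_even.2 (even_two_mul m)) hk
    obtain ⟨j, hj⟩ : ∃ j, 2 * m = k + j := ⟨2 * m - k, by omega⟩
    have hj0 : 0 < j := by omega
    have hjk : j < k := by omega
    have e : q ^ (2 * m) - 1 + (q ^ j + 1) = (q ^ k + 1) * q ^ j := by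
      have h1 : 1 ≤ q ^ (2 * m) := Nat.one_le_pow _ _ hq0
      rw [hj, pow_add]
      have h1' : 1 ≤ q ^ k * q ^ j := by rw [← pow_add, ← hj]; exact h1
      zify [h1']
      ring
    have hd2 : q ^ k + 1 ∣ q ^ j + 1 := by
      have h3 : q ^ k + 1 ∣ q ^ (2 * m) - 1 + (q ^ j + 1) := by rw [e]; exact dvd_mul_right _ _
      exact (Nat.dvd_add_right hd).1 h3
    have h4 : q ^ j < q ^ k := Nat.pow_lt_pow_right (by omega) hjk
    have := Nat.le_of_dvd (by positivity) hd2
    omega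

theorem e1_dvd {q k : ℕ} (hq : 1 ≤ q) : q ^ k + 1 ∣ q ^ (2 * k) - 1 := by
  have h1 : 1 ≤ q ^ k := Nat.one_le_pow _ _ hq
  have e : q ^ (2 * k) - 1 = (q ^ k + 1) * (q ^ k - 1) := by
    have h2 : 1 ≤ q ^ (2 * k) := Nat.one_le_pow _ _ hq
    zify [h1, h2]
    ring
  rw [e]
  exact dvd_mul_right _ _

/-- roots of a polynomial over `K` are stable under `y ↦ y ^ (card K)^j`. -/
theorem e1_root_pow {K : Type*} [Field K] [Fintype K] {L : Type*} [Field L] [Algebra K L]
    (f : K[X]) (y : L) (hy : aeval y f = 0) (j : ℕ) :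
    aeval (y ^ (Fintype.card K) ^ j) f = 0 := by
  induction j with
  | zero => simpa using hy
  | succ j ih =>
    rw [pow_succ, pow_mul, ← Polynomial.expand_aeval, FiniteField.expand_card, map_pow, ih,
      zero_pow Fintype.card_ne_zero]

theorem exists_torus_odd {K : Type*} [Field K] [Fintype K] {q : ℕ} (hK : Fintype.card K = q ^ 2)
    (k : ℕ) (hk : Odd k) : ∃ c : ↥(Cfsg.GU k K q), orderOf c = q ^ k + 1 := by
  classical
  obtain ⟨p, hp⟩ := CharP.exists K
  haveI : Fact p.Prime := ⟨CharP.char_is_prime K p⟩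
  have hpp : p.Prime := Fact.out
  obtain ⟨e, he⟩ := exists_q_eq_pow hK p
  have hq2 : 2 ≤ q := by
    by_contra h
    have h1 : q ≤ 1 := by omega
    have h2 : q ^ 2 ≤ 1 := by
      calc q ^ 2 ≤ 1 ^ 2 := Nat.pow_le_pow_left h1 2
        _ = 1 := one_pow 2
    have h3 : 1 < Fintype.card K := Fintype.one_lt_card
    omega
  have he0 : e ≠ 0 := by
    intro h
    rw [h, pow_zero] at he
    omega
  have hk0 : 0 < k := hk.pos
  set N := q ^ k + 1 with hN
  have hKpf : Fintype.card K = p ^ (2 * e) := by rw [hK, he, ← pow_mul, mul_comm]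
  have hcop : p.Coprime N := by
    rw [Nat.Prime.coprime_iff_not_dvd hpp]
    intro hd
    have h1 : p ∣ q ^ k := by
      rw [he, ← pow_mul]
      exact dvd_pow_self p (Nat.mul_ne_zero he0 hk0.ne')
    have h2 : p ∣ 1 := (Nat.dvd_add_right h1).1 hd
    exact hpp.one_lt.ne' (Nat.dvd_one.1 h2)
  have hN2 : 2 ≤ N := by
    have : 1 ≤ q ^ k := Nat.one_le_pow _ _ (by omega)
    omega
  -- an irreducible monic factor of the cyclotomic polynomial
  have hcyc_deg : 0 < (cyclotomic N K).natDegree := by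
    rw [natDegree_cyclotomic]
    exact Nat.totient_pos.2 (by omega)
  obtain ⟨P, hPm, hPirr, hPdvd⟩ := exists_monic_irreducible_factor (cyclotomic N K)
    (not_isUnit_of_natDegree_pos _ hcyc_deg)
  have hPX : P ∣ X ^ N - 1 := hPdvd.trans (cyclotomic.dvd_X_pow_sub_one N K)
  have hP0 : P.coeff 0 ≠ 0 := by
    intro h
    have h1 : (X : K[X]) ∣ P := X_dvd_iff.2 h
    have h2 : (X : K[X]) ∣ X ^ N - 1 := h1.trans hPX
    have h3 := X_dvd_iff.1 h2
    rw [coeff_sub, coeff_X_pow, coeff_one_zero, if_neg (by omega), zero_sub] at h3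
    exact one_ne_zero (neg_eq_zero.1 h3)
  -- its degree is `k`
  have hdeg : P.natDegree = k := by
    rw [natDegree_of_dvd_cyclotomic_of_irreducible hKpf hcop hPdvd hPirr]
    have hpow : ∀ m : ℕ, (ZMod.unitOfCoprime (p ^ (2 * e)) (hcop.pow_left (2 * e))) ^ m = 1
        ↔ N ∣ q ^ (2 * m) - 1 := by
      intro m
      have h1 : 1 ≤ q ^ (2 * m) := Nat.one_le_pow _ _ (by omega)
      rw [← Units.val_inj, Units.val_pow_eq_pow_val, ZMod.coe_unitOfCoprime, Units.val_one,
        ← Nat.cast_pow, ← Nat.cast_one (R := ZMod N), ZMod.natCast_eq_natCast_iff,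
        ← pow_mul, show p ^ (2 * e * m) = q ^ (2 * m) by rw [he, ← pow_mul]; ring_nf]
      constructor
      · intro h
        exact (Nat.modEq_iff_dvd' h1).1 h.symm
      · intro h
        exact ((Nat.modEq_iff_dvd' h1).2 h).symm
    rw [orderOf_eq_iff hk0]
    refine ⟨(hpow k).2 (e1_dvd (by omega)), ?_⟩
    intro m hmk hm h
    exact e1_arith hq2 hk hm hmk ((hpow m).1 h)
  -- a semisimple matrix with this characteristic polynomial
  obtain ⟨A, k', hk'0, hk'p, hAk', hAf⟩ := exists_semisimple_of_charpoly p P hPm hdeg hP0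
  have hAP : aeval A P = 0 := by rw [← hAf]; exact Matrix.aeval_self_charpoly A
  have hAN : A ^ N = 1 := by
    obtain ⟨c, hc⟩ := hPX
    have h1 : aeval A (X ^ N - 1 : K[X]) = 0 := by rw [hc, map_mul, hAP, zero_mul]
    rw [map_sub, map_pow, aeval_X, map_one] at h1
    exact sub_eq_zero.1 h1
  -- the field `S = K[X]/(P)` and its root
  haveI : Fact (Irreducible P) := ⟨hPirr⟩
  set ζ : AdjoinRoot P := AdjoinRoot.root P with hζ
  have hζP : aeval ζ P = 0 := by rw [AdjoinRoot.aeval_eq, AdjoinRoot.mk_self]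
  haveI : CharP (AdjoinRoot P) p :=
    charP_of_injective_algebraMap (algebraMap K (AdjoinRoot P)).injective p
  haveI : NeZero ((N : ℕ) : AdjoinRoot P) := by
    constructor
    intro h
    have h1 : p ∣ N := (CharP.cast_eq_zero_iff (AdjoinRoot P) p N).1 h
    exact (Nat.Prime.coprime_iff_not_dvd hpp).1 hcop h1
  have hζprim : IsPrimitiveRoot ζ N := by
    rw [← Polynomial.isRoot_cyclotomic_iff]
    obtain ⟨c, hc⟩ := hPdvd
    have h1 : aeval ζ (cyclotomic N K) = 0 := by rw [hc, map_mul, hζP, zero_mul]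
    rw [IsRoot.def, ← map_cyclotomic N (algebraMap K (AdjoinRoot P)), eval_map, ← aeval_def]
    exact h1
  have hζ0 : ζ ≠ 0 := hζprim.ne_zero (by omega)
  haveI : Nonempty (Fin k) := ⟨⟨0, hk0⟩⟩
  -- order of `A`
  have hAord : ∀ j : ℕ, A ^ j = 1 → N ∣ j := by
    intro j hj
    have h1 : minpoly K A ∣ X ^ j - 1 := by
      apply minpoly.dvd
      rw [map_sub, map_pow, aeval_X, map_one, hj, sub_self]
    have h2 : minpoly K A ∣ P := by rw [← hAf]; exact Matrix.minpoly_dvd_charpoly A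
    have hAint : IsIntegral K A := Matrix.isIntegral A
    have h3 : ¬ IsUnit (minpoly K A) := minpoly.not_isUnit K A
    have h4 : P ∣ minpoly K A := by
      obtain ⟨c, hc⟩ := h2
      rcases hPirr.isUnit_or_isUnit hc with h | h
      · exact absurd h h3
      · obtain ⟨u, rfl⟩ := h
        exact ⟨↑u⁻¹, by rw [hc, mul_assoc, Units.mul_inv, mul_one]⟩
    have h5 : P ∣ X ^ j - 1 := h4.trans h1
    obtain ⟨c, hc⟩ := h5
    have h6 : aeval ζ (X ^ j - 1 : K[X]) = 0 := by rw [hc, map_mul, hζP, zero_mul]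
    rw [map_sub, map_pow, aeval_X, map_one] at h6
    exact hζprim.dvd_of_pow_eq_one j (sub_eq_zero.1 h6)
  -- `dag P = P`
  have hdag : dag hK P = P := by
    obtain ⟨hdirr, hdm, -, -⟩ := dag_irreducible hK P hPirr hPm hP0
    have h1 : aeval ((ζ ^ q)⁻¹) (dag hK P) = 0 := aeval_dag_inv hK P ζ hζ0 hζP
    obtain ⟨j, hj⟩ : ∃ j, k + 1 = 2 * j := by
      obtain ⟨i, hi⟩ := hk
      exact ⟨i + 1, by omega⟩
    have h2 : (ζ ^ q)⁻¹ = ζ ^ (Fintype.card K) ^ j := by
      rw [hK, ← pow_mul, ← hj, pow_succ, pow_mul]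
      have h3 : ζ ^ q ^ k * ζ = 1 := by
        rw [← pow_succ]
        exact hζprim.pow_eq_one
      have h4 : ζ ^ q ^ k = ζ⁻¹ := eq_inv_of_mul_eq_one_left h3
      rw [h4, inv_pow]
    have h3 : aeval ((ζ ^ q)⁻¹) P = 0 := by
      rw [h2]
      exact e1_root_pow P ζ hζP j
    exact (minpoly.eq_of_irreducible_of_monic hdirr h1 hdm).trans
      (minpoly.eq_of_irreducible_of_monic hPirr h3 hPm).symm
  -- the unitary conjugate
  obtain ⟨N', hN'⟩ : ∃ N', N = N' + 1 := ⟨N - 1, by omega⟩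
  set Ag : GL (Fin k) K := ⟨A, A ^ N', by rw [← pow_succ', ← hN', hAN], by rw [← pow_succ, ← hN', hAN]⟩
    with hAg
  have hAgN : Ag ^ N = 1 := by
    apply Units.ext
    rw [Units.val_pow_eq_pow_val, Units.val_one]
    exact hAN
  have h1 : (Ag : Matrix (Fin k) (Fin k) K) * ((Ag⁻¹ : GL (Fin k) K) : Matrix (Fin k) (Fin k) K) = 1 :=
    Units.mul_inv Ag
  have h2 : ((Ag⁻¹ : GL (Fin k) K) : Matrix (Fin k) (Fin k) K) * (Ag : Matrix (Fin k) (Fin k) K) = 1 :=
    Units.inv_mul Ag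
  set A' : GL (Fin k) K := ⟨ct hK ((Ag⁻¹ : GL (Fin k) K) : Matrix (Fin k) (Fin k) K),
    ct hK (Ag : Matrix (Fin k) (Fin k) K), by rw [← ct_mul, h1, ct_one],
    by rw [← ct_mul, h2, ct_one]⟩ with hA'
  have hA'N : (A' : Matrix (Fin k) (Fin k) K) ^ N = 1 := by
    show ct hK ((Ag⁻¹ : GL (Fin k) K) : Matrix (Fin k) (Fin k) K) ^ N = 1
    rw [← ct_pow, ← Units.val_pow_eq_pow_val, inv_pow, hAgN, inv_one, Units.val_one, ct_one]
  have hA'c : (A' : Matrix (Fin k) (Fin k) K).charpoly = P := by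
    show (ct hK ((Ag⁻¹ : GL (Fin k) K) : Matrix (Fin k) (Fin k) K)).charpoly = P
    rw [charpoly_ct, charpoly_inv_eq_rc_matrix _ _ h1]
    show ((rc A.charpoly).map (powQ hK)) = P
    rw [hAf, ← rc_map_powQ]
    exact hdag
  obtain ⟨Pm, hPu, hPM⟩ := Cfsg.Agent.S2388.exists_gl_conj p A (A' : Matrix (Fin k) (Fin k) K) N
    hcop.symm hAN hA'N (by rw [hAf, hA'c])
  have hPu' : IsUnit Pm := (Matrix.isUnit_iff_isUnit_det Pm).2 hPu
  obtain ⟨c, rfl⟩ := hPu'
  have hconj : IsConj Ag A' := by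
    rw [isConj_iff]
    refine ⟨c, ?_⟩
    have h3 : c * Ag = A' * c := Units.ext (by rw [Units.val_mul, Units.val_mul]; exact hPM)
    rw [h3]; group
  have hconjM : IsConj (Ag : Matrix (Fin k) (Fin k) K)
      (((Ag : Matrix (Fin k) (Fin k) K).map (fun x : K => x ^ q)).transpose)⁻¹ := by
    have h3 : (((Ag : Matrix (Fin k) (Fin k) K).map (fun x : K => x ^ q)).transpose)⁻¹ =
        (A' : Matrix (Fin k) (Fin k) K) := by
      apply Matrix.inv_eq_right_inv
      show ct hK (Ag : Matrix (Fin k) (Fin k) K) *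
        ct hK ((Ag⁻¹ : GL (Fin k) K) : Matrix (Fin k) (Fin k) K) = 1
      rw [← ct_mul, h2, ct_one]
    rw [h3]
    exact (Units.coeHom (Matrix (Fin k) (Fin k) K)).map_isConj hconj
  obtain ⟨B, hB⟩ := (Cfsg.Agent.S2588.result hK Ag).2 hconjM
  rw [isConj_iff] at hB
  obtain ⟨d, hd⟩ := hB
  refine ⟨B, ?_⟩
  have hBpow : ∀ j : ℕ, B ^ j = 1 ↔ A ^ j = 1 := by
    intro j
    constructor
    · intro h
      have h3 : ((B ^ j : ↥(Cfsg.GU k K q)) : GL (Fin k) K) = 1 := by rw [h]; rfl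
      rw [SubgroupClass.coe_pow, ← hd, conj_pow] at h3
      have h4 : Ag ^ j = 1 := by
        have := congrArg (fun x => d⁻¹ * x * d) h3
        simp only [mul_one, inv_mul_cancel] at this
        rw [← this]; group
      have := congrArg (fun x : GL (Fin k) K => (x : Matrix (Fin k) (Fin k) K)) h4
      simpa [Units.val_pow_eq_pow_val] using this
    · intro h
      apply Subtype.ext
      rw [SubgroupClass.coe_pow, ← hd, conj_pow]
      have h4 : Ag ^ j = 1 := by
        apply Units.ext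
        rw [Units.val_pow_eq_pow_val, Units.val_one]
        exact h
      rw [h4, mul_one, mul_inv_cancel]
      rfl
  rw [orderOf_eq_iff (by omega)]
  refine ⟨(hBpow N).2 hAN, ?_⟩
  intro m hmN hm0 h
  have := Nat.le_of_dvd hm0 (hAord m ((hBpow m).1 h))
  omega

end Cfsg.Agent.Lib.PGUMeo
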