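import Mathlib
import Cfsg.Agent.Lib.Helper8.SBS4

/-!
# S4306 (a non-abelian group of order `pq` acting without fixed points): common vocabulary

* `FrobPQ A F H₀ p q` : `A ≤ T` is a Frobenius group of order `pq` with kernel `F` (order `q`) and
  complement `H₀` (order `p`);
* `Tower V r t s p q Q S A F H₀` : the critical configuration of `notes/S4306_plan_helper4.md`
  (end of §1): `T = (QS)A` acts on the `𝔽_r`-module `V`, `Q ⊴ T` a `t`-group, `S` an `A`-invariant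
  `s`-group, `Q` faithful on `V`, `V` irreducible, no fixed points of `A` on `Q`, `S`, `V`,
  `[Q,S] ≠ 1`, and the two minimality conditions;
* `Zc Q S = C_Q(S)`, `CS Q S = C_S(Q)`.
-/

set_option autoImplicit false
set_option linter.unusedSectionVars false
set_option linter.unusedVariables false

namespace Cfsg.Agent.Lib.Helper4.PQ

universe u w

section frob

variable {T : Type w} [Group T]

/-- `A` is a Frobenius group of order `pq`: kernel `F` of order `q`, complement `H₀` of order `p`. -/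
structure FrobPQ (A F H₀ : Subgroup T) (p q : ℕ) : Prop where
  hp : p.Prime
  hq : q.Prime
  hpq : p ≠ q
  hFA : F ≤ A
  hHA : H₀ ≤ A
  hF : Nat.card F = q
  hH : Nat.card H₀ = p
  hA : Nat.card A = p * q
  hFn : ∀ a ∈ A, ∀ f ∈ F, a * f * a⁻¹ ∈ F
  hfpf : ∀ h ∈ H₀, h ≠ 1 → ∀ f ∈ F, h * f = f * h → f = 1

/-- `C_Q(S)` -/
def Zc (Q S : Subgroup T) : Subgroup T := Q ⊓ Subgroup.centralizer (S : Set T)

/-- `C_S(Q)` -/
def CS (Q S : Subgroup T) : Subgroup T := S ⊓ Subgroup.centralizer (Q : Set T)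

theorem mem_Zc {Q S : Subgroup T} {u : T} : u ∈ Zc Q S ↔ u ∈ Q ∧ ∀ c ∈ S, c * u = u * c :=
  Iff.rfl

theorem mem_CS {Q S : Subgroup T} {c : T} : c ∈ CS Q S ↔ c ∈ S ∧ ∀ u ∈ Q, u * c = c * u :=
  Iff.rfl

end frob

section tower

variable (V : Type u) [AddCommGroup V] {T : Type w} [Group T] [DistribMulAction T V]

/-- the critical configuration (tower of height three). -/
structure Tower (r t s p q : ℕ) (Q S A F H₀ : Subgroup T) : Prop where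
  frob : FrobPQ A F H₀ p q
  hr : r.Prime
  ht : t.Prime
  hs : s.Prime
  htr : t ≠ r
  hts : t ≠ s
  hrA : r.Coprime (p * q)
  htA : t.Coprime (p * q)
  hsA : s.Coprime (p * q)
  hVr : ∀ v : V, r • v = 0
  hV : ∃ v : V, v ≠ 0
  hQ : IsPGroup t Q
  hS : IsPGroup s S
  hQn : Q.Normal
  hAS : ∀ a ∈ A, ∀ c ∈ S, a * c * a⁻¹ ∈ S
  hgen : ∀ x : T, ∃ u ∈ Q, ∃ c ∈ S, ∃ a ∈ A, x = u * c * a
  hfaith : ∀ u ∈ Q, (∀ v : V, u • v = v) → u = 1
  hfpfQ : ∀ u ∈ Q, (∀ a ∈ A, a * u = u * a) → u = 1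
  hfpfS : ∀ c ∈ S, (∀ a ∈ A, a * c = c * a) → c = 1
  hfpfV : ∀ v : V, (∀ a ∈ A, a • v = v) → v = 0
  hirr : ∀ W : AddSubgroup V, (∀ x : T, ∀ w ∈ W, x • w ∈ W) → W = ⊥ ∨ W = ⊤
  hQS : ∃ u ∈ Q, ∃ c ∈ S, u * c ≠ c * u
  hmin1 : ∀ S₁ : Subgroup T, S₁ ≤ S → S₁ ≠ S → (∀ a ∈ A, ∀ c ∈ S₁, a * c * a⁻¹ ∈ S₁) →
    ∀ u ∈ Q, ∀ c ∈ S₁, u * c = c * u
  hmin2 : ∀ Q₁ : Subgroup T, Q₁ ≤ Q → Q₁ ≠ Q → (∀ a ∈ A, ∀ u ∈ Q₁, a * u * a⁻¹ ∈ Q₁) →
    (∀ c ∈ S, ∀ u ∈ Q₁, c * u * c⁻¹ ∈ Q₁) → ∀ u ∈ Q₁, ∀ c ∈ S, u * c = c * u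

end tower

section fixer

variable {V : Type u} [AddCommGroup V] {T : Type w} [Group T] [DistribMulAction T V]

/-- `C_Q(W)`: the elements of `Q` acting trivially on the additive subgroup `W` -/
def CW (Q : Subgroup T) (W : AddSubgroup V) : Subgroup T where
  carrier := {u | u ∈ Q ∧ ∀ w ∈ W, u • w = w}
  one_mem' := ⟨Q.one_mem, fun w _ => one_smul T w⟩
  mul_mem' := by
    rintro a b ⟨ha, ha'⟩ ⟨hb, hb'⟩
    refine ⟨Q.mul_mem ha hb, fun w hw => ?_⟩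
    rw [mul_smul, hb' w hw, ha' w hw]
  inv_mem' := by
    rintro a ⟨ha, ha'⟩
    refine ⟨Q.inv_mem ha, fun w hw => ?_⟩
    rw [inv_smul_eq_iff, ha' w hw]

theorem mem_CW {Q : Subgroup T} {W : AddSubgroup V} {u : T} :
    u ∈ CW Q W ↔ u ∈ Q ∧ ∀ w ∈ W, u • w = w := Iff.rfl

theorem CW_le (Q : Subgroup T) (W : AddSubgroup V) : CW Q W ≤ Q := fun _ h => h.1

end fixer

end Cfsg.Agent.Lib.Helper4.PQ
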