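import Mathlib
import Cfsg.Agent.Lib.Helper4.HH13

set_option autoImplicit false

/-! Package P-HH of the S4305 swarm: a `q`-group `P` (`q` odd) normalized by an element `a` of prime
order `s ≠ q`, both acting on a finite abelian group `V` of prime exponent `p ∉ {q, s}` with
`C_V(a) = 0`: then `[P, a]` acts trivially on `V`.  This is the coprime Hall–Higman theorem
`HH.hh_act` (whose only exception is `q = 2`, `s` a Fermat prime) in additive vocabulary. -/

namespace Cfsg.Agent.Lib.Helper4.S3HH

universe u w

variable {V : Type u} [AddCommGroup V] {T : Type w} [Group T] [DistribMulAction T V]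

/-- the multiplicative form of a distributive action on an additive group -/
@[reducible] def mulAct (T : Type w) (V : Type u) [AddCommGroup V] [Group T] [DistribMulAction T V] :
    MulDistribMulAction T (Multiplicative V) where
  smul t v := Multiplicative.ofAdd (t • Multiplicative.toAdd v)
  one_smul v := by
    change Multiplicative.ofAdd ((1 : T) • Multiplicative.toAdd v) = v
    rw [one_smul]; rfl
  mul_smul s t v := by
    change Multiplicative.ofAdd ((s * t) • Multiplicative.toAdd v) =
      Multiplicative.ofAdd (s • t • Multiplicative.toAdd v)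
    rw [mul_smul]
  smul_mul t v w := by
    change Multiplicative.ofAdd (t • (Multiplicative.toAdd v + Multiplicative.toAdd w)) =
      Multiplicative.ofAdd (t • Multiplicative.toAdd v + t • Multiplicative.toAdd w)
    rw [smul_add]
  smul_one t := by
    change Multiplicative.ofAdd (t • (0 : V)) = Multiplicative.ofAdd 0
    rw [smul_zero]

/-- **(HH), commutation form**: `a` and every element of `P` commute in their action on `V`. -/
theorem smul_comm_of_fixedPointFree [Finite V] [Finite T] {p q s : ℕ} (hp : p.Prime) (hq : q.Prime)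
    (hs : s.Prime) (hV : ∀ v : V, p • v = 0) (hq2 : q ≠ 2) (hqs : q ≠ s) (hpq : p ≠ q)
    (hps : p ≠ s) (P : Subgroup T) (hP : IsPGroup q P) (a : T) (ha : a ^ s = 1)
    (haP : ∀ x ∈ P, a * x * a⁻¹ ∈ P) (hCV : ∀ v : V, a • v = v → v = 0) :
    ∀ x ∈ P, ∀ v : V, a • x • v = x • a • v := by
  haveI : Fact p.Prime := ⟨hp⟩
  letI := mulAct T V
  have hmain := Cfsg.Agent.Lib.Helper4.HH.hh_act (A := T) (V := Multiplicative V) p
    (fun a b => mul_comm a b)
    (by
      intro v
      change Multiplicative.ofAdd (p • Multiplicative.toAdd v) = 1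
      rw [hV]; rfl)
    a q s hq hs hqs (Ne.symm hpq) (Ne.symm hps) ha
    (by
      intro v hv
      have h1 : a • Multiplicative.toAdd v = Multiplicative.toAdd v :=
        congrArg Multiplicative.toAdd hv
      have h2 := hCV _ h1
      exact congrArg Multiplicative.ofAdd h2)
    P hP haP (fun h2 => absurd h2 hq2)
  intro x hx v
  exact congrArg Multiplicative.toAdd (hmain x hx (Multiplicative.ofAdd v))

/-- **(HH)**: the commutators `[a, x]`, `x ∈ P`, act trivially on `V`. -/
theorem comm_acts_trivially [Finite V] [Finite T] {p q s : ℕ} (hp : p.Prime) (hq : q.Prime)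
    (hs : s.Prime) (hV : ∀ v : V, p • v = 0) (hq2 : q ≠ 2) (hqs : q ≠ s) (hpq : p ≠ q)
    (hps : p ≠ s) (P : Subgroup T) (hP : IsPGroup q P) (a : T) (ha : a ^ s = 1)
    (haP : ∀ x ∈ P, a * x * a⁻¹ ∈ P) (hCV : ∀ v : V, a • v = v → v = 0) :
    ∀ x ∈ P, ∀ v : V, (a * x * a⁻¹ * x⁻¹) • v = v := by
  intro x hx v
  have h := smul_comm_of_fixedPointFree hp hq hs hV hq2 hqs hpq hps P hP a ha haP hCV x hx
    (a⁻¹ • x⁻¹ • v)
  rw [smul_inv_smul] at h
  rw [mul_smul, mul_smul, mul_smul, h, smul_inv_smul]

end Cfsg.Agent.Lib.Helper4.S3HH
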