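import Mathlib

set_option autoImplicit false

/-! Basic facts on centralizer indices ("breadth") in finite `p`-groups, for Vaughan-Lee's theorem. -/

namespace Cfsg.Agent.Lib.Helper4.VL

open Subgroup
open scoped commutatorElement

section general

variable {G : Type*} [Group G]

/-- T5: translating by a central element does not change the centralizer. -/
theorem centralizer_central_mul {z : G} (hz : z ∈ center G) (v : G) :
    centralizer ({z * v} : Set G) = centralizer ({v} : Set G) := by
  ext x
  simp only [mem_centralizer_iff, Set.mem_singleton_iff, forall_eq]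
  have hzx : z * x = x * z := (mem_center_iff.mp hz x).symm
  constructor
  · intro h
    have : z * (v * x) = z * (x * v) := by
      calc z * (v * x) = z * v * x := (mul_assoc _ _ _).symm
        _ = x * (z * v) := h
        _ = x * z * v := (mul_assoc _ _ _).symm
        _ = z * x * v := by rw [hzx]
        _ = z * (x * v) := mul_assoc _ _ _
    exact mul_left_cancel this
  · intro h
    calc z * v * x = z * (v * x) := mul_assoc _ _ _
      _ = z * (x * v) := by rw [h]
      _ = z * x * v := (mul_assoc _ _ _).symm
      _ = x * z * v := by rw [hzx]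
      _ = x * (z * v) := mul_assoc _ _ _

theorem centralizer_mul_central {z : G} (hz : z ∈ center G) (v : G) :
    centralizer ({v * z} : Set G) = centralizer ({v} : Set G) := by
  have : v * z = z * v := (mem_center_iff.mp hz v)
  rw [this, centralizer_central_mul hz]

/-- membership in the centralizer of a singleton. -/
theorem mem_centralizer_singleton {u x : G} :
    x ∈ centralizer ({u} : Set G) ↔ u * x = x * u := by
  simp [mem_centralizer_iff]

/-- membership in the centralizer of a singleton in terms of the commutator. -/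
theorem mem_centralizer_singleton_iff_comm {u x : G} :
    x ∈ centralizer ({u} : Set G) ↔ ⁅x, u⁆ = 1 := by
  rw [mem_centralizer_singleton, commutatorElement_eq_one_iff_mul_comm]
  exact eq_comm

end general


section finite

variable {G : Type*} [Group G] [Finite G]

/-- T1: centralizer indices do not grow in quotients. -/
theorem index_centralizer_quotient_le (N : Subgroup G) [N.Normal] (u : G) :
    (centralizer ({(u : G ⧸ N)} : Set (G ⧸ N))).index ≤ (centralizer ({u} : Set G)).index := by
  have h1 : (centralizer ({u} : Set G)).map (QuotientGroup.mk' N) ≤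
      centralizer ({(u : G ⧸ N)} : Set (G ⧸ N)) := by
    rintro _ ⟨x, hx, rfl⟩
    rw [SetLike.mem_coe, mem_centralizer_singleton] at hx
    rw [mem_centralizer_singleton]
    show (u : G ⧸ N) * (x : G ⧸ N) = x * u
    rw [← QuotientGroup.mk_mul, hx, QuotientGroup.mk_mul]
  have h2 := index_dvd_of_le h1
  have h3 := (centralizer ({u} : Set G)).index_map_dvd (QuotientGroup.mk'_surjective N)
  exact Nat.le_of_dvd (Nat.pos_of_ne_zero index_ne_zero_of_finite) (h2.trans h3)

/-- In a finite `p`-group, a strict inclusion of subgroups has relative index at least `p`. -/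
theorem p_le_relIndex_of_lt {p : ℕ} [hp : Fact p.Prime] (hG : IsPGroup p G) {H K : Subgroup G}
    (hHK : H < K) : p ≤ H.relIndex K := by
  obtain ⟨n, hn⟩ := IsPGroup.iff_card.mp hG
  have h1 : H.relIndex K ∣ p ^ n := by
    rw [← hn]
    exact (relIndex_dvd_card H K).trans (card_subgroup_dvd_card K)
  obtain ⟨k, -, hk⟩ := (Nat.dvd_prime_pow hp.out).mp h1
  have hne : H.relIndex K ≠ 1 := fun h => (not_le_of_gt hHK) (relIndex_eq_one.mp h)
  rcases k with _ | k
  · exact absurd (by simpa using hk) hne
  · rw [hk, pow_succ]
    exact Nat.le_mul_of_pos_left p (pow_pos hp.out.pos k)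

/-- T1, exact drop: if some commutator `⁅y, u⁆` is a nontrivial element of `N`, the centralizer index of
`u` drops by a factor `p` at least in `G ⧸ N`. -/
theorem index_centralizer_quotient_mul_le {p : ℕ} [hp : Fact p.Prime] (hG : IsPGroup p G)
    (N : Subgroup G) [N.Normal] (u : G) (h : ∃ y : G, ⁅y, u⁆ ∈ N ∧ ⁅y, u⁆ ≠ 1) :
    (centralizer ({(u : G ⧸ N)} : Set (G ⧸ N))).index * p ≤ (centralizer ({u} : Set G)).index := by
  obtain ⟨y, hyN, hy1⟩ := h
  set C := centralizer ({u} : Set G) with hC
  set C' := (centralizer ({(u : G ⧸ N)} : Set (G ⧸ N))).comap (QuotientGroup.mk' N) with hC'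
  have hle : C ≤ C' := by
    intro x hx
    rw [hC, mem_centralizer_singleton] at hx
    rw [hC', mem_comap, mem_centralizer_singleton]
    show (u : G ⧸ N) * (x : G ⧸ N) = x * u
    rw [← QuotientGroup.mk_mul, hx, QuotientGroup.mk_mul]
  have hyC' : y ∈ C' := by
    rw [hC', mem_comap, mem_centralizer_singleton_iff_comm]
    show ⁅(y : G ⧸ N), (u : G ⧸ N)⁆ = 1
    have : ((⁅y, u⁆ : G) : G ⧸ N) = 1 := (QuotientGroup.eq_one_iff _).mpr hyN
    rw [← this]
    simp [commutatorElement_def]
  have hyC : y ∉ C := by
    rw [hC, mem_centralizer_singleton_iff_comm]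
    exact hy1
  have hlt : C < C' := lt_of_le_of_ne hle (fun h => hyC (h ▸ hyC'))
  have hidx : C'.index = (centralizer ({(u : G ⧸ N)} : Set (G ⧸ N))).index :=
    index_comap_of_surjective _ (QuotientGroup.mk'_surjective N)
  rw [← hidx, ← relIndex_mul_index hle, mul_comm]
  exact Nat.mul_le_mul_right _ (p_le_relIndex_of_lt hG hlt)

omit [Finite G] in
/-- The centralizer of an element of a subgroup, computed in the subgroup. -/
theorem centralizer_subgroup_eq (H : Subgroup G) (u : H) :
    centralizer ({u} : Set H) = (centralizer ({(u : G)} : Set G)).subgroupOf H := by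
  ext x
  rw [mem_subgroupOf, mem_centralizer_singleton, mem_centralizer_singleton, Subtype.ext_iff]
  rfl

/-- T2: centralizer indices do not grow in subgroups. -/
theorem index_centralizer_subgroup_le (H : Subgroup G) (u : H) :
    (centralizer ({u} : Set H)).index ≤ (centralizer ({(u : G)} : Set G)).index := by
  rw [centralizer_subgroup_eq]
  show (centralizer ({(u : G)} : Set G)).relIndex H ≤ _
  have := relIndex_le_of_le_right (H := centralizer ({(u : G)} : Set G)) (le_top : H ≤ ⊤)
    (by rw [relIndex_top_right]; exact index_ne_zero_of_finite)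
  rwa [relIndex_top_right] at this

omit [Finite G] in
/-- T2, exact form: if `C_G(u) ≤ H` then `|H : C_H(u)| * |G : H| = |G : C_G(u)|`. -/
theorem index_centralizer_subgroup_mul (H : Subgroup G) (u : H)
    (h : centralizer ({(u : G)} : Set G) ≤ H) :
    (centralizer ({u} : Set H)).index * H.index = (centralizer ({(u : G)} : Set G)).index := by
  rw [centralizer_subgroup_eq]
  exact relIndex_mul_index h

omit [Finite G] in
/-- T2, the other case: if `C_G(u)` is not inside the subgroup `H` of prime index, then the index
of the centralizer is the same in `H` and in `G`. -/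
theorem index_centralizer_subgroup_eq_of_not_le {p : ℕ} [hp : Fact p.Prime] (H : Subgroup G)
    [H.Normal] (hH : H.index = p) (u : H) (h : ¬ centralizer ({(u : G)} : Set G) ≤ H) :
    (centralizer ({u} : Set H)).index = (centralizer ({(u : G)} : Set G)).index := by
  rw [centralizer_subgroup_eq]
  show (centralizer ({(u : G)} : Set G)).relIndex H = _
  set C := centralizer ({(u : G)} : Set G)
  -- `C ⊔ H = ⊤`
  have hsup : C ⊔ H = ⊤ := by
    by_contra hne
    have h1 : H ≤ C ⊔ H := le_sup_right
    have h2 : (C ⊔ H).index ∣ H.index := index_dvd_of_le h1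
    rw [hH] at h2
    rcases (Nat.dvd_prime hp.out).mp h2 with h3 | h3
    · exact hne (index_eq_one.mp h3)
    · have : C ⊔ H = H := by
        have := relIndex_mul_index h1
        rw [h3, hH] at this
        have h4 : H.relIndex (C ⊔ H) = 1 := by
          have hp0 : 0 < p := hp.out.pos
          exact Nat.eq_of_mul_eq_mul_right hp0 (by rw [this, one_mul])
        exact le_antisymm (relIndex_eq_one.mp h4) h1
      exact h (this ▸ le_sup_left)
  have e1 : (C ⊓ H).relIndex H * H.index = (C ⊓ H).index := relIndex_mul_index inf_le_right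
  have e2 : (C ⊓ H).relIndex C * C.index = (C ⊓ H).index := relIndex_mul_index inf_le_left
  have e3 : (C ⊓ H).relIndex C = p := by
    rw [inf_comm, inf_relIndex_right, ← relIndex_sup_right C H, hsup, relIndex_top_right, hH]
  rw [inf_relIndex_right, hH] at e1
  rw [e3, ← e1, mul_comm] at e2
  exact (Nat.eq_of_mul_eq_mul_right hp.out.pos e2).symm

/-- T3: in a finite `p`-group every proper subgroup lies in a normal subgroup of index `p`. -/
theorem exists_normal_index_p_of_ne_top {p : ℕ} [hp : Fact p.Prime] (hG : IsPGroup p G)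
    {K : Subgroup G} (hK : K ≠ ⊤) : ∃ M : Subgroup G, K ≤ M ∧ M.Normal ∧ M.index = p := by
  obtain ⟨n, hn⟩ := IsPGroup.iff_card.mp hG
  obtain ⟨k, hk⟩ := IsPGroup.iff_card.mp (hG.to_subgroup K)
  have hkn : k < n := by
    have h1 : Nat.card K ∣ Nat.card G := card_subgroup_dvd_card K
    rw [hk, hn] at h1
    have hle : k ≤ n := (Nat.pow_dvd_pow_iff_le_right hp.out.one_lt).mp h1
    rcases hle.lt_or_eq with h | h
    · exact h
    · exfalso
      apply hK
      apply eq_top_of_card_eq
      rw [hk, hn, h]
  obtain ⟨M, hM, hKM⟩ := Sylow.exists_subgroup_card_pow_prime_le p (n := k) (m := n - 1)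
    (by rw [hn]; exact pow_dvd_pow p (Nat.sub_le n 1)) K hk (by omega)
  have hidx : M.index = p := by
    have h1 := M.card_mul_index
    rw [hM, hn] at h1
    have h2 : p ^ n = p ^ (n - 1) * p := by
      rw [← pow_succ]; congr 1; omega
    rw [h2] at h1
    exact Nat.eq_of_mul_eq_mul_left (pow_pos hp.out.pos _) h1
  refine ⟨M, hKM, ?_, hidx⟩
  apply normal_of_index_eq_minFac_card
  rw [hidx, hn]
  have hn0 : n ≠ 0 := by omega
  rw [Nat.pow_minFac hn0, Nat.Prime.minFac_eq hp.out]

/-- T3: a subgroup of index `p` of a finite `p`-group is normal. -/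
theorem normal_of_index_eq_p {p : ℕ} [hp : Fact p.Prime] (hG : IsPGroup p G)
    {M : Subgroup G} (hM : M.index = p) : M.Normal := by
  obtain ⟨n, hn⟩ := IsPGroup.iff_card.mp hG
  apply normal_of_index_eq_minFac_card
  have hn0 : n ≠ 0 := by
    rintro rfl
    have h1 := M.index_dvd_card
    rw [hn, hM, pow_zero] at h1
    exact hp.out.one_lt.ne' (Nat.dvd_one.mp h1)
  rw [hM, hn, Nat.pow_minFac hn0, Nat.Prime.minFac_eq hp.out]

omit [Finite G] in
/-- T3: the complement of a proper subgroup generates the group. -/
theorem closure_compl_eq_top {M : Subgroup G} (hM : M ≠ ⊤) :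
    closure ((M : Set G)ᶜ) = ⊤ := by
  obtain ⟨g, hg⟩ : ∃ g : G, g ∉ M := by
    by_contra h
    exact hM (eq_top_iff.mpr fun x _ => by_contra fun hx => h ⟨x, hx⟩)
  rw [eq_top_iff]
  intro x _
  by_cases hx : x ∈ M
  · have h1 : g ∈ closure ((M : Set G)ᶜ) := Subgroup.subset_closure hg
    have h2 : g⁻¹ * x ∈ closure ((M : Set G)ᶜ) := by
      apply Subgroup.subset_closure
      intro h
      apply hg
      have := M.mul_mem h (M.inv_mem hx)
      have h3 : g⁻¹ * x * x⁻¹ = g⁻¹ := by group
      rw [h3] at this
      simpa using M.inv_mem this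
    have := (closure ((M : Set G)ᶜ)).mul_mem h1 h2
    simpa using this
  · exact Subgroup.subset_closure hx

end finite

/-! ### T6: the hypothesis `Hyp` and the reduction of the theorem to it -/

/-- `Hyp p b M`: `M` is a normal subgroup of index `p` and every element outside `M` has centralizer
index at most `p ^ b`. -/
def Hyp {G : Type*} [Group G] (p b : ℕ) (M : Subgroup G) : Prop :=
  M.Normal ∧ M.index = p ∧ ∀ u : G, u ∉ M → (centralizer ({u} : Set G)).index ≤ p ^ b

/-- The statement `P`: under `Hyp p b M` the derived subgroup has order at most `p ^ (b (b+1) / 2)`. -/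
def PStatement (p : ℕ) (G : Type*) [Group G] : Prop :=
  ∀ (M : Subgroup G) (b : ℕ), Hyp p b M → Nat.card (commutator G) ≤ p ^ (b * (b + 1) / 2)

/-- `Hyp` passes to quotients by normal subgroups inside `M`. -/
theorem Hyp.quotient {G : Type*} [Group G] [Finite G] {p b : ℕ} {M : Subgroup G} (hM : Hyp p b M)
    (N : Subgroup G) [N.Normal] (hNM : N ≤ M) : Hyp p b (M.map (QuotientGroup.mk' N)) := by
  obtain ⟨hMn, hMi, hMb⟩ := hM
  have hcomap : (M.map (QuotientGroup.mk' N)).comap (QuotientGroup.mk' N) = M := by
    rw [comap_map_eq, QuotientGroup.ker_mk']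
    exact sup_eq_left.mpr hNM
  refine ⟨hMn.map _ (QuotientGroup.mk'_surjective N), ?_, ?_⟩
  · rw [← index_comap_of_surjective _ (QuotientGroup.mk'_surjective N), hcomap, hMi]
  · intro u' hu'
    obtain ⟨u, rfl⟩ := QuotientGroup.mk'_surjective N u'
    have hu : u ∉ M := fun h => hu' (mem_map_of_mem _ h)
    exact (index_centralizer_quotient_le N u).trans (hMb u hu)

/-- T8: `|G'| ≤ |N| * |(G ⧸ N)'|`. -/
theorem card_commutator_le_card_mul_card_commutator_quotient {G : Type*} [Group G] [Finite G]
    (N : Subgroup G) [N.Normal] :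
    Nat.card (commutator G) ≤ Nat.card N * Nat.card (commutator (G ⧸ N)) := by
  have hmap : commutator (G ⧸ N) = (commutator G).map (QuotientGroup.mk' N) := by
    rw [commutator_def, commutator_def, map_commutator,
      ← MonoidHom.range_eq_map, MonoidHom.range_eq_top.mpr (QuotientGroup.mk'_surjective N)]
  set f : commutator G →* G ⧸ N := (QuotientGroup.mk' N).comp (commutator G).subtype with hf
  have hrange : f.range = commutator (G ⧸ N) := by
    rw [hmap, hf, MonoidHom.range_comp, range_subtype]
  have h1 : Nat.card (commutator G) = Nat.card f.ker * Nat.card f.range := by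
    rw [← Nat.card_congr (QuotientGroup.quotientKerEquivRange f).toEquiv, mul_comm]
    exact card_eq_card_quotient_mul_card_subgroup f.ker
  have h2 : Nat.card f.ker ≤ Nat.card N := by
    apply Nat.card_le_card_of_injective (fun x : f.ker => (⟨((x : commutator G) : G), by
      have h3 : f (x : commutator G) = 1 := MonoidHom.mem_ker.mp x.2
      have h4 : f (x : commutator G) = ((((x : commutator G) : G)) : G ⧸ N) := rfl
      rw [h4] at h3
      exact (QuotientGroup.eq_one_iff _).mp h3⟩ : N))
    intro x y hxy
    have : ((x : commutator G) : G) = ((y : commutator G) : G) := congrArg (fun z : N => (z : G)) hxy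
    exact Subtype.ext (Subtype.ext this)
  rw [h1, hrange]
  exact Nat.mul_le_mul_right _ h2

/-- T6 wrapper: Vaughan-Lee's bound follows from `PStatement`. -/
theorem card_commutator_le_of_PStatement {G : Type*} [Group G] [Finite G] {p : ℕ} [hp : Fact p.Prime]
    (hG : IsPGroup p G) (hP : PStatement p G) (b : ℕ)
    (hb : ∀ x : G, (centralizer ({x} : Set G)).index ≤ p ^ b) :
    Nat.card (commutator G) ≤ p ^ (b * (b + 1) / 2) := by
  by_cases htop : (⊥ : Subgroup G) = ⊤
  · have h1 : commutator G = ⊥ := by
      rw [eq_bot_iff]; intro x _; rw [htop]; trivial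
    rw [h1]
    simp only [card_bot]
    exact Nat.one_le_pow _ _ hp.out.pos
  · obtain ⟨M, -, hMn, hMi⟩ := exists_normal_index_p_of_ne_top hG htop
    exact hP M b ⟨hMn, hMi, fun u _ => hb u⟩

end Cfsg.Agent.Lib.Helper4.VL
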