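import Mathlib
import Cfsg.Agent.Lib.Helper4.VLBasic

set_option autoImplicit false

/-! Induction skeleton for Vaughan-Lee's theorem: strong induction on the order of the group, over all
groups of a fixed universe, and the final reduction of the statement to the inductive step. -/

namespace Cfsg.Agent.Lib.Helper4.VL

universe u

/-- `PStatement` for all finite `p`-groups of the universe `u`, from the inductive step. -/
theorem PStatement_of_step {p : ℕ} [Fact p.Prime]
    (step : ∀ (G : Type u) [Group G] [Finite G], IsPGroup p G →
      (∀ (H : Type u) [Group H] [Finite H], IsPGroup p H → Nat.card H < Nat.card G →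
        PStatement p H) → PStatement p G) :
    ∀ (G : Type u) [Group G] [Finite G], IsPGroup p G → PStatement p G := by
  have key : ∀ n : ℕ, ∀ (G : Type u) [Group G] [Finite G], IsPGroup p G → Nat.card G = n →
      PStatement p G := by
    intro n
    induction n using Nat.strong_induction_on with
    | _ n ih =>
      intro G _ _ hG hn
      exact step G hG (fun H _ _ hH hlt => ih (Nat.card H) (hn ▸ hlt) H hH rfl)
  intro G _ _ hG
  exact key (Nat.card G) G hG rfl

/-- Vaughan-Lee's bound for every finite `p`-group of the universe `u`, from the inductive step. -/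
theorem card_commutator_le_of_step {p : ℕ} [Fact p.Prime]
    (step : ∀ (G : Type u) [Group G] [Finite G], IsPGroup p G →
      (∀ (H : Type u) [Group H] [Finite H], IsPGroup p H → Nat.card H < Nat.card G →
        PStatement p H) → PStatement p G)
    {G : Type u} [Group G] [Finite G] (hG : IsPGroup p G) (b : ℕ)
    (hb : ∀ x : G, (Subgroup.centralizer ({x} : Set G)).index ≤ p ^ b) :
    Nat.card (commutator G) ≤ p ^ (b * (b + 1) / 2) :=
  card_commutator_le_of_PStatement hG (PStatement_of_step step G hG) b hb

/-- The order of a proper quotient is smaller. -/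
theorem card_quotient_lt {G : Type u} [Group G] [Finite G] (N : Subgroup G) [N.Normal]
    (hN : N ≠ ⊥) : Nat.card (G ⧸ N) < Nat.card G := by
  rw [← N.index_eq_card, ← N.card_mul_index]
  have h1 : 1 < Nat.card N := by
    rw [Subgroup.one_lt_card_iff_ne_bot]; exact hN
  have h2 : 0 < N.index := Nat.pos_of_ne_zero Subgroup.index_ne_zero_of_finite
  calc N.index = 1 * N.index := (one_mul _).symm
    _ < Nat.card N * N.index := Nat.mul_lt_mul_of_pos_right h1 h2

/-- The order of a proper subgroup is smaller. -/
theorem card_subgroup_lt {G : Type u} [Group G] [Finite G] (H : Subgroup G) (hH : H ≠ ⊤) :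
    Nat.card H < Nat.card G := by
  refine lt_of_le_of_ne (Subgroup.card_le_card_group H) (fun h => hH ?_)
  exact Subgroup.eq_top_of_card_eq H h

end Cfsg.Agent.Lib.Helper4.VL
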