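import Mathlib
import Cfsg.Agent.Lib.Helper4.VLBasic
import Cfsg.Agent.Lib.Helper4.VLInduct
import Cfsg.Agent.Lib.Helper8.VLToolR
import Cfsg.Agent.Lib.Helper9.VLTools
import Cfsg.Agent.Lib.Helper2.VLSub

set_option autoImplicit false

/-! Step 1 ("Theorem T") of the proof of Vaughan-Lee's theorem (S3777): if `M' ≠ G'` then the bound
follows from the induction hypothesis applied to a second maximal subgroup. -/

namespace Cfsg.Agent.Lib.Helper4.VL

open Subgroup
open scoped commutatorElement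

universe u

section step1

variable {p : ℕ} {G : Type u} [Group G]

/-- if `cN` is central in `G ⧸ N` then all commutators with `c` lie in `N`. -/
theorem comm_mem_of_mk_mem_center (N : Subgroup G) [N.Normal] {c : G}
    (hc : QuotientGroup.mk' N c ∈ center (G ⧸ N)) (x : G) : ⁅x, c⁆ ∈ N := by
  rw [← QuotientGroup.eq_one_iff]
  show (QuotientGroup.mk' N) ⁅x, c⁆ = 1
  rw [map_commutatorElement, commutatorElement_eq_one_iff_mul_comm]
  exact (mem_center_iff.mp hc _)

/-- if the subgroup generated by `T` is everything and `⁅x, g⁆ ∈ N` for `x ∈ T`, then `gN` is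
central. -/
theorem mk_mem_center_of_le_centMod (N : Subgroup G) [N.Normal] (g : G)
    (h : Cfsg.Helper8.VLR.centMod N g = ⊤) : QuotientGroup.mk' N g ∈ center (G ⧸ N) := by
  apply Cfsg.Agent.Lib.Helper9.VL.mk_mem_center_of_forall_commutator_mem
  intro y
  rw [← Cfsg.Helper8.VLR.mem_centMod_iff, h]
  exact mem_top _

/-- two proper subgroups do not cover a group: version for two distinct subgroups of index `p`. -/
theorem exists_not_mem_of_index_eq [hp : Fact p.Prime] {H M : Subgroup G} (hH : H.index = p)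
    (hM : M.index = p) (hHM : H ≠ M) : ∃ y : G, y ∉ H ∧ y ∉ M := by
  have hsup := Cfsg.Agent.Lib.Helper2.VLF.sup_eq_top_of_index_eq hH hM hHM
  have hHtop : H ≠ ⊤ := by
    intro h; rw [h, index_top] at hH; exact hp.out.one_lt.ne hH
  have hMtop : M ≠ ⊤ := by
    intro h; rw [h, index_top] at hM; exact hp.out.one_lt.ne hM
  have h1 : ¬ H ≤ M := fun h => hMtop (by rw [← hsup]; exact (sup_eq_right.mpr h).symm)
  have h2 : ¬ M ≤ H := fun h => hHtop (by rw [← hsup]; exact (sup_eq_left.mpr h).symm)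
  obtain ⟨a, haH, haM⟩ := SetLike.not_le_iff_exists.mp h1
  obtain ⟨c, hcM, hcH⟩ := SetLike.not_le_iff_exists.mp h2
  refine ⟨a * c, fun h => hcH ?_, fun h => haM ?_⟩
  · have := H.mul_mem (H.inv_mem haH) h
    rwa [inv_mul_cancel_left] at this
  · have := M.mul_mem h (M.inv_mem hcM)
    rwa [mul_inv_cancel_right] at this

/-- **Step 1 (Theorem T)**: if `M' ≠ G'` the bound follows from the induction hypothesis. -/
theorem card_commutator_le_of_commutator_ne [hp : Fact p.Prime] [Finite G] (hG : IsPGroup p G)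
    (IH : ∀ (H : Type u) [Group H] [Finite H], IsPGroup p H → Nat.card H < Nat.card G →
      PStatement p H)
    (M : Subgroup G) (b : ℕ) (hM : Hyp p b M) (hne : ⁅M, M⁆ ≠ commutator G) :
    Nat.card (commutator G) ≤ p ^ (b * (b + 1) / 2) := by
  obtain ⟨hMn, hMi, hMb⟩ := hM
  have := hMn
  obtain ⟨N, hN⟩ : ∃ N : Subgroup G, N = ⁅M, M⁆ := ⟨_, rfl⟩
  have hNn : N.Normal := by rw [hN]; infer_instance
  have hNle : N ≤ commutator G := by
    rw [hN, commutator_def]; exact commutator_mono le_top le_top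
  rw [← hN] at hne
  obtain ⟨Z, hZ⟩ : ∃ Z : Subgroup G, Z = (center (G ⧸ N)).comap (QuotientGroup.mk' N) := ⟨_, rfl⟩
  have hMtop : M ≠ ⊤ := by
    intro h; rw [h, index_top] at hMi; exact hp.out.one_lt.ne hMi
  obtain ⟨u₀, hu₀⟩ : ∃ u₀ : G, u₀ ∉ M := by
    by_contra h
    exact hMtop (eq_top_iff.mpr fun x _ => by_contra fun hx => h ⟨x, hx⟩)
  -- Claim 2 : `C_M(u) ≤ Z` for `u ∉ M`
  have hclaim2 : ∀ u : G, u ∉ M → ∀ m ∈ M, m ∈ centralizer ({u} : Set G) → m ∈ Z := by
    intro u hu m hm hmu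
    rw [hZ, mem_comap]
    apply mk_mem_center_of_le_centMod
    rw [eq_top_iff, ← Cfsg.Agent.Lib.Helper9.VL.sup_zpowers_eq_top_of_index_prime M hMi u hu,
      sup_le_iff]
    constructor
    · intro m' hm'
      rw [Cfsg.Helper8.VLR.mem_centMod_iff, hN]
      exact commutator_mem_commutator hm' hm
    · rw [zpowers_le, Cfsg.Helper8.VLR.mem_centMod_iff]
      have : ⁅u, m⁆ = 1 := by
        rw [commutatorElement_eq_one_iff_mul_comm]
        exact mem_centralizer_singleton.mp hmu
      rw [this]; exact one_mem _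
  -- Claim A : `(M ⊓ Z) ⊔ ⟨u₀⟩ ≠ ⊤`
  have hclaimA : (M ⊓ Z) ⊔ zpowers u₀ ≠ ⊤ := by
    intro htop
    apply hne
    refine le_antisymm hNle ?_
    have hu₀Z : u₀ ∈ Z := by
      rw [hZ, mem_comap]
      apply mk_mem_center_of_le_centMod
      rw [eq_top_iff, ← htop, sup_le_iff]
      constructor
      · intro c hc
        rw [Cfsg.Helper8.VLR.mem_centMod_iff]
        have hcZ : c ∈ Z := hc.2
        rw [hZ, mem_comap] at hcZ
        have h1 := comm_mem_of_mk_mem_center N hcZ u₀
        have h2 : ⁅c, u₀⁆ = ⁅u₀, c⁆⁻¹ := (commutatorElement_inv u₀ c).symm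
        rw [h2]
        exact N.inv_mem h1
      · rw [zpowers_le, Cfsg.Helper8.VLR.mem_centMod_iff, commutatorElement_self]
        exact one_mem _
    have hZtop : Z = ⊤ := by
      rw [eq_top_iff, ← htop, sup_le_iff]
      exact ⟨inf_le_right, by rw [zpowers_le]; exact hu₀Z⟩
    rw [commutator_def, commutator_le]
    intro x _ y _
    have hy : y ∈ Z := by rw [hZtop]; exact mem_top _
    rw [hZ, mem_comap] at hy
    exact comm_mem_of_mk_mem_center N hy x
  -- the second maximal subgroup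
  obtain ⟨H, hCH, hHn, hHi⟩ := exists_normal_index_p_of_ne_top hG hclaimA
  have := hHn
  have hu₀H : u₀ ∈ H := hCH ((le_sup_right : zpowers u₀ ≤ _) (mem_zpowers u₀))
  have hHM : H ≠ M := fun h => hu₀ (h ▸ hu₀H)
  have hHtop : H ≠ ⊤ := by
    intro h; rw [h, index_top] at hHi; exact hp.out.one_lt.ne hHi
  -- Claim C : centralizers of elements of `H \ M` lie in `H`
  have hclaimC : ∀ u : G, u ∈ H → u ∉ M → centralizer ({u} : Set G) ≤ H := by
    intro u huH huM x hx
    obtain ⟨i, m, hm, rfl⟩ := Cfsg.Helper8.VLR.exists_zpow_mul_mem M hMi huM x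
    have hmc : m ∈ centralizer ({u} : Set G) := by
      have h1 : (u ^ i)⁻¹ ∈ centralizer ({u} : Set G) := by
        apply inv_mem
        apply zpow_mem
        exact mem_centralizer_singleton.mpr rfl
      have := mul_mem h1 hx
      rwa [inv_mul_cancel_left] at this
    have hmZ := hclaim2 u huM m hm hmc
    exact H.mul_mem (H.zpow_mem huH i) (hCH ((le_sup_left : M ⊓ Z ≤ _) ⟨hm, hmZ⟩))
  -- `b ≠ 0` and `Hyp p (b - 1)` for `H`
  have hkey : ∀ u : H, (u : G) ∉ M →
      (centralizer ({u} : Set H)).index * p ≤ p ^ b := by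
    intro u hu
    have h1 := index_centralizer_subgroup_mul H u (hclaimC u u.2 hu)
    rw [hHi] at h1
    rw [h1]
    exact hMb _ hu
  obtain ⟨c, rfl⟩ : ∃ c, b = c + 1 := by
    rcases Nat.eq_zero_or_pos b with h0 | h0
    · exfalso
      have h1 := hkey ⟨u₀, hu₀H⟩ hu₀
      rw [h0, pow_zero] at h1
      have h2 : 0 < (centralizer ({(⟨u₀, hu₀H⟩ : H)} : Set H)).index :=
        Nat.pos_of_ne_zero index_ne_zero_of_finite
      have h3 : 2 ≤ p := hp.out.two_le
      nlinarith
    · exact ⟨b - 1, by omega⟩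
  have hHyp : Hyp p c (M.subgroupOf H) := by
    refine ⟨inferInstance, ?_, ?_⟩
    · show M.relIndex H = p
      rw [← relIndex_sup_right (H := H) (K := M),
        Cfsg.Agent.Lib.Helper2.VLF.sup_eq_top_of_index_eq hHi hMi hHM, relIndex_top_right, hMi]
    · intro u hu
      have hu' : (u : G) ∉ M := fun h => hu (mem_subgroupOf.mpr h)
      have h1 := hkey u hu'
      rw [pow_succ] at h1
      exact Nat.le_of_mul_le_mul_right h1 hp.out.pos
  have hP := IH H (hG.to_subgroup H) (card_subgroup_lt H hHtop) (M.subgroupOf H) c hHyp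
  obtain ⟨y, hyH, hyM⟩ := exists_not_mem_of_index_eq hHi hMi hHM
  have hL2 := Cfsg.Agent.Lib.Helper9.VL.card_commutator_le_mul_index H hHi y hyH
  have hy := hMb y hyM
  have e : (c + 1) * (c + 1 + 1) / 2 = c * (c + 1) / 2 + (c + 1) := by
    have : (c + 1) * (c + 1 + 1) = c * (c + 1) + 2 * (c + 1) := by ring
    rw [this, Nat.add_mul_div_left _ _ (by norm_num : 0 < 2)]
  rw [e, pow_add]
  exact hL2.trans (Nat.mul_le_mul hP hy)

end step1

end Cfsg.Agent.Lib.Helper4.VL
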