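import Mathlib

set_option autoImplicit false
set_option linter.style.haveILetI false
set_option linter.unusedSectionVars false

/-!
# Congruence orbits of symmetric bilinear forms over a finite field of odd order

`ncard_orbit_ge`: the `GL(V)`-orbit of a nonzero symmetric bilinear form on an `n`-dimensional
space over `F_q`, `q` odd, has at least `(q^n - 1)/2` elements.  (Package PK-ORB-odd of S2347.)
-/

namespace Cfsg.Agent.Lib.Helper4.SymOrbit

open Module

variable {F : Type*} [Field F]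

section basics

variable {V : Type*} [AddCommGroup V] [Module F V]

/-- the congruence orbit of a bilinear form -/
def orb (B : LinearMap.BilinForm F V) : Set (LinearMap.BilinForm F V) :=
  {B' | ∃ g : V ≃ₗ[F] V, B' = B.compl₁₂ (g : V →ₗ[F] V) (g : V →ₗ[F] V)}

theorem so_mem_orb_self (B : LinearMap.BilinForm F V) : B ∈ orb B :=
  ⟨LinearEquiv.refl F V, by ext x y; simp⟩

theorem so_mem_orb_comp {B B' : LinearMap.BilinForm F V} (h : B' ∈ orb B) (g : V ≃ₗ[F] V) :
    B'.compl₁₂ (g : V →ₗ[F] V) (g : V →ₗ[F] V) ∈ orb B := by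
  obtain ⟨g₀, rfl⟩ := h
  exact ⟨g.trans g₀, by ext x y; simp⟩

theorem so_finite_bilin [Finite F] [Module.Finite F V] : Finite (LinearMap.BilinForm F V) := by
  haveI : Finite V := Module.finite_of_finite F
  exact Finite.of_injective (fun B : LinearMap.BilinForm F V => fun x y => B x y)
    (fun B B' h => by ext x y; exact congrFun (congrFun h x) y)

/-- transport of the orbit along a linear equivalence (one inequality suffices) -/
theorem so_ncard_orb_transport [Finite F] [Module.Finite F V] {V' : Type*} [AddCommGroup V']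
    [Module F V'] (φ : V ≃ₗ[F] V') (B : LinearMap.BilinForm F V) :
    Set.ncard (orb (B.compl₁₂ (φ.symm : V' →ₗ[F] V) (φ.symm : V' →ₗ[F] V))) ≤ Set.ncard (orb B) := by
  haveI := so_finite_bilin (F := F) (V := V)
  refine Set.ncard_le_ncard_of_injOn
    (fun B'' : LinearMap.BilinForm F V' => B''.compl₁₂ (φ : V →ₗ[F] V') (φ : V →ₗ[F] V')) ?_ ?_
    (Set.toFinite _)
  · rintro B'' ⟨g, rfl⟩
    refine ⟨(φ.trans g).trans φ.symm, ?_⟩
    ext x y
    simp
  · intro B₁ _ B₂ _ h
    ext x y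
    have := congrFun (congrArg DFunLike.coe (congrFun (congrArg DFunLike.coe h) (φ.symm x))) (φ.symm y)
    simpa using this

end basics


section core

variable [Fintype F] {V₁ : Type*} [AddCommGroup V₁] [Module F V₁]

/-- the distinguished vector of `V₁ × F` -/
def e0 : V₁ × F := (0, 1)

/-- the shear `(x, c) ↦ (x, c + t x)` -/
def shear (t : V₁ →ₗ[F] F) : (V₁ × F) ≃ₗ[F] (V₁ × F) :=
  LinearEquiv.skewProd (LinearEquiv.refl F V₁) (LinearEquiv.refl F F) t

theorem so_shear_apply (t : V₁ →ₗ[F] F) (x : V₁) (c : F) : shear t (x, c) = (x, c + t x) := rfl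

theorem so_shear_e0 (t : V₁ →ₗ[F] F) : shear t (e0 : V₁ × F) = e0 := by
  show ((0 : V₁), (1 : F) + t 0) = ((0 : V₁), (1 : F))
  rw [map_zero, add_zero]

theorem so_pair_eq (x : V₁) (c : F) : ((x, c) : V₁ × F) = (x, 0) + c • (e0 : V₁ × F) := by
  simp [e0]

/-- restriction of a form on `V₁ × F` to `V₁` -/
def res (B : LinearMap.BilinForm F (V₁ × F)) : LinearMap.BilinForm F V₁ :=
  B.compl₁₂ (LinearMap.inl F V₁ F) (LinearMap.inl F V₁ F)

theorem so_res_apply (B : LinearMap.BilinForm F (V₁ × F)) (x y : V₁) :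
    res B x y = B (x, 0) (y, 0) := rfl

/-- the form twisted by a shear -/
def tw (B : LinearMap.BilinForm F (V₁ × F)) (t : V₁ →ₗ[F] F) : LinearMap.BilinForm F (V₁ × F) :=
  B.compl₁₂ (shear t : (V₁ × F) →ₗ[F] (V₁ × F)) (shear t : (V₁ × F) →ₗ[F] (V₁ × F))

theorem so_tw_apply (B : LinearMap.BilinForm F (V₁ × F)) (t : V₁ →ₗ[F] F) (v w : V₁ × F) :
    tw B t v w = B (shear t v) (shear t w) := rfl

theorem so_tw_e0 (B : LinearMap.BilinForm F (V₁ × F)) (t : V₁ →ₗ[F] F) :
    tw B t e0 e0 = B e0 e0 := by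
  rw [so_tw_apply, so_shear_e0]

theorem so_tw_x_e0 (B : LinearMap.BilinForm F (V₁ × F)) (t : V₁ →ₗ[F] F) (x : V₁) :
    tw B t (x, 0) e0 = B (x, 0) e0 + t x * B e0 e0 := by
  rw [so_tw_apply, so_shear_e0, so_shear_apply, zero_add, so_pair_eq x (t x), map_add,
    LinearMap.add_apply, map_smul, LinearMap.smul_apply, smul_eq_mul]

theorem so_tw_injective (B : LinearMap.BilinForm F (V₁ × F)) (hc : B e0 e0 ≠ 0) :
    Function.Injective (tw B) := by
  intro t t' h
  ext x
  have h1 := so_tw_x_e0 B t x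
  have h2 := so_tw_x_e0 B t' x
  rw [h] at h1
  have : t x * B e0 e0 = t' x * B e0 e0 := by
    have := h1.symm.trans h2
    exact add_left_cancel this
  exact mul_right_cancel₀ hc this

theorem so_tw_mem_orb {B B' : LinearMap.BilinForm F (V₁ × F)} (h : B' ∈ orb B) (t : V₁ →ₗ[F] F) :
    tw B' t ∈ orb B := so_mem_orb_comp h (shear t)

theorem so_card_dual [Module.Finite F V₁] :
    Nat.card (V₁ →ₗ[F] F) = Fintype.card F ^ finrank F V₁ := by
  have := Module.natCard_eq_pow_finrank (K := F) (V := Module.Dual F V₁)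
  rw [Subspace.dual_finrank_eq, Nat.card_eq_fintype_card (α := F)] at this
  exact this

/-- part (a): the orbit elements with nonzero value at `e0` -/
theorem so_partA [Module.Finite F V₁] (B : LinearMap.BilinForm F (V₁ × F)) (Vals : Finset F)
    (hV0 : ∀ c ∈ Vals, c ≠ 0) (hV : ∀ c ∈ Vals, ∃ B', B' ∈ orb B ∧ B' e0 e0 = c) :
    Vals.card * Fintype.card F ^ finrank F V₁ ≤
      Set.ncard {B' | B' ∈ orb B ∧ B' e0 e0 ≠ 0} := by
  classical
  haveI := so_finite_bilin (F := F) (V := V₁ × F)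
  choose! Bc hBc using hV
  let Φ : (Vals × (V₁ →ₗ[F] F)) → LinearMap.BilinForm F (V₁ × F) := fun p => tw (Bc p.1.1) p.2
  have hΦ0 : ∀ p, Φ p e0 e0 = p.1.1 := by
    intro p
    show tw (Bc p.1.1) p.2 e0 e0 = _
    rw [so_tw_e0]
    exact (hBc p.1.1 p.1.2).2
  have hinj : Function.Injective Φ := by
    intro p p' h
    have h1 : p.1.1 = p'.1.1 := by
      rw [← hΦ0 p, ← hΦ0 p', h]
    have h1' : p.1 = p'.1 := Subtype.ext h1
    have h2 : p.2 = p'.2 := by
      have hc : Bc p.1.1 e0 e0 ≠ 0 := by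
        rw [(hBc p.1.1 p.1.2).2]
        exact hV0 p.1.1 p.1.2
      apply so_tw_injective (Bc p.1.1) hc
      have : tw (Bc p.1.1) p.2 = tw (Bc p'.1.1) p'.2 := h
      rw [this, h1]
    exact Prod.ext h1' h2
  have hsub : Set.range Φ ⊆ {B' | B' ∈ orb B ∧ B' e0 e0 ≠ 0} := by
    rintro _ ⟨p, rfl⟩
    refine ⟨so_tw_mem_orb (hBc p.1.1 p.1.2).1 p.2, ?_⟩
    rw [hΦ0]
    exact hV0 p.1.1 p.1.2
  have hcard : Set.ncard (Set.range Φ) = Vals.card * Fintype.card F ^ finrank F V₁ := by
    rw [← Nat.card_coe_set_eq, Nat.card_range_of_injective hinj, Nat.card_prod, so_card_dual,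
      Nat.card_eq_fintype_card, Fintype.card_coe]
  rw [← hcard]
  exact Set.ncard_le_ncard hsub (Set.toFinite _)

end core


section step

variable [Fintype F] {V₁ : Type*} [AddCommGroup V₁] [Module F V₁]

/-- the general linear group is transitive on non-zero vectors -/
theorem so_exists_linearEquiv_apply {V : Type*} [AddCommGroup V] [Module F V]
    [FiniteDimensional F V] (u c : V) (hu : u ≠ 0) (hc : c ≠ 0) : ∃ f : V ≃ₗ[F] V, f u = c := by
  obtain ⟨W₀, hW₀⟩ := Submodule.exists_isCompl (Submodule.span F {u})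
  obtain ⟨W, hW⟩ := Submodule.exists_isCompl (Submodule.span F {c})
  have h1 := Submodule.finrank_add_eq_of_isCompl hW₀
  have h2 := Submodule.finrank_add_eq_of_isCompl hW
  rw [finrank_span_singleton hu] at h1
  rw [finrank_span_singleton hc] at h2
  let e₂ : W₀ ≃ₗ[F] W := LinearEquiv.ofFinrankEq _ _ (by omega)
  let e₁ : Submodule.span F {u} ≃ₗ[F] Submodule.span F {c} :=
    (LinearEquiv.toSpanNonzeroSingleton F V u hu).symm.trans
      (LinearEquiv.toSpanNonzeroSingleton F V c hc)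
  refine ⟨(Submodule.prodEquivOfIsCompl _ _ hW₀).symm.trans
    ((e₁.prodCongr e₂).trans (Submodule.prodEquivOfIsCompl _ _ hW)), ?_⟩
  have hu' : u ∈ Submodule.span F {u} := Submodule.mem_span_singleton_self u
  have e3 : (Submodule.prodEquivOfIsCompl _ _ hW₀).symm u = (⟨u, hu'⟩, 0) :=
    Submodule.prodEquivOfIsCompl_symm_apply_left _ _ hW₀ ⟨u, hu'⟩
  have e4 : e₁ ⟨u, hu'⟩ = ⟨c, Submodule.mem_span_singleton_self c⟩ := by
    have : (LinearEquiv.toSpanNonzeroSingleton F V u hu).symm ⟨u, hu'⟩ = 1 := by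
      rw [LinearEquiv.symm_apply_eq, LinearEquiv.toSpanNonzeroSingleton_one]
    show (LinearEquiv.toSpanNonzeroSingleton F V c hc)
      ((LinearEquiv.toSpanNonzeroSingleton F V u hu).symm ⟨u, hu'⟩) = _
    rw [this, LinearEquiv.toSpanNonzeroSingleton_one]
  rw [LinearEquiv.trans_apply, e3, LinearEquiv.trans_apply, LinearEquiv.prodCongr_apply]
  simp only [e4, map_zero, Submodule.coe_prodEquivOfIsCompl', Submodule.coe_zero, add_zero]

theorem so_e0_ne : (e0 : V₁ × F) ≠ 0 := by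
  intro h
  have : (1 : F) = 0 := congrArg Prod.snd h
  exact one_ne_zero this

theorem so_exists_value [Module.Finite F V₁] (B : LinearMap.BilinForm F (V₁ × F)) (x : V₁ × F)
    (hx : x ≠ 0) : ∃ B', B' ∈ orb B ∧ B' e0 e0 = B x x := by
  obtain ⟨g, hg⟩ := so_exists_linearEquiv_apply (F := F) (e0 : V₁ × F) x so_e0_ne hx
  refine ⟨B.compl₁₂ (g : (V₁ × F) →ₗ[F] (V₁ × F)) (g : (V₁ × F) →ₗ[F] (V₁ × F)), ⟨g, rfl⟩, ?_⟩
  rw [LinearMap.compl₁₂_apply]
  show B (g e0) (g e0) = _
  rw [hg]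

theorem so_symm_of_mem_orb {V : Type*} [AddCommGroup V] [Module F V]
    {B B' : LinearMap.BilinForm F V} (hs : ∀ x y, B x y = B y x)
    (h : B' ∈ orb B) : ∀ x y, B' x y = B' y x := by
  obtain ⟨g, rfl⟩ := h
  intro x y
  rw [LinearMap.compl₁₂_apply, LinearMap.compl₁₂_apply]
  exact hs _ _

/-- part (b) -/
theorem so_partB [Module.Finite F V₁] (B B₂ : LinearMap.BilinForm F (V₁ × F)) (h₂ : B₂ ∈ orb B)
    (h0 : B₂ e0 e0 = 0) :
    Set.ncard (orb (res B₂)) ≤ Set.ncard {B' | B' ∈ orb B ∧ B' e0 e0 = 0} := by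
  haveI := so_finite_bilin (F := F) (V := V₁ × F)
  have hsub : orb (res B₂) ⊆ res '' {B' | B' ∈ orb B ∧ B' e0 e0 = 0} := by
    rintro D ⟨h, rfl⟩
    let H : (V₁ × F) ≃ₗ[F] (V₁ × F) := h.prodCongr (LinearEquiv.refl F F)
    refine ⟨B₂.compl₁₂ (H : (V₁ × F) →ₗ[F] (V₁ × F)) (H : (V₁ × F) →ₗ[F] (V₁ × F)),
      ⟨so_mem_orb_comp h₂ H, ?_⟩, ?_⟩
    · rw [LinearMap.compl₁₂_apply]
      have : H e0 = e0 := by
        show (h 0, (1 : F)) = ((0 : V₁), (1 : F))
        rw [map_zero]
      show B₂ (H e0) (H e0) = 0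
      rw [this, h0]
    · ext x y
      rw [so_res_apply, LinearMap.compl₁₂_apply, LinearMap.compl₁₂_apply, so_res_apply]
      show B₂ (h x, (0 : F)) (h y, (0 : F)) = _
      rfl
  calc Set.ncard (orb (res B₂)) ≤ Set.ncard (res '' {B' | B' ∈ orb B ∧ B' e0 e0 = 0}) :=
        Set.ncard_le_ncard hsub (Set.toFinite _)
    _ ≤ _ := Set.ncard_image_le (Set.toFinite _)

theorem so_expand (B : LinearMap.BilinForm F (V₁ × F)) (x y : V₁) (c d : F) :
    B (x, c) (y, d) = B (x, 0) (y, 0) + d * B (x, 0) e0 + c * B e0 (y, 0) + c * d * B e0 e0 := by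
  rw [so_pair_eq x c, so_pair_eq y d]
  simp only [map_add, map_smul, LinearMap.add_apply, LinearMap.smul_apply, smul_eq_mul]
  ring

/-- in the isotropic case the orbit contains a form vanishing at `e0` with nonzero restriction -/
theorem so_exists_iso_elem [Module.Finite F V₁] (h2 : (2 : F) ≠ 0)
    (B : LinearMap.BilinForm F (V₁ × F)) (hs : ∀ x y, B x y = B y x) (hB0 : B ≠ 0)
    (a : V₁ × F) (ha : a ≠ 0) (haa : B a a = 0) :
    ∃ B₂, B₂ ∈ orb B ∧ B₂ e0 e0 = 0 ∧ res B₂ ≠ 0 := by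
  obtain ⟨g, hg⟩ := so_exists_linearEquiv_apply (F := F) (e0 : V₁ × F) a so_e0_ne ha
  set B₁ : LinearMap.BilinForm F (V₁ × F) :=
    B.compl₁₂ (g : (V₁ × F) →ₗ[F] (V₁ × F)) (g : (V₁ × F) →ₗ[F] (V₁ × F)) with hB₁
  have hB₁orb : B₁ ∈ orb B := ⟨g, rfl⟩
  have hB₁s := so_symm_of_mem_orb hs hB₁orb
  have h00 : B₁ e0 e0 = 0 := by
    rw [hB₁, LinearMap.compl₁₂_apply]
    show B (g e0) (g e0) = 0
    rw [hg, haa]
  have hB₁0 : B₁ ≠ 0 := by
    intro h
    apply hB0
    refine LinearMap.ext fun x => LinearMap.ext fun y => ?_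
    have : B₁ (g.symm x) (g.symm y) = 0 := by rw [h]; rfl
    rw [hB₁, LinearMap.compl₁₂_apply] at this
    simpa using this
  by_cases hr : res B₁ = 0
  · let ℓ : V₁ →ₗ[F] F := (B₁.flip e0).comp (LinearMap.inl F V₁ F)
    have hℓ : ∀ x, ℓ x = B₁ (x, 0) e0 := fun x => rfl
    have hres : ∀ x y, B₁ (x, 0) (y, 0) = 0 := by
      intro x y
      have := congrFun (congrArg DFunLike.coe (congrFun (congrArg DFunLike.coe hr) x)) y
      exact this
    have hex : ∃ x, ℓ x ≠ 0 := by
      by_contra hne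
      push Not at hne
      apply hB₁0
      refine LinearMap.ext fun v => LinearMap.ext fun w => ?_
      obtain ⟨x, c⟩ := v
      obtain ⟨y, d⟩ := w
      rw [so_expand, hres, h00, ← hℓ, hne x, hB₁s e0 (y, 0), ← hℓ, hne y]
      simp
    obtain ⟨x, hx⟩ := hex
    refine ⟨tw B₁ ℓ, so_tw_mem_orb hB₁orb ℓ, ?_, ?_⟩
    · rw [so_tw_e0, h00]
    · intro h
      have h1 : res (tw B₁ ℓ) x x = 0 := by rw [h]; rfl
      rw [so_res_apply, so_tw_apply, so_shear_apply, zero_add, so_expand, hres, h00,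
        hB₁s e0 (x, 0), ← hℓ] at h1
      have h3 : 2 * (ℓ x * ℓ x) = 0 := by
        rw [← h1]; ring
      rcases mul_eq_zero.1 h3 with h4 | h4
      · exact h2 h4
      · exact hx (mul_self_eq_zero.1 h4)
  · exact ⟨B₁, hB₁orb, h00, hr⟩

end step


section final

variable [Fintype F] {V₁ : Type*} [AddCommGroup V₁] [Module F V₁]

theorem so_two_ne (hodd : Odd (Fintype.card F)) : (2 : F) ≠ 0 := by
  apply Ring.two_ne_zero
  intro h
  have := FiniteField.even_card_of_char_two h
  rcases hodd with ⟨k, hk⟩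
  omega

/-- the values `t² c₀` -/
theorem so_vals_sq [DecidableEq F] [Module.Finite F V₁] (B : LinearMap.BilinForm F (V₁ × F))
    (x₀ : V₁ × F) (hx₀ : B x₀ x₀ ≠ 0) :
    ∃ Vals : Finset F, (∀ c ∈ Vals, c ≠ 0) ∧ (∀ c ∈ Vals, ∃ B', B' ∈ orb B ∧ B' e0 e0 = c) ∧
      Fintype.card F - 1 ≤ 2 * Vals.card := by
  have hx0 : x₀ ≠ 0 := by
    rintro rfl
    apply hx₀
    simp
  set f : F → F := fun t => t * t * B x₀ x₀ with hf
  refine ⟨((Finset.univ : Finset F).erase 0).image f, ?_, ?_, ?_⟩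
  · intro c hc
    obtain ⟨t, ht, rfl⟩ := Finset.mem_image.1 hc
    have ht0 : t ≠ 0 := (Finset.mem_erase.1 ht).1
    exact mul_ne_zero (mul_ne_zero ht0 ht0) hx₀
  · intro c hc
    obtain ⟨t, ht, rfl⟩ := Finset.mem_image.1 hc
    have ht0 : t ≠ 0 := (Finset.mem_erase.1 ht).1
    obtain ⟨B', hB', hv⟩ := so_exists_value B (t • x₀) (smul_ne_zero ht0 hx0)
    refine ⟨B', hB', ?_⟩
    rw [hv, hf]
    simp only [map_smul, LinearMap.smul_apply, smul_eq_mul]
    ring
  · have hcard : ((Finset.univ : Finset F).erase 0).card = Fintype.card F - 1 := by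
      rw [Finset.card_erase_of_mem (Finset.mem_univ _), Finset.card_univ]
    rw [← hcard]
    apply Finset.card_le_mul_card_image
    intro b hb
    obtain ⟨t₀, ht₀, rfl⟩ := Finset.mem_image.1 hb
    have hsub : {a ∈ (Finset.univ : Finset F).erase 0 | f a = f t₀} ⊆ {t₀, -t₀} := by
      intro a ha
      have h1 : f a = f t₀ := (Finset.mem_filter.1 ha).2
      have h2 : a * a = t₀ * t₀ := mul_right_cancel₀ hx₀ h1
      rcases mul_self_eq_mul_self_iff.1 h2 with h3 | h3
      · rw [h3]; exact Finset.mem_insert_self _ _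
      · rw [h3]; exact Finset.mem_insert_of_mem (Finset.mem_singleton_self _)
    exact (Finset.card_le_card hsub).trans Finset.card_le_two

/-- a binary anisotropic form is universal -/
theorem so_aniso_values (hodd : Odd (Fintype.card F)) (B : LinearMap.BilinForm F (V₁ × F))
    (hs : ∀ x y, B x y = B y x) (haniso : ∀ x, x ≠ 0 → B x x ≠ 0) (x₁ : V₁) (hx₁ : x₁ ≠ 0)
    (δ : F) (hδ : δ ≠ 0) : ∃ x, x ≠ 0 ∧ B x x = δ := by
  set α := B e0 e0 with hα
  have hα0 : α ≠ 0 := haniso e0 so_e0_ne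
  set v : V₁ × F := (x₁, 0) - (B (x₁, 0) e0 / α) • e0 with hv
  have hv0 : v ≠ 0 := by
    intro h
    have : v.1 = 0 := by rw [h]; rfl
    apply hx₁
    simpa [hv, e0] using this
  have hve : B v e0 = 0 := by
    rw [hv, map_sub, LinearMap.sub_apply, map_smul, LinearMap.smul_apply, smul_eq_mul, ← hα]
    field_simp
    ring
  have hev : B e0 v = 0 := by rw [hs, hve]
  set β := B v v with hβ
  have hβ0 : β ≠ 0 := haniso v hv0
  have hdf : (Polynomial.C α * Polynomial.X ^ 2 : Polynomial F).degree = 2 := by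
    rw [Polynomial.degree_C_mul_X_pow 2 hα0]; rfl
  have hdg : (Polynomial.C β * Polynomial.X ^ 2 - Polynomial.C δ : Polynomial F).degree = 2 := by
    have h1 : (Polynomial.C β * Polynomial.X ^ 2 : Polynomial F).degree = 2 := by
      rw [Polynomial.degree_C_mul_X_pow 2 hβ0]; rfl
    rw [Polynomial.degree_sub_C (by rw [h1]; decide), h1]
  have hq : Fintype.card F % 2 = 1 := Nat.odd_iff.1 hodd
  obtain ⟨a, b, hab⟩ := FiniteField.exists_root_sum_quadratic hdf hdg hq
  simp only [Polynomial.eval_mul, Polynomial.eval_C, Polynomial.eval_pow, Polynomial.eval_X,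
    Polynomial.eval_sub] at hab
  have hval : B (a • e0 + b • v) (a • e0 + b • v) = δ := by
    simp only [map_add, map_smul, LinearMap.add_apply, LinearMap.smul_apply, smul_eq_mul,
      hve, hev, ← hα, ← hβ]
    linear_combination hab
  refine ⟨a • e0 + b • v, ?_, hval⟩
  intro h
  rw [h] at hval
  apply hδ
  rw [← hval]
  simp

theorem so_arith_iso (q n v m : ℕ) (hq : Odd q) (hv : q - 1 ≤ 2 * v) (hm : (q ^ n - 1) / 2 ≤ m) :
    (q ^ (n + 1) - 1) / 2 ≤ v * q ^ n + m := by
  obtain ⟨k, hk⟩ := hq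
  obtain ⟨j, hj⟩ : Odd (q ^ n) := Odd.pow ⟨k, hk⟩
  have h1 : q ^ (n + 1) = 4 * (j * k) + 2 * j + 2 * k + 1 := by
    rw [pow_succ, hj, hk]; ring
  have h2 : k ≤ v := by omega
  have h3 : j * k ≤ j * v := Nat.mul_le_mul_left j h2
  have h4 : v * q ^ n = 2 * (j * v) + v := by rw [hj]; ring
  rw [h1, h4]
  have h5 : (q ^ n - 1) / 2 = j := by omega
  rw [h5] at hm
  omega

theorem so_arith_aniso (q n : ℕ) (hq : 2 ≤ q) :
    (q ^ (n + 1) - 1) / 2 ≤ (q - 1) * q ^ n := by
  obtain ⟨r, rfl⟩ : ∃ r, q = r + 2 := ⟨q - 2, by omega⟩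
  have h1 : (r + 2) ^ (n + 1) = (r + 2) * (r + 2) ^ n := by rw [pow_succ]; ring
  have h2 : (r + 2 - 1) * (r + 2) ^ n = (r + 1) * (r + 2) ^ n := by
    congr 1
  rw [h1, h2]
  have h3 : (r + 2) * (r + 2) ^ n = r * (r + 2) ^ n + 2 * (r + 2) ^ n := by ring
  have h4 : (r + 1) * (r + 2) ^ n = r * (r + 2) ^ n + (r + 2) ^ n := by ring
  rw [h3, h4]
  omega

/-- the inductive step on `V₁ × F` -/
theorem so_step [DecidableEq F] [Module.Finite F V₁] (hodd : Odd (Fintype.card F)) (n : ℕ)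
    (hfin : finrank F V₁ = n)
    (IH : ∀ D : LinearMap.BilinForm F V₁, (∀ x y, D x y = D y x) → D ≠ 0 →
      (Fintype.card F ^ n - 1) / 2 ≤ Set.ncard (orb D))
    (B : LinearMap.BilinForm F (V₁ × F)) (hs : ∀ x y, B x y = B y x) (hB0 : B ≠ 0) :
    (Fintype.card F ^ (n + 1) - 1) / 2 ≤ Set.ncard (orb B) := by
  haveI := so_finite_bilin (F := F) (V := V₁ × F)
  have h2 := so_two_ne hodd
  haveI : Invertible (2 : F) := invertibleOfNonzero h2
  have hsym : LinearMap.IsSymm B := ⟨fun x y => by simpa using hs x y⟩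
  obtain ⟨x₀, hx₀⟩ := LinearMap.BilinForm.exists_bilinForm_self_ne_zero hB0 hsym
  -- split the orbit
  set A : Set (LinearMap.BilinForm F (V₁ × F)) := {B' | B' ∈ orb B ∧ B' e0 e0 ≠ 0} with hA
  set Z : Set (LinearMap.BilinForm F (V₁ × F)) := {B' | B' ∈ orb B ∧ B' e0 e0 = 0} with hZ
  have hAZ : Disjoint A Z := by
    rw [Set.disjoint_left]
    rintro B' ⟨_, h1⟩ ⟨_, h2⟩
    exact h1 h2
  have hsplit : Set.ncard A + Set.ncard Z ≤ Set.ncard (orb B) := by
    rw [← Set.ncard_union_eq hAZ (Set.toFinite _) (Set.toFinite _)]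
    apply Set.ncard_le_ncard _ (Set.toFinite _)
    rintro B' (h | h)
    · exact h.1
    · exact h.1
  obtain ⟨Vals, hV0, hV, hVc⟩ := so_vals_sq B x₀ hx₀
  have hpA : Vals.card * Fintype.card F ^ finrank F V₁ ≤ Set.ncard A := so_partA B Vals hV0 hV
  rw [hfin] at hpA
  by_cases hiso : ∃ a, a ≠ 0 ∧ B a a = 0
  · obtain ⟨a, ha, haa⟩ := hiso
    obtain ⟨B₂, hB₂, h00, hres⟩ := so_exists_iso_elem h2 B hs hB0 a ha haa
    have hB₂s := so_symm_of_mem_orb hs hB₂
    have hIH := IH (res B₂) (fun x y => by rw [so_res_apply, so_res_apply]; exact hB₂s _ _) hres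
    have hpB := so_partB B B₂ hB₂ h00
    have := so_arith_iso (Fintype.card F) n Vals.card (Set.ncard Z) hodd hVc (hIH.trans hpB)
    omega
  · push Not at hiso
    by_cases hn : n = 0
    · subst hn
      have h1 : (Fintype.card F ^ (0 + 1) - 1) / 2 ≤ Vals.card := by
        rw [zero_add, pow_one]
        omega
      rw [pow_zero, mul_one] at hpA
      omega
    · haveI : Nontrivial V₁ := by
        apply Module.nontrivial_of_finrank_pos (R := F)
        omega
      obtain ⟨x₁, hx₁⟩ := exists_ne (0 : V₁)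
      have hV0' : ∀ c ∈ (Finset.univ : Finset F).erase 0, c ≠ 0 :=
        fun c hc => (Finset.mem_erase.1 hc).1
      have hV' : ∀ c ∈ (Finset.univ : Finset F).erase 0, ∃ B', B' ∈ orb B ∧ B' e0 e0 = c := by
        intro c hc
        obtain ⟨x, hx, hxc⟩ := so_aniso_values hodd B hs hiso x₁ hx₁ c (hV0' c hc)
        obtain ⟨B', hB', hv⟩ := so_exists_value B x hx
        exact ⟨B', hB', hv.trans hxc⟩
      have hpA' : ((Finset.univ : Finset F).erase 0).card * Fintype.card F ^ finrank F V₁ ≤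
          Set.ncard A := so_partA B _ hV0' hV'
      rw [hfin, Finset.card_erase_of_mem (Finset.mem_univ _), Finset.card_univ] at hpA'
      have := so_arith_aniso (Fintype.card F) n (Fintype.one_lt_card (α := F))
      omega

end final


section main

variable [Fintype F]

theorem so_fin_aux [DecidableEq F] (hodd : Odd (Fintype.card F)) :
    ∀ n : ℕ, ∀ B : LinearMap.BilinForm F (Fin n → F), (∀ x y, B x y = B y x) → B ≠ 0 →
      (Fintype.card F ^ n - 1) / 2 ≤ Set.ncard (orb B) := by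
  intro n
  induction n with
  | zero =>
    intro B _ hB0
    exfalso
    apply hB0
    refine LinearMap.ext fun x => LinearMap.ext fun y => ?_
    rw [Subsingleton.elim x 0, map_zero]
    rfl
  | succ n ih =>
    intro B hs hB0
    have hfr : finrank F (Fin (n + 1) → F) = finrank F ((Fin n → F) × F) := by
      rw [Module.finrank_prod, Module.finrank_fin_fun, Module.finrank_fin_fun, Module.finrank_self]
    let φ : (Fin (n + 1) → F) ≃ₗ[F] ((Fin n → F) × F) := LinearEquiv.ofFinrankEq _ _ hfr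
    set B' : LinearMap.BilinForm F ((Fin n → F) × F) :=
      B.compl₁₂ (φ.symm : ((Fin n → F) × F) →ₗ[F] (Fin (n + 1) → F))
        (φ.symm : ((Fin n → F) × F) →ₗ[F] (Fin (n + 1) → F)) with hB'
    have hs' : ∀ x y, B' x y = B' y x := by
      intro x y
      rw [hB', LinearMap.compl₁₂_apply, LinearMap.compl₁₂_apply]
      exact hs _ _
    have hB'0 : B' ≠ 0 := by
      intro h
      apply hB0
      refine LinearMap.ext fun x => LinearMap.ext fun y => ?_
      have : B' (φ x) (φ y) = 0 := by rw [h]; rfl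
      rw [hB', LinearMap.compl₁₂_apply] at this
      simpa using this
    have h1 := so_step hodd n (Module.finrank_fin_fun F) ih B' hs' hB'0
    exact h1.trans (so_ncard_orb_transport φ B)

/-- abstract form: the congruence orbit of a nonzero symmetric bilinear form on a space of
dimension `n` over a finite field of odd order `q` has at least `(q^n - 1)/2` elements. -/
theorem ncard_orbit_ge (hodd : Odd (Fintype.card F)) {V : Type*} [AddCommGroup V] [Module F V]
    [FiniteDimensional F V] (B : LinearMap.BilinForm F V) (hB : B.IsSymm) (hB0 : B ≠ 0) :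
    (Fintype.card F ^ Module.finrank F V - 1) / 2 ≤
      Set.ncard {B' : LinearMap.BilinForm F V | ∃ g : V ≃ₗ[F] V, B' = B.compl₁₂ g g} := by
  classical
  have hs : ∀ x y, B x y = B y x := fun x y => by simpa using hB.eq x y
  have hfr : finrank F V = finrank F (Fin (finrank F V) → F) := by
    rw [Module.finrank_fin_fun]
  let φ : V ≃ₗ[F] (Fin (finrank F V) → F) := LinearEquiv.ofFinrankEq _ _ hfr
  set B' : LinearMap.BilinForm F (Fin (finrank F V) → F) :=
    B.compl₁₂ (φ.symm : (Fin (finrank F V) → F) →ₗ[F] V)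
      (φ.symm : (Fin (finrank F V) → F) →ₗ[F] V) with hB'
  have hs' : ∀ x y, B' x y = B' y x := by
    intro x y
    rw [hB', LinearMap.compl₁₂_apply, LinearMap.compl₁₂_apply]
    exact hs _ _
  have hB'0 : B' ≠ 0 := by
    intro h
    apply hB0
    refine LinearMap.ext fun x => LinearMap.ext fun y => ?_
    have : B' (φ x) (φ y) = 0 := by rw [h]; rfl
    rw [hB', LinearMap.compl₁₂_apply] at this
    simpa using this
  have h1 := so_fin_aux hodd (finrank F V) B' hs' hB'0
  exact h1.trans (so_ncard_orb_transport φ B)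

/-- matrix form: `{Pᵀ M P : P ∈ GL_n(F)}` has at least `(q^n - 1)/2` elements
(`M ≠ 0` symmetric, `q` odd). -/
theorem ncard_congr_orbit_ge (hodd : Odd (Fintype.card F)) (n : ℕ)
    (M : Matrix (Fin n) (Fin n) F) (hM : M.IsSymm) (hM0 : M ≠ 0) :
    (Fintype.card F ^ n - 1) / 2 ≤
      Set.ncard (Set.range fun P : GL (Fin n) F =>
        (P : Matrix (Fin n) (Fin n) F).transpose * M * (P : Matrix (Fin n) (Fin n) F)) := by
  classical
  have hsym : (Matrix.toBilin' M).IsSymm := Matrix.isSymm_toBilin'_iff_isSymm.2 hM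
  have hne : Matrix.toBilin' M ≠ 0 := by
    intro h
    apply hM0
    have := congrArg LinearMap.BilinForm.toMatrix' h
    simpa using this
  have h1 := ncard_orbit_ge hodd (Matrix.toBilin' M) hsym hne
  rw [Module.finrank_fin_fun] at h1
  refine h1.trans ?_
  refine Set.ncard_le_ncard_of_injOn (fun B' => LinearMap.BilinForm.toMatrix' B') ?_ ?_
    (Set.toFinite _)
  · rintro B' ⟨g, rfl⟩
    let P : Matrix (Fin n) (Fin n) F := LinearMap.toMatrix' (g : (Fin n → F) →ₗ[F] (Fin n → F))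
    let P' : Matrix (Fin n) (Fin n) F :=
      LinearMap.toMatrix' (g.symm : (Fin n → F) →ₗ[F] (Fin n → F))
    have hPP' : P * P' = 1 := by
      rw [← LinearMap.toMatrix'_comp]
      have : (g : (Fin n → F) →ₗ[F] (Fin n → F)) ∘ₗ (g.symm : (Fin n → F) →ₗ[F] (Fin n → F)) =
          LinearMap.id := by
        ext x; simp
      rw [this, LinearMap.toMatrix'_id]
    have hP'P : P' * P = 1 := by
      rw [← LinearMap.toMatrix'_comp]
      have : (g.symm : (Fin n → F) →ₗ[F] (Fin n → F)) ∘ₗ (g : (Fin n → F) →ₗ[F] (Fin n → F)) =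
          LinearMap.id := by
        ext x; simp
      rw [this, LinearMap.toMatrix'_id]
    refine ⟨⟨P, P', hPP', hP'P⟩, ?_⟩
    show P.transpose * M * P = _
    have hg : Matrix.toLin' P = (g : (Fin n → F) →ₗ[F] (Fin n → F)) := Matrix.toLin'_toMatrix' _
    have := Matrix.toBilin'_comp M P P
    rw [hg] at this
    show _ = LinearMap.BilinForm.toMatrix' ((Matrix.toBilin' M).comp
      (g : (Fin n → F) →ₗ[F] (Fin n → F)) (g : (Fin n → F) →ₗ[F] (Fin n → F)))
    rw [this, LinearMap.BilinForm.toMatrix'_toBilin']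
  · intro B₁ _ B₂ _ h
    exact LinearMap.BilinForm.toMatrix'.injective h

end main

end Cfsg.Agent.Lib.Helper4.SymOrbit
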