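import Mathlib
import Cfsg.Agent.Lib.Helper4.SymOrbit

set_option autoImplicit false
set_option linter.style.haveILetI false
set_option linter.unusedSectionVars false

/-!
# Congruence orbits of symmetric bilinear forms of rank at least two (odd `q`)

`ncard_congr_orbit_rank_two_ge`: for a symmetric `n × n` matrix `M` over `F_q`, `q` odd, which is not
of the form `c • w wᵀ`, the congruence orbit `{Pᵀ M P}` has at least
`(q^n - 1)(q^n - q) / (2 (q + 1))` elements.  (Package PK-A1 of S2524.)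
-/

namespace Cfsg.Agent.Lib.Helper4.SymOrbit

open Module

variable {F : Type*} [Field F]

section r1

variable {V : Type*} [AddCommGroup V] [Module F V]

/-- rank at most one: `B x y = c * l x * l y` -/
def R1 (B : LinearMap.BilinForm F V) : Prop :=
  ∃ (c : F) (l : V →ₗ[F] F), ∀ x y, B x y = c * l x * l y

theorem so2_orb_symm {B B' : LinearMap.BilinForm F V} (h : B' ∈ orb B) : B ∈ orb B' := by
  obtain ⟨g, rfl⟩ := h
  refine ⟨g.symm, ?_⟩
  refine LinearMap.ext fun x => LinearMap.ext fun y => ?_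
  rw [LinearMap.compl₁₂_apply, LinearMap.compl₁₂_apply]
  simp

theorem so2_R1_of_mem_orb {B B' : LinearMap.BilinForm F V} (h : B' ∈ orb B) (hB : R1 B) :
    R1 B' := by
  obtain ⟨g, rfl⟩ := h
  obtain ⟨c, l, hl⟩ := hB
  refine ⟨c, l.comp (g : V →ₗ[F] V), fun x y => ?_⟩
  rw [LinearMap.compl₁₂_apply, hl]
  rfl

theorem so2_not_R1_of_mem_orb {B B' : LinearMap.BilinForm F V} (h : B' ∈ orb B) (hB : ¬ R1 B) :
    ¬ R1 B' := fun h' => hB (so2_R1_of_mem_orb (so2_orb_symm h) h')

theorem so2_ne_zero_of_not_R1 {B : LinearMap.BilinForm F V} (hB : ¬ R1 B) : B ≠ 0 := by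
  rintro rfl
  exact hB ⟨0, 0, fun x y => by simp⟩

/-- every form on a space of dimension at most one has rank at most one -/
theorem so2_R1_of_finrank_le_one [Module.Finite F V] (h : finrank F V ≤ 1)
    (D : LinearMap.BilinForm F V) : R1 D := by
  obtain ⟨v, hv⟩ := finrank_le_one_iff.1 h
  by_cases h0 : D v v = 0
  · refine ⟨0, 0, fun x y => ?_⟩
    obtain ⟨a, rfl⟩ := hv x
    obtain ⟨b, rfl⟩ := hv y
    simp [h0]
  · refine ⟨D v v, (D v v)⁻¹ • D v, fun x y => ?_⟩
    obtain ⟨a, rfl⟩ := hv x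
    obtain ⟨b, rfl⟩ := hv y
    simp only [map_smul, LinearMap.smul_apply, smul_eq_mul]
    field_simp

/-- a symmetric form of rank at least two represents every nonzero scalar (`q` odd) -/
theorem so2_universal [Fintype F] (hodd : Odd (Fintype.card F)) (B : LinearMap.BilinForm F V)
    (hs : ∀ x y, B x y = B y x) (hB : ¬ R1 B) (δ : F) (hδ : δ ≠ 0) :
    ∃ x, x ≠ 0 ∧ B x x = δ := by
  have h2 := so_two_ne hodd
  haveI : Invertible (2 : F) := invertibleOfNonzero h2
  have hsym : LinearMap.IsSymm B := ⟨fun x y => by simpa using hs x y⟩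
  obtain ⟨x₀, hx₀⟩ :=
    LinearMap.BilinForm.exists_bilinForm_self_ne_zero (so2_ne_zero_of_not_R1 hB) hsym
  set α := B x₀ x₀ with hα
  have hv : ∃ v, B x₀ v = 0 ∧ B v v ≠ 0 := by
    by_contra hcon
    push Not at hcon
    apply hB
    refine ⟨α, α⁻¹ • B x₀, fun x y => ?_⟩
    have key : ∀ z : V, B x₀ (z - (α⁻¹ * B x₀ z) • x₀) = 0 := by
      intro z
      rw [map_sub, map_smul, smul_eq_mul, ← hα]
      field_simp
      ring
    set x' := x - (α⁻¹ * B x₀ x) • x₀ with hx'
    set y' := y - (α⁻¹ * B x₀ y) • x₀ with hy'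
    have ex : B x₀ x' = 0 := key x
    have ey : B x₀ y' = 0 := key y
    have exy : B x₀ (x' + y') = 0 := by rw [map_add, ex, ey, add_zero]
    have q1 := hcon x' ex
    have q2 := hcon y' ey
    have q3 := hcon _ exy
    have hxy : B x' y' = 0 := by
      have h3 : B (x' + y') (x' + y') = B x' x' + B x' y' + B y' x' + B y' y' := by
        simp only [map_add, LinearMap.add_apply]
        ring
      rw [q3, q1, q2, hs y' x'] at h3
      have h4 : (2 : F) * B x' y' = 0 := by linear_combination -h3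
      exact (mul_eq_zero.1 h4).resolve_left h2
    have e1 : B x' x₀ = 0 := by rw [hs]; exact ex
    have hx : x = x' + (α⁻¹ * B x₀ x) • x₀ := by rw [hx']; abel
    have hy : y = y' + (α⁻¹ * B x₀ y) • x₀ := by rw [hy']; abel
    rw [LinearMap.smul_apply, LinearMap.smul_apply, smul_eq_mul, smul_eq_mul]
    conv_lhs => rw [hx, hy]
    simp only [map_add, map_smul, LinearMap.add_apply, LinearMap.smul_apply, smul_eq_mul]
    rw [hxy, e1, ey, ← hα]
    ring
  obtain ⟨v, hv0, hvv⟩ := hv
  set β := B v v with hβ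
  have hv0' : B v x₀ = 0 := by rw [hs]; exact hv0
  have hdf : (Polynomial.C α * Polynomial.X ^ 2 : Polynomial F).degree = 2 := by
    rw [Polynomial.degree_C_mul_X_pow 2 hx₀]; rfl
  have hdg : (Polynomial.C β * Polynomial.X ^ 2 - Polynomial.C δ : Polynomial F).degree = 2 := by
    have h1 : (Polynomial.C β * Polynomial.X ^ 2 : Polynomial F).degree = 2 := by
      rw [Polynomial.degree_C_mul_X_pow 2 hvv]; rfl
    rw [Polynomial.degree_sub_C (by rw [h1]; decide), h1]
  have hq : Fintype.card F % 2 = 1 := Nat.odd_iff.1 hodd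
  obtain ⟨a, b, hab⟩ := FiniteField.exists_root_sum_quadratic hdf hdg hq
  simp only [Polynomial.eval_mul, Polynomial.eval_C, Polynomial.eval_pow, Polynomial.eval_X,
    Polynomial.eval_sub] at hab
  have hval : B (a • x₀ + b • v) (a • x₀ + b • v) = δ := by
    simp only [map_add, map_smul, LinearMap.add_apply, LinearMap.smul_apply, smul_eq_mul,
      hv0, hv0', ← hα, ← hβ]
    linear_combination hab
  refine ⟨a • x₀ + b • v, ?_, hval⟩
  intro h
  rw [h] at hval
  apply hδ
  rw [← hval]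
  simp

end r1


section core2

variable [Fintype F] {V₁ : Type*} [AddCommGroup V₁] [Module F V₁]

/-- the orthogonal sum `E ⊕ ⟨c⟩` on `V₁ × F` -/
def dsum (c : F) (E : LinearMap.BilinForm F V₁) : LinearMap.BilinForm F (V₁ × F) :=
  E.compl₁₂ (LinearMap.fst F V₁ F) (LinearMap.fst F V₁ F) +
    c • (LinearMap.mul F F).compl₁₂ (LinearMap.snd F V₁ F) (LinearMap.snd F V₁ F)

theorem so2_dsum_apply (c : F) (E : LinearMap.BilinForm F V₁) (p q : V₁ × F) :
    dsum c E p q = E p.1 q.1 + c * (p.2 * q.2) := by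
  simp [dsum, LinearMap.compl₁₂_apply]

theorem so2_dsum_e0 (c : F) (E : LinearMap.BilinForm F V₁) : dsum c E e0 e0 = c := by
  rw [so2_dsum_apply]
  simp [e0]

theorem so2_dsum_x_e0 (c : F) (E : LinearMap.BilinForm F V₁) (x : V₁) :
    dsum c E (x, 0) e0 = 0 := by
  rw [so2_dsum_apply]
  simp [e0]

theorem so2_res_dsum (c : F) (E : LinearMap.BilinForm F V₁) : res (dsum c E) = E := by
  refine LinearMap.ext fun x => LinearMap.ext fun y => ?_
  rw [so_res_apply, so2_dsum_apply]
  simp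

/-- a symmetric form for which `e0 ⟂ V₁` is an orthogonal sum -/
theorem so2_eq_dsum (B : LinearMap.BilinForm F (V₁ × F)) (hs : ∀ x y, B x y = B y x)
    (h : ∀ x : V₁, B (x, 0) e0 = 0) : B = dsum (B e0 e0) (res B) := by
  refine LinearMap.ext fun p => LinearMap.ext fun q => ?_
  obtain ⟨x, a⟩ := p
  obtain ⟨y, b⟩ := q
  rw [so_expand, so2_dsum_apply, so_res_apply, h x, hs e0 (y, 0), h y]
  ring

/-- splitting off a represented nonzero value -/
theorem so2_exists_dsum [Module.Finite F V₁] (B : LinearMap.BilinForm F (V₁ × F))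
    (hs : ∀ x y, B x y = B y x) (x : V₁ × F) (hx : x ≠ 0) (hc : B x x ≠ 0) :
    ∃ E : LinearMap.BilinForm F V₁, dsum (B x x) E ∈ orb B := by
  obtain ⟨B₁, hB₁, hv⟩ := so_exists_value B x hx
  set c := B x x with hcdef
  set t : V₁ →ₗ[F] F := (-c⁻¹) • ((B₁.flip e0).comp (LinearMap.inl F V₁ F)) with ht
  have htx : ∀ y : V₁, t y = -c⁻¹ * B₁ (y, 0) e0 := by
    intro y
    rw [ht]
    simp
  have hB' : tw B₁ t ∈ orb B := so_tw_mem_orb hB₁ t
  have hs' := so_symm_of_mem_orb hs hB'
  have h0 : ∀ y : V₁, tw B₁ t (y, 0) e0 = 0 := by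
    intro y
    rw [so_tw_x_e0, htx, hv]
    field_simp
    ring
  have he : tw B₁ t e0 e0 = c := by rw [so_tw_e0, hv]
  refine ⟨res (tw B₁ t), ?_⟩
  have := so2_eq_dsum (tw B₁ t) hs' h0
  rw [he] at this
  rw [← this]
  exact hB'

theorem so2_dsum_mem_orb {B : LinearMap.BilinForm F (V₁ × F)} {c : F}
    {E D : LinearMap.BilinForm F V₁} (hE : dsum c E ∈ orb B) (hD : D ∈ orb E) :
    dsum c D ∈ orb B := by
  obtain ⟨h, rfl⟩ := hD
  let H : (V₁ × F) ≃ₗ[F] (V₁ × F) := h.prodCongr (LinearEquiv.refl F F)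
  have : dsum c (E.compl₁₂ (h : V₁ →ₗ[F] V₁) (h : V₁ →ₗ[F] V₁)) =
      (dsum c E).compl₁₂ (H : (V₁ × F) →ₗ[F] (V₁ × F)) (H : (V₁ × F) →ₗ[F] (V₁ × F)) := by
    refine LinearMap.ext fun p => LinearMap.ext fun q => ?_
    rw [so2_dsum_apply, LinearMap.compl₁₂_apply, LinearMap.compl₁₂_apply, so2_dsum_apply]
    rfl
  rw [this]
  exact so_mem_orb_comp hE H

/-- refined part (a): all orthogonal sums `⟨c⟩ ⊕ D`, twisted by all shears -/
theorem so2_partA [DecidableEq F] [Module.Finite F V₁] (B : LinearMap.BilinForm F (V₁ × F))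
    (E : F → LinearMap.BilinForm F V₁) (hE : ∀ c, c ≠ 0 → dsum c (E c) ∈ orb B) :
    Fintype.card F ^ finrank F V₁ *
        ∑ c ∈ (Finset.univ : Finset F).erase 0, Set.ncard (orb (E c)) ≤
      Set.ncard {B' | B' ∈ orb B ∧ B' e0 e0 ≠ 0} := by
  classical
  haveI := so_finite_bilin (F := F) (V := V₁ × F)
  haveI := so_finite_bilin (F := F) (V := V₁)
  let I := Σ c : {c : F // c ≠ 0}, ↥(orb (E c.1))
  let Φ : (I × (V₁ →ₗ[F] F)) → LinearMap.BilinForm F (V₁ × F) :=
    fun p => tw (dsum p.1.1.1 p.1.2.1) p.2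
  have hΦ0 : ∀ p, Φ p e0 e0 = p.1.1.1 := by
    intro p
    show tw (dsum p.1.1.1 p.1.2.1) p.2 e0 e0 = _
    rw [so_tw_e0, so2_dsum_e0]
  have hΦ1 : ∀ p (x : V₁), Φ p (x, 0) e0 = p.2 x * p.1.1.1 := by
    intro p x
    show tw (dsum p.1.1.1 p.1.2.1) p.2 (x, 0) e0 = _
    rw [so_tw_x_e0, so2_dsum_x_e0, so2_dsum_e0, zero_add]
  have hΦ2 : ∀ p (x y : V₁), Φ p (x, 0) (y, 0) = p.1.2.1 x y + p.1.1.1 * (p.2 x * p.2 y) := by
    intro p x y
    show tw (dsum p.1.1.1 p.1.2.1) p.2 (x, 0) (y, 0) = _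
    rw [so_tw_apply, so_shear_apply, so_shear_apply, so2_dsum_apply]
    simp
  have hinj : Function.Injective Φ := by
    rintro ⟨⟨⟨c, hc⟩, ⟨D, hD⟩⟩, t⟩ ⟨⟨⟨c', hc'⟩, ⟨D', hD'⟩⟩, t'⟩ h
    have a0 := hΦ0 ⟨⟨⟨c, hc⟩, ⟨D, hD⟩⟩, t⟩
    have b0 := hΦ0 ⟨⟨⟨c', hc'⟩, ⟨D', hD'⟩⟩, t'⟩
    have a1 := hΦ1 ⟨⟨⟨c, hc⟩, ⟨D, hD⟩⟩, t⟩
    have b1 := hΦ1 ⟨⟨⟨c', hc'⟩, ⟨D', hD'⟩⟩, t'⟩
    have a2 := hΦ2 ⟨⟨⟨c, hc⟩, ⟨D, hD⟩⟩, t⟩
    have b2 := hΦ2 ⟨⟨⟨c', hc'⟩, ⟨D', hD'⟩⟩, t'⟩
    simp only at a0 b0 a1 b1 a2 b2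
    rw [h] at a0 a1 a2
    have h1 : c = c' := a0.symm.trans b0
    subst h1
    have h2 : t = t' := by
      ext x
      have := (a1 x).symm.trans (b1 x)
      exact mul_right_cancel₀ hc this
    subst h2
    have h3 : D = D' := by
      refine LinearMap.ext fun x => LinearMap.ext fun y => ?_
      have := (a2 x y).symm.trans (b2 x y)
      exact add_right_cancel this
    subst h3
    rfl
  have hsub : Set.range Φ ⊆ {B' | B' ∈ orb B ∧ B' e0 e0 ≠ 0} := by
    rintro _ ⟨p, rfl⟩
    refine ⟨so_tw_mem_orb (so2_dsum_mem_orb (hE p.1.1.1 p.1.1.2) p.1.2.2) p.2, ?_⟩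
    rw [hΦ0]
    exact p.1.1.2
  have hcardI : Nat.card I = ∑ c ∈ (Finset.univ : Finset F).erase 0, Set.ncard (orb (E c)) := by
    rw [Nat.card_sigma]
    have : ∀ c : {c : F // c ≠ 0}, Nat.card ↥(orb (E c.1)) = Set.ncard (orb (E c.1)) :=
      fun c => Nat.card_coe_set_eq _
    simp only [this]
    rw [← Finset.sum_subtype ((Finset.univ : Finset F).erase 0) (p := fun c : F => c ≠ 0)
      (fun c => by simp) (fun c => Set.ncard (orb (E c)))]
  have hcard : Set.ncard (Set.range Φ) = Fintype.card F ^ finrank F V₁ *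
      ∑ c ∈ (Finset.univ : Finset F).erase 0, Set.ncard (orb (E c)) := by
    rw [← Nat.card_coe_set_eq, Nat.card_range_of_injective hinj, Nat.card_prod, so_card_dual,
      hcardI, mul_comm]
  rw [← hcard]
  exact Set.ncard_le_ncard hsub (Set.toFinite _)

end core2


section arith

/-- arithmetic for the rank two case -/
theorem so2_arith_two (q P S A Z N : ℕ) (hq : Odd q) (hP : Odd P) (hPq : P = 1 ∨ q ≤ P)
    (hS : (q - 1) * ((P - 1) / 2) ≤ S) (hA : P * S ≤ A)
    (hZ : (P - 1) * (P - q) ≤ 2 * (q + 1) * Z) (hN : A + Z ≤ N) :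
    (q * P - 1) * (q * P - q) ≤ 2 * (q + 1) * N := by
  rcases hPq with rfl | hPq
  · simp
  · obtain ⟨k, rfl⟩ := hq
    obtain ⟨j, rfl⟩ := hP
    obtain ⟨s, rfl⟩ : ∃ s, j = k + s := ⟨j - k, by omega⟩
    have e1 : (2 * (k + s) + 1 - 1) / 2 = k + s := by omega
    have e2 : 2 * k + 1 - 1 = 2 * k := by omega
    have e3 : 2 * (k + s) + 1 - 1 = 2 * (k + s) := by omega
    have e4 : 2 * (k + s) + 1 - (2 * k + 1) = 2 * s := by omega
    have e5 : (2 * k + 1) * (2 * (k + s) + 1) - 1 = 4 * k * k + 4 * k * s + 4 * k + 2 * s := by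
      apply Nat.sub_eq_of_eq_add
      ring
    have e6 : (2 * k + 1) * (2 * (k + s) + 1) - (2 * k + 1) = (2 * k + 1) * (2 * (k + s)) := by
      apply Nat.sub_eq_of_eq_add
      ring
    rw [e1, e2] at hS
    rw [e3, e4] at hZ
    rw [e5, e6]
    have h1 := Nat.mul_le_mul_left (2 * (2 * k + 1 + 1)) hN
    have h2 := Nat.mul_le_mul_left (2 * (2 * k + 1 + 1)) hA
    have h3 := Nat.mul_le_mul_left (2 * (2 * k + 1 + 1) * (2 * (k + s) + 1)) hS
    nlinarith [h1, h2, h3, hZ]

/-- arithmetic for the case of rank at least three -/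
theorem so2_arith_one (q P S A N : ℕ) (hq : 3 ≤ q) (hPq : q * q ≤ P)
    (hS : (q - 1) * ((P - 1) * (P - q)) ≤ 2 * (q + 1) * S) (hA : P * S ≤ A) (hN : A ≤ N) :
    (q * P - 1) * (q * P - q) ≤ 2 * (q + 1) * N := by
  have a1 : q * q ≤ (q - 1) * (P - q) := by
    have h1 : q * q - q ≤ P - q := Nat.sub_le_sub_right hPq q
    have h2 : (q - 1) * (q * q - q) ≤ (q - 1) * (P - q) := Nat.mul_le_mul_left _ h1
    refine le_trans ?_ h2
    obtain ⟨k, rfl⟩ : ∃ k, q = k + 3 := ⟨q - 3, by omega⟩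
    have e1 : k + 3 - 1 = k + 2 := by omega
    have e2 : (k + 3) * (k + 3) - (k + 3) = (k + 3) * (k + 2) := by
      apply Nat.sub_eq_of_eq_add
      ring
    rw [e1, e2]
    nlinarith
  have a2 : q * (q * P - 1) ≤ P * ((q - 1) * (P - q)) := by
    calc q * (q * P - 1) ≤ q * (q * P) := Nat.mul_le_mul_left _ (Nat.sub_le _ _)
      _ = P * (q * q) := by ring
      _ ≤ P * ((q - 1) * (P - q)) := Nat.mul_le_mul_left _ a1
  have a3 : q * P - q = q * (P - 1) := by rw [Nat.mul_sub, mul_one]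
  calc (q * P - 1) * (q * P - q) = q * (q * P - 1) * (P - 1) := by rw [a3]; ring
    _ ≤ P * ((q - 1) * (P - q)) * (P - 1) := Nat.mul_le_mul_right _ a2
    _ = P * ((q - 1) * ((P - 1) * (P - q))) := by ring
    _ ≤ P * (2 * (q + 1) * S) := Nat.mul_le_mul_left _ hS
    _ = 2 * (q + 1) * (P * S) := by ring
    _ ≤ 2 * (q + 1) * N := Nat.mul_le_mul_left _ (hA.trans hN)

end arith


section final2

variable [Fintype F] {V₁ : Type*} [AddCommGroup V₁] [Module F V₁]

theorem so2_R1_dsum_zero (c : F) : R1 (dsum c (0 : LinearMap.BilinForm F V₁)) :=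
  ⟨c, LinearMap.snd F V₁ F, fun p q => by rw [so2_dsum_apply]; simp [mul_assoc]⟩

/-- the inductive step on `V₁ × F` -/
theorem so2_step [DecidableEq F] [Module.Finite F V₁] (hodd : Odd (Fintype.card F)) (m : ℕ)
    (hfin : finrank F V₁ = m)
    (IH : ∀ D : LinearMap.BilinForm F V₁, (∀ x y, D x y = D y x) → ¬ R1 D →
      (Fintype.card F ^ m - 1) * (Fintype.card F ^ m - Fintype.card F) ≤
        2 * (Fintype.card F + 1) * Set.ncard (orb D))
    (B : LinearMap.BilinForm F (V₁ × F)) (hs : ∀ x y, B x y = B y x) (hB : ¬ R1 B) :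
    (Fintype.card F ^ (m + 1) - 1) * (Fintype.card F ^ (m + 1) - Fintype.card F) ≤
      2 * (Fintype.card F + 1) * Set.ncard (orb B) := by
  classical
  haveI := so_finite_bilin (F := F) (V := V₁ × F)
  have hex : ∀ c : F, ∃ E : LinearMap.BilinForm F V₁, c ≠ 0 → dsum c E ∈ orb B := by
    intro c
    by_cases hc : c = 0
    · exact ⟨0, fun h => absurd hc h⟩
    · obtain ⟨x, hx, hxc⟩ := so2_universal hodd B hs hB c hc
      obtain ⟨E, hE⟩ := so2_exists_dsum B hs x hx (by rw [hxc]; exact hc)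
      rw [hxc] at hE
      exact ⟨E, fun _ => hE⟩
  choose E hE using hex
  have hEs : ∀ c, c ≠ 0 → ∀ x y, E c x y = E c y x := by
    intro c hc x y
    have h1 := so_symm_of_mem_orb hs (hE c hc) (x, 0) (y, 0)
    rw [so2_dsum_apply, so2_dsum_apply] at h1
    simpa using h1
  have hEne : ∀ c, c ≠ 0 → E c ≠ 0 := by
    intro c hc h0
    have h1 := hE c hc
    rw [h0] at h1
    exact so2_not_R1_of_mem_orb h1 hB (so2_R1_dsum_zero c)
  set A : Set (LinearMap.BilinForm F (V₁ × F)) := {B' | B' ∈ orb B ∧ B' e0 e0 ≠ 0} with hA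
  set Z : Set (LinearMap.BilinForm F (V₁ × F)) := {B' | B' ∈ orb B ∧ B' e0 e0 = 0} with hZ
  have hAZ : Disjoint A Z := by
    rw [Set.disjoint_left]
    rintro B' ⟨_, h1⟩ ⟨_, h2⟩
    exact h1 h2
  have hsplit : Set.ncard A + Set.ncard Z ≤ Set.ncard (orb B) := by
    rw [← Set.ncard_union_eq hAZ (Set.toFinite _) (Set.toFinite _)]
    apply Set.ncard_le_ncard _ (Set.toFinite _)
    rintro B' (h | h)
    · exact h.1
    · exact h.1
  have hpA : Fintype.card F ^ finrank F V₁ *
      ∑ c ∈ (Finset.univ : Finset F).erase 0, Set.ncard (orb (E c)) ≤ Set.ncard A :=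
    so2_partA B E hE
  rw [hfin] at hpA
  have hq2 : 2 ≤ Fintype.card F := Fintype.one_lt_card
  have hq3 : 3 ≤ Fintype.card F := by
    obtain ⟨k, hk⟩ := hodd
    omega
  have hcs : ((Finset.univ : Finset F).erase 0).card = Fintype.card F - 1 := by
    rw [Finset.card_erase_of_mem (Finset.mem_univ _), Finset.card_univ]
  by_cases hall : ∀ c, c ≠ 0 → ¬ R1 (E c)
  · -- all complements have rank at least two
    have hm2 : 2 ≤ m := by
      by_contra hlt
      have h1 : finrank F V₁ ≤ 1 := by omega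
      exact hall 1 one_ne_zero (so2_R1_of_finrank_le_one h1 (E 1))
    have hS : (Fintype.card F - 1) *
        ((Fintype.card F ^ m - 1) * (Fintype.card F ^ m - Fintype.card F)) ≤
        2 * (Fintype.card F + 1) *
          ∑ c ∈ (Finset.univ : Finset F).erase 0, Set.ncard (orb (E c)) := by
      calc (Fintype.card F - 1) *
            ((Fintype.card F ^ m - 1) * (Fintype.card F ^ m - Fintype.card F))
          = ∑ _c ∈ (Finset.univ : Finset F).erase 0,
              ((Fintype.card F ^ m - 1) * (Fintype.card F ^ m - Fintype.card F)) := by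
            rw [Finset.sum_const, smul_eq_mul, hcs]
        _ ≤ ∑ c ∈ (Finset.univ : Finset F).erase 0,
              2 * (Fintype.card F + 1) * Set.ncard (orb (E c)) := by
            apply Finset.sum_le_sum
            intro c hc
            have hc0 := (Finset.mem_erase.1 hc).1
            exact IH (E c) (hEs c hc0) (hall c hc0)
        _ = _ := by rw [Finset.mul_sum]
    have hPq : Fintype.card F * Fintype.card F ≤ Fintype.card F ^ m := by
      calc Fintype.card F * Fintype.card F = Fintype.card F ^ 2 := by ring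
        _ ≤ _ := Nat.pow_le_pow_right (by omega) hm2
    have := so2_arith_one (Fintype.card F) (Fintype.card F ^ m) _ _ _ hq3 hPq hS hpA
      (le_trans (Nat.le_add_right _ _) hsplit)
    rw [pow_succ, mul_comm (Fintype.card F ^ m)]
    exact this
  · -- some complement has rank one
    push Not at hall
    obtain ⟨c₀, hc₀, d, l, hl⟩ := hall
    have hSlow : (Fintype.card F - 1) * ((Fintype.card F ^ m - 1) / 2) ≤
        ∑ c ∈ (Finset.univ : Finset F).erase 0, Set.ncard (orb (E c)) := by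
      calc (Fintype.card F - 1) * ((Fintype.card F ^ m - 1) / 2)
          = ∑ _c ∈ (Finset.univ : Finset F).erase 0, ((Fintype.card F ^ m - 1) / 2) := by
            rw [Finset.sum_const, smul_eq_mul, hcs]
        _ ≤ _ := by
            apply Finset.sum_le_sum
            intro c hc
            have hc0 := (Finset.mem_erase.1 hc).1
            have hsym : (E c).IsSymm := ⟨fun x y => by simpa using hEs c hc0 x y⟩
            have h1 := ncard_orbit_ge hodd (E c) hsym (hEne c hc0)
            rw [hfin] at h1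
            exact h1
    have hZb : (Fintype.card F ^ m - 1) * (Fintype.card F ^ m - Fintype.card F) ≤
        2 * (Fintype.card F + 1) * Set.ncard Z := by
      by_cases hm1 : m ≤ 1
      · interval_cases m <;> simp
      · push Not at hm1
        have hker : LinearMap.ker l ≠ ⊥ := by
          apply LinearMap.ker_ne_bot_of_finrank_lt
          rw [hfin, Module.finrank_self]
          exact hm1
        obtain ⟨v, hvk, hv0⟩ := Submodule.exists_mem_ne_zero_of_ne_bot hker
        have hlv : l v = 0 := LinearMap.mem_ker.1 hvk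
        have hw0 : ((v, 0) : V₁ × F) ≠ 0 := fun h => hv0 (congrArg Prod.fst h)
        have hB₁orb : dsum c₀ (E c₀) ∈ orb B := hE c₀ hc₀
        have hrad : ∀ p, dsum c₀ (E c₀) ((v, 0) : V₁ × F) p = 0 := by
          intro p
          rw [so2_dsum_apply, hl]
          simp [hlv]
        obtain ⟨f, hf⟩ := so_exists_linearEquiv_apply (F := F) (e0 : V₁ × F) (v, 0) so_e0_ne hw0
        set B₂ : LinearMap.BilinForm F (V₁ × F) := (dsum c₀ (E c₀)).compl₁₂
          (f : (V₁ × F) →ₗ[F] (V₁ × F)) (f : (V₁ × F) →ₗ[F] (V₁ × F)) with hB₂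
        have hB₂orb : B₂ ∈ orb B := so_mem_orb_comp hB₁orb f
        have hB₂s := so_symm_of_mem_orb hs hB₂orb
        have hB₂e : ∀ p, B₂ e0 p = 0 := by
          intro p
          rw [hB₂, LinearMap.compl₁₂_apply]
          show dsum c₀ (E c₀) (f e0) (f p) = 0
          rw [hf]
          exact hrad _
        have hnr : ¬ R1 (res B₂) := by
          rintro ⟨c', l', hl'⟩
          apply so2_not_R1_of_mem_orb hB₂orb hB
          refine ⟨c', l'.comp (LinearMap.fst F V₁ F), ?_⟩
          rintro ⟨x, a⟩ ⟨y, b⟩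
          rw [so_expand, hB₂e, hB₂e, hB₂s (x, 0) e0, hB₂e, ← so_res_apply, hl']
          simp
        have hIH := IH (res B₂)
          (fun x y => by rw [so_res_apply, so_res_apply]; exact hB₂s _ _) hnr
        have hpB : Set.ncard (orb (res B₂)) ≤ Set.ncard Z := so_partB B B₂ hB₂orb (hB₂e e0)
        exact hIH.trans (Nat.mul_le_mul_left _ hpB)
    have hP1 : Fintype.card F ^ m = 1 ∨ Fintype.card F ≤ Fintype.card F ^ m := by
      rcases Nat.eq_zero_or_pos m with h0 | h0
      · left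
        rw [h0, pow_zero]
      · right
        exact Nat.le_self_pow (by omega) _
    have := so2_arith_two (Fintype.card F) (Fintype.card F ^ m) _ _ _ _ hodd (Odd.pow hodd) hP1
      hSlow hpA hZb hsplit
    rw [pow_succ, mul_comm (Fintype.card F ^ m)]
    exact this

end final2


section main2

variable [Fintype F]

theorem so2_R1_transport {V V' : Type*} [AddCommGroup V] [Module F V] [AddCommGroup V']
    [Module F V'] (φ : V' →ₗ[F] V) {B : LinearMap.BilinForm F V} (h : R1 B) :
    R1 (B.compl₁₂ φ φ) := by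
  obtain ⟨c, l, hl⟩ := h
  exact ⟨c, l.comp φ, fun x y => by rw [LinearMap.compl₁₂_apply, hl]; rfl⟩

theorem so2_fin_aux [DecidableEq F] (hodd : Odd (Fintype.card F)) :
    ∀ n : ℕ, ∀ B : LinearMap.BilinForm F (Fin n → F), (∀ x y, B x y = B y x) → ¬ R1 B →
      (Fintype.card F ^ n - 1) * (Fintype.card F ^ n - Fintype.card F) ≤
        2 * (Fintype.card F + 1) * Set.ncard (orb B) := by
  intro n
  induction n with
  | zero =>
    intro B _ hB
    exfalso
    apply hB
    refine ⟨0, 0, fun x y => ?_⟩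
    rw [Subsingleton.elim x 0, map_zero]
    simp
  | succ n ih =>
    intro B hs hB
    have hfr : finrank F (Fin (n + 1) → F) = finrank F ((Fin n → F) × F) := by
      rw [Module.finrank_prod, Module.finrank_fin_fun, Module.finrank_fin_fun, Module.finrank_self]
    let φ : (Fin (n + 1) → F) ≃ₗ[F] ((Fin n → F) × F) := LinearEquiv.ofFinrankEq _ _ hfr
    set B' : LinearMap.BilinForm F ((Fin n → F) × F) :=
      B.compl₁₂ (φ.symm : ((Fin n → F) × F) →ₗ[F] (Fin (n + 1) → F))
        (φ.symm : ((Fin n → F) × F) →ₗ[F] (Fin (n + 1) → F)) with hB'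
    have hs' : ∀ x y, B' x y = B' y x := by
      intro x y
      rw [hB', LinearMap.compl₁₂_apply, LinearMap.compl₁₂_apply]
      exact hs _ _
    have hB'n : ¬ R1 B' := by
      intro h
      apply hB
      have h2 := so2_R1_transport (φ : (Fin (n + 1) → F) →ₗ[F] ((Fin n → F) × F)) h
      have h3 : B'.compl₁₂ (φ : (Fin (n + 1) → F) →ₗ[F] ((Fin n → F) × F))
          (φ : (Fin (n + 1) → F) →ₗ[F] ((Fin n → F) × F)) = B := by
        refine LinearMap.ext fun x => LinearMap.ext fun y => ?_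
        rw [LinearMap.compl₁₂_apply, hB', LinearMap.compl₁₂_apply]
        simp
      rw [h3] at h2
      exact h2
    have h1 := so2_step hodd n (Module.finrank_fin_fun F) ih B' hs' hB'n
    exact h1.trans (Nat.mul_le_mul_left _ (so_ncard_orb_transport φ B))

/-- abstract form: the congruence orbit of a symmetric bilinear form of rank at least two on a
space of dimension `n` over a finite field of odd order `q` has at least
`(q^n - 1)(q^n - q) / (2 (q + 1))` elements. -/
theorem ncard_orbit_rank_two_ge (hodd : Odd (Fintype.card F)) {V : Type*} [AddCommGroup V]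
    [Module F V] [FiniteDimensional F V] (B : LinearMap.BilinForm F V) (hB : B.IsSymm)
    (hr : ¬ ∃ (c : F) (l : V →ₗ[F] F), ∀ x y, B x y = c * l x * l y) :
    (Fintype.card F ^ Module.finrank F V - 1) *
        (Fintype.card F ^ Module.finrank F V - Fintype.card F) ≤
      2 * (Fintype.card F + 1) *
        Set.ncard {B' : LinearMap.BilinForm F V | ∃ g : V ≃ₗ[F] V, B' = B.compl₁₂ g g} := by
  classical
  have hs : ∀ x y, B x y = B y x := fun x y => by simpa using hB.eq x y
  have hfr : finrank F V = finrank F (Fin (finrank F V) → F) := by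
    rw [Module.finrank_fin_fun]
  let φ : V ≃ₗ[F] (Fin (finrank F V) → F) := LinearEquiv.ofFinrankEq _ _ hfr
  set B' : LinearMap.BilinForm F (Fin (finrank F V) → F) :=
    B.compl₁₂ (φ.symm : (Fin (finrank F V) → F) →ₗ[F] V)
      (φ.symm : (Fin (finrank F V) → F) →ₗ[F] V) with hB'
  have hs' : ∀ x y, B' x y = B' y x := by
    intro x y
    rw [hB', LinearMap.compl₁₂_apply, LinearMap.compl₁₂_apply]
    exact hs _ _
  have hB'n : ¬ R1 B' := by
    intro h
    apply hr
    have h2 := so2_R1_transport (φ : V →ₗ[F] (Fin (finrank F V) → F)) h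
    have h3 : B'.compl₁₂ (φ : V →ₗ[F] (Fin (finrank F V) → F))
        (φ : V →ₗ[F] (Fin (finrank F V) → F)) = B := by
      refine LinearMap.ext fun x => LinearMap.ext fun y => ?_
      rw [LinearMap.compl₁₂_apply, hB', LinearMap.compl₁₂_apply]
      simp
    rw [h3] at h2
    exact h2
  have h1 := so2_fin_aux hodd (finrank F V) B' hs' hB'n
  exact h1.trans (Nat.mul_le_mul_left _ (so_ncard_orb_transport φ B))

/-- the abstract congruence orbit of `toBilin' M` injects into the matrix congruence orbit -/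
theorem so2_ncard_orb_le_range (n : ℕ) (M : Matrix (Fin n) (Fin n) F) :
    Set.ncard {B' : LinearMap.BilinForm F (Fin n → F) |
        ∃ g : (Fin n → F) ≃ₗ[F] (Fin n → F), B' = (Matrix.toBilin' M).compl₁₂ g g} ≤
      Set.ncard (Set.range fun P : GL (Fin n) F =>
        (P : Matrix (Fin n) (Fin n) F).transpose * M * (P : Matrix (Fin n) (Fin n) F)) := by
  classical
  refine Set.ncard_le_ncard_of_injOn (fun B' => LinearMap.BilinForm.toMatrix' B') ?_ ?_
    (Set.toFinite _)
  · rintro B' ⟨g, rfl⟩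
    let P : Matrix (Fin n) (Fin n) F := LinearMap.toMatrix' (g : (Fin n → F) →ₗ[F] (Fin n → F))
    let P' : Matrix (Fin n) (Fin n) F :=
      LinearMap.toMatrix' (g.symm : (Fin n → F) →ₗ[F] (Fin n → F))
    have hPP' : P * P' = 1 := by
      rw [← LinearMap.toMatrix'_comp]
      have : (g : (Fin n → F) →ₗ[F] (Fin n → F)) ∘ₗ (g.symm : (Fin n → F) →ₗ[F] (Fin n → F)) =
          LinearMap.id := by
        ext x; simp
      rw [this, LinearMap.toMatrix'_id]
    have hP'P : P' * P = 1 := by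
      rw [← LinearMap.toMatrix'_comp]
      have : (g.symm : (Fin n → F) →ₗ[F] (Fin n → F)) ∘ₗ (g : (Fin n → F) →ₗ[F] (Fin n → F)) =
          LinearMap.id := by
        ext x; simp
      rw [this, LinearMap.toMatrix'_id]
    refine ⟨⟨P, P', hPP', hP'P⟩, ?_⟩
    show P.transpose * M * P = _
    have hg : Matrix.toLin' P = (g : (Fin n → F) →ₗ[F] (Fin n → F)) := Matrix.toLin'_toMatrix' _
    have := Matrix.toBilin'_comp M P P
    rw [hg] at this
    show _ = LinearMap.BilinForm.toMatrix' ((Matrix.toBilin' M).comp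
      (g : (Fin n → F) →ₗ[F] (Fin n → F)) (g : (Fin n → F) →ₗ[F] (Fin n → F)))
    rw [this, LinearMap.BilinForm.toMatrix'_toBilin']
  · intro B₁ _ B₂ _ h
    exact LinearMap.BilinForm.toMatrix'.injective h

/-- matrix form: for a symmetric matrix `M` not of the shape `c • w wᵀ`, the congruence orbit
`{Pᵀ M P : P ∈ GL_n(F)}` has at least `(q^n - 1)(q^n - q) / (2 (q + 1))` elements (`q` odd). -/
theorem ncard_congr_orbit_rank_two_ge (hodd : Odd (Fintype.card F)) (n : ℕ)
    (M : Matrix (Fin n) (Fin n) F) (hM : M.IsSymm)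
    (hr : ¬ ∃ (c : F) (w : Fin n → F), M = c • Matrix.vecMulVec w w) :
    (Fintype.card F ^ n - 1) * (Fintype.card F ^ n - Fintype.card F) ≤
      2 * (Fintype.card F + 1) * Set.ncard (Set.range fun P : GL (Fin n) F =>
        (P : Matrix (Fin n) (Fin n) F).transpose * M * (P : Matrix (Fin n) (Fin n) F)) := by
  classical
  have hsym : (Matrix.toBilin' M).IsSymm := Matrix.isSymm_toBilin'_iff_isSymm.2 hM
  have hnr : ¬ ∃ (c : F) (l : (Fin n → F) →ₗ[F] F),
      ∀ x y, Matrix.toBilin' M x y = c * l x * l y := by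
    rintro ⟨c, l, hl⟩
    apply hr
    refine ⟨c, fun i => l (Pi.single i 1), ?_⟩
    ext i j
    have h1 := hl (Pi.single i 1) (Pi.single j 1)
    rw [Matrix.toBilin'_single] at h1
    rw [h1, Matrix.smul_apply, Matrix.vecMulVec_apply, smul_eq_mul, mul_assoc]
  have h1 := ncard_orbit_rank_two_ge hodd (Matrix.toBilin' M) hsym hnr
  rw [Module.finrank_fin_fun] at h1
  exact h1.trans (Nat.mul_le_mul_left _ (so2_ncard_orb_le_range n M))

end main2

end Cfsg.Agent.Lib.Helper4.SymOrbit
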