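import Cfsg.Agent.Lib.Helper2.WG.Defs2
import Cfsg.Agent.Lib.Helper4.SymOrbit2

set_option autoImplicit false

/-!
S2524, package PK-A1 (pure linear algebra): for a symmetric `n × n` matrix `M` over a finite field
of odd order `q` which is not of the shape `c • w wᵀ` (i.e. of rank at least two), the congruence
orbit `{Pᵀ M P : P ∈ GL_n(F)}` has at least `(q^n - 1)(q^n - q) / (2 (q + 1))` elements.
The proof (induction on `n`, splitting off a represented value) is in `Lib/Helper4/SymOrbit2.lean`.
-/

namespace Cfsg.Agent.Lib.Helper2.WG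

open Matrix Cfsg Cfsg.Agent.H9SpF Cfsg.Agent.Lib.Helper6.Siegel Cfsg.Agent.Lib.Helper1.SUMin
open scoped ComplexConjugate

universe u

variable {F : Type u} [Field F] [Fintype F]

section A
variable {n : ℕ}

/-- PK-A1 (pure linear algebra): congruence orbits of symmetric matrices of rank `≥ 2` -/
theorem orbit_rank_two (hodd : Odd (Fintype.card F)) (M : Matrix (Fin n) (Fin n) F) (hM : M.IsSymm)
    (hr : ¬ ∃ (c : F) (w : Fin n → F), M = c • vecMulVec w w) :
    (Fintype.card F ^ n - 1) * (Fintype.card F ^ n - Fintype.card F) ≤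
      2 * (Fintype.card F + 1) * Set.ncard (Set.range fun P : GL (Fin n) F =>
        (P : Matrix (Fin n) (Fin n) F)ᵀ * M * (P : Matrix (Fin n) (Fin n) F)) :=
  Cfsg.Agent.Lib.Helper4.SymOrbit.ncard_congr_orbit_rank_two_ge hodd n M hM hr

end A

end Cfsg.Agent.Lib.Helper2.WG
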