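import Mathlib
import Cfsg.Prelude.Def_Characters
import Cfsg.Prelude.Def_Blocks
import Cfsg.Agent.Lib.Helper8.Deflation
import Cfsg.Agent.Lib.Helper2.PiSection
import Cfsg.Agent.Lib.Helper2.CliffordDeg
import Cfsg.Agent.S0187
import Cfsg.Agent.S0887
import Cfsg.Agent.S4456

set_option autoImplicit false

/-! Groups with at most two irreducible character degrees `1` and `m`: basic facts and
solvability. -/

namespace Cfsg.Agent.Lib.Helper4.TD

open Cfsg Cfsg.Agent.Lib.Helper1 Cfsg.Agent.Lib.Helper4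

universe u

/-- Every irreducible character has degree `1` or `m`. -/
def H2 (G : Type u) [Group G] (m : ℕ) : Prop :=
  ∀ χ : G → ℂ, Cfsg.IsIrrCharacter G χ → χ 1 = 1 ∨ χ 1 = (m : ℂ)

theorem H2.of_surjective {G H : Type u} [Group G] [Group H] {m : ℕ} (h : H2 G m)
    (f : G →* H) (hf : Function.Surjective f) : H2 H m := by
  intro χ hχ
  have h1 := h _ (Cfsg.Agent.Lib.Helper2.PiSection.isIrrCharacter_comp_surjective hχ f hf)
  simpa using h1

theorem H2.quotient {G : Type u} [Group G] {m : ℕ} (h : H2 G m) (N : Subgroup G) [N.Normal] :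
    H2 (G ⧸ N) m :=
  h.of_surjective (QuotientGroup.mk' N) (QuotientGroup.mk'_surjective N)

theorem H2.of_equiv {G H : Type u} [Group G] [Group H] {m : ℕ} (h : H2 G m) (e : G ≃* H) :
    H2 H m :=
  h.of_surjective e.toMonoidHom e.surjective

/-- From the `charDegree` formulation. -/
theorem H2.of_charDegree {G : Type u} [Group G] [Finite G] {m : ℕ}
    (h : ∀ χ : Cfsg.IrrCharacter G, Cfsg.charDegree (χ : G → ℂ) = 1 ∨
      Cfsg.charDegree (χ : G → ℂ) = m) : H2 G m := by
  intro χ hχ
  obtain ⟨h1, -⟩ := Cfsg.Agent.Lib.Helper8.irr_apply_one_eq_charDegree hχ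
  rcases h ⟨χ, hχ⟩ with h2 | h2
  · left; rw [h1]; simp only at h2; rw [h2]; simp
  · right; rw [h1]; simp only at h2; rw [h2]

theorem comm_of_all_linear {G : Type u} [Group G] [Finite G]
    (h : ∀ χ : G → ℂ, Cfsg.IsIrrCharacter G χ → χ 1 = 1) : ∀ a b : G, a * b = b * a :=
  (Cfsg.Agent.S0187.result).2 fun χ => h χ χ.2

theorem exists_nonlinear {G : Type u} [Group G] [Finite G]
    (h : ¬ ∀ a b : G, a * b = b * a) : ∃ χ : G → ℂ, Cfsg.IsIrrCharacter G χ ∧ χ 1 ≠ 1 := by
  by_contra hcon
  push Not at hcon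
  exact h (comm_of_all_linear hcon)

/-- The degree of an irreducible character as a positive natural number dividing the order. -/
theorem irr_degree {G : Type u} [Group G] [Finite G] {χ : G → ℂ} (hχ : Cfsg.IsIrrCharacter G χ) :
    ∃ d : ℕ, χ 1 = d ∧ 0 < d ∧ d ∣ Nat.card G := by
  obtain ⟨h1, h2⟩ := Cfsg.Agent.Lib.Helper8.irr_apply_one_eq_charDegree hχ
  exact ⟨_, h1, h2, Cfsg.Agent.Lib.Helper8.charDegree_dvd_card hχ⟩

/-- A group all of whose irreducible characters have degree `1` or `m` is solvable. -/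
theorem solvable_of_H2 : ∀ n : ℕ, ∀ (G : Type u) [Group G] [Finite G], Nat.card G = n →
    ∀ m : ℕ, H2 G m → Group.IsSolvable G := by
  intro n
  induction n using Nat.strong_induction_on with
  | _ n ih =>
  intro G _ _ hcard m h2
  classical
  by_cases hcomm : ∀ a b : G, a * b = b * a
  · exact Group.isSolvable_of_comm hcomm
  obtain ⟨χ, hχ, hχ1⟩ := exists_nonlinear hcomm
  have hχm : χ 1 = (m : ℂ) := (h2 χ hχ).resolve_left hχ1
  obtain ⟨d, hd, hd0, hdvd⟩ := irr_degree hχ
  have hdm : d = m := by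
    have : (d : ℂ) = (m : ℂ) := by rw [← hd, hχm]
    exact_mod_cast this
  subst hdm
  have hm1 : d ≠ 1 := by
    rintro rfl
    apply hχ1
    rw [hχm]; simp
  set p := d.minFac with hp
  have hpp : p.Prime := Nat.minFac_prime hm1
  have hpd : p ∣ d := Nat.minFac_dvd d
  haveI : Fact p.Prime := ⟨hpp⟩
  -- Thompson
  obtain ⟨N, hNn, hNcop, k, hk⟩ := Cfsg.Agent.S4456.result (G := G) p hpp (by
    intro ψ hψ1
    obtain ⟨h1, -⟩ := Cfsg.Agent.Lib.Helper8.irr_apply_one_eq_charDegree ψ.2
    rcases h2 ψ ψ.2 with h | h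
    · exfalso
      apply hψ1
      rw [h1] at h
      exact_mod_cast h
    · rw [h1] at h
      have : Cfsg.charDegree (ψ : G → ℂ) = d := by exact_mod_cast h
      rw [this]
      exact hpd)
  haveI := hNn
  have hk0 : k ≠ 0 := by
    rintro rfl
    rw [pow_zero] at hk
    have hNtop : N = ⊤ := Subgroup.index_eq_one.1 hk
    have h1 : p ∣ Nat.card N := by
      rw [hNtop, Subgroup.card_top]
      exact hpd.trans hdvd
    exact (Nat.Prime.coprime_iff_not_dvd hpp).1 hNcop.symm h1
  have hlt : Nat.card N < n := by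
    rw [← hcard, ← Subgroup.card_mul_index N, hk]
    have h1 : 1 < p ^ k := Nat.one_lt_pow hk0 hpp.one_lt
    have h2 : 0 < Nat.card N := Nat.card_pos
    nlinarith
  -- degrees of N
  have hN2 : H2 N (ordCompl[p] d) := by
    intro θ hθ
    haveI : Fintype G := Fintype.ofFinite G
    haveI : Fintype N := Fintype.ofFinite N
    obtain ⟨ψ, hψ, hcon⟩ := Cfsg.Agent.Lib.Helper2.CliffordDeg.exists_irr_over N hθ
    obtain ⟨c, hc, hc0, -⟩ := irr_degree hψ
    obtain ⟨e, he, he0, hedvd⟩ := irr_degree hθ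
    obtain ⟨h3, h4⟩ := Cfsg.Agent.S0887.result N ψ hψ θ hθ hcon c e hc he
    rcases h2 ψ hψ with h | h
    · left
      have hc1 : c = 1 := by
        have : (c : ℂ) = 1 := by rw [← hc, h]
        exact_mod_cast this
      rw [hc1, Nat.dvd_one] at h3
      rw [he, h3]; simp
    · right
      have hcd : c = d := by
        have : (c : ℂ) = (d : ℂ) := by rw [← hc, h]
        exact_mod_cast this
      rw [hcd, hk] at h4
      obtain ⟨j, -, hj⟩ := (Nat.dvd_prime_pow hpp).1 h4
      rw [hcd] at h3
      have hde : d = e * p ^ j := by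
        rw [← hj]
        exact (Nat.mul_div_cancel' h3).symm
      have hecop : Nat.Coprime e p := Nat.Coprime.coprime_dvd_left hedvd hNcop
      have h5 : ordCompl[p] d = e := by
        have hd0' : d ≠ 0 := hd0.ne'
        have h6 : ordProj[p] d * ordCompl[p] d = d := Nat.ordProj_mul_ordCompl_eq_self d p
        have h7 : Nat.Coprime p (ordCompl[p] d) := Nat.coprime_ordCompl hpp hd0'
        apply Nat.dvd_antisymm
        · have : ordCompl[p] d ∣ e * p ^ j := by
            rw [← hde]
            exact Nat.ordCompl_dvd d p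
          exact (Nat.Coprime.pow_right j h7.symm).dvd_of_dvd_mul_right this
        · have : e ∣ ordProj[p] d * ordCompl[p] d := by
            rw [h6, hde]
            exact dvd_mul_right _ _
          exact (Nat.Coprime.pow_right _ hecop).dvd_of_dvd_mul_left this
      rw [he, h5]
  have hNs : Group.IsSolvable N := ih (Nat.card N) hlt N rfl _ hN2
  have hQs : Group.IsSolvable (G ⧸ N) := by
    haveI : Group.IsNilpotent (G ⧸ N) := by
      apply IsPGroup.isNilpotent (p := p)
      apply IsPGroup.of_card (n := k)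
      rw [← hk]
      exact (Subgroup.index_eq_card N).symm
    infer_instance
  apply Group.isSolvable_of_ker_le_range N.subtype (QuotientGroup.mk' N)
  rw [QuotientGroup.ker_mk', Subgroup.range_subtype]

end Cfsg.Agent.Lib.Helper4.TD
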