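import Mathlib
import Cfsg.Agent.Lib.Helper4.TD1
import Cfsg.Agent.Lib.Helper4.Gallagher
import Cfsg.Agent.Lib.Helper4.CharTools
import Cfsg.Agent.S0193
import Cfsg.Agent.S4996

set_option autoImplicit false

/-! Twisting irreducible characters by linear characters of an abelian quotient, and the
Frobenius-quotient criterion for an abelian normal subgroup (after Isaacs 12.4). -/

namespace Cfsg.Agent.Lib.Helper4.TD

open Cfsg Cfsg.Agent.Lib.Helper1 Cfsg.Agent.Lib.Helper4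

universe u

theorem eq_zero_of_degree_zero {G : Type u} [Group G] {ρ : G → ℂ} (hρ : Cfsg.IsCharacter G ρ)
    (h : ρ 1 = 0) : ρ = 0 := by
  obtain ⟨n, r, rfl⟩ := hρ
  rw [Representation.char_one, Module.finrank_fin_fun] at h
  have hn : n = 0 := by exact_mod_cast h
  subst hn
  funext g
  have : r g = 0 := Subsingleton.elim _ _
  show LinearMap.trace ℂ _ (r g) = 0
  rw [this, map_zero]

/-- A character having an irreducible constituent of its own degree is that constituent. -/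
theorem eq_of_constituent_of_degree_eq {G : Type u} [Group G] [Fintype G] {θ φ : G → ℂ}
    (hθ : Cfsg.IsCharacter G θ) (hφ : Cfsg.IsIrrCharacter G φ)
    (hc : Cfsg.classInner θ φ ≠ 0) (hd : θ 1 = φ 1) : θ = φ := by
  obtain ⟨m, hm⟩ := classInner_char_irr_nat hθ hφ
  have hm0 : 0 < m := by
    rcases Nat.eq_zero_or_pos m with h | h
    · exfalso; apply hc; rw [hm, h]; simp
    · exact h
  have hσ := isCharacter_sub_irr hθ hφ hm0 hm
  have h0 : (θ - φ) 1 = 0 := by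
    rw [Pi.sub_apply, hd, sub_self]
  have := eq_zero_of_degree_zero hσ h0
  exact sub_eq_zero.1 this

section Twist

variable {X : Type u} [Group X] [Finite X] (Y : Subgroup X) [hY : Y.Normal]

/-- Gallagher injectivity: twisting an irreducible character whose restriction to `Y` is
irreducible by distinct linear characters of `X ⧸ Y` gives distinct characters. -/
theorem hom_mul_injective {ψ : X → ℂ} (hψ : Cfsg.IsIrrCharacter X ψ)
    (hres : Cfsg.IsIrrCharacter Y (fun y : Y => ψ y)) (f f' : (X ⧸ Y) →* ℂˣ)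
    (h : ∀ x : X, ((f (x : X ⧸ Y) : ℂˣ) : ℂ) * ψ x = ((f' (x : X ⧸ Y) : ℂˣ) : ℂ) * ψ x) :
    f = f' := by
  by_contra hne
  have : ∃ a, f a ≠ f' a := by
    by_contra hcon
    push Not at hcon
    exact hne (MonoidHom.ext hcon)
  obtain ⟨a, ha⟩ := this
  obtain ⟨x₀, rfl⟩ := QuotientGroup.mk_surjective a
  have hS := (Cfsg.Agent.S4996.result Y ⟨ψ, hψ⟩).2 ⟨x₀, by
    intro n
    have h1 := h ((n : X) * x₀)
    have h2 : (((n : X) * x₀ : X) : X ⧸ Y) = (x₀ : X ⧸ Y) := by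
      rw [QuotientGroup.mk_mul, (QuotientGroup.eq_one_iff (n : X)).2 n.2, one_mul]
    rw [h2] at h1
    have h3 : ((f (x₀ : X ⧸ Y) : ℂˣ) : ℂ) ≠ ((f' (x₀ : X ⧸ Y) : ℂˣ) : ℂ) := by
      intro h4
      exact ha (Units.ext h4)
    have h4 : (((f (x₀ : X ⧸ Y) : ℂˣ) : ℂ) - ((f' (x₀ : X ⧸ Y) : ℂˣ) : ℂ)) * ψ ((n : X) * x₀) = 0 := by
      rw [sub_mul, h1, sub_self]
    rcases mul_eq_zero.1 h4 with h5 | h5
    · exact absurd (sub_eq_zero.1 h5) h3
    · exact h5⟩
  exact hS hres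

/-- At most one twist is fixed by an automorphism acting without fixed points on `X ⧸ Y`. -/
theorem fixed_unique (hab : ∀ a b : X, a * b * a⁻¹ * b⁻¹ ∈ Y) (σ : X ≃* X)
    (hσY : ∀ y, σ y ∈ Y ↔ y ∈ Y) (hfpf : ∀ x, σ x * x⁻¹ ∈ Y → x ∈ Y)
    {ψ : X → ℂ} (hψ : Cfsg.IsIrrCharacter X ψ)
    (hres : Cfsg.IsIrrCharacter Y (fun y : Y => ψ y)) (f f' : (X ⧸ Y) →* ℂˣ)
    (h1 : ∀ x : X, ((f ((σ x : X) : X ⧸ Y) : ℂˣ) : ℂ) * ψ (σ x)
      = ((f (x : X ⧸ Y) : ℂˣ) : ℂ) * ψ x)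
    (h2 : ∀ x : X, ((f' ((σ x : X) : X ⧸ Y) : ℂˣ) : ℂ) * ψ (σ x)
      = ((f' (x : X ⧸ Y) : ℂˣ) : ℂ) * ψ x) : f = f' := by
  classical
  let instQ : CommGroup (X ⧸ Y) :=
    { (inferInstance : Group (X ⧸ Y)) with
      mul_comm := by
        intro a b
        induction a using QuotientGroup.induction_on with
        | H x =>
        induction b using QuotientGroup.induction_on with
        | H y =>
        rw [← QuotientGroup.mk_mul, ← QuotientGroup.mk_mul, QuotientGroup.eq]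
        have := hab y⁻¹ x⁻¹
        simpa [mul_assoc] using this }
  by_contra hne
  have : ∃ a, f a ≠ f' a := by
    by_contra hcon
    push Not at hcon
    exact hne (MonoidHom.ext hcon)
  obtain ⟨a₀, ha₀⟩ := this
  -- the commutator map
  let F : X →* X ⧸ Y := ((QuotientGroup.mk' Y).comp σ.toMonoidHom) / (QuotientGroup.mk' Y)
  have hF : ∀ x, F x = ((σ x * x⁻¹ : X) : X ⧸ Y) := by
    intro x
    show ((σ x : X) : X ⧸ Y) / (x : X ⧸ Y) = _
    rw [div_eq_mul_inv, QuotientGroup.mk_mul, QuotientGroup.mk_inv]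
  have hker : Y ≤ F.ker := by
    intro y hy
    rw [MonoidHom.mem_ker, hF, QuotientGroup.eq_one_iff]
    exact Y.mul_mem ((hσY y).2 hy) (Y.inv_mem hy)
  let Fb : X ⧸ Y →* X ⧸ Y := QuotientGroup.lift Y F hker
  have hinj : Function.Injective Fb := by
    rw [injective_iff_map_eq_one]
    intro a ha
    obtain ⟨x, rfl⟩ := QuotientGroup.mk_surjective a
    have h3 : F x = 1 := ha
    rw [hF, QuotientGroup.eq_one_iff] at h3
    exact (QuotientGroup.eq_one_iff x).2 (hfpf x h3)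
  have hsurj : Function.Surjective Fb := Finite.surjective_of_injective hinj
  obtain ⟨b, hb⟩ := hsurj a₀
  obtain ⟨x₀, rfl⟩ := QuotientGroup.mk_surjective b
  have hb' : ((σ x₀ * x₀⁻¹ : X) : X ⧸ Y) = a₀ := by
    rw [← hF]; exact hb
  have hS := (Cfsg.Agent.S4996.result Y ⟨ψ, hψ⟩).2 ⟨x₀, by
    intro n
    by_contra hn0
    have e1 := h1 ((n : X) * x₀)
    have e2 := h2 ((n : X) * x₀)
    have q1 : (((n : X) * x₀ : X) : X ⧸ Y) = (x₀ : X ⧸ Y) := by
      rw [QuotientGroup.mk_mul, (QuotientGroup.eq_one_iff (n : X)).2 n.2, one_mul]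
    have q2 : ((σ ((n : X) * x₀) : X) : X ⧸ Y) = ((σ x₀ : X) : X ⧸ Y) := by
      rw [map_mul, QuotientGroup.mk_mul,
        (QuotientGroup.eq_one_iff (σ (n : X))).2 ((hσY _).2 n.2), one_mul]
    rw [q1, q2] at e1 e2
    set u := ψ (σ ((n : X) * x₀)) with hu
    set v := ψ ((n : X) * x₀) with hv
    -- f(σx₀) u = f(x₀) v and f'(σx₀) u = f'(x₀) v with v ≠ 0
    apply ha₀
    rw [← hb', QuotientGroup.mk_mul, QuotientGroup.mk_inv, map_mul, map_mul, map_inv, map_inv]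
    apply Units.ext
    simp only [Units.val_mul, Units.val_inv_eq_inv_val]
    have hfx : ((f (x₀ : X ⧸ Y) : ℂˣ) : ℂ) ≠ 0 := Units.ne_zero _
    have hfx' : ((f' (x₀ : X ⧸ Y) : ℂˣ) : ℂ) ≠ 0 := Units.ne_zero _
    have hfs : ((f ((σ x₀ : X) : X ⧸ Y) : ℂˣ) : ℂ) ≠ 0 := Units.ne_zero _
    have hfs' : ((f' ((σ x₀ : X) : X ⧸ Y) : ℂˣ) : ℂ) ≠ 0 := Units.ne_zero _
    have hu0 : u ≠ 0 := by
      intro h0
      rw [h0, mul_zero] at e1
      rcases mul_eq_zero.1 e1.symm with h | h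
      · exact hfx h
      · exact hn0 h
    field_simp
    have : ((f ((σ x₀ : X) : X ⧸ Y) : ℂˣ) : ℂ) * ((f' (x₀ : X ⧸ Y) : ℂˣ) : ℂ) * (u * v)
        = ((f' ((σ x₀ : X) : X ⧸ Y) : ℂˣ) : ℂ) * ((f (x₀ : X ⧸ Y) : ℂˣ) : ℂ) * (u * v) := by
      linear_combination (((f' (x₀ : X ⧸ Y) : ℂˣ) : ℂ) * v) * e1
        - (((f (x₀ : X ⧸ Y) : ℂˣ) : ℂ) * v) * e2
    have huv : u * v ≠ 0 := mul_ne_zero hu0 hn0
    have := mul_right_cancel₀ huv this
    linear_combination this⟩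
  exact hS hres

end Twist

end Cfsg.Agent.Lib.Helper4.TD
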