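import Mathlib
import Cfsg.Agent.Lib.Helper4.TD2
import Cfsg.Agent.S0148
import Cfsg.Agent.S0170

set_option autoImplicit false

/-! The Frobenius-quotient criterion for an abelian normal subgroup (after Isaacs 12.4). -/

namespace Cfsg.Agent.Lib.Helper4.TD

open Cfsg Cfsg.Agent.Lib.Helper1 Cfsg.Agent.Lib.Helper4

universe u

theorem card_subtype_ne' (α : Type*) [Finite α] (a : α) :
    Nat.card {x : α // x ≠ a} = Nat.card α - 1 := by
  classical
  haveI := Fintype.ofFinite α
  rw [Nat.card_eq_fintype_card, Nat.card_eq_fintype_card, Fintype.card_subtype_compl,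
    Fintype.card_subtype_eq]

section Main

variable {G : Type u} [Group G] [Finite G] (N K : Subgroup G) [hN : N.Normal] [hK : K.Normal]

/-- Let `K ≤ N` be normal subgroups of `G` with `N / K` abelian and nontrivial, of order coprime
to `m = |G : N|`, such that every element outside `N` acts on `N / K` without nontrivial fixed
points. If all irreducible characters of `G` have degree `1` or `m`, then `N` is abelian. -/
theorem abelian_of_frobenius_quotient (hKN : K ≤ N) (hne : K ≠ N)
    (hab : ∀ a ∈ N, ∀ b ∈ N, a * b * a⁻¹ * b⁻¹ ∈ K)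
    (m : ℕ) (hidx : N.index = m) (hcop : Nat.Coprime m (K.relIndex N))
    (hfpf : ∀ g : G, g ∉ N → ∀ n ∈ N, g * n * g⁻¹ * n⁻¹ ∈ K → n ∈ K)
    (h2 : H2 G m) : ∀ a ∈ N, ∀ b ∈ N, a * b = b * a := by
  classical
  haveI : Fintype G := Fintype.ofFinite G
  haveI : Fintype N := Fintype.ofFinite N
  set Y : Subgroup N := K.subgroupOf N with hY
  haveI hYn : Y.Normal := Subgroup.normal_subgroupOf
  haveI : Fintype Y := Fintype.ofFinite Y
  have hm0 : 0 < m := by
    rw [← hidx]
    exact Nat.pos_of_ne_zero Subgroup.index_ne_zero_of_finite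
  have hab' : ∀ a b : N, a * b * a⁻¹ * b⁻¹ ∈ Y := by
    intro a b
    rw [hY, Subgroup.mem_subgroupOf]
    exact hab a a.2 b b.2
  suffices hlin : ∀ ψ : N → ℂ, Cfsg.IsIrrCharacter N ψ → ψ 1 = 1 by
    have hc := comm_of_all_linear hlin
    intro a ha b hb
    exact congrArg Subtype.val (hc ⟨a, ha⟩ ⟨b, hb⟩)
  intro ψ hψ
  -- the degree of ψ divides m
  obtain ⟨e, he, he0, -⟩ := irr_degree hψ
  have hem : e ∣ m := by
    obtain ⟨χ, hχ, hcon⟩ := Cfsg.Agent.Lib.Helper2.CliffordDeg.exists_irr_over N hψ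
    obtain ⟨c, hc, -, -⟩ := irr_degree hχ
    have h3 := (Cfsg.Agent.S0887.result N χ hχ ψ hψ hcon c e hc he).1
    rcases h2 χ hχ with h | h
    · have hc1 : c = 1 := by
        have : (c : ℂ) = 1 := by rw [← hc, h]
        exact_mod_cast this
      rw [hc1] at h3
      exact h3.trans (one_dvd m)
    · have hcm : c = m := by
        have : (c : ℂ) = (m : ℂ) := by rw [← hc, h]
        exact_mod_cast this
      rw [hcm] at h3
      exact h3
  -- the restriction to Y is irreducible
  have hresc : Cfsg.IsCharacter Y (fun y : Y => ψ y) :=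
    Cfsg.Agent.S0148.isCharacter_restrict Y (isCharacter_of_irr hψ)
  have hres : Cfsg.IsIrrCharacter Y (fun y : Y => ψ y) := by
    have h1 : (fun y : Y => ψ y) 1 ≠ 0 := by
      show ψ ((1 : Y) : N) ≠ 0
      rw [Subgroup.coe_one, he]
      exact Nat.cast_ne_zero.2 he0.ne'
    obtain ⟨φ, hφ, k, hk0, hk⟩ := exists_constituent hresc h1
    have hcon : Cfsg.classInner (fun y : Y => ψ y) φ ≠ 0 := by
      rw [hk]; exact Nat.cast_ne_zero.2 hk0.ne'
    obtain ⟨f, hf, hf0, -⟩ := irr_degree hφ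
    obtain ⟨h3, h4⟩ := Cfsg.Agent.S0887.result Y ψ hψ φ hφ hcon e f he hf
    have h5 : e / f ∣ m := (Nat.div_dvd_of_dvd h3).trans hem
    have h6 : e / f = 1 := by
      have : e / f ∣ Nat.gcd m (K.relIndex N) := Nat.dvd_gcd h5 h4
      rw [hcop] at this
      exact Nat.dvd_one.1 this
    have h7 : e = f := (Nat.eq_of_dvd_of_div_eq_one h3 h6).symm
    have h8 := eq_of_constituent_of_degree_eq hresc hφ hcon (by
      show ψ ((1 : Y) : N) = φ 1
      rw [Subgroup.coe_one, he, hf, h7])
    rw [h8]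
    exact hφ
  -- the twists
  let tw : ((N ⧸ Y) →* ℂˣ) → N → ℂ := fun f n => ((f (n : N ⧸ Y) : ℂˣ) : ℂ) * ψ n
  have htw : ∀ f, Cfsg.IsIrrCharacter N (tw f) := fun f =>
    isIrrCharacter_hom_mul (f.comp (QuotientGroup.mk' Y)) hψ
  have htw1 : ∀ f, tw f 1 = (e : ℂ) := by
    intro f
    show ((f ((1 : N) : N ⧸ Y) : ℂˣ) : ℂ) * ψ 1 = e
    rw [QuotientGroup.mk_one, map_one, Units.val_one, one_mul, he]
  -- the bad sets
  let S : ((N ⧸ Y) →* ℂˣ) → Set G := fun f =>
    {g | g ∉ N ∧ ∀ n : N, tw f ⟨g * n * g⁻¹, hN.conj_mem n n.2 g⟩ = tw f n}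
  have hSmul : ∀ f g, g ∈ S f → ∀ n ∈ N, g * n ∈ S f := by
    intro f g hg n hn
    refine ⟨fun h => hg.1 ?_, ?_⟩
    · have := N.mul_mem h (N.inv_mem hn)
      simpa using this
    · intro x
      have h1 := hg.2 ⟨n * x * n⁻¹, hN.conj_mem x x.2 n⟩
      have h3 : tw f ⟨n * x * n⁻¹, hN.conj_mem x x.2 n⟩ = tw f x :=
        isClassFunction_irr (htw f) x ⟨n, hn⟩
      rw [← h3, ← h1]
      congr 1
      apply Subtype.ext
      show g * n * x * (g * n)⁻¹ = g * (n * x * n⁻¹) * g⁻¹
      group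
  have hSdisj : ∀ f f' g, g ∈ S f → g ∈ S f' → f = f' := by
    intro f f' g hg hg'
    refine fixed_unique Y hab' (MulAut.conjNormal g : N ≃* N) ?_ ?_ hψ hres f f' ?_ ?_
    · intro y
      rw [hY, Subgroup.mem_subgroupOf, Subgroup.mem_subgroupOf, MulAut.conjNormal_apply]
      constructor
      · intro h
        have := hK.conj_mem _ h g⁻¹
        simpa [mul_assoc] using this
      · intro h
        exact hK.conj_mem _ h g
    · intro x hx
      rw [hY, Subgroup.mem_subgroupOf] at hx ⊢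
      apply hfpf g hg.1 x x.2
      simpa [MulAut.conjNormal_apply] using hx
    · intro x
      have h1 := hg.2 x
      have h3 : (MulAut.conjNormal g : N ≃* N) x = ⟨g * x * g⁻¹, hN.conj_mem x x.2 g⟩ :=
        Subtype.ext (by rw [MulAut.conjNormal_apply])
      rw [h3]
      exact h1
    · intro x
      have h1 := hg'.2 x
      have h3 : (MulAut.conjNormal g : N ≃* N) x = ⟨g * x * g⁻¹, hN.conj_mem x x.2 g⟩ :=
        Subtype.ext (by rw [MulAut.conjNormal_apply])
      rw [h3]
      exact h1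
  -- some twist has inertia group N
  have hex : ∃ f, S f = ∅ := by
    by_contra hcon
    push Not at hcon
    have hne' : ∀ f, ∃ g, g ∈ S f := fun f => hcon f
    choose γ hγ using hne'
    -- injection of the dual into the nontrivial cosets of N
    let Φ : ((N ⧸ Y) →* ℂˣ) → {q : G ⧸ N // q ≠ 1} := fun f =>
      ⟨(γ f : G ⧸ N), fun h => (hγ f).1 ((QuotientGroup.eq_one_iff _).1 h)⟩
    have hΦ : Function.Injective Φ := by
      intro f f' hff
      have h1 : ((γ f : G) : G ⧸ N) = ((γ f' : G) : G ⧸ N) := congrArg Subtype.val hff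
      rw [QuotientGroup.eq] at h1
      have h3 := hSmul f (γ f) (hγ f) _ h1
      rw [mul_inv_cancel_left] at h3
      exact hSdisj f f' (γ f') h3 (hγ f')
    let instQ : CommGroup (N ⧸ Y) :=
      { (inferInstance : Group (N ⧸ Y)) with
        mul_comm := by
          intro a b
          induction a using QuotientGroup.induction_on with
          | H x =>
          induction b using QuotientGroup.induction_on with
          | H y =>
          rw [← QuotientGroup.mk_mul, ← QuotientGroup.mk_mul, QuotientGroup.eq]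
          have := hab' y⁻¹ x⁻¹
          simpa [mul_assoc] using this }
    have hne0 : NeZero (Monoid.exponent (N ⧸ Y)) := ⟨Monoid.exponent_ne_zero_of_finite⟩
    have hdual : Nat.card ((N ⧸ Y) →* ℂˣ) = K.relIndex N := by
      rw [CommGroup.card_monoidHom_of_hasEnoughRootsOfUnity (N ⧸ Y) ℂ]
      exact (Subgroup.index_eq_card Y).symm
    have hle1 : K.relIndex N ≤ m - 1 := by
      rw [← hdual, ← hidx, Subgroup.index_eq_card N, ← card_subtype_ne' (G ⧸ N) 1]
      exact Nat.card_le_card_of_injective Φ hΦ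
    -- injection of G ⧸ N into the nontrivial elements of N ⧸ Y
    obtain ⟨n₁, hn₁N, hn₁K⟩ : ∃ n₁ ∈ N, n₁ ∉ K := by
      by_contra hcon2
      push Not at hcon2
      exact hne (le_antisymm hKN hcon2)
    let Ψ : G ⧸ N → {a : N ⧸ Y // a ≠ 1} := fun q =>
      ⟨((⟨q.out * n₁ * q.out⁻¹, hN.conj_mem n₁ hn₁N _⟩ : N) : N ⧸ Y), by
        intro h
        rw [QuotientGroup.eq_one_iff, hY, Subgroup.mem_subgroupOf] at h
        apply hn₁K
        have := hK.conj_mem _ h q.out⁻¹
        simpa [mul_assoc] using this⟩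
    have hΨ : Function.Injective Ψ := by
      intro q q' hqq
      have h1 : ((⟨q.out * n₁ * q.out⁻¹, hN.conj_mem n₁ hn₁N _⟩ : N) : N ⧸ Y)
          = ((⟨q'.out * n₁ * q'.out⁻¹, hN.conj_mem n₁ hn₁N _⟩ : N) : N ⧸ Y) :=
        congrArg Subtype.val hqq
      rw [QuotientGroup.eq, hY, Subgroup.mem_subgroupOf] at h1
      have h3 : (q.out * n₁ * q.out⁻¹)⁻¹ * (q'.out * n₁ * q'.out⁻¹) ∈ K := h1
      set x := q.out⁻¹ * q'.out with hx
      have h4 : x * n₁ * x⁻¹ * n₁⁻¹ ∈ K := by
        have h5 := hK.conj_mem _ h3 q.out⁻¹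
        have h6 : q.out⁻¹ * ((q.out * n₁ * q.out⁻¹)⁻¹ * (q'.out * n₁ * q'.out⁻¹)) * q.out⁻¹⁻¹
            = n₁⁻¹ * (x * n₁ * x⁻¹) := by
          rw [hx]; group
        rw [h6] at h5
        have h7 := hK.conj_mem _ h5 n₁
        have h8 : n₁ * (n₁⁻¹ * (x * n₁ * x⁻¹)) * n₁⁻¹ = x * n₁ * x⁻¹ * n₁⁻¹ := by group
        rw [h8] at h7
        exact h7
      have hxN : x ∈ N := by
        by_contra hxN
        exact hn₁K (hfpf x hxN n₁ hn₁N h4)
      rw [← QuotientGroup.out_eq' q, ← QuotientGroup.out_eq' q', QuotientGroup.eq]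
      exact hxN
    have hle2 : m ≤ K.relIndex N - 1 := by
      have h1 : Nat.card (N ⧸ Y) = K.relIndex N := (Subgroup.index_eq_card Y).symm
      rw [← hidx, Subgroup.index_eq_card N, ← h1, ← card_subtype_ne' (N ⧸ Y) 1]
      exact Nat.card_le_card_of_injective Ψ hΨ
    omega
  obtain ⟨f, hf⟩ := hex
  -- induce
  have hind : Cfsg.IsCharacter G (Cfsg.indFun N (tw f)) :=
    Cfsg.Agent.S0148.result N (tw f) (isCharacter_of_irr (htw f))
  have hN0 : (Nat.card N : ℂ) ≠ 0 := Nat.cast_ne_zero.2 Nat.card_pos.ne'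
  have hnorm : Cfsg.classInner (Cfsg.indFun N (tw f)) (Cfsg.indFun N (tw f)) = 1 := by
    have h1 := Cfsg.Agent.S0193.result N (tw f) (htw f)
    have h3 : Nat.card {g : G // ∀ h : N, tw f ⟨g * h * g⁻¹, hN.conj_mem h h.2 g⟩ = tw f h}
        = Nat.card N := by
      apply Nat.card_congr
      refine Equiv.subtypeEquivRight ?_
      intro g
      constructor
      · intro h
        by_contra hgN
        have : g ∈ S f := ⟨hgN, h⟩
        rw [hf] at this
        exact this
      · intro hg x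
        exact isClassFunction_irr (htw f) x ⟨g, hg⟩
    rw [h3] at h1
    exact mul_left_cancel₀ hN0 (by rw [h1, mul_one])
  have hirr := isIrrCharacter_of_norm_one hind hnorm
  have hdeg : Cfsg.indFun N (tw f) 1 = (m : ℂ) * (e : ℂ) := by
    rw [Cfsg.Agent.S0170.indFun_one, htw1, ← hidx, ← Subgroup.card_mul_index N]
    push_cast
    field_simp
  rcases h2 _ hirr with h | h
  · rw [hdeg] at h
    have : m * e = 1 := by exact_mod_cast h
    have he1 : e = 1 := Nat.eq_one_of_mul_eq_one_left this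
    rw [he, he1]; simp
  · rw [hdeg] at h
    have : m * e = m := by exact_mod_cast h
    have he1 : e = 1 := by
      have := Nat.eq_of_mul_eq_mul_left hm0 (this.trans (mul_one m).symm)
      exact this
    rw [he, he1]; simp

end Main

end Cfsg.Agent.Lib.Helper4.TD
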