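import Mathlib

set_option autoImplicit false

/-! The structure of a solvable non-nilpotent group all of whose proper quotients are
nilpotent: a minimal normal subgroup with a nilpotent complement acting faithfully. -/

namespace Cfsg.Agent.Lib.Helper4.TD

universe u

section Structure

variable {X : Type u} [Group X] [Finite X]

theorem exists_minimal_normal [Nontrivial X] : ∃ V : Subgroup X, V.Normal ∧ V ≠ ⊥ ∧
    ∀ L : Subgroup X, L.Normal → L ≤ V → L ≠ ⊥ → L = V := by
  obtain ⟨V, hV⟩ := exists_minimal_of_wellFoundedLT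
    (fun L : Subgroup X => L.Normal ∧ L ≠ ⊥) ⟨⊤, inferInstance, top_ne_bot⟩
  refine ⟨V, hV.1.1, hV.1.2, ?_⟩
  intro L hL hLV hLb
  exact le_antisymm hLV (hV.2 ⟨hL, hLb⟩ hLV)

/-- A group embedding in the product of two nilpotent quotients is nilpotent. -/
theorem nilpotent_of_two_quotients (L₁ L₂ : Subgroup X) [L₁.Normal] [L₂.Normal]
    (h : L₁ ⊓ L₂ = ⊥) (h1 : Group.IsNilpotent (X ⧸ L₁)) (h2 : Group.IsNilpotent (X ⧸ L₂)) :
    Group.IsNilpotent X := by
  let f : X →* (X ⧸ L₁) × (X ⧸ L₂) := (QuotientGroup.mk' L₁).prod (QuotientGroup.mk' L₂)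
  have hf : Function.Injective f := by
    rw [injective_iff_map_eq_one]
    intro x hx
    have h3 : (x : X ⧸ L₁) = 1 := congrArg Prod.fst hx
    have h4 : (x : X ⧸ L₂) = 1 := congrArg Prod.snd hx
    rw [QuotientGroup.eq_one_iff] at h3 h4
    have : x ∈ L₁ ⊓ L₂ := ⟨h3, h4⟩
    rw [h] at this
    exact this
  apply Subgroup.isNilpotent_of_ker_le_center f
  rw [(MonoidHom.ker_eq_bot_iff f).2 hf]
  exact bot_le

/-- A minimal normal subgroup of a solvable group is abelian. -/
theorem abelian_of_minimal_normal (hsolv : Group.IsSolvable X) (V : Subgroup X) [hV : V.Normal]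
    (hVb : V ≠ ⊥) (hmin : ∀ L : Subgroup X, L.Normal → L ≤ V → L ≠ ⊥ → L = V) :
    ∀ a ∈ V, ∀ b ∈ V, a * b = b * a := by
  have hDn : (⁅V, V⁆ : Subgroup X).Normal := Subgroup.commutator_normal V V
  have hDV : ⁅V, V⁆ ≤ V := (Subgroup.commutator_le_inf V V).trans inf_le_left
  by_cases hD : ⁅V, V⁆ = ⊥
  · rw [Subgroup.commutator_eq_bot_iff_le_centralizer] at hD
    intro a ha b hb
    have := hD ha
    rw [Subgroup.mem_centralizer_iff] at this
    exact (this b hb).symm
  · exfalso
    have h1 := hmin _ hDn hDV hD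
    haveI : Nontrivial V := (Subgroup.nontrivial_iff_ne_bot V).2 hVb
    have h2 : commutator V < ⊤ := IsSolvable.commutator_lt_top_of_nontrivial V
    have h3 : (commutator V).map V.subtype = ⁅V, V⁆ := by
      rw [commutator_def, Subgroup.map_commutator, ← MonoidHom.range_eq_map, Subgroup.range_subtype]
    have h4 : (commutator V).map V.subtype = (⊤ : Subgroup V).map V.subtype := by
      rw [h3, h1, ← MonoidHom.range_eq_map, Subgroup.range_subtype]
    have h5 := Subgroup.map_injective V.subtype_injective h4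
    exact h2.ne h5

/-- A subgroup normalised by `M` and by `V`, where `M ⊔ V = ⊤` and `V` is normal, is normal. -/
theorem normal_of_sup_eq_top (M V L : Subgroup X) [V.Normal] (hMV : M ⊔ V = ⊤)
    (hM : ∀ a ∈ M, ∀ y ∈ L, a * y * a⁻¹ ∈ L) (hV : ∀ v ∈ V, ∀ y ∈ L, v * y * v⁻¹ ∈ L) :
    L.Normal := by
  constructor
  intro y hy x
  have hx : x ∈ (↑(M ⊔ V) : Set X) := by rw [hMV]; trivial
  rw [Subgroup.mul_normal] at hx
  obtain ⟨a, ha, v, hv, rfl⟩ := Set.mem_mul.1 hx
  have h1 := hM a ha _ (hV v hv y hy)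
  have h2 : a * v * y * (a * v)⁻¹ = a * (v * y * v⁻¹) * a⁻¹ := by group
  rw [h2]
  exact h1

/-- The structure of a solvable non-nilpotent group whose proper quotients are nilpotent. -/
theorem structure_min_nonnilpotent (hsolv : Group.IsSolvable X) (hnn : ¬ Group.IsNilpotent X)
    (hq : ∀ (L : Subgroup X) [L.Normal], L ≠ ⊥ → Group.IsNilpotent (X ⧸ L)) :
    ∃ V M : Subgroup X, V.Normal ∧ V ≠ ⊥ ∧ (∀ a ∈ V, ∀ b ∈ V, a * b = b * a) ∧
      (∀ L : Subgroup X, L.Normal → L ≤ V → L ≠ ⊥ → L = V) ∧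
      V ⊓ M = ⊥ ∧ M ⊔ V = ⊤ ∧ Group.IsNilpotent M ∧ M ≠ ⊥ ∧
      (∀ a ∈ M, (∀ v ∈ V, a * v = v * a) → a = 1) := by
  classical
  haveI : Nontrivial X := by
    by_contra h
    rw [not_nontrivial_iff_subsingleton] at h
    exact hnn inferInstance
  obtain ⟨V, hVn, hVb, hmin⟩ := exists_minimal_normal (X := X)
  haveI := hVn
  have hVab := abelian_of_minimal_normal hsolv V hVb hmin
  have hXV : Group.IsNilpotent (X ⧸ V) := hq V hVb
  have hex : ∃ (p : ℕ) (hp : Fact p.Prime) (R : Sylow p X), ¬ (R : Subgroup X).Normal := by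
    by_contra hcon
    push Not at hcon
    exact hnn (((isNilpotent_of_finite_tfae (G := X)).out 0 3).2 hcon)
  obtain ⟨p, hp, R, hR⟩ := hex
  haveI := hp
  -- R ⊔ V is normal
  have hsurj : Function.Surjective (QuotientGroup.mk' V) := QuotientGroup.mk'_surjective V
  have hall : ∀ (p : ℕ) (_hp : Fact p.Prime) (P : Sylow p (X ⧸ V)),
      (↑P : Subgroup (X ⧸ V)).Normal :=
    ((isNilpotent_of_finite_tfae (G := X ⧸ V)).out 0 3).1 hXV
  have hRbn : ((R.mapSurjective hsurj : Sylow p (X ⧸ V)) : Subgroup (X ⧸ V)).Normal :=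
    hall p hp _
  rw [Sylow.coe_mapSurjective] at hRbn
  haveI hW : ((R : Subgroup X) ⊔ V).Normal := by
    have h1 : (R : Subgroup X) ⊔ V = ((R : Subgroup X).map (QuotientGroup.mk' V)).comap
        (QuotientGroup.mk' V) := by
      rw [Subgroup.comap_map_eq, QuotientGroup.ker_mk']
    rw [h1]
    exact hRbn.comap _
  have hfr : Subgroup.normalizer ((R : Subgroup X) : Set X) ⊔ ((R : Subgroup X) ⊔ V) = ⊤ :=
    Sylow.normalizer_sup_eq_top' R (le_sup_left : (R : Subgroup X) ≤ (R : Subgroup X) ⊔ V)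
  set M : Subgroup X := Subgroup.normalizer ((R : Subgroup X) : Set X) with hM
  have hRM : (R : Subgroup X) ≤ M := Subgroup.le_normalizer
  have hMV : M ⊔ V = ⊤ := by
    rw [← sup_assoc, sup_of_le_left hRM] at hfr
    exact hfr
  have hMtop : M ≠ ⊤ := by
    intro h
    exact hR (Subgroup.normalizer_eq_top_iff.1 h)
  -- V ⊓ M = ⊥
  have hVM : V ⊓ M = ⊥ := by
    have hn : (V ⊓ M).Normal := by
      apply normal_of_sup_eq_top M V (V ⊓ M) hMV
      · intro a ha y hy
        exact ⟨hVn.conj_mem y hy.1 a, M.mul_mem (M.mul_mem ha hy.2) (M.inv_mem ha)⟩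
      · intro v hv y hy
        have : v * y * v⁻¹ = y := by
          rw [hVab v hv y hy.1, mul_inv_cancel_right]
        rw [this]
        exact hy
    by_contra hne
    have h1 := hmin _ hn inf_le_left hne
    have h2 : V ≤ M := by
      rw [← h1]; exact inf_le_right
    apply hMtop
    rw [← hMV, sup_of_le_left h2]
  -- the centraliser of V in M is trivial
  have hC : M ⊓ Subgroup.centralizer (V : Set X) = ⊥ := by
    set C := M ⊓ Subgroup.centralizer (V : Set X) with hC
    have hn : C.Normal := by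
      apply normal_of_sup_eq_top M V C hMV
      · intro a ha y hy
        refine Subgroup.mem_inf.2 ⟨M.mul_mem (M.mul_mem ha hy.1) (M.inv_mem ha), ?_⟩
        rw [Subgroup.mem_centralizer_iff]
        intro v hv
        have h1 : a⁻¹ * v * a ∈ V := by
          have := hVn.conj_mem v hv a⁻¹
          simpa using this
        have h2 := (Subgroup.mem_centralizer_iff.1 hy.2) _ h1
        have h3 : v * (a * y * a⁻¹) = a * ((a⁻¹ * v * a) * y) * a⁻¹ := by group
        have h4 : a * y * a⁻¹ * v = a * (y * (a⁻¹ * v * a)) * a⁻¹ := by group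
        rw [h3, h4, h2]
      · intro v hv y hy
        have h2 := (Subgroup.mem_centralizer_iff.1 hy.2) v hv
        have : v * y * v⁻¹ = y := by
          rw [h2, mul_inv_cancel_right]
        rw [this]
        exact hy
    by_contra hne
    haveI := hn
    have h1 : Group.IsNilpotent (X ⧸ C) := hq C hne
    have h2 : C ⊓ V = ⊥ := by
      apply le_bot_iff.1
      rw [← hVM]
      intro x hx
      exact ⟨hx.2, hx.1.1⟩
    exact hnn (nilpotent_of_two_quotients C V h2 h1 hXV)
  -- M is nilpotent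
  have hMnil : Group.IsNilpotent M := by
    let f : M →* X ⧸ V := (QuotientGroup.mk' V).comp M.subtype
    apply Subgroup.isNilpotent_of_ker_le_center f
    have : f.ker = ⊥ := by
      rw [MonoidHom.ker_eq_bot_iff, injective_iff_map_eq_one]
      intro a ha
      have h1 : ((a : X) : X ⧸ V) = 1 := ha
      rw [QuotientGroup.eq_one_iff] at h1
      have : (a : X) ∈ V ⊓ M := ⟨h1, a.2⟩
      rw [hVM] at this
      exact Subtype.ext this
    rw [this]
    exact bot_le
  -- M is nontrivial
  have hMb : M ≠ ⊥ := by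
    intro h
    rw [h, bot_sup_eq] at hMV
    apply hnn
    apply Subgroup.isNilpotent_of_ker_le_center (1 : X →* Unit)
    intro x _
    rw [Subgroup.mem_center_iff]
    intro y
    exact hVab y (by rw [hMV]; trivial) x (by rw [hMV]; trivial)
  refine ⟨V, M, hVn, hVb, hVab, hmin, hVM, hMV, hMnil, hMb, ?_⟩
  intro a ha hav
  have : a ∈ M ⊓ Subgroup.centralizer (V : Set X) := by
    refine Subgroup.mem_inf.2 ⟨ha, ?_⟩
    rw [Subgroup.mem_centralizer_iff]
    intro v hv
    exact (hav v hv).symm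
  rw [hC] at this
  exact this

end Structure

end Cfsg.Agent.Lib.Helper4.TD
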