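import Mathlib
import Cfsg.Agent.Lib.Helper4.TD3
import Cfsg.Agent.Lib.Helper4.TD4
import Cfsg.Agent.Lib.Helper4.CliffordInd
import Cfsg.Agent.S0146
import Cfsg.Agent.S0178

set_option autoImplicit false

/-! A minimal normal abelian subgroup with a nilpotent faithful complement in a group with at most
two character degrees: the complement is abelian of order `m` and acts without fixed points. -/

namespace Cfsg.Agent.Lib.Helper4.TD

open Cfsg Cfsg.Agent.Lib.Helper1 Cfsg.Agent.Lib.Helper4 Cfsg.Agent.S0193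

universe u

section Split

variable {X : Type u} [Group X] (V M : Subgroup X) [hVn : V.Normal]

theorem split_unique (hVM : V ⊓ M = ⊥) {v v' a a' : X} (hv : v ∈ V) (hv' : v' ∈ V) (ha : a ∈ M)
    (ha' : a' ∈ M) (h : v * a = v' * a') : v = v' ∧ a = a' := by
  have h1 : v'⁻¹ * v = a' * a⁻¹ := by
    have : v'⁻¹ * (v * a) * a⁻¹ = v'⁻¹ * (v' * a') * a⁻¹ := by rw [h]
    simpa [mul_assoc] using this
  have h2 : v'⁻¹ * v ∈ V ⊓ M := ⟨V.mul_mem (V.inv_mem hv') hv, by
    rw [h1]; exact M.mul_mem ha' (M.inv_mem ha)⟩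
  rw [hVM, Subgroup.mem_bot] at h2
  have h3 : v = v' := by
    have := congrArg (fun t => v' * t) h2
    simpa using this
  refine ⟨h3, ?_⟩
  subst h3
  exact mul_left_cancel h

theorem split_exists (hMV : M ⊔ V = ⊤) (x : X) : ∃ v ∈ V, ∃ a ∈ M, x = v * a := by
  have hx : x ∈ (↑(M ⊔ V) : Set X) := by rw [hMV]; trivial
  rw [Subgroup.mul_normal] at hx
  obtain ⟨a, ha, v, hv, rfl⟩ := Set.mem_mul.1 hx
  refine ⟨a * v * a⁻¹, hVn.conj_mem v hv a, a, ha, ?_⟩
  group

end Split

section Ext

variable {X : Type u} [Group X] [Finite X] (V M : Subgroup X) [hVn : V.Normal]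

/-- The canonical extension of an invariant linear character of a complemented abelian normal
subgroup to its inertia group. -/
theorem exists_canonical_extension (hVab : ∀ a ∈ V, ∀ b ∈ V, a * b = b * a)
    (hVM : V ⊓ M = ⊥) (hMV : M ⊔ V = ⊤) (lam : V →* ℂˣ) (T : Subgroup X)
    (hT : T = inertia V (fun v => ((lam v : ℂˣ) : ℂ))) :
    ∃ μ : T →* ℂˣ, ∀ (t : T) (ht : (t : X) ∈ V), μ t = lam ⟨t, ht⟩ := by
  classical
  have hdec := split_exists V M hMV
  choose r hr c hc hrc using hdec
  have hrV : ∀ v ∈ V, r v = v := by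
    intro v hv
    have := split_unique V M hVM (hr v) hv (hc v) M.one_mem (by rw [← hrc v, mul_one])
    exact this.1
  have hVT : V ≤ T := by
    rw [hT]
    apply le_inertia
    exact isClassFunction_irr (isIrrCharacter_of_hom lam)
  have hcT : ∀ t ∈ T, c t ∈ T := by
    intro t ht
    have h1 : c t = (r t)⁻¹ * t := by
      have h0 : c t = (r t)⁻¹ * (r t * c t) := by group
      rw [h0, ← hrc t]
    rw [h1]
    exact T.mul_mem (T.inv_mem (hVT (hr t))) ht
  have hinv : ∀ a ∈ T, ∀ (v : X) (hv : v ∈ V),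
      lam ⟨a * v * a⁻¹, hVn.conj_mem v hv a⟩ = lam ⟨v, hv⟩ := by
    intro a ha v hv
    rw [hT, mem_inertia] at ha
    have := congrFun ha ⟨v, hv⟩
    exact Units.ext this
  have hmul : ∀ t ∈ T, ∀ t' : X, r (t * t') = r t * (c t * r t' * (c t)⁻¹) := by
    intro t ht t'
    have h1 : t * t' = (r t * (c t * r t' * (c t)⁻¹)) * (c t * c t') := by
      have h0 : (r t * (c t * r t' * (c t)⁻¹)) * (c t * c t') = (r t * c t) * (r t' * c t') := by
        group
      rw [h0, ← hrc t, ← hrc t']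
    have := split_unique V M hVM (hr (t * t'))
      (V.mul_mem (hr t) (hVn.conj_mem _ (hr t') (c t))) (hc (t * t'))
      (M.mul_mem (hc t) (hc t')) (by rw [← hrc (t * t'), h1])
    exact this.1
  refine ⟨MonoidHom.mk' (fun t : T => lam ⟨r t, hr t⟩) ?_, ?_⟩
  · intro t t'
    have h1 := hmul t t.2 t'
    have h2 : (⟨r ((t : X) * (t' : X)), hr _⟩ : V)
        = ⟨r t, hr t⟩ * ⟨c t * r t' * (c t)⁻¹, hVn.conj_mem _ (hr t') (c t)⟩ := by
      apply Subtype.ext
      exact h1
    show lam ⟨r ((t : X) * (t' : X)), hr _⟩ = _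
    rw [h2, map_mul, hinv (c t) (hcT t t.2) (r t') (hr t')]
  · intro t ht
    show lam ⟨r t, hr t⟩ = lam ⟨t, ht⟩
    congr 1
    apply Subtype.ext
    exact hrV t ht

end Ext

section Compl

variable {X : Type u} [Group X] [Finite X] (V M : Subgroup X) [hVn : V.Normal]

/-- A complement of a normal subgroup is isomorphic to the quotient. -/
noncomputable def complEquiv (hVM : V ⊓ M = ⊥) (hMV : M ⊔ V = ⊤) : M ≃* X ⧸ V :=
  MulEquiv.ofBijective ((QuotientGroup.mk' V).comp M.subtype) (by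
    constructor
    · rw [injective_iff_map_eq_one]
      intro a ha
      have h1 : ((a : X) : X ⧸ V) = 1 := ha
      rw [QuotientGroup.eq_one_iff] at h1
      have : (a : X) ∈ V ⊓ M := ⟨h1, a.2⟩
      rw [hVM] at this
      exact Subtype.ext this
    · intro q
      obtain ⟨x, rfl⟩ := QuotientGroup.mk_surjective q
      obtain ⟨v, hv, a, ha, rfl⟩ := split_exists V M hMV x
      refine ⟨⟨a, ha⟩, ?_⟩
      show ((a : X) : X ⧸ V) = ((v * a : X) : X ⧸ V)
      rw [QuotientGroup.mk_mul, (QuotientGroup.eq_one_iff v).2 hv, one_mul])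

theorem complEquiv_apply (hVM : V ⊓ M = ⊥) (hMV : M ⊔ V = ⊤) (a : M) :
    complEquiv V M hVM hMV a = ((a : X) : X ⧸ V) := rfl

/-- The index of a subgroup of the complement, computed in the whole group. -/
theorem index_of_compl (hVM : V ⊓ M = ⊥) (hMV : M ⊔ V = ⊤) (B : Subgroup M) :
    B.index = (B.map M.subtype ⊔ V).index := by
  set e := complEquiv V M hVM hMV with he
  have h1 : B.index = (B.map e.toMonoidHom).index := by
    have h2 : B = (B.map e.toMonoidHom).comap e.toMonoidHom :=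
      (Subgroup.comap_map_eq_self_of_injective e.injective B).symm
    conv_lhs => rw [h2]
    exact Subgroup.index_comap_of_surjective _ e.surjective
  have h3 : B.map e.toMonoidHom = (B.map M.subtype).map (QuotientGroup.mk' V) := by
    rw [Subgroup.map_map]
    rfl
  rw [h1, h3, ← Subgroup.index_comap_of_surjective _ (QuotientGroup.mk'_surjective V),
    Subgroup.comap_map_eq, QuotientGroup.ker_mk']

theorem card_compl (hVM : V ⊓ M = ⊥) (hMV : M ⊔ V = ⊤) : Nat.card M = V.index := by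
  rw [Subgroup.index_eq_card]
  exact Nat.card_congr (complEquiv V M hVM hMV).toEquiv

end Compl

end Cfsg.Agent.Lib.Helper4.TD

namespace Cfsg.Agent.Lib.Helper4.TD

open Cfsg Cfsg.Agent.Lib.Helper1 Cfsg.Agent.Lib.Helper4 Cfsg.Agent.S0193

universe u

section Main

variable {X : Type u} [Group X] [Finite X] (V M : Subgroup X) [hVn : V.Normal]

/-- The kernel-core of a nontrivial linear character of a minimal normal subgroup is trivial. -/
theorem core_trivial (hVab : ∀ a ∈ V, ∀ b ∈ V, a * b = b * a)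
    (hmin : ∀ L : Subgroup X, L.Normal → L ≤ V → L ≠ ⊥ → L = V) (hMV : M ⊔ V = ⊤)
    (lam : V →* ℂˣ) (hlam : ∃ v : V, lam v ≠ 1) (w : X) (hw : w ∈ V)
    (h : ∀ a ∈ M, lam ⟨a * w * a⁻¹, hVn.conj_mem w hw a⟩ = 1) : w = 1 := by
  let D : Subgroup X :=
    { carrier := {w | w ∈ V ∧ ∀ a ∈ M, ∀ h : a * w * a⁻¹ ∈ V, lam ⟨a * w * a⁻¹, h⟩ = 1}
      one_mem' := by
        refine ⟨V.one_mem, ?_⟩
        intro a _ h
        have : (⟨a * 1 * a⁻¹, h⟩ : V) = 1 := Subtype.ext (by simp)
        rw [this, map_one]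
      mul_mem' := by
        rintro x y ⟨hx, hx'⟩ ⟨hy, hy'⟩
        refine ⟨V.mul_mem hx hy, ?_⟩
        intro a ha h
        have h1 : (⟨a * (x * y) * a⁻¹, h⟩ : V)
            = ⟨a * x * a⁻¹, hVn.conj_mem x hx a⟩ * ⟨a * y * a⁻¹, hVn.conj_mem y hy a⟩ := by
          apply Subtype.ext
          show a * (x * y) * a⁻¹ = a * x * a⁻¹ * (a * y * a⁻¹)
          group
        rw [h1, map_mul, hx' a ha, hy' a ha, one_mul]
      inv_mem' := by
        rintro x ⟨hx, hx'⟩
        refine ⟨V.inv_mem hx, ?_⟩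
        intro a ha h
        have h1 : (⟨a * x⁻¹ * a⁻¹, h⟩ : V) = (⟨a * x * a⁻¹, hVn.conj_mem x hx a⟩ : V)⁻¹ := by
          apply Subtype.ext
          show a * x⁻¹ * a⁻¹ = (a * x * a⁻¹)⁻¹
          group
        rw [h1, map_inv, hx' a ha, inv_one] }
  have hDV : D ≤ V := fun x hx => hx.1
  have hDn : D.Normal := by
    apply normal_of_sup_eq_top M V D hMV
    · rintro b hb y ⟨hy, hy'⟩
      refine ⟨hVn.conj_mem y hy b, ?_⟩
      intro a ha h
      have h1 : (⟨a * (b * y * b⁻¹) * a⁻¹, h⟩ : V)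
          = ⟨(a * b) * y * (a * b)⁻¹, hVn.conj_mem y hy (a * b)⟩ := by
        apply Subtype.ext
        show a * (b * y * b⁻¹) * a⁻¹ = (a * b) * y * (a * b)⁻¹
        group
      rw [h1]
      exact hy' (a * b) (M.mul_mem ha hb) _
    · rintro v hv y ⟨hy, hy'⟩
      have : v * y * v⁻¹ = y := by
        rw [hVab v hv y hy, mul_inv_cancel_right]
      rw [this]
      exact ⟨hy, hy'⟩
  have hDne : D ≠ V := by
    intro hDV'
    obtain ⟨v, hv⟩ := hlam
    have h1 : (v : X) ∈ D := by rw [hDV']; exact v.2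
    have h2 := h1.2 1 M.one_mem (by simpa using v.2)
    apply hv
    rw [← h2]
    congr 1
    apply Subtype.ext
    simp
  have hDb : D = ⊥ := by
    by_contra hne
    exact hDne (hmin D hDn hDV hne)
  have : w ∈ D := ⟨hw, fun a ha _ => h a ha⟩
  rw [hDb] at this
  exact this

/-- Elements of the complement stabilising `lam` and central in the complement are trivial. -/
theorem central_stab_trivial (hVab : ∀ a ∈ V, ∀ b ∈ V, a * b = b * a)
    (hmin : ∀ L : Subgroup X, L.Normal → L ≤ V → L ≠ ⊥ → L = V) (hMV : M ⊔ V = ⊤)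
    (hfaith : ∀ a ∈ M, (∀ v ∈ V, a * v = v * a) → a = 1)
    (lam : V →* ℂˣ) (hlam : ∃ v : V, lam v ≠ 1) (z : X) (hzM : z ∈ M)
    (hzT : ∀ (v : X) (hv : v ∈ V), lam ⟨z * v * z⁻¹, hVn.conj_mem v hv z⟩ = lam ⟨v, hv⟩)
    (hcomm : ∀ a ∈ M, a * z = z * a) : z = 1 := by
  apply hfaith z hzM
  intro v hv
  have hw : z * v * z⁻¹ * v⁻¹ ∈ V := V.mul_mem (hVn.conj_mem v hv z) (V.inv_mem hv)
  have h1 : z * v * z⁻¹ * v⁻¹ = 1 := by
    apply core_trivial V M hVab hmin hMV lam hlam _ hw
    intro a ha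
    have hu : a * v * a⁻¹ ∈ V := hVn.conj_mem v hv a
    have h2 : (⟨a * (z * v * z⁻¹ * v⁻¹) * a⁻¹, hVn.conj_mem _ hw a⟩ : V)
        = ⟨z * (a * v * a⁻¹) * z⁻¹, hVn.conj_mem _ hu z⟩ * (⟨a * v * a⁻¹, hu⟩ : V)⁻¹ := by
      apply Subtype.ext
      show a * (z * v * z⁻¹ * v⁻¹) * a⁻¹ = z * (a * v * a⁻¹) * z⁻¹ * (a * v * a⁻¹)⁻¹
      have h3 := hcomm a ha
      have h4 : a * (z * v * z⁻¹ * v⁻¹) * a⁻¹ = (a * z) * v * (z⁻¹ * (v⁻¹ * a⁻¹)) := by group
      have h5 : z * (a * v * a⁻¹) * z⁻¹ * (a * v * a⁻¹)⁻¹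
          = (z * a) * v * (z * a)⁻¹ * (a * v⁻¹ * a⁻¹) := by group
      have h6 : (z * a) * v * (z * a)⁻¹ * (a * v⁻¹ * a⁻¹)
          = (z * a) * v * (a⁻¹ * z⁻¹ * a) * (v⁻¹ * a⁻¹) := by group
      have h7 : a⁻¹ * z⁻¹ * a = z⁻¹ := by
        have : a⁻¹ * z⁻¹ * a = (a⁻¹ * (z * a))⁻¹ * (a⁻¹ * a) := by group
        rw [this, ← h3]
        group
      rw [h4, h5, h6, h7, h3]
      group
    rw [h2, map_mul, map_inv, hzT _ hu, mul_inv_cancel]
  have : z * v * z⁻¹ * v⁻¹ * (v * z) = v * z := by rw [h1, one_mul]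
  rw [← this]
  group

/-- The Frobenius structure forced by two character degrees. -/
theorem frobenius_of_split (hVb : V ≠ ⊥) (hVab : ∀ a ∈ V, ∀ b ∈ V, a * b = b * a)
    (hmin : ∀ L : Subgroup X, L.Normal → L ≤ V → L ≠ ⊥ → L = V)
    (hVM : V ⊓ M = ⊥) (hMV : M ⊔ V = ⊤) (hMnil : Group.IsNilpotent M) (hMb : M ≠ ⊥)
    (hfaith : ∀ a ∈ M, (∀ v ∈ V, a * v = v * a) → a = 1) (m : ℕ) (h2 : H2 X m) :
    V.index = m ∧ Nat.Coprime m (Nat.card V) ∧
      ∀ x : X, x ∉ V → ∀ v ∈ V, x * v = v * x → v = 1 := by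
  classical
  haveI : Fintype X := Fintype.ofFinite X
  haveI : Fintype V := Fintype.ofFinite V
  -- a nontrivial linear character of V
  let instV : CommGroup V :=
    { (inferInstance : Group V) with
      mul_comm := fun a b => Subtype.ext (hVab a a.2 b b.2) }
  obtain ⟨v₀, hv₀1⟩ := (Subgroup.ne_bot_iff_exists_ne_one).1 hVb
  have hne : NeZero (Monoid.exponent V) := ⟨Monoid.exponent_ne_zero_of_finite⟩
  obtain ⟨lam, hlam0⟩ := CommGroup.exists_apply_ne_one_of_hasEnoughRootsOfUnity V ℂ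
    (a := v₀) hv₀1
  have hlam : ∃ v : V, lam v ≠ 1 := ⟨v₀, hlam0⟩
  set lc : V → ℂ := fun v => ((lam v : ℂˣ) : ℂ) with hlc
  have hlirr : Cfsg.IsIrrCharacter V lc := isIrrCharacter_of_hom lam
  set T : Subgroup X := inertia V lc with hT
  haveI : Fintype T := Fintype.ofFinite T
  have hVT : V ≤ T := le_inertia V (isClassFunction_irr hlirr)
  obtain ⟨μ, hμ⟩ := exists_canonical_extension V M hVab hVM hMV lam T hT
  have hTinv : ∀ a ∈ T, ∀ (v : X) (hv : v ∈ V),
      lam ⟨a * v * a⁻¹, hVn.conj_mem v hv a⟩ = lam ⟨v, hv⟩ := by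
    intro a ha v hv
    rw [hT, mem_inertia] at ha
    have := congrFun ha ⟨v, hv⟩
    exact Units.ext this
  have hcentral : ∀ z ∈ M, z ∈ T → (∀ a ∈ M, a * z = z * a) → z = 1 := by
    intro z hzM hzT hcomm
    exact central_stab_trivial V M hVab hmin hMV hfaith lam hlam z hzM (hTinv z hzT) hcomm
  -- T = V (T ⊓ M)
  have hTdec : ∀ x ∈ T, ∃ v ∈ V, ∃ a ∈ T ⊓ M, x = v * a := by
    intro x hx
    obtain ⟨v, hv, a, ha, rfl⟩ := split_exists V M hMV x
    refine ⟨v, hv, a, ⟨?_, ha⟩, rfl⟩
    have := T.mul_mem (T.inv_mem (hVT hv)) hx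
    simpa using this
  -- induced characters
  set V' : Subgroup T := V.subgroupOf T with hV'
  haveI : Fintype V' := Fintype.ofFinite V'
  let lam' : V' →* ℂˣ := lam.comp (Subgroup.subgroupOfEquivOfLe hVT).toMonoidHom
  have hl'irr : Cfsg.IsIrrCharacter V' (fun x => ((lam' x : ℂˣ) : ℂ)) := isIrrCharacter_of_hom lam'
  have hX0 : (Nat.card X : ℂ) ≠ 0 := Nat.cast_ne_zero.2 Nat.card_pos.ne'
  have hT0 : (Nat.card T : ℂ) ≠ 0 := Nat.cast_ne_zero.2 Nat.card_pos.ne'
  have hind : ∀ β : T → ℂ, Cfsg.IsIrrCharacter T β → (∀ t : T, (t : X) ∈ V → β t = β 1) →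
      (T.index : ℂ) * β 1 = 1 ∨ (T.index : ℂ) * β 1 = m := by
    intro β hβ hβV
    set ψ : T → ℂ := fun t => ((μ t : ℂˣ) : ℂ) * β t with hψ
    have hψirr : Cfsg.IsIrrCharacter T ψ := isIrrCharacter_hom_mul μ hβ
    have hβ1 : β 1 ≠ 0 := irr_apply_one_ne_zero hβ
    have hcon : Cfsg.classInner (Cfsg.indFun (V.subgroupOf T)
        (fun x => lc ⟨((x : T) : X), Subgroup.mem_subgroupOf.mp x.2⟩)) ψ ≠ 0 := by
      rw [Cfsg.Agent.S0146.result _ _ ψ (isClassFunction_irr hψirr)]
      have h1 : (fun h : V.subgroupOf T => ψ h)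
          = β 1 • (fun x : V.subgroupOf T => lc ⟨((x : T) : X), Subgroup.mem_subgroupOf.mp x.2⟩) := by
        funext h
        have hh : ((h : T) : X) ∈ V := Subgroup.mem_subgroupOf.mp h.2
        show ((μ (h : T) : ℂˣ) : ℂ) * β h = β 1 * ((lam ⟨((h : T) : X), hh⟩ : ℂˣ) : ℂ)
        rw [hμ (h : T) hh, hβV (h : T) hh, mul_comm]
      rw [h1, classInner_smul_right]
      have h3 : Cfsg.classInner
          (fun x : V.subgroupOf T => lc ⟨((x : T) : X), Subgroup.mem_subgroupOf.mp x.2⟩)
          (fun x : V.subgroupOf T => lc ⟨((x : T) : X), Subgroup.mem_subgroupOf.mp x.2⟩) = 1 :=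
        classInner_irr_self hl'irr
      rw [h3, mul_one]
      exact (map_ne_zero _).2 hβ1
    have hirr := (clifford_induction V lc hlirr T hT hVT).1 ψ hψirr hcon
    have hdeg : Cfsg.indFun T ψ 1 = (T.index : ℂ) * β 1 := by
      rw [Cfsg.Agent.S0170.indFun_one, ← Subgroup.card_mul_index T]
      have : ψ 1 = β 1 := by
        show ((μ 1 : ℂˣ) : ℂ) * β 1 = β 1
        rw [map_one, Units.val_one, one_mul]
      rw [this]
      push_cast
      field_simp
    rw [← hdeg]
    exact h2 _ hirr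
  -- the trivial character
  have htriv : Cfsg.IsIrrCharacter T (fun _ => (1 : ℂ)) := by
    have := isIrrCharacter_of_hom (1 : T →* ℂˣ)
    simpa using this
  have hidx : T.index = 1 ∨ T.index = m := by
    rcases hind _ htriv (fun _ _ => rfl) with h | h
    · left
      rw [mul_one] at h
      exact_mod_cast h
    · right
      rw [mul_one] at h
      exact_mod_cast h
  -- T is not everything
  have hTtop : T ≠ ⊤ := by
    intro htop
    have hMT : ∀ a ∈ M, a ∈ T := fun a _ => by rw [htop]; trivial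
    have hinj : ∀ (w : X) (hw : w ∈ V), lam ⟨w, hw⟩ = 1 → w = 1 := by
      intro w hw h1
      apply core_trivial V M hVab hmin hMV lam hlam w hw
      intro a ha
      rw [hTinv a (hMT a ha) w hw, h1]
    apply hMb
    rw [Subgroup.eq_bot_iff_forall]
    intro a ha
    apply hfaith a ha
    intro v hv
    have h1 := hTinv a (hMT a ha) v hv
    have hw : a * v * a⁻¹ * v⁻¹ ∈ V := V.mul_mem (hVn.conj_mem v hv a) (V.inv_mem hv)
    have h3 : lam ⟨a * v * a⁻¹ * v⁻¹, hw⟩ = 1 := by
      have : (⟨a * v * a⁻¹ * v⁻¹, hw⟩ : V)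
          = ⟨a * v * a⁻¹, hVn.conj_mem v hv a⟩ * (⟨v, hv⟩ : V)⁻¹ := Subtype.ext rfl
      rw [this, map_mul, map_inv, h1, mul_inv_cancel]
    have h4 := hinj _ hw h3
    have : a * v * a⁻¹ * v⁻¹ * (v * a) = v * a := by rw [h4, one_mul]
    rw [← this]
    group
  have hTm : T.index = m := by
    rcases hidx with h | h
    · exact absurd (Subgroup.index_eq_one.1 h) hTtop
    · exact h
  have hm0 : m ≠ 0 := by
    rw [← hTm]
    exact Subgroup.index_ne_zero_of_finite
  have hlin : ∀ β : T → ℂ, Cfsg.IsIrrCharacter T β → (∀ t : T, (t : X) ∈ V → β t = β 1) →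
      β 1 = 1 := by
    intro β hβ hβV
    obtain ⟨d, hd, hd0, -⟩ := irr_degree hβ
    rcases hind β hβ hβV with h | h
    · rw [hTm, hd] at h
      have : m * d = 1 := by exact_mod_cast h
      rw [hd, Nat.eq_one_of_mul_eq_one_left this]
      simp
    · rw [hTm, hd] at h
      have : m * d = m := by exact_mod_cast h
      have hd1 : d = 1 := by
        have := Nat.eq_of_mul_eq_mul_left (Nat.pos_of_ne_zero hm0) (this.trans (mul_one m).symm)
        exact this
      rw [hd, hd1]
      simp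
  -- T ⊓ M is abelian
  haveI hV'n : V'.Normal := Subgroup.normal_subgroupOf
  have hSab : ∀ s ∈ T ⊓ M, ∀ s' ∈ T ⊓ M, s * s' = s' * s := by
    have hcomm : ∀ a b : T ⧸ V', a * b = b * a := by
      apply comm_of_all_linear
      intro βb hβb
      have := hlin _ (Cfsg.Agent.Lib.Helper8.isIrrCharacter_inflation V' hβb) (by
        intro t ht
        show βb ((t : T) : T ⧸ V') = βb ((1 : T) : T ⧸ V')
        rw [(QuotientGroup.eq_one_iff t).2 (Subgroup.mem_subgroupOf.2 ht), QuotientGroup.mk_one])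
      exact this
    intro s hs s' hs'
    have h1 := hcomm ((⟨s, hs.1⟩ : T) : T ⧸ V') ((⟨s', hs'.1⟩ : T) : T ⧸ V')
    rw [← QuotientGroup.mk_mul, ← QuotientGroup.mk_mul, QuotientGroup.eq, hV',
      Subgroup.mem_subgroupOf] at h1
    have h3 : (s * s')⁻¹ * (s' * s) ∈ V := h1
    have h4 : (s * s')⁻¹ * (s' * s) ∈ V ⊓ M :=
      ⟨h3, M.mul_mem (M.inv_mem (M.mul_mem hs.2 hs'.2)) (M.mul_mem hs'.2 hs.2)⟩
    rw [hVM, Subgroup.mem_bot] at h4
    have := congrArg (fun t => s * s' * t) h4
    simpa [mul_assoc] using this.symm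
  -- M is abelian
  haveI : Nontrivial M := (Subgroup.nontrivial_iff_ne_bot M).2 hMb
  have hMab : ∀ a b : M, a * b = b * a := by
    by_contra hna
    have hM2 : H2 M m := (h2.quotient V).of_equiv (complEquiv V M hVM hMV).symm
    obtain ⟨χ, hχ, hχ1⟩ := exists_nonlinear hna
    have hχm : χ 1 = (m : ℂ) := (hM2 χ hχ).resolve_left hχ1
    obtain ⟨n, ρ, hirr, rfl⟩ := hχ
    haveI := hirr
    rw [Representation.char_one, Module.finrank_fin_fun] at hχm
    have hnm : n = m := by exact_mod_cast hχm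
    set S' : Subgroup M := (T ⊓ M).subgroupOf M with hS'
    set A : Subgroup M := S' ⊔ Subgroup.center M with hA
    have hS'ab : ∀ a ∈ S', ∀ b ∈ S', a * b = b * a := by
      intro a ha b hb
      exact Subtype.ext (hSab a (Subgroup.mem_subgroupOf.1 ha) b (Subgroup.mem_subgroupOf.1 hb))
    have hAab : ∀ a ∈ A, ∀ b ∈ A, a * b = b * a := by
      have key : ∀ a ∈ S', A ≤ Subgroup.centralizer ({a} : Set M) := by
        intro a ha
        rw [hA]
        apply sup_le
        · intro b hb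
          rw [Subgroup.mem_centralizer_iff]
          intro c hc
          rw [Set.mem_singleton_iff] at hc
          subst hc
          exact hS'ab c ha b hb
        · exact Subgroup.center_le_centralizer _
      have key2 : ∀ b ∈ A, A ≤ Subgroup.centralizer ({b} : Set M) := by
        intro b hb
        rw [hA]
        apply sup_le
        · intro a ha
          rw [Subgroup.mem_centralizer_iff]
          intro c hc
          rw [Set.mem_singleton_iff] at hc
          subst hc
          have := key a ha hb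
          rw [Subgroup.mem_centralizer_iff] at this
          exact (this a rfl).symm
        · exact Subgroup.center_le_centralizer _
      intro a ha b hb
      have := key2 b hb ha
      rw [Subgroup.mem_centralizer_iff] at this
      exact (this b rfl).symm
    have hIto := Cfsg.Agent.S0178.result ρ A hAab
    rw [Module.finrank_fin_fun, hnm] at hIto
    have hS'idx : S'.index = m := by
      rw [index_of_compl V M hVM hMV S', hS', Subgroup.map_subgroupOf_eq_of_le inf_le_right,
        ← hTm]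
      congr 1
      apply le_antisymm
      · exact sup_le inf_le_left hVT
      · intro x hx
        obtain ⟨v, hv, a, ha, rfl⟩ := hTdec x hx
        exact Subgroup.mul_mem _ (Subgroup.mem_sup_right hv) (Subgroup.mem_sup_left ha)
    have hS'A : S' ≤ A := le_sup_left
    have h5 := Subgroup.relIndex_mul_index hS'A
    have h6 : A.index ∣ m := by
      rw [← hS'idx]
      exact Subgroup.index_dvd_of_le hS'A
    have h7 : A.index = m := le_antisymm (Nat.le_of_dvd (Nat.pos_of_ne_zero hm0) h6) hIto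
    rw [h7, hS'idx] at h5
    have h8 : S'.relIndex A = 1 := by
      have := Nat.eq_of_mul_eq_mul_right (Nat.pos_of_ne_zero hm0) (h5.trans (one_mul m).symm)
      exact this
    have h9 : A ≤ S' := Subgroup.relIndex_eq_one.1 h8
    have h10 : Subgroup.center M ≤ S' := le_sup_right.trans h9
    apply Group.IsNilpotent.center_ne_bot (G := M)
    rw [Subgroup.eq_bot_iff_forall]
    intro z hz
    have hz' := h10 hz
    rw [hS', Subgroup.mem_subgroupOf] at hz'
    apply Subtype.ext
    apply hcentral z z.2 hz'.1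
    intro a ha
    have := (Subgroup.mem_center_iff.1 hz) ⟨a, ha⟩
    exact congrArg Subtype.val this
  have hMab' : ∀ a ∈ M, ∀ b ∈ M, a * b = b * a := fun a ha b hb =>
    congrArg Subtype.val (hMab ⟨a, ha⟩ ⟨b, hb⟩)
  -- T = V
  have hS1 : ∀ z ∈ T ⊓ M, z = 1 := fun z hz => hcentral z hz.2 hz.1 (fun a ha => hMab' a ha z hz.2)
  have hTV : T = V := by
    apply le_antisymm _ hVT
    intro x hx
    obtain ⟨v, hv, a, ha, rfl⟩ := hTdec x hx
    rw [hS1 a ha, mul_one]
    exact hv
  have hVm : V.index = m := by rw [← hTV]; exact hTm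
  -- fixed point freeness on the complement
  have hfpfM : ∀ y ∈ M, y ≠ 1 → ∀ v ∈ V, y * v = v * y → v = 1 := by
    intro y hy hy1
    let C : Subgroup X :=
      { carrier := {v | v ∈ V ∧ y * v = v * y}
        one_mem' := ⟨V.one_mem, by simp⟩
        mul_mem' := by
          rintro a b ⟨ha, ha'⟩ ⟨hb, hb'⟩
          refine ⟨V.mul_mem ha hb, ?_⟩
          rw [← mul_assoc, ha', mul_assoc, hb', mul_assoc]
        inv_mem' := by
          rintro a ⟨ha, ha'⟩
          refine ⟨V.inv_mem ha, ?_⟩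
          have : a⁻¹ * (y * a) * a⁻¹ = a⁻¹ * (a * y) * a⁻¹ := by rw [ha']
          simpa [mul_assoc] using this.symm }
    have hCn : C.Normal := by
      apply normal_of_sup_eq_top M V C hMV
      · rintro a ha v ⟨hv, hv'⟩
        refine ⟨hVn.conj_mem v hv a, ?_⟩
        have h1 := hMab' y hy a ha
        have h3 : y * (a * v * a⁻¹) = (y * a) * v * a⁻¹ := by group
        have h4 : a * v * a⁻¹ * y = a * v * (a⁻¹ * y * a) * a⁻¹ := by group
        have h5 : a⁻¹ * y * a = y := by
          have : a⁻¹ * y * a = a⁻¹ * (y * a) := by group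
          rw [this, h1]
          group
        rw [h3, h4, h5, h1, mul_assoc a y v, hv']
        group
      · rintro w hw v ⟨hv, hv'⟩
        have : w * v * w⁻¹ = v := by
          rw [hVab w hw v hv, mul_inv_cancel_right]
        rw [this]
        exact ⟨hv, hv'⟩
    have hCV : C ≤ V := fun v hv => hv.1
    have hCne : C ≠ V := by
      intro h
      apply hy1
      apply hfaith y hy
      intro v hv
      have : v ∈ C := by rw [h]; exact hv
      exact this.2
    have hCb : C = ⊥ := by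
      by_contra hne
      exact hCne (hmin C hCn hCV hne)
    intro v hv hyv
    have : v ∈ C := ⟨hv, hyv⟩
    rw [hCb] at this
    exact this
  refine ⟨hVm, ?_, ?_⟩
  · -- coprimality
    apply Nat.Coprime.symm
    apply Nat.coprime_of_dvd
    intro q hq hqV hqm
    haveI : Fact q.Prime := ⟨hq⟩
    rw [← hVm, ← card_compl V M hVM hMV] at hqm
    obtain ⟨y, hy⟩ := exists_prime_orderOf_dvd_card' q hqm
    have hy1 : (y : X) ≠ 1 := by
      intro h
      have : y = 1 := Subtype.ext h
      rw [this, orderOf_one] at hy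
      exact hq.one_lt.ne hy
    let σ : Equiv.Perm V := (MulAut.conjNormal (y : X) : V ≃* V).toEquiv
    have hσpow : ∀ k : ℕ, ∀ v : V, ((σ ^ k) v : X) = (y : X) ^ k * v * ((y : X) ^ k)⁻¹ := by
      intro k
      induction k with
      | zero => intro v; simp
      | succ k ih =>
        intro v
        rw [pow_succ', Equiv.Perm.mul_apply]
        show (y : X) * ((σ ^ k) v : X) * (y : X)⁻¹ = _
        rw [ih v, pow_succ']
        group
    have hσ : σ ^ q ^ 1 = 1 := by
      rw [pow_one]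
      apply Equiv.ext
      intro v
      apply Subtype.ext
      rw [hσpow q v]
      have : (y : X) ^ q = 1 := by
        have h1 : y ^ q = 1 := by rw [← hy]; exact pow_orderOf_eq_one y
        have := congrArg Subtype.val h1
        simpa using this
      rw [this]
      simp
    have hqV' : q ∣ Fintype.card V := by
      rw [← Nat.card_eq_fintype_card]; exact hqV
    obtain ⟨b, hb, hb1⟩ := Equiv.Perm.exists_fixed_point_of_prime' hqV' hσ (a := (1 : V))
      (by apply Subtype.ext; show (y : X) * 1 * (y : X)⁻¹ = 1; simp)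
    apply hb1
    apply Subtype.ext
    apply hfpfM y y.2 hy1 b b.2
    have h1 : (y : X) * b * (y : X)⁻¹ = b := congrArg Subtype.val hb
    have : (y : X) * b * (y : X)⁻¹ * y = b * y := by rw [h1]
    simpa using this
  · -- fixed point freeness
    intro x hx v hv hxv
    obtain ⟨w, hw, a, ha, rfl⟩ := split_exists V M hMV x
    have ha1 : a ≠ 1 := by
      rintro rfl
      apply hx
      simpa using hw
    apply hfpfM a ha ha1 v hv
    have h1 : w * a * v = v * (w * a) := hxv
    have h3 : w * (a * v) = w * (v * a) := by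
      rw [← mul_assoc, h1, ← mul_assoc, hVab v hv w hw, mul_assoc]
    exact mul_left_cancel h3

end Main

end Cfsg.Agent.Lib.Helper4.TD
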