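import Mathlib
import Cfsg.Agent.Lib.Helper4.TD5

set_option autoImplicit false

/-! Isaacs, Theorem 12.5: groups with exactly two irreducible character degrees. -/

namespace Cfsg.Agent.Lib.Helper4.TD

open Cfsg Cfsg.Agent.Lib.Helper1 Cfsg.Agent.Lib.Helper4

universe u

section TwoDeg

variable {G : Type u} [Group G] [Finite G]

/-- The non-nilpotent case: an abelian normal subgroup of index `m`. -/
theorem abelian_normal_of_not_nilpotent (m : ℕ) (h2 : H2 G m) (hnn : ¬ Group.IsNilpotent G) :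
    ∃ A : Subgroup G, A.Normal ∧ (∀ a ∈ A, ∀ b ∈ A, a * b = b * a) ∧ A.index = m := by
  classical
  have hsolv : Group.IsSolvable G := solvable_of_H2 (Nat.card G) G rfl m h2
  -- a maximal normal subgroup with non-nilpotent quotient
  obtain ⟨K, hK⟩ := exists_maximal_of_wellFoundedGT
    (fun K : Subgroup G => ∃ _ : K.Normal, ¬ Group.IsNilpotent (G ⧸ K)) ⟨⊥, inferInstance, by
      intro h
      apply hnn
      exact nilpotent_of_mulEquiv (QuotientGroup.quotientBot (G := G))⟩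
  obtain ⟨hKn, hKnn⟩ := hK.1
  haveI := hKn
  have hXs : Group.IsSolvable (G ⧸ K) := inferInstance
  have hq : ∀ (L : Subgroup (G ⧸ K)) [L.Normal], L ≠ ⊥ → Group.IsNilpotent ((G ⧸ K) ⧸ L) := by
    intro L hLn hLb
    set K₁ : Subgroup G := L.comap (QuotientGroup.mk' K) with hK₁
    haveI hK₁n : K₁.Normal := hLn.comap _
    have hKK₁ : K ≤ K₁ := by
      intro x hx
      rw [hK₁, Subgroup.mem_comap]
      have : (QuotientGroup.mk' K) x = 1 := (QuotientGroup.eq_one_iff x).2 hx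
      rw [this]
      exact L.one_mem
    have hnil : Group.IsNilpotent (G ⧸ K₁) := by
      by_contra hcon
      have h1 := hK.2 ⟨hK₁n, hcon⟩ hKK₁
      apply hLb
      rw [eq_bot_iff]
      intro y hy
      obtain ⟨x, rfl⟩ := QuotientGroup.mk_surjective y
      have hx : x ∈ K₁ := hy
      rw [Subgroup.mem_bot]
      exact (QuotientGroup.eq_one_iff x).2 (h1 hx)
    let f : G ⧸ K₁ →* (G ⧸ K) ⧸ L := QuotientGroup.map K₁ L (QuotientGroup.mk' K) le_rfl
    have hf : Function.Surjective f := by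
      intro z
      obtain ⟨y, rfl⟩ := QuotientGroup.mk_surjective z
      obtain ⟨x, rfl⟩ := QuotientGroup.mk_surjective y
      exact ⟨(x : G ⧸ K₁), rfl⟩
    exact nilpotent_of_surjective f hf
  obtain ⟨V, M, hVn, hVb, hVab, hmin, hVM, hMV, hMnil, hMb, hfaith⟩ :=
    structure_min_nonnilpotent hXs hKnn hq
  haveI := hVn
  obtain ⟨hVidx, hVcop, hVfpf⟩ := frobenius_of_split V M hVb hVab hmin hVM hMV hMnil hMb hfaith m
    (h2.quotient K)
  set N : Subgroup G := V.comap (QuotientGroup.mk' K) with hN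
  haveI hNn : N.Normal := hVn.comap _
  have hsurj : Function.Surjective (QuotientGroup.mk' K) := QuotientGroup.mk'_surjective K
  have hKN : K ≤ N := by
    intro x hx
    rw [hN, Subgroup.mem_comap]
    have : (QuotientGroup.mk' K) x = 1 := (QuotientGroup.eq_one_iff x).2 hx
    rw [this]
    exact V.one_mem
  have hNmap : N.map (QuotientGroup.mk' K) = V := Subgroup.map_comap_eq_self_of_surjective hsurj V
  have hne : K ≠ N := by
    intro h
    apply hVb
    rw [← hNmap, ← h, eq_bot_iff]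
    rintro _ ⟨x, hx, rfl⟩
    rw [Subgroup.mem_bot]
    exact (QuotientGroup.eq_one_iff x).2 hx
  have hidx : N.index = m := by
    rw [hN, Subgroup.index_comap_of_surjective _ hsurj, hVidx]
  have hrel : K.relIndex N = Nat.card V := by
    have h1 : K = (⊥ : Subgroup (G ⧸ K)).comap (QuotientGroup.mk' K) := by
      have : (⊥ : Subgroup (G ⧸ K)).comap (QuotientGroup.mk' K) = (QuotientGroup.mk' K).ker := rfl
      rw [this, QuotientGroup.ker_mk']
    conv_lhs => rw [h1]
    rw [Subgroup.relIndex_comap, hNmap, Subgroup.relIndex_bot_left]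
  refine ⟨N, hNn, ?_, hidx⟩
  apply abelian_of_frobenius_quotient N K hKN hne _ m hidx (by rw [hrel]; exact hVcop) _ h2
  · intro a ha b hb
    rw [← QuotientGroup.eq_one_iff, QuotientGroup.mk_mul, QuotientGroup.mk_mul, QuotientGroup.mk_mul,
      QuotientGroup.mk_inv, QuotientGroup.mk_inv]
    have h1 := hVab _ ha _ hb
    have h3 : ((a : G ⧸ K)) * (b : G ⧸ K) = (b : G ⧸ K) * (a : G ⧸ K) := h1
    rw [h3]
    group
  · intro g hg n hn hgn
    rw [← QuotientGroup.eq_one_iff]
    apply hVfpf (g : G ⧸ K) hg (n : G ⧸ K) hn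
    rw [← QuotientGroup.eq_one_iff, QuotientGroup.mk_mul, QuotientGroup.mk_mul, QuotientGroup.mk_mul,
      QuotientGroup.mk_inv, QuotientGroup.mk_inv] at hgn
    have : (g : G ⧸ K) * (n : G ⧸ K) * (g : G ⧸ K)⁻¹ * (n : G ⧸ K)⁻¹ * ((n : G ⧸ K) * (g : G ⧸ K))
        = (n : G ⧸ K) * (g : G ⧸ K) := by rw [hgn, one_mul]
    rw [← this]
    group

/-- The nilpotent case: a direct product of a `p`-group and an abelian group. -/
theorem direct_product_of_nilpotent (m : ℕ) (h2 : H2 G m)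
    (hex : ∃ χ : G → ℂ, Cfsg.IsIrrCharacter G χ ∧ χ 1 = (m : ℂ)) (hm1 : m ≠ 1)
    (hnil : Group.IsNilpotent G) :
    ∃ p e : ℕ, p.Prime ∧ m = p ^ e ∧ ∃ P A : Subgroup G, P.Normal ∧ A.Normal ∧ IsPGroup p P ∧
      (∀ a ∈ A, ∀ b ∈ A, a * b = b * a) ∧ P ⊓ A = ⊥ ∧ P ⊔ A = ⊤ := by
  classical
  obtain ⟨χ, hχ, hχm⟩ := hex
  obtain ⟨d, hd, hd0, hdvd⟩ := irr_degree hχ
  have hdm : d = m := by
    have : (d : ℂ) = (m : ℂ) := by rw [← hd, hχm]
    exact_mod_cast this
  subst hdm
  set p := d.minFac with hp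
  have hpp : p.Prime := Nat.minFac_prime hm1
  have hpd : p ∣ d := Nat.minFac_dvd d
  haveI : Fact p.Prime := ⟨hpp⟩
  obtain ⟨A, hAn, hAcop, k, hk⟩ := Cfsg.Agent.S4456.result (G := G) p hpp (by
    intro ψ hψ1
    obtain ⟨h1, -⟩ := Cfsg.Agent.Lib.Helper8.irr_apply_one_eq_charDegree ψ.2
    rcases h2 ψ ψ.2 with h | h
    · exfalso
      apply hψ1
      rw [h1] at h
      exact_mod_cast h
    · rw [h1] at h
      have : Cfsg.charDegree (ψ : G → ℂ) = d := by exact_mod_cast h
      rw [this]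
      exact hpd)
  haveI := hAn
  obtain ⟨P⟩ : Nonempty (Sylow p G) := inferInstance
  have hall : ∀ (p : ℕ) (_hp : Fact p.Prime) (P : Sylow p G), (↑P : Subgroup G).Normal :=
    ((isNilpotent_of_finite_tfae (G := G)).out 0 3).1 hnil
  haveI hPn : (P : Subgroup G).Normal := hall p ⟨hpp⟩ P
  have hPA : (P : Subgroup G) ⊓ A = ⊥ := by
    apply Subgroup.inf_eq_bot_of_coprime
    obtain ⟨j, hj⟩ := (IsPGroup.iff_card.1 P.2)
    rw [hj]
    exact Nat.Coprime.pow_left j ((Nat.coprime_comm).1 hAcop)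
  have hPAtop : (P : Subgroup G) ⊔ A = ⊤ := by
    rw [← Subgroup.index_eq_one]
    have h1 : ((P : Subgroup G) ⊔ A).index ∣ A.index := Subgroup.index_dvd_of_le le_sup_right
    have h3 : ((P : Subgroup G) ⊔ A).index ∣ (P : Subgroup G).index :=
      Subgroup.index_dvd_of_le le_sup_left
    rw [hk] at h1
    obtain ⟨j, -, hj⟩ := (Nat.dvd_prime_pow hpp).1 h1
    rcases Nat.eq_zero_or_pos j with h | h
    · rw [hj, h, pow_zero]
    · exfalso
      apply P.not_dvd_index
      rw [hj] at h3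
      exact (dvd_pow_self p h.ne').trans h3
  -- A is abelian
  have hAP : A ⊔ (P : Subgroup G) = ⊤ := by rw [sup_comm]; exact hPAtop
  have hA2 : H2 A d := (h2.quotient (P : Subgroup G)).of_equiv
    (complEquiv (P : Subgroup G) A hPA hAP).symm
  have hAab : ∀ a b : A, a * b = b * a := by
    apply comm_of_all_linear
    intro θ hθ
    rcases hA2 θ hθ with h | h
    · exact h
    · exfalso
      obtain ⟨e, he, -, hedvd⟩ := irr_degree hθ
      have : e = d := by
        have : (e : ℂ) = (d : ℂ) := by rw [← he, h]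
        exact_mod_cast this
      rw [this] at hedvd
      exact (Nat.Prime.coprime_iff_not_dvd hpp).1 hAcop.symm (hpd.trans hedvd)
  -- P is nonabelian and d is a power of p
  have hAP' : A ⊓ (P : Subgroup G) = ⊥ := by rw [inf_comm]; exact hPA
  have hP2 : H2 P d := (h2.quotient A).of_equiv (complEquiv A (P : Subgroup G) hAP' hPAtop).symm
  have hPna : ¬ ∀ a b : P, a * b = b * a := by
    intro hPab
    have hG : ∀ x y : G, x * y = y * x := by
      have hcomm : ∀ a ∈ A, ∀ b ∈ (P : Subgroup G), a * b = b * a := fun a ha b hb =>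
        Subgroup.commute_of_normal_of_disjoint A P hAn hPn (disjoint_iff.2 hAP') a b ha hb
      intro x y
      obtain ⟨a, ha, b, hb, rfl⟩ := split_exists A (P : Subgroup G) hPAtop x
      obtain ⟨a', ha', b', hb', rfl⟩ := split_exists A (P : Subgroup G) hPAtop y
      have e1 : a * a' = a' * a := congrArg Subtype.val (hAab ⟨a, ha⟩ ⟨a', ha'⟩)
      have e2 : b * b' = b' * b := congrArg Subtype.val (hPab ⟨b, hb⟩ ⟨b', hb'⟩)
      have e3 := hcomm a' ha' b hb
      have e4 := hcomm a ha b' hb'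
      calc a * b * (a' * b') = a * (b * a') * b' := by group
        _ = a * (a' * b) * b' := by rw [e3]
        _ = (a * a') * (b * b') := by group
        _ = (a' * a) * (b' * b) := by rw [e1, e2]
        _ = a' * (a * b') * b := by group
        _ = a' * (b' * a) * b := by rw [e4]
        _ = a' * b' * (a * b) := by group
    have := (Cfsg.Agent.S0187.result (G := G)).1 hG ⟨χ, hχ⟩
    simp only at this
    rw [hχm] at this
    apply hm1
    exact_mod_cast this
  obtain ⟨θ, hθ, hθ1⟩ := exists_nonlinear hPna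
  have hθd : θ 1 = (d : ℂ) := (hP2 θ hθ).resolve_left hθ1
  obtain ⟨e, he, -, hedvd⟩ := irr_degree hθ
  have hed : e = d := by
    have : (e : ℂ) = (d : ℂ) := by rw [← he, hθd]
    exact_mod_cast this
  rw [hed] at hedvd
  obtain ⟨j, hj⟩ := (IsPGroup.iff_card.1 P.2)
  have hedvd' : d ∣ p ^ j := by
    rw [← hj]
    exact hedvd
  obtain ⟨i, -, hi⟩ := (Nat.dvd_prime_pow hpp).1 hedvd'
  refine ⟨p, i, hpp, hi, P, A, hPn, hAn, P.2, ?_, hPA, hPAtop⟩
  intro a ha b hb
  exact congrArg Subtype.val (hAab ⟨a, ha⟩ ⟨b, hb⟩)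

/-- Isaacs, Theorem 12.5. -/
theorem two_degrees (m : ℕ) (h2 : H2 G m)
    (hex : ∃ χ : G → ℂ, Cfsg.IsIrrCharacter G χ ∧ χ 1 = (m : ℂ)) (hm1 : m ≠ 1) :
    (∃ A : Subgroup G, A.Normal ∧ (∀ a ∈ A, ∀ b ∈ A, a * b = b * a) ∧ A.index = m) ∨
    ∃ p e : ℕ, p.Prime ∧ m = p ^ e ∧ ∃ P A : Subgroup G, P.Normal ∧ A.Normal ∧ IsPGroup p P ∧
      (∀ a ∈ A, ∀ b ∈ A, a * b = b * a) ∧ P ⊓ A = ⊥ ∧ P ⊔ A = ⊤ := by
  by_cases hnil : Group.IsNilpotent G
  · right
    exact direct_product_of_nilpotent m h2 hex hm1 hnil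
  · left
    exact abelian_normal_of_not_nilpotent m h2 hnil

end TwoDeg

end Cfsg.Agent.Lib.Helper4.TD
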