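import Mathlib
import Cfsg.Agent.Lib.Helper4.TD6
import Cfsg.Agent.Lib.Helper2.MGroup
import Cfsg.Agent.S0136

set_option autoImplicit false

/-! Isaacs, Corollary 12.6: two character degrees force a metabelian group. -/

namespace Cfsg.Agent.Lib.Helper4.TD

open Cfsg Cfsg.Agent.Lib.Helper1 Cfsg.Agent.Lib.Helper4

universe u

section Mono

variable {X : Type u} [Group X] [Fintype X]

/-- A linear character is trivial on commutators. -/
theorem linear_commutator {φ : X → ℂ} (hφ : Cfsg.IsIrrCharacter X φ) (h1 : φ 1 = 1)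
    (d : X) (hd : d ∈ commutator X) : φ d = 1 := by
  obtain ⟨f, rfl⟩ := exists_hom_of_isIrrCharacter hφ h1
  have : f d = 1 := by
    have h2 : commutator X ≤ f.ker := by
      rw [commutator_def, Subgroup.commutator_le]
      intro a _ b _
      rw [MonoidHom.mem_ker, map_commutatorElement]
      exact commutatorElement_eq_one_iff_commute.2 (Commute.all _ _)
    exact h2 hd
  show ((f d : ℂˣ) : ℂ) = 1
  rw [this, Units.val_one]

/-- If all constituents of a character are linear, it is constant on the commutator subgroup. -/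
theorem apply_commutator_of_linear_constituents {Θ : X → ℂ} (hΘ : Cfsg.IsCharacter X Θ)
    (hlin : ∀ φ : X → ℂ, Cfsg.IsIrrCharacter X φ → Cfsg.classInner Θ φ ≠ 0 → φ 1 = 1)
    (d : X) (hd : d ∈ commutator X) : Θ d = Θ 1 := by
  classical
  haveI : Fintype (Cfsg.IrrCharacter X) := Fintype.ofFinite _
  have hexp := class_function_expansion Θ (isClassFunction_of_isCharacter hΘ)
  have h1 : ∀ g : X, Θ g = ∑ χ : Cfsg.IrrCharacter X, Cfsg.classInner Θ χ * (χ : X → ℂ) g := by
    intro g
    conv_lhs => rw [hexp]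
    rw [Finset.sum_apply]
    rfl
  rw [h1 d, h1 1]
  refine Finset.sum_congr rfl fun χ _ => ?_
  by_cases hc : Cfsg.classInner Θ (χ : X → ℂ) = 0
  · rw [hc, zero_mul, zero_mul]
  · have h3 := hlin χ χ.2 hc
    rw [linear_commutator χ.2 h3 d hd, h3]

/-- A monomial irreducible character of degree `m ≠ 1` in a group with degrees `1`, `m` is
trivial on commutators of elements of the commutator subgroup. -/
theorem monomial_second_commutator (m : ℕ) (h2 : H2 X m) (H : Subgroup X) (lam : H →* ℂˣ)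
    (hirr : Cfsg.IsIrrCharacter X (Cfsg.indFun H (fun h => ((lam h : ℂˣ) : ℂ))))
    (hdeg : Cfsg.indFun H (fun h => ((lam h : ℂˣ) : ℂ)) 1 ≠ 1)
    (a b : X) (ha : a ∈ commutator X) (hb : b ∈ commutator X) :
    Cfsg.indFun H (fun h => ((lam h : ℂˣ) : ℂ)) (a * b * a⁻¹ * b⁻¹)
      = Cfsg.indFun H (fun h => ((lam h : ℂˣ) : ℂ)) 1 := by
  classical
  haveI : Fintype H := Fintype.ofFinite H
  set χ := Cfsg.indFun H (fun h => ((lam h : ℂˣ) : ℂ)) with hχ
  have hH0 : (Nat.card H : ℂ) ≠ 0 := Nat.cast_ne_zero.2 Nat.card_pos.ne'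
  have hχ1 : χ 1 = (H.index : ℂ) := by
    rw [hχ, Cfsg.Agent.S0170.indFun_one, ← Subgroup.card_mul_index H, map_one, Units.val_one]
    push_cast
    field_simp
  have hχm : χ 1 = (m : ℂ) := (h2 χ hirr).resolve_left hdeg
  have hidx : H.index = m := by
    have : (H.index : ℂ) = (m : ℂ) := by rw [← hχ1, hχm]
    exact_mod_cast this
  have hm1 : m ≠ 1 := by
    rintro rfl
    apply hdeg
    rw [hχm]; simp
  -- the permutation character
  have h1Hirr : Cfsg.IsIrrCharacter H (fun _ => (1 : ℂ)) := by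
    have := isIrrCharacter_of_hom (1 : H →* ℂˣ)
    simpa using this
  have h1Xirr : Cfsg.IsIrrCharacter X (fun _ => (1 : ℂ)) := by
    have := isIrrCharacter_of_hom (1 : X →* ℂˣ)
    simpa using this
  set Θ := Cfsg.indFun H (fun _ => (1 : ℂ)) with hΘ
  have hΘc : Cfsg.IsCharacter X Θ := Cfsg.Agent.S0148.result H _ (isCharacter_of_irr h1Hirr)
  have hΘ1 : Θ 1 = (m : ℂ) := by
    rw [hΘ, Cfsg.Agent.S0170.indFun_one, ← hidx, ← Subgroup.card_mul_index H]
    push_cast
    field_simp
  have hΘtriv : Cfsg.classInner Θ (fun _ => (1 : ℂ)) = ((1 : ℕ) : ℂ) := by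
    rw [hΘ, Cfsg.Agent.S0146.result H _ _ (isClassFunction_irr h1Xirr)]
    rw [Nat.cast_one]
    exact classInner_irr_self h1Hirr
  have hlin : ∀ φ : X → ℂ, Cfsg.IsIrrCharacter X φ → Cfsg.classInner Θ φ ≠ 0 → φ 1 = 1 := by
    intro φ hφ hc
    by_contra hφ1
    have hφm : φ 1 = (m : ℂ) := (h2 φ hφ).resolve_left hφ1
    have hne : (fun _ => (1 : ℂ)) ≠ φ := by
      intro h
      apply hφ1
      rw [← h]
    have hσ := isCharacter_sub_irr hΘc h1Xirr Nat.one_pos hΘtriv
    obtain ⟨k, hk⟩ := classInner_char_irr_nat hΘc hφ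
    have hk0 : 0 < k := by
      rcases Nat.eq_zero_or_pos k with h | h
      · exfalso; apply hc; rw [hk, h]; simp
      · exact h
    have hσφ : Cfsg.classInner (Θ - fun _ => (1 : ℂ)) φ = k := by
      rw [classInner_sub_left, hk, classInner_irr_ne h1Xirr hφ hne, sub_zero]
    have hτ := isCharacter_sub_irr hσ hφ hk0 hσφ
    obtain ⟨n, hn⟩ := isCharacter_apply_one hτ
    simp only [Pi.sub_apply] at hn
    rw [hΘ1, hφm] at hn
    have : (n : ℂ) + 1 = 0 := by rw [← hn]; ring
    have : ((n + 1 : ℕ) : ℂ) = 0 := by push_cast; exact this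
    have := Nat.cast_eq_zero.1 this
    omega
  -- the commutator subgroup lies in H
  have hcomH : ∀ d ∈ commutator X, d ∈ H := by
    intro d hd
    have h3 := apply_commutator_of_linear_constituents hΘc hlin d hd
    rw [hΘ1, hΘ, indFun_apply] at h3
    have h4 : ∀ x : X, Cfsg.extendByZero H (fun _ => (1 : ℂ)) (x⁻¹ * d * x)
        = if x⁻¹ * d * x ∈ H then 1 else 0 := by
      intro x
      by_cases hx : x⁻¹ * d * x ∈ H
      · rw [if_pos hx, extendByZero_of_mem _ _ hx]
      · rw [if_neg hx, extendByZero_of_notMem _ _ hx]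
    rw [Finset.sum_congr rfl fun x _ => h4 x, Finset.sum_boole] at h3
    have h5 : ((Finset.univ.filter fun x : X => x⁻¹ * d * x ∈ H).card : ℂ) = (Nat.card X : ℂ) := by
      rw [← Subgroup.card_mul_index H, hidx]
      push_cast
      field_simp at h3
      rw [h3]
    have h6 : (Finset.univ.filter fun x : X => x⁻¹ * d * x ∈ H).card = Fintype.card X := by
      rw [← Nat.card_eq_fintype_card]
      exact_mod_cast h5
    have h7 := (Finset.card_eq_iff_eq_univ _).1 h6
    have h8 : (1 : X) ∈ Finset.univ.filter fun x : X => x⁻¹ * d * x ∈ H := by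
      rw [h7]; exact Finset.mem_univ _
    have := (Finset.mem_filter.1 h8).2
    simpa using this
  -- evaluate χ
  have hcn : (commutator X).Normal := inferInstance
  rw [hχ, indFun_apply, Cfsg.Agent.S0170.indFun_one, map_one, Units.val_one]
  congr 1
  have h9 : ∀ x : X, Cfsg.extendByZero H (fun h => ((lam h : ℂˣ) : ℂ))
      (x⁻¹ * (a * b * a⁻¹ * b⁻¹) * x) = 1 := by
    intro x
    have ha' : x⁻¹ * a * x ∈ H := hcomH _ (by
      have := hcn.conj_mem a ha x⁻¹
      simpa using this)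
    have hb' : x⁻¹ * b * x ∈ H := hcomH _ (by
      have := hcn.conj_mem b hb x⁻¹
      simpa using this)
    have hc' : x⁻¹ * (a * b * a⁻¹ * b⁻¹) * x
        = (x⁻¹ * a * x) * (x⁻¹ * b * x) * (x⁻¹ * a * x)⁻¹ * (x⁻¹ * b * x)⁻¹ := by group
    have hmem : x⁻¹ * (a * b * a⁻¹ * b⁻¹) * x ∈ H := by
      rw [hc']
      exact H.mul_mem (H.mul_mem (H.mul_mem ha' hb') (H.inv_mem ha')) (H.inv_mem hb')
    rw [extendByZero_of_mem _ _ hmem]
    have h10 : (⟨x⁻¹ * (a * b * a⁻¹ * b⁻¹) * x, hmem⟩ : H)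
        = ⟨_, ha'⟩ * ⟨_, hb'⟩ * (⟨_, ha'⟩ : H)⁻¹ * (⟨_, hb'⟩ : H)⁻¹ := Subtype.ext hc'
    rw [h10, map_mul, map_mul, map_mul, map_inv, map_inv]
    have : lam ⟨_, ha'⟩ * lam ⟨_, hb'⟩ * (lam ⟨_, ha'⟩)⁻¹ * (lam ⟨_, hb'⟩)⁻¹ = 1 := by
      rw [mul_comm (lam ⟨_, ha'⟩) (lam ⟨_, hb'⟩), mul_inv_cancel_right, mul_inv_cancel]
    rw [this, Units.val_one]
  rw [Finset.sum_congr rfl fun x _ => h9 x]
  simp [Nat.card_eq_fintype_card]

end Mono

section Meta

variable {X : Type u} [Group X] [Finite X]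

/-- A `p`-group with character degrees `1`, `m` is metabelian. -/
theorem metabelian_of_pgroup (p : ℕ) (hp : p.Prime) (hX : IsPGroup p X) (m : ℕ) (h2 : H2 X m) :
    ∀ a ∈ commutator X, ∀ b ∈ commutator X, a * b = b * a := by
  classical
  haveI : Fintype X := Fintype.ofFinite X
  haveI : Fact p.Prime := ⟨hp⟩
  intro a ha b hb
  have hQE : Cfsg.Agent.Lib.Helper2.MGroup.QEType p X := by
    obtain ⟨k, hk⟩ := IsPGroup.iff_card.1 hX
    refine ⟨⊥, inferInstance, inferInstance, ?_, k, ?_⟩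
    · rw [Subgroup.card_bot]; exact Nat.coprime_one_left p
    · rw [Subgroup.index_bot, hk]
  have hc1 : a * b * a⁻¹ * b⁻¹ = 1 := by
    have hconj : IsConj (a * b * a⁻¹ * b⁻¹) 1 := by
      rw [Cfsg.Agent.S0136.result]
      intro χ
      by_cases h1 : (χ : X → ℂ) 1 = 1
      · rw [h1]
        apply linear_commutator χ.2 h1
        rw [commutator_def]
        exact Subgroup.commutator_mem_commutator (Subgroup.mem_top a) (Subgroup.mem_top b)
      · obtain ⟨H, lam, hH⟩ := Cfsg.Agent.Lib.Helper2.MGroup.main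
          (Cfsg.Agent.Lib.Helper2.MGroup.qeType_mclass p hp) (Nat.card X) X hQE rfl χ χ.2
        have hirr := χ.2
        rw [hH] at hirr h1 ⊢
        exact monomial_second_commutator m h2 H lam hirr h1 a b ha hb
    exact isConj_one_left.1 hconj
  have : a * b * a⁻¹ * b⁻¹ * (b * a) = b * a := by rw [hc1, one_mul]
  rw [← this]
  group

variable {G : Type u} [Group G] [Finite G]

/-- Isaacs, Corollary 12.6. -/
theorem metabelian_of_two_degrees (m : ℕ) (h2 : H2 G m)
    (hex : ∃ χ : G → ℂ, Cfsg.IsIrrCharacter G χ ∧ χ 1 = (m : ℂ)) (hm1 : m ≠ 1) :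
    ∀ a ∈ commutator G, ∀ b ∈ commutator G, a * b = b * a := by
  classical
  have hquot : ∀ (A : Subgroup G) [A.Normal], (∀ x y : G ⧸ A, x * y = y * x) →
      commutator G ≤ A := by
    intro A _ hc
    rw [commutator_def, Subgroup.commutator_le]
    intro x _ y _
    rw [← QuotientGroup.eq_one_iff, commutatorElement_def, QuotientGroup.mk_mul,
      QuotientGroup.mk_mul, QuotientGroup.mk_mul, QuotientGroup.mk_inv, QuotientGroup.mk_inv,
      hc (x : G ⧸ A) (y : G ⧸ A)]
    group
  rcases two_degrees m h2 hex hm1 with ⟨A, hAn, hAab, hAidx⟩ |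
    ⟨p, e, hp, hme, P, A, hPn, hAn, hP, hAab, hPA, hPAtop⟩
  · haveI := hAn
    have hcomm : ∀ x y : G ⧸ A, x * y = y * x := by
      apply comm_of_all_linear
      intro φ hφ
      rcases (h2.quotient A) φ hφ with h | h
      · exact h
      · exfalso
        haveI : Fintype (G ⧸ A) := Fintype.ofFinite _
        have h3 := sum_norm_sq_irr hφ
        have h4 : ‖φ 1‖ ^ 2 ≤ ∑ g : G ⧸ A, ‖φ g‖ ^ 2 :=
          Finset.single_le_sum (f := fun g => ‖φ g‖ ^ 2) (fun g _ => sq_nonneg _)
            (Finset.mem_univ 1)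
        rw [h3, h, ← Subgroup.index_eq_card, hAidx, Complex.norm_natCast] at h4
        have h5 : (m : ℝ) ≤ 1 := by
          by_contra hlt
          push Not at hlt
          nlinarith
        have h6 : m ≤ 1 := by exact_mod_cast h5
        obtain ⟨d, hd, hd0, -⟩ := irr_degree hφ
        have : d = m := by
          have : (d : ℂ) = (m : ℂ) := by rw [← hd, h]
          exact_mod_cast this
        omega
    have hle := hquot A hcomm
    intro a ha b hb
    exact hAab a (hle ha) b (hle hb)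
  · haveI := hAn
    haveI := hPn
    have hAP' : A ⊓ P = ⊥ := by rw [inf_comm]; exact hPA
    have hAP : A ⊔ P = ⊤ := by rw [sup_comm]; exact hPAtop
    -- G ⧸ A is a p-group
    haveI : Fact p.Prime := ⟨hp⟩
    have hQp : IsPGroup p (G ⧸ A) := by
      obtain ⟨k, hk⟩ := IsPGroup.iff_card.1 hP
      apply IsPGroup.of_card (n := k)
      rw [← hk]
      exact (Nat.card_congr (complEquiv A P hAP' hPAtop).toEquiv).symm
    have hmeta := metabelian_of_pgroup p hp hQp m (h2.quotient A)
    -- G ⧸ P is abelian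
    have hcommP : ∀ x y : G ⧸ P, x * y = y * x := by
      intro x y
      have e := complEquiv P A hPA hAP
      obtain ⟨a, rfl⟩ := e.surjective x
      obtain ⟨b, rfl⟩ := e.surjective y
      rw [← map_mul, ← map_mul]
      congr 1
      exact Subtype.ext (hAab a a.2 b b.2)
    have hleP := hquot P hcommP
    intro a ha b hb
    have hmap : ∀ d ∈ commutator G, ((d : G) : G ⧸ A) ∈ commutator (G ⧸ A) := by
      intro d hd
      have h1 : (commutator G).map (QuotientGroup.mk' A) ≤ commutator (G ⧸ A) := by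
        rw [commutator_def, Subgroup.map_commutator, commutator_def]
        exact Subgroup.commutator_mono le_top le_top
      exact h1 ⟨d, hd, rfl⟩
    have h3 := hmeta _ (hmap a ha) _ (hmap b hb)
    have h4 : a * b * a⁻¹ * b⁻¹ ∈ A := by
      rw [← QuotientGroup.eq_one_iff, QuotientGroup.mk_mul, QuotientGroup.mk_mul,
        QuotientGroup.mk_mul, QuotientGroup.mk_inv, QuotientGroup.mk_inv, h3]
      group
    have h5 : a * b * a⁻¹ * b⁻¹ ∈ P :=
      P.mul_mem (P.mul_mem (P.mul_mem (hleP ha) (hleP hb)) (P.inv_mem (hleP ha)))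
        (P.inv_mem (hleP hb))
    have h6 : a * b * a⁻¹ * b⁻¹ ∈ P ⊓ A := ⟨h5, h4⟩
    rw [hPA, Subgroup.mem_bot] at h6
    have : a * b * a⁻¹ * b⁻¹ * (b * a) = b * a := by rw [h6, one_mul]
    rw [← this]
    group

end Meta

end Cfsg.Agent.Lib.Helper4.TD
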