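import Mathlib

set_option autoImplicit false

/-! Isaacs, Theorem 12.11, step 3: a duality count.  `Z` is an abelian normal subgroup of index
`p²` with abelian quotient such that every linear character of `Z` has a stabilizer of index
dividing `p`, and no element outside `Z` centralizes `Z`.  Then `|Z : Z(G)| = p`. -/

namespace Cfsg.Agent.Lib.Helper4.TD

universe u

section Dual

variable {G : Type u} [Group G] (Z : Subgroup G) [hZ : Z.Normal]

/-- The linear character `lam` of `Z` is fixed by `g`. -/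
def Fix (lam : Z →* ℂˣ) (g : G) : Prop :=
  ∀ z : Z, lam ⟨g * z * g⁻¹, hZ.conj_mem z z.2 g⟩ = lam z

/-- The commutator map `z ↦ a z a⁻¹ z⁻¹` on an abelian normal subgroup. -/
def commHom (hZab : ∀ a ∈ Z, ∀ b ∈ Z, a * b = b * a) (a : G) : Z →* Z where
  toFun z := ⟨a * z * a⁻¹ * z⁻¹, Z.mul_mem (hZ.conj_mem z z.2 a) (Z.inv_mem z.2)⟩
  map_one' := by
    apply Subtype.ext
    show a * ((1 : Z) : G) * a⁻¹ * ((1 : Z) : G)⁻¹ = 1
    rw [Subgroup.coe_one]
    group
  map_mul' x y := by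
    apply Subtype.ext
    show a * ((x * y : Z) : G) * a⁻¹ * ((x * y : Z) : G)⁻¹
      = (a * (x : G) * a⁻¹ * (x : G)⁻¹) * (a * (y : G) * a⁻¹ * (y : G)⁻¹)
    rw [Subgroup.coe_mul]
    have h := hZab (x : G)⁻¹ (Z.inv_mem x.2) (a * (y : G) * a⁻¹ * (y : G)⁻¹)
      (Z.mul_mem (hZ.conj_mem y y.2 a) (Z.inv_mem y.2))
    calc a * ((x : G) * (y : G)) * a⁻¹ * ((x : G) * (y : G))⁻¹
        = a * (x : G) * a⁻¹ * ((a * (y : G) * a⁻¹ * (y : G)⁻¹) * (x : G)⁻¹) := by group
      _ = a * (x : G) * a⁻¹ * ((x : G)⁻¹ * (a * (y : G) * a⁻¹ * (y : G)⁻¹)) := by rw [h]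
      _ = _ := by group

theorem commHom_apply (hZab : ∀ a ∈ Z, ∀ b ∈ Z, a * b = b * a) (a : G) (z : Z) :
    ((commHom Z hZab a z : Z) : G) = a * z * a⁻¹ * (z : G)⁻¹ := rfl

theorem fix_iff_commHom (hZab : ∀ a ∈ Z, ∀ b ∈ Z, a * b = b * a) (lam : Z →* ℂˣ) (a : G) :
    Fix Z lam a ↔ ∀ z : Z, lam (commHom Z hZab a z) = 1 := by
  have key : ∀ z : Z, lam (commHom Z hZab a z)
      = lam ⟨a * z * a⁻¹, hZ.conj_mem z z.2 a⟩ * (lam z)⁻¹ := by
    intro z
    rw [← map_inv, ← map_mul]
    congr 1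
  constructor
  · intro h z
    rw [key, h z, mul_inv_cancel]
  · intro h z
    have := h z
    rw [key, mul_inv_eq_one] at this
    exact this

variable [Finite G]

/-- An element of `Z` centralized by some element outside `Z` is central. -/
theorem central_of_commute (p : ℕ) (hp : p.Prime)
    (hZab : ∀ a ∈ Z, ∀ b ∈ Z, a * b = b * a) (hGZ : ∀ g h : G, g * h * g⁻¹ * h⁻¹ ∈ Z)
    (hstab : ∀ lam : Z →* ℂˣ, ∃ T : Subgroup G, (∀ g, g ∈ T ↔ Fix Z lam g) ∧ T.index ∣ p)
    (hfaith : ∀ a : G, a ∉ Z → ∃ z ∈ Z, a * z ≠ z * a)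
    (a : G) (ha : a ∉ Z) (z : G) (hz : z ∈ Z) (haz : a * z = z * a) (g : G) :
    g * z = z * g := by
  classical
  letI instZ : CommGroup Z :=
    { (inferInstance : Group Z) with
      mul_comm := fun x y => Subtype.ext (hZab x x.2 y y.2) }
  have hne : NeZero (Monoid.exponent Z) := ⟨Monoid.exponent_ne_zero_of_finite⟩
  -- Claim 1
  have h1 : ∀ lam : Z →* ℂˣ, ¬ Fix Z lam a →
      lam ⟨g * z * g⁻¹, hZ.conj_mem z hz g⟩ = lam ⟨z, hz⟩ := by
    intro lam hna
    obtain ⟨T, hT, hTp⟩ := hstab lam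
    have haT : a ∉ T := fun h => hna ((hT a).1 h)
    have hZT : Z ≤ T := by
      intro x hx
      rw [hT]
      intro y
      congr 1
      apply Subtype.ext
      show x * y * x⁻¹ = y
      rw [hZab x hx y y.2, mul_inv_cancel_right]
    have hTn : T.Normal := by
      constructor
      intro t ht x
      have h0 : x * t * x⁻¹ = (x * t * x⁻¹ * t⁻¹) * t := by group
      rw [h0]
      exact T.mul_mem (hZT (hGZ x t)) ht
    set C : Subgroup G := Subgroup.centralizer {z} with hC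
    have haC : a ∈ C := by
      rw [hC, Subgroup.mem_centralizer_iff]
      intro y hy
      rw [Set.mem_singleton_iff] at hy
      rw [hy]; exact haz.symm
    have htop : T ⊔ C = ⊤ := by
      have hle : T ≤ T ⊔ C := le_sup_left
      have h2 := Subgroup.relIndex_mul_index hle
      have h3 : (T ⊔ C).index ∣ p := (Dvd.intro_left _ h2).trans hTp
      rcases (Nat.dvd_prime hp).1 h3 with h4 | h4
      · exact Subgroup.index_eq_one.1 h4
      · exfalso
        have h5 : T.index = p := by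
          rcases (Nat.dvd_prime hp).1 hTp with h6 | h6
          · exfalso; apply haT; rw [Subgroup.index_eq_one.1 h6]; trivial
          · exact h6
        rw [h4, h5] at h2
        have h7 : T.relIndex (T ⊔ C) = 1 :=
          Nat.eq_of_mul_eq_mul_right hp.pos (by rw [h2, one_mul])
        have h8 : T ⊔ C ≤ T := Subgroup.relIndex_eq_one.1 h7
        exact haT (h8 (Subgroup.mem_sup_right haC))
    have hg : g ∈ ((T ⊔ C : Subgroup G) : Set G) := by rw [htop]; trivial
    rw [Subgroup.normal_mul T C] at hg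
    obtain ⟨t, ht, c, hc, rfl⟩ := Set.mem_mul.1 hg
    have hcz : c * z * c⁻¹ = z := by
      have := (Subgroup.mem_centralizer_iff.1 hc) z (Set.mem_singleton z)
      rw [← this, mul_inv_cancel_right]
    have h9 := (hT t).1 ht ⟨z, hz⟩
    rw [← h9]
    congr 1
    apply Subtype.ext
    show t * c * z * (t * c)⁻¹ = t * z * t⁻¹
    calc t * c * z * (t * c)⁻¹ = t * (c * z * c⁻¹) * t⁻¹ := by group
      _ = _ := by rw [hcz]
  -- Claim 2
  obtain ⟨z', hz', hne'⟩ := hfaith a ha
  have hw' : commHom Z hZab a ⟨z', hz'⟩ ≠ 1 := by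
    intro h
    apply hne'
    have := congrArg Subtype.val h
    rw [commHom_apply, Subgroup.coe_one] at this
    have h0 : a * z' = (a * z' * a⁻¹ * z'⁻¹) * (z' * a) := by group
    rw [h0]
    show a * z' * a⁻¹ * z'⁻¹ * (z' * a) = z' * a
    rw [show a * z' * a⁻¹ * z'⁻¹ = 1 from this, one_mul]
  obtain ⟨mu, hmu⟩ := CommGroup.exists_apply_ne_one_of_hasEnoughRootsOfUnity Z ℂ hw'
  have hmufix : ¬ Fix Z mu a := by
    intro h
    exact hmu (((fix_iff_commHom Z hZab mu a).1 h) _)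
  -- Claim 3
  have h3 : ∀ lam : Z →* ℂˣ,
      lam ⟨g * z * g⁻¹, hZ.conj_mem z hz g⟩ = lam ⟨z, hz⟩ := by
    intro lam
    by_cases hl : Fix Z lam a
    · have hlm : ¬ Fix Z (lam * mu) a := by
        intro h
        apply hmufix
        intro y
        have h4 := h y
        rw [MonoidHom.mul_apply, MonoidHom.mul_apply, hl y] at h4
        exact mul_left_cancel h4
      have h5 := h1 (lam * mu) hlm
      rw [MonoidHom.mul_apply, MonoidHom.mul_apply, h1 mu hmufix] at h5
      exact mul_right_cancel h5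
    · exact h1 lam hl
  -- conclusion
  have h4 : (⟨g * z * g⁻¹, hZ.conj_mem z hz g⟩ : Z) = ⟨z, hz⟩ :=
    (CommGroup.forall_apply_eq_apply_iff (G := Z) (M := ℂ)).1 h3
  have h5 : g * z * g⁻¹ = z := congrArg Subtype.val h4
  calc g * z = (g * z * g⁻¹) * g := by group
    _ = z * g := by rw [h5]

end Dual

end Cfsg.Agent.Lib.Helper4.TD
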