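import Mathlib
import Cfsg.Agent.Lib.Helper4.TD10

set_option autoImplicit false

/-! Isaacs, Theorem 12.11, step 3 continued: the count. -/

namespace Cfsg.Agent.Lib.Helper4.TD

universe u

section Count

variable {G : Type u} [Group G] [Finite G] (Z : Subgroup G) [hZ : Z.Normal]

/-- The number of linear characters of `Z` fixed by an element `a` outside `Z`, times the index
of the central elements of `Z`, is `|Z|`. -/
theorem card_fix_mul (hZab : ∀ a ∈ Z, ∀ b ∈ Z, a * b = b * a) (a : G)
    (hker : ∀ z : Z, a * z = z * a → (z : G) ∈ Subgroup.center G) :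
    Nat.card {lam : Z →* ℂˣ // Fix Z lam a} * ((Subgroup.center G).subgroupOf Z).index
      = Nat.card Z := by
  classical
  letI instZ : CommGroup Z :=
    { (inferInstance : Group Z) with
      mul_comm := fun x y => Subtype.ext (hZab x x.2 y y.2) }
  have hne : NeZero (Monoid.exponent Z) := ⟨Monoid.exponent_ne_zero_of_finite⟩
  set f : Z →* Z := commHom Z hZab a with hf
  have hkerf : f.ker = (Subgroup.center G).subgroupOf Z := by
    ext z
    rw [MonoidHom.mem_ker, Subgroup.mem_subgroupOf]
    constructor
    · intro h
      apply hker
      have := congrArg Subtype.val h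
      rw [hf, commHom_apply, Subgroup.coe_one] at this
      have h0 : a * (z : G) = (a * z * a⁻¹ * (z : G)⁻¹) * (z * a) := by group
      rw [h0, this, one_mul]
    · intro h
      apply Subtype.ext
      rw [hf, commHom_apply, Subgroup.coe_one]
      have := Subgroup.mem_center_iff.1 h a
      rw [this]
      group
  have h1 : Nat.card f.range = ((Subgroup.center G).subgroupOf Z).index := by
    rw [← hkerf, Subgroup.index_ker]
  have h2 := CommGroup.card_domRestrictHom_ker (M := ℂ) f.range
  have h3 : Nat.card {lam : Z →* ℂˣ // Fix Z lam a}
      = Nat.card (MonoidHom.domRestrictHom f.range ℂˣ).ker := by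
    apply Nat.card_congr
    apply Equiv.subtypeEquivRight
    intro lam
    rw [fix_iff_commHom Z hZab lam a, MonoidHom.mem_ker]
    constructor
    · intro h
      ext r
      obtain ⟨r, z, rfl⟩ := r
      have := h z
      simpa using congrArg Units.val this
    · intro h z
      have := DFunLike.congr_fun h ⟨f z, z, rfl⟩
      simpa using this
  rw [h3, h2, ← h1]
  have := Subgroup.index_mul_card f.range
  rw [Subgroup.index_eq_card] at this
  exact this

end Count

end Cfsg.Agent.Lib.Helper4.TD
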