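import Mathlib
import Cfsg.Agent.Lib.Helper4.TD11

set_option autoImplicit false

/-! Isaacs, Theorem 12.11, step 3 concluded: `|G : Z(G)| = p³`. -/

namespace Cfsg.Agent.Lib.Helper4.TD

universe u

section Final

variable {G : Type u} [Group G] [Finite G] (Z : Subgroup G) [hZ : Z.Normal]

theorem center_index_of_stab (p : ℕ) (hp : p.Prime)
    (hZab : ∀ a ∈ Z, ∀ b ∈ Z, a * b = b * a) (hGZ : ∀ g h : G, g * h * g⁻¹ * h⁻¹ ∈ Z)
    (hidx : Z.index = p ^ 2)
    (hstab : ∀ lam : Z →* ℂˣ, ∃ T : Subgroup G, (∀ g, g ∈ T ↔ Fix Z lam g) ∧ T.index ∣ p)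
    (hfaith : ∀ a : G, a ∉ Z → ∃ z ∈ Z, a * z ≠ z * a)
    (hk : ∃ k : ℕ, (Subgroup.center G).index = p ^ k) :
    (Subgroup.center G).index = p ^ 3 := by
  classical
  haveI : Fintype G := Fintype.ofFinite G
  letI instZ : CommGroup Z :=
    { (inferInstance : Group Z) with
      mul_comm := fun x y => Subtype.ext (hZab x x.2 y y.2) }
  have hne : NeZero (Monoid.exponent Z) := ⟨Monoid.exponent_ne_zero_of_finite⟩
  have hXcard : Nat.card (Z →* ℂˣ) = Nat.card Z :=
    CommGroup.card_monoidHom_of_hasEnoughRootsOfUnity Z ℂ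
  haveI : Finite (Z →* ℂˣ) :=
    Nat.finite_of_card_ne_zero (by rw [hXcard]; exact Nat.card_pos.ne')
  haveI : Fintype (Z →* ℂˣ) := Fintype.ofFinite _
  set n : ℕ := Nat.card Z with hn
  have hn0 : 0 < n := Nat.card_pos
  have hG : Nat.card G = p ^ 2 * n := by rw [← Subgroup.index_mul_card Z, hidx]
  set v : ℕ := ((Subgroup.center G).subgroupOf Z).index with hv
  have hcZ : Subgroup.center G ≤ Z := by
    intro c hc
    by_contra hcn
    obtain ⟨z, hz, hne⟩ := hfaith c hcn
    exact hne ((Subgroup.mem_center_iff.1 hc z).symm)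
  have hkerD : ∀ a : G, a ∉ Z → ∀ z : Z, a * z = z * a → (z : G) ∈ Subgroup.center G := by
    intro a ha z haz
    rw [Subgroup.mem_center_iff]
    intro g
    exact central_of_commute Z p hp hZab hGZ hstab hfaith a ha z z.2 haz g
  have hu : ∀ a : G, a ∉ Z → Nat.card {lam : Z →* ℂˣ // Fix Z lam a} * v = n :=
    fun a ha => card_fix_mul Z hZab a (hkerD a ha)
  set A : Finset G := Finset.univ.filter (fun a => a ∉ Z) with hA
  have hZcard : (Finset.univ.filter (fun a : G => a ∈ Z)).card = n := by
    rw [hn, Nat.card_eq_fintype_card, Fintype.card_subtype]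
  have hAcard : A.card + n = p ^ 2 * n := by
    rw [← hG]
    have h2 := Finset.card_filter_add_card_filter_not (s := (Finset.univ : Finset G))
      (fun a => a ∈ Z)
    rw [hZcard, Finset.card_univ, ← Nat.card_eq_fintype_card] at h2
    rw [hA, ← h2, add_comm]
  have hdc := Finset.sum_card_bipartiteAbove_eq_sum_card_bipartiteBelow
    (s := (Finset.univ : Finset (Z →* ℂˣ))) (t := A) (fun lam a => Fix Z lam a)
  -- lower bound
  have hlow : ∀ lam : Z →* ℂˣ,
      p * n ≤ n + (A.bipartiteAbove (fun lam a => Fix Z lam a) lam).card := by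
    intro lam
    obtain ⟨T, hT, hTp⟩ := hstab lam
    have hZT : Z ≤ T := by
      intro x hx
      rw [hT]
      intro y
      congr 1
      apply Subtype.ext
      show x * y * x⁻¹ = y
      rw [hZab x hx y y.2, mul_inv_cancel_right]
    have h1 : Nat.card T = n + (A.bipartiteAbove (fun lam a => Fix Z lam a) lam).card := by
      rw [Nat.card_eq_fintype_card, Fintype.card_subtype]
      have h2 := Finset.card_filter_add_card_filter_not
        (s := Finset.univ.filter (fun g : G => g ∈ T)) (fun a => a ∈ Z)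
      rw [← h2]
      congr 1
      · rw [← hZcard]
        congr 1
        ext g
        simp only [Finset.mem_filter, Finset.mem_univ, true_and]
        exact ⟨fun h => h.2, fun h => ⟨hZT h, h⟩⟩
      · congr 1
        ext g
        simp only [Finset.bipartiteAbove, hA, Finset.mem_filter, Finset.mem_univ, true_and]
        rw [hT g]
        exact and_comm
    have h3 : p * n ≤ Nat.card T := by
      have h4 := Subgroup.card_mul_index T
      have h5 : T.index ≤ p := Nat.le_of_dvd hp.pos hTp
      have : p * (p * n) ≤ p * Nat.card T := by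
        calc p * (p * n) = Nat.card G := by rw [hG]; ring
          _ = Nat.card T * T.index := h4.symm
          _ ≤ Nat.card T * p := Nat.mul_le_mul_left _ h5
          _ = p * Nat.card T := mul_comm _ _
      exact Nat.le_of_mul_le_mul_left this hp.pos
    rw [h1] at h3
    exact h3
  -- the sum
  have hsum1 : n * (p * n) ≤ n * n
      + ∑ lam : Z →* ℂˣ, (A.bipartiteAbove (fun lam a => Fix Z lam a) lam).card := by
    have h1 : ∑ _lam : Z →* ℂˣ, p * n
        ≤ ∑ lam : Z →* ℂˣ, (n + (A.bipartiteAbove (fun lam a => Fix Z lam a) lam).card) :=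
      Finset.sum_le_sum fun lam _ => hlow lam
    rw [Finset.sum_const, Finset.sum_add_distrib, Finset.sum_const, Finset.card_univ,
      ← Nat.card_eq_fintype_card, hXcard, smul_eq_mul, smul_eq_mul] at h1
    exact h1
  have hsum2 : v * ∑ a ∈ A,
      ((Finset.univ : Finset (Z →* ℂˣ)).bipartiteBelow (fun lam a => Fix Z lam a) a).card
        = A.card * n := by
    rw [Finset.mul_sum]
    rw [Finset.sum_congr rfl (g := fun _ => n)]
    · rw [Finset.sum_const, smul_eq_mul]
    · intro a ha
      have haZ : a ∉ Z := by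
        rw [hA, Finset.mem_filter] at ha
        exact ha.2
      have h1 := hu a haZ
      rw [Nat.card_eq_fintype_card, Fintype.card_subtype] at h1
      rw [mul_comm, ← h1]
      congr 2
  rw [hdc] at hsum1
  -- arithmetic
  have hmain : v * p + 1 ≤ v + p ^ 2 := by
    have h1 : v * (n * (p * n)) ≤ v * (n * n) + A.card * n := by
      rw [← hsum2, ← Nat.mul_add]
      exact Nat.mul_le_mul_left _ hsum1
    have h2 : (v * p * n) * n ≤ (v * n + A.card) * n := by
      calc (v * p * n) * n = v * (n * (p * n)) := by ring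
        _ ≤ v * (n * n) + A.card * n := h1
        _ = (v * n + A.card) * n := by ring
    have h3 : v * p * n ≤ v * n + A.card := Nat.le_of_mul_le_mul_right h2 hn0
    have h4 : (v * p + 1) * n ≤ (v + p ^ 2) * n := by
      calc (v * p + 1) * n = v * p * n + n := by ring
        _ ≤ v * n + A.card + n := Nat.add_le_add_right h3 n
        _ = v * n + (A.card + n) := by ring
        _ = v * n + p ^ 2 * n := by rw [hAcard]
        _ = (v + p ^ 2) * n := by ring
    exact Nat.le_of_mul_le_mul_right h4 hn0
  -- conclusion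
  have hrel : v * Z.index = (Subgroup.center G).index := Subgroup.relIndex_mul_index hcZ
  rw [hidx] at hrel
  obtain ⟨k, hk⟩ := hk
  have hvdvd : v ∣ p ^ k := ⟨p ^ 2, by rw [← hk, hrel]⟩
  obtain ⟨j, -, hj⟩ := (Nat.dvd_prime_pow hp).1 hvdvd
  have hp2 : 2 ≤ p := hp.two_le
  have hj1 : j = 1 := by
    rcases Nat.lt_or_ge j 1 with h | h
    · -- v = 1: Z central
      exfalso
      have hj0 : j = 0 := by omega
      rw [hj0, pow_zero] at hj
      have h1 : (Subgroup.center G).subgroupOf Z = ⊤ := Subgroup.index_eq_one.1 (hv ▸ hj)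
      have h2 : Z ≤ Subgroup.center G := Subgroup.subgroupOf_eq_top.1 h1
      have h3 : Z ≠ ⊤ := by
        intro h
        rw [h, Subgroup.index_top] at hidx
        have : 1 < p ^ 2 := Nat.one_lt_pow (by norm_num) hp.one_lt
        omega
      obtain ⟨a, ha⟩ : ∃ a : G, a ∉ Z := by
        by_contra hcon
        push Not at hcon
        exact h3 (eq_top_iff.2 fun x _ => hcon x)
      obtain ⟨z, hz, hne⟩ := hfaith a ha
      exact hne ((Subgroup.mem_center_iff.1 (h2 hz) a))
    · rcases Nat.lt_or_ge j 2 with h' | h'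
      · omega
      · exfalso
        have h1 : p ^ 2 ≤ v := by
          rw [hj]
          exact Nat.pow_le_pow_right hp.pos h'
        have h2 : v * 2 ≤ v * p := Nat.mul_le_mul_left _ hp2
        omega
  rw [hj1, pow_one] at hj
  rw [← hrel, hj]
  ring

end Final

end Cfsg.Agent.Lib.Helper4.TD
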