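import Mathlib
import Cfsg.Agent.Lib.Helper4.TD7

set_option autoImplicit false

/-! Isaacs, Theorem 12.11, step 1: a fully ramified section on top of a nilpotent group with
character degrees `1` and `p`. -/

namespace Cfsg.Agent.Lib.Helper4.TD

open Cfsg Cfsg.Agent.Lib.Helper1 Cfsg.Agent.Lib.Helper4
open scoped ComplexConjugate

universe u

section Ramified

variable {G : Type u} [Group G] [Finite G]

/-- If `d` is central modulo the kernel of the irreducible character `φ`, then `d` acts as a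
scalar. -/
theorem apply_mul_of_central_mod_ker {φ : G → ℂ} (hφ : Cfsg.IsIrrCharacter G φ) (d : G)
    (h : ∀ c : G, φ (d * c * d⁻¹ * c⁻¹) = φ 1) :
    ∃ ω : ℂ, ∀ g : G, φ (d * g) = ω * φ g := by
  obtain ⟨n, ρ, hirr, rfl⟩ := hφ
  haveI := hirr
  have hker : ∀ c : G, ρ (d * c * d⁻¹ * c⁻¹) = LinearMap.id := by
    intro c
    rw [← Cfsg.Agent.S0139.result ρ, h c, Representation.char_one]
  have hcomm : ∀ (c : G) (v : Fin n → ℂ), ρ d (ρ c v) = ρ c (ρ d v) := by
    intro c v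
    have h1 : d * c = (d * c * d⁻¹ * c⁻¹) * (c * d) := by group
    have h2 : ρ (d * c) = ρ (c * d) := by
      rw [h1, map_mul, hker c]
      rfl
    have h3 := congrArg (fun f => f v) h2
    simpa [map_mul] using h3
  obtain ⟨ω, hω⟩ := schur_scalar ρ (ρ d) hcomm
  refine ⟨ω, fun g => ?_⟩
  unfold Representation.character
  rw [map_mul, hω, smul_mul_assoc, map_smul, smul_eq_mul]
  congr 2

/-- Sum of a function vanishing off a subgroup. -/
theorem sum_eq_sum_subgroup [Fintype G] (Z : Subgroup G) [Fintype Z] (f : G → ℂ)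
    (hf : ∀ g, g ∉ Z → f g = 0) : ∑ g : G, f g = ∑ z : Z, f z := by
  classical
  have h1 : ∑ g : G, f g = ∑ g ∈ Finset.univ.filter (fun g => g ∈ Z), f g := by
    rw [Finset.sum_filter]
    apply Finset.sum_congr rfl
    intro g _
    split_ifs with h
    · rfl
    · exact hf g h
  rw [h1]
  exact Finset.sum_subtype (F := ‹Fintype ↥Z›) (Finset.univ.filter (fun g => g ∈ Z))
    (p := fun g => g ∈ Z) (by simp) f

/-- A nilpotent nonabelian group with character degrees `1` and `p` has a normal subgroup `Z`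
with abelian quotient and an irreducible character of degree `p` fully ramified over `Z`. -/
theorem exists_ramified (p : ℕ) (hp : p.Prime) (h2 : H2 G p) (hnil : Group.IsNilpotent G)
    (hnab : ∃ a b : G, a * b ≠ b * a) :
    ∃ (Z : Subgroup G) (ψ : G → ℂ), Z.Normal ∧ (∀ g h : G, g * h * g⁻¹ * h⁻¹ ∈ Z) ∧
      Cfsg.IsIrrCharacter G ψ ∧ ψ 1 = p ∧ (∀ g, g ∉ Z → ψ g = 0) ∧
      (∀ z ∈ Z, ‖ψ z‖ = p) := by
  classical
  -- K maximal normal with nonabelian quotient
  obtain ⟨K, hK⟩ := exists_maximal_of_wellFoundedGT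
    (fun K : Subgroup G => ∃ _ : K.Normal, ∃ a b : G, a * b * a⁻¹ * b⁻¹ ∉ K)
    ⟨⊥, inferInstance, by
      obtain ⟨a, b, hab⟩ := hnab
      refine ⟨a, b, ?_⟩
      rw [Subgroup.mem_bot]
      intro h
      apply hab
      have h0 : a * b = (a * b * a⁻¹ * b⁻¹) * (b * a) := by group
      rw [h0, h, one_mul]⟩
  obtain ⟨hKn, a₀, b₀, hab₀⟩ := hK.1
  have := hKn
  have hmk : ∀ x y : G, ((x * y * x⁻¹ * y⁻¹ : G) : G ⧸ K)
      = (x : G ⧸ K) * (y : G ⧸ K) * (x : G ⧸ K)⁻¹ * (y : G ⧸ K)⁻¹ := by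
    intro x y
    rfl
  have hQnab : ¬ ∀ x y : G ⧸ K, x * y = y * x := by
    intro h
    apply hab₀
    rw [← QuotientGroup.eq_one_iff, hmk, h (a₀ : G ⧸ K) (b₀ : G ⧸ K)]
    group
  have : Nontrivial (G ⧸ K) := by
    by_contra hnt
    rw [not_nontrivial_iff_subsingleton] at hnt
    exact hQnab fun x y => Subsingleton.elim _ _
  have : Group.IsNilpotent (G ⧸ K) := inferInstance
  have hcb : Subgroup.center (G ⧸ K) ≠ ⊥ := Group.IsNilpotent.center_ne_bot (G ⧸ K)
  set Z : Subgroup G := (Subgroup.center (G ⧸ K)).comap (QuotientGroup.mk' K) with hZ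
  have hZn : Z.Normal := Subgroup.Normal.comap inferInstance _
  have hmemZ : ∀ z : G, z ∈ Z ↔ ∀ c : G, z * c * z⁻¹ * c⁻¹ ∈ K := by
    intro z
    rw [hZ, Subgroup.mem_comap, Subgroup.mem_center_iff]
    constructor
    · intro h c
      rw [← QuotientGroup.eq_one_iff, hmk]
      have := h (c : G ⧸ K)
      rw [QuotientGroup.mk'_apply] at this
      rw [← this]
      group
    · intro h q
      obtain ⟨c, rfl⟩ := QuotientGroup.mk_surjective q
      have := h c
      rw [← QuotientGroup.eq_one_iff, hmk] at this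
      rw [QuotientGroup.mk'_apply]
      have h0 : (c : G ⧸ K) * (z : G ⧸ K)
          = ((z : G ⧸ K) * (c : G ⧸ K) * (z : G ⧸ K)⁻¹ * (c : G ⧸ K)⁻¹)⁻¹
            * ((z : G ⧸ K) * (c : G ⧸ K)) := by group
      rw [h0, this, inv_one, one_mul]
  have hKZ : K ≤ Z := by
    intro k hk
    rw [hmemZ]
    intro c
    have h1 : c * k⁻¹ * c⁻¹ ∈ K := hKn.conj_mem _ (K.inv_mem hk) c
    have h0 : k * c * k⁻¹ * c⁻¹ = k * (c * k⁻¹ * c⁻¹) := by group
    rw [h0]
    exact K.mul_mem hk h1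
  -- Z is strictly bigger than K
  obtain ⟨⟨q, hq⟩, hq1⟩ := (Subgroup.ne_bot_iff_exists_ne_one).1 hcb
  obtain ⟨z₀, rfl⟩ := QuotientGroup.mk_surjective q
  have hz₀Z : z₀ ∈ Z := hq
  have hz₀K : z₀ ∉ K := by
    intro h
    apply hq1
    apply Subtype.ext
    exact (QuotientGroup.eq_one_iff z₀).2 h
  -- G' ≤ Z
  have hGZ : ∀ g h : G, g * h * g⁻¹ * h⁻¹ ∈ Z := by
    by_contra hcon
    push Not at hcon
    obtain ⟨g, h, hgh⟩ := hcon
    exact hz₀K (hK.2 ⟨hZn, g, h, hgh⟩ hKZ hz₀Z)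
  -- the character
  obtain ⟨χ, hχ, hχ1⟩ := exists_nonlinear hQnab
  have hχp : χ 1 = p := by
    rcases (h2.quotient K) χ hχ with h | h
    · exact absurd h hχ1
    · exact h
  set ψ : G → ℂ := fun g => χ (g : G ⧸ K) with hψ
  have hψirr : Cfsg.IsIrrCharacter G ψ := Cfsg.Agent.Lib.Helper8.isIrrCharacter_inflation K hχ
  have hψ1 : ψ 1 = p := by
    show χ ((1 : G) : G ⧸ K) = p
    rw [QuotientGroup.mk_one, hχp]
  have hψK : ∀ k ∈ K, ψ k = ψ 1 := by
    intro k hk
    show χ (k : G ⧸ K) = χ ((1 : G) : G ⧸ K)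
    rw [(QuotientGroup.eq_one_iff k).2 hk, QuotientGroup.mk_one]
  -- the kernel of ψ is K
  have hker : ∀ g : G, ψ g = ψ 1 → g ∈ K := by
    obtain ⟨n, ρ, hirr, hρ⟩ := hψirr
    set L : Subgroup G := MonoidHom.ker ρ with hL
    have hLn : L.Normal := MonoidHom.normal_ker ρ
    have hmemL : ∀ g : G, g ∈ L ↔ ψ g = ψ 1 := by
      intro g
      rw [hL, MonoidHom.mem_ker, ← hρ, Representation.char_one]
      exact (Cfsg.Agent.S0139.result ρ g).symm
    have hKL : K ≤ L := fun k hk => (hmemL k).2 (hψK k hk)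
    have hLS : ∃ a b : G, a * b * a⁻¹ * b⁻¹ ∉ L := by
      by_contra hcon
      push Not at hcon
      have hcl : commutator G ≤ L := by
        rw [commutator_def, Subgroup.commutator_le]
        intro g₁ _ g₂ _
        rw [commutatorElement_def]
        exact hcon g₁ g₂
      have hψirr' : Cfsg.IsIrrCharacter G ψ := ⟨n, ρ, hirr, hρ⟩
      obtain ⟨ψ', hψ', hψ'eq⟩ := Cfsg.Agent.Lib.Helper8.exists_deflation (commutator G) hψirr'
        (fun g hg => (hmemL g).1 (hcl hg))
      have hab : ∀ a b : G ⧸ commutator G, a * b = b * a := fun a b =>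
        @mul_comm (Abelianization G) _ a b
      have h1 := (Cfsg.Agent.S0187.result (G := G ⧸ commutator G)).1 hab ⟨ψ', hψ'⟩
      have h3 : ψ 1 = 1 := by
        rw [← hψ'eq 1, QuotientGroup.mk_one]
        exact h1
      rw [hψ1] at h3
      have : p = 1 := by exact_mod_cast h3
      exact hp.one_lt.ne' this
    obtain ⟨a, b, hab⟩ := hLS
    have hLK : L ≤ K := hK.2 ⟨hLn, a, b, hab⟩ hKL
    intro g hg
    exact hLK ((hmemL g).2 hg)
  refine ⟨Z, ψ, hZn, hGZ, hψirr, hψ1, ?_, ?_⟩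
  · intro g hg
    rw [hmemZ] at hg
    push Not at hg
    obtain ⟨c, hc⟩ := hg
    -- e = c g c⁻¹ g⁻¹
    set e : G := c * g * c⁻¹ * g⁻¹ with he
    have heK : e ∉ K := by
      intro h
      apply hc
      have h0 : g * c * g⁻¹ * c⁻¹ = (c * g * c⁻¹ * g⁻¹)⁻¹ := by group
      rw [h0]
      exact K.inv_mem h
    have heZ : e ∈ Z := hGZ c g
    have hecent : ∀ c' : G, ψ (e * c' * e⁻¹ * c'⁻¹) = ψ 1 := fun c' =>
      hψK _ ((hmemZ e).1 heZ c')
    obtain ⟨ω, hω⟩ := apply_mul_of_central_mod_ker hψirr e hecent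
    have hω1 : ω ≠ 1 := by
      intro h
      apply heK
      apply hker
      have := hω 1
      rw [mul_one, h, one_mul] at this
      exact this
    have h1 : ψ (e * g) = ψ g := by
      have h0 : e * g = c * g * c⁻¹ := by rw [he]; group
      rw [h0]
      exact isClassFunction_irr hψirr g c
    rw [hω g] at h1
    have h3 : (ω - 1) * ψ g = 0 := by rw [sub_mul, h1, one_mul, sub_self]
    rcases mul_eq_zero.1 h3 with h | h
    · exact absurd (sub_eq_zero.1 h) hω1
    · exact h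
  · intro z hz
    have h1 := norm_eq_of_central_mod_ker hψirr z (fun c => hψK _ ((hmemZ z).1 hz c))
    rw [h1, hψ1]
    simp

/-- The index of the ramification subgroup. -/
theorem index_of_ramified (p : ℕ) (Z : Subgroup G) (ψ : G → ℂ)
    (hψ : Cfsg.IsIrrCharacter G ψ) (hvan : ∀ g, g ∉ Z → ψ g = 0)
    (hnorm : ∀ z ∈ Z, ‖ψ z‖ = p) : Nat.card G = p ^ 2 * Nat.card Z ∧ Z.index = p ^ 2 := by
  classical
  haveI : Fintype G := Fintype.ofFinite G
  haveI : Fintype Z := Fintype.ofFinite Z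
  have h1 := sum_norm_sq_irr hψ
  have h2 : ∑ g : G, ‖ψ g‖ ^ 2 = ∑ g : G, if g ∈ Z then ((p : ℝ) ^ 2) else 0 := by
    apply Finset.sum_congr rfl
    intro g _
    split_ifs with h
    · rw [hnorm g h]
    · rw [hvan g h]; simp
  rw [h2, Finset.sum_ite, Finset.sum_const_zero, add_zero, Finset.sum_const, nsmul_eq_mul] at h1
  have h3 : (Finset.univ.filter (fun g : G => g ∈ Z)).card = Nat.card Z := by
    rw [Nat.card_eq_fintype_card, Fintype.card_subtype]
  rw [h3] at h1
  have h4 : Nat.card G = p ^ 2 * Nat.card Z := by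
    have : ((Nat.card G : ℕ) : ℝ) = ((p ^ 2 * Nat.card Z : ℕ) : ℝ) := by
      rw [← h1]; push_cast; ring
    exact_mod_cast this
  refine ⟨h4, ?_⟩
  have h5 := Subgroup.card_mul_index Z
  rw [h4, mul_comm] at h5
  exact Nat.eq_of_mul_eq_mul_right Nat.card_pos h5
  
end Ramified

end Cfsg.Agent.Lib.Helper4.TD
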