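import Mathlib
import Cfsg.Agent.Lib.Helper4.TD8

set_option autoImplicit false

/-! Isaacs, Theorem 12.11, step 2: the ramification subgroup is abelian; inertia groups of its
linear characters have index dividing `p`. -/

namespace Cfsg.Agent.Lib.Helper4.TD

open Cfsg Cfsg.Agent.Lib.Helper1 Cfsg.Agent.Lib.Helper4
open scoped ComplexConjugate

universe u

section Step2

variable {G : Type u} [Group G] [Finite G]

/-- A character of degree `p²` of a group with character degrees `1` and `p` has norm at least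
`p`. -/
theorem norm_ge_of_H2 (p : ℕ) (hp : 0 < p) (h2 : H2 G p) [Fintype G] {Θ : G → ℂ}
    (hΘ : Cfsg.IsCharacter G Θ) (h1 : Θ 1 = (p : ℂ) * p) :
    ∃ k : ℕ, Cfsg.classInner Θ Θ = k ∧ p ≤ k := by
  classical
  have : Fintype (Cfsg.IrrCharacter G) := Fintype.ofFinite _
  have hcf := isClassFunction_of_isCharacter hΘ
  have hm : ∀ χ : Cfsg.IrrCharacter G, ∃ m : ℕ, Cfsg.classInner Θ χ = m :=
    fun χ => classInner_char_irr_nat hΘ χ.2
  choose m hm using hm
  have hd : ∀ χ : Cfsg.IrrCharacter G, ∃ d : ℕ, (χ : G → ℂ) 1 = d ∧ d ≤ p := by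
    intro χ
    rcases h2 χ χ.2 with h | h
    · exact ⟨1, by rw [h]; simp, hp⟩
    · exact ⟨p, h, le_rfl⟩
  choose d hd using hd
  have hpars := classInner_eq_sum_mult Θ Θ hcf
  have h3 : ∀ χ : Cfsg.IrrCharacter G, Cfsg.classInner (χ : G → ℂ) Θ = m χ := by
    intro χ
    rw [← classInner_conj_symm, hm χ, Complex.conj_natCast]
  simp only [hm, h3] at hpars
  refine ⟨∑ χ : Cfsg.IrrCharacter G, m χ * m χ, ?_, ?_⟩
  · rw [hpars]; push_cast; rfl
  · have hexp := congrFun (class_function_expansion Θ hcf) 1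
    rw [Finset.sum_apply] at hexp
    simp only [Pi.smul_apply, smul_eq_mul, hm] at hexp
    have h4 : p * p = ∑ χ : Cfsg.IrrCharacter G, m χ * d χ := by
      have : ((p * p : ℕ) : ℂ) = ((∑ χ : Cfsg.IrrCharacter G, m χ * d χ : ℕ) : ℂ) := by
        push_cast
        rw [← h1, hexp]
        apply Finset.sum_congr rfl
        intro χ _
        rw [(hd χ).1]
      exact_mod_cast this
    have h5 : ∑ χ : Cfsg.IrrCharacter G, m χ * d χ
        ≤ p * ∑ χ : Cfsg.IrrCharacter G, m χ * m χ := by
      rw [Finset.mul_sum]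
      apply Finset.sum_le_sum
      intro χ _
      have h6 : m χ * d χ ≤ m χ * p := Nat.mul_le_mul_left _ (hd χ).2
      have h7 : m χ ≤ m χ * m χ := Nat.le_mul_self _
      calc m χ * d χ ≤ m χ * p := h6
        _ = p * m χ := mul_comm _ _
        _ ≤ p * (m χ * m χ) := Nat.mul_le_mul_left _ h7
    rw [← h4] at h5
    exact Nat.le_of_mul_le_mul_left h5 hp

/-- The ramification subgroup is abelian. -/
theorem abelian_of_ramified (p : ℕ) (hp : p.Prime) (h2 : H2 G p) (Z : Subgroup G) [hZ : Z.Normal]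
    (ψ : G → ℂ) (hψ : Cfsg.IsIrrCharacter G ψ) (hψ1 : ψ 1 = p) (hvan : ∀ g, g ∉ Z → ψ g = 0)
    (hnorm : ∀ z ∈ Z, ‖ψ z‖ = p) : ∀ a ∈ Z, ∀ b ∈ Z, a * b = b * a := by
  classical
  haveI : Fintype G := Fintype.ofFinite G
  haveI : Fintype Z := Fintype.ofFinite Z
  suffices hlin : ∀ θ : Z → ℂ, Cfsg.IsIrrCharacter Z θ → θ 1 = 1 by
    have hc := comm_of_all_linear hlin
    intro a ha b hb
    exact congrArg Subtype.val (hc ⟨a, ha⟩ ⟨b, hb⟩)
  intro θ hθ
  obtain ⟨e, he, he0, -⟩ := irr_degree hθ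
  obtain ⟨χ, hχ, hcon⟩ := Cfsg.Agent.Lib.Helper2.CliffordDeg.exists_irr_over Z hθ
  obtain ⟨c, hc, -, -⟩ := irr_degree hχ
  have h3 := (Cfsg.Agent.S0887.result Z χ hχ θ hθ hcon c e hc he).1
  rcases h2 χ hχ with h | h
  · have hc1 : c = 1 := by
      have : (c : ℂ) = 1 := by rw [← hc, h]
      exact_mod_cast this
    rw [hc1] at h3
    rw [he, Nat.dvd_one.1 h3]
    simp
  · have hcp : c = p := by
      have : (c : ℂ) = (p : ℂ) := by rw [← hc, h]
      exact_mod_cast this
    rw [hcp] at h3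
    rcases (Nat.dvd_prime hp).1 h3 with h4 | h4
    · rw [he, h4]; simp
    · exfalso
      -- χ restricted to Z is θ
      have hresc : Cfsg.IsCharacter Z (fun z : Z => χ z) :=
        Cfsg.Agent.S0148.isCharacter_restrict Z (isCharacter_of_irr hχ)
      have h8 : (fun z : Z => χ z) = θ := eq_of_constituent_of_degree_eq hresc hθ hcon (by
        show χ ((1 : Z) : G) = θ 1
        rw [Subgroup.coe_one, h, he, h4])
      have h9 : Cfsg.classInner (fun z : Z => χ z) (fun z : Z => χ z) = 1 := by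
        rw [h8]; exact classInner_irr_self hθ
      -- the product character
      have hΘ : Cfsg.IsCharacter G (fun g => χ g * ψ g) :=
        Cfsg.Agent.S4996.isCharacter_mul (isCharacter_of_irr hχ) (isCharacter_of_irr hψ)
      obtain ⟨k, hk, hpk⟩ := norm_ge_of_H2 p hp.pos h2 hΘ (by
        show χ 1 * ψ 1 = (p : ℂ) * p
        rw [h, hψ1])
      obtain ⟨hcard, -⟩ := index_of_ramified p Z ψ hψ hvan hnorm
      have h10 : Cfsg.classInner (fun g => χ g * ψ g) (fun g => χ g * ψ g)
          = Cfsg.classInner (fun z : Z => χ z) (fun z : Z => χ z) := by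
        rw [classInner_def, classInner_def]
        rw [sum_eq_sum_subgroup Z (fun g => χ g * ψ g * conj (χ g * ψ g))]
        · have h11 : ∀ z : Z, χ z * ψ z * conj (χ z * ψ z)
              = (p : ℂ) ^ 2 * (χ z * conj (χ z)) := by
            intro z
            have h12 : ψ z * conj (ψ z) = (p : ℂ) ^ 2 := by
              rw [Complex.mul_conj, Complex.normSq_eq_norm_sq, hnorm z z.2]
              push_cast
              rfl
            rw [map_mul]
            calc χ z * ψ z * (conj (χ z) * conj (ψ z))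
                = (ψ z * conj (ψ z)) * (χ z * conj (χ z)) := by ring
              _ = _ := by rw [h12]
          rw [Finset.sum_congr rfl (fun z _ => h11 z), ← Finset.mul_sum, hcard]
          have hp0 : (p : ℂ) ≠ 0 := Nat.cast_ne_zero.2 hp.ne_zero
          have hZ0 : (Nat.card Z : ℂ) ≠ 0 := Nat.cast_ne_zero.2 Nat.card_pos.ne'
          push_cast
          field_simp
        · intro g hg
          rw [hvan g hg]
          simp
      rw [h10, h9] at hk
      have : k = 1 := by exact_mod_cast hk.symm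
      rw [this] at hpk
      exact absurd hpk (not_le.2 hp.one_lt)

/-- The inertia group of a linear character of a normal subgroup has index dividing `p`. -/
theorem inertia_index_dvd (p : ℕ) (h2 : H2 G p) (Z : Subgroup G) [hZ : Z.Normal]
    (lam : Z →* ℂˣ) : (inertia Z (fun z => ((lam z : ℂˣ) : ℂ))).index ∣ p := by
  classical
  haveI : Fintype G := Fintype.ofFinite G
  haveI : Fintype Z := Fintype.ofFinite Z
  set θ : Z → ℂ := fun z => ((lam z : ℂˣ) : ℂ) with hθdef
  have hθ : Cfsg.IsIrrCharacter Z θ := isIrrCharacter_of_hom lam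
  obtain ⟨χ, hχ, hcon⟩ := Cfsg.Agent.Lib.Helper2.CliffordDeg.exists_irr_over Z hθ
  set T : Subgroup G := inertia Z θ with hT
  haveI : Fintype T := Fintype.ofFinite T
  have hZT : Z ≤ T := le_inertia Z (isClassFunction_irr hθ)
  obtain ⟨ξ, hξ, hχξ, -⟩ := clifford_correspondence Z θ hθ χ hχ hcon T hT hZT
  obtain ⟨d, hd, hd0, -⟩ := irr_degree hξ
  have hdeg : χ 1 = ((T.index * d : ℕ) : ℂ) := by
    rw [hχξ, Cfsg.Agent.S0170.indFun_one, ← Subgroup.card_mul_index T, hd]
    have hT0 : (Nat.card T : ℂ) ≠ 0 := Nat.cast_ne_zero.2 Nat.card_pos.ne'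
    push_cast
    field_simp
  rcases h2 χ hχ with h | h
  · rw [h] at hdeg
    have h1 : T.index * d = 1 := by exact_mod_cast hdeg.symm
    rw [Nat.eq_one_of_mul_eq_one_right h1]
    exact one_dvd p
  · rw [h] at hdeg
    have h1 : T.index * d = p := by exact_mod_cast hdeg.symm
    exact ⟨d, h1.symm⟩

end Step2

end Cfsg.Agent.Lib.Helper4.TD
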