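import Mathlib
import Cfsg.Agent.Lib.Helper4.TD9
import Cfsg.Agent.Lib.Helper4.TD12
import Cfsg.Agent.S0179
import Cfsg.Agent.S1492

set_option autoImplicit false

/-! Isaacs, Theorem 12.11: character degrees `1` and `p`. -/

namespace Cfsg.Agent.Lib.Helper4.TD

open Cfsg Cfsg.Agent.Lib.Helper1 Cfsg.Agent.Lib.Helper4
open scoped ComplexConjugate

universe u

section Main

variable {G : Type u} [Group G] [Finite G]

theorem mem_inertia_iff_fix (Z : Subgroup G) [hZ : Z.Normal] (lam : Z →* ℂˣ) (g : G) :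
    g ∈ inertia Z (fun z => ((lam z : ℂˣ) : ℂ)) ↔ Fix Z lam g := by
  rw [mem_inertia]
  constructor
  · intro h z
    have := congrFun h z
    exact Units.ext this
  · intro h
    funext z
    show ((lam ⟨g * z * g⁻¹, hZ.conj_mem z z.2 g⟩ : ℂˣ) : ℂ) = ((lam z : ℂˣ) : ℂ)
    rw [h z]

/-- The key case of Isaacs 12.11. -/
theorem center_index_of_nilpotent (p : ℕ) (hp : p.Prime) (h2 : H2 G p)
    (hnab : ∃ a b : G, a * b ≠ b * a) (hk : ∃ k : ℕ, (Subgroup.center G).index = p ^ k)
    (hno : ¬ ∃ A : Subgroup G, A.Normal ∧ (∀ a ∈ A, ∀ b ∈ A, a * b = b * a) ∧ A.index = p) :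
    (Subgroup.center G).index = p ^ 3 := by
  classical
  haveI : Fact p.Prime := ⟨hp⟩
  have hnil : Group.IsNilpotent G := by
    apply Group.of_quotient_center_nilpotent
    obtain ⟨k, hk⟩ := hk
    have : IsPGroup p (G ⧸ Subgroup.center G) := by
      apply IsPGroup.of_card (n := k)
      rw [← Subgroup.index_eq_card, hk]
    exact this.isNilpotent
  obtain ⟨Z, ψ, hZn, hGZ, hψ, hψ1, hvan, hnorm⟩ := exists_ramified p hp h2 hnil hnab
  have hZab := abelian_of_ramified p hp h2 Z ψ hψ hψ1 hvan hnorm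
  obtain ⟨-, hidx⟩ := index_of_ramified p Z ψ hψ hvan hnorm
  have hstab : ∀ lam : Z →* ℂˣ, ∃ T : Subgroup G, (∀ g, g ∈ T ↔ Fix Z lam g) ∧ T.index ∣ p :=
    fun lam => ⟨_, fun g => mem_inertia_iff_fix Z lam g, inertia_index_dvd p h2 Z lam⟩
  have hfaith : ∀ a : G, a ∉ Z → ∃ z ∈ Z, a * z ≠ z * a := by
    intro a ha
    by_contra hcon
    push Not at hcon
    set S : Set G := (Z : Set G) ∪ {a} with hS
    have hSS : ∀ x ∈ S, ∀ y ∈ S, x * y = y * x := by
      intro x hx y hy
      rcases hx with hx | hx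
      · rcases hy with hy | hy
        · exact hZab x hx y hy
        · rw [Set.mem_singleton_iff] at hy
          rw [hy]
          exact (hcon x hx).symm
      · rw [Set.mem_singleton_iff] at hx
        rcases hy with hy | hy
        · rw [hx]
          exact hcon y hy
        · rw [Set.mem_singleton_iff] at hy
          rw [hx, hy]
    set A : Subgroup G := Subgroup.closure S with hA
    have h1 : A ≤ Subgroup.centralizer S := by
      rw [hA, Subgroup.closure_le]
      intro x hx
      rw [SetLike.mem_coe, Subgroup.mem_centralizer_iff]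
      intro y hy
      exact hSS y hy x hx
    have h3 : A ≤ Subgroup.centralizer (A : Set G) := by
      conv_lhs => rw [hA]
      rw [Subgroup.closure_le]
      intro x hx
      rw [SetLike.mem_coe, Subgroup.mem_centralizer_iff]
      intro y hy
      exact ((Subgroup.mem_centralizer_iff.1 (h1 hy)) x hx).symm
    have hAab : ∀ x ∈ A, ∀ y ∈ A, x * y = y * x := by
      intro x hx y hy
      exact (Subgroup.mem_centralizer_iff.1 (h3 hy)) x hx
    have hZA : Z ≤ A := by
      intro z hz
      exact Subgroup.subset_closure (Or.inl hz)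
    have haA : a ∈ A := Subgroup.subset_closure (Or.inr rfl)
    have hAn : A.Normal := by
      constructor
      intro x hx g
      have h0 : g * x * g⁻¹ = (g * x * g⁻¹ * x⁻¹) * x := by group
      rw [h0]
      exact A.mul_mem (hZA (hGZ g x)) hx
    have hdvd : A.index ∣ p ^ 2 := by
      rw [← hidx]
      exact Subgroup.index_dvd_of_le hZA
    obtain ⟨j, hj2, hj⟩ := (Nat.dvd_prime_pow hp).1 hdvd
    interval_cases j
    · -- A = ⊤
      rw [pow_zero] at hj
      have hAtop : A = ⊤ := Subgroup.index_eq_one.1 hj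
      obtain ⟨x, y, hxy⟩ := hnab
      apply hxy
      apply hAab
      · rw [hAtop]; trivial
      · rw [hAtop]; trivial
    · rw [pow_one] at hj
      exact hno ⟨A, hAn, hAab, hj⟩
    · have h4 := Subgroup.relIndex_mul_index hZA
      rw [hj, hidx] at h4
      have h5 : Z.relIndex A = 1 :=
        Nat.eq_of_mul_eq_mul_right (pow_pos hp.pos 2) (by rw [h4, one_mul])
      exact ha (Subgroup.relIndex_eq_one.1 h5 haA)
  exact center_index_of_stab Z p hp hZab hGZ hidx hstab hfaith hk

/-- Isaacs 12.11, forward direction. -/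
theorem degrees_one_p_forward (p : ℕ) (hp : p.Prime) (h2 : H2 G p)
    (hex : ∃ χ : G → ℂ, Cfsg.IsIrrCharacter G χ ∧ χ 1 = (p : ℂ))
    (hnab : ∃ a b : G, a * b ≠ b * a) :
    (∃ A : Subgroup G, A.Normal ∧ (∀ a ∈ A, ∀ b ∈ A, a * b = b * a) ∧ A.index = p) ∨
      (Subgroup.center G).index = p ^ 3 := by
  by_cases hno : ∃ A : Subgroup G, A.Normal ∧ (∀ a ∈ A, ∀ b ∈ A, a * b = b * a) ∧ A.index = p
  · exact Or.inl hno
  right
  rcases two_degrees p h2 hex hp.ne_one with h | ⟨p', e, hp', hpe, P, A₀, hPn, hAn, hP, hAab, hPA, hPAtop⟩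
  · exact absurd h hno
  have he1 : e = 1 := by
    rw [hpe] at hp
    exact Nat.Prime.eq_one_of_pow hp
  rw [he1, pow_one] at hpe
  rw [← hpe] at hP
  apply center_index_of_nilpotent p hp h2 hnab _ hno
  -- A₀ is central
  have hAc : A₀ ≤ Subgroup.center G := by
    intro x hx
    have h1 : P ≤ Subgroup.centralizer {x} := by
      intro y hy
      rw [Subgroup.mem_centralizer_iff]
      intro z hz
      rw [Set.mem_singleton_iff] at hz
      rw [hz]
      have hdis : Disjoint A₀ P := by
        rw [disjoint_iff, inf_comm]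
        exact hPA
      exact (Subgroup.commute_of_normal_of_disjoint A₀ P hAn hPn hdis x y hx hy)
    have h3 : A₀ ≤ Subgroup.centralizer {x} := by
      intro y hy
      rw [Subgroup.mem_centralizer_iff]
      intro z hz
      rw [Set.mem_singleton_iff] at hz
      rw [hz]
      exact hAab x hx y hy
    have h4 : (⊤ : Subgroup G) ≤ Subgroup.centralizer {x} := by
      rw [← hPAtop]
      exact sup_le h1 h3
    rw [Subgroup.mem_center_iff]
    intro g
    have := Subgroup.mem_centralizer_iff.1 (h4 (Subgroup.mem_top g)) x rfl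
    exact this.symm
  have h5 : (Subgroup.center G).index ∣ A₀.index := Subgroup.index_dvd_of_le hAc
  haveI := hAn
  have h6 : Nat.card P = A₀.index := card_compl A₀ P (by rw [inf_comm]; exact hPA) hPAtop
  haveI : Fact p.Prime := ⟨hp⟩
  obtain ⟨m, hm⟩ := IsPGroup.exists_card_eq hP
  rw [← h6, hm] at h5
  obtain ⟨k, -, hk⟩ := (Nat.dvd_prime_pow hp).1 h5
  exact ⟨k, hk⟩

/-- Isaacs 12.11, converse, case of an abelian subgroup of index `p`. -/
theorem degrees_of_abelian_index (p : ℕ) (hp : p.Prime) (A : Subgroup G) [hAn : A.Normal]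
    (hAab : ∀ a ∈ A, ∀ b ∈ A, a * b = b * a) (hidx : A.index = p) : H2 G p := by
  classical
  haveI : Fintype G := Fintype.ofFinite G
  haveI : Fintype A := Fintype.ofFinite A
  intro χ hχ
  obtain ⟨c, hc, hc0, -⟩ := irr_degree hχ
  have hresc : Cfsg.IsCharacter A (fun a : A => χ a) :=
    Cfsg.Agent.S0148.isCharacter_restrict A (isCharacter_of_irr hχ)
  have h1 : (fun a : A => χ a) 1 ≠ 0 := by
    show χ ((1 : A) : G) ≠ 0
    rw [Subgroup.coe_one, hc]
    exact Nat.cast_ne_zero.2 hc0.ne'
  obtain ⟨θ, hθ, k, hk0, hk⟩ := exists_constituent hresc h1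
  have hcon : Cfsg.classInner (fun a : A => χ a) θ ≠ 0 := by
    rw [hk]; exact Nat.cast_ne_zero.2 hk0.ne'
  have hθ1 : θ 1 = ((1 : ℕ) : ℂ) := by
    have hab : ∀ a b : A, a * b = b * a := fun a b => Subtype.ext (hAab a a.2 b b.2)
    have h0 : θ 1 = 1 := (Cfsg.Agent.S0187.result (G := A)).1 hab ⟨θ, hθ⟩
    rw [h0]; simp
  have h3 := (Cfsg.Agent.S0887.result A χ hχ θ hθ hcon c 1 hc hθ1).2
  rw [Nat.div_one, hidx] at h3
  rcases (Nat.dvd_prime hp).1 h3 with h4 | h4
  · left; rw [hc, h4]; simp
  · right; rw [hc, h4]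

/-- Isaacs 12.11, converse, case `|G : Z(G)| = p³`. -/
theorem degrees_of_center_index (p : ℕ) (hp : p.Prime)
    (hidx : (Subgroup.center G).index = p ^ 3) : H2 G p := by
  classical
  haveI : Fintype G := Fintype.ofFinite G
  intro χ hχ
  obtain ⟨c, hc, hc0, -⟩ := irr_degree hχ
  -- c divides p³
  have hdvd : c ∣ p ^ 3 := by
    obtain ⟨n, ρ, hirr, hρ⟩ := hχ
    haveI := hirr
    have h1 := Cfsg.Agent.S0179.result ρ
    rw [hidx] at h1
    have h3 : (c : ℂ) = (n : ℂ) := by
      rw [← hc, ← hρ, Representation.char_one]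
      simp
    have h4 : c = n := by exact_mod_cast h3
    rw [h4]
    simpa using h1
  -- c² ≤ p³
  have hle : c ^ 2 ≤ p ^ 3 := by
    have h1 := Cfsg.Agent.S1492.result χ hχ ⊥ ⊤ (Subgroup.center G) bot_le le_top
      (by
        intro x _ b hb
        rw [Subgroup.mem_bot] at hb ⊢
        rw [hb]; group)
      (by
        intro d hd x _
        rw [Subgroup.mem_bot]
        have := Subgroup.mem_center_iff.1 hd x
        rw [← this]
        group)
      (by
        intro b hb
        rw [Subgroup.mem_bot] at hb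
        rw [hb])
    rw [hc] at h1
    have hcard : Nat.card G = p ^ 3 * Nat.card (Subgroup.center G) := by
      rw [← hidx, Subgroup.index_mul_card]
    have hz0 : 0 < Nat.card (Subgroup.center G) := Nat.card_pos
    have hg0 : 0 < Nat.card G := Nat.card_pos
    have h3 : Nat.card (⊤ : Subgroup G) = Nat.card G := Subgroup.card_top
    rw [h3] at h1
    have h4 : ((c ^ 2 * Nat.card G * Nat.card (Subgroup.center G) : ℕ) : ℝ)
        ≤ ((Nat.card G ^ 2 : ℕ) : ℝ) := by
      push_cast
      have : ‖(c : ℂ)‖ = (c : ℝ) := by simp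
      rw [this] at h1
      exact h1
    have h5 : c ^ 2 * Nat.card G * Nat.card (Subgroup.center G) ≤ Nat.card G ^ 2 := by
      exact_mod_cast h4
    have h6 : (c ^ 2 * Nat.card (Subgroup.center G)) * Nat.card G
        ≤ Nat.card G * Nat.card G := by
      calc (c ^ 2 * Nat.card (Subgroup.center G)) * Nat.card G
          = c ^ 2 * Nat.card G * Nat.card (Subgroup.center G) := by ring
        _ ≤ Nat.card G ^ 2 := h5
        _ = Nat.card G * Nat.card G := by ring
    have h7 : c ^ 2 * Nat.card (Subgroup.center G) ≤ Nat.card G :=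
      Nat.le_of_mul_le_mul_right h6 hg0
    rw [hcard] at h7
    exact Nat.le_of_mul_le_mul_right h7 hz0
  obtain ⟨j, hj3, hj⟩ := (Nat.dvd_prime_pow hp).1 hdvd
  have hj1 : j ≤ 1 := by
    by_contra hcon
    push Not at hcon
    have h1 : p ^ 4 ≤ c ^ 2 := by
      rw [hj, ← pow_mul]
      exact Nat.pow_le_pow_right hp.pos (by omega)
    have h2 : p ^ 3 < p ^ 4 := Nat.pow_lt_pow_right hp.one_lt (by norm_num)
    omega
  interval_cases j
  · left; rw [hc, hj]; simp
  · right; rw [hc, hj]; simp

end Main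

end Cfsg.Agent.Lib.Helper4.TD
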