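import Mathlib
import Cfsg.Agent.Lib.Helper4.TD13
import Cfsg.Agent.Lib.Helper8.Deflation

set_option autoImplicit false

/-! Tools for groups with a unique irreducible character of given degree. -/

namespace Cfsg.Agent.Lib.Helper4.TE

open Cfsg Cfsg.Agent.Lib.Helper1 Cfsg.Agent.Lib.Helper4 Cfsg.Agent.Lib.Helper4.TD
open scoped ComplexConjugate

universe u

section Basic

variable {G : Type u} [Group G] [Finite G]

/-- An element outside the commutator subgroup is detected by a linear character. -/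
theorem exists_hom_ne_one (x : G) (hx : x ∉ commutator G) : ∃ μ : G →* ℂˣ, μ x ≠ 1 := by
  have hne : (Abelianization.of x : Abelianization G) ≠ 1 := by
    intro h
    apply hx
    have : x ∈ (Abelianization.of : G →* Abelianization G).ker := h
    rwa [Abelianization.ker_of] at this
  have : NeZero (Monoid.exponent (Abelianization G)) := ⟨Monoid.exponent_ne_zero_of_finite⟩
  obtain ⟨φ, hφ⟩ := CommGroup.exists_apply_ne_one_of_hasEnoughRootsOfUnity (Abelianization G) ℂ hne
  exact ⟨φ.comp Abelianization.of, hφ⟩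

/-- An irreducible character which is the only one of its degree vanishes off the commutator
subgroup. -/
theorem vanish_of_unique {χ₀ : G → ℂ} (hχ₀ : Cfsg.IsIrrCharacter G χ₀)
    (huniq : ∀ ψ : G → ℂ, Cfsg.IsIrrCharacter G ψ → ψ 1 = χ₀ 1 → ψ = χ₀)
    (x : G) (hx : x ∉ commutator G) : χ₀ x = 0 := by
  classical
  haveI : Fintype G := Fintype.ofFinite G
  obtain ⟨μ, hμ⟩ := exists_hom_ne_one x hx
  have h1 := isIrrCharacter_hom_mul μ hχ₀
  have h2 := huniq _ h1 (by simp)
  have h3 : ((μ x : ℂˣ) : ℂ) * χ₀ x = χ₀ x := congrFun h2 x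
  have h4 : ((μ x : ℂˣ) : ℂ) ≠ 1 := by
    intro h
    apply hμ
    exact Units.ext h
  have h5 : (((μ x : ℂˣ) : ℂ) - 1) * χ₀ x = 0 := by
    rw [sub_mul, h3, one_mul, sub_self]
  rcases mul_eq_zero.1 h5 with h | h
  · exact absurd (sub_eq_zero.1 h) h4
  · exact h

/-- An irreducible character trivial on the commutator subgroup is linear. -/
theorem linear_of_trivial_on_commutator {χ : G → ℂ} (hχ : Cfsg.IsIrrCharacter G χ)
    (h : ∀ c ∈ commutator G, χ c = χ 1) : χ 1 = 1 := by
  obtain ⟨ψ, hψ, hψχ⟩ := Cfsg.Agent.Lib.Helper8.exists_deflation (commutator G) hχ h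
  have h1 : ∀ a b : G ⧸ commutator G, a * b = b * a := fun a b =>
    @mul_comm (Abelianization G) _ a b
  have h2 := (Cfsg.Agent.S0187.result).1 h1 ⟨ψ, hψ⟩
  have h3 := hψχ 1
  rw [QuotientGroup.mk_one] at h3
  rw [← h3]
  exact h2

end Basic

end Cfsg.Agent.Lib.Helper4.TE
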