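import Mathlib
import Cfsg.Agent.Lib.Helper2.AltGenW

/-!
# Livingstone–Wagner (b) and the Jordan-type lemma (S0747 / S0748): shared definitions

See `notes/S0747_S0748_PROOF_helper4.md`.
-/

set_option autoImplicit false

namespace Cfsg.Agent.Lib.Helper4.LWB

open MulAction

/-- 2-adic valuation -/
def v2 (n : ℕ) : ℕ := n.factorization 2

variable {α : Type*} [Fintype α] [DecidableEq α]

/-- pointwise stabiliser of a finset -/
abbrev fx (G : Subgroup (Equiv.Perm α)) (S : Finset α) : Subgroup G :=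
  fixingSubgroup G (S : Set α)

/-- every pair of `Δ` is swapped by an element of `G` fixing the rest of `Δ` pointwise -/
def Swappable (G : Subgroup (Equiv.Perm α)) (Δ : Finset α) : Prop :=
  ∀ x ∈ Δ, ∀ y ∈ Δ, x ≠ y → ∃ g ∈ G, g x = y ∧ g y = x ∧ ∀ z ∈ Δ, z ≠ x → z ≠ y → g z = z

/-- every even permutation of `Δ` is induced by `G` -/
def AltInduced (G : Subgroup (Equiv.Perm α)) (Δ : Finset α) : Prop :=
  ∀ σ : Equiv.Perm ↥Δ, σ ∈ alternatingGroup ↥Δ → ∃ g ∈ G, ∀ x : ↥Δ, g (x : α) = σ x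

section struct

open Cfsg.Agent.Lib.Helper2.AltGen

variable (G : Subgroup (Equiv.Perm α)) {t : ℕ} (δ : Fin t ↪ α)
  (P : Sylow 2 (fixingSubgroup G (Set.range δ)))

open scoped Classical in
/-- the fixed points of (the image in `G` of) `P` -/
noncomputable def FF : Finset α := Finset.univ.filter (fun z => ∀ h ∈ wittP δ P, h • z = z)

theorem mem_FF (z : α) : z ∈ FF G δ P ↔ ∀ h ∈ wittP δ P, h • z = z := by
  classical
  simp [FF]

/-- the group induced on `FF` by the normaliser of `P` -/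
def NN : Subgroup (Equiv.Perm ↥(FF G δ P)) where
  carrier := {ν | ∃ g : G, g ∈ Subgroup.normalizer ((wittP δ P : Subgroup G) : Set G) ∧
    ∀ z : ↥(FF G δ P), (g : Equiv.Perm α) (z : α) = ν z}
  mul_mem' := by
    rintro ν₁ ν₂ ⟨g₁, hg₁, h₁⟩ ⟨g₂, hg₂, h₂⟩
    refine ⟨g₁ * g₂, Subgroup.mul_mem _ hg₁ hg₂, fun z => ?_⟩
    have e1 : ((g₁ * g₂ : G) : Equiv.Perm α) (z : α) =
        (g₁ : Equiv.Perm α) ((g₂ : Equiv.Perm α) (z : α)) := rfl
    rw [e1, h₂ z, h₁ (ν₂ z)]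
    rfl
  one_mem' := ⟨1, Subgroup.one_mem _, fun z => rfl⟩
  inv_mem' := by
    rintro ν ⟨g, hg, h⟩
    refine ⟨g⁻¹, Subgroup.inv_mem _ hg, fun z => ?_⟩
    have h1 := h (ν⁻¹ z)
    have h2 : ν (ν⁻¹ z) = z := by simp
    rw [h2] at h1
    have e1 : ((g⁻¹ : G) : Equiv.Perm α) (z : α) = (g : Equiv.Perm α)⁻¹ (z : α) := rfl
    rw [e1, Equiv.Perm.inv_eq_iff_eq]
    exact h1.symm

theorem mem_NN (ν : Equiv.Perm ↥(FF G δ P)) :
    ν ∈ NN G δ P ↔ ∃ g : G, g ∈ Subgroup.normalizer ((wittP δ P : Subgroup G) : Set G) ∧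
      ∀ z : ↥(FF G δ P), (g : Equiv.Perm α) (z : α) = ν z := Iff.rfl

end struct

end Cfsg.Agent.Lib.Helper4.LWB
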