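import Mathlib
import Cfsg.Agent.Lib.Helper8.SmTwoB
import Cfsg.Agent.Lib.Helper4.NgpDefs

set_option autoImplicit false

/-! S1904, package NG: maximal invariant abelian subgroups. -/

namespace Cfsg.Agent.Lib.Helper4.Ngp

open Cfsg.Agent.Lib.Helper8.SmTwo
open scoped commutatorElement

universe u

variable {G : Type u} [Group G]

theorem exists_isMaxInvAb [Finite G] (X A K : Subgroup G) (hK : Inv X A K) (hab : IsAb K) :
    ∃ U : Subgroup G, IsMaxInvAb X A U ∧ K ≤ U := by
  classical
  let S := {N : Subgroup G // Inv X A N ∧ IsAb N ∧ K ≤ N}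
  have : Nonempty S := ⟨⟨K, hK, hab, le_rfl⟩⟩
  obtain ⟨U, hU⟩ := Finite.exists_max (fun N : S => Nat.card N.1)
  refine ⟨U.1, ⟨U.2.1, U.2.2.1, fun M hM hMab hUM => ?_⟩, U.2.2.2⟩
  have h1 := hU ⟨M, hM, hMab, U.2.2.2.trans hUM⟩
  have h2 : Nat.card U.1 ≤ Nat.card M := Subgroup.card_le_of_le hUM
  have h3 : Nat.card M = Nat.card U.1 := le_antisymm h1 h2
  exact (Subgroup.eq_of_le_of_card_ge hUM (le_of_eq h3)).symm

theorem inv_center (X A : Subgroup G) (hAX : A ≤ Subgroup.normalizer (X : Set G)) :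
    Inv X A (X ⊓ Subgroup.centralizer (X : Set G)) := by
  have key : ∀ g ∈ Subgroup.normalizer (X : Set G), ∀ k ∈ X ⊓ Subgroup.centralizer (X : Set G),
      g * k * g⁻¹ ∈ X ⊓ Subgroup.centralizer (X : Set G) := by
    intro g hg k hk
    obtain ⟨hkX, hkC⟩ := Subgroup.mem_inf.mp hk
    refine Subgroup.mem_inf.mpr ⟨conj_mem_of_mem_normalizer hg hkX, ?_⟩
    rw [Subgroup.mem_centralizer_iff]
    intro x hx
    have hx' : g⁻¹ * x * g ∈ X := conj_inv_mem_of_mem_normalizer hg hx
    have h := Subgroup.mem_centralizer_iff.mp hkC _ hx'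
    calc x * (g * k * g⁻¹) = g * ((g⁻¹ * x * g) * k) * g⁻¹ := by group
      _ = g * (k * (g⁻¹ * x * g)) * g⁻¹ := by rw [h]
      _ = g * k * g⁻¹ * x := by group
  have hN : Subgroup.normalizer (X : Set G) ≤
      Subgroup.normalizer ((X ⊓ Subgroup.centralizer (X : Set G) : Subgroup G) : Set G) := by
    intro g hg
    refine mem_normalizer_of_conj_mem (key g hg) (fun k hk => ?_)
    have := key g⁻¹ (Subgroup.inv_mem _ hg) k hk
    simpa using this
  exact ⟨inf_le_left, Subgroup.le_normalizer.trans hN, hAX.trans hN⟩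

theorem center_le_of_isMaxInvAb (X A U : Subgroup G) (hAX : A ≤ Subgroup.normalizer (X : Set G))
    (hU : IsMaxInvAb X A U) : X ⊓ Subgroup.centralizer (X : Set G) ≤ U := by
  obtain ⟨hUinv, hUab, hmax⟩ := hU
  have hZ := inv_center X A hAX
  -- `U ⊔ Z` is invariant abelian
  have hinv : Inv X A (U ⊔ (X ⊓ Subgroup.centralizer (X : Set G))) := by
    refine ⟨sup_le hUinv.1 hZ.1, ?_, ?_⟩
    · intro g hg
      have h1 := hUinv.2.1 hg
      have h2 := hZ.2.1 hg
      have key : ∀ g : G, g ∈ Subgroup.normalizer (U : Set G) →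
          g ∈ Subgroup.normalizer ((X ⊓ Subgroup.centralizer (X : Set G) : Subgroup G) : Set G) →
          ∀ k ∈ U ⊔ (X ⊓ Subgroup.centralizer (X : Set G)),
          g * k * g⁻¹ ∈ U ⊔ (X ⊓ Subgroup.centralizer (X : Set G)) := by
        intro g h1 h2
        have hle : U ⊔ (X ⊓ Subgroup.centralizer (X : Set G)) ≤
            (U ⊔ (X ⊓ Subgroup.centralizer (X : Set G))).comap (MulAut.conj g).toMonoidHom := by
          apply sup_le
          · intro k hk
            rw [Subgroup.mem_comap]
            exact (le_sup_left : U ≤ _) (conj_mem_of_mem_normalizer h1 hk)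
          · intro k hk
            rw [Subgroup.mem_comap]
            exact (le_sup_right : _ ≤ U ⊔ _) (conj_mem_of_mem_normalizer h2 hk)
        intro k hk
        exact hle hk
      refine mem_normalizer_of_conj_mem (key g h1 h2) (fun k hk => ?_)
      have := key g⁻¹ (Subgroup.inv_mem _ h1) (Subgroup.inv_mem _ h2) k hk
      simpa using this
    · intro g hg
      have h1 := hUinv.2.2 hg
      have h2 := hZ.2.2 hg
      have key : ∀ g : G, g ∈ Subgroup.normalizer (U : Set G) →
          g ∈ Subgroup.normalizer ((X ⊓ Subgroup.centralizer (X : Set G) : Subgroup G) : Set G) →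
          ∀ k ∈ U ⊔ (X ⊓ Subgroup.centralizer (X : Set G)),
          g * k * g⁻¹ ∈ U ⊔ (X ⊓ Subgroup.centralizer (X : Set G)) := by
        intro g h1 h2
        have hle : U ⊔ (X ⊓ Subgroup.centralizer (X : Set G)) ≤
            (U ⊔ (X ⊓ Subgroup.centralizer (X : Set G))).comap (MulAut.conj g).toMonoidHom := by
          apply sup_le
          · intro k hk
            rw [Subgroup.mem_comap]
            exact (le_sup_left : U ≤ _) (conj_mem_of_mem_normalizer h1 hk)
          · intro k hk
            rw [Subgroup.mem_comap]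
            exact (le_sup_right : _ ≤ U ⊔ _) (conj_mem_of_mem_normalizer h2 hk)
        intro k hk
        exact hle hk
      refine mem_normalizer_of_conj_mem (key g h1 h2) (fun k hk => ?_)
      have := key g⁻¹ (Subgroup.inv_mem _ h1) (Subgroup.inv_mem _ h2) k hk
      simpa using this
  have hab : IsAb (U ⊔ (X ⊓ Subgroup.centralizer (X : Set G))) := by
    -- generated by pairwise commuting elements
    have hgen : U ⊔ (X ⊓ Subgroup.centralizer (X : Set G)) =
        Subgroup.closure ((U : Set G) ∪ ((X ⊓ Subgroup.centralizer (X : Set G) : Subgroup G) : Set G)) := by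
      rw [Subgroup.closure_union, Subgroup.closure_eq, Subgroup.closure_eq]
    have hS : ∀ a ∈ (U : Set G) ∪ ((X ⊓ Subgroup.centralizer (X : Set G) : Subgroup G) : Set G),
        ∀ b ∈ (U : Set G) ∪ ((X ⊓ Subgroup.centralizer (X : Set G) : Subgroup G) : Set G),
        a * b = b * a := by
      rintro a (ha | ha) b (hb | hb)
      · exact hUab a ha b hb
      · exact (Subgroup.mem_centralizer_iff.mp (Subgroup.mem_inf.mp hb).2 a (hUinv.1 ha))
      · exact (Subgroup.mem_centralizer_iff.mp (Subgroup.mem_inf.mp ha).2 b (hUinv.1 hb)).symm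
      · exact (Subgroup.mem_centralizer_iff.mp (Subgroup.mem_inf.mp ha).2 b
          (Subgroup.mem_inf.mp hb).1).symm
    rw [hgen]
    set S := (U : Set G) ∪ ((X ⊓ Subgroup.centralizer (X : Set G) : Subgroup G) : Set G) with hSdef
    have h1 : Subgroup.closure S ≤ Subgroup.centralizer S := by
      rw [Subgroup.closure_le]
      intro s hs
      rw [SetLike.mem_coe, Subgroup.mem_centralizer_iff]
      intro b hb
      exact hS b hb s hs
    intro a ha b hb
    have h3 : Subgroup.closure S ≤ Subgroup.centralizer (Subgroup.closure S : Set G) := by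
      rw [Subgroup.closure_le]
      intro s hs
      rw [SetLike.mem_coe, Subgroup.mem_centralizer_iff]
      intro g hg
      exact (Subgroup.mem_centralizer_iff.mp (h1 hg) s hs).symm
    exact Subgroup.mem_centralizer_iff.mp (h3 hb) a ha
  have := hmax _ hinv hab le_sup_left
  rw [← this]
  exact le_sup_right

/-- three subgroups: an invariant subgroup centralized by `A` is central in `X = [X, A]` -/
theorem le_centralizer_of_le_centralizer (X A U : Subgroup G) (hcomm : ⁅X, A⁆ = X)
    (hU : Inv X A U) (hc : A ≤ Subgroup.centralizer (U : Set G)) :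
    U ≤ Subgroup.centralizer (X : Set G) := by
  have hAU : ⁅A, U⁆ = ⊥ := Subgroup.commutator_eq_bot_iff_le_centralizer.mpr hc
  have hUA : ⁅U, A⁆ = ⊥ := by rw [Subgroup.commutator_comm]; exact hAU
  have hUX : ⁅U, X⁆ ≤ U := by
    rw [Subgroup.commutator_le]
    intro q hq y hy
    have h1 : y * q⁻¹ * y⁻¹ ∈ U := conj_mem_of_mem_normalizer (hU.2.1 hy) (U.inv_mem hq)
    have e : ⁅q, y⁆ = q * (y * q⁻¹ * y⁻¹) := by rw [commutatorElement_def]; group
    rw [e]
    exact U.mul_mem hq h1
  have h1 : ⁅⁅A, U⁆, X⁆ = ⊥ := by rw [hAU, Subgroup.commutator_bot_left]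
  have h2 : ⁅⁅U, X⁆, A⁆ = ⊥ := by
    rw [eq_bot_iff, ← hUA]
    exact Subgroup.commutator_mono hUX le_rfl
  have h3 : ⁅⁅X, A⁆, U⁆ = ⊥ := Subgroup.commutator_commutator_eq_bot_of_rotate h1 h2
  rw [hcomm] at h3
  have h4 : ⁅U, X⁆ = ⊥ := by rw [Subgroup.commutator_comm]; exact h3
  exact Subgroup.commutator_eq_bot_iff_le_centralizer.mp h4

end Cfsg.Agent.Lib.Helper4.Ngp
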