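import Mathlib
import Cfsg.Agent.Lib.Helper3.RUDefs
import Cfsg.Agent.Lib.Helper3.RU_R1

set_option autoImplicit false
set_option linter.unusedSectionVars false
set_option linter.unusedVariables false

/-! S2522 PK-R2: the vector `z` (`exists_z`). -/

namespace Cfsg.Agent.Lib.Helper3.RUProd

open Module

universe u v

variable {K : Type u} [Field K] {V : Type v} [AddCommGroup V] [Module K V]

theorem r2_Uc_ne_top [FiniteDimensional K V] (N : Module.End K V)
    (hrk : 2 ≤ finrank K (LinearMap.range N)) (c0 : V) (hc0 : c0 ≠ 0) :
    Submodule.comap N (Submodule.span K {c0}) ≠ ⊤ := by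
  intro h
  have hle : LinearMap.range N ≤ Submodule.span K {c0} := by
    rintro _ ⟨v, rfl⟩
    have : v ∈ Submodule.comap N (Submodule.span K {c0}) := by rw [h]; exact Submodule.mem_top
    exact this
  have := Submodule.finrank_mono hle
  rw [finrank_span_singleton hc0] at this
  omega

theorem r2_Ur_ne_top (A : Module.End K V) (hA : Function.Surjective A) (r0 : Module.Dual K V)
    (hr0 : r0 ≠ 0) : LinearMap.ker (r0 ∘ₗ A) ≠ ⊤ := by
  intro h
  apply hr0
  rw [LinearMap.ker_eq_top] at h
  ext v
  obtain ⟨w, rfl⟩ := hA v
  have := congrArg (fun f : V →ₗ[K] K => f w) h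
  simpa using this

/-- the conditions common to all cases -/
theorem r2_common (A : Module.End K V) (c0 : V) (hc0 : c0 ≠ 0) (r0 : Module.Dual K V) (z : V)
    (hzc : z ∉ Submodule.comap (A - 1) (Submodule.span K {c0}))
    (hzr : z ∉ LinearMap.ker (r0 ∘ₗ A)) :
    r0 (A z) ≠ 0 ∧ c0 ∉ Submodule.span K {A z - z} ∧ A z - z ≠ 0 := by
  have hN : ∀ a : K, a • c0 ≠ A z - z := by
    intro a ha
    apply hzc
    rw [Submodule.mem_comap, Submodule.mem_span_singleton]
    exact ⟨a, by rw [ha]; simp⟩
  refine ⟨?_, ?_, ?_⟩
  · intro h
    apply hzr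
    rw [LinearMap.mem_ker]
    exact h
  · intro h
    rw [Submodule.mem_span_singleton] at h
    obtain ⟨a, ha⟩ := h
    have ha0 : a ≠ 0 := by
      rintro rfl
      rw [zero_smul] at ha
      exact hc0 ha.symm
    apply hN a⁻¹
    rw [← ha, smul_smul, inv_mul_cancel₀ ha0, one_smul]
  · intro h
    apply hN 0
    rw [zero_smul, h]

theorem exists_z [FiniteDimensional K V] (hK : ∃ s : Finset K, s.card = 4)
    (hV : 2 ≤ finrank K V) (A : Module.End K V) (hA : Function.Bijective A) (hadm : Adm A)
    (c0 : V) (hc0 : c0 ≠ 0) (r0 : Module.Dual K V) (hr0 : r0 ≠ 0) : ∃ z : V, ZOk A c0 r0 z := by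
  classical
  obtain ⟨hns, hrk⟩ := hadm
  set N : Module.End K V := A - 1 with hN
  have hNapp : ∀ v, N v = A v - v := fun v => by simp [hN]
  have hUc := r2_Uc_ne_top N hrk c0 hc0
  have hUr := r2_Ur_ne_top A hA.2 r0 hr0
  by_cases hker : LinearMap.ker N = ⊥
  · -- `N` injective
    by_cases hev : ∃ μ : K, Module.End.HasEigenvalue A μ
    · obtain ⟨μ, hμ⟩ := hev
      set M : Module.End K V := A - μ • 1 with hM
      have hMapp : ∀ v, M v = A v - μ • v := fun v => by simp [hM]
      have hkM : LinearMap.ker M ≠ ⊥ := by
        have : Module.End.eigenspace A μ = LinearMap.ker M := by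
          ext v
          rw [Module.End.mem_eigenspace_iff, LinearMap.mem_ker, hMapp, sub_eq_zero]
        rw [← this]
        exact hμ
      have hrM : LinearMap.range M ≠ ⊤ := by
        intro h
        exact hkM (LinearMap.ker_eq_bot_iff_range_eq_top.2 h)
      have hkM' : LinearMap.ker M ≠ ⊤ := by
        intro h
        rw [LinearMap.ker_eq_top] at h
        apply hns
        refine ⟨μ, ?_⟩
        rw [hM, sub_eq_zero] at h
        exact h
      obtain ⟨z, hz1, hz2, hz3, hz4⟩ := exists_not_mem_four hK _ _ _ _ hUc hUr hrM hkM'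
      obtain ⟨c1, c2, c3⟩ := r2_common A c0 hc0 r0 z hz1 hz2
      refine ⟨z, ?_, c1, c2, fun h => absurd hker h, fun h => absurd hker h⟩
      rw [LinearIndependent.pair_iff]
      intro s t hst
      have hz0 : z ≠ 0 := by
        rintro rfl
        exact hz4 (Submodule.zero_mem _)
      by_cases ht : t = 0
      · subst ht
        rw [zero_smul, add_zero] at hst
        rcases smul_eq_zero.1 hst with h | h
        · exact ⟨h, rfl⟩
        · exact absurd h hz0
      · exfalso
        have hAz : A z = (1 - s / t) • z := by
          have h1 : t • (A z - z) = -(s • z) := by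
            rw [eq_neg_iff_add_eq_zero, add_comm]; exact hst
          have h2 : A z - z = t⁻¹ • -(s • z) := by
            rw [← h1, smul_smul, inv_mul_cancel₀ ht, one_smul]
          have h3 : A z = z + t⁻¹ • -(s • z) := by
            rw [← h2]; abel
          rw [h3, sub_smul, one_smul, smul_neg, smul_smul, div_eq_mul_inv, mul_comm s t⁻¹]
          abel
        by_cases hνμ : 1 - s / t = μ
        · apply hz4
          rw [LinearMap.mem_ker, hMapp, hAz, hνμ, sub_self]
        · apply hz3
          have hne : (1 - s / t - μ) ≠ 0 := sub_ne_zero.2 hνμ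
          refine ⟨(1 - s / t - μ)⁻¹ • z, ?_⟩
          rw [map_smul, hMapp, hAz, ← sub_smul, smul_smul, inv_mul_cancel₀ hne, one_smul]
    · obtain ⟨z, hz1, hz2, -, -⟩ := exists_not_mem_four hK _ _ _ _ hUc hUr hUc hUc
      obtain ⟨c1, c2, c3⟩ := r2_common A c0 hc0 r0 z hz1 hz2
      refine ⟨z, ?_, c1, c2, fun h => absurd hker h, fun h => absurd hker h⟩
      rw [LinearIndependent.pair_iff]
      intro s t hst
      have hz0 : z ≠ 0 := by
        rintro rfl
        exact hz1 (Submodule.zero_mem _)
      by_cases ht : t = 0
      · subst ht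
        rw [zero_smul, add_zero] at hst
        rcases smul_eq_zero.1 hst with h | h
        · exact ⟨h, rfl⟩
        · exact absurd h hz0
      · exfalso
        apply hev
        have hAz : A z = (1 - s / t) • z := by
          have h1 : t • (A z - z) = -(s • z) := by
            rw [eq_neg_iff_add_eq_zero, add_comm]; exact hst
          have h2 : A z - z = t⁻¹ • -(s • z) := by
            rw [← h1, smul_smul, inv_mul_cancel₀ ht, one_smul]
          have h3 : A z = z + t⁻¹ • -(s • z) := by
            rw [← h2]; abel
          rw [h3, sub_smul, one_smul, smul_neg, smul_smul, div_eq_mul_inv, mul_comm s t⁻¹]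
          abel
        exact ⟨1 - s / t, Module.End.hasEigenvalue_of_hasEigenvector
          ⟨Module.End.mem_eigenspace_iff.2 hAz, hz0⟩⟩
  · -- `N` singular
    have hrN : LinearMap.range N ≠ ⊤ := by
      intro h
      exact hker (LinearMap.ker_eq_bot_iff_range_eq_top.2 h)
    by_cases hN2 : N * N = 0
    · obtain ⟨z, hz1, hz2, hz3, -⟩ := exists_not_mem_four hK _ _ _ _ hUc hUr hrN hrN
      obtain ⟨c1, c2, c3⟩ := r2_common A c0 hc0 r0 z hz1 hz2
      refine ⟨z, ?_, c1, c2, fun _ => hz3, fun _ => ?_⟩
      · rw [LinearIndependent.pair_iff]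
        intro s t hst
        by_cases hs : s = 0
        · subst hs
          rw [zero_smul, zero_add] at hst
          rcases smul_eq_zero.1 hst with h | h
          · exact ⟨rfl, h⟩
          · exact absurd h c3
        · exfalso
          apply hz3
          refine ⟨-(s⁻¹ * t) • z, ?_⟩
          rw [map_smul, hNapp]
          have h1 : s • z = -(t • (A z - z)) := by
            rw [eq_neg_iff_add_eq_zero]; exact hst
          have h2 : z = s⁻¹ • -(t • (A z - z)) := by
            rw [← h1, smul_smul, inv_mul_cancel₀ hs, one_smul]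
          conv_rhs => rw [h2]
          rw [smul_neg, smul_smul, neg_smul]
      · intro hle
        have hle2 : LinearMap.range N ≤ LinearMap.ker N := by
          rintro _ ⟨v, rfl⟩
          rw [LinearMap.mem_ker]
          have := congrArg (fun f : Module.End K V => f v) hN2
          simpa using this
        have := Submodule.finrank_mono (hle2.trans hle)
        rw [finrank_span_singleton c3] at this
        omega
    · have hk2 : LinearMap.ker (N * N) ≠ ⊤ := by
        intro h
        exact hN2 (LinearMap.ker_eq_top.1 h)
      obtain ⟨z, hz1, hz2, hz3, hz4⟩ := exists_not_mem_four hK _ _ _ _ hUc hUr hrN hk2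
      obtain ⟨c1, c2, c3⟩ := r2_common A c0 hc0 r0 z hz1 hz2
      refine ⟨z, ?_, c1, c2, fun _ => hz3, fun _ => ?_⟩
      · rw [LinearIndependent.pair_iff]
        intro s t hst
        by_cases hs : s = 0
        · subst hs
          rw [zero_smul, zero_add] at hst
          rcases smul_eq_zero.1 hst with h | h
          · exact ⟨rfl, h⟩
          · exact absurd h c3
        · exfalso
          apply hz3
          refine ⟨-(s⁻¹ * t) • z, ?_⟩
          rw [map_smul, hNapp]
          have h1 : s • z = -(t • (A z - z)) := by
            rw [eq_neg_iff_add_eq_zero]; exact hst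
          have h2 : z = s⁻¹ • -(t • (A z - z)) := by
            rw [← h1, smul_smul, inv_mul_cancel₀ hs, one_smul]
          conv_rhs => rw [h2]
          rw [smul_neg, smul_smul, neg_smul]
      · intro hle
        obtain ⟨k, hk, hk0⟩ := Submodule.exists_mem_ne_zero_of_ne_bot hker
        have hk' := hle hk
        rw [Submodule.mem_span_singleton] at hk'
        obtain ⟨a, ha⟩ := hk'
        have ha0 : a ≠ 0 := by
          rintro rfl
          rw [zero_smul] at ha
          exact hk0 ha.symm
        apply hz4
        rw [LinearMap.mem_ker, Module.End.mul_apply, hNapp z]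
        have h1 : N k = 0 := LinearMap.mem_ker.1 hk
        rw [← ha, map_smul] at h1
        rcases smul_eq_zero.1 h1 with h | h
        · exact absurd h ha0
        · exact h

end Cfsg.Agent.Lib.Helper3.RUProd
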