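import Mathlib
import Cfsg.Agent.Lib.Helper3.Ru2Defs

/-!
# S3174 / S3175 swarm, package CYC: `W / Phi W` is a cyclic module for `T / W`
-/

set_option autoImplicit false

namespace Cfsg.Agent.Lib.Helper3.Ru2

open scoped commutatorElement

variable {T : Type*} [Group T]

/-- the conjugate `t M t⁻¹` -/
def cycConj (t : T) (M : Subgroup T) : Subgroup T where
  carrier := {y | t⁻¹ * y * t ∈ M}
  one_mem' := by
    show t⁻¹ * 1 * t ∈ M
    rw [mul_one, inv_mul_cancel]; exact M.one_mem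
  mul_mem' := by
    intro a b ha hb
    show t⁻¹ * (a * b) * t ∈ M
    have e : t⁻¹ * (a * b) * t = (t⁻¹ * a * t) * (t⁻¹ * b * t) := by group
    rw [e]; exact M.mul_mem ha hb
  inv_mem' := by
    intro a ha
    show t⁻¹ * a⁻¹ * t ∈ M
    have e : t⁻¹ * a⁻¹ * t = (t⁻¹ * a * t)⁻¹ := by group
    rw [e]; exact M.inv_mem ha

theorem cyc_mem_conj {t : T} {M : Subgroup T} {y : T} :
    y ∈ cycConj t M ↔ t⁻¹ * y * t ∈ M := Iff.rfl

theorem cyc_relIndex_mul_card {H K : Subgroup T} (h : H ≤ K) :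
    H.relIndex K * Nat.card ↥H = Nat.card ↥K := by
  have h1 := Subgroup.card_mul_index (H.subgroupOf K)
  have h2 : Nat.card ↥(H.subgroupOf K) = Nat.card ↥H :=
    Nat.card_congr (Subgroup.subgroupOfEquivOfLe h).toEquiv
  rw [h2] at h1
  unfold Subgroup.relIndex
  rw [mul_comm]; exact h1

theorem cyc_relIndex_ne_zero [Finite T] (H K : Subgroup T) : H.relIndex K ≠ 0 := by
  unfold Subgroup.relIndex
  exact Subgroup.index_ne_zero_of_finite

/-- one step of the chain: cutting with a subgroup of index two not containing everything -/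
theorem cyc_one_step [Finite T] {W B K : Subgroup T} (hBW : B ≤ W) (hK : K.relIndex W = 2)
    {u : T} (huB : u ∈ B) (huK : u ∉ K) : Nat.card ↥B = 2 * Nat.card ↥(K ⊓ B) := by
  have h1 : K.relIndex B ≤ K.relIndex W :=
    Subgroup.relIndex_le_of_le_right hBW (by rw [hK]; norm_num)
  have h2 : K.relIndex B ≠ 1 := by
    intro e
    exact huK (Subgroup.relIndex_eq_one.mp e huB)
  have h3 := cyc_relIndex_ne_zero K B
  have h4 : K.relIndex B = 2 := by rw [hK] at h1; omega
  have h5 := cyc_relIndex_mul_card (inf_le_right : K ⊓ B ≤ B)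
  rw [Subgroup.inf_relIndex_right, h4] at h5
  exact h5.symm

/-- the chain count -/
theorem cyc_chain [Finite T] {W A : Subgroup T} (hAW : A ≤ W) {ι : Type*} [DecidableEq ι]
    (f : ι → Subgroup T) (hf : ∀ c, (f c).relIndex W = 2) (u : ι → T) (huA : ∀ c, u c ∈ A)
    (hu1 : ∀ c, u c ∉ f c) (hu2 : ∀ c c', c ≠ c' → u c ∈ f c') (𝒮 : Finset ι) :
    Nat.card ↥A = 2 ^ 𝒮.card * Nat.card ↥(A ⊓ ⨅ c ∈ 𝒮, f c) := by
  induction 𝒮 using Finset.induction_on with
  | empty => simp
  | insert c₀ 𝒮 hc₀ ih =>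
    rw [Finset.iInf_insert, Finset.card_insert_of_notMem hc₀, pow_succ]
    have hB : A ⊓ ⨅ c ∈ 𝒮, f c ≤ W := inf_le_left.trans hAW
    have huB : u c₀ ∈ A ⊓ ⨅ c ∈ 𝒮, f c := by
      refine ⟨huA c₀, Subgroup.mem_iInf.mpr fun c => Subgroup.mem_iInf.mpr fun hc => ?_⟩
      apply hu2
      intro e
      exact hc₀ (e ▸ hc)
    have h1 := cyc_one_step hB (hf c₀) huB (hu1 c₀)
    have e : A ⊓ (f c₀ ⊓ ⨅ c ∈ 𝒮, f c) = f c₀ ⊓ (A ⊓ ⨅ c ∈ 𝒮, f c) := by
      rw [← inf_assoc, ← inf_assoc, inf_comm A (f c₀)]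
    rw [e, ih, h1]; ring

/-- the upper bound for the index of an intersection -/
theorem cyc_relIndex_biInf_le {W : Subgroup T} {ι : Type*} [DecidableEq ι]
    (f : ι → Subgroup T) (hf : ∀ c, (f c).relIndex W = 2) (𝒮 : Finset ι) :
    (⨅ c ∈ 𝒮, f c).relIndex W ≤ 2 ^ 𝒮.card := by
  induction 𝒮 using Finset.induction_on with
  | empty => simp
  | insert c₀ 𝒮 hc₀ ih =>
    rw [Finset.iInf_insert, Finset.card_insert_of_notMem hc₀, pow_succ]
    calc (f c₀ ⊓ ⨅ c ∈ 𝒮, f c).relIndex W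
        ≤ (f c₀).relIndex W * (⨅ c ∈ 𝒮, f c).relIndex W := Subgroup.relIndex_inf_le
      _ ≤ 2 * 2 ^ 𝒮.card := by rw [hf c₀]; exact Nat.mul_le_mul_left _ ih
      _ = 2 ^ 𝒮.card * 2 := by ring

/-- CYC: `W / Phi W` is a cyclic module for `T / W` -/
theorem exists_cyclic {W : Subgroup T} (F : Full W)
    (hlift : ∀ D : Subgroup T, D.Normal → Phi W < D → D ≤ W →
      Subgroup.upperCentralSeries T 4 ≤ D) :
    ∃ w₀ ∈ W, ∀ H : Subgroup T, Phi W ≤ H → (∀ t : T, t * w₀ * t⁻¹ ∈ H) → W ≤ H := by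
  classical
  have hfin : Finite T := F.hyp.finite
  have hT : IsPGroup 2 T := F.hyp.pgroup
  have : Fact (Nat.Prime 2) := ⟨Nat.prime_two⟩
  have hWn : W.Normal := F.str.normal
  have hPn : (Phi W).Normal := Phi_normal W
  have hphi := F.str.phi_eq
  have hc3 := F.str.card_ucs 3 (by norm_num)
  have hc4 := F.str.card_ucs 4 (by norm_num)
  have hcardPhi : Nat.card ↥(Phi W) = 8 := by rw [hphi, hc3]; norm_num
  have hcardW : Nat.card ↥W = 2 ^ 11 := by
    have h1 := Subgroup.card_mul_index W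
    rw [F.str.index_W, F.str.card_T] at h1
    omega
  have hrelPhi : (Phi W).relIndex W = 256 := by
    have h1 := cyc_relIndex_mul_card (Phi_le W)
    rw [hcardPhi, hcardW] at h1
    omega
  -- an element of Z_4 outside Phi
  have h34 : Subgroup.upperCentralSeries T 3 ≤ Subgroup.upperCentralSeries T 4 :=
    Subgroup.upperCentralSeries_mono T (by norm_num)
  obtain ⟨x, hx4, hx3⟩ : ∃ x ∈ Subgroup.upperCentralSeries T 4,
      x ∉ Subgroup.upperCentralSeries T 3 := by
    by_contra hcon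
    push Not at hcon
    have h1 : Subgroup.upperCentralSeries T 4 ≤ Subgroup.upperCentralSeries T 3 := hcon
    have h2 := Subgroup.card_le_of_le h1
    rw [hc3, hc4] at h2
    norm_num at h2
  have hxW : x ∈ W := F.str.z4_le hx4
  have hxPhi : x ∉ Phi W := by rw [hphi]; exact hx3
  -- a maximal subgroup of W missing x
  have hxf : (⟨x, hxW⟩ : ↥W) ∉ frattini ↥W := fun h => hxPhi ((mem_Phi_iff W x).mpr ⟨hxW, h⟩)
  rw [Cfsg.Agent.Lib.Lead.mem_frattini_iff] at hxf
  push Not at hxf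
  obtain ⟨M', hM', hxM'⟩ := hxf
  obtain ⟨hM'n, hM'i⟩ :=
    Cfsg.Agent.Lib.Lead.coatom_normal_index_of_isPGroup (hT.to_subgroup W) hM'
  set M : Subgroup T := M'.map W.subtype with hMdef
  have hMW : M ≤ W := Subgroup.map_subtype_le M'
  have hPM : Phi W ≤ M := Subgroup.map_mono (frattini_le_coatom hM')
  have hMrel : M.relIndex W = 2 := by
    show ((M'.map W.subtype).comap W.subtype).index = 2
    rw [Subgroup.comap_map_eq_self_of_injective (Subgroup.subtype_injective _)]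
    exact hM'i
  have hxM : x ∉ M := by
    rintro ⟨y, hy, hyx⟩
    have : y = ⟨x, hxW⟩ := Subtype.ext hyx
    exact hxM' (this ▸ hy)
  -- W normalises M
  have hnormM : ∀ w ∈ W, ∀ z ∈ M, w * z * w⁻¹ ∈ M := by
    intro w hw z hz
    have e : w * z * w⁻¹ = ⁅w, z⁆ * z := by rw [commutatorElement_def]; group
    rw [e]
    exact M.mul_mem (hPM (comm_mem_Phi hT W hw (hMW hz))) hz
  have hconjW : ∀ t : T, ∀ w ∈ W, cycConj (t * w) M = cycConj t M := by
    intro t w hw
    ext y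
    rw [cyc_mem_conj, cyc_mem_conj]
    have e : (t * w)⁻¹ * y * (t * w) = w⁻¹ * (t⁻¹ * y * t) * w⁻¹⁻¹ := by group
    rw [e]
    constructor
    · intro h
      have := hnormM w hw _ h
      have e2 : w * (w⁻¹ * (t⁻¹ * y * t) * w⁻¹⁻¹) * w⁻¹ = t⁻¹ * y * t := by group
      rwa [e2] at this
    · intro h
      exact hnormM w⁻¹ (W.inv_mem hw) _ h
  -- basic properties of the conjugates
  have hconj_le : ∀ t : T, cycConj t M ≤ W := by
    intro t y hy
    have h1 : t⁻¹ * y * t ∈ W := hMW hy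
    have h2 := hWn.conj_mem _ h1 t
    have e : t * (t⁻¹ * y * t) * t⁻¹ = y := by group
    rwa [e] at h2
  have hconj_rel : ∀ t : T, (cycConj t M).relIndex W = 2 := by
    intro t
    rw [Subgroup.relIndex_eq_two_iff] at hMrel ⊢
    obtain ⟨a, haW, ha⟩ := hMrel
    refine ⟨t * a * t⁻¹, hWn.conj_mem a haW t, ?_⟩
    intro b hbW
    have hb' : t⁻¹ * b * t ∈ W := by
      have := hWn.conj_mem b hbW t⁻¹
      rwa [inv_inv] at this
    have := ha _ hb'
    rw [cyc_mem_conj, cyc_mem_conj]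
    have e : t⁻¹ * (b * (t * a * t⁻¹)) * t = t⁻¹ * b * t * a := by group
    rw [e]
    exact this
  have hP_conj : ∀ t : T, Phi W ≤ cycConj t M := by
    intro t y hy
    have := hPn.conj_mem y hy t⁻¹
    rw [inv_inv] at this
    exact hPM this
  -- the core
  set core : Subgroup T := ⨅ t : T, cycConj t M with hcore
  have hcoreN : core.Normal := by
    constructor
    intro y hy s
    rw [hcore, Subgroup.mem_iInf] at hy ⊢
    intro t
    have := hy (s⁻¹ * t)
    rw [cyc_mem_conj] at this ⊢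
    have e : t⁻¹ * (s * y * s⁻¹) * t = (s⁻¹ * t)⁻¹ * y * (s⁻¹ * t) := by group
    rw [e]; exact this
  have hcoreM : core ≤ M := by
    intro y hy
    rw [hcore, Subgroup.mem_iInf] at hy
    have := hy 1
    rw [cyc_mem_conj] at this
    simpa using this
  have hPcore : Phi W ≤ core := by
    rw [hcore]
    exact le_iInf hP_conj
  have hcoreEq : core = Phi W := by
    by_contra hne
    have hlt : Phi W < core := lt_of_le_of_ne hPcore (Ne.symm hne)
    exact hxM (hcoreM (hlift core hcoreN hlt (hcoreM.trans hMW) hx4))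
  -- the index set: cosets of W
  have : Fintype (T ⧸ W) := Fintype.ofFinite _
  have hcardI : Fintype.card (T ⧸ W) = 8 := by
    rw [← Nat.card_eq_fintype_card, ← Subgroup.index_eq_card, F.str.index_W]
  let f : T ⧸ W → Subgroup T := fun c => cycConj c.out M
  have hf_mk : ∀ t : T, f (QuotientGroup.mk t) = cycConj t M := by
    intro t
    obtain ⟨w, hw⟩ := QuotientGroup.mk_out_eq_mul W t
    show cycConj (QuotientGroup.mk t : T ⧸ W).out M = cycConj t M
    rw [hw]
    exact hconjW t w w.2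
  have hf_rel : ∀ c, (f c).relIndex W = 2 := fun c => hconj_rel _
  have hf_univ : ⨅ c ∈ (Finset.univ : Finset (T ⧸ W)), f c = core := by
    apply le_antisymm
    · rw [hcore]
      apply le_iInf
      intro t
      rw [← hf_mk t]
      exact iInf₂_le (QuotientGroup.mk t) (Finset.mem_univ _)
    · apply le_iInf₂
      intro c _
      rw [hcore]
      exact iInf_le _ _
  -- the element w₀
  set c₁ : T ⧸ W := QuotientGroup.mk 1 with hc₁
  have hfc₁ : f c₁ = M := by
    rw [hc₁, hf_mk]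
    ext y
    rw [cyc_mem_conj]
    simp
  obtain ⟨w₀, hw₀W, hw₀N, hw₀M⟩ : ∃ w₀ ∈ W, (∀ c ∈ Finset.univ.erase c₁, w₀ ∈ f c) ∧ w₀ ∉ M := by
    by_contra hcon
    push Not at hcon
    have hle : W ⊓ ⨅ c ∈ Finset.univ.erase c₁, f c ≤ Phi W := by
      intro y hy
      rw [← hcoreEq, ← hf_univ, ← Finset.insert_erase (Finset.mem_univ c₁), Finset.iInf_insert]
      have hy2 : ∀ c ∈ Finset.univ.erase c₁, y ∈ f c := fun c hc =>
        Subgroup.mem_iInf.mp (Subgroup.mem_iInf.mp hy.2 c) hc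
      refine ⟨?_, hy.2⟩
      rw [hfc₁]
      exact hcon y hy.1 hy2
    have h1 := cyc_relIndex_biInf_le (W := W) f hf_rel (Finset.univ.erase c₁)
    rw [Finset.card_erase_of_mem (Finset.mem_univ _), Finset.card_univ, hcardI] at h1
    have h2 : (W ⊓ ⨅ c ∈ Finset.univ.erase c₁, f c).relIndex W =
        (⨅ c ∈ Finset.univ.erase c₁, f c).relIndex W := Subgroup.inf_relIndex_left W _
    have h3 := Subgroup.relIndex_le_of_le_left hle (cyc_relIndex_ne_zero _ W)
    rw [h2, hrelPhi] at h3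
    have h4 : (2 : ℕ) ^ (8 - 1) = 128 := by norm_num
    rw [h4] at h1
    omega
  have hw₀s : ∀ s : T, s ∉ W → w₀ ∈ cycConj s M := by
    intro s hs
    rw [← hf_mk s]
    apply hw₀N
    refine Finset.mem_erase.mpr ⟨?_, Finset.mem_univ _⟩
    intro e
    rw [hc₁, QuotientGroup.eq] at e
    apply hs
    have := W.inv_mem e
    simpa using this
  refine ⟨w₀, hw₀W, ?_⟩
  intro H hPH hconjH
  -- the chain count for A = H ⊓ W
  have hA : H ⊓ W ≤ W := inf_le_right
  have hcount := cyc_chain hA f hf_rel (fun c => c.out * w₀ * c.out⁻¹)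
    (fun c => ⟨hconjH _, hWn.conj_mem w₀ hw₀W _⟩)
    (by
      intro c h
      apply hw₀M
      have : c.out⁻¹ * (c.out * w₀ * c.out⁻¹) * c.out ∈ M := h
      have e : c.out⁻¹ * (c.out * w₀ * c.out⁻¹) * c.out = w₀ := by group
      rwa [e] at this)
    (by
      intro c c' hcc'
      show c'.out⁻¹ * (c.out * w₀ * c.out⁻¹) * c'.out ∈ M
      have hs : c.out⁻¹ * c'.out ∉ W := by
        intro h
        apply hcc'
        have : (QuotientGroup.mk c.out : T ⧸ W) = QuotientGroup.mk c'.out :=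
          QuotientGroup.eq.mpr h
        rwa [QuotientGroup.out_eq', QuotientGroup.out_eq'] at this
      have := hw₀s _ hs
      rw [cyc_mem_conj] at this
      have e : (c.out⁻¹ * c'.out)⁻¹ * w₀ * (c.out⁻¹ * c'.out) =
          c'.out⁻¹ * (c.out * w₀ * c.out⁻¹) * c'.out := by group
      rwa [e] at this)
    Finset.univ
  rw [hf_univ, hcoreEq, Finset.card_univ, hcardI] at hcount
  have hPA : Phi W ≤ H ⊓ W ⊓ Phi W := le_inf (le_inf hPH (Phi_le W)) le_rfl
  have h1 := Subgroup.card_le_of_le hPA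
  rw [hcardPhi] at h1
  have h2 : Nat.card ↥W ≤ Nat.card ↥(H ⊓ W) := by
    rw [hcount, hcardW]
    calc 2 ^ 11 = 2 ^ 8 * 8 := by norm_num
      _ ≤ 2 ^ 8 * Nat.card ↥(H ⊓ W ⊓ Phi W) := Nat.mul_le_mul_left _ h1
  have h3 : H ⊓ W = W := Subgroup.eq_of_le_of_card_ge hA h2
  rw [← h3]
  exact inf_le_left

end Cfsg.Agent.Lib.Helper3.Ru2
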