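import Mathlib
import Cfsg.Agent.Lib.Helper3.Ru2Defs

/-!
# S3174 / S3175 swarm, package LIFT
-/

set_option autoImplicit false

namespace Cfsg.Agent.Lib.Helper3.Ru2

open scoped commutatorElement

/-- (general) a normal subgroup not contained in `Z_i` meets `Z_{i+1}` outside `Z_i`, provided it
meets some `Z_j` outside `Z_i` -/
theorem lift_ucs_step {G : Type*} [Group G] (N : Subgroup G) [N.Normal] (i : ℕ) :
    ∀ j : ℕ, (∃ x ∈ N, x ∈ Subgroup.upperCentralSeries G j ∧ x ∉ Subgroup.upperCentralSeries G i) →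
      ∃ x ∈ N, x ∈ Subgroup.upperCentralSeries G (i + 1) ∧ x ∉ Subgroup.upperCentralSeries G i := by
  intro j
  induction j with
  | zero =>
    rintro ⟨x, -, hx0, hxi⟩
    exfalso
    apply hxi
    rw [Subgroup.upperCentralSeries_zero, Subgroup.mem_bot] at hx0
    rw [hx0]; exact Subgroup.one_mem _
  | succ j ih =>
    rintro ⟨x, hxN, hxj, hxi⟩
    by_cases hall : ∀ y : G, x * y * x⁻¹ * y⁻¹ ∈ Subgroup.upperCentralSeries G i
    · exact ⟨x, hxN, (Subgroup.mem_upperCentralSeries_succ_iff).mpr hall, hxi⟩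
    · push Not at hall
      obtain ⟨y, hy⟩ := hall
      apply ih
      refine ⟨x * y * x⁻¹ * y⁻¹, ?_, (Subgroup.mem_upperCentralSeries_succ_iff).mp hxj y, hy⟩
      have h1 : y * x⁻¹ * y⁻¹ ∈ N := Subgroup.Normal.conj_mem inferInstance _ (N.inv_mem hxN) y
      have h2 : x * y * x⁻¹ * y⁻¹ = x * (y * x⁻¹ * y⁻¹) := by group
      rw [h2]
      exact N.mul_mem hxN h1

variable {T : Type*} [Group T] {W : Subgroup T}

/-- LIFT: a normal subgroup of `T` strictly between `Phi W` and `W` contains `Z_4(T)` -/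
theorem z4_le_of_normal (F : Full W) (D : Subgroup T) (hD : D.Normal) (h1 : Phi W < D)
    (h2 : D ≤ W) : Subgroup.upperCentralSeries T 4 ≤ D := by
  have _ := h2
  have hfin : Finite T := F.hyp.finite
  have : Fact (Nat.Prime 2) := ⟨Nat.prime_two⟩
  have hnil : Group.IsNilpotent T := F.hyp.pgroup.isNilpotent
  obtain ⟨n, hn⟩ := (Group.isNilpotent_iff (G := T)).mp hnil
  have hphi := F.str.phi_eq
  -- an element of D outside Z_3
  obtain ⟨x, hxD, hxP⟩ := Set.exists_of_ssubset h1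
  have hxP' : x ∉ Subgroup.upperCentralSeries T 3 := by rw [← hphi]; exact hxP
  obtain ⟨y, hyD, hy4, hy3⟩ := lift_ucs_step D 3 n
    ⟨x, hxD, by rw [hn]; exact Subgroup.mem_top x, hxP'⟩
  -- D ⊓ Z_4 contains Z_3 strictly
  have hc3 := F.str.card_ucs 3 (by norm_num)
  have hc4 := F.str.card_ucs 4 (by norm_num)
  have h34 : Subgroup.upperCentralSeries T 3 ≤ Subgroup.upperCentralSeries T 4 :=
    Subgroup.upperCentralSeries_mono T (by norm_num)
  have hle : Subgroup.upperCentralSeries T 3 ≤ D ⊓ Subgroup.upperCentralSeries T 4 := by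
    rw [← hphi]
    exact le_inf h1.le (by rw [hphi]; exact h34)
  have hd1 : Nat.card ↥(Subgroup.upperCentralSeries T 3) ∣
      Nat.card ↥(D ⊓ Subgroup.upperCentralSeries T 4) := Subgroup.card_dvd_of_le hle
  have hd2 : Nat.card ↥(D ⊓ Subgroup.upperCentralSeries T 4) ∣
      Nat.card ↥(Subgroup.upperCentralSeries T 4) := Subgroup.card_dvd_of_le inf_le_right
  rw [hc3] at hd1
  rw [hc4] at hd2
  have hne : Nat.card ↥(D ⊓ Subgroup.upperCentralSeries T 4) ≠ 2 ^ 3 := by
    intro e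
    have h3 : Subgroup.upperCentralSeries T 3 = D ⊓ Subgroup.upperCentralSeries T 4 :=
      Subgroup.eq_of_le_of_card_ge hle (by rw [hc3, e])
    apply hy3
    rw [h3]
    exact ⟨hyD, hy4⟩
  have hcard : Nat.card ↥(D ⊓ Subgroup.upperCentralSeries T 4) = 2 ^ 4 := by
    obtain ⟨c, hc⟩ := hd1
    have hpos : 0 < Nat.card ↥(D ⊓ Subgroup.upperCentralSeries T 4) := Nat.card_pos
    have hle16 := Nat.le_of_dvd (by norm_num) hd2
    have hc2 : c = 1 ∨ c = 2 := by
      rw [hc] at hle16 hpos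
      norm_num at hle16 hpos
      omega
    rcases hc2 with e | e
    · exfalso; apply hne; rw [hc, e, mul_one]
    · rw [hc, e]; norm_num
  have heq : D ⊓ Subgroup.upperCentralSeries T 4 = Subgroup.upperCentralSeries T 4 :=
    Subgroup.eq_of_le_of_card_ge inf_le_right (by rw [hc4, hcard])
  rw [← heq]
  exact inf_le_left

end Cfsg.Agent.Lib.Helper3.Ru2
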