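import Mathlib
import Cfsg.Agent.Lib.Helper3.Ru2Defs

/-!
# S3174 / S3175 swarm, package STEP: the fixed point estimate along a chain of subgroups
-/

set_option autoImplicit false

namespace Cfsg.Agent.Lib.Helper3.Ru2

open scoped commutatorElement

variable {T : Type*} [Group T]

/-- `Phi W` is normalised by `T` -/
theorem step_Phi_conj (W : Subgroup T) [W.Normal] {f : T} (hf : f ∈ Phi W) (t : T) :
    t * f * t⁻¹ ∈ Phi W :=
  (Phi_normal W).conj_mem f hf t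

/-- `Phi W ≤ fixMod W S` -/
theorem step_Phi_le_fixMod (W : Subgroup T) [W.Normal] (S : Subgroup T) : Phi W ≤ fixMod W S := by
  intro f hf
  refine ⟨Phi_le W hf, fun s _ => ?_⟩
  have e : ⁅f, s⁆ = f * (s * f⁻¹ * s⁻¹) := by
    rw [commutatorElement_def]; group
  rw [e]
  exact (Phi W).mul_mem hf (step_Phi_conj W ((Phi W).inv_mem hf) s)

/-- `fixMod W S₀` is invariant under an element normalising `S₀` -/
theorem step_fix_conj (W : Subgroup T) [hW : W.Normal] (S₀ : Subgroup T) (t : T)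
    (hnorm' : ∀ s ∈ S₀, t⁻¹ * s * t ∈ S₀) {u : T} (hu : u ∈ fixMod W S₀) :
    t * u * t⁻¹ ∈ fixMod W S₀ := by
  refine ⟨hW.conj_mem u hu.1 t, fun s hs => ?_⟩
  have e : ⁅t * u * t⁻¹, s⁆ = t * ⁅u, t⁻¹ * s * t⁆ * t⁻¹ := by
    simp only [commutatorElement_def]; group
  rw [e]
  exact step_Phi_conj W (hu.2 _ (hnorm' s hs)) t

/-- an element of `fixMod W S₀` commuting with `t` modulo `Phi W` lies in `fixMod W S'`, where
`S' = S₀ ∪ S₀ t` -/
theorem step_mem_of_comm (W : Subgroup T) [W.Normal] (S₀ S' : Subgroup T) (t : T)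
    (hcov : ∀ s' ∈ S', s' ∈ S₀ ∨ s' * t⁻¹ ∈ S₀) {x : T} (hx : x ∈ fixMod W S₀)
    (hxt : ⁅x, t⁆ ∈ Phi W) : x ∈ fixMod W S' := by
  refine ⟨hx.1, fun s' hs' => ?_⟩
  rcases hcov s' hs' with h | h
  · exact hx.2 s' h
  · have e : ⁅x, s'⁆ = ⁅x, s' * t⁻¹⁆ * ((s' * t⁻¹) * ⁅x, t⁆ * (s' * t⁻¹)⁻¹) := by
      simp only [commutatorElement_def]; group
    rw [e]
    exact (Phi W).mul_mem (hx.2 _ h) (step_Phi_conj W hxt _)

/-- for `u ∈ fixMod W S₀` the commutator `⁅u, t⁆` lies in `fixMod W S'` -/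
theorem step_comm_mem [Finite T] (hT : IsPGroup 2 T) (W : Subgroup T) [hW : W.Normal]
    (S₀ S' : Subgroup T) (t : T)
    (hnorm' : ∀ s ∈ S₀, t⁻¹ * s * t ∈ S₀) (ht2 : t * t ∈ S₀)
    (hcov : ∀ s' ∈ S', s' ∈ S₀ ∨ s' * t⁻¹ ∈ S₀) {u : T} (hu : u ∈ fixMod W S₀) :
    ⁅u, t⁆ ∈ fixMod W S' := by
  have hc0 : ⁅u, t⁆ ∈ fixMod W S₀ := by
    have e : ⁅u, t⁆ = u * (t * u⁻¹ * t⁻¹) := by
      rw [commutatorElement_def]; group
    rw [e]
    exact (fixMod W S₀).mul_mem hu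
      (step_fix_conj W S₀ t hnorm' ((fixMod W S₀).inv_mem hu))
  apply step_mem_of_comm W S₀ S' t hcov hc0
  have e : ⁅⁅u, t⁆, t⁆ = (⁅u, t⁆ * ⁅u, t * t⁆⁻¹ * ⁅u, t⁆⁻¹) * (⁅u, t⁆ ^ 2) := by
    simp only [commutatorElement_def, pow_two]; group
  rw [e]
  exact (Phi W).mul_mem (step_Phi_conj W ((Phi W).inv_mem (hu.2 _ ht2)) _)
    (sq_mem_Phi hT W hc0.1)

/-- `u ↦ ⁅u, t⁆` is multiplicative modulo `Phi W` on `fixMod W S₀` -/
theorem step_comm_mul [Finite T] (hT : IsPGroup 2 T) (W : Subgroup T) [hW : W.Normal]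
    (t : T) {u u' : T} (hu : u ∈ W) (hu' : u' ∈ W) :
    (⁅u, t⁆ * ⁅u', t⁆)⁻¹ * ⁅u * u', t⁆ ∈ Phi W := by
  have hx : ⁅u, t⁆ ∈ W := by
    have e : ⁅u, t⁆ = u * (t * u⁻¹ * t⁻¹) := by
      rw [commutatorElement_def]; group
    rw [e]
    exact W.mul_mem hu (hW.conj_mem _ (W.inv_mem hu) t)
  have hy : ⁅u', t⁆ ∈ W := by
    have e : ⁅u', t⁆ = u' * (t * u'⁻¹ * t⁻¹) := by
      rw [commutatorElement_def]; group
    rw [e]
    exact W.mul_mem hu' (hW.conj_mem _ (W.inv_mem hu') t)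
  have e : (⁅u, t⁆ * ⁅u', t⁆)⁻¹ * ⁅u * u', t⁆ =
      ((⁅u', t⁆⁻¹ * ⁅u, t⁆⁻¹) * ⁅u, ⁅u', t⁆⁆ * (⁅u', t⁆⁻¹ * ⁅u, t⁆⁻¹)⁻¹) *
        ⁅⁅u', t⁆⁻¹, ⁅u, t⁆⁻¹⁆ := by
    simp only [commutatorElement_def]; group
  rw [e]
  exact (Phi W).mul_mem (step_Phi_conj W (comm_mem_Phi hT W hu hy) _)
    (comm_mem_Phi hT W (W.inv_mem hy) (W.inv_mem hx))

/-- the step: `S' = S₀ ∪ S₀ t`, `t` normalising `S₀`, `t² ∈ S₀` -/
theorem step_card [Finite T] (hT : IsPGroup 2 T) (W : Subgroup T) [hW : W.Normal]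
    (S₀ S' : Subgroup T) (hle : S₀ ≤ S') (t : T) (htS' : t ∈ S')
    (hnorm' : ∀ s ∈ S₀, t⁻¹ * s * t ∈ S₀) (ht2 : t * t ∈ S₀)
    (hcov : ∀ s' ∈ S', s' ∈ S₀ ∨ s' * t⁻¹ ∈ S₀) :
    Nat.card ↥(fixMod W S₀) * Nat.card ↥(Phi W) ≤ Nat.card ↥(fixMod W S') ^ 2 := by
  have hPF : Phi W ≤ fixMod W S' := step_Phi_le_fixMod W S'
  have hFF : fixMod W S' ≤ fixMod W S₀ := fixMod_anti W hle
  -- the homomorphism
  let ψ : ↥(fixMod W S₀) →* ↥(fixMod W S') ⧸ (Phi W).subgroupOf (fixMod W S') :=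
    MonoidHom.mk' (fun u => QuotientGroup.mk
      ⟨⁅(u : T), t⁆, step_comm_mem hT W S₀ S' t hnorm' ht2 hcov u.2⟩) (by
      intro u u'
      symm
      rw [← QuotientGroup.mk_mul, QuotientGroup.eq, Subgroup.mem_subgroupOf]
      exact step_comm_mul hT W t u.2.1 u'.2.1)
  have hψ : ∀ u : ↥(fixMod W S₀), ψ u = QuotientGroup.mk
      ⟨⁅(u : T), t⁆, step_comm_mem hT W S₀ S' t hnorm' ht2 hcov u.2⟩ := fun u => rfl
  have hker : ψ.ker = (fixMod W S').subgroupOf (fixMod W S₀) := by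
    ext u
    rw [MonoidHom.mem_ker, hψ, QuotientGroup.eq_one_iff, Subgroup.mem_subgroupOf,
      Subgroup.mem_subgroupOf]
    constructor
    · intro h
      exact step_mem_of_comm W S₀ S' t hcov u.2 h
    · intro h
      exact h.2 t htS'
  have h1 := Subgroup.card_mul_index ψ.ker
  have h2 : ψ.ker.index ≤ ((Phi W).subgroupOf (fixMod W S')).index := by
    rw [Subgroup.index_ker, Subgroup.index_eq_card]
    exact Nat.card_le_card_of_injective _ Subtype.val_injective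
  have h3 := Subgroup.card_mul_index ((Phi W).subgroupOf (fixMod W S'))
  have h4 : Nat.card ↥((Phi W).subgroupOf (fixMod W S')) = Nat.card ↥(Phi W) :=
    Nat.card_congr (Subgroup.subgroupOfEquivOfLe hPF).toEquiv
  have h5 : Nat.card ↥ψ.ker = Nat.card ↥(fixMod W S') := by
    rw [hker]
    exact Nat.card_congr (Subgroup.subgroupOfEquivOfLe hFF).toEquiv
  rw [h5] at h1
  rw [h4] at h3
  calc Nat.card ↥(fixMod W S₀) * Nat.card ↥(Phi W)
      = Nat.card ↥(fixMod W S') * (ψ.ker.index * Nat.card ↥(Phi W)) := by rw [← h1]; ring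
    _ ≤ Nat.card ↥(fixMod W S') *
        (((Phi W).subgroupOf (fixMod W S')).index * Nat.card ↥(Phi W)) :=
        Nat.mul_le_mul_left _ (Nat.mul_le_mul_right _ h2)
    _ = Nat.card ↥(fixMod W S') ^ 2 := by rw [mul_comm _ (Nat.card ↥(Phi W)), h3, pow_two]

/-- a subgroup of index two between `S` and `S'`, with the data needed for `step_card` -/
theorem step_exists_max [Finite T] (hT : IsPGroup 2 T) (S S' : Subgroup T) (hle : S ≤ S')
    (hne : ¬ S' ≤ S) :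
    ∃ (S₀ : Subgroup T) (t : T), S ≤ S₀ ∧ S₀ ≤ S' ∧ S₀.relIndex S' = 2 ∧ t ∈ S' ∧
      (∀ s ∈ S₀, t⁻¹ * s * t ∈ S₀) ∧ t * t ∈ S₀ ∧ (∀ s' ∈ S', s' ∈ S₀ ∨ s' * t⁻¹ ∈ S₀) := by
  have : Fact (Nat.Prime 2) := ⟨Nat.prime_two⟩
  have hA : S.subgroupOf S' ≠ ⊤ := by
    intro e
    exact hne (Subgroup.subgroupOf_eq_top.mp e)
  rcases eq_top_or_exists_le_coatom (S.subgroupOf S') with e | ⟨M, hM, hAM⟩
  · exact absurd e hA
  obtain ⟨hMn, hMi⟩ := Cfsg.Agent.Lib.Lead.coatom_normal_index_of_isPGroup (hT.to_subgroup S') hM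
  -- an element outside M
  have hMtop : M ≠ ⊤ := hM.1
  obtain ⟨t, htM⟩ : ∃ t : ↥S', t ∉ M := by
    by_contra hcon
    push Not at hcon
    exact hMtop (eq_top_iff.mpr fun x _ => hcon x)
  have hmem : ∀ x : ↥S', (x : T) ∈ M.map S'.subtype ↔ x ∈ M := by
    intro x
    constructor
    · rintro ⟨y, hy, hyx⟩
      have : y = x := Subtype.ext hyx
      rw [← this]; exact hy
    · intro hx
      exact ⟨x, hx, rfl⟩
  refine ⟨M.map S'.subtype, (t : T), ?_, Subgroup.map_subtype_le M, ?_, t.2, ?_, ?_, ?_⟩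
  · intro x hx
    exact (hmem ⟨x, hle hx⟩).mpr (hAM (Subgroup.mem_subgroupOf.mpr hx))
  · show ((M.map S'.subtype).comap S'.subtype).index = 2
    rw [Subgroup.comap_map_eq_self_of_injective (Subgroup.subtype_injective _)]
    exact hMi
  · rintro _ ⟨m, hm, rfl⟩
    have h1 : t⁻¹ * m * t ∈ M := by
      have := hMn.conj_mem m hm t⁻¹
      rwa [inv_inv] at this
    exact (hmem (t⁻¹ * m * t)).mpr h1
  · exact (hmem (t * t)).mpr (Subgroup.mul_self_mem_of_index_two hMi t)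
  · intro s' hs'
    by_cases h : (⟨s', hs'⟩ : ↥S') ∈ M
    · left; exact (hmem ⟨s', hs'⟩).mpr h
    · right
      have h1 : (⟨s', hs'⟩ : ↥S') * t⁻¹ ∈ M := by
        rw [Subgroup.mul_mem_iff_of_index_two hMi]
        constructor
        · intro h'; exact absurd h' h
        · intro h'; exact absurd (M.inv_mem_iff.mp h') htM
      exact (hmem (⟨s', hs'⟩ * t⁻¹)).mpr h1

/-- STEP: the fixed point estimate along a chain of subgroups -/
theorem fix_chain [Finite T] (hT : IsPGroup 2 T) (W : Subgroup T) (hW : W.Normal)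
    (S S' : Subgroup T) (hWS : W ≤ S) (hSS' : S ≤ S') :
    Nat.card ↥(fixMod W S) * Nat.card ↥(Phi W) ^ (S.relIndex S' - 1) ≤
      Nat.card ↥(fixMod W S') ^ S.relIndex S' := by
  have _ := hWS
  induction hn : S.relIndex S' using Nat.strong_induction_on generalizing S' with
  | _ n ih =>
    by_cases hle : S' ≤ S
    · have hSeq : S = S' := le_antisymm hSS' hle
      subst hSeq
      rw [Subgroup.relIndex_self] at hn
      subst hn
      simp
    · obtain ⟨S₀, t, hS0, hS0', hidx, htS', hnorm', ht2, hcov⟩ :=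
        step_exists_max hT S S' hSS' hle
      have hk := Subgroup.relIndex_mul_relIndex S S₀ S' hS0 hS0'
      rw [hidx, hn] at hk
      have hk0 : S.relIndex S₀ ≠ 0 := by
        unfold Subgroup.relIndex
        exact Subgroup.index_ne_zero_of_finite
      have hlt : S.relIndex S₀ < n := by omega
      have h1 := ih (S.relIndex S₀) hlt S₀ hS0 rfl
      have h2 := step_card hT W S₀ S' hS0' t htS' hnorm' ht2 hcov
      set k := S.relIndex S₀ with hkdef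
      have hn2 : n = k * 2 := hk.symm
      rw [hn2]
      have hexp : k * 2 - 1 = (k - 1) + k := by omega
      calc Nat.card ↥(fixMod W S) * Nat.card ↥(Phi W) ^ (k * 2 - 1)
          = (Nat.card ↥(fixMod W S) * Nat.card ↥(Phi W) ^ (k - 1)) * Nat.card ↥(Phi W) ^ k := by
            rw [hexp, pow_add]; ring
        _ ≤ Nat.card ↥(fixMod W S₀) ^ k * Nat.card ↥(Phi W) ^ k := Nat.mul_le_mul_right _ h1
        _ = (Nat.card ↥(fixMod W S₀) * Nat.card ↥(Phi W)) ^ k := by rw [mul_pow]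
        _ ≤ (Nat.card ↥(fixMod W S') ^ 2) ^ k := Nat.pow_le_pow_left h2 k
        _ = Nat.card ↥(fixMod W S') ^ (k * 2) := by rw [← pow_mul, mul_comm]

end Cfsg.Agent.Lib.Helper3.Ru2
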