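import Mathlib
import Cfsg.Agent.Lib.Lead.Nilpotent

set_option autoImplicit false

/-! Central subgroups of order `p` in `p`-groups. -/

namespace Cfsg.Agent.Lib.Helper4.GC

universe u

section PG

variable {G : Type u} [Group G]

theorem normal_of_le_center (H : Subgroup G) (h : H ≤ Subgroup.center G) : H.Normal := by
  constructor
  intro n hn g
  have := (Subgroup.mem_center_iff.1 (h hn)) g
  rw [this, mul_assoc, mul_inv_cancel, mul_one]
  exact hn

variable [Finite G]

/-- A normal subgroup of order `p` of a `p`-group is central. -/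
theorem le_center_of_card_prime (p : ℕ) [hp : Fact p.Prime] (hP : IsPGroup p G)
    (N : Subgroup G) [N.Normal] (hN : Nat.card N = p) : N ≤ Subgroup.center G := by
  haveI : Group.IsNilpotent G := hP.isNilpotent
  have hNne : N ≠ ⊥ := by
    intro h
    rw [h] at hN
    simp at hN
    exact hp.out.one_lt.ne hN
  have h0 := Cfsg.Agent.Lib.Lead.inf_center_ne_bot N hNne
  have h1 : Nat.card (N ⊓ Subgroup.center G : Subgroup G) ∣ p := by
    rw [← hN]
    exact Subgroup.card_dvd_of_le inf_le_left
  have h2 : Nat.card (N ⊓ Subgroup.center G : Subgroup G) ≠ 1 := by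
    intro h
    rw [Subgroup.card_eq_one] at h
    exact h0 h
  have h3 : Nat.card (N ⊓ Subgroup.center G : Subgroup G) = p := by
    rcases (Nat.dvd_prime hp.out).1 h1 with h | h
    · exact absurd h h2
    · exact h
  have h4 : N ⊓ Subgroup.center G = N := by
    apply Subgroup.eq_of_le_of_card_ge inf_le_left
    rw [h3, hN]
  rw [← h4]
  exact inf_le_right

/-- A nontrivial normal subgroup of a `p`-group contains a central subgroup of order `p`. -/
theorem exists_central_subgroup (p : ℕ) [hp : Fact p.Prime] (hP : IsPGroup p G)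
    (M : Subgroup G) [M.Normal] (hM : M ≠ ⊥) :
    ∃ N : Subgroup G, N.Normal ∧ Nat.card N = p ∧ N ≤ Subgroup.center G ∧ N ≤ M := by
  haveI : Group.IsNilpotent G := hP.isNilpotent
  have h0 := Cfsg.Agent.Lib.Lead.inf_center_ne_bot M hM
  set K : Subgroup G := M ⊓ Subgroup.center G with hK
  have hKp : IsPGroup p K := hP.to_subgroup K
  have hKcard : p ∣ Nat.card K := by
    obtain ⟨n, hn⟩ := (IsPGroup.iff_card (p := p) (G := K)).1 hKp
    rw [hn]
    rcases Nat.eq_zero_or_pos n with rfl | hn0
    · exfalso
      rw [pow_zero] at hn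
      exact h0 ((Subgroup.card_eq_one).1 hn)
    · exact dvd_pow_self p hn0.ne'
  obtain ⟨w, hw⟩ := exists_prime_orderOf_dvd_card' p hKcard
  have hwK : (w : G) ∈ K := w.2
  have hle : Subgroup.zpowers (w : G) ≤ K := by
    rw [Subgroup.zpowers_le]
    exact hwK
  refine ⟨Subgroup.zpowers (w : G), normal_of_le_center _ (hle.trans inf_le_right), ?_,
    hle.trans inf_le_right, hle.trans inf_le_left⟩
  rw [Nat.card_zpowers, Subgroup.orderOf_coe, hw]

end PG

end Cfsg.Agent.Lib.Helper4.GC
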