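import Mathlib
import Cfsg.Agent.Lib.Helper4.PStab2
import Cfsg.Agent.Lib.Helper4.GC9
import Cfsg.Agent.Lib.Lead.OddStable

set_option autoImplicit false
open scoped commutatorElement

/-! Chief factors of `p`-groups have exponent `p`; cyclic commutators act trivially. -/

namespace Cfsg.Agent.Lib.Helper4.PL

open Cfsg Cfsg.Agent.Lib.Helper4

universe u

section

variable {G : Type u} [Group G] [Finite G] {p : ℕ} [hp : Fact p.Prime]

/-- A chief factor below a `p`-group has exponent `p`. -/
theorem chief_pow_mem {U V : Subgroup G} (hch : IsChiefFactor U V) (hU : IsPGroup p U) :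
    ∀ u ∈ U, u ^ p ∈ V := by
  classical
  obtain ⟨hlt, hUn, hVn, hmin⟩ := hch
  haveI := hUn
  haveI := hVn
  have hcomm : ⁅U, U⁆ ≤ V :=
    chief_commutator_le_of_isPGroup ⟨hlt, hUn, hVn, hmin⟩ U hU le_rfl
  -- the subgroup of elements of U with p-th power in V
  let K : Subgroup G :=
    { carrier := {u | u ∈ U ∧ u ^ p ∈ V}
      one_mem' := ⟨U.one_mem, by rw [one_pow]; exact V.one_mem⟩
      mul_mem' := by
        rintro a b ⟨haU, haV⟩ ⟨hbU, hbV⟩
        refine ⟨U.mul_mem haU hbU, ?_⟩
        have h1 : ⁅a, b⁆ ∈ V := hcomm (Subgroup.commutator_mem_commutator haU hbU)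
        rw [← QuotientGroup.eq_one_iff] at haV hbV h1 ⊢
        rw [QuotientGroup.mk_pow] at haV hbV ⊢
        rw [QuotientGroup.mk_mul]
        have hc : Commute (a : G ⧸ V) (b : G ⧸ V) := by
          have h2 : ((⁅a, b⁆ : G) : G ⧸ V) = ⁅(a : G ⧸ V), (b : G ⧸ V)⁆ := by
            rw [commutatorElement_def, commutatorElement_def]
            simp only [QuotientGroup.mk_mul, QuotientGroup.mk_inv]
          rw [h2] at h1
          exact commutatorElement_eq_one_iff_commute.1 h1
        rw [hc.mul_pow, haV, hbV, one_mul]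
      inv_mem' := by
        rintro a ⟨haU, haV⟩
        refine ⟨U.inv_mem haU, ?_⟩
        rw [inv_pow]
        exact V.inv_mem haV }
  have hKn : K.Normal := by
    refine ⟨fun a ha g => ?_⟩
    obtain ⟨haU, haV⟩ := ha
    refine ⟨hUn.conj_mem a haU g, ?_⟩
    rw [conj_pow]
    exact hVn.conj_mem _ haV g
  have hVK : V ≤ K := fun v hv => ⟨hlt.le hv, V.pow_mem hv p⟩
  have hKU : K ≤ U := fun u hu => hu.1
  rcases hmin K hKn hVK hKU with h | h
  · exfalso
    obtain ⟨u, huU, huV⟩ := SetLike.exists_of_lt hlt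
    obtain ⟨k, hk⟩ := (hU ⟨u, huU⟩)
    have hk' : u ^ p ^ k = 1 := by
      have := congrArg Subtype.val hk
      simpa using this
    have hex : ∃ m : ℕ, u ^ p ^ m ∈ V := ⟨k, by rw [hk']; exact V.one_mem⟩
    set m := Nat.find hex with hm
    have hm1 : u ^ p ^ m ∈ V := Nat.find_spec hex
    have hm0 : m ≠ 0 := by
      intro h0
      rw [h0, pow_zero, pow_one] at hm1
      exact huV hm1
    obtain ⟨m', hm'⟩ := Nat.exists_eq_succ_of_ne_zero hm0
    have h2 : u ^ p ^ m' ∈ K := by
      refine ⟨U.pow_mem huU _, ?_⟩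
      rw [← pow_mul, ← pow_succ]
      have : m' + 1 = m := by omega
      rw [this]
      exact hm1
    rw [h] at h2
    have h3 : m ≤ m' := Nat.find_min' hex h2
    omega
  · intro u hu
    have : u ∈ K := by rw [h]; exact hu
    exact this.2

/-- A subgroup `D` of a `p`-group `T`, normalized by `T`, contained in a cyclic group, whose
`p`-th powers lie in the normal subgroup `V`, is centralized by `T` modulo `V`. -/
theorem comm_le_of_cyclic (T : Subgroup G) (hT : IsPGroup p T) (V : Subgroup G) [hV : V.Normal]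
    (D : Subgroup G) (hDT : D ≤ T) (hnorm : ∀ t ∈ T, ∀ d ∈ D, t * d * t⁻¹ ∈ D)
    (hcyc : ∃ c : G, D ≤ Subgroup.zpowers c) (hpow : ∀ d ∈ D, d ^ p ∈ V) :
    ⁅D, T⁆ ≤ V := by
  classical
  obtain ⟨c, hc⟩ := hcyc
  set π := QuotientGroup.mk' V with hπ
  -- the image of D has at most p elements
  have hcard : Nat.card (D.map π) ≤ p := by
    haveI : IsCyclic (Subgroup.zpowers (π c)) := inferInstance
    have hle : D.map π ≤ Subgroup.zpowers (π c) := by
      rw [← MonoidHom.map_zpowers]
      exact Subgroup.map_mono hc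
    haveI : Fintype (Subgroup.zpowers (π c)) := Fintype.ofFinite _
    have h1 := IsCyclic.card_pow_eq_one_le (α := Subgroup.zpowers (π c)) hp.out.pos
    have h2 : Nat.card (D.map π) ≤
        (Finset.univ.filter (fun a : Subgroup.zpowers (π c) => a ^ p = 1)).card := by
      rw [← Nat.card_eq_finsetCard]
      apply Nat.card_le_card_of_injective
        (fun d : D.map π => (⟨⟨(d : G ⧸ V), hle d.2⟩, by
          rw [Finset.mem_filter]
          refine ⟨Finset.mem_univ _, ?_⟩
          apply Subtype.ext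
          obtain ⟨d₀, hd₀, hd₀'⟩ := d.2
          show (d : G ⧸ V) ^ p = 1
          rw [← hd₀', ← map_pow]
          exact (QuotientGroup.eq_one_iff _).2 (hpow d₀ hd₀)⟩ :
          {a // a ∈ Finset.univ.filter (fun a : Subgroup.zpowers (π c) => a ^ p = 1)}))
      intro a b hab
      apply Subtype.ext
      have := congrArg (fun z => ((z.1 : Subgroup.zpowers (π c)) : G ⧸ V)) hab
      exact this
    exact h2.trans h1
  -- pass to the p-group T.map π
  have hTp : IsPGroup p (T.map π) := hT.map π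
  have hDT' : D.map π ≤ T.map π := Subgroup.map_mono hDT
  set N : Subgroup (T.map π) := (D.map π).subgroupOf (T.map π) with hN
  have hNcard : Nat.card N = Nat.card (D.map π) :=
    Nat.card_congr (Subgroup.subgroupOfEquivOfLe hDT').toEquiv
  haveI hNn : N.Normal := by
    refine ⟨fun a ha g => ?_⟩
    rw [hN, Subgroup.mem_subgroupOf] at ha ⊢
    obtain ⟨d, hd, hd'⟩ := ha
    obtain ⟨t, ht, ht'⟩ := g.2
    refine ⟨t * d * t⁻¹, hnorm t ht d hd, ?_⟩
    rw [map_mul, map_mul, map_inv, hd', ht']
    rfl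
  have hNc : N ≤ Subgroup.center (T.map π) := by
    obtain ⟨k, hk⟩ := (IsPGroup.iff_card (p := p) (G := N)).1 (hTp.to_subgroup N)
    have hle : p ^ k ≤ p := by rw [← hk, hNcard]; exact hcard
    have hk1 : k ≤ 1 := by
      by_contra hcon
      push Not at hcon
      have : p ^ 2 ≤ p ^ k := Nat.pow_le_pow_right hp.out.pos hcon
      have hp2 := hp.out.two_le
      nlinarith
    interval_cases k
    · rw [pow_zero] at hk
      rw [Subgroup.card_eq_one.1 hk]
      exact bot_le
    · rw [pow_one] at hk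
      exact Cfsg.Agent.Lib.Helper4.GC.le_center_of_card_prime p hTp N hk
  rw [Subgroup.commutator_le]
  intro d hd t ht
  have h1 : (⟨π d, hDT' ⟨d, hd, rfl⟩⟩ : T.map π) ∈ N := by
    rw [hN, Subgroup.mem_subgroupOf]
    exact ⟨d, hd, rfl⟩
  have h2 := Subgroup.mem_center_iff.1 (hNc h1) ⟨π t, ⟨t, ht, rfl⟩⟩
  have h3 : π t * π d = π d * π t := congrArg Subtype.val h2
  rw [← QuotientGroup.eq_one_iff]
  show π ⁅d, t⁆ = 1
  rw [map_commutatorElement, commutatorElement_eq_one_iff_commute]
  exact h3.symm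

end

end Cfsg.Agent.Lib.Helper4.PL
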