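import Mathlib
import Cfsg.Agent.Lib.Helper4.PL1
import Cfsg.Agent.Lib.Helper4.KCritical
import Cfsg.Agent.Lib.Helper4.SolvBalance
import Cfsg.Agent.Lib.Helper7.SylNorm1

set_option autoImplicit false
open scoped commutatorElement

/-! `p`-length one for odd order solvable groups whose Sylow `p`-subgroups have cyclic derived
subgroup. -/

namespace Cfsg.Agent.Lib.Helper4.PL

open Cfsg Cfsg.Agent.Lib.Helper4

universe u

section

variable {p : ℕ} [hp : Fact p.Prime]

theorem sylow_le_pCore_of_cyclic {Y : Type u} [Group Y] [Finite Y] [Group.IsSolvable Y]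
    (hodd : Odd (Nat.card Y)) (hp2 : p ≠ 2) (hred : pPrimeCore p Y = ⊥) (T : Sylow p Y)
    (hcyc : ∃ c : Y, ⁅(T : Subgroup Y), (T : Subgroup Y)⁆ ≤ Subgroup.zpowers c) :
    (T : Subgroup Y) ≤ pCore p Y := by
  have hps : ∀ (N : Subgroup Y) (hN : N.Normal), IsNormalizerPStable p (Y ⧸ N) := by
    intro N hN
    apply Cfsg.Agent.Lib.Lead.OddStable.isNormalizerPStable_of_odd _ hp2
    exact Odd.of_dvd_nat hodd (Subgroup.card_quotient_dvd_card N)
  have hc := Cfsg.Agent.Lib.Lead.OddStable.centralizer_pCore_le_of_solvable (p := p) hred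
  obtain ⟨A, hAT, hAn, -, hTA, hCA⟩ := exists_critical_pCore Y p
  haveI := hAn
  have hTT : ⁅(T : Subgroup Y), (T : Subgroup Y)⁆ ≤ T := by
    rw [Subgroup.commutator_le]
    intro a ha b hb
    rw [commutatorElement_def]
    exact Subgroup.mul_mem _ (Subgroup.mul_mem _ (Subgroup.mul_mem _ ha hb)
      (Subgroup.inv_mem _ ha)) (Subgroup.inv_mem _ hb)
  apply le_pCore_of_quadratic_chief hps hc A hAT hTA hCA (T : Subgroup Y)
  intro U V hch hUA
  haveI hVn : V.Normal := hch.2.2.1
  haveI hUn : U.Normal := hch.2.1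
  have hUT : U ≤ T := hUA.trans (hAT.trans (Cfsg.Agent.Lib.Helper6.pCore_le_sylow T))
  have hUp : IsPGroup p U := T.isPGroup'.to_le hUT
  have hDle : ⁅U, (T : Subgroup Y)⁆ ≤ ⁅(T : Subgroup Y), (T : Subgroup Y)⁆ :=
    Subgroup.commutator_mono hUT le_rfl
  apply comm_le_of_cyclic (T : Subgroup Y) T.isPGroup' V ⁅U, (T : Subgroup Y)⁆ (hDle.trans hTT)
  · intro t ht d hd
    have h1 : (⁅U, (T : Subgroup Y)⁆).map (MulAut.conj t).toMonoidHom ≤ ⁅U, (T : Subgroup Y)⁆ := by
      rw [Subgroup.map_commutator]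
      apply Subgroup.commutator_mono
      · rintro x ⟨u, hu, rfl⟩
        exact hUn.conj_mem u hu t
      · rintro x ⟨s, hs, rfl⟩
        exact Subgroup.mul_mem _ (Subgroup.mul_mem _ ht hs) (Subgroup.inv_mem _ ht)
    exact h1 ⟨d, hd, rfl⟩
  · obtain ⟨c, hc'⟩ := hcyc
    exact ⟨c, hDle.trans hc'⟩
  · intro d hd
    exact chief_pow_mem hch hUp d (Subgroup.commutator_le_left U _ hd)

theorem sup_sylow_normal {X : Type u} [Group X] [Finite X] [Group.IsSolvable X]
    (hX : Odd (Nat.card X)) (S : Sylow p X) (hS : IsCyclic (commutator (S : Subgroup X))) :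
    (pPrimeCore p X ⊔ (S : Subgroup X)).Normal := by
  haveI hKn : (pPrimeCore p X).Normal := Cfsg.Agent.Lib.Helper7.SylNorm.pPrimeCore_normal' p
  by_cases hp2 : p = 2
  · -- S is trivial
    have h1 : (S : Subgroup X) = ⊥ := by
      obtain ⟨k, hk⟩ := (IsPGroup.iff_card (p := p)).1 S.isPGroup'
      have h2 : Nat.card (S : Subgroup X) ∣ Nat.card X := Subgroup.card_subgroup_dvd_card _
      have h3 : Odd (Nat.card (S : Subgroup X)) := Odd.of_dvd_nat hX h2
      rw [hk, hp2] at h3
      have hk0 : k = 0 := by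
        by_contra hk0
        have : Even (2 ^ k) := (Nat.even_pow' hk0).2 even_two
        exact (Nat.not_even_iff_odd.2 h3) this
      rw [hk0, pow_zero] at hk
      exact Subgroup.card_eq_one.1 hk
    rw [h1, sup_bot_eq]
    exact hKn
  · set π := QuotientGroup.mk' (pPrimeCore p X) with hπ
    have hπs : Function.Surjective π := QuotientGroup.mk'_surjective _
    set T : Sylow p (X ⧸ pPrimeCore p X) := S.mapSurjective hπs with hT
    have hTcoe : (T : Subgroup (X ⧸ pPrimeCore p X)) = (S : Subgroup X).map π := rfl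
    have hodd : Odd (Nat.card (X ⧸ pPrimeCore p X)) :=
      Odd.of_dvd_nat hX (Subgroup.card_quotient_dvd_card _)
    have hred : pPrimeCore p (X ⧸ pPrimeCore p X) = ⊥ := pPrimeCore_quotient_self p
    -- the commutator subgroup of T is cyclic
    obtain ⟨c₀, hc₀⟩ := hS.exists_generator
    have hSS : ⁅(S : Subgroup X), (S : Subgroup X)⁆ ≤ Subgroup.zpowers ((c₀ : (S : Subgroup X)) : X) := by
      have h1 : ⁅(S : Subgroup X), (S : Subgroup X)⁆ =
          (commutator (S : Subgroup X)).map (S : Subgroup X).subtype := by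
        rw [commutator_def, Subgroup.map_commutator, ← MonoidHom.range_eq_map, Subgroup.range_subtype]
      rw [h1]
      rintro x ⟨y, hy, rfl⟩
      obtain ⟨k, hk⟩ := Subgroup.mem_zpowers_iff.1 (hc₀ ⟨y, hy⟩)
      rw [Subgroup.mem_zpowers_iff]
      refine ⟨k, ?_⟩
      have := congrArg (fun z : commutator (S : Subgroup X) => ((z : (S : Subgroup X)) : X)) hk
      simpa using this
    have hcyc : ∃ c : X ⧸ pPrimeCore p X,
        ⁅(T : Subgroup (X ⧸ pPrimeCore p X)), (T : Subgroup (X ⧸ pPrimeCore p X))⁆ ≤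
          Subgroup.zpowers c := by
      refine ⟨π ((c₀ : (S : Subgroup X)) : X), ?_⟩
      rw [hTcoe, ← Subgroup.map_commutator, ← MonoidHom.map_zpowers]
      exact Subgroup.map_mono hSS
    have hle := sylow_le_pCore_of_cyclic hodd hp2 hred T hcyc
    have heq : (T : Subgroup (X ⧸ pPrimeCore p X)) = pCore p (X ⧸ pPrimeCore p X) :=
      le_antisymm hle (Cfsg.Agent.Lib.Helper6.pCore_le_sylow T)
    have hTn : (T : Subgroup (X ⧸ pPrimeCore p X)).Normal := by
      rw [heq]
      exact Cfsg.Agent.Lib.Lead.pCore_normal p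
    have h1 : pPrimeCore p X ⊔ (S : Subgroup X) =
        (T : Subgroup (X ⧸ pPrimeCore p X)).comap π := by
      rw [hTcoe, Subgroup.comap_map_eq, hπ, QuotientGroup.ker_mk', sup_comm]
    rw [h1]
    exact Subgroup.Normal.comap hTn π

end

end Cfsg.Agent.Lib.Helper4.PL
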