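import Mathlib
import Cfsg.Agent.Lib.Helper4.PL2
import Cfsg.Agent.Lib.Helper7.PSer

set_option autoImplicit false
open scoped commutatorElement

/-! `p`-length one from normality of `O_{p'}(G) P`; abelian Sylow subgroups. -/

namespace Cfsg.Agent.Lib.Helper4.PL

open Cfsg Cfsg.Agent.Lib.Helper4

universe u

section

variable {p : ℕ} [hp : Fact p.Prime] {G : Type u} [Group G] [Finite G]

/-- If `O_{p'}(G) P` is normal then `G` has `p`-length at most one. -/
theorem pLengthLE_one_of_normal (P : Sylow p G)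
    (h : (pPrimeCore p G ⊔ (P : Subgroup G)).Normal) : PLengthLE p 1 G := by
  haveI hKn : (pPrimeCore p G).Normal := Cfsg.Agent.Lib.Helper7.SylNorm.pPrimeCore_normal' p
  haveI := h
  apply Cfsg.Agent.Lib.Helper7.PSer.pLengthLE_of
  have h1 : Cfsg.Agent.Lib.Helper7.PSer.PSer p 0 (⊥ : Subgroup G) (pPrimeCore p G) := by
    apply Cfsg.Agent.Lib.Helper7.PSer.of_coprime bot_le
    rw [Subgroup.relIndex_bot_left]
    exact Cfsg.Agent.Lib.Helper6.pPrimeCore_coprime p
  have h2 : Cfsg.Agent.Lib.Helper7.PSer.PSer p 1 (pPrimeCore p G)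
      (pPrimeCore p G ⊔ (P : Subgroup G)) := by
    obtain ⟨k, hk⟩ := (IsPGroup.iff_card (p := p)).1 P.isPGroup'
    have h3 : (pPrimeCore p G).relIndex (pPrimeCore p G ⊔ (P : Subgroup G)) ∣ p ^ k := by
      rw [sup_comm, Subgroup.relIndex_sup_right, ← hk]
      exact Subgroup.relIndex_dvd_card _ _
    obtain ⟨m, -, hm⟩ := (Nat.dvd_prime_pow hp.out).1 h3
    exact Cfsg.Agent.Lib.Helper7.PSer.of_pow le_sup_left hm
  have h3 : Cfsg.Agent.Lib.Helper7.PSer.PSer p 0 (pPrimeCore p G ⊔ (P : Subgroup G))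
      (⊤ : Subgroup G) := by
    apply Cfsg.Agent.Lib.Helper7.PSer.of_coprime le_top
    rw [Subgroup.relIndex_top_right]
    have h4 : (pPrimeCore p G ⊔ (P : Subgroup G)).index ∣ (P : Subgroup G).index :=
      Subgroup.index_dvd_of_le le_sup_right
    have h5 : ((P : Subgroup G).index).Coprime p :=
      ((Nat.Prime.coprime_iff_not_dvd hp.out).2 P.not_dvd_index).symm
    exact Nat.Coprime.coprime_dvd_left h4 h5
  have h4 := Cfsg.Agent.Lib.Helper7.PSer.concat (Cfsg.Agent.Lib.Helper7.PSer.concat h1 h2) h3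
  exact h4

/-- Reduction to `G / O_{p'}(G)`. -/
theorem sup_sylow_normal_of_quotient (P : Sylow p G)
    (h : ∀ T : Sylow p (G ⧸ pPrimeCore p G), (T : Subgroup (G ⧸ pPrimeCore p G)) ≤
      pCore p (G ⧸ pPrimeCore p G)) :
    (pPrimeCore p G ⊔ (P : Subgroup G)).Normal := by
  haveI hKn : (pPrimeCore p G).Normal := Cfsg.Agent.Lib.Helper7.SylNorm.pPrimeCore_normal' p
  set π := QuotientGroup.mk' (pPrimeCore p G) with hπ
  have hπs : Function.Surjective π := QuotientGroup.mk'_surjective _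
  set T : Sylow p (G ⧸ pPrimeCore p G) := P.mapSurjective hπs with hT
  have hTcoe : (T : Subgroup (G ⧸ pPrimeCore p G)) = (P : Subgroup G).map π := rfl
  have heq : (T : Subgroup (G ⧸ pPrimeCore p G)) = pCore p (G ⧸ pPrimeCore p G) :=
    le_antisymm (h T) (Cfsg.Agent.Lib.Helper6.pCore_le_sylow T)
  have hTn : (T : Subgroup (G ⧸ pPrimeCore p G)).Normal := by
    rw [heq]
    exact Cfsg.Agent.Lib.Lead.pCore_normal p
  have h1 : pPrimeCore p G ⊔ (P : Subgroup G) =
      (T : Subgroup (G ⧸ pPrimeCore p G)).comap π := by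
    rw [hTcoe, Subgroup.comap_map_eq, hπ, QuotientGroup.ker_mk', sup_comm]
  rw [h1]
  exact Subgroup.Normal.comap hTn π

/-- Solvable groups with abelian Sylow `p`-subgroups have `p`-length at most one. -/
theorem pLengthLE_one_of_abelian [Group.IsSolvable G] (P : Sylow p G)
    (hab : ∀ a ∈ (P : Subgroup G), ∀ b ∈ (P : Subgroup G), a * b = b * a) :
    PLengthLE p 1 G := by
  haveI hKn : (pPrimeCore p G).Normal := Cfsg.Agent.Lib.Helper7.SylNorm.pPrimeCore_normal' p
  apply pLengthLE_one_of_normal P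
  apply sup_sylow_normal_of_quotient P
  intro T
  have hred : pPrimeCore p (G ⧸ pPrimeCore p G) = ⊥ := pPrimeCore_quotient_self p
  have hc := Cfsg.Agent.Lib.Lead.OddStable.centralizer_pCore_le_of_solvable (p := p) hred
  -- T is abelian: it is conjugate to the image of P
  set π := QuotientGroup.mk' (pPrimeCore p G) with hπ
  have hπs : Function.Surjective π := QuotientGroup.mk'_surjective _
  set T₀ : Sylow p (G ⧸ pPrimeCore p G) := P.mapSurjective hπs with hT₀
  have hT₀coe : (T₀ : Subgroup (G ⧸ pPrimeCore p G)) = (P : Subgroup G).map π := rfl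
  have hT₀ab : ∀ a ∈ (T₀ : Subgroup (G ⧸ pPrimeCore p G)),
      ∀ b ∈ (T₀ : Subgroup (G ⧸ pPrimeCore p G)), a * b = b * a := by
    rw [hT₀coe]
    rintro a ⟨a', ha', rfl⟩ b ⟨b', hb', rfl⟩
    rw [← map_mul, ← map_mul, hab a' ha' b' hb']
  have hT₀le : (T₀ : Subgroup (G ⧸ pPrimeCore p G)) ≤ pCore p (G ⧸ pPrimeCore p G) := by
    intro t ht
    apply hc
    rw [Subgroup.mem_centralizer_iff]
    intro z hz
    exact hT₀ab z (Cfsg.Agent.Lib.Helper6.pCore_le_sylow T₀ hz) t ht
  -- all Sylow subgroups lie in the normal p-core once one does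
  obtain ⟨g, hg⟩ := MulAction.exists_smul_eq (G ⧸ pPrimeCore p G) T₀ T
  rw [← hg, Sylow.smul_def, Sylow.pointwise_smul_def]
  intro x hx
  rw [Subgroup.mem_smul_pointwise_iff_exists] at hx
  obtain ⟨s, hs, rfl⟩ := hx
  rw [MulAut.smul_def, MulAut.conj_apply]
  exact (Cfsg.Agent.Lib.Lead.pCore_normal (G := G ⧸ pPrimeCore p G) p).conj_mem s (hT₀le hs) g

end

end Cfsg.Agent.Lib.Helper4.PL
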