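import Mathlib
import Cfsg.Agent.Lib.Helper5.SchmDefs
import Cfsg.Agent.Lib.Helper8.TB9
import Cfsg.Agent.Lib.Helper6.PReduced
import Cfsg.Agent.Lib.Helper9.SchmPB

/-!
# S4394, package PC1: `exists_config`

Lifting the minimal coprime configuration of package PB from `G / O_p(G)` to `G`.
-/

set_option autoImplicit false
set_option linter.unusedSectionVars false

namespace Cfsg.Agent.Lib.Helper4.Schm

open Cfsg.Agent.Lib.Helper5.Schm

universe u

/-- The statement of package PB (`exists_min_config`), as a hypothesis. -/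
def PBStatement (p : ℕ) : Prop :=
  ∀ {Γ : Type u} [Group Γ] [Finite Γ] (A K : Subgroup Γ),
    (∀ a ∈ A, ∀ b ∈ A, a * b = b * a) → (∀ a ∈ A, a ^ p = 1) → (Nat.card K).Coprime p →
    A ≤ Subgroup.normalizer (K : Set Γ) → ¬ A ≤ Subgroup.centralizer (K : Set Γ) →
    ∃ (M : Subgroup Γ) (r : ℕ) (s : Γ), r.Prime ∧ r ≠ p ∧ M ≤ K ∧ IsPGroup r M ∧
      A ≤ Subgroup.normalizer (M : Set Γ) ∧ s ∈ A ∧ s ∉ Subgroup.centralizer (M : Set Γ) ∧
      (∀ a ∈ A, ∃ i : ℕ, a * s ^ i ∈ Subgroup.centralizer (M : Set Γ)) ∧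
      (∀ N : Subgroup Γ, N ≤ M → N ≠ M → A ≤ Subgroup.normalizer (N : Set Γ) →
        A ≤ Subgroup.centralizer (N : Set Γ))

/-- In a finite group, an element conjugating `M` into itself normalizes `M`. -/
theorem pc1_mem_normalizer_of_conj_le {G : Type u} [Group G] [Finite G] (M : Subgroup G) (g : G)
    (h : ∀ m ∈ M, g * m * g⁻¹ ∈ M) : g ∈ Subgroup.normalizer (M : Set G) := by
  rw [Subgroup.mem_normalizer_iff]
  intro x
  refine ⟨h x, fun hx => ?_⟩
  let f : M → M := fun m => ⟨g * m * g⁻¹, h m m.2⟩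
  have hinj : Function.Injective f := by
    intro a b hab
    have h1 : g * (a : G) * g⁻¹ = g * (b : G) * g⁻¹ := congrArg Subtype.val hab
    exact Subtype.ext (mul_left_cancel (mul_right_cancel h1))
  have hsurj := Finite.surjective_of_injective hinj
  obtain ⟨m, hm⟩ := hsurj ⟨g * x * g⁻¹, hx⟩
  have h1 : g * (m : G) * g⁻¹ = g * x * g⁻¹ := congrArg Subtype.val hm
  have h2 : (m : G) = x := mul_left_cancel (mul_right_cancel h1)
  rw [← h2]; exact m.2

/-- Frattini argument for a Sylow subgroup of a (not necessarily normal) subgroup `Mt`. -/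
theorem pc1_frattini {G : Type u} [Group G] [Finite G] {r : ℕ} [Fact r.Prime] (Mt : Subgroup G)
    (M₀ : Sylow r ↥Mt) (a : G) (ha : a ∈ Subgroup.normalizer (Mt : Set G)) :
    ∃ x ∈ Mt, x⁻¹ * a ∈
      Subgroup.normalizer ((((M₀ : Subgroup ↥Mt).map Mt.subtype : Subgroup G)) : Set G) := by
  set M : Subgroup G := (M₀ : Subgroup ↥Mt).map Mt.subtype with hM
  have hMle : M ≤ Mt := by rw [hM]; exact Subgroup.map_subtype_le _
  have hMp : IsPGroup r M := M₀.isPGroup'.map _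
  have hconj : ∀ m ∈ M, a * m * a⁻¹ ∈ Mt :=
    fun m hm => (Subgroup.mem_normalizer_iff.mp ha m).mp (hMle hm)
  set M' : Subgroup ↥Mt := (M.map (MulAut.conj a).toMonoidHom).subgroupOf Mt with hM'
  have hM'p : IsPGroup r M' := (hMp.map _).comap_subtype
  obtain ⟨P', hP'⟩ := hM'p.exists_le_sylow
  obtain ⟨x, hx⟩ := MulAction.exists_smul_eq ↥Mt M₀ P'
  refine ⟨(x : G), x.2, ?_⟩
  apply pc1_mem_normalizer_of_conj_le
  intro m hm
  have hy : (⟨a * m * a⁻¹, hconj m hm⟩ : ↥Mt) ∈ M' := by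
    rw [hM', Subgroup.mem_subgroupOf]
    exact ⟨m, hm, by simp [MulAut.conj_apply]⟩
  have hy2 : (⟨a * m * a⁻¹, hconj m hm⟩ : ↥Mt) ∈ ((x • M₀ : Sylow r ↥Mt) : Subgroup ↥Mt) := by
    rw [hx]; exact hP' hy
  rw [Sylow.coe_subgroup_smul, Subgroup.mem_pointwise_smul_iff_inv_smul_mem] at hy2
  have hy3 : x⁻¹ * (⟨a * m * a⁻¹, hconj m hm⟩ : ↥Mt) * x ∈ (M₀ : Subgroup ↥Mt) := by
    simpa [MulAut.smul_def, MulAut.conj_apply] using hy2
  have : ((x⁻¹ * (⟨a * m * a⁻¹, hconj m hm⟩ : ↥Mt) * x : ↥Mt) : G) ∈ M := by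
    rw [hM]; exact ⟨_, hy3, rfl⟩
  have e : (x : G)⁻¹ * a * m * ((x : G)⁻¹ * a)⁻¹
      = ((x⁻¹ * (⟨a * m * a⁻¹, hconj m hm⟩ : ↥Mt) * x : ↥Mt) : G) := by
    simp only [Subgroup.coe_mul, Subgroup.coe_inv]
    group
  rw [e]; exact this

/-- **PC1**, with the statement of PB as a hypothesis. -/
theorem exists_config_of_pb {G : Type u} [Group G] [Finite G] {p : ℕ} [Fact p.Prime]
    (hPB : PBStatement.{u} p)
    (hG : Cfsg.IsPSolvable p G) (hO : Cfsg.pPrimeCore p G = ⊥) (S : Sylow p G)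
    (hS : SE p ↥(S : Subgroup G)) (hnot : ¬ (S : Subgroup G) ≤ Cfsg.pCore p G) :
    ∃ (M : Subgroup G) (r : ℕ) (s : G), Config p G (S : Subgroup G) M r s := by
  classical
  have hp : p.Prime := Fact.out
  obtain ⟨R, hRdef⟩ : ∃ R : Subgroup G, R = Cfsg.pCore p G := ⟨_, rfl⟩
  haveI hRn : R.Normal := by rw [hRdef]; exact Cfsg.Agent.Lib.Lead.pCore_normal p
  have hRp : IsPGroup p R := by rw [hRdef]; exact Cfsg.Agent.Lib.Helper6.pCore_isPGroup p
  have hRS : R ≤ (S : Subgroup G) := by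
    rw [hRdef]; exact Cfsg.Agent.Lib.Helper6.pCore_le_sylow S
  have hCR : Subgroup.centralizer (R : Set G) ≤ R := by
    rw [hRdef]; exact Cfsg.Agent.Lib.Helper4.centralizer_pCore_le_of_isPSolvable hG hO
  rw [← hRdef] at hnot
  -- commutators and `p`-th powers of `S` lie in `R`
  have hcomm : ∀ a ∈ (S : Subgroup G), ∀ b ∈ (S : Subgroup G), a * b * a⁻¹ * b⁻¹ ∈ R := by
    intro a ha b hb
    apply hCR
    rw [Subgroup.mem_centralizer_iff]
    intro ρ hρ
    have h1 := hS.cls ⟨a, ha⟩ ⟨b, hb⟩ ⟨ρ, hRS hρ⟩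
    have h2 := congrArg Subtype.val h1
    simpa using h2.symm
  have hpow : ∀ a ∈ (S : Subgroup G), a ^ p ∈ R := by
    intro a ha
    apply hCR
    rw [Subgroup.mem_centralizer_iff]
    intro ρ hρ
    have h1 := hS.pw ⟨a, ha⟩ ⟨ρ, hRS hρ⟩
    have h2 := congrArg Subtype.val h1
    simpa using h2.symm
  set π : G →* G ⧸ R := QuotientGroup.mk' R with hπ
  have hπs : Function.Surjective π := QuotientGroup.mk'_surjective R
  have hker : ∀ g : G, π g = 1 ↔ g ∈ R := fun g => QuotientGroup.eq_one_iff g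
  -- `O_p(G/R) = 1`
  have hOp : Cfsg.pCore p (G ⧸ R) = ⊥ := by
    rw [Cfsg.Agent.Lib.Helper6.pCore_quotient_eq_bot_iff]
    intro D hD hDp
    have hDpg : IsPGroup p D := by
      intro d
      obtain ⟨k, hk⟩ := hDp d d.2
      obtain ⟨j, hj⟩ := hRp ⟨(d : G) ^ p ^ k, hk⟩
      refine ⟨k + j, ?_⟩
      have h1 : ((d : G) ^ p ^ k) ^ p ^ j = 1 := by simpa using congrArg Subtype.val hj
      apply Subtype.ext
      simp only [Subgroup.coe_pow, Subgroup.coe_one]
      rw [pow_add, pow_mul]; exact h1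
    rw [hRdef]
    exact Cfsg.Agent.Lib.Helper6.le_pCore hD hDpg
  have hGq : Cfsg.IsPSolvable p (G ⧸ R) := Cfsg.Agent.Lib.Helper7.isPSolvable_quotient hG R
  obtain ⟨Kb, hKbdef⟩ : ∃ Kb : Subgroup (G ⧸ R), Kb = Cfsg.pPrimeCore p (G ⧸ R) := ⟨_, rfl⟩
  haveI hKbn : Kb.Normal := by
    rw [hKbdef]; exact (Cfsg.Agent.Lib.Helper6.pPrimeCore_mem_set p).1
  have hKbc : (Nat.card Kb).Coprime p := by
    rw [hKbdef]; exact Cfsg.Agent.Lib.Helper6.pPrimeCore_coprime p
  have hCKb : Subgroup.centralizer (Kb : Set (G ⧸ R)) ≤ Kb := by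
    rw [hKbdef]
    exact Cfsg.Agent.Lib.Helper8.TB.centralizer_pPrimeCore_le_of_isPSolvable hGq hOp
  set Ab : Subgroup (G ⧸ R) := (S : Subgroup G).map π with hAb
  have hAbab : ∀ a ∈ Ab, ∀ b ∈ Ab, a * b = b * a := by
    rintro _ ⟨a, ha, rfl⟩ _ ⟨b, hb, rfl⟩
    have h1 : π (a * b * a⁻¹ * b⁻¹) = 1 := (hker _).mpr (hcomm a ha b hb)
    have h2 : π a * π b = π (a * b * a⁻¹ * b⁻¹) * (π b * π a) := by
      simp only [map_mul, map_inv]; group
    rw [h2, h1, one_mul]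
  have hAbexp : ∀ a ∈ Ab, a ^ p = 1 := by
    rintro _ ⟨a, ha, rfl⟩
    rw [← map_pow]; exact (hker _).mpr (hpow a ha)
  have hAbN : Ab ≤ Subgroup.normalizer (Kb : Set (G ⧸ R)) := by
    rw [Subgroup.normalizer_eq_top]; exact le_top
  have hAbp : IsPGroup p Ab := S.isPGroup'.map π
  have hAbnc : ¬ Ab ≤ Subgroup.centralizer (Kb : Set (G ⧸ R)) := by
    intro h
    have h1 : Ab ≤ Kb := h.trans hCKb
    have h2 : Ab = ⊥ := by
      have hc : (Nat.card Ab).Coprime p :=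
        Nat.Coprime.coprime_dvd_left (Subgroup.card_dvd_of_le h1) hKbc
      obtain ⟨n, hn⟩ := IsPGroup.iff_card.mp hAbp
      rcases Nat.eq_zero_or_pos n with rfl | hn0
      · rw [pow_zero] at hn; exact Subgroup.card_eq_one.mp hn
      · exfalso
        rw [hn] at hc
        have h3 : Nat.Coprime p p := (Nat.coprime_pow_left_iff hn0 p p).mp hc
        exact hp.one_lt.ne' ((Nat.coprime_self p).mp h3)
    apply hnot
    intro x hx
    have h3 : π x ∈ Ab := ⟨x, hx, rfl⟩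
    rw [h2, Subgroup.mem_bot] at h3
    exact (hker x).mp h3
  obtain ⟨Mb, r, sb, hr, hrp, hMbK, hMbr, hAbM, hsbA, hsbnc, hdec, hmin⟩ :=
    hPB Ab Kb hAbab hAbexp hKbc hAbN hAbnc
  haveI : Fact r.Prime := ⟨hr⟩
  set Mt : Subgroup G := Mb.comap π with hMt
  obtain ⟨M₀⟩ : Nonempty (Sylow r ↥Mt) := inferInstance
  set M : Subgroup G := (M₀ : Subgroup ↥Mt).map Mt.subtype with hM
  have hMle : M ≤ Mt := by rw [hM]; exact Subgroup.map_subtype_le _
  have hMr : IsPGroup r M := M₀.isPGroup'.map _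
  -- `M ∩ R = 1`
  have hMR : ∀ x ∈ M, x ∈ R → x = 1 := by
    intro x hxM hxR
    obtain ⟨i, hi⟩ := hMr ⟨x, hxM⟩
    obtain ⟨j, hj⟩ := hRp ⟨x, hxR⟩
    have hi' : x ^ r ^ i = 1 := by simpa using congrArg Subtype.val hi
    have hj' : x ^ p ^ j = 1 := by simpa using congrArg Subtype.val hj
    have h1 : orderOf x ∣ r ^ i := orderOf_dvd_of_pow_eq_one hi'
    have h2 : orderOf x ∣ p ^ j := orderOf_dvd_of_pow_eq_one hj'
    have hcop : Nat.Coprime (r ^ i) (p ^ j) :=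
      Nat.Coprime.pow _ _ ((Nat.coprime_primes hr hp).mpr hrp)
    have h3 : orderOf x = 1 := Nat.eq_one_of_dvd_coprimes hcop h1 h2
    exact orderOf_eq_one_iff.mp h3
  -- `π(M) = Mb`
  have hπM : M.map π = Mb := by
    have hle : M.map π ≤ Mb := by
      rintro _ ⟨m, hm, rfl⟩; exact hMle hm
    have hMtmap : Mt.map π = Mb := Subgroup.map_comap_eq_self_of_surjective hπs Mb
    have hdvd : (M.map π).relIndex (Mt.map π) ∣ M.relIndex Mt :=
      Cfsg.Agent.Lib.Helper7.relIndex_map_map_dvd π M Mt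
    rw [hMtmap] at hdvd
    have hidx : M.relIndex Mt = (M₀ : Subgroup ↥Mt).index := by
      have h1 : M.subgroupOf Mt = (M₀ : Subgroup ↥Mt) := by
        rw [hM]
        exact Subgroup.comap_map_eq_self_of_injective (Subgroup.subtype_injective _) _
      unfold Subgroup.relIndex
      rw [h1]
    obtain ⟨n, hn⟩ : ∃ n, (M.map π).relIndex Mb = r ^ n := by
      unfold Subgroup.relIndex
      exact hMbr.index _
    have hnd : ¬ r ∣ (M₀ : Subgroup ↥Mt).index := M₀.not_dvd_index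
    rcases Nat.eq_zero_or_pos n with rfl | hn0
    · rw [pow_zero] at hn
      exact le_antisymm hle (Subgroup.relIndex_eq_one.mp hn)
    · exfalso
      apply hnd
      rw [← hidx]
      refine (dvd_pow_self r hn0.ne').trans ?_
      rw [← hn]; exact hdvd
  -- Frattini with a correction in `R`
  have hfr : ∀ a : G, π a ∈ Subgroup.normalizer (Mb : Set (G ⧸ R)) →
      ∃ ρ ∈ R, ρ⁻¹ * a ∈ Subgroup.normalizer (M : Set G) := by
    intro a ha
    have haN : a ∈ Subgroup.normalizer (Mt : Set G) := by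
      rw [Subgroup.mem_normalizer_iff]
      intro h
      rw [hMt, Subgroup.mem_comap, Subgroup.mem_comap]
      have h1 := (Subgroup.mem_normalizer_iff.mp ha) (π h)
      simpa only [map_mul, map_inv] using h1
    obtain ⟨x, hxMt, hx⟩ := pc1_frattini Mt M₀ a haN
    have h1 : π x ∈ M.map π := by rw [hπM]; exact hxMt
    obtain ⟨m, hm, hmx⟩ := h1
    have hρ : x * m⁻¹ ∈ R := by
      rw [← hker, map_mul, map_inv, hmx]; group
    refine ⟨x * m⁻¹, hρ, ?_⟩
    have hmN : m ∈ Subgroup.normalizer (M : Set G) := Subgroup.le_normalizer hm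
    have h2 : (x * m⁻¹)⁻¹ * a = m * (x⁻¹ * a) := by group
    rw [h2]
    exact Subgroup.mul_mem _ hmN hx
  -- an element of `N(M)` whose image centralizes `Mb` centralizes `M`
  have hcz : ∀ g : G, g ∈ Subgroup.normalizer (M : Set G) →
      π g ∈ Subgroup.centralizer (Mb : Set (G ⧸ R)) → g ∈ Subgroup.centralizer (M : Set G) := by
    intro g hgN hgC
    rw [Subgroup.mem_centralizer_iff]
    intro m hm
    have hc1 : g * m * g⁻¹ * m⁻¹ ∈ M :=
      Subgroup.mul_mem _ ((Subgroup.mem_normalizer_iff.mp hgN m).mp hm) (Subgroup.inv_mem _ hm)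
    have hmb : π m ∈ (Mb : Set (G ⧸ R)) := by
      rw [← hπM]; exact ⟨m, hm, rfl⟩
    have hc2 : g * m * g⁻¹ * m⁻¹ ∈ R := by
      rw [← hker]
      have h1 := (Subgroup.mem_centralizer_iff.mp hgC) (π m) hmb
      simp only [map_mul, map_inv]
      rw [← h1]; group
    have h3 := hMR _ hc1 hc2
    have h4 : g * m = m * g := by
      calc g * m = (g * m * g⁻¹ * m⁻¹) * (m * g) := by group
        _ = m * g := by rw [h3, one_mul]
    exact h4.symm
  -- the element `s`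
  have hsbA' := hsbA
  obtain ⟨s₀, hs₀S, hs₀⟩ := hsbA
  have hs₀N : π s₀ ∈ Subgroup.normalizer (Mb : Set (G ⧸ R)) := by
    rw [hs₀]; exact hAbM hsbA'
  obtain ⟨ρ₀, hρ₀, hsN⟩ := hfr s₀ hs₀N
  obtain ⟨s, hs⟩ : ∃ s : G, s = ρ₀⁻¹ * s₀ := ⟨_, rfl⟩
  rw [← hs] at hsN
  have hsS : s ∈ (S : Subgroup G) := by
    rw [hs]; exact Subgroup.mul_mem _ (Subgroup.inv_mem _ (hRS hρ₀)) hs₀S
  have hπs' : π s = sb := by
    rw [hs, map_mul, map_inv, (hker ρ₀).mpr hρ₀, inv_one, one_mul, hs₀]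
  have hsnc : s ∉ Subgroup.centralizer (M : Set G) := by
    intro h
    apply hsbnc
    rw [Subgroup.mem_centralizer_iff]
    intro mb hmb
    have hmb' : mb ∈ M.map π := by rw [hπM]; exact hmb
    obtain ⟨m, hm, rfl⟩ := hmb'
    have h1 := (Subgroup.mem_centralizer_iff.mp h) m hm
    rw [← hπs', ← map_mul, ← map_mul, h1]
  refine ⟨M, r, s, ⟨hr, hrp, hMr, hsS, hsN, hsnc, ?_, ?_⟩⟩
  · -- decomposition
    intro x hx
    obtain ⟨i, hi⟩ := hdec (π x) ⟨x, hx, rfl⟩
    obtain ⟨a, ha⟩ : ∃ a : G, a = x * s ^ i := ⟨_, rfl⟩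
    have haS : a ∈ (S : Subgroup G) := by
      rw [ha]; exact Subgroup.mul_mem _ hx (Subgroup.pow_mem _ hsS i)
    have haC : π a ∈ Subgroup.centralizer (Mb : Set (G ⧸ R)) := by
      rw [ha, map_mul, map_pow, hπs']; exact hi
    have haN : π a ∈ Subgroup.normalizer (Mb : Set (G ⧸ R)) :=
      Subgroup.centralizer_le_normalizer _ haC
    obtain ⟨ρ, hρ, hN⟩ := hfr a haN
    have hCπ : π (ρ⁻¹ * a) ∈ Subgroup.centralizer (Mb : Set (G ⧸ R)) := by
      rw [map_mul, map_inv, (hker ρ).mpr hρ, inv_one, one_mul]; exact haC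
    have hC := hcz _ hN hCπ
    refine ⟨ρ, hRdef ▸ hρ, ρ⁻¹ * a,
      Subgroup.mem_inf.mpr ⟨Subgroup.mul_mem _ (Subgroup.inv_mem _ (hRS hρ)) haS, hC⟩,
      i * (orderOf s - 1), ?_⟩
    have ho : 0 < orderOf s := orderOf_pos s
    have hpw : s ^ i * s ^ (i * (orderOf s - 1)) = 1 := by
      rw [← pow_add]
      have h1 : i + i * (orderOf s - 1) = orderOf s * i := by
        obtain ⟨k, hk⟩ : ∃ k, orderOf s = k + 1 := ⟨orderOf s - 1, by omega⟩
        rw [hk, Nat.add_sub_cancel]; ring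
      rw [h1, pow_mul, pow_orderOf_eq_one, one_pow]
    rw [ha]
    calc x = x * (s ^ i * s ^ (i * (orderOf s - 1))) := by rw [hpw, mul_one]
      _ = ρ * (ρ⁻¹ * (x * s ^ i)) * s ^ (i * (orderOf s - 1)) := by group
  · -- minimality
    intro N hNM hNne hsNn
    have hNb_le : N.map π ≤ Mb := by rw [← hπM]; exact Subgroup.map_mono hNM
    have hNb_ne : N.map π ≠ Mb := by
      intro h
      apply hNne
      apply le_antisymm hNM
      intro m hm
      have h1 : π m ∈ N.map π := by rw [h, ← hπM]; exact ⟨m, hm, rfl⟩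
      obtain ⟨n, hn, hnm⟩ := h1
      have h2 : n⁻¹ * m ∈ M := Subgroup.mul_mem _ (Subgroup.inv_mem _ (hNM hn)) hm
      have h3 : n⁻¹ * m ∈ R := by rw [← hker, map_mul, map_inv, hnm]; group
      have h4 := hMR _ h2 h3
      have h5 : m = n := by
        calc m = n * (n⁻¹ * m) := by group
          _ = n := by rw [h4, mul_one]
      rw [h5]; exact hn
    have hsbN : sb ∈ Subgroup.normalizer ((N.map π : Subgroup (G ⧸ R)) : Set (G ⧸ R)) := by
      apply pc1_mem_normalizer_of_conj_le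
      rintro _ ⟨n, hn, rfl⟩
      refine ⟨s * n * s⁻¹, (Subgroup.mem_normalizer_iff.mp hsNn n).mp hn, ?_⟩
      rw [map_mul, map_mul, map_inv, hπs']
    have hAbNb : Ab ≤ Subgroup.normalizer ((N.map π : Subgroup (G ⧸ R)) : Set (G ⧸ R)) := by
      intro ab hab
      obtain ⟨i, hi⟩ := hdec ab hab
      have hc : ab * sb ^ i ∈
          Subgroup.normalizer ((N.map π : Subgroup (G ⧸ R)) : Set (G ⧸ R)) := by
        apply pc1_mem_normalizer_of_conj_le
        intro h hh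
        have h1 := (Subgroup.mem_centralizer_iff.mp hi) h (hNb_le hh)
        have h2 : ab * sb ^ i * h * (ab * sb ^ i)⁻¹ = h := by
          rw [← h1]; group
        rw [h2]; exact hh
      have h3 : ab = (ab * sb ^ i) * (sb ^ i)⁻¹ := by group
      rw [h3]
      exact Subgroup.mul_mem _ hc (Subgroup.inv_mem _ (Subgroup.pow_mem _ hsbN i))
    have hAbC := hmin (N.map π) hNb_le hNb_ne hAbNb
    have hsbC : sb ∈ Subgroup.centralizer ((N.map π : Subgroup (G ⧸ R)) : Set (G ⧸ R)) :=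
      hAbC hsbA'
    rw [Subgroup.mem_centralizer_iff]
    intro n hn
    have hc1 : s * n * s⁻¹ * n⁻¹ ∈ M :=
      hNM (Subgroup.mul_mem _ ((Subgroup.mem_normalizer_iff.mp hsNn n).mp hn)
        (Subgroup.inv_mem _ hn))
    have hc2 : s * n * s⁻¹ * n⁻¹ ∈ R := by
      rw [← hker]
      have h1 := (Subgroup.mem_centralizer_iff.mp hsbC) (π n) ⟨n, hn, rfl⟩
      simp only [map_mul, map_inv, hπs']
      rw [← h1]; group
    have h3 := hMR _ hc1 hc2
    have h4 : s * n = n * s := by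
      calc s * n = (s * n * s⁻¹ * n⁻¹) * (n * s) := by group
        _ = n * s := by rw [h3, one_mul]
    exact h4.symm

/-- **PC1** (exact signature of the note). -/
theorem exists_config {G : Type u} [Group G] [Finite G] {p : ℕ} [Fact p.Prime]
    (hG : Cfsg.IsPSolvable p G) (hO : Cfsg.pPrimeCore p G = ⊥) (S : Sylow p G)
    (hS : SE p ↥(S : Subgroup G)) (hnot : ¬ (S : Subgroup G) ≤ Cfsg.pCore p G) :
    ∃ (M : Subgroup G) (r : ℕ) (s : G), Config p G (S : Subgroup G) M r s :=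
  exists_config_of_pb
    (fun A K h1 h2 h3 h4 h5 => Cfsg.Agent.Lib.Helper9.Schm.exists_min_config A K h1 h2 h3 h4 h5)
    hG hO S hS hnot

end Cfsg.Agent.Lib.Helper4.Schm
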