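import Mathlib
import Cfsg.Prelude
import Cfsg.Agent.Lib.Helper5.SpRU.Defs2

set_option autoImplicit false
set_option linter.unusedSectionVars false

open Matrix

/-! # PK1 (FIN) for S2281: a subgroup of `Sp_{2n}(F)` containing the transvections in the
directions `e_i`, `f_i`, `e_i + e_{i+1}` is everything. -/

namespace Cfsg.Agent.Lib.Helper5.SpRU

variable {F : Type*} [Field F] {m : ℕ}

theorem eV_inl (i i' : Fin (m + 1)) :
    (eV i : Fin (m + 1) ⊕ Fin (m + 1) → F) (Sum.inl i') = if i' = i then 1 else 0 := by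
  simp [eV, Pi.single_apply]

theorem eV_inr (i i' : Fin (m + 1)) :
    (eV i : Fin (m + 1) ⊕ Fin (m + 1) → F) (Sum.inr i') = 0 := by
  simp [eV]

theorem fV_inl (i i' : Fin (m + 1)) :
    (fV i : Fin (m + 1) ⊕ Fin (m + 1) → F) (Sum.inl i') = 0 := by
  simp [fV]

theorem fV_inr (i i' : Fin (m + 1)) :
    (fV i : Fin (m + 1) ⊕ Fin (m + 1) → F) (Sum.inr i') = if i' = i then 1 else 0 := by
  simp [fV, Pi.single_apply]

theorem sf_eV (x : Fin (m + 1) ⊕ Fin (m + 1) → F) (j : Fin (m + 1)) :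
    Cfsg.sympForm (m + 1) F x (eV j) = x (Sum.inr j) :=
  Cfsg.Agent.Lib.Helper2.Symp.sympForm_single_inl x j

theorem sf_fV (x : Fin (m + 1) ⊕ Fin (m + 1) → F) (j : Fin (m + 1)) :
    Cfsg.sympForm (m + 1) F x (fV j) = - x (Sum.inl j) :=
  Cfsg.Agent.Lib.Helper2.Symp.sympForm_single_inr x j

/-- the set `D` of directions all of whose transvections lie in `H`. -/
def InD (H : Subgroup (Matrix.symplecticGroup (Fin (m + 1)) F))
    (p : Fin (m + 1) ⊕ Fin (m + 1) → F) : Prop := ∀ c : F, tS p c ∈ H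

variable {H : Subgroup (Matrix.symplecticGroup (Fin (m + 1)) F)}

theorem InD_zero : InD H (0 : Fin (m + 1) ⊕ Fin (m + 1) → F) := by
  intro c
  have : tS (0 : Fin (m + 1) ⊕ Fin (m + 1) → F) c = 1 := by
    apply Subtype.ext
    show Cfsg.sympTransvection (m + 1) (0 : Fin (m + 1) ⊕ Fin (m + 1) → F) c = 1
    unfold Cfsg.sympTransvection
    ext i j
    simp [Matrix.vecMulVec_apply]
  rw [this]
  exact H.one_mem

theorem InD_smul {p : Fin (m + 1) ⊕ Fin (m + 1) → F} (hp : InD H p) (a : F) : InD H (a • p) := by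
  intro c
  rw [tS_smul]
  exact hp _

/-- the basic move. -/
theorem InD_move {x r : Fin (m + 1) ⊕ Fin (m + 1) → F} (hx : InD H x) (hr : InD H r)
    (h : Cfsg.sympForm (m + 1) F x r ≠ 0) (l : F) : InD H (x + l • r) := by
  intro c
  have h1 : tS r (l / Cfsg.sympForm (m + 1) F x r) * tS x c *
      (tS r (l / Cfsg.sympForm (m + 1) F x r))⁻¹ ∈ H :=
    H.mul_mem (H.mul_mem (hr _) (hx c)) (H.inv_mem (hr _))
  rw [tS_conj, tS_coe, Cfsg.Agent.Lib.Helper2.Symp.sympTransvection_mulVec,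
    div_mul_cancel₀ _ h] at h1
  exact h1


theorem InD_chE {i : Fin (m + 1)} (he : InD H (eV i : Fin (m + 1) ⊕ Fin (m + 1) → F))
    {x : Fin (m + 1) ⊕ Fin (m + 1) → F} (hx : InD H x) (hβ : x (Sum.inr i) ≠ 0) (l : F) :
    InD H (x + l • eV i) :=
  InD_move hx he (by rw [sf_eV]; exact hβ) l

theorem InD_chF {i : Fin (m + 1)} (hf : InD H (fV i : Fin (m + 1) ⊕ Fin (m + 1) → F))
    {x : Fin (m + 1) ⊕ Fin (m + 1) → F} (hx : InD H x) (hα : x (Sum.inl i) ≠ 0) (l : F) :
    InD H (x + l • fV i) :=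
  InD_move hx hf (by rw [sf_fV]; exact neg_ne_zero.mpr hα) l

/-- plane move: the coordinates of `x` on the plane `⟨e_i, f_i⟩` can be replaced by any nonzero
pair, provided they were nonzero. -/
theorem InD_plane {i : Fin (m + 1)} (he : InD H (eV i : Fin (m + 1) ⊕ Fin (m + 1) → F))
    (hf : InD H (fV i : Fin (m + 1) ⊕ Fin (m + 1) → F))
    {x : Fin (m + 1) ⊕ Fin (m + 1) → F} (hx : InD H x)
    (h : x (Sum.inl i) ≠ 0 ∨ x (Sum.inr i) ≠ 0) (α β : F) (h' : α ≠ 0 ∨ β ≠ 0) :
    InD H (x + (α - x (Sum.inl i)) • eV i + (β - x (Sum.inr i)) • fV i) := by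
  -- first reach coordinates (1,1)
  have hy : InD H (x + (1 - x (Sum.inl i)) • eV i + (1 - x (Sum.inr i)) • fV i) := by
    by_cases ha : x (Sum.inl i) = 0
    · have hb : x (Sum.inr i) ≠ 0 := by tauto
      have h1 := InD_chE he hx hb (1 - x (Sum.inl i))
      refine InD_chF hf h1 ?_ (1 - x (Sum.inr i))
      simp [eV_inl, ha]
    · have h1 := InD_chF hf hx ha (1 - x (Sum.inr i))
      have h2 := InD_chE he h1 (by simp [fV_inr]) (1 - x (Sum.inl i))
      have e : x + (1 - x (Sum.inr i)) • fV i + (1 - x (Sum.inl i)) • eV i =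
          x + (1 - x (Sum.inl i)) • eV i + (1 - x (Sum.inr i)) • fV i := by abel
      rwa [e] at h2
  set y := x + (1 - x (Sum.inl i)) • eV i + (1 - x (Sum.inr i)) • fV i with hydef
  have hyl : y (Sum.inl i) = 1 := by simp [hydef, eV_inl, fV_inl]
  have hyr : y (Sum.inr i) = 1 := by simp [hydef, eV_inr, fV_inr]
  have hz : InD H (y + (α - 1) • eV i + (β - 1) • fV i) := by
    by_cases hα : α = 0
    · have hβ : β ≠ 0 := by tauto
      have h1 := InD_chF hf hy (by rw [hyl]; exact one_ne_zero) (β - 1)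
      have h2 := InD_chE he h1 (by simp [fV_inr, hyr, hβ]) (α - 1)
      have e : y + (β - 1) • fV i + (α - 1) • eV i = y + (α - 1) • eV i + (β - 1) • fV i := by
        abel
      rwa [e] at h2
    · have h1 := InD_chE he hy (by rw [hyr]; exact one_ne_zero) (α - 1)
      exact InD_chF hf h1 (by simp [eV_inl, hyl, hα]) (β - 1)
  have e : y + (α - 1) • eV i + (β - 1) • fV i =
      x + (α - x (Sum.inl i)) • eV i + (β - x (Sum.inr i)) • fV i := by
    rw [hydef]
    module
  rwa [e] at hz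


/-- Step 1: nonzero vectors of the plane `⟨e_i, f_i⟩`. -/
theorem InD_plane_vec {i : Fin (m + 1)} (he : InD H (eV i : Fin (m + 1) ⊕ Fin (m + 1) → F))
    (hf : InD H (fV i : Fin (m + 1) ⊕ Fin (m + 1) → F)) (α β : F) (h : α ≠ 0 ∨ β ≠ 0) :
    InD H (α • eV i + β • fV i) := by
  have h1 := InD_plane he hf he (Or.inl (by simp [eV_inl])) α β h
  have e : (eV i : Fin (m + 1) ⊕ Fin (m + 1) → F) +
      (α - (eV i : Fin (m + 1) ⊕ Fin (m + 1) → F) (Sum.inl i)) • eV i +
      (β - (eV i : Fin (m + 1) ⊕ Fin (m + 1) → F) (Sum.inr i)) • fV i = α • eV i + β • fV i := by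
    rw [eV_inl, eV_inr, if_pos rfl]
    module
  rwa [e] at h1

/-- a vector on two planes. -/
def vec4 (i j : Fin (m + 1)) (α β γ δ : F) : Fin (m + 1) ⊕ Fin (m + 1) → F :=
  α • eV i + β • fV i + γ • eV j + δ • fV j

theorem vec4_inl (i j : Fin (m + 1)) (α β γ δ : F) (k : Fin (m + 1)) :
    vec4 i j α β γ δ (Sum.inl k) = (if k = i then α else 0) + (if k = j then γ else 0) := by
  simp [vec4, eV_inl, fV_inl]

theorem vec4_inr (i j : Fin (m + 1)) (α β γ δ : F) (k : Fin (m + 1)) :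
    vec4 i j α β γ δ (Sum.inr k) = (if k = i then β else 0) + (if k = j then δ else 0) := by
  simp [vec4, eV_inr, fV_inr]

theorem sf_vec4 (x : Fin (m + 1) ⊕ Fin (m + 1) → F) (i j : Fin (m + 1)) (α β γ δ : F) :
    Cfsg.sympForm (m + 1) F x (vec4 i j α β γ δ) =
      α * x (Sum.inr i) - β * x (Sum.inl i) + γ * x (Sum.inr j) - δ * x (Sum.inl j) := by
  unfold vec4
  rw [Cfsg.Agent.Lib.Helper2.Symp.sympForm_add_right,
    Cfsg.Agent.Lib.Helper2.Symp.sympForm_add_right,
    Cfsg.Agent.Lib.Helper2.Symp.sympForm_add_right,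
    Cfsg.Agent.Lib.Helper2.Symp.sympForm_smul_right,
    Cfsg.Agent.Lib.Helper2.Symp.sympForm_smul_right,
    Cfsg.Agent.Lib.Helper2.Symp.sympForm_smul_right,
    Cfsg.Agent.Lib.Helper2.Symp.sympForm_smul_right, sf_eV, sf_eV, sf_fV, sf_fV]
  ring

/-- Step 2: vectors on two planes joined by a connector. -/
theorem InD_vec4 {i j : Fin (m + 1)} (hij : i ≠ j)
    (hei : InD H (eV i : Fin (m + 1) ⊕ Fin (m + 1) → F))
    (hfi : InD H (fV i : Fin (m + 1) ⊕ Fin (m + 1) → F))
    (hej : InD H (eV j : Fin (m + 1) ⊕ Fin (m + 1) → F))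
    (hfj : InD H (fV j : Fin (m + 1) ⊕ Fin (m + 1) → F))
    (hc : InD H (eV i + eV j : Fin (m + 1) ⊕ Fin (m + 1) → F))
    (α β γ δ : F) (h : α ≠ 0 ∨ β ≠ 0) (h' : γ ≠ 0 ∨ δ ≠ 0) :
    InD H (vec4 i j α β γ δ) := by
  have hji : j ≠ i := fun h => hij h.symm
  have h1 := InD_plane hei hfi hc (Or.inl (by simp [eV_inl, hij])) α β h
  have e1 : (eV i + eV j : Fin (m + 1) ⊕ Fin (m + 1) → F) +
      (α - (eV i + eV j : Fin (m + 1) ⊕ Fin (m + 1) → F) (Sum.inl i)) • eV i +
      (β - (eV i + eV j : Fin (m + 1) ⊕ Fin (m + 1) → F) (Sum.inr i)) • fV i =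
      vec4 i j α β 1 0 := by
    simp only [Pi.add_apply, eV_inl, eV_inr, if_true, if_neg hij, vec4, eq_self_iff_true]
    module
  rw [e1] at h1
  have h2 := InD_plane hej hfj h1 (Or.inl (by simp [vec4_inl, hji])) γ δ h'
  have e2 : vec4 i j α β 1 0 + (γ - vec4 i j α β 1 0 (Sum.inl j)) • eV j +
      (δ - vec4 i j α β 1 0 (Sum.inr j)) • fV j = vec4 i j α β γ δ := by
    rw [vec4_inl, vec4_inr, if_neg hji, if_pos rfl, if_neg hji, if_pos rfl]
    unfold vec4
    module
  rwa [e2] at h2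


/-- `x` vanishes on the planes of index `< k`. -/
def Sup (k : ℕ) (x : Fin (m + 1) ⊕ Fin (m + 1) → F) : Prop :=
  ∀ i : Fin (m + 1), i.val < k → x (Sum.inl i) = 0 ∧ x (Sum.inr i) = 0

/-- case (ii) of the induction: both the plane `k` and the plane `k+1` carry a nonzero
component. -/
theorem InD_caseII
    (he : ∀ i : Fin (m + 1), InD H (eV i : Fin (m + 1) ⊕ Fin (m + 1) → F))
    (hf : ∀ i : Fin (m + 1), InD H (fV i : Fin (m + 1) ⊕ Fin (m + 1) → F))
    (hc : ∀ i j : Fin (m + 1), i.val + 1 = j.val →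
      InD H (eV i + eV j : Fin (m + 1) ⊕ Fin (m + 1) → F))
    (k : ℕ) (hk : k + 1 ≤ m)
    (IH : ∀ x : Fin (m + 1) ⊕ Fin (m + 1) → F, Sup (k + 1) x → x ≠ 0 → InD H x)
    (x : Fin (m + 1) ⊕ Fin (m + 1) → F) (hs : Sup k x)
    (hk' : x (Sum.inl (⟨k, by omega⟩ : Fin (m + 1))) ≠ 0 ∨
      x (Sum.inr (⟨k, by omega⟩ : Fin (m + 1))) ≠ 0)
    (hj : x (Sum.inl (⟨k + 1, by omega⟩ : Fin (m + 1))) ≠ 0 ∨
      x (Sum.inr (⟨k + 1, by omega⟩ : Fin (m + 1))) ≠ 0) : InD H x := by
  set ik : Fin (m + 1) := ⟨k, by omega⟩ with hik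
  set j : Fin (m + 1) := ⟨k + 1, by omega⟩ with hjdef
  have hne : ik ≠ j := by
    intro h
    have := congrArg Fin.val h
    simp [hik, hjdef] at this
  have hne' : j ≠ ik := fun h => hne h.symm
  have hcon : InD H (eV ik + eV j : Fin (m + 1) ⊕ Fin (m + 1) → F) := hc ik j rfl
  -- the general pattern
  have main : ∀ γ' δ' : F, (γ' ≠ 0 ∨ δ' ≠ 0) →
      (x (Sum.inl j) - γ' ≠ 0 ∨ x (Sum.inr j) - δ' ≠ 0) →
      γ' * (x (Sum.inr j) - δ') - δ' * (x (Sum.inl j) - γ') ≠ 0 → InD H x := by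
    intro γ' δ' hgd hnz hpair
    have hr : InD H (vec4 ik j (x (Sum.inl ik)) (x (Sum.inr ik)) γ' δ') :=
      InD_vec4 hne (he ik) (hf ik) (he j) (hf j) hcon _ _ _ _ hk' hgd
    set r := vec4 ik j (x (Sum.inl ik)) (x (Sum.inr ik)) γ' δ' with hrdef
    set x'' := x + (-1 : F) • r with hx''
    have c1 : x'' (Sum.inl ik) = 0 := by
      simp [hx'', hrdef, vec4_inl, hne]
    have c2 : x'' (Sum.inr ik) = 0 := by
      simp [hx'', hrdef, vec4_inr, hne]
    have c3 : x'' (Sum.inl j) = x (Sum.inl j) - γ' := by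
      simp [hx'', hrdef, vec4_inl, hne']
      ring
    have c4 : x'' (Sum.inr j) = x (Sum.inr j) - δ' := by
      simp [hx'', hrdef, vec4_inr, hne']
      ring
    have hs'' : Sup (k + 1) x'' := by
      intro i hi
      by_cases hik' : i = ik
      · rw [hik']; exact ⟨c1, c2⟩
      · have hlt : i.val < k := by
          have : i.val ≠ k := fun h => hik' (Fin.ext h)
          omega
        have hij : i ≠ j := by
          intro h
          have := congrArg Fin.val h
          simp [hjdef] at this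
          omega
        obtain ⟨h1, h2⟩ := hs i hlt
        constructor
        · simp [hx'', hrdef, vec4_inl, hik', hij, h1]
        · simp [hx'', hrdef, vec4_inr, hik', hij, h2]
    have hne'' : x'' ≠ 0 := by
      intro h0
      rcases hnz with h | h
      · apply h; rw [← c3, h0]; rfl
      · apply h; rw [← c4, h0]; rfl
    have hx''D := IH x'' hs'' hne''
    have hp : Cfsg.sympForm (m + 1) F x'' r ≠ 0 := by
      rw [hrdef, sf_vec4, c1, c2, c3, c4]
      intro h
      apply hpair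
      linear_combination h
    have := InD_move hx''D hr hp 1
    have e : x'' + (1 : F) • r = x := by
      rw [hx'']
      module
    rwa [e] at this
  by_cases hγ : x (Sum.inl j) = 0
  · have hδ : x (Sum.inr j) ≠ 0 := by tauto
    apply main 1 0 (Or.inl one_ne_zero) (Or.inr (by simpa using hδ))
    simpa using hδ
  · apply main 0 1 (Or.inr one_ne_zero) (Or.inl (by simpa using hγ))
    simpa using hγ


/-- case (i): the plane `k` carries a nonzero component, the plane `k+1` none. -/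
theorem InD_caseI
    (he : ∀ i : Fin (m + 1), InD H (eV i : Fin (m + 1) ⊕ Fin (m + 1) → F))
    (hf : ∀ i : Fin (m + 1), InD H (fV i : Fin (m + 1) ⊕ Fin (m + 1) → F))
    (hc : ∀ i j : Fin (m + 1), i.val + 1 = j.val →
      InD H (eV i + eV j : Fin (m + 1) ⊕ Fin (m + 1) → F))
    (k : ℕ) (hk : k + 1 ≤ m)
    (IH : ∀ x : Fin (m + 1) ⊕ Fin (m + 1) → F, Sup (k + 1) x → x ≠ 0 → InD H x)
    (x : Fin (m + 1) ⊕ Fin (m + 1) → F) (hs : Sup k x)
    (hk' : x (Sum.inl (⟨k, by omega⟩ : Fin (m + 1))) ≠ 0 ∨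
      x (Sum.inr (⟨k, by omega⟩ : Fin (m + 1))) ≠ 0)
    (hj1 : x (Sum.inl (⟨k + 1, by omega⟩ : Fin (m + 1))) = 0)
    (hj2 : x (Sum.inr (⟨k + 1, by omega⟩ : Fin (m + 1))) = 0) : InD H x := by
  set ik : Fin (m + 1) := ⟨k, by omega⟩ with hik
  set j : Fin (m + 1) := ⟨k + 1, by omega⟩ with hjdef
  have hne : ik ≠ j := by
    intro h
    have := congrArg Fin.val h
    simp [hik, hjdef] at this
  have hne' : j ≠ ik := fun h => hne h.symm
  have hcon : InD H (eV ik + eV j : Fin (m + 1) ⊕ Fin (m + 1) → F) := hc ik j rfl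
  have main : ∀ α' β' : F, (α' ≠ 0 ∨ β' ≠ 0) →
      (x (Sum.inl ik) + α' ≠ 0 ∨ x (Sum.inr ik) + β' ≠ 0) →
      α' * (x (Sum.inr ik) + β') - β' * (x (Sum.inl ik) + α') ≠ 0 → InD H x := by
    intro α' β' hab hnz hpair
    have hr : InD H (vec4 ik j α' β' 1 0) :=
      InD_vec4 hne (he ik) (hf ik) (he j) (hf j) hcon _ _ _ _ hab (Or.inl one_ne_zero)
    set r := vec4 ik j α' β' (1 : F) 0 with hrdef
    set x' := x + (1 : F) • r with hx'
    have c1 : x' (Sum.inl ik) = x (Sum.inl ik) + α' := by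
      simp [hx', hrdef, vec4_inl, hne]
    have c2 : x' (Sum.inr ik) = x (Sum.inr ik) + β' := by
      simp [hx', hrdef, vec4_inr, hne]
    have c3 : x' (Sum.inl j) = 1 := by
      simp [hx', hrdef, vec4_inl, hne', hj1]
    have c4 : x' (Sum.inr j) = 0 := by
      simp [hx', hrdef, vec4_inr, hne', hj2]
    have hs' : Sup k x' := by
      intro i hi
      have hik' : i ≠ ik := by
        intro h
        have := congrArg Fin.val h
        simp [hik] at this
        omega
      have hij : i ≠ j := by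
        intro h
        have := congrArg Fin.val h
        simp [hjdef] at this
        omega
      obtain ⟨h1, h2⟩ := hs i hi
      constructor
      · simp [hx', hrdef, vec4_inl, hik', hij, h1]
      · simp [hx', hrdef, vec4_inr, hik', hij, h2]
    have hx'D : InD H x' := by
      apply InD_caseII he hf hc k hk IH x' hs'
      · rw [c1, c2]; exact hnz
      · left; rw [c3]; exact one_ne_zero
    have hp : Cfsg.sympForm (m + 1) F x' r ≠ 0 := by
      rw [hrdef, sf_vec4, c1, c2, c3, c4]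
      intro h
      apply hpair
      linear_combination h
    have := InD_move hx'D hr hp (-1)
    have e : x' + (-1 : F) • r = x := by
      rw [hx']
      module
    rwa [e] at this
  by_cases ha : x (Sum.inl ik) = 0
  · have hb : x (Sum.inr ik) ≠ 0 := by tauto
    apply main 1 0 (Or.inl one_ne_zero) (Or.inl (by rw [ha]; simp))
    simpa using hb
  · apply main 0 1 (Or.inr one_ne_zero) (Or.inl (by simpa using ha))
    simpa using ha

/-- the induction. -/
theorem InD_of_Sup
    (he : ∀ i : Fin (m + 1), InD H (eV i : Fin (m + 1) ⊕ Fin (m + 1) → F))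
    (hf : ∀ i : Fin (m + 1), InD H (fV i : Fin (m + 1) ⊕ Fin (m + 1) → F))
    (hc : ∀ i j : Fin (m + 1), i.val + 1 = j.val →
      InD H (eV i + eV j : Fin (m + 1) ⊕ Fin (m + 1) → F)) :
    ∀ d k : ℕ, k + d = m → ∀ x : Fin (m + 1) ⊕ Fin (m + 1) → F, Sup k x → x ≠ 0 → InD H x := by
  intro d
  induction d with
  | zero =>
    intro k hk x hs hx
    have hkm : k = m := by omega
    subst hkm
    have hx_eq : x = x (Sum.inl (Fin.last k)) • eV (Fin.last k) +
        x (Sum.inr (Fin.last k)) • fV (Fin.last k) := by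
      funext t
      rcases t with i | i
      · by_cases hi : i = Fin.last k
        · subst hi; simp [eV_inl, fV_inl]
        · have hlt : i.val < k := by
            have h1 := i.isLt
            have h2 : i.val ≠ k := fun h => hi (Fin.ext (by simpa using h))
            omega
          simp [eV_inl, fV_inl, hi, (hs i hlt).1]
      · by_cases hi : i = Fin.last k
        · subst hi; simp [eV_inr, fV_inr]
        · have hlt : i.val < k := by
            have h1 := i.isLt
            have h2 : i.val ≠ k := fun h => hi (Fin.ext (by simpa using h))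
            omega
          simp [eV_inr, fV_inr, hi, (hs i hlt).2]
    rw [hx_eq]
    apply InD_plane_vec (he _) (hf _)
    by_contra hcon
    push Not at hcon
    apply hx
    rw [hx_eq, hcon.1, hcon.2]
    simp
  | succ d ih =>
    intro k hk x hs hx
    have IH := ih (k + 1) (by omega)
    by_cases hk0 : x (Sum.inl (⟨k, by omega⟩ : Fin (m + 1))) = 0 ∧
        x (Sum.inr (⟨k, by omega⟩ : Fin (m + 1))) = 0
    · apply IH x _ hx
      intro i hi
      by_cases hik : i.val < k
      · exact hs i hik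
      · have : i = ⟨k, by omega⟩ := Fin.ext (by simp; omega)
        rw [this]; exact hk0
    · have hk' : x (Sum.inl (⟨k, by omega⟩ : Fin (m + 1))) ≠ 0 ∨
          x (Sum.inr (⟨k, by omega⟩ : Fin (m + 1))) ≠ 0 := by tauto
      by_cases hj0 : x (Sum.inl (⟨k + 1, by omega⟩ : Fin (m + 1))) = 0 ∧
          x (Sum.inr (⟨k + 1, by omega⟩ : Fin (m + 1))) = 0
      · exact InD_caseI he hf hc k (by omega) IH x hs hk' hj0.1 hj0.2
      · exact InD_caseII he hf hc k (by omega) IH x hs hk' (by tauto)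

theorem fin_top (H : Subgroup (Matrix.symplecticGroup (Fin (m + 1)) F))
    (he : ∀ (i : Fin (m + 1)) (c : F), tS (eV i) c ∈ H)
    (hf : ∀ (i : Fin (m + 1)) (c : F), tS (fV i) c ∈ H)
    (hc : ∀ (i j : Fin (m + 1)), i.val + 1 = j.val → ∀ c : F, tS (eV i + eV j) c ∈ H) : H = ⊤ := by
  have hall : ∀ x : Fin (m + 1) ⊕ Fin (m + 1) → F, InD H x := by
    intro x
    by_cases hx : x = 0
    · rw [hx]; exact InD_zero
    · exact InD_of_Sup he hf hc m 0 (by omega) x (fun i hi => absurd hi (Nat.not_lt_zero _)) hx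
  rw [eq_top_iff, ← Cfsg.Agent.Lib.Helper2.Symp.transvGroup_eq_top]
  unfold Cfsg.Agent.Lib.Helper2.Symp.transvGroup
  rw [Subgroup.closure_le]
  rintro A ⟨w, c, hA⟩
  have : A = tS w c := Subtype.ext hA
  rw [this]
  exact hall w c

end Cfsg.Agent.Lib.Helper5.SpRU
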