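import Mathlib
import Cfsg.Agent.Lib.Helper3.TW1

/-!
# Carve-out F1 for S2099: the quadratic extension `F(ω)`, `ω² = a ω - b`, as a field, and the
twisting data `Tw F (QExt F a b)`.
-/

set_option linter.unusedSectionVars false
set_option linter.unusedVariables false

namespace Cfsg.Agent.Lib.Carve.F1

open Cfsg.Agent.Lib.Helper3.TW

universe u

/-- anisotropy of the binary form `z₁² + a z₁ z₂ + b z₂²` -/
def Aniso {F : Type u} [Field F] (a b : F) : Prop :=
  ∀ z₁ z₂ : F, z₁ ^ 2 + a * z₁ * z₂ + b * z₂ ^ 2 = 0 → z₁ = 0 ∧ z₂ = 0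

/-- `F(ω)`, `ω² = a ω - b`; the element `re + im ω` -/
@[ext] structure QExt (F : Type u) [Field F] (a b : F) where
  re : F
  im : F

variable {F : Type u} [Field F] {a b : F}

namespace QExt

instance instZero : Zero (QExt F a b) := ⟨⟨0, 0⟩⟩
instance instOne : One (QExt F a b) := ⟨⟨1, 0⟩⟩
instance instAdd : Add (QExt F a b) := ⟨fun z w => ⟨z.re + w.re, z.im + w.im⟩⟩
instance instNeg : Neg (QExt F a b) := ⟨fun z => ⟨-z.re, -z.im⟩⟩
instance instSub : Sub (QExt F a b) := ⟨fun z w => ⟨z.re - w.re, z.im - w.im⟩⟩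
instance instMul : Mul (QExt F a b) :=
  ⟨fun z w => ⟨z.re * w.re - b * z.im * w.im, z.re * w.im + z.im * w.re + a * z.im * w.im⟩⟩
instance instSMulNat : SMul ℕ (QExt F a b) := ⟨fun n z => ⟨n • z.re, n • z.im⟩⟩
instance instSMulInt : SMul ℤ (QExt F a b) := ⟨fun n z => ⟨n • z.re, n • z.im⟩⟩
instance instNatCast : NatCast (QExt F a b) := ⟨fun n => ⟨(n : F), 0⟩⟩
instance instIntCast : IntCast (QExt F a b) := ⟨fun n => ⟨(n : F), 0⟩⟩
/-- the inverse `σ z / N z` -/
noncomputable instance instInv : Inv (QExt F a b) :=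
  ⟨fun z => ⟨(z.re + a * z.im) / (z.re ^ 2 + a * z.re * z.im + b * z.im ^ 2),
    -z.im / (z.re ^ 2 + a * z.re * z.im + b * z.im ^ 2)⟩⟩

@[simp] theorem zero_re' : (0 : QExt F a b).re = 0 := rfl
@[simp] theorem zero_im' : (0 : QExt F a b).im = 0 := rfl
@[simp] theorem one_re' : (1 : QExt F a b).re = 1 := rfl
@[simp] theorem one_im' : (1 : QExt F a b).im = 0 := rfl
@[simp] theorem add_re' (z w : QExt F a b) : (z + w).re = z.re + w.re := rfl
@[simp] theorem add_im' (z w : QExt F a b) : (z + w).im = z.im + w.im := rfl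
@[simp] theorem neg_re' (z : QExt F a b) : (-z).re = -z.re := rfl
@[simp] theorem neg_im' (z : QExt F a b) : (-z).im = -z.im := rfl
@[simp] theorem sub_re' (z w : QExt F a b) : (z - w).re = z.re - w.re := rfl
@[simp] theorem sub_im' (z w : QExt F a b) : (z - w).im = z.im - w.im := rfl
@[simp] theorem mul_re' (z w : QExt F a b) : (z * w).re = z.re * w.re - b * z.im * w.im := rfl
@[simp] theorem mul_im' (z w : QExt F a b) :
    (z * w).im = z.re * w.im + z.im * w.re + a * z.im * w.im := rfl
@[simp] theorem nsmul_re' (n : ℕ) (z : QExt F a b) : (n • z).re = n • z.re := rfl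
@[simp] theorem nsmul_im' (n : ℕ) (z : QExt F a b) : (n • z).im = n • z.im := rfl
@[simp] theorem zsmul_re' (n : ℤ) (z : QExt F a b) : (n • z).re = n • z.re := rfl
@[simp] theorem zsmul_im' (n : ℤ) (z : QExt F a b) : (n • z).im = n • z.im := rfl
@[simp] theorem natCast_re' (n : ℕ) : ((n : QExt F a b)).re = n := rfl
@[simp] theorem natCast_im' (n : ℕ) : ((n : QExt F a b)).im = 0 := rfl
@[simp] theorem intCast_re' (n : ℤ) : ((n : QExt F a b)).re = n := rfl
@[simp] theorem intCast_im' (n : ℤ) : ((n : QExt F a b)).im = 0 := rfl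
theorem inv_re' (z : QExt F a b) :
    (z⁻¹).re = (z.re + a * z.im) / (z.re ^ 2 + a * z.re * z.im + b * z.im ^ 2) := rfl
theorem inv_im' (z : QExt F a b) :
    (z⁻¹).im = -z.im / (z.re ^ 2 + a * z.re * z.im + b * z.im ^ 2) := rfl

instance instCommRing : CommRing (QExt F a b) where
  add_assoc x y z := by ext <;> simp [add_assoc]
  zero_add x := by ext <;> simp
  add_zero x := by ext <;> simp
  add_comm x y := by ext <;> simp [add_comm]
  nsmul n z := n • z
  nsmul_zero z := by ext <;> simp
  nsmul_succ n z := by ext <;> simp [add_mul]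
  zsmul n z := n • z
  zsmul_zero' z := by ext <;> simp
  zsmul_succ' n z := by ext <;> simp [add_mul]
  zsmul_neg' n z := by ext <;> simp [add_mul]
  neg_add_cancel x := by ext <;> simp
  sub_eq_add_neg x y := by ext <;> simp [sub_eq_add_neg]
  left_distrib x y z := by ext <;> simp <;> ring
  right_distrib x y z := by ext <;> simp <;> ring
  zero_mul x := by ext <;> simp
  mul_zero x := by ext <;> simp
  mul_assoc x y z := by ext <;> simp <;> ring
  one_mul x := by ext <;> simp
  mul_one x := by ext <;> simp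
  mul_comm x y := by ext <;> simp <;> ring
  natCast n := (n : QExt F a b)
  natCast_zero := by ext <;> simp
  natCast_succ n := by ext <;> simp
  intCast n := (n : QExt F a b)
  intCast_ofNat n := by ext <;> simp
  intCast_negSucc n := by ext <;> simp

theorem normForm_ne_zero [Fact (Aniso a b)] {z : QExt F a b} (hz : z ≠ 0) :
    z.re ^ 2 + a * z.re * z.im + b * z.im ^ 2 ≠ 0 := by
  intro h
  obtain ⟨h1, h2⟩ := (Fact.out : Aniso a b) z.re z.im h
  exact hz (QExt.ext h1 h2)

end QExt

noncomputable instance instField [Fact (Aniso a b)] : Field (QExt F a b) where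
  toCommRing := QExt.instCommRing
  inv := fun z => z⁻¹
  exists_pair_ne := ⟨0, 1, fun h => zero_ne_one (congrArg QExt.re h)⟩
  mul_inv_cancel z hz := by
    have hN := QExt.normForm_ne_zero hz
    ext
    · rw [QExt.mul_re', QExt.inv_re', QExt.inv_im', QExt.one_re']
      have e : z.re * ((z.re + a * z.im) / (z.re ^ 2 + a * z.re * z.im + b * z.im ^ 2)) -
          b * z.im * (-z.im / (z.re ^ 2 + a * z.re * z.im + b * z.im ^ 2)) =
          (z.re ^ 2 + a * z.re * z.im + b * z.im ^ 2) /
            (z.re ^ 2 + a * z.re * z.im + b * z.im ^ 2) := by ring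
      rw [e, div_self hN]
    · rw [QExt.mul_im', QExt.inv_re', QExt.inv_im', QExt.one_im']
      ring
  inv_zero := by
    ext
    · rw [QExt.inv_re']; simp
    · rw [QExt.inv_im']; simp
  nnqsmul := _
  nnqsmul_def := fun _ _ => rfl
  qsmul := _
  qsmul_def := fun _ _ => rfl

/-- the embedding of `F` -/
def ofF (F : Type u) [Field F] (a b : F) : F →+* QExt F a b where
  toFun c := ⟨c, 0⟩
  map_one' := rfl
  map_mul' x y := by ext <;> simp
  map_zero' := rfl
  map_add' x y := by ext <;> simp

@[simp] theorem ofF_re (c : F) : (ofF F a b c).re = c := rfl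
@[simp] theorem ofF_im (c : F) : (ofF F a b c).im = 0 := rfl

noncomputable instance instAlgebra [Fact (Aniso a b)] : Algebra F (QExt F a b) where
  smul c z := ⟨c * z.re, c * z.im⟩
  algebraMap := ofF F a b
  commutes' c z := mul_comm _ _
  smul_def' c z := by
    ext
    · show c * z.re = _
      rw [QExt.mul_re']; simp
    · show c * z.im = _
      rw [QExt.mul_im']; simp

theorem algebraMap_re [Fact (Aniso a b)] (c : F) : (algebraMap F (QExt F a b) c).re = c := rfl
theorem algebraMap_im [Fact (Aniso a b)] (c : F) : (algebraMap F (QExt F a b) c).im = 0 := rfl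
theorem add_re [Fact (Aniso a b)] (z w : QExt F a b) : (z + w).re = z.re + w.re := rfl
theorem add_im [Fact (Aniso a b)] (z w : QExt F a b) : (z + w).im = z.im + w.im := rfl
theorem smul_re [Fact (Aniso a b)] (c : F) (z : QExt F a b) : (c • z).re = c * z.re := rfl
theorem smul_im [Fact (Aniso a b)] (c : F) (z : QExt F a b) : (c • z).im = c * z.im := rfl
theorem mul_re [Fact (Aniso a b)] (z w : QExt F a b) : (z * w).re = z.re * w.re - b * z.im * w.im := rfl
theorem mul_im [Fact (Aniso a b)] (z w : QExt F a b) :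
    (z * w).im = z.re * w.im + z.im * w.re + a * z.im * w.im := rfl

/-- the conjugation `x + y ω ↦ (x + a y) - y ω` -/
def conj (F : Type u) [Field F] (a b : F) [Fact (Aniso a b)] : QExt F a b →+* QExt F a b where
  toFun z := ⟨z.re + a * z.im, -z.im⟩
  map_one' := by ext <;> simp
  map_mul' x y := by ext <;> simp <;> ring
  map_zero' := by ext <;> simp
  map_add' x y := by ext <;> simp <;> ring

theorem conj_re [Fact (Aniso a b)] (z : QExt F a b) : (conj F a b z).re = z.re + a * z.im := rfl
theorem conj_im [Fact (Aniso a b)] (z : QExt F a b) : (conj F a b z).im = -z.im := rfl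

/-- in characteristic two the middle coefficient of an anisotropic form over a finite field
does not vanish -/
theorem a_ne_zero_of_two_eq_zero [Finite F] [Fact (Aniso a b)] (h2 : (2 : F) = 0) : a ≠ 0 := by
  intro ha
  have : CharP F 2 := CharTwo.of_one_ne_zero_of_two_eq_zero one_ne_zero h2
  obtain ⟨c, hc⟩ := FiniteField.isSquare_of_char_two (ringChar.eq F 2) b
  have h := (Fact.out : Aniso a b) c 1 (by
    rw [ha, hc]
    have : c ^ 2 + 0 * c * 1 + c * c * 1 ^ 2 = 2 * (c * c) := by ring
    rw [this, h2, zero_mul])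
  exact one_ne_zero h.2

theorem im_eq_zero_of_conj_eq [Finite F] [Fact (Aniso a b)] (z : QExt F a b)
    (h : conj F a b z = z) : z.im = 0 := by
  have h1 : z.re + a * z.im = z.re := by rw [← conj_re, h]
  have h2 : -z.im = z.im := by rw [← conj_im, h]
  by_cases h2' : (2 : F) = 0
  · have ha := a_ne_zero_of_two_eq_zero (a := a) (b := b) h2'
    have h3 : a * z.im = 0 := by linear_combination h1
    rcases mul_eq_zero.1 h3 with h4 | h4
    · exact absurd h4 ha
    · exact h4
  · have h3 : 2 * z.im = 0 := by linear_combination -h2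
    rcases mul_eq_zero.1 h3 with h4 | h4
    · exact absurd h4 h2'
    · exact h4

open Classical in
/-- the twisting data; `σ ⟨x, y⟩ = ⟨x + a y, -y⟩`, `N z = x² + a x y + b y²`, `T z = 2 x + a y` -/
noncomputable def tw [Finite F] [Fact (Aniso a b)] : Tw F (QExt F a b) where
  σ := conj F a b
  σσ w := by ext <;> simp [conj_re, conj_im]
  σ_alg c := by ext <;> simp [conj_re, conj_im, algebraMap_re, algebraMap_im]
  N z := z.re ^ 2 + a * z.re * z.im + b * z.im ^ 2
  T z := 2 * z.re + a * z.im
  hN w := by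
    ext
    · rw [algebraMap_re, mul_re, conj_re, conj_im]; ring
    · rw [algebraMap_im, mul_im, conj_re, conj_im]; ring
  hT w := by
    ext
    · rw [algebraMap_re, add_re, conj_re]; ring
    · rw [algebraMap_im, add_im, conj_im]; ring
  fix w h := by
    refine ⟨w.re, ?_⟩
    ext
    · rw [algebraMap_re]
    · rw [algebraMap_im]; exact im_eq_zero_of_conj_eq w h
  θ := if (2 : F) = 0 then ⟨0, a⁻¹⟩ else ⟨2⁻¹, 0⟩
  hθ := by
    by_cases h2 : (2 : F) = 0
    · have ha := a_ne_zero_of_two_eq_zero (a := a) (b := b) h2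
      rw [if_pos h2]
      show 2 * (0 : F) + a * a⁻¹ = 1
      rw [mul_zero, zero_add, mul_inv_cancel₀ ha]
    · rw [if_neg h2]
      show 2 * (2⁻¹ : F) + a * 0 = 1
      rw [mul_zero, add_zero, mul_inv_cancel₀ h2]
  δ := ⟨0, 1⟩
  hδ := by
    intro h
    have h0 := im_eq_zero_of_conj_eq (a := a) (b := b) (⟨0, 1⟩ : QExt F a b) h
    exact one_ne_zero h0

theorem tw_σ_re [Finite F] [Fact (Aniso a b)] (z : QExt F a b) :
    ((tw (a := a) (b := b)).σ z).re = z.re + a * z.im := rfl
theorem tw_σ_im [Finite F] [Fact (Aniso a b)] (z : QExt F a b) :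
    ((tw (a := a) (b := b)).σ z).im = -z.im := rfl
theorem tw_N [Finite F] [Fact (Aniso a b)] (z : QExt F a b) :
    (tw (a := a) (b := b)).N z = z.re ^ 2 + a * z.re * z.im + b * z.im ^ 2 := rfl
theorem tw_T [Finite F] [Fact (Aniso a b)] (z : QExt F a b) :
    (tw (a := a) (b := b)).T z = 2 * z.re + a * z.im := rfl

/-- coordinates -/
noncomputable def toVec [Fact (Aniso a b)] : QExt F a b ≃ₗ[F] (Fin 2 → F) where
  toFun z := ![z.re, z.im]
  invFun v := ⟨v 0, v 1⟩
  map_add' z w := by
    ext i
    fin_cases i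
    · show (z + w).re = z.re + w.re
      rfl
    · show (z + w).im = z.im + w.im
      rfl
  map_smul' c z := by
    ext i
    fin_cases i
    · show (c • z).re = c * z.re
      rfl
    · show (c • z).im = c * z.im
      rfl
  left_inv z := by ext <;> rfl
  right_inv v := by
    ext i
    fin_cases i <;> rfl

theorem toVec_apply [Fact (Aniso a b)] (z : QExt F a b) : toVec z = ![z.re, z.im] := rfl

instance [Finite F] [Fact (Aniso a b)] : Finite (QExt F a b) :=
  Finite.of_equiv (Fin 2 → F) (toVec (a := a) (b := b)).toEquiv.symm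

theorem tw_δ [Finite F] [Fact (Aniso a b)] : (tw (a := a) (b := b)).δ = ⟨0, 1⟩ := rfl

open Classical in
theorem tw_θ_of_two_ne_zero [Finite F] [Fact (Aniso a b)] (h2 : (2 : F) ≠ 0) :
    (tw (a := a) (b := b)).θ = ⟨2⁻¹, 0⟩ := by
  show (if (2 : F) = 0 then (⟨0, a⁻¹⟩ : QExt F a b) else ⟨2⁻¹, 0⟩) = _
  rw [if_neg h2]

open Classical in
theorem tw_θ_of_two_eq_zero [Finite F] [Fact (Aniso a b)] (h2 : (2 : F) = 0) :
    (tw (a := a) (b := b)).θ = ⟨0, a⁻¹⟩ := by
  show (if (2 : F) = 0 then (⟨0, a⁻¹⟩ : QExt F a b) else ⟨2⁻¹, 0⟩) = _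
  rw [if_pos h2]

/-- every element is `re + im • ω` -/
theorem eq_re_add_im_smul [Fact (Aniso a b)] (z : QExt F a b) :
    z = algebraMap F (QExt F a b) z.re + z.im • (⟨0, 1⟩ : QExt F a b) := by
  ext
  · rw [add_re, algebraMap_re, smul_re, mul_zero, add_zero]
  · rw [add_im, algebraMap_im, smul_im, mul_one, zero_add]

theorem finrank_eq_two [Fact (Aniso a b)] : Module.finrank F (QExt F a b) = 2 := by
  rw [LinearEquiv.finrank_eq (toVec (a := a) (b := b)), Module.finrank_fin_fun]

theorem natCard_eq [Finite F] [Fact (Aniso a b)] : Nat.card (QExt F a b) = Nat.card F ^ 2 := by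
  rw [Nat.card_congr (toVec (a := a) (b := b)).toEquiv, Nat.card_fun, Nat.card_fin]

end Cfsg.Agent.Lib.Carve.F1
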