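import Mathlib
import Cfsg.Agent.Lib.Helper4.AlperinTame3

set_option autoImplicit false
open Pointwise

/-! Consequences of Alperin's theorem with tame intersections: chains of steps. -/

namespace Cfsg.Agent.Lib.Helper4

open Cfsg Cfsg.Agent.Lib.Helper7

variable {G : Type*} [Group G]

/-- if every admissible step moves elements by a factor in `D`, so does every chain -/
theorem ViaP.comm_mem {𝓢 : Subgroup G → G → Prop} (D : Subgroup G)
    (hD : ∀ T x, 𝓢 T x → x ∈ Subgroup.normalizer (T : Set G) → ∀ a ∈ T, a⁻¹ * (x⁻¹ * a * x) ∈ D)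
    {A : Set G} {g : G} (h : ViaP 𝓢 A g) : ∀ a ∈ A, a⁻¹ * (g⁻¹ * a * g) ∈ D := by
  induction h with
  | nil A =>
    intro a _
    have : a⁻¹ * ((1 : G)⁻¹ * a * 1) = 1 := by group
    rw [this]; exact D.one_mem
  | cons A T x g hT hx hA _ ih =>
    intro a ha
    have h1 := hD T x hT hx a (hA ha)
    have h2 := ih (x⁻¹ * a * x) ⟨a, ha, rfl⟩
    have : a⁻¹ * ((x * g)⁻¹ * a * (x * g)) =
        (a⁻¹ * (x⁻¹ * a * x)) * ((x⁻¹ * a * x)⁻¹ * (g⁻¹ * (x⁻¹ * a * x) * g)) := by group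
    rw [this]
    exact D.mul_mem h1 h2

/-- if every admissible step acts like an element of `P`, so does every chain -/
theorem ViaP.exists_conj {𝓢 : Subgroup G → G → Prop} (P : Subgroup G)
    (hP : ∀ T x, 𝓢 T x → x ∈ Subgroup.normalizer (T : Set G) →
      ∃ y ∈ P, ∀ a ∈ T, x⁻¹ * a * x = y⁻¹ * a * y)
    {A : Set G} {g : G} (h : ViaP 𝓢 A g) : ∃ y ∈ P, ∀ a ∈ A, g⁻¹ * a * g = y⁻¹ * a * y := by
  induction h with
  | nil A =>
    exact ⟨1, P.one_mem, fun a _ => rfl⟩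
  | cons A T x g hT hx hA _ ih =>
    obtain ⟨y1, hy1, h1⟩ := hP T x hT hx
    obtain ⟨y2, hy2, h2⟩ := ih
    refine ⟨y1 * y2, P.mul_mem hy1 hy2, ?_⟩
    intro a ha
    have h3 := h2 (x⁻¹ * a * x) ⟨a, ha, rfl⟩
    have h4 := h1 a (hA ha)
    calc (x * g)⁻¹ * a * (x * g) = g⁻¹ * (x⁻¹ * a * x) * g := by group
      _ = y2⁻¹ * (x⁻¹ * a * x) * y2 := h3
      _ = y2⁻¹ * (y1⁻¹ * a * y1) * y2 := by rw [h4]
      _ = (y1 * y2)⁻¹ * a * (y1 * y2) := by group

/-- an element of order prime to `p` that acts on the subgroup `Q` it normalizes like an element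
of `p`-power order centralizes `Q` -/
theorem mem_centralizer_of_conj_eq {p : ℕ} {Q : Subgroup G} {g y : G}
    (hg : g ∈ Subgroup.normalizer (Q : Set G)) (hcop : Nat.Coprime (orderOf g) p)
    {k : ℕ} (hy : y ^ p ^ k = 1) (h : ∀ a ∈ Q, g⁻¹ * a * g = y⁻¹ * a * y) :
    g ∈ Subgroup.centralizer (Q : Set G) := by
  have hpow : ∀ m : ℕ, ∀ a ∈ Q, (g ^ m)⁻¹ * a * g ^ m = (y ^ m)⁻¹ * a * y ^ m ∧
      (g ^ m)⁻¹ * a * g ^ m ∈ Q := by
    intro m
    induction m with
    | zero =>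
      intro a ha
      simp only [pow_zero, inv_one, one_mul, mul_one]
      exact ⟨trivial, ha⟩
    | succ m ih =>
      intro a ha
      obtain ⟨e1, e2⟩ := ih a ha
      have e3 := h _ e2
      have e4 : (g ^ (m + 1))⁻¹ * a * g ^ (m + 1) = g⁻¹ * ((g ^ m)⁻¹ * a * g ^ m) * g := by
        rw [pow_succ]; group
      refine ⟨?_, ?_⟩
      · rw [e4, e3, e1, pow_succ]; group
      · rw [e4]
        have hg' := Subgroup.inv_mem _ hg
        have := (Subgroup.mem_normalizer_iff.mp hg' _).mp e2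
        rwa [inv_inv] at this
  have h1 : g ^ p ^ k ∈ Subgroup.centralizer (Q : Set G) := by
    rw [Subgroup.mem_centralizer_iff]
    intro a ha
    have e := (hpow (p ^ k) a ha).1
    rw [hy] at e
    have e' : (g ^ p ^ k)⁻¹ * a * g ^ p ^ k = a := by rw [e]; group
    calc a * g ^ p ^ k = g ^ p ^ k * ((g ^ p ^ k)⁻¹ * a * g ^ p ^ k) := by group
      _ = g ^ p ^ k * a := by rw [e']
  have hc : Nat.Coprime (p ^ k) (orderOf g) := (Nat.Coprime.pow_right k hcop).symm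
  obtain ⟨m, hm⟩ := exists_pow_eq_self_of_coprime hc
  rw [← hm]
  exact Subgroup.pow_mem _ h1 m

end Cfsg.Agent.Lib.Helper4
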