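import Mathlib
import Cfsg.Agent.Lib.Helper4.AlperinTame4

set_option autoImplicit false
open Pointwise

/-! If `N_G(T)/C_G(T)` is a `p`-group and `N_P(T)` is a Sylow `p`-subgroup of `N_G(T)`, then
`N_G(T)` acts on `T` as `N_P(T)` does. -/

namespace Cfsg.Agent.Lib.Helper4

open Cfsg Cfsg.Agent.Lib.Helper7

variable {G : Type*} [Group G]

theorem exists_conj_of_isPGroup_automizer [Finite G] {p : ℕ} [Fact p.Prime] (P T : Subgroup G)
    (hR : ¬ p ∣ (P ⊓ Subgroup.normalizer (T : Set G)).relIndex (Subgroup.normalizer (T : Set G)))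
    (hpg : IsPGroup p (Subgroup.normalizer (T : Set G) ⧸
      (Subgroup.centralizer (T : Set G)).subgroupOf (Subgroup.normalizer (T : Set G))))
    {x : G} (hx : x ∈ Subgroup.normalizer (T : Set G)) :
    ∃ y ∈ P, ∀ a ∈ T, x⁻¹ * a * x = y⁻¹ * a * y := by
  obtain ⟨N, hNdef⟩ : ∃ N : Subgroup G, N = Subgroup.normalizer (T : Set G) := ⟨_, rfl⟩
  set C' := (Subgroup.centralizer (T : Set G)).subgroupOf (Subgroup.normalizer (T : Set G)) with hC'
  set R' := (P ⊓ Subgroup.normalizer (T : Set G)).subgroupOf (Subgroup.normalizer (T : Set G)) with hR'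
  have hsurj : Function.Surjective (QuotientGroup.mk' C') := QuotientGroup.mk'_surjective C'
  have h1 : (R'.map (QuotientGroup.mk' C')).index ∣ R'.index := Subgroup.index_map_dvd R' hsurj
  obtain ⟨k, hk⟩ := IsPGroup.iff_card.mp hpg
  have h2 : (R'.map (QuotientGroup.mk' C')).index ∣ p ^ k := by
    rw [← hk]; exact Subgroup.index_dvd_card _
  obtain ⟨j, _, hj⟩ := (Nat.dvd_prime_pow Fact.out).mp h2
  have hj0 : j = 0 := by
    by_contra hne
    apply hR
    have : p ∣ (R'.map (QuotientGroup.mk' C')).index := by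
      rw [hj]; exact dvd_pow_self p hne
    exact this.trans h1
  rw [hj0, pow_zero, Subgroup.index_eq_one] at hj
  have hmem : QuotientGroup.mk' C' ⟨x, hx⟩ ∈ R'.map (QuotientGroup.mk' C') := by
    rw [hj]; exact Subgroup.mem_top _
  obtain ⟨r, hrR, hrx⟩ := hmem
  have hrc : r⁻¹ * ⟨x, hx⟩ ∈ C' := by
    have := QuotientGroup.eq.mp hrx
    exact this
  have hrP : (r : G) ∈ P := (Subgroup.mem_subgroupOf.mp hrR).1
  have hcC : (r : G)⁻¹ * x ∈ Subgroup.centralizer (T : Set G) := Subgroup.mem_subgroupOf.mp hrc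
  refine ⟨(r : G), hrP, ?_⟩
  intro a ha
  have hrN : (r : G)⁻¹ ∈ Subgroup.normalizer (T : Set G) := Subgroup.inv_mem _ r.2
  have h3 : (r : G)⁻¹ * a * (r : G) ∈ T := by
    have := (Subgroup.mem_normalizer_iff.mp hrN a).mp ha
    rwa [inv_inv] at this
  have h4 := Subgroup.mem_centralizer_iff.mp hcC _ h3
  calc x⁻¹ * a * x = ((r : G)⁻¹ * x)⁻¹ * (((r : G)⁻¹ * a * (r : G)) * ((r : G)⁻¹ * x)) := by group
    _ = ((r : G)⁻¹ * x)⁻¹ * (((r : G)⁻¹ * x) * ((r : G)⁻¹ * a * (r : G))) := by rw [h4]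
    _ = (r : G)⁻¹ * a * (r : G) := by group

end Cfsg.Agent.Lib.Helper4
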