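import Mathlib
import Cfsg.Prelude.Def_Transfer
import Cfsg.Prelude.Def_KGroupFacts
import Cfsg.Agent.Lib.Helper6.PRes
import Cfsg.Agent.Lib.Helper4.OmegaGen
import Cfsg.Agent.Lib.Lead.Nilpotent
import Cfsg.Agent.Lib.Lead.ClassTwo

set_option autoImplicit false

namespace Cfsg.Agent.Lib.Helper4.AutCrit

open Cfsg.Agent.Lib.Lead
open Cfsg.Agent.Lib.Helper6

variable {P : Type*} [Group P]

/-- a subgroup invariant under a group of automorphisms -/
def Inv (G : Subgroup (MulAut P)) (H : Subgroup P) : Prop := ∀ α ∈ G, ∀ x ∈ H, α x ∈ H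

theorem Inv.map_eq {G : Subgroup (MulAut P)} {H : Subgroup P} (h : Inv G H) {α : MulAut P}
    (hα : α ∈ G) : H.map α.toMonoidHom = H := by
  apply le_antisymm
  · rintro _ ⟨x, hx, rfl⟩
    exact h α hα x hx
  · intro x hx
    refine ⟨α⁻¹ x, h α⁻¹ (G.inv_mem hα) x hx, ?_⟩
    simp

theorem Inv.symm_mem {G : Subgroup (MulAut P)} {H : Subgroup P} (h : Inv G H) {α : MulAut P}
    (hα : α ∈ G) {x : P} (hx : x ∈ H) : α.symm x ∈ H :=
  h α⁻¹ (G.inv_mem hα) x hx

theorem Inv.normal {G : Subgroup (MulAut P)} (hG : Cfsg.Inn P ≤ G) {H : Subgroup P}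
    (h : Inv G H) : H.Normal := by
  constructor
  intro x hx g
  have h1 : MulAut.conj g ∈ G := hG ⟨g, rfl⟩
  have := h _ h1 x hx
  simpa [MulAut.conj_apply] using this

theorem Inv.inf {G : Subgroup (MulAut P)} {H K : Subgroup P} (hH : Inv G H) (hK : Inv G K) :
    Inv G (H ⊓ K) := fun α hα x hx => ⟨hH α hα x hx.1, hK α hα x hx.2⟩

theorem Inv.centralizer {G : Subgroup (MulAut P)} {H : Subgroup P} (hH : Inv G H) :
    Inv G (Subgroup.centralizer (H : Set P)) := by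
  intro α hα x hx
  rw [Subgroup.mem_centralizer_iff] at hx ⊢
  intro y hy
  have h1 := hx (α.symm y) (hH.symm_mem hα hy)
  have h2 := congrArg α h1
  simpa using h2

/-- the subgroup `[P, O^p(G)]` -/
def P0 (p : ℕ) (G : Subgroup (MulAut P)) : Subgroup P :=
  Subgroup.closure {y : P | ∃ α ∈ Cfsg.pResidual p ↥G, ∃ x : P, y = x⁻¹ * (α : MulAut P) x}

theorem P0_inv (p : ℕ) (G : Subgroup (MulAut P)) : Inv G (P0 p G) := by
  intro β hβ x hx
  have h1 : (P0 p G).map β.toMonoidHom ≤ P0 p G := by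
    unfold P0
    rw [MonoidHom.map_closure, Subgroup.closure_le]
    rintro _ ⟨y, ⟨α, hα, x, rfl⟩, rfl⟩
    apply Subgroup.subset_closure
    have hn : (Cfsg.pResidual p ↥G).Normal := inferInstance
    refine ⟨(⟨β, hβ⟩ : ↥G) * α * (⟨β, hβ⟩ : ↥G)⁻¹, hn.conj_mem α hα _, β x, ?_⟩
    simp
  exact h1 ⟨x, hx, rfl⟩

theorem mem_P0_of_coprime {p : ℕ} {G : Subgroup (MulAut P)} {α : MulAut P} (hα : α ∈ G)
    (hcop : (orderOf α).Coprime p) (x : P) : x⁻¹ * α x ∈ P0 p G := by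
  apply Subgroup.subset_closure
  refine ⟨⟨α, hα⟩, ?_, x, rfl⟩
  apply mem_pResidual_of_coprime'
  have : orderOf (⟨α, hα⟩ : ↥G) = orderOf α := by
    rw [← Subgroup.orderOf_coe]
  rw [this]
  exact hcop

/-- a maximal `G`-invariant abelian subgroup of `P0` -/
theorem exists_max_inv_abelian [Finite P] (G : Subgroup (MulAut P)) (Q : Subgroup P) :
    ∃ A : Subgroup P, A ≤ Q ∧ Inv G A ∧ IsMulCommutative A ∧
      ∀ M : Subgroup P, M ≤ Q → Inv G M → IsMulCommutative M → A ≤ M → M = A := by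
  classical
  let S := {N : Subgroup P // N ≤ Q ∧ Inv G N ∧ IsMulCommutative N}
  have hbot : IsMulCommutative (⊥ : Subgroup P) := by
    refine ⟨⟨fun a b => ?_⟩⟩
    have ha : a = 1 := Subsingleton.elim _ _
    have hb : b = 1 := Subsingleton.elim _ _
    rw [ha, hb]
  have : Nonempty S := ⟨⟨⊥, bot_le, fun α _ x hx => by
    rw [Subgroup.mem_bot] at hx ⊢; rw [hx, map_one], hbot⟩⟩
  obtain ⟨A, hA⟩ := Finite.exists_max (fun N : S => Nat.card N.1)
  refine ⟨A.1, A.2.1, A.2.2.1, A.2.2.2, ?_⟩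
  intro M hMQ hMi hMc hAM
  have h1 := hA ⟨M, hMQ, hMi, hMc⟩
  exact (Subgroup.eq_of_le_of_card_ge hAM h1).symm

end Cfsg.Agent.Lib.Helper4.AutCrit
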