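import Mathlib
import Cfsg.Agent.Lib.Helper4.AutCrit1
import Cfsg.Agent.Lib.Lead.OmegaAut

set_option autoImplicit false

namespace Cfsg.Agent.Lib.Helper4.AutCrit

open Cfsg.Agent.Lib.Lead
open Cfsg.Agent.Lib.Helper6

variable {P : Type*} [Group P]

/-- central elements of order dividing `p` -/
def OmZ (p : ℕ) (Q : Type*) [Group Q] : Subgroup Q where
  carrier := {z | z ∈ Subgroup.center Q ∧ z ^ p = 1}
  one_mem' := ⟨Subgroup.one_mem _, one_pow _⟩
  mul_mem' := by
    rintro a b ⟨ha, hap⟩ ⟨hb, hbp⟩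
    refine ⟨Subgroup.mul_mem _ ha hb, ?_⟩
    have hc : Commute a b := (Subgroup.mem_center_iff.mp ha b).symm
    rw [hc.mul_pow, hap, hbp, one_mul]
  inv_mem' := by
    rintro a ⟨ha, hap⟩
    exact ⟨Subgroup.inv_mem _ ha, by rw [inv_pow, hap, inv_one]⟩

/-- the analogue of Thompson's critical subgroup -/
def CC (p : ℕ) (G : Subgroup (MulAut P)) (A : Subgroup P) [A.Normal] : Subgroup P :=
  P0 p G ⊓ Subgroup.centralizer (A : Set P) ⊓ (OmZ p (P ⧸ A)).comap (QuotientGroup.mk' A)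

theorem mem_CC_iff (p : ℕ) (G : Subgroup (MulAut P)) (A : Subgroup P) [A.Normal] (x : P) :
    x ∈ CC p G A ↔ x ∈ P0 p G ∧ (∀ a ∈ A, a * x = x * a) ∧ (∀ g : P, g * x * g⁻¹ * x⁻¹ ∈ A) ∧
      x ^ p ∈ A := by
  unfold CC
  rw [Subgroup.mem_inf, Subgroup.mem_inf, Subgroup.mem_comap, Subgroup.mem_centralizer_iff]
  constructor
  · rintro ⟨⟨h1, h2⟩, h3, h4⟩
    refine ⟨h1, h2, ?_, ?_⟩
    · intro g
      rw [← QuotientGroup.eq_one_iff]
      have := Subgroup.mem_center_iff.mp h3 (QuotientGroup.mk' A g)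
      simp only [QuotientGroup.mk'_apply] at this
      rw [QuotientGroup.mk_mul, QuotientGroup.mk_mul, QuotientGroup.mk_mul, QuotientGroup.mk_inv,
        QuotientGroup.mk_inv, this]
      group
    · rw [← QuotientGroup.eq_one_iff, QuotientGroup.mk_pow]
      exact h4
  · rintro ⟨h1, h2, h3, h4⟩
    refine ⟨⟨h1, h2⟩, ?_, ?_⟩
    · rw [Subgroup.mem_center_iff]
      intro z
      obtain ⟨g, rfl⟩ := QuotientGroup.mk_surjective z
      have := (QuotientGroup.eq_one_iff _).mpr (h3 g)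
      rw [QuotientGroup.mk_mul, QuotientGroup.mk_mul, QuotientGroup.mk_mul, QuotientGroup.mk_inv,
        QuotientGroup.mk_inv] at this
      simp only [QuotientGroup.mk'_apply]
      have h5 : (QuotientGroup.mk g : P ⧸ A) * QuotientGroup.mk x * (QuotientGroup.mk g)⁻¹ *
          (QuotientGroup.mk x)⁻¹ * (QuotientGroup.mk x * QuotientGroup.mk g) =
          1 * (QuotientGroup.mk x * QuotientGroup.mk g) := by rw [this]
      rw [one_mul] at h5
      rw [← h5]
      group
    · show (QuotientGroup.mk' A x) ^ p = 1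
      rw [QuotientGroup.mk'_apply, ← QuotientGroup.mk_pow]
      exact (QuotientGroup.eq_one_iff _).mpr h4

section
variable [Finite P] {p : ℕ} [hp : Fact p.Prime] (hP : IsPGroup p P) (G : Subgroup (MulAut P))
  (hG : Cfsg.Inn P ≤ G) (A : Subgroup P) [hAn : A.Normal] (hAQ : A ≤ P0 p G) (hAi : Inv G A)
  (hAc : IsMulCommutative A)
  (hAmax : ∀ M : Subgroup P, M ≤ P0 p G → Inv G M → IsMulCommutative M → A ≤ M → M = A)

include hAQ hAc in
theorem le_CC : A ≤ CC p G A := by
  intro a ha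
  rw [mem_CC_iff]
  refine ⟨hAQ ha, ?_, ?_, Subgroup.pow_mem _ ha p⟩
  · intro b hb
    have := hAc.is_comm.comm (⟨b, hb⟩ : A) ⟨a, ha⟩
    exact congrArg Subtype.val this
  · intro g
    exact A.mul_mem (hAn.conj_mem a ha g) (A.inv_mem ha)

include hAi in
theorem CC_inv : Inv G (CC p G A) := by
  intro α hα x hx
  rw [mem_CC_iff] at hx ⊢
  obtain ⟨h1, h2, h3, h4⟩ := hx
  refine ⟨P0_inv p G α hα x h1, ?_, ?_, ?_⟩
  · intro a ha
    have := h2 (α.symm a) (hAi.symm_mem hα ha)
    have h5 := congrArg α this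
    simpa using h5
  · intro g
    have := hAi α hα _ (h3 (α.symm g))
    simpa using this
  · rw [← map_pow]
    exact hAi α hα _ h4

include hAQ hAi hAc hAmax in
/-- `Z(C) = A` -/
theorem CC_inf_centralizer_le :
    CC p G A ⊓ Subgroup.centralizer ((CC p G A : Subgroup P) : Set P) ≤ A := by
  have hCi := CC_inv G A hAi (p := p)
  have hM := hAmax (CC p G A ⊓ Subgroup.centralizer ((CC p G A : Subgroup P) : Set P))
    (fun x hx => ((mem_CC_iff p G A x).mp hx.1).1) (hCi.inf hCi.centralizer)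
    ⟨⟨fun x y => by
      apply Subtype.ext
      have := Subgroup.mem_centralizer_iff.mp x.2.2 y y.2.1
      exact this.symm⟩⟩
    (by
      intro a ha
      refine ⟨le_CC G A hAQ hAc ha, Subgroup.mem_centralizer_iff.mpr ?_⟩
      intro c hc
      exact (((mem_CC_iff p G A c).mp hc).2.1 a ha).symm)
  rw [hM]

include hP hG hAQ hAi hAc hAmax in
/-- `C_{P0}(C) = A` -/
theorem P0_inf_centralizer_le :
    P0 p G ⊓ Subgroup.centralizer ((CC p G A : Subgroup P) : Set P) ≤ A := by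
  have hCi := CC_inv G A hAi (p := p)
  by_contra hcon
  have hHi : Inv G (P0 p G ⊓ Subgroup.centralizer ((CC p G A : Subgroup P) : Set P)) :=
    (P0_inv p G).inf hCi.centralizer
  have hHn : (P0 p G ⊓ Subgroup.centralizer ((CC p G A : Subgroup P) : Set P)).Normal :=
    hHi.normal hG
  obtain ⟨h, hh, hhA⟩ : ∃ h ∈ P0 p G ⊓ Subgroup.centralizer ((CC p G A : Subgroup P) : Set P),
      h ∉ A := by
    by_contra hc
    push Not at hc
    exact hcon hc
  have hQp : IsPGroup p (P ⧸ A) := hP.to_quotient A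
  have hnil : Group.IsNilpotent (P ⧸ A) := hQp.isNilpotent
  have hmapn : ((P0 p G ⊓ Subgroup.centralizer ((CC p G A : Subgroup P) : Set P)).map
      (QuotientGroup.mk' A)).Normal :=
    Subgroup.Normal.map hHn _ (QuotientGroup.mk'_surjective A)
  have hne : (P0 p G ⊓ Subgroup.centralizer ((CC p G A : Subgroup P) : Set P)).map
      (QuotientGroup.mk' A) ≠ ⊥ := by
    intro hbot
    have : QuotientGroup.mk' A h ∈ (P0 p G ⊓ Subgroup.centralizer
        ((CC p G A : Subgroup P) : Set P)).map (QuotientGroup.mk' A) := ⟨h, hh, rfl⟩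
    rw [hbot, Subgroup.mem_bot, QuotientGroup.mk'_apply, QuotientGroup.eq_one_iff] at this
    exact hhA this
  have hinf := inf_center_ne_bot _ hne
  -- an element of order `p`
  have hIp : IsPGroup p ↥((P0 p G ⊓ Subgroup.centralizer ((CC p G A : Subgroup P) : Set P)).map
      (QuotientGroup.mk' A) ⊓ Subgroup.center (P ⧸ A)) := hQp.to_subgroup _
  obtain ⟨k, hk⟩ := IsPGroup.iff_card.mp hIp
  have hk0 : k ≠ 0 := by
    rintro rfl
    rw [pow_zero] at hk
    exact hinf (Subgroup.card_eq_one.mp hk)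
  have hdvd : p ∣ Nat.card ↥((P0 p G ⊓ Subgroup.centralizer
      ((CC p G A : Subgroup P) : Set P)).map (QuotientGroup.mk' A) ⊓ Subgroup.center (P ⧸ A)) := by
    rw [hk]; exact dvd_pow_self p hk0
  obtain ⟨z, hz⟩ := exists_prime_orderOf_dvd_card' p hdvd
  have hz1 : (z : P ⧸ A) ≠ 1 := by
    intro h1
    have : z = 1 := Subtype.ext h1
    rw [this, orderOf_one] at hz
    exact hp.out.one_lt.ne hz
  have hzp : (z : P ⧸ A) ^ p = 1 := by
    have := pow_orderOf_eq_one z
    rw [hz] at this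
    exact congrArg Subtype.val this
  obtain ⟨⟨h', hh', hh'z⟩, hzc⟩ := z.2
  have hh'C : h' ∈ CC p G A := by
    unfold CC
    refine ⟨⟨hh'.1, Subgroup.mem_centralizer_iff.mpr ?_⟩, Subgroup.mem_comap.mpr ?_⟩
    · intro a ha
      exact Subgroup.mem_centralizer_iff.mp hh'.2 a (le_CC G A hAQ hAc ha)
    · rw [hh'z]
      exact ⟨hzc, hzp⟩
  have hh'A : h' ∈ A := CC_inf_centralizer_le G A hAQ hAi hAc hAmax ⟨hh'C, hh'.2⟩
  apply hz1
  rw [← hh'z, QuotientGroup.mk'_apply, QuotientGroup.eq_one_iff]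
  exact hh'A

include hP hG hAQ hAi hAc hAmax in
/-- `p'`-automorphisms in `G` act faithfully on `C` -/
theorem eq_one_of_fix_CC (α : MulAut P) (hα : α ∈ G) (hcop : (orderOf α).Coprime p)
    (hfix : ∀ c ∈ CC p G A, α c = c) : α = 1 := by
  have hCi := CC_inv G A hAi (p := p)
  have hCn : (CC p G A).Normal := hCi.normal hG
  have key : ∀ x ∈ P0 p G, α x = x := by
    intro x hx
    have hy0 : x⁻¹ * α x ∈ P0 p G :=
      Subgroup.mul_mem _ (Subgroup.inv_mem _ hx) (P0_inv p G α hα x hx)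
    have hyc : x⁻¹ * α x ∈ Subgroup.centralizer ((CC p G A : Subgroup P) : Set P) := by
      rw [Subgroup.mem_centralizer_iff]
      intro c hc
      have h1 : α (x * c * x⁻¹) = x * c * x⁻¹ := hfix _ (hCn.conj_mem c hc x)
      rw [map_mul, map_mul, hfix c hc, map_inv] at h1
      calc c * (x⁻¹ * α x) = x⁻¹ * (x * c * x⁻¹) * α x := by group
        _ = x⁻¹ * (α x * c * (α x)⁻¹) * α x := by rw [h1]
        _ = x⁻¹ * α x * c := by group
    have hyA : x⁻¹ * α x ∈ A := P0_inf_centralizer_le hP G hG A hAQ hAi hAc hAmax ⟨hy0, hyc⟩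
    have hyfix : α (x⁻¹ * α x) = x⁻¹ * α x := hfix _ (le_CC G A hAQ hAc hyA)
    have h1 : x⁻¹ * α x = 1 :=
      eq_one_of_aut_pow α (orderOf α) (pow_orderOf_eq_one α) hcop x (x⁻¹ * α x)
        (by group) hyfix (hP _)
    calc α x = x * (x⁻¹ * α x) := by group
      _ = x := by rw [h1, mul_one]
  ext x
  have hy0 : x⁻¹ * α x ∈ P0 p G := mem_P0_of_coprime hα hcop x
  have hyfix := key _ hy0
  have h1 : x⁻¹ * α x = 1 :=
    eq_one_of_aut_pow α (orderOf α) (pow_orderOf_eq_one α) hcop x (x⁻¹ * α x)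
      (by group) hyfix (hP _)
  calc α x = x * (x⁻¹ * α x) := by group
    _ = x := by rw [h1, mul_one]

end

end Cfsg.Agent.Lib.Helper4.AutCrit
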