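import Mathlib
import Cfsg.Agent.Lib.Helper4.AutCrit2

set_option autoImplicit false

namespace Cfsg.Agent.Lib.Helper4.AutCrit

open Cfsg.Agent.Lib.Lead
open Cfsg.Agent.Lib.Helper6
open Cfsg.Agent.Lib.Helper4
open scoped commutatorElement

variable {P : Type*} [Group P]

theorem aut_pow_mem (a : MulAut P) (H : Subgroup P) (hinv : ∀ x ∈ H, a x ∈ H) (k : ℕ) :
    ∀ x ∈ H, (a ^ k) x ∈ H := by
  induction k with
  | zero => intro x hx; simpa using hx
  | succ k ih =>
    intro x hx
    rw [pow_succ', MulAut.mul_apply]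
    exact hinv _ (ih x hx)

theorem aut_pow_fix (a : MulAut P) {x : P} (h : a x = x) (k : ℕ) : (a ^ k) x = x := by
  induction k with
  | zero => simp
  | succ k ih => rw [pow_succ', MulAut.mul_apply, ih, h]

/-- automorphism form of `coprime_centralizes_of_omega_gen` -/
theorem aut_fix_of_omega_gen [Finite P] {p : ℕ} [Fact p.Prime] (a : MulAut P)
    (hcop : (orderOf a).Coprime p) (H : Subgroup P) (hH : IsPGroup p H)
    (hinv : ∀ x ∈ H, a x ∈ H)
    (hfix : ∀ x ∈ H, (x ^ p = 1 ∨ (p = 2 ∧ x ^ 4 = 1)) → a x = x) : ∀ x ∈ H, a x = x := by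
  classical
  let S := P ⋊[MonoidHom.id (MulAut P)] MulAut P
  have hfin : Finite S := Finite.of_equiv _ SemidirectProduct.equivProd.symm
  have hinl : Function.Injective (SemidirectProduct.inl : P →* S) :=
    SemidirectProduct.inl_injective
  have hinr : Function.Injective (SemidirectProduct.inr : MulAut P →* S) :=
    SemidirectProduct.inr_injective
  have hconj : ∀ (b : MulAut P) (x : P),
      (SemidirectProduct.inr b : S) * SemidirectProduct.inl x * (SemidirectProduct.inr b)⁻¹ =
        SemidirectProduct.inl (b x) := by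
    intro b x
    have := SemidirectProduct.inl_aut (φ := MonoidHom.id (MulAut P)) b x
    rw [MonoidHom.id_apply] at this
    rw [this, map_inv]
  have hpos : 0 < orderOf a := orderOf_pos a
  -- powers of `a` preserve `H`, in both directions
  have hainv : ∀ x ∈ H, a⁻¹ x ∈ H := by
    intro x hx
    have h1 : a⁻¹ = a ^ (orderOf a - 1) := by
      rw [eq_comm, ← mul_eq_one_iff_eq_inv, ← pow_succ, Nat.sub_add_cancel hpos,
        pow_orderOf_eq_one]
    rw [h1]
    exact aut_pow_mem a H hinv _ x hx
  have h1 := coprime_centralizes_of_omega_gen (G := S) (p := p)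
    (Subgroup.zpowers (SemidirectProduct.inr a : S)) (H.map (SemidirectProduct.inl : P →* S))
    (by
      rw [Nat.card_zpowers, orderOf_injective _ hinr]
      exact hcop)
    (by
      have hequiv : H ≃* ↥(H.map (SemidirectProduct.inl : P →* S)) :=
        H.equivMapOfInjective _ hinl
      exact hH.of_equiv hequiv)
    (by
      rw [Subgroup.zpowers_le, Subgroup.mem_normalizer_iff]
      intro h
      constructor
      · rintro ⟨x, hx, rfl⟩
        rw [hconj]
        exact ⟨a x, hinv x hx, rfl⟩
      · rintro ⟨y, hy, hyh⟩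
        have h2 : h = (SemidirectProduct.inr a⁻¹ : S) * SemidirectProduct.inl y *
            (SemidirectProduct.inr a⁻¹)⁻¹ := by
          rw [hyh, map_inv]; group
        rw [h2, hconj]
        exact ⟨a⁻¹ y, hainv y hy, rfl⟩)
    (by
      rintro _ ⟨x, hx, rfl⟩ hcond b hb
      obtain ⟨k, rfl⟩ := Subgroup.mem_zpowers_iff.mp hb
      have hx' : (x ^ p = 1 ∨ (p = 2 ∧ x ^ 4 = 1)) := by
        rcases hcond with h | ⟨h2, h⟩
        · left
          apply hinl
          rw [map_pow, h, map_one]
        · right
          refine ⟨h2, hinl ?_⟩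
          rw [map_pow, h, map_one]
      have hax := hfix x hx hx'
      have hcomm : (SemidirectProduct.inr a : S) * SemidirectProduct.inl x =
          SemidirectProduct.inl x * SemidirectProduct.inr a := by
        have := hconj a x
        rw [hax] at this
        calc (SemidirectProduct.inr a : S) * SemidirectProduct.inl x
            = ((SemidirectProduct.inr a : S) * SemidirectProduct.inl x *
                (SemidirectProduct.inr a)⁻¹) * SemidirectProduct.inr a := by group
          _ = SemidirectProduct.inl x * SemidirectProduct.inr a := by rw [this]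
      exact ((Commute.zpow_left (show Commute (SemidirectProduct.inr a : S)
        (SemidirectProduct.inl x) from hcomm) k)).eq)
  intro x hx
  have h2 : (SemidirectProduct.inr a : S) ∈ Subgroup.centralizer
      ((H.map (SemidirectProduct.inl : P →* S) : Subgroup S) : Set S) :=
    h1 (Subgroup.mem_zpowers _)
  have h3 := Subgroup.mem_centralizer_iff.mp h2 _ ⟨x, hx, rfl⟩
  have h4 := hconj a x
  apply hinl
  rw [← h4, ← h3]
  group

/-- a `p'`-automorphism fixing a self-centralising normal subgroup of an invariant `p`-subgroup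
fixes the whole subgroup -/
theorem aut_fix_of_self_centralizing {p : ℕ} (hP : IsPGroup p P) (α : MulAut P)
    (hcop : (orderOf α).Coprime p) (D N : Subgroup P) (hDinv : ∀ x ∈ D, α x ∈ D) (_hND : N ≤ D)
    (hNn : ∀ x ∈ D, ∀ c ∈ N, x * c * x⁻¹ ∈ N)
    (hNc : ∀ y ∈ D, (∀ c ∈ N, c * y = y * c) → y ∈ N) (hfix : ∀ c ∈ N, α c = c) :
    ∀ x ∈ D, α x = x := by
  intro x hx
  have hyD : x⁻¹ * α x ∈ D := D.mul_mem (D.inv_mem hx) (hDinv x hx)
  have hyN : x⁻¹ * α x ∈ N := by
    apply hNc _ hyD
    intro c hc
    have h1 : α (x * c * x⁻¹) = x * c * x⁻¹ := hfix _ (hNn x hx c hc)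
    rw [map_mul, map_mul, hfix c hc, map_inv] at h1
    calc c * (x⁻¹ * α x) = x⁻¹ * (x * c * x⁻¹) * α x := by group
      _ = x⁻¹ * (α x * c * (α x)⁻¹) * α x := by rw [h1]
      _ = x⁻¹ * α x * c := by group
  have h1 : x⁻¹ * α x = 1 :=
    eq_one_of_aut_pow α (orderOf α) (pow_orderOf_eq_one α) hcop x (x⁻¹ * α x)
      (by group) (hfix _ hyN) (hP _)
  calc α x = x * (x⁻¹ * α x) := by group
    _ = x := by rw [h1, mul_one]

end Cfsg.Agent.Lib.Helper4.AutCrit
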