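import Mathlib
import Cfsg.Agent.Lib.Helper4.AutCrit3

set_option autoImplicit false

namespace Cfsg.Agent.Lib.Helper4.AutCrit

open Cfsg.Agent.Lib.Lead
open Cfsg.Agent.Lib.Helper6
open Cfsg.Agent.Lib.Helper4
open scoped commutatorElement

variable {P : Type*} [Group P]

/-- the exponent bound: `4` for `p = 2`, `p` otherwise -/
def nexp (p : ℕ) : ℕ := if p = 2 then 4 else p

theorem CC_class_two (p : ℕ) (G : Subgroup (MulAut P)) (A : Subgroup P) [A.Normal]
    (a b : ↥(CC p G A)) : ⁅a, b⁆ ∈ Subgroup.center ↥(CC p G A) := by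
  rw [Subgroup.mem_center_iff]
  intro g
  apply Subtype.ext
  have hb := ((mem_CC_iff p G A b).mp b.2).2.2.1 (a : P)
  have hg := ((mem_CC_iff p G A g).mp g.2).2.1 _ hb
  simp only [Subgroup.coe_mul, commutatorElement_def, Subgroup.coe_inv]
  exact hg.symm

theorem CC_pow_central (p : ℕ) (G : Subgroup (MulAut P)) (A : Subgroup P) [A.Normal]
    (x : ↥(CC p G A)) : x ^ p ∈ Subgroup.center ↥(CC p G A) := by
  rw [Subgroup.mem_center_iff]
  intro g
  apply Subtype.ext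
  have hx := ((mem_CC_iff p G A x).mp x.2).2.2.2
  have hg := ((mem_CC_iff p G A g).mp g.2).2.1 _ hx
  simp only [Subgroup.coe_mul, Subgroup.coe_pow]
  exact hg.symm

/-- the subgroup `D` -/
def DD (p : ℕ) [hp : Fact p.Prime] (G : Subgroup (MulAut P)) (A : Subgroup P) [A.Normal] :
    Subgroup P where
  carrier := {x | x ∈ CC p G A ∧ x ^ nexp p = 1}
  one_mem' := ⟨Subgroup.one_mem _, one_pow _⟩
  mul_mem' := by
    rintro x y ⟨hx, hxn⟩ ⟨hy, hyn⟩
    refine ⟨Subgroup.mul_mem _ hx hy, ?_⟩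
    by_cases h2 : p = 2
    · subst h2
      have h4 : nexp 2 = 4 := by simp [nexp]
      rw [h4] at hxn hyn ⊢
      have := mul_pow_four_of_central (CC_class_two 2 G A) (CC_pow_central 2 G A)
        ⟨x, hx⟩ ⟨y, hy⟩
      have h5 := congrArg Subtype.val this
      simp only [Subgroup.coe_pow, Subgroup.coe_mul] at h5
      rw [h5, hxn, hyn, one_mul]
    · have hn : nexp p = p := by simp [nexp, h2]
      rw [hn] at hxn hyn ⊢
      have := mul_pow_eq_one_of_class_two h2 (CC_class_two p G A) ⟨x, hx⟩ ⟨y, hy⟩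
        (Subtype.ext hxn) (Subtype.ext hyn)
      have h5 := congrArg Subtype.val this
      simpa using h5
  inv_mem' := by
    rintro x ⟨hx, hxn⟩
    exact ⟨Subgroup.inv_mem _ hx, by rw [inv_pow, hxn, inv_one]⟩

theorem mem_DD_iff (p : ℕ) [hp : Fact p.Prime] (G : Subgroup (MulAut P)) (A : Subgroup P)
    [A.Normal] (x : P) : x ∈ DD p G A ↔ x ∈ CC p G A ∧ x ^ nexp p = 1 := Iff.rfl

theorem DD_exp (p : ℕ) [hp : Fact p.Prime] (G : Subgroup (MulAut P)) (A : Subgroup P)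
    [A.Normal] {d : P} (hd : d ∈ DD p G A) : d ^ p = 1 ∨ (p = 2 ∧ d ^ 4 = 1) := by
  have h := hd.2
  by_cases h2 : p = 2
  · right
    refine ⟨h2, ?_⟩
    have : nexp p = 4 := by simp [nexp, h2]
    rwa [this] at h
  · left
    have : nexp p = p := by simp [nexp, h2]
    rwa [this] at h

theorem mem_DD_of_cond (p : ℕ) [hp : Fact p.Prime] (G : Subgroup (MulAut P)) (A : Subgroup P)
    [A.Normal] {x : P} (hx : x ∈ CC p G A) (h : x ^ p = 1 ∨ (p = 2 ∧ x ^ 4 = 1)) :
    x ∈ DD p G A := by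
  refine ⟨hx, ?_⟩
  by_cases h2 : p = 2
  · have hn : nexp p = 4 := by simp [nexp, h2]
    rw [hn]
    rcases h with h | ⟨-, h⟩
    · rw [h2] at h
      rw [show 4 = 2 * 2 from rfl, pow_mul, h, one_pow]
    · exact h
  · have hn : nexp p = p := by simp [nexp, h2]
    rw [hn]
    rcases h with h | ⟨h, -⟩
    · exact h
    · exact absurd h h2

section
variable [Finite P] {p : ℕ} [hp : Fact p.Prime] (hP : IsPGroup p P) (G : Subgroup (MulAut P))
  (hG : Cfsg.Inn P ≤ G) (A : Subgroup P) [hAn : A.Normal] (hAQ : A ≤ P0 p G) (hAi : Inv G A)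
  (hAc : IsMulCommutative A)
  (hAmax : ∀ M : Subgroup P, M ≤ P0 p G → Inv G M → IsMulCommutative M → A ≤ M → M = A)

include hAi in
theorem DD_inv : Inv G (DD p G A) := by
  intro α hα x hx
  refine ⟨CC_inv G A hAi α hα x hx.1, ?_⟩
  rw [← map_pow, hx.2, map_one]

theorem DD_le_P0 : DD p G A ≤ P0 p G := fun x hx => ((mem_CC_iff p G A x).mp hx.1).1

include hG hAi in
theorem commutator_DD_le :
    ⁅DD p G A, (⊤ : Subgroup P)⁆ ≤ DD p G A ⊓ Subgroup.centralizer ((DD p G A : Subgroup P) : Set P) := by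
  have hDn : (DD p G A).Normal := (DD_inv G A hAi).normal hG
  rw [Subgroup.commutator_le]
  intro d hd g _
  have hA : ⁅d, g⁆ ∈ A := by
    have := ((mem_CC_iff p G A d).mp hd.1).2.2.1 g
    have h2 : ⁅d, g⁆ = (g * d * g⁻¹ * d⁻¹)⁻¹ := by
      rw [commutatorElement_def]; group
    rw [h2]
    exact A.inv_mem this
  refine ⟨?_, Subgroup.mem_centralizer_iff.mpr ?_⟩
  · rw [commutatorElement_def]
    have := hDn.conj_mem d⁻¹ ((DD p G A).inv_mem hd) g
    have h3 := (DD p G A).mul_mem hd this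
    simpa [mul_assoc] using h3
  · intro x hx
    exact (((mem_CC_iff p G A x).mp hx.1).2.1 _ hA).symm

include hP hG hAQ hAi hAc hAmax in
theorem eq_one_of_fix_DD (α : MulAut P) (hα : α ∈ G) (hcop : (orderOf α).Coprime p)
    (hfix : ∀ d ∈ DD p G A, α d = d) : α = 1 := by
  apply eq_one_of_fix_CC hP G hG A hAQ hAi hAc hAmax α hα hcop
  apply aut_fix_of_omega_gen α hcop (CC p G A) (hP.to_subgroup _)
    (fun x hx => CC_inv G A hAi α hα x hx)
  intro x hx hcond
  exact hfix x (mem_DD_of_cond p G A hx hcond)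

include hP hG hAQ hAi hAc hAmax in
theorem max_abelian_DD (B : Subgroup P) (hBD : B ≤ DD p G A) (hBc : IsMulCommutative B)
    (hBmax : ∀ B' : Subgroup P, B ≤ B' → B' ≤ DD p G A → IsMulCommutative B' → B' = B) :
    B.Normal ∧ ∀ α ∈ G, (∀ a ∈ B, α a = a) → ∃ k : ℕ, orderOf α = p ^ k := by
  have hDi := DD_inv G A hAi (p := p)
  have hDn : (DD p G A).Normal := hDi.normal hG
  -- self-centralising
  have hself : ∀ y ∈ DD p G A, (∀ c ∈ B, c * y = y * c) → y ∈ B := by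
    intro y hy hc
    have hyc : y ∈ Subgroup.centralizer (B : Set P) := Subgroup.mem_centralizer_iff.mpr hc
    have h1 := sup_zpowers_comm B hyc
    have h2 := hBmax (B ⊔ Subgroup.zpowers y) le_sup_left
      (sup_le hBD (Subgroup.zpowers_le.mpr hy)) h1
    rw [← h2]
    exact (le_sup_right : Subgroup.zpowers y ≤ _) (Subgroup.mem_zpowers y)
  have hZ : DD p G A ⊓ Subgroup.centralizer ((DD p G A : Subgroup P) : Set P) ≤ B := by
    intro z hz
    apply hself z hz.1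
    intro c hc
    exact Subgroup.mem_centralizer_iff.mp hz.2 c (hBD hc)
  have hBn : B.Normal := by
    constructor
    intro a ha g
    have h1 : ⁅a, g⁆ ∈ ⁅DD p G A, (⊤ : Subgroup P)⁆ :=
      Subgroup.commutator_mem_commutator (hBD ha) (Subgroup.mem_top g)
    have h2 := hZ (commutator_DD_le G hG A hAi h1)
    have h3 : g * a * g⁻¹ = (⁅a, g⁆)⁻¹ * a := by
      rw [commutatorElement_def]; group
    rw [h3]
    exact B.mul_mem (B.inv_mem h2) ha
  refine ⟨hBn, ?_⟩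
  intro α hα hfix
  have hpos : 0 < orderOf α := orderOf_pos α
  obtain ⟨k, m', hm', hm⟩ := Nat.exists_eq_pow_mul_and_not_dvd hpos.ne' p hp.out.ne_one
  have hβG : α ^ (p ^ k) ∈ G := G.pow_mem hα _
  have hord : orderOf (α ^ (p ^ k)) = m' := by
    rw [orderOf_pow_of_dvd (pow_ne_zero k hp.out.ne_zero) ⟨m', hm⟩, hm,
      Nat.mul_div_cancel_left _ (pow_pos hp.out.pos k)]
  have hcop : (orderOf (α ^ (p ^ k))).Coprime p := by
    rw [hord]
    exact ((Nat.Prime.coprime_iff_not_dvd hp.out).mpr hm').symm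
  have hβfix : ∀ a ∈ B, (α ^ (p ^ k)) a = a := fun a ha => aut_pow_fix α (hfix a ha) _
  have hβD : ∀ x ∈ DD p G A, (α ^ (p ^ k)) x = x :=
    aut_fix_of_self_centralizing hP (α ^ (p ^ k)) hcop (DD p G A) B
      (fun x hx => hDi _ hβG x hx) hBD (fun x _ c hc => hBn.conj_mem c hc x) hself hβfix
  have hβ1 := eq_one_of_fix_DD hP G hG A hAQ hAi hAc hAmax _ hβG hcop hβD
  have hdvd : orderOf α ∣ p ^ k := orderOf_dvd_of_pow_eq_one hβ1
  obtain ⟨j, -, hj⟩ := (Nat.dvd_prime_pow hp.out).mp hdvd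
  exact ⟨j, hj⟩

end

/-- **GLS refinement of Thompson's critical subgroup** -/
theorem exists_critical_in_residual [Finite P] {p : ℕ} [hp : Fact p.Prime] (hP : IsPGroup p P)
    (G : Subgroup (MulAut P)) (hG : Cfsg.Inn P ≤ G) :
    ∃ D : Subgroup P,
      (∀ α ∈ G, D.map α.toMonoidHom = D) ∧
      D ≤ P0 p G ∧
      (∀ d ∈ D, d ^ p = 1 ∨ (p = 2 ∧ d ^ 4 = 1)) ∧
      ⁅D, (⊤ : Subgroup P)⁆ ≤ D ⊓ Subgroup.centralizer (D : Set P) ∧
      (∀ α ∈ G, (orderOf α).Coprime p → (∀ d ∈ D, α d = d) → α = 1) ∧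
      ∀ A : Subgroup P, A ≤ D → IsMulCommutative ↥A →
        (∀ B : Subgroup P, A ≤ B → B ≤ D → IsMulCommutative ↥B → B = A) →
        A.Normal ∧ ∀ α ∈ G, (∀ a ∈ A, α a = a) → ∃ k : ℕ, orderOf α = p ^ k := by
  obtain ⟨A, hAQ, hAi, hAc, hAmax⟩ := exists_max_inv_abelian G (P0 p G)
  have hAn : A.Normal := hAi.normal hG
  refine ⟨DD p G A, fun α hα => (DD_inv G A hAi).map_eq hα, DD_le_P0 G A,
    fun d hd => DD_exp p G A hd, commutator_DD_le G hG A hAi,
    fun α hα hcop hfix => eq_one_of_fix_DD hP G hG A hAQ hAi hAc hAmax α hα hcop hfix,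
    fun B hBD hBc hBmax => max_abelian_DD hP G hG A hAQ hAi hAc hAmax B hBD hBc hBmax⟩

end Cfsg.Agent.Lib.Helper4.AutCrit
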