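import Mathlib

/-! The projective order of `X` in `(K[X]/μ)ˣ` (package PK-B for S2262). -/

namespace Cfsg.Agent.Lib.AutMeoB

open Polynomial

/-- in a finite commutative group, some positive power `k ≤ index S` of `x` lies in `S`, with
`k * |S| ≤ |G|`. -/
theorem exists_pow_mem_card {G : Type*} [CommGroup G] [Finite G] (S : Subgroup G) (x : G) :
    ∃ k : ℕ, 0 < k ∧ x ^ k ∈ S ∧ k * Nat.card S ≤ Nat.card G := by
  classical
  refine ⟨orderOf (QuotientGroup.mk x : G ⧸ S), orderOf_pos _, ?_, ?_⟩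
  · rw [← QuotientGroup.eq_one_iff, QuotientGroup.mk_pow, pow_orderOf_eq_one]
  · have h1 : orderOf (QuotientGroup.mk x : G ⧸ S) ∣ Nat.card (G ⧸ S) := orderOf_dvd_natCard _
    have h2 : Nat.card (G ⧸ S) = S.index := (Subgroup.index_eq_card S).symm
    have h3 : S.index * Nat.card S = Nat.card G := Subgroup.index_mul_card S
    have h4 : 0 < S.index := Nat.pos_of_ne_zero (Subgroup.index_ne_zero_of_finite)
    have h5 : orderOf (QuotientGroup.mk x : G ⧸ S) ≤ S.index := by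
      rw [← h2]
      exact Nat.le_of_dvd (by rw [h2]; exact h4) h1
    calc orderOf (QuotientGroup.mk x : G ⧸ S) * Nat.card S ≤ S.index * Nat.card S :=
          Nat.mul_le_mul_right _ h5
      _ = Nat.card G := h3

theorem poly_pgl_bound {K : Type*} [Field K] [Fintype K] (μ : K[X]) (h0 : μ.coeff 0 ≠ 0)
    (hd : 1 ≤ μ.natDegree) :
    ∃ k : ℕ, 0 < k ∧ ∃ c : K, c ≠ 0 ∧ μ ∣ X ^ k - C c ∧
      (Fintype.card K - 1) * k ≤ Fintype.card K ^ μ.natDegree - 1 := by
  classical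
  have hμ0 : μ ≠ 0 := by
    intro h
    rw [h] at hd
    simp at hd
  have hdeg : μ.degree ≠ 0 := by
    rw [Polynomial.degree_eq_natDegree hμ0]
    exact_mod_cast (by omega : μ.natDegree ≠ 0)
  haveI : Nontrivial (AdjoinRoot μ) := AdjoinRoot.nontrivial μ hdeg
  haveI : Module.Finite K (AdjoinRoot μ) := (AdjoinRoot.powerBasis hμ0).finite
  haveI : Finite (AdjoinRoot μ) := Module.finite_of_finite K
  haveI : Fintype (AdjoinRoot μ) := Fintype.ofFinite _
  have hcardR : Fintype.card (AdjoinRoot μ) = Fintype.card K ^ μ.natDegree := by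
    rw [Module.card_eq_pow_finrank (K := K) (V := AdjoinRoot μ)]
    congr 1
    exact finrank_quotient_span_eq_natDegree
  -- the root is a unit
  obtain ⟨g, hg⟩ : X ∣ μ - C (μ.coeff 0) := by
    rw [Polynomial.X_dvd_iff]
    simp
  have hx : AdjoinRoot.root μ * (-(AdjoinRoot.of μ ((μ.coeff 0)⁻¹)) * AdjoinRoot.mk μ g) = 1 := by
    have h1 : AdjoinRoot.mk μ (μ - C (μ.coeff 0)) = AdjoinRoot.mk μ (X * g) := by rw [hg]
    rw [map_sub, AdjoinRoot.mk_self, AdjoinRoot.mk_C, map_mul, AdjoinRoot.mk_X, zero_sub] at h1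
    have h2 : AdjoinRoot.of μ ((μ.coeff 0)⁻¹) * AdjoinRoot.of μ (μ.coeff 0) = 1 := by
      rw [← map_mul, inv_mul_cancel₀ h0, map_one]
    calc AdjoinRoot.root μ * (-(AdjoinRoot.of μ ((μ.coeff 0)⁻¹)) * AdjoinRoot.mk μ g)
        = (AdjoinRoot.of μ ((μ.coeff 0)⁻¹)) * (-(AdjoinRoot.root μ * AdjoinRoot.mk μ g)) := by ring
      _ = 1 := by rw [← h1, neg_neg, h2]
  let x : (AdjoinRoot μ)ˣ := Units.mkOfMulEqOne _ _ hx
  have hxval : (x : AdjoinRoot μ) = AdjoinRoot.root μ := rfl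
  let f : Kˣ →* (AdjoinRoot μ)ˣ := Units.map (AdjoinRoot.of μ : K →* AdjoinRoot μ)
  have hf : Function.Injective f := Units.map_injective (AdjoinRoot.of μ).injective
  obtain ⟨k, hk0, hkS, hkcard⟩ := exists_pow_mem_card f.range x
  obtain ⟨c, hc⟩ := hkS
  have hcS : Nat.card f.range = Fintype.card K - 1 := by
    rw [← Nat.card_congr (MonoidHom.ofInjective hf).toEquiv, Nat.card_eq_fintype_card,
      Fintype.card_units]
  have hcU : Nat.card (AdjoinRoot μ)ˣ < Fintype.card K ^ μ.natDegree := by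
    rw [← hcardR, Fintype.card_eq_nat_card]
    exact natCard_units_lt _
  refine ⟨k, hk0, (c : K), c.ne_zero, ?_, ?_⟩
  · rw [← AdjoinRoot.mk_eq_zero, map_sub, map_pow, AdjoinRoot.mk_X, AdjoinRoot.mk_C, sub_eq_zero]
    have := congrArg (fun u : (AdjoinRoot μ)ˣ => (u : AdjoinRoot μ)) hc
    simp only [Units.val_pow_eq_pow_val, hxval] at this
    rw [← this]
    rfl
  · rw [hcS] at hkcard
    rw [mul_comm]
    omega

end Cfsg.Agent.Lib.AutMeoB
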