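import Mathlib

/-! Galois descent to the fixed field of an automorphism of a finite field (package PK-D for
S2262). -/

namespace Cfsg.Agent.Lib.AutMeoD

open Polynomial

theorem descent {F : Type*} [Field F] [Fintype F] (σ : F ≃+* F) :
    ∃ (K : Subfield F) (_ : Fintype K), Fintype.card K ^ orderOf σ = Fintype.card F ∧
      ∀ P : F[X], P.map (σ : F →+* F) = P → ∃ P₀ : (↥K)[X], P₀.map K.subtype = P := by
  classical
  let G : Subgroup (RingAut F) := Subgroup.zpowers (σ : RingAut F)
  haveI : Finite (RingAut F) :=
    Finite.of_injective (fun e : RingAut F => (e : F → F)) (fun a b h => DFunLike.coe_injective h)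
  haveI : Fintype G := Fintype.ofFinite G
  let K : Subfield F := FixedPoints.subfield G F
  haveI : Fintype K := Fintype.ofFinite K
  refine ⟨K, inferInstance, ?_, ?_⟩
  · have h1 : Module.finrank K F = Fintype.card G := FixedPoints.finrank_eq_card G F
    have h2 : Fintype.card G = orderOf σ := by
      rw [Fintype.card_eq_nat_card]
      exact Nat.card_zpowers (σ : RingAut F)
    rw [← h2, ← h1]
    exact (Module.card_eq_pow_finrank (K := K) (V := F)).symm
  · intro P hP
    have hmem : P ∈ Polynomial.lifts K.subtype := by
      rw [Polynomial.lifts_iff_coeff_lifts]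
      intro n
      have hfix : σ (P.coeff n) = P.coeff n := by
        have := congrArg (fun Q : F[X] => Q.coeff n) hP
        simpa [Polynomial.coeff_map] using this
      have hK : P.coeff n ∈ K := by
        intro g
        obtain ⟨g, ⟨k, rfl⟩⟩ := g
        change ((σ : RingAut F) ^ k) (P.coeff n) = P.coeff n
        have hz : ∀ k : ℕ, ((σ : RingAut F) ^ k) (P.coeff n) = P.coeff n := by
          intro k
          induction k with
          | zero => simp
          | succ k ih => rw [pow_succ, RingAut.mul_apply, hfix, ih]
        rcases Int.eq_nat_or_neg k with ⟨m, rfl | rfl⟩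
        · rw [zpow_natCast]; exact hz m
        · rw [zpow_neg, zpow_natCast]
          have := hz m
          conv_lhs => rw [← this]
          rw [← RingAut.mul_apply, inv_mul_cancel]
          rfl
      exact ⟨⟨P.coeff n, hK⟩, rfl⟩
    exact (Polynomial.mem_lifts P).mp hmem

end Cfsg.Agent.Lib.AutMeoD
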