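import Mathlib

/-! Conjugate-self-reciprocal polynomials of degree `≤ 3` over the field with four elements
(package PK-U3 for S2262). -/

namespace Cfsg.Agent.Lib.AutMeoU3

open Polynomial

section field4

variable {F : Type*} [Field F] [Fintype F]

theorem two_eq_zero (hF : Fintype.card F = 4) : (2 : F) = 0 := by
  have h4 : ((Fintype.card F : ℕ) : F) = 0 := FiniteField.cast_card_eq_zero F
  rw [hF] at h4
  have h : (2 : F) * 2 = 0 := by
    have : ((4 : ℕ) : F) = 2 * 2 := by norm_num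
    rw [← this]; exact h4
  exact mul_self_eq_zero.mp h

theorem pow_three_eq_one (hF : Fintype.card F = 4) {x : F} (hx : x ≠ 0) : x ^ 3 = 1 := by
  have := FiniteField.pow_card_sub_one_eq_one x hx
  rwa [hF] at this

theorem sq_add_add_one (hF : Fintype.card F = 4) {x : F} (hx0 : x ≠ 0) (hx1 : x ≠ 1) :
    x ^ 2 + x + 1 = 0 := by
  have h3 := pow_three_eq_one hF hx0
  have : (x - 1) * (x ^ 2 + x + 1) = 0 := by linear_combination h3
  rcases mul_eq_zero.mp this with h | h
  · exact absurd (sub_eq_zero.mp h) hx1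
  · exact h

theorem sigma_eq_sq (hF : Fintype.card F = 4) (σ : F ≃+* F) (hσ : σ ≠ 1) (x : F) :
    σ x = x ^ 2 := by
  classical
  have h2 := two_eq_zero hF
  -- it suffices to treat one element outside the prime field
  have key : ∀ y : F, y ≠ 0 → y ≠ 1 → σ y = y ^ 2 := by
    intro y hy0 hy1
    by_contra hne
    have hy := sq_add_add_one hF hy0 hy1
    have hσy : (σ y) ^ 2 + σ y + 1 = 0 := by
      have := congrArg σ hy
      simpa using this
    have hprod : (σ y - y) * (σ y - y ^ 2) = 0 := by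
      linear_combination hσy - (σ y) * hy + (y - 1) * hy
    have hfix : σ y = y := by
      rcases mul_eq_zero.mp hprod with h | h
      · exact sub_eq_zero.mp h
      · exact absurd (sub_eq_zero.mp h) hne
    -- the four elements
    have hS : ({0, 1, y, y + 1} : Finset F) = Finset.univ := by
      apply Finset.eq_univ_of_card
      have h01 : (0 : F) ≠ 1 := zero_ne_one
      have hy1' : y + 1 ≠ 0 := by
        intro h
        apply hy1
        linear_combination h - h2
      have hyy : y ≠ y + 1 := by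
        intro h
        exact one_ne_zero (by linear_combination -h : (1 : F) = 0)
      have h1y : (1 : F) ≠ y + 1 := by
        intro h
        exact hy0 (by linear_combination -h)
      rw [hF, Finset.card_insert_of_notMem, Finset.card_insert_of_notMem,
        Finset.card_insert_of_notMem, Finset.card_singleton]
      · simp [hyy]
      · simp [Ne.symm hy1, h1y]
      · simp [h01, Ne.symm hy0, Ne.symm hy1']
    apply hσ
    ext z
    have hz : z ∈ ({0, 1, y, y + 1} : Finset F) := by rw [hS]; exact Finset.mem_univ z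
    simp only [Finset.mem_insert, Finset.mem_singleton] at hz
    rcases hz with rfl | rfl | rfl | rfl
    · simp
    · simp
    · simpa using hfix
    · simp [hfix]
  by_cases hx0 : x = 0
  · simp [hx0]
  by_cases hx1 : x = 1
  · simp [hx1]
  exact key x hx0 hx1


theorem two_eq_zero_poly (hF : Fintype.card F = 4) : (2 : F[X]) = 0 := by
  rw [show (2 : F[X]) = C (2 : F) from (map_ofNat C 2).symm, two_eq_zero hF, map_zero]

theorem id1 (hF : Fintype.card F = 4) (a : F) : X - C a = (C a + X) * 1 := by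
  linear_combination (-(C a : F[X])) * two_eq_zero_poly hF

theorem id2 (hF : Fintype.card F = 4) (a : F) : X ^ 2 - C a = (C a + X ^ 2) * 1 := by
  linear_combination (-(C a : F[X])) * two_eq_zero_poly hF

theorem id3 (hF : Fintype.card F = 4) (a : F) : X ^ 3 - C a = (C a + X ^ 3) * 1 := by
  linear_combination (-(C a : F[X])) * two_eq_zero_poly hF

theorem id3' (hF : Fintype.card F = 4) (a : F) (ha3 : a ^ 3 = 1) :
    X ^ 3 - C 1 = (C a + C (a ^ 2) * X + X ^ 2) * (X + C (a ^ 2)) := by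
  have hz3 : (C a : F[X]) ^ 3 = 1 := by rw [← map_pow, ha3, map_one]
  simp only [map_pow, map_one]
  linear_combination (-(C a * X + 1 : F[X])) * hz3 +
    (-(C a ^ 2 * X ^ 2 + C a * X + 1 : F[X])) * two_eq_zero_poly hF

theorem id4 (hF : Fintype.card F = 4) (b : F) (hb3 : b ^ 3 = 1) :
    X ^ 4 - C b = (C 1 + C (b ^ 2 * 1) * X + C b * X ^ 2 + X ^ 3) * (X + C b) := by
  have hy3 : (C b : F[X]) ^ 3 = 1 := by rw [← map_pow, hb3, map_one]
  simp only [map_pow, map_one, map_mul, mul_one]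
  linear_combination (-(X : F[X])) * hy3 +
    (-(C b * X ^ 3 + C b ^ 2 * X ^ 2 + X + C b : F[X])) * two_eq_zero_poly hF

theorem id6 (hF : Fintype.card F = 4) (a b : F) (hb3 : b ^ 3 = 1) (hq : a ^ 2 + a + 1 = 0) :
    X ^ 6 - C 1 = (C a + C (b ^ 2 * a) * X + C b * X ^ 2 + X ^ 3) *
      (X ^ 3 + C b * X ^ 2 + C (a ^ 2 * b ^ 2) * X + C (a ^ 2)) := by
  have hy3 : (C b : F[X]) ^ 3 = 1 := by rw [← map_pow, hb3, map_one]
  have hzq : (C a : F[X]) ^ 2 + C a + 1 = 0 := by
    have := congrArg (C : F → F[X]) hq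
    simpa using this
  simp only [map_pow, map_one, map_mul]
  linear_combination
    (-((C a ^ 2 + C a) * X ^ 3 + C b * C a ^ 3 * X ^ 2 : F[X])) * hy3
    + (-(C b ^ 2 * X ^ 4 + C b * C a * X ^ 2 + (C a - 1) : F[X])) * hzq
    + (-(C b * X ^ 5 + (C a ^ 2 + C a) * X ^ 3 + C a ^ 3 * C b ^ 2 * X + 1 : F[X])) *
      two_eq_zero_poly hF

/-- the monic case, from the coefficient relations. -/
theorem u3_monic (hF : Fintype.card F = 4) (ν : F[X]) (hν : ν.Monic) (hdeg : ν.natDegree ≤ 3)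
    (h0 : ν.coeff 0 ≠ 0)
    (hrel : ∀ i ≤ ν.natDegree, (ν.coeff (ν.natDegree - i)) ^ 2 = ν.coeff i * (ν.coeff 0) ^ 2) :
    ∃ k : ℕ, 0 < k ∧ k ≤ 10 ∧ ∃ c : F, c ≠ 0 ∧ ν ∣ X ^ k - C c := by
  have ha3 : (ν.coeff 0) ^ 3 = 1 := pow_three_eq_one hF h0
  obtain ⟨n, hn⟩ : ∃ n, ν.natDegree = n := ⟨_, rfl⟩
  have hlead : ν.coeff n = 1 := by rw [← hn]; exact hν.coeff_natDegree
  have hsum := ν.as_sum_range_C_mul_X_pow
  rw [hn] at hsum hrel hdeg
  interval_cases n
  · -- degree 0
    refine ⟨1, one_pos, by norm_num, 1, one_ne_zero, ?_⟩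
    have : ν = 1 := by
      rw [hsum]; simp [Finset.sum_range_succ, hlead]
    rw [this]; exact one_dvd _
  · -- degree 1
    refine ⟨1, one_pos, by norm_num, ν.coeff 0, h0, ?_⟩
    have hν_eq : ν = C (ν.coeff 0) + X := by
      conv_lhs => rw [hsum]
      simp [Finset.sum_range_succ, hlead]
    have key : C (ν.coeff 0) + X ∣ X ^ 1 - C (ν.coeff 0) := ⟨1, by rw [pow_one]; exact id1 hF _⟩
    rwa [← hν_eq] at key
  · -- degree 2
    have hν_eq : ν = C (ν.coeff 0) + C (ν.coeff 1) * X + X ^ 2 := by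
      conv_lhs => rw [hsum]
      simp [Finset.sum_range_succ, hlead]
    have h1 := hrel 1 (by norm_num)
    simp only [Nat.add_one_sub_one] at h1
    have hcase : ν.coeff 1 = 0 ∨ ν.coeff 1 = (ν.coeff 0) ^ 2 := by
      have : ν.coeff 1 * (ν.coeff 1 - (ν.coeff 0) ^ 2) = 0 := by linear_combination h1
      rcases mul_eq_zero.mp this with h | h
      · exact Or.inl h
      · exact Or.inr (sub_eq_zero.mp h)
    rcases hcase with h | h
    · refine ⟨2, by norm_num, by norm_num, ν.coeff 0, h0, ?_⟩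
      have key : C (ν.coeff 0) + C (ν.coeff 1) * X + X ^ 2 ∣ X ^ 2 - C (ν.coeff 0) := by
        rw [h, map_zero, zero_mul, add_zero]
        exact ⟨1, id2 hF _⟩
      rwa [← hν_eq] at key
    · refine ⟨3, by norm_num, by norm_num, 1, one_ne_zero, ?_⟩
      have key : C (ν.coeff 0) + C (ν.coeff 1) * X + X ^ 2 ∣ X ^ 3 - C 1 := by
        rw [h]
        exact ⟨_, id3' hF _ ha3⟩
      rwa [← hν_eq] at key
  · -- degree 3
    have hν_eq : ν = C (ν.coeff 0) + C (ν.coeff 1) * X + C (ν.coeff 2) * X ^ 2 + X ^ 3 := by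
      conv_lhs => rw [hsum]
      simp [Finset.sum_range_succ, hlead]
    have h1 := hrel 1 (by norm_num)
    simp only [show (3 : ℕ) - 1 = 2 by norm_num] at h1
    have ha1 : ν.coeff 1 = (ν.coeff 2) ^ 2 * ν.coeff 0 := by
      linear_combination (-(ν.coeff 0)) * h1 - (ν.coeff 1) * ha3
    by_cases hb : ν.coeff 2 = 0
    · refine ⟨3, by norm_num, by norm_num, ν.coeff 0, h0, ?_⟩
      have key : C (ν.coeff 0) + C (ν.coeff 1) * X + C (ν.coeff 2) * X ^ 2 + X ^ 3 ∣
          X ^ 3 - C (ν.coeff 0) := by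
        rw [ha1, hb]
        simp only [map_zero, zero_mul, add_zero, ne_eq, OfNat.ofNat_ne_zero, not_false_eq_true,
          zero_pow]
        exact ⟨1, id3 hF _⟩
      rwa [← hν_eq] at key
    · have hb3 : (ν.coeff 2) ^ 3 = 1 := pow_three_eq_one hF hb
      by_cases ha : ν.coeff 0 = 1
      · refine ⟨4, by norm_num, by norm_num, ν.coeff 2, hb, ?_⟩
        have key : C (ν.coeff 0) + C (ν.coeff 1) * X + C (ν.coeff 2) * X ^ 2 + X ^ 3 ∣
            X ^ 4 - C (ν.coeff 2) := by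
          rw [ha1, ha]
          exact ⟨_, id4 hF _ hb3⟩
        rwa [← hν_eq] at key
      · have hq := sq_add_add_one hF h0 ha
        refine ⟨6, by norm_num, by norm_num, 1, one_ne_zero, ?_⟩
        have key : C (ν.coeff 0) + C (ν.coeff 1) * X + C (ν.coeff 2) * X ^ 2 + X ^ 3 ∣
            X ^ 6 - C 1 := by
          rw [ha1]
          exact ⟨_, id6 hF _ _ hb3 hq⟩
        rwa [← hν_eq] at key

end field4


theorem u3_case {F : Type*} [Field F] [Fintype F] (hF : Fintype.card F = 4) (σ : F ≃+* F)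
    (hσ : σ ≠ 1) (μ : F[X]) (h0 : μ.coeff 0 ≠ 0) (hdeg : μ.natDegree ≤ 3)
    (hsr : μ ∣ (μ.map (σ : F →+* F)).reverse) :
    ∃ k : ℕ, 0 < k ∧ k ≤ 10 ∧ ∃ c : F, c ≠ 0 ∧ μ ∣ X ^ k - C c := by
  classical
  have hsq := sigma_eq_sq hF σ hσ
  have hμ0 : μ ≠ 0 := by
    rintro rfl
    simp at h0
  obtain ⟨n, hn⟩ : ∃ n, μ.natDegree = n := ⟨_, rfl⟩
  obtain ⟨l, hl⟩ : ∃ l, μ.leadingCoeff = l := ⟨_, rfl⟩
  have hl0 : l ≠ 0 := by rw [← hl]; exact leadingCoeff_ne_zero.mpr hμ0
  have hcn : μ.coeff n = l := by rw [← hn, ← hl]; rfl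
  have hdegmap : (μ.map (σ : F →+* F)).natDegree = n := by
    rw [natDegree_map_eq_of_injective σ.injective μ, hn]
  have hcoef : ∀ i ≤ n, ((μ.map (σ : F →+* F)).reverse).coeff i = (μ.coeff (n - i)) ^ 2 := by
    intro i hi
    rw [coeff_reverse, hdegmap, revAt_le hi, coeff_map]
    exact hsq _
  obtain ⟨Q, hQ⟩ := hsr
  have hrev0 : (μ.map (σ : F →+* F)).reverse ≠ 0 := by
    intro h
    have h1 := hcoef 0 (Nat.zero_le n)
    rw [h, coeff_zero, Nat.sub_zero, hcn] at h1
    exact hl0 (pow_eq_zero_iff (by norm_num) |>.mp h1.symm)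
  have hQ0 : Q ≠ 0 := by
    rintro rfl
    rw [mul_zero] at hQ
    exact hrev0 hQ
  have hQdeg : Q.natDegree = 0 := by
    have h1 := natDegree_mul hμ0 hQ0
    rw [← hQ] at h1
    have h2 : (μ.map (σ : F →+* F)).reverse.natDegree ≤ n :=
      (reverse_natDegree_le _).trans_eq hdegmap
    omega
  obtain ⟨u, hu⟩ : ∃ u, Q = C u := ⟨Q.coeff 0, eq_C_of_natDegree_eq_zero hQdeg⟩
  have hrel : ∀ i ≤ n, (μ.coeff (n - i)) ^ 2 = μ.coeff i * u := by
    intro i hi
    rw [← hcoef i hi, hQ, hu, coeff_mul_C]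
  have hνmonic : (C l⁻¹ * μ).Monic := by
    rw [Monic, leadingCoeff_mul, leadingCoeff_C, hl, inv_mul_cancel₀ hl0]
  have hνdeg : (C l⁻¹ * μ).natDegree = n := by
    rw [natDegree_C_mul (inv_ne_zero hl0), hn]
  have hνcoeff : ∀ i, (C l⁻¹ * μ).coeff i = l⁻¹ * μ.coeff i := fun i => coeff_C_mul _
  have hnn := hrel n le_rfl
  rw [Nat.sub_self, hcn] at hnn
  obtain ⟨k, hk0, hk10, c, hc, hdvd⟩ := u3_monic hF (C l⁻¹ * μ) hνmonic
    (by rw [hνdeg, ← hn]; exact hdeg)
    (by rw [hνcoeff]; exact mul_ne_zero (inv_ne_zero hl0) h0)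
    (by
      intro i hi
      rw [hνdeg] at hi ⊢
      rw [hνcoeff, hνcoeff, hνcoeff]
      have h1 := hrel i hi
      field_simp
      linear_combination (l) * h1 - (μ.coeff i) * hnn)
  refine ⟨k, hk0, hk10, c, hc, ?_⟩
  have hμν : μ = C l * (C l⁻¹ * μ) := by
    rw [← mul_assoc, ← C_mul, mul_inv_cancel₀ hl0, C_1, one_mul]
  rw [hμν]
  exact ((isUnit_C.mpr hl0.isUnit).mul_left_dvd).mpr hdvd

end Cfsg.Agent.Lib.AutMeoU3
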