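import Mathlib
import Cfsg.Agent.Lib.Lead.BG10p
import Cfsg.Agent.Lib.Lead.BG10k
import Cfsg.Agent.Lib.Helper4.BG10pC
import Cfsg.Agent.Lib.Helper4.NS2
import Cfsg.Agent.Lib.Helper4.NR6

set_option autoImplicit false

/-! Lemma (B1) for B&G Corollary 10.9: the configurations `NACfg` in a nonabelian Sylow subgroup of
rank two. -/

namespace Cfsg.Agent.Lib.Helper4.BG10pD

open Cfsg Cfsg.Agent.Lib.Lead Cfsg.Agent.Lib.Lead.BG10
open Cfsg.Agent.Lib.Helper4.Narrow Cfsg.Agent.Lib.Helper3.NormalSq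
open Cfsg.Agent.Lib.Helper4.BG76
open scoped commutatorElement

universe u

variable {G : Type u} [Group G] [Finite G]

/-- in a group of `p`-rank at most two, an elementary abelian `p`-subgroup of order at least `p ^ 2`
contains every element of order dividing `p` centralizing it -/
theorem mem_of_prankLE {p : ℕ} [Fact p.Prime] (hr : PRankLE p 2 G) {A : Subgroup G}
    (hAe : IsElementaryAbelian p A) (hA2 : p ^ 2 ≤ Nat.card A) {y : G}
    (hy : y ∈ Subgroup.centralizer (A : Set G)) (hyp : y ^ p = 1) : y ∈ A := by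
  have hyc : ∀ b ∈ A, b * y = y * b := fun b hb => Subgroup.mem_centralizer_iff.mp hy b hb
  have h1 : IsElementaryAbelian p (A ⊔ Subgroup.zpowers y) := by
    apply isElementaryAbelian_sup hAe (isElementaryAbelian_zpowers hyp)
    intro a ha b hb
    obtain ⟨i, rfl⟩ := Subgroup.mem_zpowers_iff.mp hb
    exact ((Commute.zpow_right (hyc a ha) i : Commute a (y ^ i))).eq
  have h2 := hr _ h1.1 h1.2
  have h4 : A = A ⊔ Subgroup.zpowers y :=
    Subgroup.eq_of_le_of_card_ge le_sup_left (h2.trans hA2)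
  rw [h4]
  exact (le_sup_right : Subgroup.zpowers y ≤ _) (Subgroup.mem_zpowers y)

theorem conj_mul_eq_of_comm {a b x : G} (h : b * x = x * b) :
    (a * b) * x * (a * b)⁻¹ = a * x * a⁻¹ := by
  have h1 : b * x * b⁻¹ = x := by rw [h, mul_inv_cancel_right]
  calc (a * b) * x * (a * b)⁻¹ = a * (b * x * b⁻¹) * a⁻¹ := by group
    _ = a * x * a⁻¹ := by rw [h1]

/-- (B1) the configurations in a nonabelian Sylow subgroup of rank two -/
theorem exists_cfg_of_rank_two (hG : IsMinSimpleOddOrder G) {p : ℕ} [hp : Fact p.Prime] (S : Sylow p G)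
    (hr : PRankLE p 2 ↥(S : Subgroup G)) (hSna : ¬ IsMulCommutative (S : Subgroup G)) :
    ∃ Z P₁ : Subgroup G, P₁ ≤ (S : Subgroup G) ∧ Nat.card P₁ = p ^ 3 ∧ ¬ IsMulCommutative P₁ ∧
      Z = P₁ ⊓ Subgroup.centralizer (P₁ : Set G) ∧
      (∀ P : Subgroup G, P ≤ (S : Subgroup G) → ¬ IsMulCommutative P → ∃ x u : G, NACfg p P Z x u) ∧
      (∀ b ∈ P₁, b ∉ Subgroup.centralizer (P₁ : Set G) → ∃ u : G, NACfg p (S : Subgroup G) Z b u) := by
  classical
  have hpp : p.Prime := hp.out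
  have hp1 := hpp.one_lt
  rcases corollary_10_7c hG p S hr with h | ⟨P₁, P₂, h1, h2, h3, h4, h5, h6, h7⟩
  · exact absurd h hSna
  have hSp : IsPGroup p ↥(S : Subgroup G) := S.isPGroup'
  have hrG : PRankLE p 2 G := Cfsg.Agent.Lib.Helper4.NS.prankLE_of_sylow S 2 hr
  set Z : Subgroup G := P₁ ⊓ Subgroup.centralizer (P₁ : Set G) with hZ
  have hP₁S : P₁ ≤ (S : Subgroup G) := h1 ▸ le_sup_left
  have hP₂S : P₂ ≤ (S : Subgroup G) := h1 ▸ le_sup_right
  have hdec : ∀ s ∈ (S : Subgroup G), ∃ a ∈ P₁, ∃ b ∈ P₂, s = a * b := fun s hs =>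
    Cfsg.Agent.Lib.Helper4.NR.exists_mul_of_mem_sup_of_comm h2 (h1 ▸ hs)
  have hP₂c : ∀ b ∈ P₂, ∀ b' ∈ P₂, b * b' = b' * b := by
    intro b hb b' hb'
    let _ := IsCyclic.commGroup (α := ↥P₂)
    have := mul_comm (⟨b, hb⟩ : ↥P₂) ⟨b', hb'⟩
    exact congrArg Subtype.val this
  have hP₂cen : ∀ b ∈ P₂, ∀ s ∈ (S : Subgroup G), s * b = b * s := by
    intro b hb s hs
    obtain ⟨a, ha, b', hb', rfl⟩ := hdec s hs
    rw [mul_assoc, hP₂c b' hb' b hb, ← mul_assoc, h2 a ha b hb, mul_assoc]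
  have hZP₂ : Z ≤ P₂ := by
    rw [← h7, Subgroup.closure_le]
    intro x hx
    exact hx.1
  have hZP₁ : Z ≤ P₁ := inf_le_left
  have hZS : Z ≤ (S : Subgroup G) := hZP₁.trans hP₁S
  have hZcen : ∀ z ∈ Z, ∀ s ∈ (S : Subgroup G), s * z = z * s := fun z hz =>
    hP₂cen z (hZP₂ hz)
  have hna' : ¬ ∀ a b : ↥P₁, a * b = b * a := fun h => h3 ⟨⟨h⟩⟩
  obtain ⟨hZc, hcomm, -⟩ := Cfsg.Agent.H9P3.nonab_center p h4 hna'
  have hZ1 : Nat.card Z = p := by
    rw [hZ, ← center_map_subtype, Subgroup.card_map_of_injective (Subgroup.subtype_injective _), hZc]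
  have hexp : ∀ a ∈ P₁, a ^ p = 1 := by
    intro a ha
    have := Monoid.pow_exponent_eq_one (⟨a, ha⟩ : ↥P₁)
    rw [h5] at this
    have h8 := congrArg Subtype.val this
    simpa using h8
  have hcommZ : ∀ u ∈ (S : Subgroup G), ∀ x ∈ (S : Subgroup G), u * x * u⁻¹ * x⁻¹ ∈ Z := by
    intro u hu x hx
    obtain ⟨a₁, ha₁, b₁, hb₁, rfl⟩ := hdec u hu
    obtain ⟨a₂, ha₂, b₂, hb₂, rfl⟩ := hdec x hx
    have e1 : a₁ * b₁ * (a₂ * b₂) * (a₁ * b₁)⁻¹ = a₁ * (a₂ * b₂) * a₁⁻¹ :=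
      conj_mul_eq_of_comm (hP₂cen b₁ hb₁ _ hx).symm
    have e2 : a₁ * (a₂ * b₂) * a₁⁻¹ * (a₂ * b₂)⁻¹ = a₁ * a₂ * a₁⁻¹ * a₂⁻¹ := by
      have h8 : b₂ * a₁⁻¹ = a₁⁻¹ * b₂ :=
        (hP₂cen b₂ hb₂ _ ((S : Subgroup G).inv_mem (hP₁S ha₁))).symm
      calc a₁ * (a₂ * b₂) * a₁⁻¹ * (a₂ * b₂)⁻¹ = a₁ * a₂ * (b₂ * a₁⁻¹) * b₂⁻¹ * a₂⁻¹ := by group
        _ = a₁ * a₂ * (a₁⁻¹ * b₂) * b₂⁻¹ * a₂⁻¹ := by rw [h8]
        _ = a₁ * a₂ * a₁⁻¹ * a₂⁻¹ := by group
    rw [e1, e2, hZ, ← center_map_subtype]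
    exact ⟨_, hcomm ⟨a₁, ha₁⟩ ⟨a₂, ha₂⟩, by simp [commutatorElement_def]⟩
  have hZeq : Z = ⁅(S : Subgroup G), (S : Subgroup G)⁆ := by
    apply le_antisymm
    · rw [hZ, ← commutator_eq_center_of_card_cube h4 h3]
      exact Subgroup.commutator_mono hP₁S hP₁S
    · rw [Subgroup.commutator_le]
      intro a ha b hb
      have := hcommZ a ha b hb
      rwa [← commutatorElement_def] at this
  have hNZ : Subgroup.normalizer ((S : Subgroup G) : Set G) ≤ Subgroup.normalizer (Z : Set G) := by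
    rw [hZeq, ← Subgroup.map_subtype_commutator]
    haveI : (commutator ↥(S : Subgroup G)).Characteristic := by
      rw [commutator_def]
      exact Subgroup.commutator_characteristic ⊤ ⊤
    exact le_normalizer_map_characteristic (S : Subgroup G) (commutator ↥(S : Subgroup G))
  have hZe : IsElementaryAbelian p Z := by
    refine ⟨⟨⟨?_⟩⟩, fun z hz => hexp z (hZP₁ hz)⟩
    rintro ⟨a, ha⟩ ⟨b, hb⟩
    apply Subtype.ext
    exact hZcen b hb a (hZS ha)
  -- the constructor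
  have hmk : ∀ P : Subgroup G, P ≤ (S : Subgroup G) → Z ≤ P → ∀ x ∈ P, x ∈ P₁ → ∀ u ∈ P,
      u * x ≠ x * u → NACfg p P Z x u := by
    intro P hPS hZP x hxP hxP₁ u huP hux
    have hxZ : x ∉ Z := fun h => hux (hZcen x h u (hPS huP))
    have hxp : x ^ p = 1 := hexp x hxP₁
    refine
      { hPp := hSp.to_le hPS
        hZP := hZP
        hZc := hZ1
        hZcen := ?_
        hN := ?_
        hxP := hxP
        hxp := hxp
        hxZ := hxZ
        huP := huP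
        hux := hcommZ u (hPS huP) x (hPS hxP)
        hux1 := ?_
        hmax := ?_ }
    · intro g hg
      rw [Subgroup.mem_centralizer_iff]
      intro z hz
      exact (hZcen z hz g (hPS hg)).symm
    · intro R hR hZR
      exact (corollary_10_7def hG p S).2.2 R Z hR (le_inf hZS hZR) hNZ
    · intro h
      apply hux
      have h8 : u * x * u⁻¹ = x := by
        have := congrArg (· * x) h
        simpa using this
      have h9 := congrArg (· * u) h8
      simpa using h9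
    · intro y hy hyp
      have hAe : IsElementaryAbelian p (Z ⊔ Subgroup.zpowers x) := by
        apply isElementaryAbelian_sup hZe (isElementaryAbelian_zpowers hxp)
        intro a ha b hb
        exact (hZcen a ha b ((Subgroup.zpowers_le.mpr (hPS hxP)) hb)).symm
      have hAS : Z ⊔ Subgroup.zpowers x ≤ (S : Subgroup G) :=
        sup_le hZS (Subgroup.zpowers_le.mpr (hPS hxP))
      have hA2 : p ^ 2 ≤ Nat.card ↥(Z ⊔ Subgroup.zpowers x) := by
        obtain ⟨k, hk⟩ := IsPGroup.iff_card.mp (hSp.to_le hAS)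
        rw [hk]
        apply Nat.pow_le_pow_right hpp.pos
        by_contra hcon
        have hk1 : k ≤ 1 := by omega
        have hle : Nat.card ↥(Z ⊔ Subgroup.zpowers x) ≤ Nat.card Z := by
          rw [hk, hZ1]
          calc p ^ k ≤ p ^ 1 := Nat.pow_le_pow_right hpp.pos hk1
            _ = p := pow_one p
        have h8 : Z = Z ⊔ Subgroup.zpowers x := Subgroup.eq_of_le_of_card_ge le_sup_left hle
        apply hxZ
        rw [h8]
        exact (le_sup_right : Subgroup.zpowers x ≤ _) (Subgroup.mem_zpowers x)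
      exact mem_of_prankLE hrG hAe hA2 hy hyp
  -- the main step for a pair of noncommuting elements
  have hstep : ∀ P : Subgroup G, P ≤ (S : Subgroup G) → Z ≤ P → ∀ g ∈ P, ∀ h ∈ P, g * h ≠ h * g →
      ∀ a₁ ∈ P₁, ∀ b₁ ∈ P₂, ∀ a₂ ∈ P₁, ∀ b₂ ∈ P₂, g = a₁ * b₁ → h = a₂ * b₂ →
      Subgroup.zpowers b₁ ≤ Subgroup.zpowers b₂ → ∃ x u : G, NACfg p P Z x u := by
    intro P hPS hZP g hg h hh hgh a₁ ha₁ b₁ hb₁ a₂ ha₂ b₂ hb₂ hg' hh' hle
    have hb₁' : b₁ ∈ Subgroup.zpowers b₂ := hle (Subgroup.mem_zpowers b₁)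
    obtain ⟨k, hk⟩ := (mem_powers_iff_mem_zpowers (x := b₂) (y := b₁)).mpr hb₁'
    have hk' : b₂ ^ k = b₁ := hk
    have hx : g * (h ^ k)⁻¹ = a₁ * (a₂ ^ k)⁻¹ := by
      have hcab : Commute a₂ b₂ := h2 a₂ ha₂ b₂ hb₂
      rw [hg', hh', hcab.mul_pow, mul_inv_rev, ← hk']
      group
    refine ⟨g * (h ^ k)⁻¹, h, hmk P hPS hZP _ (P.mul_mem hg (P.inv_mem (P.pow_mem hh k))) ?_ h hh ?_⟩
    · rw [hx]
      exact P₁.mul_mem ha₁ (P₁.inv_mem (P₁.pow_mem ha₂ k))
    · intro hc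
      apply hgh
      have hc1 : Commute h (g * (h ^ k)⁻¹) := hc
      have hc2 : Commute h (h ^ k) := (Commute.refl h).pow_right k
      have hc3 : Commute h (g * (h ^ k)⁻¹ * h ^ k) := hc1.mul_right hc2
      have hxg : g * (h ^ k)⁻¹ * h ^ k = g := by group
      rw [hxg] at hc3
      exact hc3.eq.symm
  refine ⟨Z, P₁, hP₁S, h4, h3, rfl, ?_, ?_⟩
  · intro P hPS hPna
    -- noncommuting elements
    obtain ⟨g, hg, h, hh, hgh⟩ : ∃ g ∈ P, ∃ h ∈ P, g * h ≠ h * g := by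
      by_contra hcon
      push Not at hcon
      apply hPna
      constructor
      constructor
      rintro ⟨a, ha⟩ ⟨b, hb⟩
      apply Subtype.ext
      exact hcon a ha b hb
    -- `Z ≤ P`
    have hZP : Z ≤ P := by
      set c := g * h * g⁻¹ * h⁻¹ with hc
      have hcZ : c ∈ Z := hcommZ g (hPS hg) h (hPS hh)
      have hcP : c ∈ P := P.mul_mem (P.mul_mem (P.mul_mem hg hh) (P.inv_mem hg)) (P.inv_mem hh)
      have hc1 : c ≠ 1 := by
        intro h0
        apply hgh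
        have h8 : g * h * g⁻¹ = h := by
          have := congrArg (· * h) h0
          simpa [hc] using this
        have h9 := congrArg (· * g) h8
        simpa using h9
      have hord : orderOf c = p := by
        have h8 : orderOf c ∣ p := orderOf_dvd_of_pow_eq_one (hexp c (hZP₁ hcZ))
        rcases (Nat.dvd_prime hpp).mp h8 with h9 | h9
        · exact absurd (orderOf_eq_one_iff.mp h9) hc1
        · exact h9
      have heq : Subgroup.zpowers c = Z := by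
        apply Subgroup.eq_of_le_of_card_ge (Subgroup.zpowers_le.mpr hcZ)
        rw [Nat.card_zpowers, hord, hZ1]
      rw [← heq]
      exact Subgroup.zpowers_le.mpr hcP
    obtain ⟨a₁, ha₁, b₁, hb₁, hg'⟩ := hdec g (hPS hg)
    obtain ⟨a₂, ha₂, b₂, hb₂, hh'⟩ := hdec h (hPS hh)
    have hc1 : IsPGroup p ↥(Subgroup.zpowers b₁) :=
      hSp.to_le (Subgroup.zpowers_le.mpr (hP₂S hb₁))
    have hc2 : IsPGroup p ↥(Subgroup.zpowers b₂) :=
      hSp.to_le (Subgroup.zpowers_le.mpr (hP₂S hb₂))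
    obtain ⟨i, hi⟩ := IsPGroup.iff_card.mp hc1
    obtain ⟨j, hj⟩ := IsPGroup.iff_card.mp hc2
    haveI := h6
    rcases Nat.le_total i j with hij | hij
    · have hle : Subgroup.zpowers b₁ ≤ Subgroup.zpowers b₂ :=
        le_of_card_dvd_of_le_cyclic P₂ (Subgroup.zpowers_le.mpr hb₁) (Subgroup.zpowers_le.mpr hb₂)
          (by rw [hi, hj]; exact pow_dvd_pow p hij)
      exact hstep P hPS hZP g hg h hh hgh a₁ ha₁ b₁ hb₁ a₂ ha₂ b₂ hb₂ hg' hh' hle
    · have hle : Subgroup.zpowers b₂ ≤ Subgroup.zpowers b₁ :=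
        le_of_card_dvd_of_le_cyclic P₂ (Subgroup.zpowers_le.mpr hb₂) (Subgroup.zpowers_le.mpr hb₁)
          (by rw [hi, hj]; exact pow_dvd_pow p hij)
      exact hstep P hPS hZP h hh g hg (Ne.symm hgh) a₂ ha₂ b₂ hb₂ a₁ ha₁ b₁ hb₁ hh' hg' hle
  · intro b hb hbc
    rw [Subgroup.mem_centralizer_iff] at hbc
    push Not at hbc
    obtain ⟨u, hu, hub⟩ := hbc
    exact ⟨u, hmk (S : Subgroup G) le_rfl hZS b (hP₁S hb) hb u (hP₁S hu) hub⟩

end Cfsg.Agent.Lib.Helper4.BG10pD
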