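import Mathlib
import Cfsg.Prelude.Def_Characters
import Cfsg.Agent.Lib.Helper1.CharCenter
import Cfsg.Agent.Lib.Helper1.CharFound6
import Cfsg.Agent.Lib.Helper1.LinearChar
import Cfsg.Agent.Lib.Helper4.Characters
import Cfsg.Agent.S0177

set_option autoImplicit false

/-!
# Brauer-Leonard, part a: generic facts

Dual group of a finite abelian group (orthogonality relations), central characters of irreducible
characters, twisting an irreducible character by a linear character.
-/

namespace Cfsg.Agent.Lib.Helper4.BL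

open Cfsg Cfsg.Agent.Lib.Helper1 Cfsg.Agent.Lib.Helper4
open scoped ComplexConjugate

section Dual

variable {A : Type*} [Group A] [Finite A]

theorem hom_norm (μ : A →* ℂˣ) (a : A) : ‖((μ a : ℂˣ) : ℂ)‖ = 1 := by
  have h : (μ a) ^ orderOf a = 1 := by rw [← map_pow, pow_orderOf_eq_one, map_one]
  have h' : ((μ a : ℂˣ) : ℂ) ^ orderOf a = 1 := by
    rw [← Units.val_pow_eq_pow_val, h, Units.val_one]
  exact Complex.norm_eq_one_of_pow_eq_one h' (orderOf_pos a).ne'

theorem hom_mul_conj (μ : A →* ℂˣ) (a : A) :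
    ((μ a : ℂˣ) : ℂ) * conj ((μ a : ℂˣ) : ℂ) = 1 := by
  rw [Complex.mul_conj, Complex.normSq_eq_norm_sq, hom_norm]
  simp

theorem hom_conj (μ : A →* ℂˣ) (a : A) :
    conj ((μ a : ℂˣ) : ℂ) = ((μ a⁻¹ : ℂˣ) : ℂ) := by
  have h1 := hom_mul_conj μ a
  have h2 : ((μ a : ℂˣ) : ℂ) * ((μ a⁻¹ : ℂˣ) : ℂ) = 1 := by
    rw [← Units.val_mul, ← map_mul, mul_inv_cancel, map_one, Units.val_one]
  have hne : ((μ a : ℂˣ) : ℂ) ≠ 0 := Units.ne_zero _
  exact mul_left_cancel₀ hne (h1.trans h2.symm)

open Classical in
theorem sum_hom_elts [Fintype A] (μ : A →* ℂˣ) :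
    ∑ a : A, ((μ a : ℂˣ) : ℂ) = if μ = 1 then (Nat.card A : ℂ) else 0 := by
  classical
  by_cases h1 : μ = 1
  · subst h1
    simp [Nat.card_eq_fintype_card]
  · rw [if_neg h1]
    have hne : (Units.coeHom ℂ).comp μ ≠ 1 := by
      intro h'
      apply h1
      ext a
      have := DFunLike.congr_fun h' a
      simpa using this
    have := sum_hom_units_eq_zero ((Units.coeHom ℂ).comp μ) hne
    simpa using this

/-- commutative group structure from a commutativity hypothesis -/
@[reducible] def commGroupOf (hcomm : ∀ a b : A, a * b = b * a) : CommGroup A :=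
  { (inferInstance : Group A) with mul_comm := hcomm }

theorem card_dual (hcomm : ∀ a b : A, a * b = b * a) : Nat.card (A →* ℂˣ) = Nat.card A := by
  letI := commGroupOf hcomm
  have : NeZero (Monoid.exponent A) := ⟨Monoid.exponent_ne_zero_of_finite⟩
  exact CommGroup.card_monoidHom_of_hasEnoughRootsOfUnity A ℂ

theorem exists_hom_ne_one (hcomm : ∀ a b : A, a * b = b * a) {a : A} (ha : a ≠ 1) :
    ∃ μ : A →* ℂˣ, μ a ≠ 1 := by
  letI := commGroupOf hcomm
  have : NeZero (Monoid.exponent A) := ⟨Monoid.exponent_ne_zero_of_finite⟩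
  exact CommGroup.exists_apply_ne_one_of_hasEnoughRootsOfUnity A ℂ ha

theorem finite_dual (hcomm : ∀ a b : A, a * b = b * a) : Finite (A →* ℂˣ) := by
  apply Nat.finite_of_card_ne_zero
  rw [card_dual hcomm]
  exact Nat.card_pos.ne'

open Classical in
theorem sum_dual (hcomm : ∀ a b : A, a * b = b * a) [Fintype (A →* ℂˣ)] (a : A) :
    ∑ μ : A →* ℂˣ, ((μ a : ℂˣ) : ℂ) = if a = 1 then (Nat.card A : ℂ) else 0 := by
  classical
  by_cases ha : a = 1
  · subst ha
    rw [if_pos rfl, ← card_dual hcomm, Nat.card_eq_fintype_card]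
    simp
  · rw [if_neg ha]
    obtain ⟨μ₀, hμ₀⟩ := exists_hom_ne_one hcomm ha
    have hne : (Units.coeHom ℂ).comp (MonoidHom.eval (N := ℂˣ) a) ≠ 1 := by
      intro h'
      apply hμ₀
      have := DFunLike.congr_fun h' μ₀
      simpa using this
    have := sum_hom_units_eq_zero ((Units.coeHom ℂ).comp (MonoidHom.eval (N := ℂˣ) a)) hne
    simpa using this

end Dual

section Central

variable {H : Type*} [Group H]

/-- an irreducible character is multiplicative against central elements, up to the degree -/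
theorem irr_central_mul {χ : H → ℂ} (hχ : IsIrrCharacter H χ) {z : H}
    (hz : z ∈ Subgroup.center H) (g : H) : χ (z * g) = χ z / χ 1 * χ g := by
  obtain ⟨n, ρ, hirr, rfl⟩ := hχ
  have := hirr
  have h1 := central_eq_char ρ hz
  rw [Representation.char_one]
  show LinearMap.trace ℂ _ (ρ (z * g)) = _
  rw [map_mul, h1, smul_mul_assoc, map_smul, smul_eq_mul]
  rfl

/-- twisting an irreducible character by a linear character gives an irreducible character -/
theorem isIrrCharacter_twist [Finite H] (φ : H →* ℂˣ) {σ : H → ℂ}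
    (hσ : IsIrrCharacter H σ) : IsIrrCharacter H (fun h => ((φ h : ℂˣ) : ℂ) * σ h) := by
  classical
  haveI : Fintype H := Fintype.ofFinite H
  have hchar : IsCharacter H (fun h => ((φ h : ℂˣ) : ℂ) * σ h) :=
    Cfsg.Agent.S0177.isCharacter_mul (isCharacter_of_irr (isIrrCharacter_of_hom φ))
      (isCharacter_of_irr hσ)
  apply isIrrCharacter_of_norm_one hchar
  rw [← classInner_irr_self hσ, classInner_def, classInner_def]
  congr 1
  refine Finset.sum_congr rfl fun h _ => ?_
  rw [map_mul, mul_mul_mul_comm, hom_mul_conj, one_mul]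

end Central

end Cfsg.Agent.Lib.Helper4.BL
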