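import Mathlib
import Cfsg.Agent.Lib.Helper4.BLa
import Cfsg.Agent.Lib.Helper8.ConjChar

set_option autoImplicit false

/-!
# Brauer-Leonard, part b: the abstract setting

`P ≤ C ≤ N` with `P` central in `C`, a retraction `π : C → P`, `N` normalizing `P` and `C`,
the TI property for the elements of `C` outside `ker π`, and fixed-point-freeness of `N ∖ C` on `P`.
Central characters `lam`, twists `tw`, and the action of `N` on the irreducible characters of `C`.
-/

namespace Cfsg.Agent.Lib.Helper4.BL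

open Cfsg Cfsg.Agent.Lib.Helper1 Cfsg.Agent.Lib.Helper4 Cfsg.Agent.Lib.Helper8
open scoped ComplexConjugate

universe u

/-- the abstract Brauer-Leonard configuration -/
structure Setup (G : Type u) [Group G] where
  P : Subgroup G
  C : Subgroup G
  N : Subgroup G
  π : C →* P
  hPC : P ≤ C
  hCN : C ≤ N
  hNC : N ≤ Subgroup.normalizer (C : Set G)
  hNP : N ≤ Subgroup.normalizer (P : Set G)
  central : ∀ x ∈ P, ∀ c ∈ C, x * c = c * x
  π_P : ∀ (x : G) (hx : x ∈ P), π ⟨x, hPC hx⟩ = ⟨x, hx⟩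
  kerN : ∀ n ∈ N, ∀ c c' : C, (c' : G) = n * c * n⁻¹ → π c = 1 → π c' = 1
  ti : ∀ c : C, π c ≠ 1 → ∀ g : G, g * c * g⁻¹ ∈ C → g ∈ N
  comm_surj : ∀ n ∈ N, n ∉ C → ∀ y ∈ P, ∃ x ∈ P, x⁻¹ * (n * x * n⁻¹) = y
  e_dvd : C.relIndex N ∣ Nat.card P - 1

namespace Setup

variable {G : Type u} [Group G] (S : Setup G)

/-- the index `|N : C|` -/
noncomputable def e : ℕ := S.C.relIndex S.N

/-- the order of `P` -/
noncomputable def q : ℕ := Nat.card S.P

/-- inclusion of `P` in `C` -/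
def ι : S.P →* S.C := Subgroup.inclusion S.hPC

theorem ι_coe (x : S.P) : ((S.ι x : S.C) : G) = x := rfl

theorem π_ι (x : S.P) : S.π (S.ι x) = x := by
  rcases x with ⟨x, hx⟩
  exact S.π_P x hx

theorem ι_mem_center (x : S.P) : S.ι x ∈ Subgroup.center S.C := by
  rw [Subgroup.mem_center_iff]
  intro c
  apply Subtype.ext
  exact (S.central x x.2 c c.2).symm

theorem P_comm (a b : S.P) : a * b = b * a := by
  apply Subtype.ext
  exact S.central a a.2 b (S.hPC b.2)

theorem card_N [Finite G] : Nat.card S.C * S.e = Nat.card S.N := by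
  have := Subgroup.relIndex_mul_relIndex (⊥ : Subgroup G) S.C S.N bot_le S.hCN
  rwa [Subgroup.relIndex_bot_left, Subgroup.relIndex_bot_left] at this

theorem e_pos [Finite G] : 0 < S.e := by
  have h := S.card_N
  have hN : 0 < Nat.card S.N := Nat.card_pos
  rcases Nat.eq_zero_or_pos S.e with h0 | h0
  · rw [h0, mul_zero] at h; omega
  · exact h0

theorem q_pos [Finite G] : 0 < S.q := Nat.card_pos

variable [Finite G]

/-- the central character of an irreducible character of `C`, restricted to `P`, with values in `ℂ` -/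
noncomputable def lam0 (σ : IrrCharacter S.C) : S.P →* ℂ where
  toFun x := (σ : S.C → ℂ) (S.ι x) / (σ : S.C → ℂ) 1
  map_one' := by
    rw [map_one]
    exact div_self (irr_apply_one_ne_zero σ.2)
  map_mul' x y := by
    rw [map_mul, irr_central_mul σ.2 (S.ι_mem_center x)]
    ring

/-- the central character of an irreducible character of `C`, restricted to `P` -/
noncomputable def lam (σ : IrrCharacter S.C) : S.P →* ℂˣ := (S.lam0 σ).toHomUnits

theorem lam_apply (σ : IrrCharacter S.C) (x : S.P) :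
    ((S.lam σ x : ℂˣ) : ℂ) = (σ : S.C → ℂ) (S.ι x) / (σ : S.C → ℂ) 1 := rfl

theorem lam_spec (σ : IrrCharacter S.C) (x : S.P) (c : S.C) :
    (σ : S.C → ℂ) (S.ι x * c) = ((S.lam σ x : ℂˣ) : ℂ) * (σ : S.C → ℂ) c := by
  rw [irr_central_mul σ.2 (S.ι_mem_center x), lam_apply]

theorem apply_ι (σ : IrrCharacter S.C) (x : S.P) :
    (σ : S.C → ℂ) (S.ι x) = ((S.lam σ x : ℂˣ) : ℂ) * (σ : S.C → ℂ) 1 := by
  have := S.lam_spec σ x 1
  rwa [mul_one] at this

/-- the twist of an irreducible character of `C` by a linear character of `P` (via `π`) -/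
noncomputable def tw (μ : S.P →* ℂˣ) (σ : IrrCharacter S.C) : IrrCharacter S.C :=
  ⟨fun c => ((μ (S.π c) : ℂˣ) : ℂ) * (σ : S.C → ℂ) c, isIrrCharacter_twist (μ.comp S.π) σ.2⟩

theorem tw_apply (μ : S.P →* ℂˣ) (σ : IrrCharacter S.C) (c : S.C) :
    (S.tw μ σ : S.C → ℂ) c = ((μ (S.π c) : ℂˣ) : ℂ) * (σ : S.C → ℂ) c := rfl

theorem tw_one (σ : IrrCharacter S.C) : S.tw 1 σ = σ := by
  apply Subtype.ext
  funext c
  simp [tw_apply]

theorem tw_mul (μ ν : S.P →* ℂˣ) (σ : IrrCharacter S.C) : S.tw μ (S.tw ν σ) = S.tw (μ * ν) σ := by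
  apply Subtype.ext
  funext c
  simp only [tw_apply, MonoidHom.mul_apply, Units.val_mul]
  ring

theorem tw_apply_one (μ : S.P →* ℂˣ) (σ : IrrCharacter S.C) :
    (S.tw μ σ : S.C → ℂ) 1 = (σ : S.C → ℂ) 1 := by
  simp [tw_apply]

theorem lam_tw (μ : S.P →* ℂˣ) (σ : IrrCharacter S.C) : S.lam (S.tw μ σ) = μ * S.lam σ := by
  ext x
  rw [lam_apply, tw_apply, tw_apply_one, π_ι, MonoidHom.mul_apply, Units.val_mul, lam_apply,
    mul_div_assoc]

theorem tw_injective (σ : IrrCharacter S.C) : Function.Injective (fun μ => S.tw μ σ) := by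
  intro μ ν h
  have := congrArg S.lam h
  simp only [lam_tw] at this
  exact mul_right_cancel this

theorem tw_of_ker (μ : S.P →* ℂˣ) (σ : IrrCharacter S.C) {c : S.C} (hc : S.π c = 1) :
    (S.tw μ σ : S.C → ℂ) c = (σ : S.C → ℂ) c := by
  rw [tw_apply, hc, map_one]
  simp

/-- two irreducible characters of `C` in the same family: they differ by a twist -/
def SameFam (σ τ : IrrCharacter S.C) : Prop := ∃ μ : S.P →* ℂˣ, τ = S.tw μ σ

theorem sameFam_refl (σ : IrrCharacter S.C) : S.SameFam σ σ := ⟨1, (S.tw_one σ).symm⟩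

theorem sameFam_symm {σ τ : IrrCharacter S.C} (h : S.SameFam σ τ) : S.SameFam τ σ := by
  obtain ⟨μ, rfl⟩ := h
  refine ⟨μ⁻¹, ?_⟩
  rw [tw_mul, show μ⁻¹ * μ = 1 from inv_mul_cancel μ, tw_one]

theorem sameFam_trans {σ τ ρ : IrrCharacter S.C} (h1 : S.SameFam σ τ) (h2 : S.SameFam τ ρ) :
    S.SameFam σ ρ := by
  obtain ⟨μ, rfl⟩ := h1
  obtain ⟨ν, rfl⟩ := h2
  exact ⟨ν * μ, S.tw_mul ν μ σ⟩

theorem sameFam_apply_one {σ τ : IrrCharacter S.C} (h : S.SameFam σ τ) :
    (τ : S.C → ℂ) 1 = (σ : S.C → ℂ) 1 := by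
  obtain ⟨μ, rfl⟩ := h
  exact S.tw_apply_one μ σ

theorem sameFam_of_ker {σ τ : IrrCharacter S.C} (h : S.SameFam σ τ) {c : S.C} (hc : S.π c = 1) :
    (τ : S.C → ℂ) c = (σ : S.C → ℂ) c := by
  obtain ⟨μ, rfl⟩ := h
  exact S.tw_of_ker μ σ hc

theorem sameFam_eq_of_lam {σ τ : IrrCharacter S.C} (h : S.SameFam σ τ)
    (hl : S.lam σ = S.lam τ) : σ = τ := by
  obtain ⟨μ, rfl⟩ := h
  rw [lam_tw] at hl
  have : μ = 1 := by
    have h1 : (1 : S.P →* ℂˣ) * S.lam σ = μ * S.lam σ := (one_mul _).trans hl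
    exact (mul_right_cancel h1).symm
  rw [this, tw_one]

/-- the member of the family of `σ` which is trivial on `P` -/
noncomputable def trivOf (σ : IrrCharacter S.C) : IrrCharacter S.C := S.tw (S.lam σ)⁻¹ σ

theorem lam_trivOf (σ : IrrCharacter S.C) : S.lam (S.trivOf σ) = 1 := by
  rw [trivOf, lam_tw]
  exact inv_mul_cancel (S.lam σ)

theorem sameFam_trivOf (σ : IrrCharacter S.C) : S.SameFam σ (S.trivOf σ) := ⟨_, rfl⟩

theorem sameFam_iff (σ τ : IrrCharacter S.C) : S.SameFam σ τ ↔ S.trivOf σ = S.trivOf τ := by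
  constructor
  · intro h
    apply S.sameFam_eq_of_lam
    · exact S.sameFam_trans (S.sameFam_symm (S.sameFam_trivOf σ))
        (S.sameFam_trans h (S.sameFam_trivOf τ))
    · rw [lam_trivOf, lam_trivOf]
  · intro h
    have h1 := S.sameFam_trivOf σ
    rw [h] at h1
    exact S.sameFam_trans h1 (S.sameFam_symm (S.sameFam_trivOf τ))

theorem trivOf_of_lam {σ : IrrCharacter S.C} (h : S.lam σ = 1) : S.trivOf σ = σ := by
  apply Subtype.ext
  funext c
  rw [trivOf, tw_apply, h]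
  simp

/-! ### the action of `N` -/

/-- the action of `N` on the irreducible characters of `C` by conjugation -/
noncomputable instance irrAction : MulAction S.N (IrrCharacter S.C) where
  smul n σ := conjIrr S.C n (S.hNC n.2) σ
  one_smul σ := conjIrr_one S.C σ
  mul_smul a b σ := conjIrr_mul S.C a b (S.hNC a.2) (S.hNC b.2) σ

theorem smul_def (n : S.N) (σ : IrrCharacter S.C) : n • σ = conjIrr S.C n (S.hNC n.2) σ := rfl

theorem smul_apply (n : S.N) (σ : IrrCharacter S.C) (c c' : S.C)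
    (h : (c' : G) = (n : G)⁻¹ * c * n) : ((n • σ : IrrCharacter S.C) : S.C → ℂ) c = (σ : S.C → ℂ) c' := by
  rw [smul_def, conjIrr_apply]
  apply congrArg
  apply Subtype.ext
  rw [conjAutOn_symm_apply_coe, h]

theorem smul_apply_one (n : S.N) (σ : IrrCharacter S.C) :
    ((n • σ : IrrCharacter S.C) : S.C → ℂ) 1 = (σ : S.C → ℂ) 1 := by
  rw [smul_def, conjIrr_apply_one]

/-- conjugation by `n⁻¹` on `P` -/
noncomputable def cjP (n : S.N) : S.P ≃* S.P := (conjAutOn S.P n (S.hNP n.2)).symm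

theorem cjP_coe (n : S.N) (x : S.P) : ((S.cjP n x : S.P) : G) = (n : G)⁻¹ * x * n := rfl

theorem lam_smul (n : S.N) (σ : IrrCharacter S.C) (x : S.P) :
    S.lam (n • σ) x = S.lam σ (S.cjP n x) := by
  apply Units.ext
  rw [lam_apply, lam_apply, smul_apply_one, S.smul_apply n σ (S.ι x) (S.ι (S.cjP n x)) rfl]

theorem smul_of_mem (n : S.N) (hn : (n : G) ∈ S.C) (σ : IrrCharacter S.C) : n • σ = σ := by
  rw [smul_def]
  exact conjIrr_of_mem S.C n hn σ

theorem lam_smul_eq_one_iff (n : S.N) (σ : IrrCharacter S.C) :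
    S.lam (n • σ) = 1 ↔ S.lam σ = 1 := by
  constructor
  · intro h
    ext x
    have := S.lam_smul n σ ((S.cjP n).symm x)
    rw [h, MulEquiv.apply_symm_apply] at this
    rw [← this]
    rfl
  · intro h
    ext x
    rw [lam_smul, h]
    rfl

theorem lam_smul_ne (n : S.N) (hn : (n : G) ∉ S.C) (σ : IrrCharacter S.C) (hσ : S.lam σ ≠ 1) :
    S.lam (n • σ) ≠ S.lam σ := by
  intro heq
  apply hσ
  ext y
  have hn' : (n : G)⁻¹ ∉ S.C := fun h => hn (by simpa using S.C.inv_mem h)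
  obtain ⟨x, hx, hxy⟩ := S.comm_surj (n : G)⁻¹ (S.N.inv_mem n.2) hn' y y.2
  rw [inv_inv] at hxy
  have h1 : y = (⟨x, hx⟩ : S.P)⁻¹ * S.cjP n ⟨x, hx⟩ := by
    apply Subtype.ext
    rw [← hxy]
    rfl
  have h2 := S.lam_smul n σ ⟨x, hx⟩
  rw [heq] at h2
  rw [h1, map_mul, map_inv, ← h2, inv_mul_cancel]
  rfl

theorem smul_eq_self_iff (n : S.N) (σ : IrrCharacter S.C) (hσ : S.lam σ ≠ 1) :
    n • σ = σ ↔ (n : G) ∈ S.C := by
  constructor
  · intro h
    by_contra hn
    exact S.lam_smul_ne n hn σ hσ (by rw [h])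
  · intro h
    exact S.smul_of_mem n h σ

theorem stabilizer_eq (σ : IrrCharacter S.C) (hσ : S.lam σ ≠ 1) :
    MulAction.stabilizer S.N σ = S.C.subgroupOf S.N := by
  ext n
  rw [MulAction.mem_stabilizer_iff, Subgroup.mem_subgroupOf]
  exact S.smul_eq_self_iff n σ hσ

theorem ncard_orbit (σ : IrrCharacter S.C) (hσ : S.lam σ ≠ 1) :
    (MulAction.orbit S.N σ).ncard = S.e := by
  rw [← MulAction.index_stabilizer, S.stabilizer_eq σ hσ]
  rfl

end Setup

end Cfsg.Agent.Lib.Helper4.BL
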