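import Mathlib
import Cfsg.Agent.Lib.Helper4.BLb
import Cfsg.Agent.Lib.Helper1.CharFound3
import Cfsg.Agent.Lib.Helper1.CharFound6
import Cfsg.Agent.S0148

set_option autoImplicit false

/-!
# Brauer-Leonard, part c: multiplicities of the restriction to `C`
-/

namespace Cfsg.Agent.Lib.Helper4.BL

open Cfsg Cfsg.Agent.Lib.Helper1 Cfsg.Agent.Lib.Helper4 Cfsg.Agent.Lib.Helper8
open scoped ComplexConjugate
open Classical

universe u

/-- the irreducible characters of a finite group form a finite type -/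
noncomputable instance (priority := low) irrFintype {H : Type*} [Group H] [Finite H] :
    Fintype (IrrCharacter H) := Fintype.ofFinite _

namespace Setup

variable {G : Type u} [Group G] [Fintype G] (S : Setup G)

/-- restriction of a function on `G` to `C` -/
def res (X : G → ℂ) : S.C → ℂ := fun c => X c

theorem res_apply (X : G → ℂ) (c : S.C) : S.res X c = X c := rfl

theorem isCharacter_res {X : G → ℂ} (hX : IsCharacter G X) : IsCharacter S.C (S.res X) :=
  Cfsg.Agent.S0148.isCharacter_restrict S.C hX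

theorem isClassFunction_res {X : G → ℂ} (hX : IsClassFunction G X) :
    IsClassFunction S.C (S.res X) := by
  intro g h
  show X ((h * g * h⁻¹ : S.C) : G) = X g
  have := hX (g : G) (h : G)
  simpa using this

/-- the degree of an irreducible character of `C` -/
noncomputable def deg (σ : IrrCharacter S.C) : ℕ := ⌊((σ : S.C → ℂ) 1).re⌋₊

theorem deg_spec (σ : IrrCharacter S.C) : (σ : S.C → ℂ) 1 = (S.deg σ : ℂ) := by
  obtain ⟨n, -, hn⟩ := irr_apply_one_pos σ.2
  rw [deg, hn]
  simp

theorem deg_pos (σ : IrrCharacter S.C) : 0 < S.deg σ := by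
  obtain ⟨n, hn0, hn⟩ := irr_apply_one_pos σ.2
  have : S.deg σ = n := by
    rw [deg, hn]
    simp
  omega

theorem deg_tw (μ : S.P →* ℂˣ) (σ : IrrCharacter S.C) : S.deg (S.tw μ σ) = S.deg σ := by
  rw [deg, deg, tw_apply_one]

theorem deg_smul (n : S.N) (σ : IrrCharacter S.C) : S.deg (n • σ) = S.deg σ := by
  rw [deg, deg, smul_apply_one]

theorem deg_sameFam {σ τ : IrrCharacter S.C} (h : S.SameFam σ τ) : S.deg τ = S.deg σ := by
  obtain ⟨μ, rfl⟩ := h
  exact S.deg_tw μ σ

/-- the multiplicity of an irreducible character of `C` in the restriction of a character of `G` -/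
noncomputable def mu (X : G → ℂ) (σ : IrrCharacter S.C) : ℕ :=
  ⌊(classInner (S.res X) (σ : S.C → ℂ)).re⌋₊

theorem mu_spec {X : G → ℂ} (hX : IsCharacter G X) (σ : IrrCharacter S.C) :
    classInner (S.res X) (σ : S.C → ℂ) = (S.mu X σ : ℂ) := by
  obtain ⟨m, hm⟩ := classInner_char_irr_nat (S.isCharacter_res hX) σ.2
  rw [mu, hm]
  simp

theorem mu_spec' {X : G → ℂ} (hX : IsCharacter G X) (σ : IrrCharacter S.C) :
    classInner (σ : S.C → ℂ) (S.res X) = (S.mu X σ : ℂ) := by
  rw [← classInner_conj_symm, S.mu_spec hX σ, Complex.conj_natCast]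

theorem mu_eq_of_inner {X : G → ℂ} {σ : IrrCharacter S.C} {m : ℕ}
    (h : classInner (S.res X) (σ : S.C → ℂ) = (m : ℂ)) : S.mu X σ = m := by
  rw [mu, h]
  simp

theorem res_expand {X : G → ℂ} (hX : IsCharacter G X) :
    S.res X = ∑ σ : IrrCharacter S.C, (S.mu X σ : ℂ) • (σ : S.C → ℂ) := by
  conv_lhs => rw [class_function_expansion (S.res X)
    (isClassFunction_of_isCharacter (S.isCharacter_res hX))]
  refine Finset.sum_congr rfl fun σ _ => ?_
  rw [S.mu_spec hX σ]

theorem res_apply_expand {X : G → ℂ} (hX : IsCharacter G X) (c : S.C) :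
    X c = ∑ σ : IrrCharacter S.C, (S.mu X σ : ℂ) * (σ : S.C → ℂ) c := by
  have := congrFun (S.res_expand hX) c
  rw [res_apply, Finset.sum_apply] at this
  rw [this]
  rfl

theorem classInner_res_smul {X : G → ℂ} (hX : IsClassFunction G X) (n : S.N)
    (σ : IrrCharacter S.C) :
    classInner (S.res X) ((n • σ : IrrCharacter S.C) : S.C → ℂ)
      = classInner (S.res X) (σ : S.C → ℂ) := by
  rw [classInner_def, classInner_def]
  congr 1
  rw [← Equiv.sum_comp (conjAutOn S.C n (S.hNC n.2)).toEquiv]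
  refine Finset.sum_congr rfl fun c _ => ?_
  have h1 : S.res X ((conjAutOn S.C n (S.hNC n.2)).toEquiv c) = S.res X c := by
    show X ((n : G) * c * (n : G)⁻¹) = X c
    exact hX c n
  have h2 : ((n • σ : IrrCharacter S.C) : S.C → ℂ) ((conjAutOn S.C n (S.hNC n.2)).toEquiv c)
      = (σ : S.C → ℂ) c := by
    apply S.smul_apply
    show (c : G) = (n : G)⁻¹ * ((n : G) * c * (n : G)⁻¹) * n
    group
  rw [h1, h2]

theorem mu_smul {X : G → ℂ} (hX : IsClassFunction G X) (n : S.N) (σ : IrrCharacter S.C) :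
    S.mu X (n • σ) = S.mu X σ := by
  rw [mu, mu, S.classInner_res_smul hX n σ]

theorem mu_add {X Y : G → ℂ} (hX : IsCharacter G X) (hY : IsCharacter G Y)
    (σ : IrrCharacter S.C) : S.mu (X + Y) σ = S.mu X σ + S.mu Y σ := by
  apply S.mu_eq_of_inner
  have : S.res (X + Y) = S.res X + S.res Y := rfl
  rw [this, classInner_add_left, S.mu_spec hX, S.mu_spec hY]
  push_cast
  rfl

/-- the value of a character of `G` on `P`, in terms of multiplicities -/
theorem apply_P {X : G → ℂ} (hX : IsCharacter G X) (x : S.P) :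
    X x = ∑ σ : IrrCharacter S.C, (S.mu X σ : ℂ) * (((S.lam σ x : ℂˣ) : ℂ) * (S.deg σ : ℂ)) := by
  have := S.res_apply_expand hX (S.ι x)
  rw [S.ι_coe] at this
  rw [this]
  refine Finset.sum_congr rfl fun σ _ => ?_
  rw [S.apply_ι, S.deg_spec]

theorem apply_one_eq {X : G → ℂ} (hX : IsCharacter G X) :
    X 1 = ∑ σ : IrrCharacter S.C, (S.mu X σ : ℂ) * (S.deg σ : ℂ) := by
  have := S.res_apply_expand hX 1
  rw [Subgroup.coe_one] at this
  rw [this]
  refine Finset.sum_congr rfl fun σ _ => ?_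
  rw [S.deg_spec]

/-- the multiplicity of the trivial character of `P` in the restriction of `X` -/
noncomputable def ptN (X : G → ℂ) : ℕ :=
  ∑ σ : IrrCharacter S.C, if S.lam σ = 1 then S.mu X σ * S.deg σ else 0

/-- the degree of the part of the restriction of `X` to `P` not containing the trivial character -/
noncomputable def DN (X : G → ℂ) : ℕ :=
  ∑ σ : IrrCharacter S.C, if S.lam σ = 1 then 0 else S.mu X σ * S.deg σ

theorem apply_one_nat {X : G → ℂ} (hX : IsCharacter G X) :
    X 1 = ((S.ptN X + S.DN X : ℕ) : ℂ) := by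
  rw [S.apply_one_eq hX, ptN, DN, ← Finset.sum_add_distrib]
  push_cast
  refine Finset.sum_congr rfl fun σ _ => ?_
  split_ifs <;> simp

theorem sum_P {X : G → ℂ} (hX : IsCharacter G X) :
    ∑ x : S.P, X x = (S.q : ℂ) * (S.ptN X : ℂ) := by
  simp_rw [S.apply_P hX]
  rw [Finset.sum_comm, ptN]
  push_cast
  rw [Finset.mul_sum]
  refine Finset.sum_congr rfl fun σ _ => ?_
  simp_rw [← mul_assoc]
  rw [← Finset.sum_mul, ← Finset.mul_sum, sum_hom_elts]
  split_ifs with h
  · rw [q]; ring
  · simp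

end Setup

end Cfsg.Agent.Lib.Helper4.BL
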