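import Mathlib
import Cfsg.Agent.Lib.Helper4.BLc
import Cfsg.Agent.Lib.Helper1.IndFun
import Cfsg.Agent.Lib.Helper4.Coh1
import Cfsg.Agent.S0146
import Cfsg.Agent.S0177

set_option autoImplicit false
set_option linter.unusedSectionVars false

/-!
# Brauer-Leonard, part d: induction from `C` for functions vanishing on `ker π`
-/

namespace Cfsg.Agent.Lib.Helper4.BL

open Cfsg Cfsg.Agent.Lib.Helper1 Cfsg.Agent.Lib.Helper4 Cfsg.Agent.Lib.Helper8
open scoped ComplexConjugate
open Classical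

universe u

namespace Setup

variable {G : Type u} [Group G] [Fintype G] (S : Setup G)

/-- conjugation by an element of `N`, on `C` -/
noncomputable def conjC (n : S.N) : S.C ≃* S.C := conjAutOn S.C n (S.hNC n.2)

theorem conjC_coe (n : S.N) (c : S.C) : ((S.conjC n c : S.C) : G) = (n : G) * c * (n : G)⁻¹ := rfl

theorem conjC_symm_coe (n : S.N) (c : S.C) :
    (((S.conjC n).symm c : S.C) : G) = (n : G)⁻¹ * c * (n : G) := rfl

theorem π_conjC_symm_eq_one_iff (n : S.N) (c : S.C) : S.π ((S.conjC n).symm c) = 1 ↔ S.π c = 1 := by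
  constructor
  · intro h
    refine S.kerN n n.2 ((S.conjC n).symm c) c ?_ h
    rw [conjC_symm_coe]
    group
  · intro h
    refine S.kerN (n : G)⁻¹ (S.N.inv_mem n.2) c ((S.conjC n).symm c) ?_ h
    rw [conjC_symm_coe, inv_inv]

theorem ext_conj_eq (α : S.C → ℂ) (hα : ∀ c, S.π c = 1 → α c = 0) (c : S.C) (x : G) :
    extendByZero S.C α (x⁻¹ * c * x)
      = extendByZero S.N (fun n : S.N => α ((S.conjC n).symm c)) x := by
  by_cases hx : x ∈ S.N
  · rw [extendByZero_of_mem S.N _ hx]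
    have hmem : x⁻¹ * c * x ∈ S.C := ((S.conjC ⟨x, hx⟩).symm c).2
    rw [extendByZero_of_mem S.C _ hmem]
    rfl
  · rw [extendByZero_of_notMem S.N _ hx]
    by_cases hmem : x⁻¹ * c * x ∈ S.C
    · rw [extendByZero_of_mem S.C _ hmem]
      by_cases hk : S.π ⟨_, hmem⟩ = 1
      · exact hα _ hk
      · exfalso
        apply hx
        apply S.ti ⟨_, hmem⟩ hk x
        have : x * (x⁻¹ * (c : G) * x) * x⁻¹ = c := by group
        show x * (x⁻¹ * (c : G) * x) * x⁻¹ ∈ S.C
        rw [this]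
        exact c.2
    · exact extendByZero_of_notMem S.C _ hmem

/-- the restriction to `C` of a function induced from a function on `C` vanishing on `ker π` -/
theorem indFun_res (α : S.C → ℂ) (hα : ∀ c, S.π c = 1 → α c = 0) (c : S.C) :
    indFun S.C α (c : G) = (Nat.card S.C : ℂ)⁻¹ * ∑ n : S.N, α ((S.conjC n).symm c) := by
  rw [indFun_apply]
  congr 1
  rw [← sum_extendByZero S.N (fun n : S.N => α ((S.conjC n).symm c))]
  exact Finset.sum_congr rfl fun x _ => S.ext_conj_eq α hα c x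

theorem indFun_apply_one (α : S.C → ℂ) (h : α 1 = 0) : indFun S.C α 1 = 0 := by
  rw [indFun_apply]
  have : ∀ x : G, extendByZero S.C α (x⁻¹ * 1 * x) = 0 := by
    intro x
    have h1 : x⁻¹ * 1 * x = ((1 : S.C) : G) := by simp
    rw [h1, extendByZero_coe, h]
  rw [Finset.sum_eq_zero (fun x _ => this x), mul_zero]

/-- the number of elements of `N` carrying `σ` to `τ` -/
theorem card_carry (σ τ : IrrCharacter S.C) (hσ : S.lam σ ≠ 1) :
    (Finset.univ.filter (fun n : S.N => τ = n • σ)).card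
      = if τ ∈ MulAction.orbit S.N σ then Nat.card S.C else 0 := by
  split_ifs with h
  · obtain ⟨n₀, rfl⟩ := MulAction.mem_orbit_iff.1 h
    let E : {n : S.N // n₀ • σ = n • σ} ≃ MulAction.stabilizer S.N σ :=
      { toFun := fun n => ⟨n₀⁻¹ * n.1, by
          rw [MulAction.mem_stabilizer_iff, mul_smul, ← n.2, inv_smul_smul]⟩
        invFun := fun s => ⟨n₀ * s.1, by
          rw [mul_smul, MulAction.mem_stabilizer_iff.1 s.2]⟩
        left_inv := fun n => by apply Subtype.ext; simp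
        right_inv := fun s => by apply Subtype.ext; simp }
    rw [← Fintype.card_subtype, ← Nat.card_eq_fintype_card, Nat.card_congr E,
      S.stabilizer_eq σ hσ, Nat.card_congr (Subgroup.subgroupOfEquivOfLe S.hCN).toEquiv]
  · rw [Finset.card_eq_zero, Finset.filter_eq_empty_iff]
    intro n _ hn
    exact h (MulAction.mem_orbit_iff.2 ⟨n, hn.symm⟩)

/-- the indicator of `N`-conjugacy -/
noncomputable def orb (σ τ : IrrCharacter S.C) : ℂ := if τ ∈ MulAction.orbit S.N σ then 1 else 0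

theorem sum_inner_smul (τ σ : IrrCharacter S.C) (hσ : S.lam σ ≠ 1) :
    (Nat.card S.C : ℂ)⁻¹ * ∑ n : S.N,
      classInner (τ : S.C → ℂ) ((n • σ : IrrCharacter S.C) : S.C → ℂ) = S.orb σ τ := by
  have h1 : ∀ n : S.N, classInner (τ : S.C → ℂ) ((n • σ : IrrCharacter S.C) : S.C → ℂ)
      = if τ = n • σ then 1 else 0 := by
    intro n
    rw [classInner_irr τ.2 (n • σ).2]
    by_cases h : τ = n • σ
    · rw [if_pos h, if_pos (congrArg Subtype.val h)]
    · rw [if_neg h, if_neg (fun h' => h (Subtype.ext h'))]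
  simp_rw [h1]
  rw [Finset.sum_boole, S.card_carry σ τ hσ, orb]
  split_ifs with h
  · have : (Nat.card S.C : ℂ) ≠ 0 := Nat.cast_ne_zero.2 Nat.card_pos.ne'
    rw [inv_mul_cancel₀ this]
  · simp

/-- the virtual character `Ind (σ - τ)` -/
noncomputable def Θ (σ τ : IrrCharacter S.C) : G → ℂ :=
  indFun S.C ((σ : S.C → ℂ) - (τ : S.C → ℂ))

theorem isGenChar_Θ (σ τ : IrrCharacter S.C) : IsGeneralizedCharacter G (S.Θ σ τ) :=
  Cfsg.Agent.S0177.isGenChar_indFun S.C
    ⟨σ, τ, isCharacter_of_irr σ.2, isCharacter_of_irr τ.2, rfl⟩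

theorem Θ_apply_one (σ τ : IrrCharacter S.C) (h : S.deg σ = S.deg τ) : S.Θ σ τ 1 = 0 := by
  apply S.indFun_apply_one
  rw [Pi.sub_apply, S.deg_spec, S.deg_spec, h, sub_self]

theorem inner_Θ_char (σ τ : IrrCharacter S.C) {X : G → ℂ} (hX : IsCharacter G X) :
    classInner (S.Θ σ τ) X = (S.mu X σ : ℂ) - (S.mu X τ : ℂ) := by
  rw [Θ, Cfsg.Agent.S0146.result S.C _ X (isClassFunction_of_isCharacter hX)]
  show classInner ((σ : S.C → ℂ) - (τ : S.C → ℂ)) (S.res X) = _
  rw [classInner_sub_left, S.mu_spec' hX, S.mu_spec' hX]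

theorem res_Θ (σ τ : IrrCharacter S.C) (h : S.SameFam σ τ) (c : S.C) :
    S.Θ σ τ c = (Nat.card S.C : ℂ)⁻¹ * ∑ n : S.N,
      (((n • σ : IrrCharacter S.C) : S.C → ℂ) c - ((n • τ : IrrCharacter S.C) : S.C → ℂ) c) := by
  rw [Θ, S.indFun_res _ ?_ c]
  · congr 1
  · intro c hc
    rw [Pi.sub_apply, S.sameFam_of_ker h hc, sub_self]

theorem inner_ind_Θ (α : S.C → ℂ) (σ τ : IrrCharacter S.C) (h : S.SameFam σ τ) :
    classInner (indFun S.C α) (S.Θ σ τ) = (Nat.card S.C : ℂ)⁻¹ * ∑ n : S.N,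
      (classInner α ((n • σ : IrrCharacter S.C) : S.C → ℂ)
        - classInner α ((n • τ : IrrCharacter S.C) : S.C → ℂ)) := by
  rw [Cfsg.Agent.S0146.result S.C α (S.Θ σ τ)
    (show IsClassFunction G (S.Θ σ τ) from indFun_isClassFunction _ _)]
  have hfun : (fun c : S.C => S.Θ σ τ c) = (Nat.card S.C : ℂ)⁻¹ •
      ∑ n : S.N, (((n • σ : IrrCharacter S.C) : S.C → ℂ) - ((n • τ : IrrCharacter S.C) : S.C → ℂ)) := by
    funext c
    rw [S.res_Θ σ τ h c, Pi.smul_apply, Finset.sum_apply, smul_eq_mul]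
    rfl
  rw [hfun, classInner_smul_right, classInner_sum_right, map_inv₀, Complex.conj_natCast]
  congr 1
  refine Finset.sum_congr rfl fun n _ => ?_
  rw [classInner_sub_right]

/-- the inner product of two of the virtual characters `Θ` -/
theorem inner_Θ_Θ (σ₁ τ₁ σ₂ τ₂ : IrrCharacter S.C) (h₂ : S.SameFam σ₂ τ₂)
    (hσ₂ : S.lam σ₂ ≠ 1) (hτ₂ : S.lam τ₂ ≠ 1) :
    classInner (S.Θ σ₁ τ₁) (S.Θ σ₂ τ₂)
      = S.orb σ₂ σ₁ - S.orb σ₂ τ₁ - (S.orb τ₂ σ₁ - S.orb τ₂ τ₁) := by
  rw [Θ, S.inner_ind_Θ _ σ₂ τ₂ h₂]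
  simp_rw [classInner_sub_left]
  rw [Finset.sum_sub_distrib, Finset.sum_sub_distrib, Finset.sum_sub_distrib, mul_sub, mul_sub,
    mul_sub, S.sum_inner_smul σ₁ σ₂ hσ₂, S.sum_inner_smul τ₁ σ₂ hσ₂, S.sum_inner_smul σ₁ τ₂ hτ₂,
    S.sum_inner_smul τ₁ τ₂ hτ₂]

/-- the basic inequality: the norm of a class function not vanishing at `1` strictly exceeds its
contribution from the conjugates of `C ∖ ker π` -/
theorem nc' {Z : G → ℂ} (hZ : IsClassFunction G Z) (hZ1 : Z 1 ≠ 0) :
    (∑ c : S.C, if S.π c = 1 then 0 else Complex.normSq (Z c))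
      < (S.e : ℝ) * (Nat.card S.C : ℝ) * (classInner Z Z).re := by
  set α : S.C → ℂ := fun c => if S.π c = 1 then 0 else Z c with hα
  set Φ : G → ℂ := indFun S.C α with hΦ
  set t : ℝ := (Nat.card S.C : ℝ)⁻¹ * ∑ c : S.C, if S.π c = 1 then 0 else Complex.normSq (Z c)
    with ht
  have hC0 : (Nat.card S.C : ℝ) ≠ 0 := Nat.cast_ne_zero.2 Nat.card_pos.ne'
  have he0 : (S.e : ℝ) ≠ 0 := Nat.cast_ne_zero.2 S.e_pos.ne'
  have hαdef : ∀ c, α c = if S.π c = 1 then 0 else Z c := fun c => rfl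
  have hαker : ∀ c, S.π c = 1 → α c = 0 := fun c hc => by rw [hαdef]; exact if_pos hc
  -- ⟨α, Z|C⟩ = t
  have h1 : classInner α (S.res Z) = (t : ℂ) := by
    rw [classInner_def, ht]
    push_cast
    congr 1
    refine Finset.sum_congr rfl fun c _ => ?_
    rw [hαdef, res_apply]
    by_cases hc : S.π c = 1
    · simp [hc]
    · simp only [hc, if_false]
      exact Complex.mul_conj (Z c)
  -- ⟨α, α⟩ = t
  have h2 : classInner α α = (t : ℂ) := by
    rw [classInner_def, ht]
    push_cast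
    congr 1
    refine Finset.sum_congr rfl fun c _ => ?_
    rw [hαdef]
    by_cases hc : S.π c = 1
    · simp [hc]
    · simp only [hc, if_false]
      exact Complex.mul_conj (Z c)
  -- Φ restricted to C is e • α
  have h3 : (fun c : S.C => Φ c) = (S.e : ℂ) • α := by
    funext c
    rw [hΦ, S.indFun_res α hαker c]
    have : ∀ n : S.N, α ((S.conjC n).symm c) = α c := by
      intro n
      rw [hαdef, hαdef]
      by_cases hc : S.π c = 1
      · rw [if_pos hc, if_pos ((S.π_conjC_symm_eq_one_iff n c).2 hc)]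
      · rw [if_neg hc, if_neg (fun h => hc ((S.π_conjC_symm_eq_one_iff n c).1 h))]
        rw [conjC_symm_coe]
        have := hZ (c : G) (n : G)⁻¹
        rw [inv_inv] at this
        exact this
    simp_rw [this]
    rw [Finset.sum_const, Finset.card_univ, ← Nat.card_eq_fintype_card, ← S.card_N, nsmul_eq_mul,
      Pi.smul_apply, smul_eq_mul]
    push_cast
    field_simp
  have hFR1 : classInner Φ Z = (t : ℂ) := by
    rw [hΦ, Cfsg.Agent.S0146.result S.C α Z hZ]
    exact h1
  have hFR2 : classInner Z Φ = (t : ℂ) := by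
    rw [← classInner_conj_symm, hFR1, Complex.conj_ofReal]
  have hFR3 : classInner Φ Φ = (S.e : ℂ) * (t : ℂ) := by
    rw [hΦ, Cfsg.Agent.S0146.result S.C α _ (indFun_isClassFunction _ _)]
    show classInner α (fun c : S.C => Φ c) = _
    rw [h3, classInner_smul_right, h2, Complex.conj_natCast]
  -- W = Z - e⁻¹ Φ is nonzero
  set W : G → ℂ := Z - (S.e : ℂ)⁻¹ • Φ with hW
  have hW1 : W 1 ≠ 0 := by
    rw [hW, Pi.sub_apply, Pi.smul_apply, hΦ, S.indFun_apply_one α (hαker 1 (map_one _))]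
    simpa using hZ1
  have hWne : classInner W W ≠ 0 := by
    intro h
    have := Coh.eq_zero_of_classInner_self h
    rw [this] at hW1
    exact hW1 rfl
  have hWW : classInner W W = classInner Z Z - ((S.e : ℝ)⁻¹ * t : ℝ) := by
    rw [hW, classInner_sub_left, classInner_sub_right, classInner_sub_right, classInner_smul_left,
      classInner_smul_left, classInner_smul_right, classInner_smul_right, hFR1, hFR2, hFR3,
      map_inv₀, Complex.conj_natCast]
    have he0' : (S.e : ℂ) ≠ 0 := Nat.cast_ne_zero.2 S.e_pos.ne'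
    push_cast
    field_simp
    ring
  obtain ⟨r, hr0, hr⟩ := Coh.classInner_self_nonneg W
  have hrpos : 0 < r := by
    rcases hr0.lt_or_eq with h | h
    · exact h
    · exfalso
      apply hWne
      rw [hr, ← h]
      simp
  have hre : (classInner Z Z).re - (S.e : ℝ)⁻¹ * t = r := by
    have := congrArg Complex.re hWW
    rw [hr, Complex.ofReal_re, Complex.sub_re, Complex.ofReal_re] at this
    exact this.symm
  have hlt : (S.e : ℝ)⁻¹ * t < (classInner Z Z).re := by linarith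
  have hepos : (0 : ℝ) < S.e := Nat.cast_pos.2 S.e_pos
  have hCpos : (0 : ℝ) < Nat.card S.C := Nat.cast_pos.2 Nat.card_pos
  have ht' : (∑ c : S.C, if S.π c = 1 then 0 else Complex.normSq (Z c))
      = (Nat.card S.C : ℝ) * t := by
    rw [ht]
    field_simp
  rw [ht']
  have : t < (S.e : ℝ) * (classInner Z Z).re := by
    have := mul_lt_mul_of_pos_left hlt hepos
    rwa [← mul_assoc, mul_inv_cancel₀ he0, one_mul] at this
  nlinarith
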