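import Mathlib
import Cfsg.Agent.Lib.Helper4.BLd

set_option autoImplicit false
set_option linter.unusedSectionVars false

/-!
# Brauer-Leonard, part e: the partial inner product over `ker π` and the basic inequality in
terms of multiplicities
-/

namespace Cfsg.Agent.Lib.Helper4.BL

open Cfsg Cfsg.Agent.Lib.Helper1 Cfsg.Agent.Lib.Helper4 Cfsg.Agent.Lib.Helper8
open scoped ComplexConjugate
open Classical

universe u

namespace Setup

variable {G : Type u} [Group G] [Fintype G] (S : Setup G)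

noncomputable instance dualFintype : Fintype (S.P →* ℂˣ) :=
  @Fintype.ofFinite _ (finite_dual S.P_comm)

theorem card_dual' : Fintype.card (S.P →* ℂˣ) = S.q := by
  rw [← Nat.card_eq_fintype_card, card_dual S.P_comm]
  rfl

/-- cut a function down to `ker π` -/
noncomputable def cut (f : S.C → ℂ) : S.C → ℂ := fun c => if S.π c = 1 then f c else 0

theorem cut_apply (f : S.C → ℂ) (c : S.C) : S.cut f c = if S.π c = 1 then f c else 0 := rfl

theorem cut_smul (z : ℂ) (f : S.C → ℂ) : S.cut (z • f) = z • S.cut f := by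
  funext c
  simp only [cut_apply, Pi.smul_apply, smul_eq_mul]
  split_ifs <;> simp

theorem cut_sum {ι : Type*} (s : Finset ι) (f : ι → S.C → ℂ) :
    S.cut (∑ i ∈ s, f i) = ∑ i ∈ s, S.cut (f i) := by
  funext c
  simp only [cut_apply, Finset.sum_apply]
  split_ifs <;> simp

theorem classInner_irr' (σ τ : IrrCharacter S.C) :
    classInner (σ : S.C → ℂ) (τ : S.C → ℂ) = if σ = τ then 1 else 0 := by
  rw [classInner_irr σ.2 τ.2]
  by_cases h : σ = τ
  · rw [if_pos h, if_pos (congrArg Subtype.val h)]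
  · rw [if_neg h, if_neg (fun h' => h (Subtype.ext h'))]

/-- the partial inner product over `ker π` of two irreducible characters of `C` -/
theorem innerK_irr (σ τ : IrrCharacter S.C) :
    classInner (S.cut (σ : S.C → ℂ)) (τ : S.C → ℂ)
      = (S.q : ℂ)⁻¹ * (if S.SameFam τ σ then 1 else 0) := by
  have hq : (S.q : ℂ) ≠ 0 := Nat.cast_ne_zero.2 S.q_pos.ne'
  have hA : ∑ μ : S.P →* ℂˣ, classInner (σ : S.C → ℂ) (S.tw μ τ : S.C → ℂ)
      = (S.q : ℂ) * classInner (S.cut (σ : S.C → ℂ)) (τ : S.C → ℂ) := by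
    simp_rw [classInner_def]
    rw [← Finset.mul_sum, Finset.sum_comm, mul_left_comm]
    congr 1
    rw [Finset.mul_sum]
    refine Finset.sum_congr rfl fun c _ => ?_
    simp_rw [tw_apply, map_mul]
    have h1 : ∑ μ : S.P →* ℂˣ, (σ : S.C → ℂ) c *
          (conj (((μ (S.π c) : ℂˣ) : ℂ)) * conj ((τ : S.C → ℂ) c))
        = conj (∑ μ : S.P →* ℂˣ, ((μ (S.π c) : ℂˣ) : ℂ)) *
          ((σ : S.C → ℂ) c * conj ((τ : S.C → ℂ) c)) := by
      rw [map_sum, Finset.sum_mul]
      refine Finset.sum_congr rfl fun μ _ => ?_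
      ring
    rw [h1, sum_dual S.P_comm (S.π c), cut_apply]
    by_cases hc : S.π c = 1
    · rw [if_pos hc, if_pos hc, Complex.conj_natCast]
      rfl
    · rw [if_neg hc, if_neg hc]
      simp
  have hB : ∑ μ : S.P →* ℂˣ, classInner (σ : S.C → ℂ) (S.tw μ τ : S.C → ℂ)
      = if S.SameFam τ σ then 1 else 0 := by
    simp_rw [classInner_irr']
    split_ifs with h
    · obtain ⟨μ₀, hμ₀⟩ := h
      rw [Finset.sum_eq_single μ₀]
      · rw [if_pos hμ₀]
      · intro μ _ hne
        rw [if_neg]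
        intro h'
        exact hne (S.tw_injective τ (h'.symm.trans hμ₀))
      · intro h'
        exact absurd (Finset.mem_univ _) h'
    · apply Finset.sum_eq_zero
      intro μ _
      rw [if_neg]
      intro h'
      exact h ⟨μ, h'⟩
  rw [← hB, hA]
  field_simp

/-- Parseval on `C` for the restriction of a character -/
theorem norm_res {X : G → ℂ} (hX : IsCharacter G X) :
    classInner (S.res X) (S.res X) = ∑ σ : IrrCharacter S.C, (S.mu X σ : ℂ) * (S.mu X σ : ℂ) := by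
  rw [classInner_eq_sum_mult (S.res X) (S.res X)
    (isClassFunction_of_isCharacter (S.isCharacter_res hX))]
  refine Finset.sum_congr rfl fun σ _ => ?_
  rw [S.mu_spec hX, S.mu_spec' hX]

theorem innerK_res {X : G → ℂ} (hX : IsCharacter G X) :
    classInner (S.cut (S.res X)) (S.res X) = (S.q : ℂ)⁻¹ * ∑ σ : IrrCharacter S.C,
      ∑ τ : IrrCharacter S.C, if S.SameFam τ σ then (S.mu X σ : ℂ) * (S.mu X τ : ℂ) else 0 := by
  conv_lhs => rw [S.res_expand hX]
  rw [cut_sum, classInner_sum_left, Finset.mul_sum]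
  refine Finset.sum_congr rfl fun σ _ => ?_
  rw [cut_smul, classInner_smul_left, classInner_sum_right, Finset.mul_sum, Finset.mul_sum]
  refine Finset.sum_congr rfl fun τ _ => ?_
  rw [classInner_smul_right, S.innerK_irr σ τ, Complex.conj_natCast]
  split_ifs <;> ring

theorem sum_normSq_res {X : G → ℂ} (hX : IsCharacter G X) :
    ((∑ c : S.C, Complex.normSq (X c) : ℝ) : ℂ)
      = (Nat.card S.C : ℂ) * ∑ σ : IrrCharacter S.C, (S.mu X σ : ℂ) * (S.mu X σ : ℂ) := by
  rw [← S.norm_res hX, classInner_def]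
  have hC : (Nat.card S.C : ℂ) ≠ 0 := Nat.cast_ne_zero.2 Nat.card_pos.ne'
  rw [← mul_assoc, mul_inv_cancel₀ hC, one_mul]
  push_cast
  refine Finset.sum_congr rfl fun c _ => ?_
  rw [res_apply]
  exact (Complex.mul_conj (X c)).symm

theorem sum_normSq_cut {X : G → ℂ} (hX : IsCharacter G X) :
    ((∑ c : S.C, (if S.π c = 1 then Complex.normSq (X c) else 0) : ℝ) : ℂ)
      = (Nat.card S.C : ℂ) * ((S.q : ℂ)⁻¹ * ∑ σ : IrrCharacter S.C,
      ∑ τ : IrrCharacter S.C, if S.SameFam τ σ then (S.mu X σ : ℂ) * (S.mu X τ : ℂ) else 0) := by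
  rw [← S.innerK_res hX, classInner_def]
  have hC : (Nat.card S.C : ℂ) ≠ 0 := Nat.cast_ne_zero.2 Nat.card_pos.ne'
  rw [← mul_assoc, mul_inv_cancel₀ hC, one_mul]
  push_cast
  refine Finset.sum_congr rfl fun c _ => ?_
  rw [cut_apply, res_apply]
  split_ifs
  · exact (Complex.mul_conj (X c)).symm
  · simp

/-- the basic inequality in terms of multiplicities -/
theorem nc_mult {X : G → ℂ} (hX : IsCharacter G X) (hX1 : X 1 ≠ 0) {k : ℝ}
    (hk : classInner X X = (k : ℂ)) :
    (S.q : ℝ) * ∑ σ : IrrCharacter S.C, (S.mu X σ : ℝ) * (S.mu X σ : ℝ)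
      < (S.q : ℝ) * (S.e : ℝ) * k + ∑ σ : IrrCharacter S.C, ∑ τ : IrrCharacter S.C,
        if S.SameFam τ σ then (S.mu X σ : ℝ) * (S.mu X τ : ℝ) else 0 := by
  have h0 := S.nc' (isClassFunction_of_isCharacter hX) hX1
  rw [hk, Complex.ofReal_re] at h0
  have hsplit : (∑ c : S.C, if S.π c = 1 then 0 else Complex.normSq (X c))
      = (∑ c : S.C, Complex.normSq (X c))
        - ∑ c : S.C, (if S.π c = 1 then Complex.normSq (X c) else 0) := by
    rw [← Finset.sum_sub_distrib]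
    refine Finset.sum_congr rfl fun c _ => ?_
    split_ifs <;> simp
  have hC : (0 : ℝ) < Nat.card S.C := Nat.cast_pos.2 Nat.card_pos
  have hq : (0 : ℝ) < S.q := Nat.cast_pos.2 S.q_pos
  have h1 : (∑ c : S.C, Complex.normSq (X c) : ℝ)
      = (Nat.card S.C : ℝ) * ∑ σ : IrrCharacter S.C, (S.mu X σ : ℝ) * (S.mu X σ : ℝ) := by
    have := S.sum_normSq_res hX
    exact_mod_cast this
  have h2 : (∑ c : S.C, (if S.π c = 1 then Complex.normSq (X c) else 0) : ℝ)
      = (Nat.card S.C : ℝ) * ((S.q : ℝ)⁻¹ * ∑ σ : IrrCharacter S.C,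
      ∑ τ : IrrCharacter S.C, if S.SameFam τ σ then (S.mu X σ : ℝ) * (S.mu X τ : ℝ) else 0) := by
    apply Complex.ofReal_injective
    rw [S.sum_normSq_cut hX]
    push_cast
    congr 2
    refine Finset.sum_congr rfl fun σ _ => Finset.sum_congr rfl fun τ _ => ?_
    split_ifs <;> simp
  rw [hsplit, h1, h2] at h0
  set A : ℝ := ∑ σ : IrrCharacter S.C, (S.mu X σ : ℝ) * (S.mu X σ : ℝ)
  set B : ℝ := ∑ σ : IrrCharacter S.C, ∑ τ : IrrCharacter S.C,
    if S.SameFam τ σ then (S.mu X σ : ℝ) * (S.mu X τ : ℝ) else 0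
  have h4 : (Nat.card S.C : ℝ) * (A - (S.q : ℝ)⁻¹ * B) < (Nat.card S.C : ℝ) * ((S.e : ℝ) * k) := by
    nlinarith
  have h5 : A - (S.q : ℝ)⁻¹ * B < (S.e : ℝ) * k := lt_of_mul_lt_mul_left h4 hC.le
  have h6 : (S.q : ℝ) * (A - (S.q : ℝ)⁻¹ * B) < (S.q : ℝ) * ((S.e : ℝ) * k) :=
    mul_lt_mul_of_pos_left h5 hq
  have h7 : (S.q : ℝ) * ((S.q : ℝ)⁻¹ * B) = B := by
    rw [← mul_assoc, mul_inv_cancel₀ hq.ne', one_mul]
  nlinarith
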