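import Mathlib
import Cfsg.Agent.Lib.Helper4.BLe
import Cfsg.Agent.Lib.Helper4.VirtualChar

set_option autoImplicit false
set_option linter.unusedSectionVars false

/-!
# Brauer-Leonard, part f: the structure of the restriction to `C` of an irreducible character of
small `P`-nontrivial degree
-/

namespace Cfsg.Agent.Lib.Helper4.BL

open Cfsg Cfsg.Agent.Lib.Helper1 Cfsg.Agent.Lib.Helper4 Cfsg.Agent.Lib.Helper8
open scoped ComplexConjugate
open Classical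

universe u

section GenChar

variable {G : Type u} [Group G] [Fintype G]

/-- the square of a coefficient of a generalized character is at most its norm -/
theorem genChar_coeff_sq_le {Θ X : G → ℂ} (hΘ : IsGeneralizedCharacter G Θ)
    (hX : IsIrrCharacter G X) {a k : ℤ} (ha : classInner Θ X = (a : ℂ))
    (hk : classInner Θ Θ = (k : ℂ)) : a * a ≤ k := by
  have hm : ∀ χ : IrrCharacter G, ∃ m : ℤ, classInner Θ (χ : G → ℂ) = m :=
    fun χ => classInner_genChar_int hΘ (isGenChar_of_irr χ.2)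
  choose m hm using hm
  have hn := genChar_norm hΘ m hm
  rw [hk] at hn
  have hsum : k = ∑ χ : IrrCharacter G, m χ * m χ := by exact_mod_cast hn
  have hmX : m ⟨X, hX⟩ = a := by
    have := hm ⟨X, hX⟩
    rw [ha] at this
    exact_mod_cast this.symm
  rw [hsum, ← hmX]
  exact Finset.single_le_sum (f := fun χ => m χ * m χ) (fun χ _ => mul_self_nonneg (m χ))
    (Finset.mem_univ (⟨X, hX⟩ : IrrCharacter G))

/-- a generalized character of norm two vanishing at `1` and containing `X` once is `X - Y` -/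
theorem genChar_two_sub {Θ X : G → ℂ} (hΘ : IsGeneralizedCharacter G Θ) (h1 : Θ 1 = 0)
    (h2 : classInner Θ Θ = 2) (hX : IsIrrCharacter G X) (hΘX : classInner Θ X = 1) :
    ∃ Y : G → ℂ, IsIrrCharacter G Y ∧ Y ≠ X ∧ Θ = X - Y := by
  obtain ⟨ψ₁, ψ₂, hψ₁, hψ₂, hne, a₁, a₂, ha₁, ha₂, hΘe⟩ := genChar_norm_two hΘ h2
  obtain ⟨n₁, hn₁, hd₁⟩ := irr_apply_one_pos hψ₁
  obtain ⟨n₂, hn₂, hd₂⟩ := irr_apply_one_pos hψ₂
  have hval : a₁ * (n₁ : ℂ) + a₂ * (n₂ : ℂ) = 0 := by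
    have := congrFun hΘe 1
    rw [h1, Pi.add_apply, Pi.smul_apply, Pi.smul_apply, hd₁, hd₂, smul_eq_mul, smul_eq_mul] at this
    exact this.symm
  have hn₁' : (0 : ℝ) < n₁ := Nat.cast_pos.2 hn₁
  have hn₂' : (0 : ℝ) < n₂ := Nat.cast_pos.2 hn₂
  have hsign : ¬ (a₁ = 1 ∧ a₂ = 1) := by
    rintro ⟨rfl, rfl⟩
    have : ((n₁ + n₂ : ℕ) : ℂ) = 0 := by push_cast; simpa using hval
    have : n₁ + n₂ = 0 := by exact_mod_cast this
    omega
  have hinner : classInner Θ X = a₁ * classInner ψ₁ X + a₂ * classInner ψ₂ X := by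
    rw [hΘe, classInner_add_left, classInner_smul_left, classInner_smul_left]
  rw [hΘX, classInner_irr hψ₁ hX, classInner_irr hψ₂ hX] at hinner
  by_cases e1 : ψ₁ = X
  · have e2 : ψ₂ ≠ X := fun h => hne (e1.trans h.symm)
    rw [if_pos e1, if_neg e2] at hinner
    have ha1 : a₁ = 1 := by simpa using hinner.symm
    have ha2 : a₂ = -1 := by
      rcases ha₂ with h | h
      · exact absurd ⟨ha1, h⟩ hsign
      · exact h
    refine ⟨ψ₂, hψ₂, e2, ?_⟩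
    rw [hΘe, ha1, ha2, e1]
    funext g
    simp [sub_eq_add_neg]
  · by_cases e2 : ψ₂ = X
    · rw [if_neg e1, if_pos e2] at hinner
      have ha2 : a₂ = 1 := by simpa using hinner.symm
      have ha1 : a₁ = -1 := by
        rcases ha₁ with h | h
        · exact absurd ⟨h, ha2⟩ hsign
        · exact h
      refine ⟨ψ₁, hψ₁, e1, ?_⟩
      rw [hΘe, ha1, ha2, e2]
      funext g
      simp [sub_eq_add_neg, add_comm]
    · rw [if_neg e1, if_neg e2] at hinner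
      simp at hinner

end GenChar

namespace Setup

variable {G : Type u} [Group G] [Fintype G] (S : Setup G)

theorem orb_self (σ : IrrCharacter S.C) : S.orb σ σ = 1 := by
  rw [orb, if_pos (MulAction.mem_orbit_self σ)]

theorem orb_of_not {σ τ : IrrCharacter S.C} (h : τ ∉ MulAction.orbit S.N σ) : S.orb σ τ = 0 := by
  rw [orb, if_neg h]

theorem orb_of_not' {σ τ : IrrCharacter S.C} (h : τ ∉ MulAction.orbit S.N σ) : S.orb τ σ = 0 := by
  rw [orb, if_neg (fun h' => h (MulAction.mem_orbit_symm.1 h'))]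

theorem mu_eq_of_mem_orbit {X : G → ℂ} (hX : IsClassFunction G X) {σ τ : IrrCharacter S.C}
    (h : τ ∈ MulAction.orbit S.N σ) : S.mu X τ = S.mu X σ := by
  obtain ⟨n, rfl⟩ := MulAction.mem_orbit_iff.1 h
  exact S.mu_smul hX n σ

theorem lam_ne_of_mem_orbit {σ τ : IrrCharacter S.C} (h : τ ∈ MulAction.orbit S.N σ)
    (hσ : S.lam σ ≠ 1) : S.lam τ ≠ 1 := by
  obtain ⟨n, rfl⟩ := MulAction.mem_orbit_iff.1 h
  intro h'
  exact hσ ((S.lam_smul_eq_one_iff n σ).1 h')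

theorem deg_of_mem_orbit {σ τ : IrrCharacter S.C} (h : τ ∈ MulAction.orbit S.N σ) :
    S.deg τ = S.deg σ := by
  obtain ⟨n, rfl⟩ := MulAction.mem_orbit_iff.1 h
  exact S.deg_smul n σ

theorem norm_Θ {σ τ : IrrCharacter S.C} (h : S.SameFam σ τ) (hσ : S.lam σ ≠ 1)
    (hτ : S.lam τ ≠ 1) (hne : τ ∉ MulAction.orbit S.N σ) :
    classInner (S.Θ σ τ) (S.Θ σ τ) = 2 := by
  rw [S.inner_Θ_Θ σ τ σ τ h hσ hτ, orb_self, orb_self, S.orb_of_not hne, S.orb_of_not' hne]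
  norm_num

/-- Lemma A: multiplicities within a family differ by at most one -/
theorem lemmaA {X : G → ℂ} (hX : IsIrrCharacter G X) {σ τ : IrrCharacter S.C}
    (h : S.SameFam σ τ) (hσ : S.lam σ ≠ 1) (hτ : S.lam τ ≠ 1) : S.mu X σ ≤ S.mu X τ + 1 := by
  have hXc := isCharacter_of_irr hX
  by_cases hne : τ ∈ MulAction.orbit S.N σ
  · rw [S.mu_eq_of_mem_orbit (isClassFunction_of_isCharacter hXc) hne]
    omega
  · have h1 := S.norm_Θ h hσ hτ hne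
    have h2 := S.inner_Θ_char σ τ hXc
    have h3 := genChar_coeff_sq_le (S.isGenChar_Θ σ τ) hX
      (a := (S.mu X σ : ℤ) - (S.mu X τ : ℤ)) (k := 2) (by rw [h2]; push_cast; rfl)
      (by rw [h1]; norm_num)
    nlinarith

/-- the key lemma -/
theorem keyLemma {X : G → ℂ} (hX : IsIrrCharacter G X) {σ₁ τ₁ σ₂ τ₂ : IrrCharacter S.C}
    (h₁ : S.SameFam σ₁ τ₁) (h₂ : S.SameFam σ₂ τ₂) (hσ₁ : S.lam σ₁ ≠ 1) (hτ₁ : S.lam τ₁ ≠ 1)
    (hσ₂ : S.lam σ₂ ≠ 1) (hτ₂ : S.lam τ₂ ≠ 1) {m : ℕ} (mσ₁ : S.mu X σ₁ = m + 1)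
    (mσ₂ : S.mu X σ₂ = m + 1) (mτ₁ : S.mu X τ₁ = m) (mτ₂ : S.mu X τ₂ = m) :
    σ₂ ∈ MulAction.orbit S.N σ₁ ∨ τ₂ ∈ MulAction.orbit S.N τ₁ := by
  by_contra hcon
  rw [not_or] at hcon
  obtain ⟨hc1, hc2⟩ := hcon
  have hXc := isCharacter_of_irr hX
  have hXf := isClassFunction_of_isCharacter hXc
  have n1 : τ₁ ∉ MulAction.orbit S.N σ₁ := fun h => by
    have := S.mu_eq_of_mem_orbit hXf h; omega
  have n2 : τ₂ ∉ MulAction.orbit S.N σ₂ := fun h => by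
    have := S.mu_eq_of_mem_orbit hXf h; omega
  have n3 : τ₁ ∉ MulAction.orbit S.N σ₂ := fun h => by
    have := S.mu_eq_of_mem_orbit hXf h; omega
  have n4 : σ₁ ∉ MulAction.orbit S.N τ₂ := fun h => by
    have := S.mu_eq_of_mem_orbit hXf h; omega
  have hN1 := S.norm_Θ h₁ hσ₁ hτ₁ n1
  have hN2 := S.norm_Θ h₂ hσ₂ hτ₂ n2
  have hX1 : classInner (S.Θ σ₁ τ₁) X = 1 := by
    rw [S.inner_Θ_char σ₁ τ₁ hXc, mσ₁, mτ₁]; push_cast; ring
  have hX2 : classInner (S.Θ σ₂ τ₂) X = 1 := by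
    rw [S.inner_Θ_char σ₂ τ₂ hXc, mσ₂, mτ₂]; push_cast; ring
  have hd1 : S.deg σ₁ = S.deg τ₁ := (S.deg_sameFam h₁).symm
  have hd2 : S.deg σ₂ = S.deg τ₂ := (S.deg_sameFam h₂).symm
  obtain ⟨Y₁, hY₁, hY₁X, e₁⟩ := genChar_two_sub (S.isGenChar_Θ σ₁ τ₁) (S.Θ_apply_one σ₁ τ₁ hd1)
    hN1 hX hX1
  obtain ⟨Y₂, hY₂, hY₂X, e₂⟩ := genChar_two_sub (S.isGenChar_Θ σ₂ τ₂) (S.Θ_apply_one σ₂ τ₂ hd2)
    hN2 hX hX2
  have hzero : classInner (S.Θ σ₁ τ₁) (S.Θ σ₂ τ₂) = 0 := by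
    rw [S.inner_Θ_Θ σ₁ τ₁ σ₂ τ₂ h₂ hσ₂ hτ₂, S.orb_of_not' hc1, S.orb_of_not n3, S.orb_of_not n4,
      S.orb_of_not' hc2]
    norm_num
  rw [e₁, e₂, classInner_sub_left, classInner_sub_right, classInner_sub_right,
    classInner_irr_self hX, classInner_irr_ne hX hY₂ (Ne.symm hY₂X),
    classInner_irr_ne hY₁ hX hY₁X, classInner_irr hY₁ hY₂] at hzero
  split_ifs at hzero <;> norm_num at hzero

/-- the orbit of an irreducible character of `C` under `N`, as a finite set -/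
noncomputable def orbF (σ : IrrCharacter S.C) : Finset (IrrCharacter S.C) :=
  Finset.univ.filter (fun τ => τ ∈ MulAction.orbit S.N σ)

theorem mem_orbF {σ τ : IrrCharacter S.C} : τ ∈ S.orbF σ ↔ τ ∈ MulAction.orbit S.N σ := by
  rw [orbF, Finset.mem_filter]
  simp

theorem card_orbF (σ : IrrCharacter S.C) (hσ : S.lam σ ≠ 1) : (S.orbF σ).card = S.e := by
  rw [← S.ncard_orbit σ hσ, ← Set.ncard_coe_finset]
  congr 1
  ext τ
  rw [Finset.mem_coe, mem_orbF]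

/-- existence of a member of a family with multiplicity zero, outside a given orbit -/
theorem exists_good {X : G → ℂ} (hD : S.DN X + S.e + 1 < S.q)
    (σ ρ : IrrCharacter S.C) (hρ : S.lam ρ ≠ 1) :
    ∃ τ, S.SameFam σ τ ∧ S.lam τ ≠ 1 ∧ S.mu X τ = 0 ∧ τ ∉ MulAction.orbit S.N ρ := by
  by_contra hall
  push Not at hall
  set B₁ : Finset (S.P →* ℂˣ) := Finset.univ.filter (fun μ => S.lam (S.tw μ σ) = 1) with hB₁
  set B₂ : Finset (S.P →* ℂˣ) :=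
    Finset.univ.filter (fun μ => S.lam (S.tw μ σ) ≠ 1 ∧ S.mu X (S.tw μ σ) ≠ 0) with hB₂
  set B₃ : Finset (S.P →* ℂˣ) :=
    Finset.univ.filter (fun μ => S.tw μ σ ∈ MulAction.orbit S.N ρ) with hB₃
  have hcover : (Finset.univ : Finset (S.P →* ℂˣ)) ⊆ B₁ ∪ (B₂ ∪ B₃) := by
    intro μ _
    rw [Finset.mem_union, Finset.mem_union, hB₁, hB₂, hB₃, Finset.mem_filter, Finset.mem_filter,
      Finset.mem_filter]
    by_cases h1 : S.lam (S.tw μ σ) = 1
    · exact Or.inl ⟨Finset.mem_univ _, h1⟩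
    · by_cases h2 : S.mu X (S.tw μ σ) = 0
      · exact Or.inr (Or.inr ⟨Finset.mem_univ _, hall _ ⟨μ, rfl⟩ h1 h2⟩)
      · exact Or.inr (Or.inl ⟨Finset.mem_univ _, h1, h2⟩)
  have hc1 : B₁.card ≤ 1 := by
    rw [Finset.card_le_one]
    intro μ hμ ν hν
    rw [hB₁, Finset.mem_filter, lam_tw] at hμ hν
    exact mul_right_cancel (hμ.2.trans hν.2.symm)
  have hinj := S.tw_injective σ
  have hc2 : B₂.card ≤ S.DN X := by
    rw [← Finset.card_image_of_injective B₂ hinj, Finset.card_eq_sum_ones, DN]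
    refine le_trans (Finset.sum_le_sum (g := fun τ => if S.lam τ = 1 then 0 else S.mu X τ * S.deg τ)
      ?_) (Finset.sum_le_sum_of_subset (Finset.subset_univ _))
    intro τ hτ
    rw [Finset.mem_image] at hτ
    obtain ⟨μ, hμ, rfl⟩ := hτ
    rw [hB₂, Finset.mem_filter] at hμ
    rw [if_neg hμ.2.1]
    have h1 : 1 ≤ S.mu X (S.tw μ σ) := Nat.one_le_iff_ne_zero.2 hμ.2.2
    have h2 : 1 ≤ S.deg (S.tw μ σ) := S.deg_pos _
    calc 1 = 1 * 1 := rfl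
      _ ≤ _ := Nat.mul_le_mul h1 h2
  have hc3 : B₃.card ≤ S.e := by
    rw [← Finset.card_image_of_injective B₃ hinj, ← S.card_orbF ρ hρ]
    apply Finset.card_le_card
    intro τ hτ
    rw [Finset.mem_image] at hτ
    obtain ⟨μ, hμ, rfl⟩ := hτ
    rw [hB₃, Finset.mem_filter] at hμ
    exact S.mem_orbF.2 hμ.2
  have hq : S.q ≤ (B₁ ∪ (B₂ ∪ B₃)).card := by
    rw [← S.card_dual', ← Finset.card_univ]
    exact Finset.card_le_card hcover
  have h1 := Finset.card_union_le B₁ (B₂ ∪ B₃)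
  have h2 := Finset.card_union_le B₂ B₃
  omega

/-- the structure lemma -/
theorem structure_lemma {X : G → ℂ} (hX : IsIrrCharacter G X) (hD : S.DN X + S.e + 1 < S.q)
    {σ₁ σ₂ : IrrCharacter S.C} (h₁ : S.lam σ₁ ≠ 1) (h₂ : S.lam σ₂ ≠ 1) (hm₁ : S.mu X σ₁ ≠ 0)
    (hm₂ : S.mu X σ₂ ≠ 0) : S.mu X σ₁ = 1 ∧ σ₂ ∈ MulAction.orbit S.N σ₁ := by
  obtain ⟨τ₁, hf₁, hτ₁, hμ₁, -⟩ := S.exists_good hD σ₁ σ₁ h₁
  obtain ⟨τ₂, hf₂, hτ₂, hμ₂, hno⟩ := S.exists_good hD σ₂ τ₁ hτ₁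
  have hA1 := S.lemmaA hX hf₁ h₁ hτ₁
  have hA2 := S.lemmaA hX hf₂ h₂ hτ₂
  have e1 : S.mu X σ₁ = 0 + 1 := by omega
  have e2 : S.mu X σ₂ = 0 + 1 := by omega
  refine ⟨e1, ?_⟩
  rcases S.keyLemma hX hf₁ hf₂ h₁ hτ₁ h₂ hτ₂ e1 e2 hμ₁ hμ₂ with h | h
  · exact h
  · exact absurd h hno

/-- the structure theorem: the `P`-nontrivial part of the restriction is one orbit -/
theorem structure_thm {X : G → ℂ} (hX : IsIrrCharacter G X) (hD : S.DN X + S.e + 1 < S.q)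
    {σ₀ : IrrCharacter S.C} (h₀ : S.lam σ₀ ≠ 1) (hm₀ : S.mu X σ₀ ≠ 0) (σ : IrrCharacter S.C)
    (hσ : S.lam σ ≠ 1) : S.mu X σ = if σ ∈ MulAction.orbit S.N σ₀ then 1 else 0 := by
  have hXf := isClassFunction_of_isCharacter (isCharacter_of_irr hX)
  split_ifs with h
  · rw [S.mu_eq_of_mem_orbit hXf h]
    exact (S.structure_lemma hX hD h₀ h₀ hm₀ hm₀).1
  · by_contra hne
    exact h (S.structure_lemma hX hD h₀ hσ hm₀ hne).2

end Setup

end Cfsg.Agent.Lib.Helper4.BL
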