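import Mathlib
import Cfsg.Agent.Lib.Helper4.BLf

set_option autoImplicit false
set_option linter.unusedSectionVars false

/-!
# Brauer-Leonard, part g: decomposition of the basic inequality
-/

namespace Cfsg.Agent.Lib.Helper4.BL

open Cfsg Cfsg.Agent.Lib.Helper1 Cfsg.Agent.Lib.Helper4 Cfsg.Agent.Lib.Helper8
open scoped ComplexConjugate
open Classical

universe u

namespace Setup

variable {G : Type u} [Group G] [Fintype G] (S : Setup G)

section Decomp

variable (m : IrrCharacter S.C → ℕ)

/-- the `P`-nontrivial part of a multiplicity vector -/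
noncomputable def uu (σ : IrrCharacter S.C) : ℕ := if S.lam σ = 1 then 0 else m σ

/-- the `P`-trivial part of a multiplicity vector -/
noncomputable def bb (σ : IrrCharacter S.C) : ℕ := if S.lam σ = 1 then m σ else 0

theorem uu_add_bb (σ : IrrCharacter S.C) : S.uu m σ + S.bb m σ = m σ := by
  rw [uu, bb]
  split_ifs <;> simp

theorem bb_trivOf (σ : IrrCharacter S.C) : S.bb m (S.trivOf σ) = m (S.trivOf σ) := by
  rw [bb, if_pos (S.lam_trivOf σ)]

noncomputable def AA : ℕ := ∑ σ : IrrCharacter S.C, m σ * m σ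

noncomputable def DD : ℕ :=
  ∑ σ : IrrCharacter S.C, ∑ τ : IrrCharacter S.C, if S.SameFam τ σ then m σ * m τ else 0

noncomputable def UU : ℕ :=
  ∑ σ : IrrCharacter S.C, ∑ τ : IrrCharacter S.C,
    if S.SameFam τ σ then S.uu m σ * S.uu m τ else 0

noncomputable def UB : ℕ := ∑ σ : IrrCharacter S.C, S.uu m σ * m (S.trivOf σ)

noncomputable def BB : ℕ := ∑ σ : IrrCharacter S.C, S.bb m σ * S.bb m σ

noncomputable def U2 : ℕ := ∑ σ : IrrCharacter S.C, S.uu m σ * S.uu m σ

theorem AA_eq : S.AA m = S.U2 m + S.BB m := by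
  rw [AA, U2, BB, ← Finset.sum_add_distrib]
  refine Finset.sum_congr rfl fun σ _ => ?_
  rw [uu, bb]
  split_ifs <;> simp

theorem sum_ub (σ : IrrCharacter S.C) :
    (∑ τ : IrrCharacter S.C, if S.SameFam τ σ then S.uu m σ * S.bb m τ else 0)
      = S.uu m σ * m (S.trivOf σ) := by
  rw [Finset.sum_eq_single (S.trivOf σ)]
  · rw [if_pos (S.sameFam_symm (S.sameFam_trivOf σ)), bb_trivOf]
  · intro τ _ hne
    by_cases h : S.SameFam τ σ
    · rw [if_pos h]
      have hl : S.lam τ ≠ 1 := by
        intro hl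
        apply hne
        rw [← S.trivOf_of_lam hl]
        exact (S.sameFam_iff τ σ).1 h
      rw [bb, if_neg hl, mul_zero]
    · rw [if_neg h]
  · intro h
    exact absurd (Finset.mem_univ _) h

theorem sum_bu (τ : IrrCharacter S.C) :
    (∑ σ : IrrCharacter S.C, if S.SameFam τ σ then S.bb m σ * S.uu m τ else 0)
      = S.uu m τ * m (S.trivOf τ) := by
  rw [Finset.sum_eq_single (S.trivOf τ)]
  · rw [if_pos (S.sameFam_trivOf τ), bb_trivOf, mul_comm]
  · intro σ _ hne
    by_cases h : S.SameFam τ σ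
    · rw [if_pos h]
      have hl : S.lam σ ≠ 1 := by
        intro hl
        apply hne
        rw [← S.trivOf_of_lam hl]
        exact ((S.sameFam_iff τ σ).1 h).symm
      rw [bb, if_neg hl, zero_mul]
    · rw [if_neg h]
  · intro h
    exact absurd (Finset.mem_univ _) h

theorem sum_bb (σ : IrrCharacter S.C) :
    (∑ τ : IrrCharacter S.C, if S.SameFam τ σ then S.bb m σ * S.bb m τ else 0)
      = S.bb m σ * S.bb m σ := by
  rw [Finset.sum_eq_single σ]
  · rw [if_pos (S.sameFam_refl σ)]
  · intro τ _ hne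
    by_cases h : S.SameFam τ σ
    · rw [if_pos h]
      by_cases h1 : S.lam σ = 1
      · by_cases h2 : S.lam τ = 1
        · exact absurd (S.sameFam_eq_of_lam h (h2.trans h1.symm)) hne
        · rw [bb, bb, if_neg h2, mul_zero]
      · rw [bb, if_neg h1, zero_mul]
    · rw [if_neg h]
  · intro h
    exact absurd (Finset.mem_univ _) h

theorem DD_eq : S.DD m = S.UU m + 2 * S.UB m + S.BB m := by
  have key : ∀ σ τ : IrrCharacter S.C, (if S.SameFam τ σ then m σ * m τ else 0)
      = (if S.SameFam τ σ then S.uu m σ * S.uu m τ else 0)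
        + (if S.SameFam τ σ then S.uu m σ * S.bb m τ else 0)
        + (if S.SameFam τ σ then S.bb m σ * S.uu m τ else 0)
        + (if S.SameFam τ σ then S.bb m σ * S.bb m τ else 0) := by
    intro σ τ
    by_cases h : S.SameFam τ σ
    · simp only [if_pos h]
      rw [← S.uu_add_bb m σ, ← S.uu_add_bb m τ]
      ring
    · simp only [if_neg h]
  have e2 : (∑ σ : IrrCharacter S.C, ∑ τ : IrrCharacter S.C,
      if S.SameFam τ σ then S.uu m σ * S.bb m τ else 0) = S.UB m :=
    Finset.sum_congr rfl fun σ _ => S.sum_ub m σ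
  have e3 : (∑ σ : IrrCharacter S.C, ∑ τ : IrrCharacter S.C,
      if S.SameFam τ σ then S.bb m σ * S.uu m τ else 0) = S.UB m := by
    rw [Finset.sum_comm]
    exact Finset.sum_congr rfl fun τ _ => S.sum_bu m τ
  have e4 : (∑ σ : IrrCharacter S.C, ∑ τ : IrrCharacter S.C,
      if S.SameFam τ σ then S.bb m σ * S.bb m τ else 0) = S.BB m :=
    Finset.sum_congr rfl fun σ _ => S.sum_bb m σ
  rw [DD]
  simp_rw [key, Finset.sum_add_distrib]
  rw [e2, e3, e4, UU]
  ring

end Decomp

end Setup

end Cfsg.Agent.Lib.Helper4.BL
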