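import Mathlib
import Cfsg.Agent.Lib.Helper4.BLg

set_option autoImplicit false
set_option linter.unusedSectionVars false

/-!
# Brauer-Leonard, part h: irreducible characters of small degree restricted to `C`
-/

namespace Cfsg.Agent.Lib.Helper4.BL

open Cfsg Cfsg.Agent.Lib.Helper1 Cfsg.Agent.Lib.Helper4 Cfsg.Agent.Lib.Helper8
open scoped ComplexConjugate
open Classical

universe u

theorem sum_ite_mem_univ {ι : Type*} [Fintype ι] (s : Finset ι) [DecidablePred (· ∈ s)]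
    (f : ι → ℕ) : (∑ i : ι, if i ∈ s then f i else 0) = ∑ i ∈ s, f i := by
  rw [← Finset.sum_filter]
  congr 1
  ext i
  simp

theorem sum_ite_mem_const {ι : Type*} [Fintype ι] (s : Finset ι) [DecidablePred (· ∈ s)] (c : ℕ) :
    (∑ i : ι, if i ∈ s then c else 0) = s.card * c := by
  rw [sum_ite_mem_univ, Finset.sum_const, smul_eq_mul]

namespace Setup

variable {G : Type u} [Group G] [Fintype G] (S : Setup G)

/-- the basic inequality, over the natural numbers -/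
theorem nc_nat {X : G → ℂ} (hX : IsCharacter G X) (hX1 : X 1 ≠ 0) {k : ℕ}
    (hk : classInner X X = (k : ℂ)) :
    S.q * S.AA (S.mu X) < S.q * S.e * k + S.DD (S.mu X) := by
  have h := S.nc_mult hX hX1 (k := (k : ℝ)) (by rw [hk]; simp)
  have h2 : ((S.q * S.AA (S.mu X) : ℕ) : ℝ) < ((S.q * S.e * k + S.DD (S.mu X) : ℕ) : ℝ) := by
    rw [AA, DD]
    push_cast
    exact h
  exact_mod_cast h2

/-- the `P`-nontrivial part of the restriction of `X` to `C` is exactly the orbit of `σ₀` -/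
def OneOrbit (X : G → ℂ) (σ₀ : IrrCharacter S.C) : Prop :=
  S.lam σ₀ ≠ 1 ∧ ∀ σ, S.lam σ ≠ 1 → S.mu X σ = if σ ∈ MulAction.orbit S.N σ₀ then 1 else 0

variable {S}

theorem uu_of_oneOrbit {X : G → ℂ} {σ₀ : IrrCharacter S.C} (h : S.OneOrbit X σ₀)
    (σ : IrrCharacter S.C) : S.uu (S.mu X) σ = if σ ∈ S.orbF σ₀ then 1 else 0 := by
  rw [uu]
  by_cases hl : S.lam σ = 1
  · rw [if_pos hl, if_neg]
    intro hm
    exact S.lam_ne_of_mem_orbit (S.mem_orbF.1 hm) h.1 hl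
  · rw [if_neg hl, h.2 σ hl]
    by_cases hm : σ ∈ MulAction.orbit S.N σ₀
    · rw [if_pos hm, if_pos (S.mem_orbF.2 hm)]
    · rw [if_neg hm, if_neg (fun h' => hm (S.mem_orbF.1 h'))]

theorem U2_of_oneOrbit {X : G → ℂ} {σ₀ : IrrCharacter S.C} (h : S.OneOrbit X σ₀) :
    S.U2 (S.mu X) = S.e := by
  rw [U2]
  simp_rw [uu_of_oneOrbit h]
  have : ∀ σ : IrrCharacter S.C, ((if σ ∈ S.orbF σ₀ then 1 else 0) * (if σ ∈ S.orbF σ₀ then 1 else 0) : ℕ)
      = if σ ∈ S.orbF σ₀ then 1 else 0 := by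
    intro σ
    split_ifs <;> simp
  simp_rw [this]
  rw [sum_ite_mem_const, S.card_orbF σ₀ h.1, mul_one]

theorem sum_uu_of_oneOrbit {X : G → ℂ} {σ₀ : IrrCharacter S.C} (h : S.OneOrbit X σ₀) :
    ∑ σ : IrrCharacter S.C, S.uu (S.mu X) σ = S.e := by
  simp_rw [uu_of_oneOrbit h]
  rw [sum_ite_mem_const, S.card_orbF σ₀ h.1, mul_one]

theorem UU_le (m : IrrCharacter S.C → ℕ) :
    S.UU m ≤ (∑ σ : IrrCharacter S.C, S.uu m σ) * (∑ σ : IrrCharacter S.C, S.uu m σ) := by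
  rw [UU, Finset.sum_mul_sum]
  refine Finset.sum_le_sum fun σ _ => Finset.sum_le_sum fun τ _ => ?_
  split_ifs
  · exact le_refl _
  · exact Nat.zero_le _

theorem UU_le_of_oneOrbit {X : G → ℂ} {σ₀ : IrrCharacter S.C} (h : S.OneOrbit X σ₀) :
    S.UU (S.mu X) ≤ S.e * S.e := by
  have := UU_le (S := S) (S.mu X)
  rwa [sum_uu_of_oneOrbit h] at this

theorem UB_of_oneOrbit {X : G → ℂ} {σ₀ : IrrCharacter S.C} (h : S.OneOrbit X σ₀) :
    S.UB (S.mu X) = ∑ σ ∈ S.orbF σ₀, S.mu X (S.trivOf σ) := by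
  rw [← sum_ite_mem_univ (S.orbF σ₀) (fun σ => S.mu X (S.trivOf σ)), UB]
  refine Finset.sum_congr rfl fun σ _ => ?_
  rw [uu_of_oneOrbit h]
  split_ifs <;> simp

theorem DN_of_oneOrbit {X : G → ℂ} {σ₀ : IrrCharacter S.C} (h : S.OneOrbit X σ₀) :
    S.DN X = S.e * S.deg σ₀ := by
  rw [DN, ← S.card_orbF σ₀ h.1, ← sum_ite_mem_const]
  refine Finset.sum_congr rfl fun σ _ => ?_
  by_cases hl : S.lam σ = 1
  · rw [if_pos hl, if_neg]
    intro hm
    exact S.lam_ne_of_mem_orbit (S.mem_orbF.1 hm) h.1 hl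
  · rw [if_neg hl, h.2 σ hl]
    by_cases hm : σ ∈ MulAction.orbit S.N σ₀
    · rw [if_pos hm, if_pos (S.mem_orbF.2 hm), one_mul, S.deg_of_mem_orbit hm]
    · rw [if_neg hm, if_neg (fun h' => hm (S.mem_orbF.1 h')), zero_mul]

theorem bb_le_BB (m : IrrCharacter S.C → ℕ) (σ : IrrCharacter S.C) : S.bb m σ ≤ S.BB m := by
  have h1 : S.bb m σ ≤ S.bb m σ * S.bb m σ := Nat.le_mul_self _
  have h2 : S.bb m σ * S.bb m σ ≤ S.BB m :=
    Finset.single_le_sum (f := fun σ => S.bb m σ * S.bb m σ) (fun _ _ => Nat.zero_le _)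
      (Finset.mem_univ σ)
  exact h1.trans h2

theorem UB_le_of_oneOrbit {X : G → ℂ} {σ₀ : IrrCharacter S.C} (h : S.OneOrbit X σ₀) :
    S.UB (S.mu X) ≤ S.e * S.BB (S.mu X) := by
  rw [UB_of_oneOrbit h, ← S.card_orbF σ₀ h.1, ← smul_eq_mul, ← Finset.sum_const]
  refine Finset.sum_le_sum fun σ _ => ?_
  rw [← S.bb_trivOf (S.mu X) σ]
  exact bb_le_BB _ _

theorem BB_pos_of_ptN {X : G → ℂ} (hpt : S.ptN X ≠ 0) : 1 ≤ S.BB (S.mu X) := by
  rw [ptN] at hpt
  obtain ⟨σ, -, hσ⟩ := Finset.exists_ne_zero_of_sum_ne_zero hpt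
  by_cases hl : S.lam σ = 1
  · rw [if_pos hl] at hσ
    have hm : S.mu X σ ≠ 0 := fun h0 => hσ (by rw [h0, zero_mul])
    have h1 : 1 ≤ S.bb (S.mu X) σ := by
      rw [bb, if_pos hl]
      exact Nat.one_le_iff_ne_zero.2 hm
    exact h1.trans (bb_le_BB _ σ)
  · rw [if_neg hl] at hσ
    exact absurd rfl hσ

/-- if an irreducible character of the one-orbit shape has a `P`-trivial part, then `q` is small -/
theorem q_le_of_ptN {X : G → ℂ} (hX : IsIrrCharacter G X) {σ₀ : IrrCharacter S.C}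
    (h : S.OneOrbit X σ₀) (hpt : S.ptN X ≠ 0) : S.q ≤ S.e * S.e + 2 * S.e := by
  have hnc := S.nc_nat (isCharacter_of_irr hX) (irr_apply_one_ne_zero hX) (k := 1)
    (by rw [classInner_irr_self hX]; simp)
  rw [AA_eq, DD_eq, U2_of_oneOrbit h] at hnc
  have h1 := UU_le_of_oneOrbit h
  have h2 := UB_le_of_oneOrbit h
  have h3 := BB_pos_of_ptN hpt
  by_contra hcon
  push Not at hcon
  have h4 : (S.e * S.e + 2 * S.e + 1) * S.BB (S.mu X) ≤ S.q * S.BB (S.mu X) :=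
    Nat.mul_le_mul_right _ (by omega)
  nlinarith

theorem e_le_DN {X : G → ℂ} (hX : IsClassFunction G X) {σ₀ : IrrCharacter S.C}
    (h₀ : S.lam σ₀ ≠ 1) (hm : S.mu X σ₀ ≠ 0) : S.e ≤ S.DN X := by
  rw [← S.card_orbF σ₀ h₀, Finset.card_eq_sum_ones, DN]
  refine le_trans (Finset.sum_le_sum (g := fun τ => if S.lam τ = 1 then 0 else S.mu X τ * S.deg τ)
    ?_) (Finset.sum_le_sum_of_subset (Finset.subset_univ _))
  intro τ hτ
  have hτ' := S.mem_orbF.1 hτ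
  rw [if_neg (S.lam_ne_of_mem_orbit hτ' h₀), S.mu_eq_of_mem_orbit hX hτ']
  have h1 : 1 ≤ S.mu X σ₀ := Nat.one_le_iff_ne_zero.2 hm
  have h2 : 1 ≤ S.deg τ := S.deg_pos _
  calc 1 = 1 * 1 := rfl
    _ ≤ _ := Nat.mul_le_mul h1 h2

/-- a character of `G` all of whose constituents on `C` are trivial on `P` is constant on `P` -/
theorem apply_P_of_triv {X : G → ℂ} (hX : IsCharacter G X)
    (h : ∀ σ, S.lam σ ≠ 1 → S.mu X σ = 0) (x : S.P) : X x = X 1 := by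
  rw [S.apply_P hX x, S.apply_one_eq hX]
  refine Finset.sum_congr rfl fun σ _ => ?_
  by_cases hl : S.lam σ = 1
  · rw [hl]
    simp
  · rw [h σ hl]
    simp

/-- the restriction to `C` of an irreducible character of small degree not trivial on `P` -/
theorem small_char {X : G → ℂ} (hX : IsIrrCharacter G X) {d : ℕ} (hd : X 1 = (d : ℂ))
    (hd2 : 2 ≤ d) (hq : d * d + 1 < S.q) (hP : ∃ x : S.P, X x ≠ X 1) :
    ∃ σ₀, S.OneOrbit X σ₀ ∧ S.ptN X = 0 ∧ d = S.e * S.deg σ₀ := by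
  have hXc := isCharacter_of_irr hX
  have hXf := isClassFunction_of_isCharacter hXc
  obtain ⟨σ₀, h₀, hm₀⟩ : ∃ σ₀, S.lam σ₀ ≠ 1 ∧ S.mu X σ₀ ≠ 0 := by
    by_contra hcon
    push Not at hcon
    obtain ⟨x, hx⟩ := hP
    exact hx (S.apply_P_of_triv hXc hcon x)
  have hsum : d = S.ptN X + S.DN X := by
    have := S.apply_one_nat hXc
    rw [hd] at this
    exact_mod_cast this
  have heD := e_le_DN hXf h₀ hm₀
  have hD : S.DN X + S.e + 1 < S.q := by nlinarith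
  have hone : S.OneOrbit X σ₀ := ⟨h₀, fun σ hσ => S.structure_thm hX hD h₀ hm₀ σ hσ⟩
  have hDN := DN_of_oneOrbit hone
  have hdeg := S.deg_pos σ₀
  have hpt : S.ptN X = 0 := by
    by_contra hpt
    have hq' := q_le_of_ptN hX hone hpt
    have h1 : 1 ≤ S.ptN X := Nat.one_le_iff_ne_zero.2 hpt
    have h2 : S.e ≤ S.DN X := heD
    have h3 : S.e + 1 ≤ d := by omega
    nlinarith
  refine ⟨σ₀, hone, hpt, ?_⟩
  rw [hsum, hpt, zero_add, hDN]

end Setup

end Cfsg.Agent.Lib.Helper4.BL
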