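import Mathlib
import Cfsg.Agent.Lib.Helper4.BLh
import Cfsg.Agent.Lib.Helper1.CharFound8
import Cfsg.Agent.S0161

set_option autoImplicit false
set_option linter.unusedSectionVars false

/-!
# Brauer-Leonard, part i: the character `ψ ψ̄` and its constituents
-/

namespace Cfsg.Agent.Lib.Helper4.BL

open Cfsg Cfsg.Agent.Lib.Helper1 Cfsg.Agent.Lib.Helper4 Cfsg.Agent.Lib.Helper8
open scoped ComplexConjugate
open Classical

universe u

theorem sum_ite_mem_univ' {ι M : Type*} [Fintype ι] [AddCommMonoid M] (s : Finset ι)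
    [DecidablePred (· ∈ s)] (f : ι → M) : (∑ i : ι, if i ∈ s then f i else 0) = ∑ i ∈ s, f i := by
  rw [← Finset.sum_filter]
  congr 1
  ext i
  simp

namespace Setup

variable {G : Type u} [Group G] [Fintype G] {S : Setup G}

theorem mu_expand {Y : G → ℂ} (hY : IsCharacter G Y) (c : IrrCharacter G → ℕ)
    (hc : ∀ ξ : IrrCharacter G, classInner Y (ξ : G → ℂ) = (c ξ : ℂ)) (σ : IrrCharacter S.C) :
    S.mu Y σ = ∑ ξ : IrrCharacter G, c ξ * S.mu (ξ : G → ℂ) σ := by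
  apply S.mu_eq_of_inner
  have hexp : Y = ∑ ξ : IrrCharacter G, (c ξ : ℂ) • (ξ : G → ℂ) := by
    conv_lhs => rw [class_function_expansion Y (isClassFunction_of_isCharacter hY)]
    exact Finset.sum_congr rfl fun ξ _ => by rw [hc ξ]
  have hres : S.res Y = ∑ ξ : IrrCharacter G, (c ξ : ℂ) • S.res (ξ : G → ℂ) := by
    funext x
    rw [res_apply]
    conv_lhs => rw [hexp]
    simp [Finset.sum_apply, res_apply]
  rw [hres, classInner_sum_left]
  push_cast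
  refine Finset.sum_congr rfl fun ξ _ => ?_
  rw [classInner_smul_left, S.mu_spec (isCharacter_of_irr ξ.2)]

theorem ptN_expand {Y : G → ℂ} (hY : IsCharacter G Y) (c : IrrCharacter G → ℕ)
    (hc : ∀ ξ : IrrCharacter G, classInner Y (ξ : G → ℂ) = (c ξ : ℂ)) :
    S.ptN Y = ∑ ξ : IrrCharacter G, c ξ * S.ptN (ξ : G → ℂ) := by
  simp_rw [ptN, Finset.mul_sum]
  rw [Finset.sum_comm]
  refine Finset.sum_congr rfl fun σ _ => ?_
  split_ifs
  · rw [mu_expand hY c hc σ, Finset.sum_mul]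
    exact Finset.sum_congr rfl fun ξ _ => by ring
  · simp

theorem DN_expand {Y : G → ℂ} (hY : IsCharacter G Y) (c : IrrCharacter G → ℕ)
    (hc : ∀ ξ : IrrCharacter G, classInner Y (ξ : G → ℂ) = (c ξ : ℂ)) :
    S.DN Y = ∑ ξ : IrrCharacter G, c ξ * S.DN (ξ : G → ℂ) := by
  simp_rw [DN, Finset.mul_sum]
  rw [Finset.sum_comm]
  refine Finset.sum_congr rfl fun σ _ => ?_
  split_ifs
  · simp
  · rw [mu_expand hY c hc σ, Finset.sum_mul]
    exact Finset.sum_congr rfl fun ξ _ => by ring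

/-- a character with a `P`-trivial part has an irreducible constituent with one -/
theorem exists_constituent_ptN {Y : G → ℂ} (hY : IsCharacter G Y) (hpt : S.ptN Y ≠ 0) :
    ∃ ξ : IrrCharacter G, classInner Y (ξ : G → ℂ) ≠ 0 ∧ S.ptN (ξ : G → ℂ) ≠ 0 ∧
      S.DN (ξ : G → ℂ) ≤ S.DN Y := by
  have hc : ∀ ξ : IrrCharacter G, ∃ m : ℕ, classInner Y (ξ : G → ℂ) = (m : ℂ) :=
    fun ξ => classInner_char_irr_nat hY ξ.2
  choose c hc using hc
  rw [ptN_expand hY c hc] at hpt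
  obtain ⟨ξ, -, hξ⟩ := Finset.exists_ne_zero_of_sum_ne_zero hpt
  have h1 : c ξ ≠ 0 := fun h => hξ (by rw [h, zero_mul])
  have h2 : S.ptN (ξ : G → ℂ) ≠ 0 := fun h => hξ (by rw [h, mul_zero])
  refine ⟨ξ, ?_, h2, ?_⟩
  · rw [hc ξ]
    exact Nat.cast_ne_zero.2 h1
  · rw [DN_expand hY c hc]
    have h3 : c ξ * S.DN (ξ : G → ℂ) ≤ ∑ ξ : IrrCharacter G, c ξ * S.DN (ξ : G → ℂ) :=
      Finset.single_le_sum (f := fun ξ => c ξ * S.DN (ξ : G → ℂ)) (fun _ _ => Nat.zero_le _)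
        (Finset.mem_univ ξ)
    have h4 : S.DN (ξ : G → ℂ) ≤ c ξ * S.DN (ξ : G → ℂ) :=
      Nat.le_mul_of_pos_left _ (Nat.pos_of_ne_zero h1)
    exact h4.trans h3

theorem eq_of_lam_eq_of_mem_orbit {σ τ : IrrCharacter S.C} (hσ : S.lam σ ≠ 1)
    (h : τ ∈ MulAction.orbit S.N σ) (hl : S.lam τ = S.lam σ) : τ = σ := by
  obtain ⟨n, rfl⟩ := MulAction.mem_orbit_iff.1 h
  by_cases hn : (n : G) ∈ S.C
  · exact S.smul_of_mem n hn σ
  · exact absurd hl (S.lam_smul_ne n hn σ hσ)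

theorem mu_triv_zero {X : G → ℂ} (hpt : S.ptN X = 0) {σ : IrrCharacter S.C} (hl : S.lam σ = 1) :
    S.mu X σ = 0 := by
  rw [ptN, Finset.sum_eq_zero_iff] at hpt
  have := hpt σ (Finset.mem_univ σ)
  rw [if_pos hl] at this
  rcases Nat.mul_eq_zero.1 this with h | h
  · exact h
  · exact absurd h (S.deg_pos σ).ne'

theorem apply_P_of_oneOrbit {X : G → ℂ} (hX : IsCharacter G X) {σ₀ : IrrCharacter S.C}
    (h : S.OneOrbit X σ₀) (hpt : S.ptN X = 0) (x : S.P) :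
    X x = ∑ σ ∈ S.orbF σ₀, (S.deg σ₀ : ℂ) * ((S.lam σ x : ℂˣ) : ℂ) := by
  rw [← sum_ite_mem_univ' (S.orbF σ₀) (fun σ => (S.deg σ₀ : ℂ) * ((S.lam σ x : ℂˣ) : ℂ)),
    S.apply_P hX x]
  refine Finset.sum_congr rfl fun σ _ => ?_
  by_cases hl : S.lam σ = 1
  · rw [mu_triv_zero hpt hl, if_neg]
    · simp
    · intro hm
      exact S.lam_ne_of_mem_orbit (S.mem_orbF.1 hm) h.1 hl
  · rw [h.2 σ hl]
    by_cases hm : σ ∈ MulAction.orbit S.N σ₀
    · rw [if_pos hm, if_pos (S.mem_orbF.2 hm), S.deg_of_mem_orbit hm]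
      push_cast
      ring
    · rw [if_neg hm, if_neg (fun h' => hm (S.mem_orbF.1 h'))]
      simp

theorem sum_lam_conj (σ τ : IrrCharacter S.C) :
    ∑ x : S.P, ((S.lam σ x : ℂˣ) : ℂ) * conj ((S.lam τ x : ℂˣ) : ℂ)
      = if S.lam σ = S.lam τ then (S.q : ℂ) else 0 := by
  have h1 : ∀ x : S.P, ((S.lam σ x : ℂˣ) : ℂ) * conj ((S.lam τ x : ℂˣ) : ℂ)
      = (((S.lam σ * (S.lam τ)⁻¹) x : ℂˣ) : ℂ) := by
    intro x
    rw [hom_conj, MonoidHom.mul_apply, MonoidHom.inv_apply, map_inv, Units.val_mul]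
  simp_rw [h1, sum_hom_elts]
  by_cases h : S.lam σ = S.lam τ
  · rw [if_pos h, if_pos (by rw [h]; exact mul_inv_cancel (S.lam τ))]
    rfl
  · rw [if_neg h, if_neg (fun h' => h (mul_inv_eq_one.1 h'))]

/-- the character `ψ ψ̄` -/
noncomputable def sq (X : G → ℂ) : G → ℂ := fun g => X g * conj (X g)

theorem isCharacter_sq {X : G → ℂ} (hX : IsIrrCharacter G X) : IsCharacter G (sq X) :=
  Cfsg.Agent.S0177.isCharacter_mul (isCharacter_of_irr hX)
    (isCharacter_of_irr (isIrrCharacter_conj hX))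

theorem sum_P_sq {X : G → ℂ} (hX : IsCharacter G X) {σ₀ : IrrCharacter S.C}
    (h : S.OneOrbit X σ₀) (hpt : S.ptN X = 0) :
    ∑ x : S.P, sq X x = (S.q : ℂ) * ((S.e * (S.deg σ₀ * S.deg σ₀) : ℕ) : ℂ) := by
  have h1 : ∀ x : S.P, sq X x = ∑ σ ∈ S.orbF σ₀, ∑ τ ∈ S.orbF σ₀,
      ((S.deg σ₀ : ℂ) * (S.deg σ₀ : ℂ)) *
        (((S.lam σ x : ℂˣ) : ℂ) * conj ((S.lam τ x : ℂˣ) : ℂ)) := by
    intro x
    rw [sq, apply_P_of_oneOrbit hX h hpt x, map_sum, Finset.sum_mul_sum]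
    refine Finset.sum_congr rfl fun σ _ => Finset.sum_congr rfl fun τ _ => ?_
    rw [map_mul, Complex.conj_natCast]
    ring
  simp_rw [h1]
  rw [Finset.sum_comm]
  have h2 : ∀ σ ∈ S.orbF σ₀, (∑ x : S.P, ∑ τ ∈ S.orbF σ₀,
      ((S.deg σ₀ : ℂ) * (S.deg σ₀ : ℂ)) *
        (((S.lam σ x : ℂˣ) : ℂ) * conj ((S.lam τ x : ℂˣ) : ℂ)))
      = ((S.deg σ₀ : ℂ) * (S.deg σ₀ : ℂ)) * (S.q : ℂ) := by
    intro σ hσ
    rw [Finset.sum_comm]
    simp_rw [← Finset.mul_sum, sum_lam_conj]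
    rw [Finset.sum_eq_single σ]
    · rw [if_pos rfl]
    · intro τ hτ hne
      rw [if_neg]
      intro hl
      have hσ' := S.mem_orbF.1 hσ
      have hτ' := S.mem_orbF.1 hτ
      have hσl := S.lam_ne_of_mem_orbit hσ' h.1
      have hτσ : τ ∈ MulAction.orbit S.N σ := by
        rw [← MulAction.orbit_eq_iff.2 hσ'] at hτ'
        exact hτ'
      exact hne (eq_of_lam_eq_of_mem_orbit hσl hτσ hl.symm)
    · intro hσn
      exact absurd hσ hσn
  rw [Finset.sum_congr rfl h2, Finset.sum_const, S.card_orbF σ₀ h.1]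
  push_cast
  rw [nsmul_eq_mul]
  ring

theorem ptN_sq {X : G → ℂ} (hX : IsIrrCharacter G X) {σ₀ : IrrCharacter S.C}
    (h : S.OneOrbit X σ₀) (hpt : S.ptN X = 0) :
    S.ptN (sq X) = S.e * (S.deg σ₀ * S.deg σ₀) := by
  have h1 := S.sum_P (isCharacter_sq hX)
  rw [sum_P_sq (isCharacter_of_irr hX) h hpt] at h1
  have hq : (S.q : ℂ) ≠ 0 := Nat.cast_ne_zero.2 S.q_pos.ne'
  have h2 := mul_left_cancel₀ hq h1
  exact_mod_cast h2.symm

theorem inner_sq_one {X : G → ℂ} (hX : IsIrrCharacter G X) :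
    classInner (sq X) (fun _ => (1 : ℂ)) = 1 := by
  refine Eq.trans ?_ (classInner_irr_self hX)
  rw [classInner_def, classInner_def]
  congr 1
  refine Finset.sum_congr rfl fun g _ => ?_
  simp [sq]

end Setup

end Cfsg.Agent.Lib.Helper4.BL
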