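import Mathlib
import Cfsg.Agent.Lib.Helper4.BLi
import Cfsg.Agent.Lib.Helper4.CharTools

set_option autoImplicit false
set_option linter.unusedSectionVars false

/-!
# Brauer-Leonard, part j: a nonprincipal constituent of `ψ ψ̄` with a `P`-trivial part
-/

namespace Cfsg.Agent.Lib.Helper4.BL

open Cfsg Cfsg.Agent.Lib.Helper1 Cfsg.Agent.Lib.Helper4 Cfsg.Agent.Lib.Helper8
open scoped ComplexConjugate
open Classical

universe u

namespace Setup

variable {G : Type u} [Group G] [Fintype G] {S : Setup G}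

/-- the trivial character of `C` -/
noncomputable def oneC (S : Setup G) : IrrCharacter S.C :=
  ⟨fun _ => 1, Cfsg.Agent.S0161.isIrrCharacter_one⟩

theorem oneC_apply (c : S.C) : (S.oneC : S.C → ℂ) c = 1 := rfl

theorem lam_oneC : S.lam S.oneC = 1 := by
  ext x
  rw [lam_apply, oneC_apply, oneC_apply]
  simp

theorem deg_oneC : S.deg S.oneC = 1 := by
  have := S.deg_spec S.oneC
  rw [oneC_apply] at this
  exact_mod_cast this.symm

theorem mu_smul_nat {X : G → ℂ} (hX : IsCharacter G X) (n : ℕ) (σ : IrrCharacter S.C) :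
    S.mu ((n : ℂ) • X) σ = n * S.mu X σ := by
  apply S.mu_eq_of_inner
  have : S.res ((n : ℂ) • X) = (n : ℂ) • S.res X := rfl
  rw [this, classInner_smul_left, S.mu_spec hX]
  push_cast
  rfl

theorem ptN_add {X Y : G → ℂ} (hX : IsCharacter G X) (hY : IsCharacter G Y) :
    S.ptN (X + Y) = S.ptN X + S.ptN Y := by
  simp_rw [ptN, S.mu_add hX hY, ← Finset.sum_add_distrib]
  refine Finset.sum_congr rfl fun σ _ => ?_
  split_ifs <;> ring

theorem DN_add {X Y : G → ℂ} (hX : IsCharacter G X) (hY : IsCharacter G Y) :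
    S.DN (X + Y) = S.DN X + S.DN Y := by
  simp_rw [DN, S.mu_add hX hY, ← Finset.sum_add_distrib]
  refine Finset.sum_congr rfl fun σ _ => ?_
  split_ifs <;> ring

theorem mu_one (σ : IrrCharacter S.C) :
    S.mu (fun _ : G => (1 : ℂ)) σ = if σ = S.oneC then 1 else 0 := by
  apply S.mu_eq_of_inner
  have : S.res (fun _ : G => (1 : ℂ)) = (S.oneC : S.C → ℂ) := rfl
  rw [this, classInner_irr']
  by_cases h : σ = S.oneC
  · rw [if_pos h, if_pos h.symm]
    simp
  · rw [if_neg h, if_neg (fun h' => h h'.symm)]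
    simp

theorem ptN_one : S.ptN (fun _ : G => (1 : ℂ)) = 1 := by
  rw [ptN, Finset.sum_eq_single S.oneC]
  · rw [if_pos lam_oneC, mu_one, if_pos rfl, deg_oneC]
  · intro σ _ hne
    rw [mu_one, if_neg hne]
    simp
  · intro h
    exact absurd (Finset.mem_univ _) h

theorem DN_one : S.DN (fun _ : G => (1 : ℂ)) = 0 := by
  rw [DN]
  apply Finset.sum_eq_zero
  intro σ _
  by_cases h : σ = S.oneC
  · rw [h, if_pos lam_oneC]
  · rw [mu_one, if_neg h]
    simp

theorem sq_apply_one {X : G → ℂ} {d : ℕ} (hd : X 1 = (d : ℂ)) : sq X 1 = ((d * d : ℕ) : ℂ) := by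
  rw [sq, hd, Complex.conj_natCast]
  push_cast
  rfl

/-- a nonprincipal irreducible constituent of `ψ ψ̄` with a `P`-trivial part, of the one-orbit
shape -/
theorem exists_xi
    (hdag : ∀ ξ : G → ℂ, IsIrrCharacter G ξ → (∀ x : S.P, ξ x = ξ 1) → ξ = fun _ => 1)
    {ψ : G → ℂ} (hψ : IsIrrCharacter G ψ) {d : ℕ} (hd : ψ 1 = (d : ℂ)) (hd2 : 2 ≤ d)
    (hq : d * d + 1 < S.q) {σ₀ : IrrCharacter S.C} (h : S.OneOrbit ψ σ₀) (hpt : S.ptN ψ = 0)
    (hds : d = S.e * S.deg σ₀) :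
    ∃ (ξ : G → ℂ) (σ₁ : IrrCharacter S.C), IsIrrCharacter G ξ ∧ ξ ≠ (fun _ => 1) ∧
      (∃ m : ℕ, 0 < m ∧ classInner (sq ψ) ξ = (m : ℂ)) ∧ S.OneOrbit ξ σ₁ ∧ S.ptN ξ ≠ 0 := by
  have hΨ := isCharacter_sq hψ
  have h1irr : IsIrrCharacter G (fun _ => (1 : ℂ)) := Cfsg.Agent.S0161.isIrrCharacter_one
  have hΨ1 : classInner (sq ψ) (fun _ => (1 : ℂ)) = ((1 : ℕ) : ℂ) := by
    rw [inner_sq_one hψ]
    simp
  have hΨ' : IsCharacter G (sq ψ - fun _ => 1) := isCharacter_sub_irr hΨ h1irr Nat.one_pos hΨ1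
  have hsplit : sq ψ = (sq ψ - fun _ => 1) + fun _ => 1 := (sub_add_cancel _ _).symm
  have hptΨ := ptN_sq hψ h hpt
  have hpt_add : S.ptN (sq ψ) = S.ptN (sq ψ - fun _ => 1) + 1 := by
    conv_lhs => rw [hsplit]
    rw [ptN_add hΨ' (isCharacter_of_irr h1irr), ptN_one]
  have hDN_add : S.DN (sq ψ) = S.DN (sq ψ - fun _ => 1) := by
    conv_lhs => rw [hsplit]
    rw [DN_add hΨ' (isCharacter_of_irr h1irr), DN_one, add_zero]
  have hdeg : S.ptN (sq ψ) + S.DN (sq ψ) = d * d := by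
    have := S.apply_one_nat hΨ
    rw [sq_apply_one hd] at this
    exact_mod_cast this.symm
  have hs := S.deg_pos σ₀
  have he := S.e_pos
  have hes : 2 ≤ S.e * (S.deg σ₀ * S.deg σ₀) := by nlinarith
  have hes' : S.e ≤ S.e * (S.deg σ₀ * S.deg σ₀) := by nlinarith
  have hpt' : S.ptN (sq ψ - fun _ => 1) ≠ 0 := by omega
  obtain ⟨ξ, hξ1, hξ2, hξ3⟩ := exists_constituent_ptN hΨ' hpt'
  have hξne : (ξ : G → ℂ) ≠ fun _ => 1 := by
    intro heq
    apply hξ1
    rw [heq, classInner_sub_left, hΨ1, classInner_irr_self h1irr]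
    simp
  have hinner : classInner (sq ψ) (ξ : G → ℂ) = classInner (sq ψ - fun _ => 1) (ξ : G → ℂ) := by
    rw [classInner_sub_left, classInner_irr_ne h1irr ξ.2 (Ne.symm hξne), sub_zero]
  obtain ⟨m, hm⟩ := classInner_char_irr_nat hΨ ξ.2
  have hm0 : 0 < m := by
    rcases Nat.eq_zero_or_pos m with h0 | h0
    · exfalso
      apply hξ1
      rw [← hinner, hm, h0]
      simp
    · exact h0
  have hξc := isCharacter_of_irr ξ.2
  obtain ⟨σ₁, h₁, hm₁⟩ : ∃ σ₁, S.lam σ₁ ≠ 1 ∧ S.mu (ξ : G → ℂ) σ₁ ≠ 0 := by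
    by_contra hcon
    push Not at hcon
    exact hξne (hdag ξ ξ.2 (fun x => S.apply_P_of_triv hξc hcon x))
  have hD : S.DN (ξ : G → ℂ) + S.e + 1 < S.q := by omega
  have hone : S.OneOrbit (ξ : G → ℂ) σ₁ :=
    ⟨h₁, fun σ hσ => S.structure_thm ξ.2 hD h₁ hm₁ σ hσ⟩
  exact ⟨ξ, σ₁, ξ.2, hξne, ⟨m, hm0, hm⟩, hone, hξ2⟩

/-- the arithmetic of the tight case -/
theorem tight_arith {d e s q : ℕ} (he : 0 < e) (hs : 0 < s) (hds : d = e * s)
    (hq : d * d + 1 < q) (hq' : q ≤ e * e + 2 * e) (hdvd : e ∣ q - 1) :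
    s = 1 ∧ q = e * e + e + 1 := by
  have hs1 : s = 1 := by
    by_contra hne
    have h2 : 2 ≤ s := by omega
    have : 2 * e ≤ d := by rw [hds]; nlinarith
    nlinarith
  subst hs1
  rw [mul_one] at hds
  subst hds
  refine ⟨rfl, ?_⟩
  obtain ⟨k, hk⟩ := hdvd
  have hq1 : q = d * k + 1 := by omega
  have hk1 : d < k := by
    by_contra hcon
    push Not at hcon
    have : d * k ≤ d * d := Nat.mul_le_mul_left d hcon
    omega
  have hk2 : k < d + 2 := by
    by_contra hcon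
    push Not at hcon
    have : d * (d + 2) ≤ d * k := Nat.mul_le_mul_left d hcon
    nlinarith
  have hk3 : k = d + 1 := by omega
  rw [hq1, hk3]
  ring

end Setup

end Cfsg.Agent.Lib.Helper4.BL
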