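import Mathlib
import Cfsg.Agent.Lib.Helper4.BLj

set_option autoImplicit false
set_option linter.unusedSectionVars false

/-!
# Brauer-Leonard, part k: multiplicity vectors of a special shape
-/

namespace Cfsg.Agent.Lib.Helper4.BL

open Cfsg Cfsg.Agent.Lib.Helper1 Cfsg.Agent.Lib.Helper4 Cfsg.Agent.Lib.Helper8
open scoped ComplexConjugate
open Classical

universe u

namespace Setup

variable {G : Type u} [Group G] [Fintype G] {S : Setup G}

/-- shape of a multiplicity vector: `a` on one nontrivial orbit, `b` on the trivial character of `C`,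
zero elsewhere -/
def Shape (S : Setup G) (m : IrrCharacter S.C → ℕ) (σ₁ : IrrCharacter S.C) (a b : ℕ) : Prop :=
  S.lam σ₁ ≠ 1 ∧ (∀ σ, S.lam σ ≠ 1 → m σ = if σ ∈ MulAction.orbit S.N σ₁ then a else 0) ∧
    m S.oneC = b ∧ ∀ τ, S.lam τ = 1 → τ ≠ S.oneC → m τ = 0

/-- the members of the orbit lying in the family of the trivial character -/
noncomputable def TT (S : Setup G) (σ₁ : IrrCharacter S.C) : Finset (IrrCharacter S.C) :=
  (S.orbF σ₁).filter (fun σ => S.trivOf σ = S.oneC)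

/-- the members of the orbit not lying in the family of the trivial character -/
noncomputable def TT' (S : Setup G) (σ₁ : IrrCharacter S.C) : Finset (IrrCharacter S.C) :=
  (S.orbF σ₁).filter (fun σ => ¬ S.trivOf σ = S.oneC)

theorem card_TT_add {σ₁ : IrrCharacter S.C} (hσ₁ : S.lam σ₁ ≠ 1) :
    (S.TT σ₁).card + (S.TT' σ₁).card = S.e := by
  rw [TT, TT', Finset.card_filter_add_card_filter_not, S.card_orbF σ₁ hσ₁]

section ShapeLemmas

variable {m : IrrCharacter S.C → ℕ} {σ₁ : IrrCharacter S.C} {a b : ℕ}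

theorem uu_shape (hS : S.Shape m σ₁ a b) (σ : IrrCharacter S.C) :
    S.uu m σ = if σ ∈ S.orbF σ₁ then a else 0 := by
  rw [uu]
  by_cases hl : S.lam σ = 1
  · rw [if_pos hl, if_neg]
    intro hm
    exact S.lam_ne_of_mem_orbit (S.mem_orbF.1 hm) hS.1 hl
  · rw [if_neg hl, hS.2.1 σ hl]
    by_cases hm : σ ∈ MulAction.orbit S.N σ₁
    · rw [if_pos hm, if_pos (S.mem_orbF.2 hm)]
    · rw [if_neg hm, if_neg (fun h' => hm (S.mem_orbF.1 h'))]

theorem bb_shape (hS : S.Shape m σ₁ a b) (σ : IrrCharacter S.C) :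
    S.bb m σ = if σ = S.oneC then b else 0 := by
  rw [bb]
  by_cases h : σ = S.oneC
  · rw [if_pos h, h, if_pos lam_oneC, hS.2.2.1]
  · rw [if_neg h]
    by_cases hl : S.lam σ = 1
    · rw [if_pos hl, hS.2.2.2 σ hl h]
    · rw [if_neg hl]

theorem U2_shape (hS : S.Shape m σ₁ a b) : S.U2 m = a * a * S.e := by
  rw [U2]
  simp_rw [uu_shape hS]
  have : ∀ σ : IrrCharacter S.C, ((if σ ∈ S.orbF σ₁ then a else 0) * (if σ ∈ S.orbF σ₁ then a else 0) : ℕ)
      = if σ ∈ S.orbF σ₁ then a * a else 0 := by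
    intro σ
    split_ifs <;> simp
  simp_rw [this]
  rw [sum_ite_mem_const, S.card_orbF σ₁ hS.1, mul_comm]

theorem sum_uu_shape (hS : S.Shape m σ₁ a b) : ∑ σ : IrrCharacter S.C, S.uu m σ = S.e * a := by
  simp_rw [uu_shape hS]
  rw [sum_ite_mem_const, S.card_orbF σ₁ hS.1]

theorem BB_shape (hS : S.Shape m σ₁ a b) : S.BB m = b * b := by
  rw [BB, Finset.sum_eq_single S.oneC]
  · rw [bb_shape hS, if_pos rfl]
  · intro σ _ hne
    rw [bb_shape hS, if_neg hne, mul_zero]
  · intro h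
    exact absurd (Finset.mem_univ _) h

theorem mem_TT {σ₁ σ : IrrCharacter S.C} :
    σ ∈ S.TT σ₁ ↔ σ ∈ S.orbF σ₁ ∧ S.trivOf σ = S.oneC := by
  rw [TT, Finset.mem_filter]

theorem mem_TT' {σ₁ σ : IrrCharacter S.C} :
    σ ∈ S.TT' σ₁ ↔ σ ∈ S.orbF σ₁ ∧ ¬ S.trivOf σ = S.oneC := by
  rw [TT', Finset.mem_filter]

theorem UB_shape (hS : S.Shape m σ₁ a b) : S.UB m = a * b * (S.TT σ₁).card := by
  rw [UB]
  have : ∀ σ : IrrCharacter S.C, S.uu m σ * m (S.trivOf σ)
      = if σ ∈ S.TT σ₁ then a * b else 0 := by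
    intro σ
    rw [uu_shape hS, ← S.bb_trivOf m σ, bb_shape hS]
    by_cases h1 : σ ∈ S.orbF σ₁
    · by_cases h2 : S.trivOf σ = S.oneC
      · rw [if_pos h1, if_pos h2, if_pos (mem_TT.2 ⟨h1, h2⟩)]
      · rw [if_pos h1, if_neg h2, if_neg (fun h => h2 (mem_TT.1 h).2), mul_zero]
    · rw [if_neg h1, if_neg (fun h => h1 (mem_TT.1 h).1), zero_mul]
  simp_rw [this]
  rw [sum_ite_mem_const, mul_comm]

theorem UU_shape (hS : S.Shape m σ₁ a b) :
    S.UU m ≤ a * a * ((S.TT σ₁).card * (S.TT σ₁).card + (S.TT' σ₁).card * (S.TT' σ₁).card) := by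
  have hinner : ∀ σ : IrrCharacter S.C,
      (∑ τ : IrrCharacter S.C, if S.SameFam τ σ then S.uu m σ * S.uu m τ else 0)
        ≤ (if σ ∈ S.TT σ₁ then a * a * (S.TT σ₁).card else 0)
          + (if σ ∈ S.TT' σ₁ then a * a * (S.TT' σ₁).card else 0) := by
    intro σ
    by_cases hσ : σ ∈ S.orbF σ₁
    · have hterm : ∀ τ : IrrCharacter S.C, (if S.SameFam τ σ then S.uu m σ * S.uu m τ else 0)
          = if τ ∈ (S.orbF σ₁).filter (fun τ => S.SameFam τ σ) then a * a else 0 := by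
        intro τ
        have hW : τ ∈ (S.orbF σ₁).filter (fun τ => S.SameFam τ σ) ↔
            τ ∈ S.orbF σ₁ ∧ S.SameFam τ σ := Finset.mem_filter
        rw [uu_shape hS σ, uu_shape hS τ, if_pos hσ]
        by_cases h1 : S.SameFam τ σ
        · by_cases h2 : τ ∈ S.orbF σ₁
          · rw [if_pos h1, if_pos h2, if_pos (hW.2 ⟨h2, h1⟩)]
          · rw [if_pos h1, if_neg h2, if_neg (fun h => h2 (hW.1 h).1), mul_zero]
        · rw [if_neg h1, if_neg (fun h => h1 (hW.1 h).2)]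
      simp_rw [hterm]
      rw [sum_ite_mem_const]
      by_cases ht : S.trivOf σ = S.oneC
      · have hσT : σ ∈ S.TT σ₁ := mem_TT.2 ⟨hσ, ht⟩
        have hsub : (S.orbF σ₁).filter (fun τ => S.SameFam τ σ) ⊆ S.TT σ₁ := by
          intro τ hτ
          rw [Finset.mem_filter] at hτ
          exact mem_TT.2 ⟨hτ.1, ((S.sameFam_iff τ σ).1 hτ.2).trans ht⟩
        rw [if_pos hσT]
        have := Finset.card_le_card hsub
        nlinarith [Nat.zero_le (if σ ∈ S.TT' σ₁ then a * a * (S.TT' σ₁).card else 0)]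
      · have hσT : σ ∈ S.TT' σ₁ := mem_TT'.2 ⟨hσ, ht⟩
        have hsub : (S.orbF σ₁).filter (fun τ => S.SameFam τ σ) ⊆ S.TT' σ₁ := by
          intro τ hτ
          rw [Finset.mem_filter] at hτ
          refine mem_TT'.2 ⟨hτ.1, fun h' => ht ?_⟩
          rw [← (S.sameFam_iff τ σ).1 hτ.2]
          exact h'
        rw [if_pos hσT]
        have := Finset.card_le_card hsub
        nlinarith [Nat.zero_le (if σ ∈ S.TT σ₁ then a * a * (S.TT σ₁).card else 0)]
    · have : ∀ τ : IrrCharacter S.C, (if S.SameFam τ σ then S.uu m σ * S.uu m τ else 0) = 0 := by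
        intro τ
        rw [uu_shape hS σ, if_neg hσ, zero_mul]
        simp
      simp_rw [this]
      simp
  rw [UU]
  refine le_trans (Finset.sum_le_sum fun σ _ => hinner σ) ?_
  rw [Finset.sum_add_distrib, sum_ite_mem_const, sum_ite_mem_const]
  apply le_of_eq
  ring

end ShapeLemmas

end Setup

end Cfsg.Agent.Lib.Helper4.BL
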