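import Mathlib
import Cfsg.Agent.Lib.Helper4.BLk

set_option autoImplicit false
set_option linter.unusedSectionVars false

/-!
# Brauer-Leonard, part l: the key proposition

Under the abstract hypotheses, if `G` is generated by the conjugates of `P` (in the form: every
irreducible character whose kernel contains `P` is trivial), then no irreducible character `ψ`
nontrivial on `P` has degree `d ≥ 2` with `d² + 1 < |P|`.
-/

namespace Cfsg.Agent.Lib.Helper4.BL

open Cfsg Cfsg.Agent.Lib.Helper1 Cfsg.Agent.Lib.Helper4 Cfsg.Agent.Lib.Helper8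
open scoped ComplexConjugate
open Classical

universe u

namespace Setup

variable {G : Type u} [Group G] [Fintype G] {S : Setup G}

theorem e_dvd' : S.e ∣ S.q - 1 := S.e_dvd

/-- the basic inequality for a multiplicity vector of the special shape -/
theorem nc_shape {X : G → ℂ} (hX : IsCharacter G X) (hX1 : X 1 ≠ 0) {k : ℕ}
    (hk : classInner X X = (k : ℂ)) {σ₁ : IrrCharacter S.C} {a b : ℕ}
    (hS : S.Shape (S.mu X) σ₁ a b) :
    S.q * (a * a * S.e + b * b) < S.q * S.e * k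
      + a * a * ((S.TT σ₁).card * (S.TT σ₁).card + (S.TT' σ₁).card * (S.TT' σ₁).card)
      + 2 * (a * b * (S.TT σ₁).card) + b * b := by
  have h := S.nc_nat hX hX1 hk
  rw [AA_eq, DD_eq, U2_shape hS, BB_shape hS, UB_shape hS] at h
  have h2 := UU_shape hS
  omega

theorem BB_zero_of_ptN {X : G → ℂ} (hpt : S.ptN X = 0) : S.BB (S.mu X) = 0 := by
  rw [BB]
  apply Finset.sum_eq_zero
  intro σ _
  have : S.bb (S.mu X) σ = 0 := by
    rw [bb]
    by_cases hl : S.lam σ = 1
    · rw [if_pos hl, mu_triv_zero hpt hl]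
    · rw [if_neg hl]
  rw [this, mul_zero]

theorem mu_sq_oneC {ψ : G → ℂ} (hψ : IsIrrCharacter G ψ) {σ₀ : IrrCharacter S.C}
    (h : S.OneOrbit ψ σ₀) (hpt : S.ptN ψ = 0) : S.mu (sq ψ) S.oneC = S.e := by
  apply S.mu_eq_of_inner
  have h1 : classInner (S.res (sq ψ)) (S.oneC : S.C → ℂ) = classInner (S.res ψ) (S.res ψ) := by
    rw [classInner_def, classInner_def]
    congr 1
    refine Finset.sum_congr rfl fun c _ => ?_
    rw [oneC_apply, res_apply, res_apply, sq]
    simp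
  rw [h1, S.norm_res (isCharacter_of_irr hψ)]
  have h2 : S.AA (S.mu ψ) = S.e := by
    rw [AA_eq, U2_of_oneOrbit h, BB_zero_of_ptN hpt, add_zero]
  rw [← h2, AA]
  push_cast
  rfl

theorem mu_sq_triv {ψ : G → ℂ} (hψ : IsIrrCharacter G ψ) {σ₀ : IrrCharacter S.C}
    (h : S.OneOrbit ψ σ₀) (hpt : S.ptN ψ = 0) (hdeg : S.deg σ₀ = 1) {τ : IrrCharacter S.C}
    (hτ : S.lam τ = 1) (hne : τ ≠ S.oneC) : S.mu (sq ψ) τ = 0 := by
  have hpt2 := ptN_sq hψ h hpt
  rw [hdeg, mul_one, mul_one, ptN] at hpt2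
  have hsplit : (if S.lam S.oneC = 1 then S.mu (sq ψ) S.oneC * S.deg S.oneC else 0)
      + (∑ σ ∈ Finset.univ.erase S.oneC,
        if S.lam σ = 1 then S.mu (sq ψ) σ * S.deg σ else 0)
      = ∑ σ : IrrCharacter S.C, if S.lam σ = 1 then S.mu (sq ψ) σ * S.deg σ else 0 :=
    Finset.add_sum_erase Finset.univ
      (fun σ : IrrCharacter S.C => if S.lam σ = 1 then S.mu (sq ψ) σ * S.deg σ else 0)
      (Finset.mem_univ S.oneC)
  rw [hpt2, if_pos lam_oneC, mu_sq_oneC hψ h hpt, deg_oneC, mul_one] at hsplit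
  have hzero : (∑ σ ∈ Finset.univ.erase S.oneC,
      if S.lam σ = 1 then S.mu (sq ψ) σ * S.deg σ else 0) = 0 := by omega
  rw [Finset.sum_eq_zero_iff] at hzero
  have := hzero τ (Finset.mem_erase.2 ⟨hne, Finset.mem_univ _⟩)
  rw [if_pos hτ] at this
  rcases Nat.mul_eq_zero.1 this with h0 | h0
  · exact h0
  · exact absurd h0 (S.deg_pos τ).ne'

theorem mu_le_of_constituent {Y ξ : G → ℂ} (hY : IsCharacter G Y) (hξ : IsIrrCharacter G ξ)
    {m : ℕ} (hm : 0 < m) (hin : classInner Y ξ = (m : ℂ)) (σ : IrrCharacter S.C) :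
    S.mu ξ σ ≤ S.mu Y σ := by
  have hsub := isCharacter_sub_irr hY hξ hm hin
  have hsplit : Y = (Y - ξ) + ξ := (sub_add_cancel _ _).symm
  have := S.mu_add hsub (isCharacter_of_irr hξ) σ
  rw [← hsplit] at this
  omega

theorem mu_nsmul {X : G → ℂ} (hX : IsCharacter G X) (n : ℕ) (σ : IrrCharacter S.C) :
    S.mu (n • X) σ = n * S.mu X σ := by
  rw [← Nat.cast_smul_eq_nsmul ℂ n X]
  exact mu_smul_nat hX n σ

/-- the key proposition -/
theorem kp (hdag : ∀ ξ : G → ℂ, IsIrrCharacter G ξ → (∀ x : S.P, ξ x = ξ 1) → ξ = fun _ => 1)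
    {ψ : G → ℂ} (hψ : IsIrrCharacter G ψ) {d : ℕ} (hd : ψ 1 = (d : ℂ)) (hd2 : 2 ≤ d)
    (hq : d * d + 1 < S.q) (hP : ∃ x : S.P, ψ x ≠ ψ 1) : False := by
  obtain ⟨σ₀, hone, hpt, hds⟩ := small_char hψ hd hd2 hq hP
  obtain ⟨ξ, σ₁, hξ, hξne, ⟨m, hm0, hm⟩, hone₁, hptξ⟩ :=
    exists_xi hdag hψ hd hd2 hq hone hpt hds
  have hq' := q_le_of_ptN hξ hone₁ hptξ
  obtain ⟨hs1, hqe⟩ := tight_arith S.e_pos (S.deg_pos σ₀) hds hq hq' e_dvd'
  have hξc := isCharacter_of_irr hξ
  have htriv : ∀ τ, S.lam τ = 1 → τ ≠ S.oneC → S.mu ξ τ = 0 := by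
    intro τ hτ hne
    have h1 := mu_le_of_constituent (S := S) (isCharacter_sq hψ) hξ hm0 hm τ
    rw [mu_sq_triv hψ hone hpt hs1 hτ hne] at h1
    omega
  have hshape : S.Shape (S.mu ξ) σ₁ 1 (S.mu ξ S.oneC) := ⟨hone₁.1, hone₁.2, rfl, htriv⟩
  have hb : 1 ≤ S.mu ξ S.oneC := by
    by_contra hb
    apply hptξ
    rw [ptN]
    apply Finset.sum_eq_zero
    intro τ _
    by_cases hl : S.lam τ = 1
    · rw [if_pos hl]
      by_cases hτ : τ = S.oneC
      · rw [hτ]
        have : S.mu ξ S.oneC = 0 := by omega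
        rw [this, zero_mul]
      · rw [htriv τ hl hτ, zero_mul]
    · rw [if_neg hl]
  have hnc := nc_shape hξc (irr_apply_one_ne_zero hξ) (k := 1)
    (by rw [classInner_irr_self hξ]; simp) hshape
  have hT := card_TT_add (S := S) hone₁.1
  set b := S.mu ξ S.oneC with hbdef
  set t := (S.TT σ₁).card with htdef
  set t' := (S.TT' σ₁).card with ht'def
  set e := S.e with hedef
  rw [hqe] at hnc
  have he : e = t + t' := hT.symm
  -- b = 1
  have hb1 : b = 1 := by
    by_contra hne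
    have hb2 : 2 ≤ b := by omega
    have h1 : t * t + t' * t' ≤ e * e := by rw [he]; nlinarith
    have h2 : b * t ≤ b * e := Nat.mul_le_mul_left b (by omega)
    have h3 : e * e * 1 ≤ e * e * (b * b) := Nat.mul_le_mul_left _ (by nlinarith)
    have h4 : e * (2 * b) ≤ e * (b * b) := Nat.mul_le_mul_left _ (by nlinarith)
    nlinarith
  -- t' = 0
  have ht0 : t' = 0 := by
    by_contra hne
    have h1 : 1 ≤ t' := Nat.one_le_iff_ne_zero.2 hne
    rw [hb1, he] at hnc
    have h2 : t ≤ t * t' := Nat.le_mul_of_pos_right t h1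
    nlinarith
  have hte : t = e := by omega
  -- the character Z = e ξ + 1
  have h1irr : IsIrrCharacter G (fun _ => (1 : ℂ)) := Cfsg.Agent.S0161.isIrrCharacter_one
  set Z : G → ℂ := (e : ℂ) • ξ + fun _ => (1 : ℂ) with hZ
  have hZc : IsCharacter G Z := isCharacter_add (isCharacter_nsmul hξc e) (isCharacter_of_irr h1irr)
  have hmuZ : ∀ σ, S.mu Z σ = e * S.mu ξ σ + if σ = S.oneC then 1 else 0 := by
    intro σ
    rw [hZ, S.mu_add (isCharacter_nsmul hξc e) (isCharacter_of_irr h1irr), mu_smul_nat hξc, mu_one]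
  have hshapeZ : S.Shape (S.mu Z) σ₁ e (e + 1) := by
    refine ⟨hone₁.1, ?_, ?_, ?_⟩
    · intro σ hσ
      have hne : σ ≠ S.oneC := fun h => hσ (by rw [h]; exact lam_oneC)
      rw [hmuZ, if_neg hne, hone₁.2 σ hσ, add_zero]
      split_ifs <;> simp
    · rw [hmuZ, if_pos rfl, ← hbdef, hb1, mul_one]
    · intro τ hτ hne
      rw [hmuZ, if_neg hne, htriv τ hτ hne, mul_zero]
  obtain ⟨n, hn⟩ := isCharacter_apply_one hξc
  have hZ1 : Z 1 ≠ 0 := by
    have : Z 1 = ((e * n + 1 : ℕ) : ℂ) := by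
      rw [hZ, Pi.add_apply, Pi.smul_apply, hn, smul_eq_mul]
      push_cast
      rfl
    rw [this]
    exact Nat.cast_ne_zero.2 (Nat.succ_ne_zero _)
  have hZZ : classInner Z Z = ((e * e + 1 : ℕ) : ℂ) := by
    rw [hZ, classInner_add_left, classInner_add_right, classInner_add_right,
      classInner_smul_left, classInner_smul_left, classInner_smul_right, classInner_smul_right,
      classInner_irr_self hξ, classInner_irr_self h1irr, classInner_irr_ne hξ h1irr hξne,
      classInner_irr_ne h1irr hξ (Ne.symm hξne), Complex.conj_natCast]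
    push_cast
    ring
  have hncZ := nc_shape hZc hZ1 hZZ hshapeZ
  rw [← htdef, ← ht'def, hte, ht0, hqe] at hncZ
  have hEq : (e * e + e + 1) * (e * e * e + (e + 1) * (e + 1))
      = (e * e + e + 1) * e * (e * e + 1) + e * e * (e * e + 0 * 0) + 2 * (e * (e + 1) * e)
        + (e + 1) * (e + 1) := by ring
  rw [hEq] at hncZ
  exact lt_irrefl _ hncZ

end Setup

end Cfsg.Agent.Lib.Helper4.BL
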