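import Mathlib
import Cfsg.Agent.Lib.Helper4.BLb

set_option autoImplicit false
set_option linter.unusedSectionVars false

/-!
# Brauer-Leonard, part m: the group theory

A Sylow `p`-subgroup `P` all of whose nonidentity elements have centralizer `C_G(P)` gives rise to
the abstract configuration `Setup`.
-/

namespace Cfsg.Agent.Lib.Helper4.BL

open Cfsg.Agent.Lib.Helper8

universe u

theorem dvd_card_of_orbits {α β : Type*} [Group α] [MulAction α β] [Finite β] {e : ℕ}
    (h : ∀ b : β, (MulAction.orbit α b).ncard = e) : e ∣ Nat.card β := by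
  classical
  haveI : Fintype (MulAction.orbitRel.Quotient α β) := Fintype.ofFinite _
  rw [Nat.card_congr (MulAction.selfEquivSigmaOrbits α β), Nat.card_sigma]
  simp_rw [Nat.card_coe_set_eq, h]
  rw [Finset.sum_const, smul_eq_mul]
  exact Dvd.intro_left _ rfl

theorem card_ne_one_subtype {A : Type*} [Group A] [Finite A] :
    Nat.card {x : A // x ≠ 1} = Nat.card A - 1 := by
  have h1 : {x : A | x ≠ 1} = ({1} : Set A)ᶜ := by
    ext x
    simp
  have h2 : Nat.card {x : A // x ≠ 1} = ({x : A | x ≠ 1}).ncard := Nat.card_coe_set_eq _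
  rw [h2, h1, Set.ncard_compl, Set.ncard_singleton]

section GroupTheory

variable {G : Type u} [Group G] [Finite G] {p : ℕ} [hp : Fact p.Prime] (P : Sylow p G)

/-- the Brauer-Leonard hypothesis: every nonidentity element of `P` has the centralizer of `P` -/
def Star : Prop := ∀ x ∈ (P : Subgroup G), x ≠ 1 →
  Subgroup.centralizer ({x} : Set G) = Subgroup.centralizer ((P : Subgroup G) : Set G)

variable {P}

theorem le_cent (h : Star P) :
    (P : Subgroup G) ≤ Subgroup.centralizer ((P : Subgroup G) : Set G) := by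
  intro x hx
  by_cases hx1 : x = 1
  · rw [hx1]
    exact Subgroup.one_mem _
  · rw [← h x hx hx1, Subgroup.mem_centralizer_iff]
    intro y hy
    rw [Set.mem_singleton_iff] at hy
    rw [hy]

/-- `p`-elements of the normalizer of `P` lie in `P` -/
theorem mem_of_orderOf {z : G} (hz : z ∈ Subgroup.normalizer ((P : Subgroup G) : Set G)) {k : ℕ}
    (hk : orderOf z = p ^ k) : z ∈ (P : Subgroup G) := by
  have h1 : IsPGroup p (Subgroup.zpowers z) := IsPGroup.of_card ((Nat.card_zpowers z).trans hk)
  have h2 : IsPGroup p ((Subgroup.zpowers z ⊔ (P : Subgroup G) : Subgroup G)) :=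
    IsPGroup.to_sup_of_normal_right' h1 P.2 (by rw [Subgroup.zpowers_le]; exact hz)
  have h3 := P.is_maximal' h2 le_sup_right
  have : z ∈ Subgroup.zpowers z ⊔ (P : Subgroup G) :=
    Subgroup.mem_sup_left (Subgroup.mem_zpowers z)
  rw [h3] at this
  exact this

theorem comm_of_mem (h : Star P) {x y : G} (hx : x ∈ (P : Subgroup G))
    (hy : y ∈ (P : Subgroup G)) : x * y = y * x :=
  Subgroup.mem_centralizer_iff.1 (le_cent h hy) x hx

section Transfer

/-- the centralizer of `P` -/
abbrev cent (P : Sylow p G) : Subgroup G := Subgroup.centralizer ((P : Subgroup G) : Set G)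

variable (h : Star P)

/-- `P` as a Sylow subgroup of its centralizer -/
noncomputable def sylC : Sylow p (cent P) := P.subtype (le_cent h)

theorem mem_sylC (c : cent P) : c ∈ (sylC h).toSubgroup ↔ (c : G) ∈ (P : Subgroup G) := by
  rw [sylC, Sylow.coe_subtype, Subgroup.mem_subgroupOf]

theorem sylC_norm : Subgroup.normalizer ((sylC h).toSubgroup : Set (cent P))
    ≤ Subgroup.centralizer ((sylC h).toSubgroup : Set (cent P)) := by
  intro c _
  rw [Subgroup.mem_centralizer_iff]
  intro y hy
  apply Subtype.ext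
  exact (Subgroup.mem_centralizer_iff.1 c.2) y ((mem_sylC h y).1 hy)

/-- the transfer homomorphism from the centralizer of `P` to `P` -/
noncomputable def tau : cent P →* ↥(sylC h).toSubgroup :=
  MonoidHom.transferSylow (sylC h) (sylC_norm h)

/-- identification of `P` inside its centralizer with `P` -/
noncomputable def e1 : ↥(sylC h).toSubgroup ≃* ↥(P : Subgroup G) where
  toFun y := ⟨((y : cent P) : G), (mem_sylC h y.1).1 y.2⟩
  invFun x := ⟨⟨x, le_cent h x.2⟩, (mem_sylC h _).2 x.2⟩
  left_inv y := by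
    apply Subtype.ext
    apply Subtype.ext
    rfl
  right_inv x := by
    apply Subtype.ext
    rfl
  map_mul' a b := by
    apply Subtype.ext
    rfl

noncomputable def tau' : cent P →* ↥(P : Subgroup G) :=
  (e1 h).toMonoidHom.comp (tau h)

noncomputable def theta : ↥(P : Subgroup G) →* ↥(P : Subgroup G) :=
  (tau' h).comp (Subgroup.inclusion (le_cent h))

theorem theta_bijective : Function.Bijective (theta h) := by
  rw [← Finite.injective_iff_bijective]
  rw [injective_iff_map_eq_one]
  intro x hx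
  have h1 : tau h (Subgroup.inclusion (le_cent h) x) = 1 := by
    have : e1 h (tau h (Subgroup.inclusion (le_cent h) x)) = 1 := hx
    exact (MulEquiv.map_eq_one_iff (e1 h)).1 this
  have hdis := MonoidHom.ker_transferSylow_disjoint (sylC h) (sylC_norm h) (sylC h).toSubgroup
    (sylC h).2
  have h2 : Subgroup.inclusion (le_cent h) x = 1 :=
    Subgroup.disjoint_def.1 hdis (MonoidHom.mem_ker.2 h1) ((mem_sylC h _).2 x.2)
  apply Subtype.ext
  have := congrArg (fun c : cent P => (c : G)) h2
  exact this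

/-- the retraction of the centralizer of `P` onto `P` -/
noncomputable def piHom : cent P →* ↥(P : Subgroup G) :=
  (MulEquiv.ofBijective (theta h) (theta_bijective h)).symm.toMonoidHom.comp (tau' h)

theorem piHom_incl (x : (P : Subgroup G)) : piHom h (Subgroup.inclusion (le_cent h) x) = x :=
  (MulEquiv.ofBijective (theta h) (theta_bijective h)).symm_apply_apply x

theorem piHom_eq_one_iff_tau (c : cent P) : piHom h c = 1 ↔ tau h c = 1 := by
  have h1 : piHom h c = (MulEquiv.ofBijective (theta h) (theta_bijective h)).symm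
      (e1 h (tau h c)) := rfl
  rw [h1, MulEquiv.map_eq_one_iff, MulEquiv.map_eq_one_iff]

theorem piHom_eq_one_iff (c : cent P) : piHom h c = 1 ↔ ¬ p ∣ orderOf (c : G) := by
  constructor
  · intro hc hdvd
    rw [piHom_eq_one_iff_tau] at hc
    have hker : c ∈ (tau h).ker := MonoidHom.mem_ker.2 hc
    have h1 : orderOf (⟨c, hker⟩ : (tau h).ker) ∣ Nat.card (tau h).ker := orderOf_dvd_natCard _
    rw [← Subgroup.orderOf_coe, ← Subgroup.orderOf_coe] at h1
    exact MonoidHom.not_dvd_card_ker_transferSylow (sylC h) (sylC_norm h) (hdvd.trans h1)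
  · intro hnd
    obtain ⟨k, hk⟩ := (IsPGroup.iff_orderOf.1 P.2) (piHom h c)
    have h1 : orderOf (piHom h c) ∣ orderOf c := orderOf_map_dvd (piHom h) c
    rw [← Subgroup.orderOf_coe c] at h1
    rcases Nat.eq_zero_or_pos k with hk0 | hk0
    · rw [hk0, pow_zero] at hk
      exact orderOf_eq_one_iff.1 hk
    · exfalso
      apply hnd
      refine dvd_trans ?_ h1
      rw [hk]
      exact dvd_pow_self p hk0.ne'

end Transfer

section Rest

/-- the normalizer of `P` -/
abbrev nrm (P : Sylow p G) : Subgroup G := Subgroup.normalizer ((P : Subgroup G) : Set G)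

theorem cent_le_nrm : cent P ≤ nrm P := Subgroup.centralizer_le_normalizer _

theorem nrm_le_normalizer_cent : nrm P ≤ Subgroup.normalizer ((cent P : Subgroup G) : Set G) :=
  (Subgroup.normal_subgroupOf_iff_le_normalizer (Subgroup.centralizer_le_normalizer _)).1
    (Subgroup.normal_subgroupOf_centralizer_normalizer _)

theorem semiconj_conj (g x : G) : SemiconjBy g x (g * x * g⁻¹) := by
  unfold SemiconjBy
  group

theorem orderOf_conj' (g x : G) : orderOf (g * x * g⁻¹) = orderOf x :=
  (SemiconjBy.orderOf_eq g (semiconj_conj g x)).symm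

/-- the action of the normalizer on the nonidentity elements of `P` -/
noncomputable def actX (P : Sylow p G) : MulAction (nrm P) {x : (P : Subgroup G) // x ≠ 1} where
  smul n x := ⟨conjAutOn (P : Subgroup G) n n.2 x.1,
    fun hx => x.2 ((MulEquiv.map_eq_one_iff _).1 hx)⟩
  one_smul x := by
    apply Subtype.ext
    apply Subtype.ext
    show ((1 : nrm P) : G) * ((x.1 : (P : Subgroup G)) : G) * ((1 : nrm P) : G)⁻¹
      = ((x.1 : (P : Subgroup G)) : G)
    simp
  mul_smul a b x := by
    apply Subtype.ext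
    apply Subtype.ext
    show ((a * b : nrm P) : G) * ((x.1 : (P : Subgroup G)) : G) * ((a * b : nrm P) : G)⁻¹
      = (a : G) * ((b : G) * ((x.1 : (P : Subgroup G)) : G) * (b : G)⁻¹) * (a : G)⁻¹
    simp [mul_assoc]

variable (h : Star P)
include h

/-- if a `p`-singular element of the centralizer is conjugated into the centralizer, the
conjugating element maps `P` into `P` -/
theorem conj_mem_of_ti {c g : G} (hc : c ∈ cent P) (hcp : p ∣ orderOf c)
    (hg : g * c * g⁻¹ ∈ cent P) {x : G} (hx : x ∈ (P : Subgroup G)) :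
    g * x * g⁻¹ ∈ (P : Subgroup G) := by
  have ho : orderOf c ≠ 0 := (orderOf_pos c).ne'
  obtain ⟨k, m, hm, hkm⟩ := Nat.exists_eq_pow_mul_and_not_dvd ho p hp.out.ne_one
  have hk : k ≠ 0 := by
    rintro rfl
    rw [pow_zero, one_mul] at hkm
    exact hm (hkm ▸ hcp)
  have hm0 : m ≠ 0 := by
    rintro rfl
    rw [mul_zero] at hkm
    exact ho hkm
  have hpk1 : p ^ k ≠ 1 := (Nat.one_lt_pow hk hp.out.one_lt).ne'
  have hyo : orderOf (c ^ m) = p ^ k := by
    rw [orderOf_pow_of_dvd hm0 (Dvd.intro_left _ hkm.symm), hkm,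
      Nat.mul_div_cancel _ (Nat.pos_of_ne_zero hm0)]
  have hyC : c ^ m ∈ cent P := Subgroup.pow_mem _ hc m
  have hyP : c ^ m ∈ (P : Subgroup G) := mem_of_orderOf (cent_le_nrm hyC) hyo
  have hy'eq : g * c ^ m * g⁻¹ = (g * c * g⁻¹) ^ m := (conj_pow).symm
  have hy'C : g * c ^ m * g⁻¹ ∈ cent P := by
    rw [hy'eq]
    exact Subgroup.pow_mem _ hg m
  have hy'o : orderOf (g * c ^ m * g⁻¹) = p ^ k := by rw [orderOf_conj', hyo]
  have hy'P : g * c ^ m * g⁻¹ ∈ (P : Subgroup G) := mem_of_orderOf (cent_le_nrm hy'C) hy'o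
  have hy'1 : g * c ^ m * g⁻¹ ≠ 1 := by
    intro h1
    rw [h1, orderOf_one] at hy'o
    exact hpk1 hy'o.symm
  have hcomm : g * c ^ m * g⁻¹ * (g * x * g⁻¹) = (g * x * g⁻¹) * (g * c ^ m * g⁻¹) := by
    have := comm_of_mem h hyP hx
    calc g * c ^ m * g⁻¹ * (g * x * g⁻¹) = g * (c ^ m * x) * g⁻¹ := by group
      _ = g * (x * c ^ m) * g⁻¹ := by rw [this]
      _ = _ := by group
  have hxC : g * x * g⁻¹ ∈ cent P := by
    show g * x * g⁻¹ ∈ Subgroup.centralizer ((P : Subgroup G) : Set G)
    rw [← h _ hy'P hy'1, Subgroup.mem_centralizer_iff]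
    intro z hz
    rw [Set.mem_singleton_iff] at hz
    rw [hz]
    exact hcomm
  obtain ⟨j, hj⟩ := (IsPGroup.iff_orderOf.1 P.2) ⟨x, hx⟩
  have hxo : orderOf (g * x * g⁻¹) = p ^ j := by
    rw [orderOf_conj', ← hj, ← Subgroup.orderOf_coe]
  exact mem_of_orderOf (cent_le_nrm hxC) hxo

theorem ti_mem {c g : G} (hc : c ∈ cent P) (hcp : p ∣ orderOf c)
    (hg : g * c * g⁻¹ ∈ cent P) : g ∈ nrm P := by
  show g ∈ Subgroup.normalizer ((P : Subgroup G) : Set G)
  rw [Subgroup.mem_normalizer_iff]
  intro x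
  constructor
  · exact fun hx => conj_mem_of_ti h hc hcp hg hx
  · intro hx
    have hcp' : p ∣ orderOf (g * c * g⁻¹) := by rwa [orderOf_conj']
    have hg' : g⁻¹ * (g * c * g⁻¹) * g⁻¹⁻¹ ∈ cent P := by
      have : g⁻¹ * (g * c * g⁻¹) * g⁻¹⁻¹ = c := by group
      rw [this]
      exact hc
    have := conj_mem_of_ti h hg hcp' hg' hx
    have e : g⁻¹ * (g * x * g⁻¹) * g⁻¹⁻¹ = x := by group
    rwa [e] at this

theorem comm_surj {n : G} (hn : n ∈ nrm P) (hnC : n ∉ cent P) {y : G}
    (hy : y ∈ (P : Subgroup G)) : ∃ x ∈ (P : Subgroup G), x⁻¹ * (n * x * n⁻¹) = y := by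
  have hc : ∀ a b : (P : Subgroup G), a * b = b * a :=
    fun a b => Subtype.ext (comm_of_mem h a.2 b.2)
  let φ : (P : Subgroup G) ≃* (P : Subgroup G) := conjAutOn (P : Subgroup G) n hn
  let f : (P : Subgroup G) →* (P : Subgroup G) := MonoidHom.mk' (fun x => x⁻¹ * φ x) (by
    intro a b
    show (a * b)⁻¹ * φ (a * b) = a⁻¹ * φ a * (b⁻¹ * φ b)
    rw [map_mul, mul_inv_rev]
    calc b⁻¹ * a⁻¹ * (φ a * φ b) = a⁻¹ * (b⁻¹ * φ a) * φ b := by rw [hc b⁻¹ a⁻¹]; group
      _ = a⁻¹ * (φ a * b⁻¹) * φ b := by rw [hc b⁻¹ (φ a)]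
      _ = a⁻¹ * φ a * (b⁻¹ * φ b) := by group)
  have hinj : Function.Injective f := by
    rw [injective_iff_map_eq_one]
    intro x hx
    by_contra hx1
    have h1 : x⁻¹ * φ x = 1 := hx
    have h2 : φ x = x := by
      have := congrArg (fun z => x * z) h1
      simpa using this
    have h3 : n * (x : G) * n⁻¹ = (x : G) := congrArg Subtype.val h2
    have hx1' : (x : G) ≠ 1 := fun h0 => hx1 (Subtype.ext h0)
    apply hnC
    show n ∈ Subgroup.centralizer ((P : Subgroup G) : Set G)
    rw [← h _ x.2 hx1', Subgroup.mem_centralizer_iff]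
    intro z hz
    rw [Set.mem_singleton_iff] at hz
    rw [hz]
    calc (x : G) * n = (n * (x : G) * n⁻¹) * n := by rw [h3]
      _ = n * (x : G) := by group
  have hsurj : Function.Surjective f := Finite.injective_iff_surjective.1 hinj
  obtain ⟨x, hx⟩ := hsurj ⟨y, hy⟩
  refine ⟨x, x.2, ?_⟩
  exact congrArg Subtype.val hx

theorem relIndex_dvd : (cent P).relIndex (nrm P) ∣ Nat.card (P : Subgroup G) - 1 := by
  letI := actX P
  rw [← card_ne_one_subtype]
  apply dvd_card_of_orbits (α := nrm P)
  intro x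
  rw [← MulAction.index_stabilizer]
  have hst : MulAction.stabilizer (nrm P) x = (cent P).subgroupOf (nrm P) := by
    ext n
    rw [MulAction.mem_stabilizer_iff, Subgroup.mem_subgroupOf]
    constructor
    · intro hn
      have h1 : (n : G) * ((x.1 : (P : Subgroup G)) : G) * (n : G)⁻¹
          = ((x.1 : (P : Subgroup G)) : G) :=
        congrArg (fun z : {x : (P : Subgroup G) // x ≠ 1} => ((z.1 : (P : Subgroup G)) : G)) hn
      have hx1 : ((x.1 : (P : Subgroup G)) : G) ≠ 1 := fun h0 => x.2 (Subtype.ext h0)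
      show (n : G) ∈ Subgroup.centralizer ((P : Subgroup G) : Set G)
      rw [← h _ x.1.2 hx1, Subgroup.mem_centralizer_iff]
      intro z hz
      rw [Set.mem_singleton_iff] at hz
      rw [hz]
      calc ((x.1 : (P : Subgroup G)) : G) * n
          = ((n : G) * ((x.1 : (P : Subgroup G)) : G) * (n : G)⁻¹) * n := by rw [h1]
        _ = n * ((x.1 : (P : Subgroup G)) : G) := by group
    · intro hn
      apply Subtype.ext
      apply Subtype.ext
      show (n : G) * ((x.1 : (P : Subgroup G)) : G) * (n : G)⁻¹ = ((x.1 : (P : Subgroup G)) : G)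
      have := Subgroup.mem_centralizer_iff.1 hn ((x.1 : (P : Subgroup G)) : G) x.1.2
      calc (n : G) * ((x.1 : (P : Subgroup G)) : G) * (n : G)⁻¹
          = (((x.1 : (P : Subgroup G)) : G) * n) * (n : G)⁻¹ := by rw [this]
        _ = ((x.1 : (P : Subgroup G)) : G) := by group
  rw [hst]
  rfl

/-- the abstract configuration attached to a Sylow subgroup satisfying the hypothesis -/
noncomputable def mkSetup : Setup G where
  P := P
  C := cent P
  N := nrm P
  π := piHom h
  hPC := le_cent h
  hCN := cent_le_nrm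
  hNC := nrm_le_normalizer_cent
  hNP := le_refl _
  central := fun x hx c hc => Subgroup.mem_centralizer_iff.1 hc x hx
  π_P := fun x hx => piHom_incl h ⟨x, hx⟩
  kerN := by
    intro n hn c c' hcc hc
    rw [piHom_eq_one_iff] at hc ⊢
    rw [hcc, orderOf_conj']
    exact hc
  ti := by
    intro c hc g hg
    have hcp : p ∣ orderOf (c : G) := by
      by_contra hnd
      exact hc ((piHom_eq_one_iff h c).2 hnd)
    exact ti_mem h c.2 hcp hg
  comm_surj := fun n hn hnC y hy => comm_surj h hn hnC hy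
  e_dvd := relIndex_dvd h

theorem mkSetup_P : (mkSetup h).P = (P : Subgroup G) := rfl

end Rest

end GroupTheory

end Cfsg.Agent.Lib.Helper4.BL
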