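import Mathlib
import Cfsg.Agent.Lib.Helper4.BLl
import Cfsg.Agent.Lib.Helper4.BLm
import Cfsg.Agent.S0139

set_option autoImplicit false
set_option linter.unusedSectionVars false

/-!
# Brauer-Leonard, part n: the theorem
-/

namespace Cfsg.Agent.Lib.Helper4.BL

open Cfsg Cfsg.Agent.Lib.Helper1 Cfsg.Agent.Lib.Helper4 Cfsg.Agent.Lib.Helper8
open scoped ComplexConjugate
open Classical

universe u

section Kernel

variable {G : Type u} [Group G] [Finite G]

/-- the kernel of an irreducible character is a normal subgroup -/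
theorem exists_kernel_irr {ψ : G → ℂ} (hψ : IsIrrCharacter G ψ) :
    ∃ L : Subgroup G, L.Normal ∧ ∀ g : G, g ∈ L ↔ ψ g = ψ 1 := by
  obtain ⟨n, ρ, -, hρ⟩ := hψ
  refine ⟨MonoidHom.ker ρ, MonoidHom.normal_ker ρ, ?_⟩
  intro g
  rw [MonoidHom.mem_ker, ← hρ, Representation.char_one]
  exact (Cfsg.Agent.S0139.result ρ g).symm

end Kernel

section Top

variable {G : Type u} [Group G] [Fintype G] {p : ℕ} [hp : Fact p.Prime] {P : Sylow p G}

/-- the case in which `G` is generated by the conjugates of `P`: then `G` is abelian -/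
theorem bl_top (h : Star P)
    (htop : ∀ M : Subgroup G, M.Normal → (P : Subgroup G) ≤ M → M = ⊤)
    {χ : G → ℂ} (hχ : IsCharacter G χ) (hfaith : ∀ g, χ g = χ 1 → g = 1) {D : ℕ}
    (hD : χ 1 = (D : ℂ)) (hq : D * D + 1 < Nat.card (P : Subgroup G)) :
    ∀ a b : G, a * b = b * a := by
  set S : Setup G := mkSetup h with hS
  have hSq : S.q = Nat.card (P : Subgroup G) := rfl
  have h1irr : IsIrrCharacter G (fun _ => (1 : ℂ)) := Cfsg.Agent.S0161.isIrrCharacter_one
  -- characters trivial on P are trivial
  have hdag : ∀ ξ : G → ℂ, IsIrrCharacter G ξ → (∀ x : S.P, ξ x = ξ 1) → ξ = fun _ => 1 := by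
    intro ξ hξ hx
    obtain ⟨L, hLn, hL⟩ := exists_kernel_irr hξ
    have hPL : (P : Subgroup G) ≤ L := fun x hxP => (hL x).2 (hx ⟨x, hxP⟩)
    have hLtop := htop L hLn hPL
    have hconst : ∀ g, ξ g = ξ 1 := fun g => (hL g).1 (by rw [hLtop]; trivial)
    by_contra hne
    have h0 := classInner_irr_ne hξ h1irr hne
    rw [classInner_def] at h0
    have h2 : ∑ g : G, ξ g * conj ((fun _ => (1 : ℂ)) g) = (Nat.card G : ℂ) * ξ 1 := by
      simp_rw [hconst]
      simp [Nat.card_eq_fintype_card]
    rw [h2, ← mul_assoc, inv_mul_cancel₀ (Nat.cast_ne_zero.2 Nat.card_pos.ne'), one_mul] at h0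
    exact irr_apply_one_ne_zero hξ h0
  -- every irreducible constituent of χ is linear
  have hlin : ∀ ψ : G → ℂ, IsIrrCharacter G ψ → classInner χ ψ ≠ 0 → ψ 1 = 1 := by
    intro ψ hψ hne
    obtain ⟨d, hd0, hd⟩ := irr_apply_one_pos hψ
    obtain ⟨m, hm⟩ := classInner_char_irr_nat hχ hψ
    have hm0 : 0 < m := by
      rcases Nat.eq_zero_or_pos m with h0 | h0
      · exfalso
        apply hne
        rw [hm, h0]
        simp
      · exact h0
    have hsub := isCharacter_sub_irr hχ hψ hm0 hm
    obtain ⟨n', hn'⟩ := isCharacter_apply_one hsub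
    rw [Pi.sub_apply, hD, hd] at hn'
    have hdD : d ≤ D := by
      have : (D : ℂ) = ((d + n' : ℕ) : ℂ) := by
        push_cast
        rw [← hn']
        ring
      have : D = d + n' := by exact_mod_cast this
      omega
    by_contra hne1
    have hd2 : 2 ≤ d := by
      rcases Nat.lt_or_ge d 2 with hlt | hge
      · exfalso
        apply hne1
        have : d = 1 := by omega
        rw [hd, this]
        simp
      · exact hge
    have hq' : d * d + 1 < S.q := by
      rw [hSq]
      have : d * d ≤ D * D := Nat.mul_le_mul hdD hdD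
      omega
    by_cases hP : ∃ x : S.P, ψ x ≠ ψ 1
    · exact Setup.kp hdag hψ hd hd2 hq' hP
    · push Not at hP
      have := hdag ψ hψ hP
      rw [this] at hd
      have : (1 : ℂ) = (d : ℂ) := hd
      have : d = 1 := by exact_mod_cast this.symm
      omega
  -- commutators lie in the kernel of χ
  intro a b
  have hcomm : a * b * a⁻¹ * b⁻¹ = 1 := by
    apply hfaith
    rw [class_function_expansion χ (isClassFunction_of_isCharacter hχ)]
    simp only [Finset.sum_apply, Pi.smul_apply, smul_eq_mul]
    refine Finset.sum_congr rfl fun ξ _ => ?_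
    by_cases hc : classInner χ (ξ : G → ℂ) = 0
    · rw [hc, zero_mul, zero_mul]
    · obtain ⟨φ, hφ⟩ := exists_hom_of_isIrrCharacter ξ.2 (hlin ξ ξ.2 hc)
      congr 1
      rw [hφ]
      simp only [map_mul, map_inv, map_one]
      have : φ a * φ b * (φ a)⁻¹ * (φ b)⁻¹ = 1 := by
        rw [mul_comm (φ a) (φ b), mul_inv_cancel_right, mul_inv_cancel]
      rw [this]
  calc a * b = (a * b * a⁻¹ * b⁻¹) * (b * a) := by group
    _ = b * a := by rw [hcomm, one_mul]

end Top

section Final

/-- the Brauer-Leonard theorem -/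
theorem bl_final : ∀ (n : ℕ) (G : Type u) [Group G] [Finite G], Nat.card G = n →
    ∀ (p : ℕ) [Fact p.Prime] (P : Sylow p G), Star P → ∀ (χ : G → ℂ), IsCharacter G χ →
    (∀ g, χ g = χ 1 → g = 1) → ∀ D : ℕ, χ 1 = (D : ℂ) →
    D * D + 1 < Nat.card (P : Subgroup G) → (P : Subgroup G).Normal := by
  intro n
  induction n using Nat.strong_induction_on with
  | _ n ih =>
  intro G _ _ hcard p _ P hstar χ hχ hfaith D hD hq
  haveI : Fintype G := Fintype.ofFinite G
  by_cases htop : ∀ M : Subgroup G, M.Normal → (P : Subgroup G) ≤ M → M = ⊤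
  · have hab := bl_top hstar htop hχ hfaith hD hq
    refine ⟨fun x hx g => ?_⟩
    have : g * x * g⁻¹ = x := by rw [hab g x, mul_inv_cancel_right]
    rw [this]
    exact hx
  · push Not at htop
    obtain ⟨M, hMn, hPM, hMtop⟩ := htop
    have hlt : Nat.card M < n := by
      rw [← hcard]
      have h1 : Nat.card M ≤ Nat.card G := Subgroup.card_le_card_group M
      have h2 : Nat.card M ≠ Nat.card G := fun h => hMtop ((Subgroup.card_eq_iff_eq_top M).1 h)
      omega
    -- the Sylow subgroup of M
    set PM : Sylow p M := P.subtype hPM with hPMdef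
    have hmemPM : ∀ m : M, m ∈ (PM : Subgroup M) ↔ (m : G) ∈ (P : Subgroup G) := by
      intro m
      rw [hPMdef, Sylow.coe_subtype, Subgroup.mem_subgroupOf]
    have hstarM : Star PM := by
      intro x hx hx1
      have hxP : (x : G) ∈ (P : Subgroup G) := (hmemPM x).1 hx
      have hx1' : (x : G) ≠ 1 := fun h0 => hx1 (Subtype.ext h0)
      have hst := hstar (x : G) hxP hx1'
      ext m
      rw [Subgroup.mem_centralizer_iff, Subgroup.mem_centralizer_iff]
      constructor
      · intro hm y hy
        have h1 : (m : G) ∈ Subgroup.centralizer ({(x : G)} : Set G) := by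
          rw [Subgroup.mem_centralizer_iff]
          intro z hz
          rw [Set.mem_singleton_iff] at hz
          rw [hz]
          exact congrArg Subtype.val (hm x (Set.mem_singleton x))
        rw [hst, Subgroup.mem_centralizer_iff] at h1
        apply Subtype.ext
        exact h1 (y : G) ((hmemPM y).1 hy)
      · intro hm y hy
        rw [Set.mem_singleton_iff] at hy
        rw [hy]
        exact hm x hx
    have hχM : IsCharacter M (fun m : M => χ m) := Cfsg.Agent.S0148.isCharacter_restrict M hχ
    have hfaithM : ∀ m : M, (fun m : M => χ m) m = (fun m : M => χ m) 1 → m = 1 := by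
      intro m hm
      apply Subtype.ext
      exact hfaith (m : G) hm
    have hcardPM : Nat.card (PM : Subgroup M) = Nat.card (P : Subgroup G) := by
      rw [hPMdef, Sylow.coe_subtype]
      exact Nat.card_congr (Subgroup.subgroupOfEquivOfLe hPM).toEquiv
    have hnormM : (PM : Subgroup M).Normal :=
      ih (Nat.card M) hlt M rfl p PM hstarM (fun m : M => χ m) hχM hfaithM D hD
        (by rw [hcardPM]; exact hq)
    refine ⟨fun x hx g => ?_⟩
    have hyM : g * x * g⁻¹ ∈ M := hMn.conj_mem x (hPM hx) g
    obtain ⟨j, hj⟩ := (IsPGroup.iff_orderOf.1 P.2) ⟨x, hx⟩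
    have hyo : orderOf (⟨g * x * g⁻¹, hyM⟩ : M) = p ^ j := by
      rw [← Subgroup.orderOf_coe, ← hj, ← Subgroup.orderOf_coe]
      exact orderOf_conj' g x
    have hynorm : (⟨g * x * g⁻¹, hyM⟩ : M) ∈ Subgroup.normalizer ((PM : Subgroup M) : Set M) := by
      rw [Subgroup.normalizer_eq_top]
      trivial
    have := mem_of_orderOf hynorm hyo
    exact (hmemPM _).1 this

end Final

end Cfsg.Agent.Lib.Helper4.BL
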