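import Mathlib
import Cfsg.Prelude.Def_Characters
import Cfsg.Prelude.Def_Blocks
import Cfsg.Prelude.Def_BlockRank
import Cfsg.Prelude.Def_BrauerPairs
import Cfsg.Agent.Lib.Helper8.BPS0
import Cfsg.Agent.Lib.Helper8.BPS13
import Cfsg.Agent.Lib.Helper8.BPS15
import Cfsg.Agent.Lib.Helper8.SM6
import Cfsg.Agent.Lib.Helper8.KB1
import Cfsg.Agent.Lib.Helper8.BlockRank

/-!
# Carve-out (Q) of the Broué–Puig project: the section part as an evaluation on the group algebra
-/

set_option autoImplicit false

namespace Cfsg.Agent.Lib.Helper4.BPQ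

open Cfsg Cfsg.Agent.Lib.Helper8 Cfsg.Agent.Lib.Helper8.BPS

variable {M : Ideal AlgInt} {p : ℕ} {G : Type*} [Group G] [Fintype G] [DecidableEq G]

/-- (Q) -/
theorem secPart_eq_ev (hM : IsPModular p M) {u : G} (hu : ∃ k : ℕ, orderOf u = p ^ k)
    (b : Set (IrrCharacter ↥(cent u))) (hb : IsPBlock M b) {χ : G → ℂ}
    (hχ : IsClassFunction G χ) (s : ↥(cent u)) (hs : ¬ p ∣ orderOf s) :
    secPart p (cent u) b u χ s =
      ev χ (og u * og (s : G) * ofFun (subgroupBlockCoeff (cent u) b)) := by
  classical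
  have : Fintype ↥(cent u) := Fintype.ofFinite _
  have hMp := isPModular_isPrime hM
  have hcf : IsClassFunction ↥(cent u) (secFun (cent u) u χ) :=
    isClassFunction_section (cent u) (fun t => mem_cent_iff) hχ
  unfold secPart
  rw [pRegularPart_of_not_dvd _ hs, blockPart_eq_sum_blockCoeff hMp hb hcf s, ← og_mul, ev_og_mul]
  simp_rw [coeff_ofFun]
  -- the sum over `G` is supported on `cent u`
  have h1 : ∑ h : G, subgroupBlockCoeff (cent u) b h * χ (u * (s : G) * h) =
      ∑ h ∈ Finset.univ.filter (fun h : G => h ∈ cent u),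
        subgroupBlockCoeff (cent u) b h * χ (u * (s : G) * h) := by
    rw [Finset.sum_filter]
    refine Finset.sum_congr rfl fun h _ => ?_
    by_cases hh : h ∈ cent u
    · rw [if_pos hh]
    · rw [if_neg hh]
      unfold subgroupBlockCoeff
      rw [dif_neg hh, zero_mul]
  rw [h1]
  have h2 : ∑ h ∈ Finset.univ.filter (fun h : G => h ∈ cent u),
        subgroupBlockCoeff (cent u) b h * χ (u * (s : G) * h) =
      ∑ k : ↥(cent u), subgroupBlockCoeff (cent u) b (k : G) * χ (u * (s : G) * (k : G)) := by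
    exact Finset.sum_subtype (p := fun h : G => h ∈ cent u)
      (Finset.univ.filter (fun h : G => h ∈ cent u)) (fun h => by simp)
      (fun h => subgroupBlockCoeff (cent u) b h * χ (u * (s : G) * h))
  rw [h2]
  refine Finset.sum_congr rfl fun k _ => ?_
  have h3 : subgroupBlockCoeff (cent u) b (k : G) = blockCoeff b k := by
    unfold subgroupBlockCoeff
    rw [dif_pos k.2]
  rw [h3, secFun_apply]
  congr 2
  push_cast
  rw [mul_assoc]

end Cfsg.Agent.Lib.Helper4.BPQ
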