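import Mathlib
import Cfsg.Prelude.Def_Blocks
import Cfsg.Prelude.Def_BlockRank
import Cfsg.Prelude.Def_BrauerPairs
import Cfsg.Prelude.Def_BlockFusion
import Cfsg.Agent.Lib.Helper8.BPS0
import Cfsg.Agent.Lib.Helper8.FS5
import Cfsg.Agent.Lib.Helper8.BHI9

/-!
# Nilpotent blocks: the weight system attached to a class function of the defect group

For a nilpotent block `B` with maximal Brauer pair `(D, e_D)`, two elements carrying the same
Brauer pair into `(D, e_D)` differ by an element of `D` (on the subgroup of the pair).  Hence every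
class function `η` of `D` has a weight system in the sense of `IsStarWeight`.
-/

set_option autoImplicit false

namespace Cfsg.Agent.Lib.Helper4.NilB

open Cfsg Cfsg.Agent.Lib.Helper8 Cfsg.Agent.Lib.Helper8.BPS

universe u

variable {G : Type u} [Group G] [Fintype G] {M : Ideal AlgInt} {p : ℕ} [Fact p.Prime]

/-- the set of elements carrying the Brauer pair `a` into `(D, eD)` -/
def carrP (p : ℕ) (M : Ideal AlgInt) (D : Subgroup G)
    (eD : Set (IrrCharacter ↥(Subgroup.centralizer (D : Set G)))) (a : BrauerPairIdx G) : Set G :=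
  {g | Relation.ReflTransGen (NormalSubpairRel p M) (pairConj g a) ⟨D, eD⟩}

omit [Fintype G] [Fact p.Prime] in
theorem mem_carrP_iff {D : Subgroup G}
    {eD : Set (IrrCharacter ↥(Subgroup.centralizer (D : Set G)))} {a : BrauerPairIdx G} {g : G} :
    g ∈ carrP p M D eD a ↔
      Relation.ReflTransGen (NormalSubpairRel p M) (pairConj g a) ⟨D, eD⟩ := Iff.rfl

omit [Fintype G] [Fact p.Prime] in
theorem mem_carrP_pairConj {D : Subgroup G}
    {eD : Set (IrrCharacter ↥(Subgroup.centralizer (D : Set G)))} {a : BrauerPairIdx G} {g x : G} :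
    g ∈ carrP p M D eD (pairConj x a) ↔ g * x ∈ carrP p M D eD a := by
  rw [mem_carrP_iff, mem_carrP_iff, pairConj_mul]

omit [Fintype G] [Fact p.Prime] in
theorem map_conj_le_of_mem_carrP {D : Subgroup G}
    {eD : Set (IrrCharacter ↥(Subgroup.centralizer (D : Set G)))} {a : BrauerPairIdx G} {g : G}
    (hg : g ∈ carrP p M D eD a) : a.1.map (MulAut.conj g).toMonoidHom ≤ D :=
  subpairRel_le hg

omit [Fintype G] [Fact p.Prime] in
theorem conj_mem_of_mem_carrP {D : Subgroup G}
    {eD : Set (IrrCharacter ↥(Subgroup.centralizer (D : Set G)))} {a : BrauerPairIdx G} {g : G}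
    (hg : g ∈ carrP p M D eD a) {q : G} (hq : q ∈ a.1) : g * q * g⁻¹ ∈ D :=
  map_conj_le_of_mem_carrP hg ⟨q, hq, rfl⟩

/-- **Nilpotent blocks control their fusion by the defect group.** -/
theorem exists_conj_of_mem_carrP (hM : IsPModular p M) {B : Set (IrrCharacter G)}
    {D : Subgroup G} {eD : Set (IrrCharacter ↥(Subgroup.centralizer (D : Set G)))}
    (hmax : IsMaximalBrauerPair p M B D eD) (hnil : IsNilpotentBlock p M B)
    {a : BrauerPairIdx G} {g g' : G} (hg : g ∈ carrP p M D eD a) (hg' : g' ∈ carrP p M D eD a) :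
    ∃ d ∈ D, ∀ q ∈ a.1, g' * q * g'⁻¹ = d * (g * q * g⁻¹) * d⁻¹ := by
  obtain ⟨Q₀, f₀⟩ := a
  set Q : Subgroup G := Q₀.map (MulAut.conj g).toMonoidHom with hQ
  set f := conjBlock Q₀ g f₀ with hf
  have hle : SubpairLE p M Q f D eD := hg
  have hleg : SubpairLE p M (Q.map (MulAut.conj (g' * g⁻¹)).toMonoidHom)
      (conjBlock Q (g' * g⁻¹) f) D eD := by
    show Relation.ReflTransGen (NormalSubpairRel p M)
      (pairConj (g' * g⁻¹) (pairConj g ⟨Q₀, f₀⟩)) ⟨D, eD⟩
    rw [← pairConj_mul, inv_mul_cancel_right]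
    exact hg'
  have hmem : conjHom Q (g' * g⁻¹) ∈ (blockFusionSystem hM D eD hmax.1.1).Hom Q :=
    ⟨subpairLE_le hle, g' * g⁻¹, fun _ => rfl, subpairLE_le hleg, f, hle, hleg⟩
  have hin := inner_of_nilpotent hM hmax (isBlockFusionSystemOn_blockFusionSystem hM hmax) hnil Q
    hmem
  obtain ⟨-, d, hd, hdq⟩ := hin
  refine ⟨d, hd, fun q hq => ?_⟩
  have hqQ : g * q * g⁻¹ ∈ Q := ⟨q, hq, rfl⟩
  have := hdq ⟨g * q * g⁻¹, hqQ⟩
  rw [← this]
  show g' * q * g'⁻¹ = g' * g⁻¹ * (g * q * g⁻¹) * (g' * g⁻¹)⁻¹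
  group

/-- the weight system attached to a function `η` on `D` -/
noncomputable def wOf (p : ℕ) (M : Ideal AlgInt) (D : Subgroup G)
    (eD : Set (IrrCharacter ↥(Subgroup.centralizer (D : Set G)))) (η : D → ℂ) : StarWeight G :=
  fun u b => by
    classical
    exact if h : ∃ g : G, g ∈ carrP p M D eD ⟨Subgroup.zpowers u, b⟩ then
      η ⟨h.choose * u * h.choose⁻¹,
        conj_mem_of_mem_carrP h.choose_spec (Subgroup.mem_zpowers u)⟩
    else 0

omit [Fact p.Prime] in
theorem wOf_of_isEmpty {D : Subgroup G}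
    {eD : Set (IrrCharacter ↥(Subgroup.centralizer (D : Set G)))} (η : D → ℂ) {u : G}
    {b : Set (IrrCharacter ↥(cent u))}
    (h : ¬ ∃ g : G, g ∈ carrP p M D eD ⟨Subgroup.zpowers u, b⟩) : wOf p M D eD η u b = 0 := by
  classical
  unfold wOf
  rw [dif_neg h]

/-- the value of the weight: `η` at the conjugate of `u` by any element carrying `(u, b)` into
`(D, e_D)` -/
theorem wOf_eq (hM : IsPModular p M) {B : Set (IrrCharacter G)}
    {D : Subgroup G} {eD : Set (IrrCharacter ↥(Subgroup.centralizer (D : Set G)))}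
    (hmax : IsMaximalBrauerPair p M B D eD) (hnil : IsNilpotentBlock p M B)
    {η : D → ℂ} (hη : IsClassFunction D η) {u : G} {b : Set (IrrCharacter ↥(cent u))} {g : G}
    (hg : g ∈ carrP p M D eD ⟨Subgroup.zpowers u, b⟩) (hgu : g * u * g⁻¹ ∈ D) :
    wOf p M D eD η u b = η ⟨g * u * g⁻¹, hgu⟩ := by
  classical
  have h : ∃ g : G, g ∈ carrP p M D eD ⟨Subgroup.zpowers u, b⟩ := ⟨g, hg⟩
  unfold wOf
  rw [dif_pos h]
  obtain ⟨d, hd, hdq⟩ := exists_conj_of_mem_carrP hM hmax hnil h.choose_spec hg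
  have h1 := hdq u (Subgroup.mem_zpowers u)
  have h2 : (⟨g * u * g⁻¹, hgu⟩ : D) = (⟨d, hd⟩ : D) * ⟨h.choose * u * h.choose⁻¹,
      conj_mem_of_mem_carrP h.choose_spec (Subgroup.mem_zpowers u)⟩ * (⟨d, hd⟩ : D)⁻¹ := by
    apply Subtype.ext
    exact h1
  rw [h2, hη]

theorem isStarWeight_wOf (hM : IsPModular p M) {B : Set (IrrCharacter G)}
    {D : Subgroup G} {eD : Set (IrrCharacter ↥(Subgroup.centralizer (D : Set G)))}
    (hmax : IsMaximalBrauerPair p M B D eD) (hnil : IsNilpotentBlock p M B)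
    {η : D → ℂ} (hη : IsClassFunction D η) : IsStarWeight p M B D eD η (wOf p M D eD η) := by
  intro u b _ _ g hg hle
  exact wOf_eq hM hmax hnil hη hle hg

omit [Fact p.Prime] in
/-- weights are multiplicative in `η` -/
theorem wOf_mul_conj {D : Subgroup G}
    {eD : Set (IrrCharacter ↥(Subgroup.centralizer (D : Set G)))} (η η' : D → ℂ) (u : G)
    (b : Set (IrrCharacter ↥(cent u))) :
    wOf p M D eD (fun v => η v * (starRingEnd ℂ) (η' v)) u b =
      wOf p M D eD η u b * (starRingEnd ℂ) (wOf p M D eD η' u b) := by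
  classical
  unfold wOf
  by_cases h : ∃ g : G, g ∈ carrP p M D eD ⟨Subgroup.zpowers u, b⟩
  · rw [dif_pos h, dif_pos h, dif_pos h]
  · rw [dif_neg h, dif_neg h, dif_neg h, map_zero, mul_zero]

end Cfsg.Agent.Lib.Helper4.NilB
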