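import Mathlib
import Cfsg.Prelude.Def_Blocks
import Cfsg.Prelude.Def_BlockRank
import Cfsg.Prelude.Def_BrauerPairs
import Cfsg.Agent.Lib.Helper4.NilB1
import Cfsg.Agent.Lib.Helper8.MJ8
import Cfsg.Agent.Lib.Helper8.Sub10

/-!
# The inner product of two `*`-functions, distributed over the subsections
-/

set_option autoImplicit false

namespace Cfsg.Agent.Lib.Helper4.NilB

open scoped ComplexConjugate
open Cfsg Cfsg.Agent.Lib.Helper4 Cfsg.Agent.Lib.Helper8 Cfsg.Agent.Lib.Helper8.BPS
  Cfsg.Agent.Lib.Helper8.MJ Cfsg.Agent.Lib.Helper8.BHI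

universe u

variable {G : Type u} [Group G] [Fintype G] {M : Ideal AlgInt} {p : ℕ} [Fact p.Prime]

/-- the value of a `*`-function at an element with known `p`-part -/
theorem starFun_eq (w : StarWeight G) (ζ : G → ℂ) {g u : G} (h : IsPPart p g u) :
    starFun p M w ζ g = ∑ b ∈ blocksFinset M ↥(cent u),
      w u b * secPart p (cent u) b u ζ ⟨u⁻¹ * g, inv_mul_mem_cent_of_isPPart h⟩ := by
  classical
  have hp : p.Prime := Fact.out
  unfold starFun
  rw [finsum_eq_single _ u]
  · rw [finsum_eq_dif, dif_pos h]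
    have h1 := finsum_mem_eq_finite_toFinset_sum
      (fun b : Set (IrrCharacter ↥(cent u)) =>
        w u b * secPart p (cent u) b u ζ ⟨u⁻¹ * g, inv_mul_mem_cent_of_isPPart h⟩)
      (finite_setOf_isPBlock (H := ↥(cent u)) (M := M))
    exact h1
  · intro u' hne
    rw [finsum_eq_dif, dif_neg]
    intro h'
    exact hne (isPPart_unique hp h' h)

/-- a sum over the group, sorted by the `p`-parts -/
theorem sum_eq_sum_pPart (F : G → ℂ) :
    ∑ g : G, F g = ∑ u : G, ∑ g : G, (by classical exact if IsPPart p g u then F g else 0) := by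
  classical
  have hp : p.Prime := Fact.out
  rw [Finset.sum_comm]
  refine Finset.sum_congr rfl fun g _ => ?_
  obtain ⟨u, hu⟩ := exists_isPPart hp g
  rw [Finset.sum_eq_single u]
  · rw [if_pos hu]
  · intro u' _ hne
    rw [if_neg]
    intro h'
    exact hne (isPPart_unique hp h' hu)
  · intro h
    exact absurd (Finset.mem_univ u) h

/-- the finite set of the `p`-elements -/
noncomputable def pElts (p : ℕ) (G : Type u) [Group G] [Fintype G] : Finset G := by
  classical
  exact Finset.univ.filter (fun u : G => ∃ k : ℕ, orderOf u = p ^ k)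

omit [Fact p.Prime] in
theorem mem_pElts {u : G} : u ∈ pElts p G ↔ ∃ k : ℕ, orderOf u = p ^ k := by
  classical
  unfold pElts
  rw [Finset.mem_filter]
  exact ⟨fun h => h.2, fun h => ⟨Finset.mem_univ _, h⟩⟩

/-- a sum over the group as a sum over the `p`-sections -/
theorem sum_eq_sum_pElts [∀ u : G, Fintype ↥(cent u)] (F : G → ℂ) :
    ∑ g : G, F g = ∑ u ∈ pElts p G, ∑ c : ↥(cent u),
      if p ∣ orderOf c then 0 else F (u * (c : G)) := by
  classical
  rw [sum_eq_sum_pPart (p := p) F]
  rw [← Finset.sum_subset (Finset.subset_univ (pElts p G))]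
  · refine Finset.sum_congr rfl fun u hu => ?_
    rw [mem_pElts] at hu
    have := sum_isPPart_eq_sum_centralizer (p := p) u hu (cent u) (fun t => mem_cent_iff) F
    convert this using 2
  · intro u _ hu
    rw [mem_pElts] at hu
    refine Finset.sum_eq_zero fun g _ => ?_
    rw [if_neg]
    rintro ⟨y, -, -, hk, -⟩
    exact hu hk

omit [Fact p.Prime] in
/-- **block orthogonality** for the `p`-regular parts of the block parts -/
theorem classInner_pRegularPart_blockPart_of_ne (hM : IsPModular p M) {H : Type u} [Group H]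
    [Fintype H] {b b' : Set (IrrCharacter H)} (hb : IsPBlock M b) (hb' : IsPBlock M b')
    (hne : b ≠ b') {F : H → ℂ} (hF : IsClassFunction H F) (F' : H → ℂ) :
    classInner (pRegularPart p (blockPart b F)) (pRegularPart p (blockPart b' F')) = 0 := by
  classical
  have : Fintype (IrrCharacter H) := Fintype.ofFinite _
  have hMp := isPModular_isPrime hM
  rw [← classInner_pRegularPart_left]
  conv_lhs => arg 2; rw [blockPart_eq_sum_smul]
  rw [classInner_sum_right]
  refine Finset.sum_eq_zero fun ψ _ => ?_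
  rw [classInner_smul_right, classInner_pRegularPart_blockPart hM hb hF ψ]
  by_cases hψ' : ψ ∈ b'
  · have hψ : ψ ∉ b := by
      intro hψ
      apply hne
      rw [isPBlock_eq_blockOf hMp hb hψ, isPBlock_eq_blockOf hMp hb' hψ']
    rw [if_neg hψ, mul_zero]
  · rw [if_neg hψ', zero_mul, map_zero, zero_mul]

/-- the inner product of two section parts -/
theorem sum_secPart_mul_conj (hM : IsPModular p M) (C : Subgroup G) [Fintype C] {u : G}
    (hC : ∀ t, t ∈ C ↔ t * u = u * t) {b b' : Set (IrrCharacter C)} (hb : IsPBlock M b)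
    (hb' : IsPBlock M b') {ζ ζ' : G → ℂ} (hζ : IsClassFunction G ζ)
    (hζ' : IsClassFunction G ζ') :
    ∑ c : C, secPart p C b u ζ c * conj (secPart p C b' u ζ' c) =
      if b = b' then (Nat.card C : ℂ) * contrib p C b u ζ ζ' else 0 := by
  classical
  have hC0 : (Nat.card C : ℂ) ≠ 0 := Nat.cast_ne_zero.2 Nat.card_pos.ne'
  have h1 : ∑ c : C, secPart p C b u ζ c * conj (secPart p C b' u ζ' c) =
      (Nat.card C : ℂ) * classInner (secPart p C b u ζ) (secPart p C b' u ζ') := by
    rw [classInner_def, ← mul_assoc, mul_inv_cancel₀ hC0, one_mul]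
  rw [h1]
  by_cases hbb : b = b'
  · subst hbb
    rw [if_pos rfl, contrib_eq_classInner hM C hC hb hζ hζ']
  · rw [if_neg hbb]
    have hcf : IsClassFunction C (secFun C u ζ) := isClassFunction_section C hC hζ
    unfold secPart
    rw [classInner_pRegularPart_blockPart_of_ne hM hb hb' hbb hcf, mul_zero]

/-- **The inner product of two `*`-functions distributed over the subsections.** -/
theorem sum_starFun_mul_conj (hM : IsPModular p M) (w w' : StarWeight G) {ζ ζ' : G → ℂ}
    (hζ : IsClassFunction G ζ) (hζ' : IsClassFunction G ζ') :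
    ∑ g : G, starFun p M w ζ g * conj (starFun p M w' ζ' g) =
      ∑ u ∈ pElts p G, ∑ b ∈ blocksFinset M ↥(cent u),
        w u b * conj (w' u b) *
          ((Nat.card ↥(cent u) : ℂ) * contribF p (cent u) b u ζ ζ') := by
  classical
  have : ∀ u : G, Fintype ↥(cent u) := fun u => Fintype.ofFinite _
  rw [sum_eq_sum_pElts (p := p)]
  refine Finset.sum_congr rfl fun u hu => ?_
  rw [mem_pElts] at hu
  have hC : ∀ t, t ∈ cent u ↔ t * u = u * t := fun t => mem_cent_iff
  -- the value on the section
  have hval : ∀ (w : StarWeight G) (ζ : G → ℂ) (c : ↥(cent u)), ¬ p ∣ orderOf c →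
      starFun p M w ζ (u * (c : G)) =
        ∑ b ∈ blocksFinset M ↥(cent u), w u b * secPart p (cent u) b u ζ c := by
    intro w ζ c hc
    have hcG : ¬ p ∣ orderOf (c : G) := by rwa [Subgroup.orderOf_coe]
    have hpp : IsPPart p (u * (c : G)) u :=
      isPPart_mul_of_commute hu hcG ((hC _).1 c.2).symm
    rw [starFun_eq w ζ hpp]
    refine Finset.sum_congr rfl fun b _ => ?_
    congr 2
    apply Subtype.ext
    show u⁻¹ * (u * (c : G)) = c
    rw [inv_mul_cancel_left]
  have hvan : ∀ (b : Set (IrrCharacter ↥(cent u))) (ζ : G → ℂ) (c : ↥(cent u)),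
      p ∣ orderOf c → secPart p (cent u) b u ζ c = 0 :=
    fun b ζ c hc => (secPart_spec (p := p) (cent u) b u ζ).2 c hc
  have h1 : ∀ c : ↥(cent u),
      (if p ∣ orderOf c then (0 : ℂ) else
        starFun p M w ζ (u * (c : G)) * conj (starFun p M w' ζ' (u * (c : G)))) =
      ∑ b ∈ blocksFinset M ↥(cent u), ∑ b' ∈ blocksFinset M ↥(cent u),
        w u b * conj (w' u b') *
          (secPart p (cent u) b u ζ c * conj (secPart p (cent u) b' u ζ' c)) := by
    intro c
    by_cases hc : p ∣ orderOf c
    · rw [if_pos hc]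
      symm
      refine Finset.sum_eq_zero fun b _ => Finset.sum_eq_zero fun b' _ => ?_
      rw [hvan b ζ c hc, zero_mul, mul_zero]
    · rw [if_neg hc, hval w ζ c hc, hval w' ζ' c hc, map_sum, Finset.sum_mul_sum]
      refine Finset.sum_congr rfl fun b _ => Finset.sum_congr rfl fun b' _ => ?_
      rw [map_mul]
      ring
  simp_rw [h1]
  rw [Finset.sum_comm]
  refine Finset.sum_congr rfl fun b hb => ?_
  rw [mem_blocksFinset] at hb
  rw [Finset.sum_comm]
  have h2 : ∀ b' ∈ blocksFinset M ↥(cent u), ∑ c : ↥(cent u), w u b * conj (w' u b') *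
      (secPart p (cent u) b u ζ c * conj (secPart p (cent u) b' u ζ' c)) =
      if b = b' then w u b * conj (w' u b) *
        ((Nat.card ↥(cent u) : ℂ) * contribF p (cent u) b u ζ ζ') else 0 := by
    intro b' hb'
    rw [mem_blocksFinset] at hb'
    rw [← Finset.mul_sum, sum_secPart_mul_conj hM (cent u) hC hb hb' hζ hζ', contribF_eq]
    by_cases hbb : b = b'
    · subst hbb
      rw [if_pos rfl, if_pos rfl]
    · rw [if_neg hbb, if_neg hbb, mul_zero]
  rw [Finset.sum_congr rfl h2, Finset.sum_ite_eq, if_pos ((mem_blocksFinset b).2 hb)]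

end Cfsg.Agent.Lib.Helper4.NilB
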