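import Mathlib
import Cfsg.Prelude.Def_Blocks
import Cfsg.Prelude.Def_BlockRank
import Cfsg.Prelude.Def_BrauerPairs
import Cfsg.Agent.Lib.Helper4.NilB2
import Cfsg.Agent.Lib.Helper8.PairConj3
import Cfsg.Agent.Lib.Helper8.PairStabConj
import Cfsg.Agent.Lib.Helper8.BHI2
import Cfsg.Agent.Lib.Helper8.VK12

/-!
# Nilpotent blocks: reduction of the subsection sums to the defect group
-/

set_option autoImplicit false

namespace Cfsg.Agent.Lib.Helper4.NilB

open scoped ComplexConjugate
open Cfsg Cfsg.Agent.Lib.Helper4 Cfsg.Agent.Lib.Helper8 Cfsg.Agent.Lib.Helper8.BPS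
  Cfsg.Agent.Lib.Helper8.MJ Cfsg.Agent.Lib.Helper8.BHI Cfsg.Agent.Lib.Helper8.VK

universe u

variable {G : Type u} [Group G] [Fintype G] {M : Ideal AlgInt} {p : ℕ} [Fact p.Prime]

/-- the order of the centralizer times the contribution, as a function of a Brauer pair -/
noncomputable def mm (p : ℕ) (a : BrauerPairIdx G) (y : G) (ζ ξ : G → ℂ) : ℂ :=
  (Nat.card ↥(Subgroup.centralizer ((a.1 : Subgroup G) : Set G)) : ℂ) *
    contribF p (Subgroup.centralizer ((a.1 : Subgroup G) : Set G)) a.2 y ζ ξ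

omit [Fact p.Prime] in
theorem mm_pairConj (g : G) (a : BrauerPairIdx G) (y : G) {ζ ξ : G → ℂ}
    (hζ : IsClassFunction G ζ) (hξ : IsClassFunction G ξ) :
    mm p (pairConj g a) (g * y * g⁻¹) ζ ξ = mm p a y ζ ξ := by
  obtain ⟨Q, f⟩ := a
  unfold mm
  show (Nat.card ↥(Subgroup.centralizer
      ((Q.map (MulAut.conj g).toMonoidHom : Subgroup G) : Set G)) : ℂ) *
      contribF p (Subgroup.centralizer ((Q.map (MulAut.conj g).toMonoidHom : Subgroup G) : Set G))
        (conjBlock Q g f) (g * y * g⁻¹) ζ ξ = _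
  rw [Nat.card_congr (centConj Q g).toEquiv.symm]
  congr 1
  have i1 : Fintype ↥(Subgroup.centralizer (Q : Set G)) := Fintype.ofFinite _
  have i2 : Fintype ↥(Subgroup.centralizer
      ((Q.map (MulAut.conj g).toMonoidHom : Subgroup G) : Set G)) := Fintype.ofFinite _
  rw [contribF_eq, contribF_eq]
  exact contrib_centConj Q g f y hζ hξ

omit [Fintype G] [Fact p.Prime] in
theorem card_carrP_pairConj {D : Subgroup G}
    {eD : Set (IrrCharacter ↥(Subgroup.centralizer (D : Set G)))} (g : G) (a : BrauerPairIdx G) :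
    Nat.card ↥(carrP p M D eD (pairConj g a)) = Nat.card ↥(carrP p M D eD a) := by
  apply Nat.card_congr
  exact (Equiv.mulRight g).subtypeEquiv (fun h => by
    rw [mem_carrP_pairConj]
    rfl)

omit [Fintype G] [Fact p.Prime] in
theorem map_conj_zpowers (g u : G) :
    (Subgroup.zpowers u).map (MulAut.conj g).toMonoidHom = Subgroup.zpowers (g * u * g⁻¹) := by
  rw [MonoidHom.map_zpowers]
  rfl

/-- the Brauer pair below `(D, eD)` on the cyclic group generated by `v` -/
noncomputable def aOf (p : ℕ) (M : Ideal AlgInt) (D : Subgroup G)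
    (eD : Set (IrrCharacter ↥(Subgroup.centralizer (D : Set G)))) (v : G) : BrauerPairIdx G :=
  ⟨Subgroup.zpowers v, subB p M D eD (Subgroup.zpowers v)⟩

theorem aOf_le (hM : IsPModular p M) {B : Set (IrrCharacter G)} {D : Subgroup G}
    {eD : Set (IrrCharacter ↥(Subgroup.centralizer (D : Set G)))}
    (hmax : IsMaximalBrauerPair p M B D eD) {v : G} (hv : v ∈ D) :
    Relation.ReflTransGen (NormalSubpairRel p M) (aOf p M D eD v) ⟨D, eD⟩ := by
  obtain ⟨f, hle, -⟩ := exists_subpair_zpowers hM hmax hv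
  exact subB_spec ⟨f, hle⟩

theorem aOf_isBrauerPairOf (hM : IsPModular p M) {B : Set (IrrCharacter G)} {D : Subgroup G}
    {eD : Set (IrrCharacter ↥(Subgroup.centralizer (D : Set G)))}
    (hmax : IsMaximalBrauerPair p M B D eD) {v : G} (hv : v ∈ D) :
    IsBrauerPairOf p M B (Subgroup.zpowers v) (subB p M D eD (Subgroup.zpowers v)) := by
  obtain ⟨f, hle, hf⟩ := exists_subpair_zpowers hM hmax hv
  rw [subB_eq hM hmax.1.1 hle]
  exact hf

theorem eq_aOf_of_le (hM : IsPModular p M) {B : Set (IrrCharacter G)} {D : Subgroup G}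
    {eD : Set (IrrCharacter ↥(Subgroup.centralizer (D : Set G)))}
    (hmax : IsMaximalBrauerPair p M B D eD) {a : BrauerPairIdx G} {v : G}
    (h1 : a.1 = Subgroup.zpowers v)
    (hle : Relation.ReflTransGen (NormalSubpairRel p M) a ⟨D, eD⟩) : a = aOf p M D eD v := by
  obtain ⟨e, rfl⟩ := eq_mk_of_fst_eq a h1
  unfold aOf
  rw [subB_eq hM hmax.1.1 hle]

theorem pairConj_eq_aOf (hM : IsPModular p M) {B : Set (IrrCharacter G)} {D : Subgroup G}
    {eD : Set (IrrCharacter ↥(Subgroup.centralizer (D : Set G)))}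
    (hmax : IsMaximalBrauerPair p M B D eD) {a : BrauerPairIdx G} {u : G}
    (h1 : a.1 = Subgroup.zpowers u) {g : G} (hg : g ∈ carrP p M D eD a) :
    pairConj g a = aOf p M D eD (g * u * g⁻¹) := by
  apply eq_aOf_of_le hM hmax _ hg
  show a.1.map (MulAut.conj g).toMonoidHom = _
  rw [h1, map_conj_zpowers]

/-- the identity carries `aOf v` into `(D, eD)` -/
theorem one_mem_carrP_aOf (hM : IsPModular p M) {B : Set (IrrCharacter G)} {D : Subgroup G}
    {eD : Set (IrrCharacter ↥(Subgroup.centralizer (D : Set G)))}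
    (hmax : IsMaximalBrauerPair p M B D eD) {v : G} (hv : v ∈ D) :
    (1 : G) ∈ carrP p M D eD (aOf p M D eD v) := by
  rw [mem_carrP_iff, pairConj_one]
  exact aOf_le hM hmax hv

/-- existence of the block of `C_G(u)` carried into `(D, eD)` by `g` -/
theorem exists_block_of_conj_mem (hM : IsPModular p M) {B : Set (IrrCharacter G)}
    {D : Subgroup G} {eD : Set (IrrCharacter ↥(Subgroup.centralizer (D : Set G)))}
    (hmax : IsMaximalBrauerPair p M B D eD) {u g : G} (hv : g * u * g⁻¹ ∈ D) :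
    ∃ b : Set (IrrCharacter ↥(cent u)), IsPBlock M b ∧
      g ∈ carrP p M D eD ⟨Subgroup.zpowers u, b⟩ := by
  set v := g * u * g⁻¹ with hvdef
  have h1 : (pairConj g⁻¹ (aOf p M D eD v)).1 = Subgroup.zpowers u := by
    show (Subgroup.zpowers v).map (MulAut.conj g⁻¹).toMonoidHom = _
    rw [map_conj_zpowers]
    congr 1
    rw [hvdef]
    group
  obtain ⟨b, hb⟩ := eq_mk_of_fst_eq _ h1
  have hBP : IsBrauerPair p M (aOf p M D eD v).1 (aOf p M D eD v).2 :=
    subpairRel_isBrauerPair (aOf_le hM hmax hv) hmax.1.1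
  have hBP' : IsBrauerPair p M (pairConj g⁻¹ (aOf p M D eD v)).1
      (pairConj g⁻¹ (aOf p M D eD v)).2 := isBrauerPair_conj g⁻¹ hBP
  rw [hb] at hBP'
  refine ⟨b, hBP'.2, ?_⟩
  rw [← hb, mem_carrP_iff, ← pairConj_mul, mul_inv_cancel, pairConj_one]
  exact aOf_le hM hmax hv

/-- uniqueness of the block of `C_G(u)` carried into `(D, eD)` by `g` -/
theorem block_unique_of_mem_carrP (hM : IsPModular p M) {B : Set (IrrCharacter G)}
    {D : Subgroup G} {eD : Set (IrrCharacter ↥(Subgroup.centralizer (D : Set G)))}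
    (hmax : IsMaximalBrauerPair p M B D eD) {u g : G} {b b' : Set (IrrCharacter ↥(cent u))}
    (h : g ∈ carrP p M D eD ⟨Subgroup.zpowers u, b⟩)
    (h' : g ∈ carrP p M D eD ⟨Subgroup.zpowers u, b'⟩) : b = b' := by
  have e1 := pairConj_eq_aOf hM hmax (a := ⟨Subgroup.zpowers u, b⟩) rfl h
  have e2 := pairConj_eq_aOf hM hmax (a := ⟨Subgroup.zpowers u, b'⟩) rfl h'
  have e3 := congrArg (pairConj g⁻¹) (e1.trans e2.symm)
  rw [← pairConj_mul, ← pairConj_mul, inv_mul_cancel, pairConj_one, pairConj_one] at e3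
  exact eq_of_heq (Sigma.mk.inj_iff.1 e3).2

/-- vanishing of the contributions of a subsection not belonging to the block -/
theorem contribF_eq_zero_of_not_pair (hM : IsPModular p M) {B : Set (IrrCharacter G)}
    (hB : IsPBlock M B) {u : G} (hu : ∃ k : ℕ, orderOf u = p ^ k)
    {b : Set (IrrCharacter ↥(cent u))} (hb : IsPBlock M b)
    (hnot : ¬ IsBrauerPairOf p M B (Subgroup.zpowers u) b) {χ : IrrCharacter G} (hχ : χ ∈ B)
    (ξ : G → ℂ) : contribF p (cent u) b u (χ : G → ℂ) ξ = 0 := by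
  classical
  have hMp := isPModular_isPrime hM
  have hQ : IsPGroup p (Subgroup.zpowers u) := by
    obtain ⟨k, hk⟩ := hu
    apply IsPGroup.of_card (n := k)
    rw [Nat.card_zpowers, hk]
  obtain ⟨B', hB', -⟩ := existsUnique_isBrauerPairOf hM (Subgroup.zpowers u) b ⟨hQ, hb⟩
  have hind := induced_of_pair_zpowers hM hB'
  have hχ' : χ ∉ B' := by
    intro hχ'
    apply hnot
    have : B = B' := by
      rw [isPBlock_eq_blockOf hMp hB hχ, isPBlock_eq_blockOf hMp hB'.2.1 hχ']
    rw [this]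
    exact hB'
  have hC : ∀ t, t ∈ cent u ↔ t * u = u * t := fun t => mem_cent_iff
  have hsec : ∀ c : ↥(cent u), secPart p (cent u) b u (χ : G → ℂ) c = 0 := by
    intro c
    by_cases hc : p ∣ orderOf c
    · exact (secPart_spec (p := p) (cent u) b u (χ : G → ℂ)).2 c hc
    · unfold secPart
      rw [pRegularPart_of_not_dvd _ hc]
      exact blockPart_section_eq_zero hM (cent u) hC hu hind hχ' hc
  unfold contribF contrib
  rw [Finset.sum_eq_zero, mul_zero]
  intro c _
  rw [hsec c, zero_mul]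

end Cfsg.Agent.Lib.Helper4.NilB
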