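import Mathlib
import Cfsg.Prelude.Def_Blocks
import Cfsg.Prelude.Def_BlockRank
import Cfsg.Prelude.Def_BrauerPairs
import Cfsg.Agent.Lib.Helper4.NilB3

/-!
# Nilpotent blocks: the inner products of the `*`-functions through the defect group
-/

set_option autoImplicit false

namespace Cfsg.Agent.Lib.Helper4.NilB

open scoped ComplexConjugate
open Cfsg Cfsg.Agent.Lib.Helper4 Cfsg.Agent.Lib.Helper8 Cfsg.Agent.Lib.Helper8.BPS
  Cfsg.Agent.Lib.Helper8.MJ Cfsg.Agent.Lib.Helper8.BHI Cfsg.Agent.Lib.Helper8.VK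

universe u

variable {G : Type u} [Group G] [Fintype G] {M : Ideal AlgInt} {p : ℕ} [Fact p.Prime]

/-- extension by zero of a function on the subgroup `D` -/
noncomputable def ext0 (D : Subgroup G) (Ω : D → ℂ) (v : G) : ℂ := by
  classical
  exact if h : v ∈ D then Ω ⟨v, h⟩ else 0

omit [Fintype G] in
theorem ext0_of_mem {D : Subgroup G} (Ω : D → ℂ) {v : G} (h : v ∈ D) :
    ext0 D Ω v = Ω ⟨v, h⟩ := by
  classical
  unfold ext0
  rw [dif_pos h]

omit [Fintype G] in
theorem ext0_of_not_mem {D : Subgroup G} (Ω : D → ℂ) {v : G} (h : v ∉ D) :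
    ext0 D Ω v = 0 := by
  classical
  unfold ext0
  rw [dif_neg h]

theorem sum_ext0_mul (D : Subgroup G) [Fintype D] (Ω : D → ℂ) (f : G → ℂ) :
    ∑ v : G, ext0 D Ω v * f v = ∑ v : D, Ω v * f (v : G) := by
  classical
  rw [← Finset.sum_subset (Finset.subset_univ (Finset.univ.filter (fun v : G => v ∈ D)))]
  · rw [Finset.sum_subtype (p := fun v : G => v ∈ D) (Finset.univ.filter (fun v : G => v ∈ D))
      (fun x => by simp)]
    refine Finset.sum_congr rfl fun v _ => ?_
    rw [ext0_of_mem Ω v.2]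
  · intro v _ hv
    have : v ∉ D := by
      intro h
      exact hv (Finset.mem_filter.2 ⟨Finset.mem_univ _, h⟩)
    rw [ext0_of_not_mem Ω this, zero_mul]

/-- the normalized contribution at an element of the defect group -/
noncomputable def phi (p : ℕ) (M : Ideal AlgInt) (D : Subgroup G)
    (eD : Set (IrrCharacter ↥(Subgroup.centralizer (D : Set G)))) (ζ ξ : G → ℂ) (v : G) : ℂ :=
  mm p (aOf p M D eD v) v ζ ξ / (Nat.card ↥(carrP p M D eD (aOf p M D eD v)) : ℂ)

omit [Group G] in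
open Classical in
theorem sum_ite_mem_const (S : Set G) (c : ℂ) :
    ∑ g : G, (if g ∈ S then c else 0) = (Nat.card ↥S : ℂ) * c := by
  rw [Finset.sum_ite, Finset.sum_const_zero, add_zero, Finset.sum_const, nsmul_eq_mul]
  congr 2
  rw [Nat.card_eq_fintype_card, Fintype.card_subtype]

open Classical in
/-- the contribution of one subsection to a weighted sum, averaged over the elements carrying it
into the maximal pair -/
theorem wOf_mul_mm (hM : IsPModular p M) {B : Set (IrrCharacter G)}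
    {D : Subgroup G} {eD : Set (IrrCharacter ↥(Subgroup.centralizer (D : Set G)))}
    (hmax : IsMaximalBrauerPair p M B D eD) (hnil : IsNilpotentBlock p M B)
    {Ω : D → ℂ} (hΩ : IsClassFunction D Ω) {χ : IrrCharacter G} (hχ : χ ∈ B) {ξ : G → ℂ}
    (hξ : IsClassFunction G ξ) {u : G} (hu : ∃ k : ℕ, orderOf u = p ^ k)
    {b : Set (IrrCharacter ↥(cent u))} (hb : IsPBlock M b) :
    wOf p M D eD Ω u b * mm p ⟨Subgroup.zpowers u, b⟩ u (χ : G → ℂ) ξ =
      ∑ g : G, (if g ∈ carrP p M D eD ⟨Subgroup.zpowers u, b⟩ then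
        ext0 D Ω (g * u * g⁻¹) * phi p M D eD (χ : G → ℂ) ξ (g * u * g⁻¹) else 0) := by
  have hχcf : IsClassFunction G (χ : G → ℂ) := isClassFunction_of_isCharacter (isCharacter_of_irr χ.2)
  set a : BrauerPairIdx G := ⟨Subgroup.zpowers u, b⟩ with ha
  by_cases hne : ∃ g, g ∈ carrP p M D eD a
  · have key : ∀ g ∈ carrP p M D eD a,
        ext0 D Ω (g * u * g⁻¹) * phi p M D eD (χ : G → ℂ) ξ (g * u * g⁻¹) =
          wOf p M D eD Ω u b * mm p a u (χ : G → ℂ) ξ / (Nat.card ↥(carrP p M D eD a) : ℂ) := by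
      intro g hg
      have hgu : g * u * g⁻¹ ∈ D := conj_mem_of_mem_carrP hg (Subgroup.mem_zpowers u)
      have e := pairConj_eq_aOf hM hmax (a := a) rfl hg
      unfold phi
      rw [ext0_of_mem Ω hgu, ← e, mm_pairConj g a u hχcf hξ, card_carrP_pairConj,
        ← wOf_eq hM hmax hnil hΩ hg hgu]
      ring
    have hN : (Nat.card ↥(carrP p M D eD a) : ℂ) ≠ 0 := by
      obtain ⟨g, hg⟩ := hne
      have : Nonempty ↥(carrP p M D eD a) := ⟨⟨g, hg⟩⟩
      exact Nat.cast_ne_zero.2 Nat.card_pos.ne'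
    have h1 : ∀ g : G, (if g ∈ carrP p M D eD a then
        ext0 D Ω (g * u * g⁻¹) * phi p M D eD (χ : G → ℂ) ξ (g * u * g⁻¹) else 0) =
        if g ∈ carrP p M D eD a then
          wOf p M D eD Ω u b * mm p a u (χ : G → ℂ) ξ / (Nat.card ↥(carrP p M D eD a) : ℂ)
        else 0 := by
      intro g
      by_cases hg : g ∈ carrP p M D eD a
      · rw [if_pos hg, if_pos hg, key g hg]
      · rw [if_neg hg, if_neg hg]
    rw [Finset.sum_congr rfl (fun g _ => h1 g)]
    have h2 := sum_ite_mem_const (carrP p M D eD a)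
      (wOf p M D eD Ω u b * mm p a u (χ : G → ℂ) ξ / (Nat.card ↥(carrP p M D eD a) : ℂ))
    rw [show (∑ g : G, if g ∈ carrP p M D eD a then
        wOf p M D eD Ω u b * mm p a u (χ : G → ℂ) ξ / (Nat.card ↥(carrP p M D eD a) : ℂ)
        else 0) = _ from h2]
    field_simp
  · have hnot : ¬ IsBrauerPairOf p M B (Subgroup.zpowers u) b := by
      intro hpair
      obtain ⟨x, hx⟩ := exists_conj_subpairLE hM hmax hpair
      exact hne ⟨x, hx⟩
    have h0 : mm p a u (χ : G → ℂ) ξ = 0 := by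
      unfold mm
      rw [show contribF p (Subgroup.centralizer ((a.1 : Subgroup G) : Set G)) a.2 u (χ : G → ℂ) ξ = 0
        from contribF_eq_zero_of_not_pair hM hmax.1.2.1 hu hb hnot hχ ξ, mul_zero]
    rw [h0, mul_zero]
    symm
    refine Finset.sum_eq_zero fun g _ => ?_
    rw [if_neg]
    intro hg
    exact hne ⟨g, hg⟩

/-- **Reduction to the defect group** of a weighted sum over the subsections. -/
theorem sum_wOf_mm (hM : IsPModular p M) {B : Set (IrrCharacter G)}
    {D : Subgroup G} {eD : Set (IrrCharacter ↥(Subgroup.centralizer (D : Set G)))}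
    (hmax : IsMaximalBrauerPair p M B D eD) (hnil : IsNilpotentBlock p M B)
    {Ω : D → ℂ} (hΩ : IsClassFunction D Ω) {χ : IrrCharacter G} (hχ : χ ∈ B) {ξ : G → ℂ}
    (hξ : IsClassFunction G ξ) :
    ∑ u ∈ pElts p G, ∑ b ∈ blocksFinset M ↥(cent u),
      wOf p M D eD Ω u b * mm p ⟨Subgroup.zpowers u, b⟩ u (χ : G → ℂ) ξ =
    (Nat.card G : ℂ) * ∑ v : G, ext0 D Ω v * phi p M D eD (χ : G → ℂ) ξ v := by
  classical
  set Ψ : G → ℂ := fun v => ext0 D Ω v * phi p M D eD (χ : G → ℂ) ξ v with hΨ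
  have hDp : IsPGroup p D := hmax.1.1.1
  -- step 1
  have h1 : ∀ u ∈ pElts p G, ∑ b ∈ blocksFinset M ↥(cent u),
      wOf p M D eD Ω u b * mm p ⟨Subgroup.zpowers u, b⟩ u (χ : G → ℂ) ξ =
      ∑ g : G, Ψ (g * u * g⁻¹) := by
    intro u hu
    rw [mem_pElts] at hu
    have h2 : ∀ b ∈ blocksFinset M ↥(cent u),
        wOf p M D eD Ω u b * mm p ⟨Subgroup.zpowers u, b⟩ u (χ : G → ℂ) ξ =
        ∑ g : G, if g ∈ carrP p M D eD ⟨Subgroup.zpowers u, b⟩ then Ψ (g * u * g⁻¹) else 0 := by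
      intro b hb
      rw [mem_blocksFinset] at hb
      exact wOf_mul_mm hM hmax hnil hΩ hχ hξ hu hb
    rw [Finset.sum_congr rfl h2, Finset.sum_comm]
    refine Finset.sum_congr rfl fun g _ => ?_
    by_cases hv : g * u * g⁻¹ ∈ D
    · obtain ⟨b₀, hb₀, hg₀⟩ := exists_block_of_conj_mem hM hmax hv
      rw [Finset.sum_eq_single b₀]
      · rw [if_pos hg₀]
      · intro b _ hne
        rw [if_neg]
        intro h
        exact hne (block_unique_of_mem_carrP hM hmax h hg₀)
      · intro h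
        exact absurd ((mem_blocksFinset b₀).2 hb₀) h
    · have : Ψ (g * u * g⁻¹) = 0 := by
        rw [hΨ]
        show ext0 D Ω (g * u * g⁻¹) * _ = 0
        rw [ext0_of_not_mem Ω hv, zero_mul]
      rw [this]
      refine Finset.sum_eq_zero fun b _ => ?_
      split_ifs <;> rfl
  rw [Finset.sum_congr rfl h1]
  -- step 2
  have h3 : ∑ u ∈ pElts p G, ∑ g : G, Ψ (g * u * g⁻¹) = ∑ u : G, ∑ g : G, Ψ (g * u * g⁻¹) := by
    apply Finset.sum_subset (Finset.subset_univ _)
    intro u _ hu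
    rw [mem_pElts] at hu
    refine Finset.sum_eq_zero fun g _ => ?_
    have hv : g * u * g⁻¹ ∉ D := by
      intro hv
      apply hu
      obtain ⟨k, hk⟩ := IsPGroup.iff_orderOf.1 hDp ⟨g * u * g⁻¹, hv⟩
      refine ⟨k, ?_⟩
      rw [← hk, Subgroup.orderOf_mk]
      have := (MulAut.conj g).orderOf_eq u
      rw [MulAut.conj_apply] at this
      exact this.symm
    rw [hΨ]
    show ext0 D Ω (g * u * g⁻¹) * _ = 0
    rw [ext0_of_not_mem Ω hv, zero_mul]
  rw [h3, Finset.sum_comm]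
  have h4 : ∀ g : G, ∑ u : G, Ψ (g * u * g⁻¹) = ∑ v : G, Ψ v := by
    intro g
    have := Equiv.sum_comp (MulAut.conj g).toEquiv Ψ
    rw [← this]
    refine Finset.sum_congr rfl fun u _ => ?_
    rfl
  rw [Finset.sum_congr rfl (fun g _ => h4 g), Finset.sum_const, Finset.card_univ, nsmul_eq_mul,
    Nat.card_eq_fintype_card]

end Cfsg.Agent.Lib.Helper4.NilB
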