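import Mathlib
import Cfsg.Prelude.Def_Blocks
import Cfsg.Prelude.Def_BlockRank
import Cfsg.Prelude.Def_BrauerPairs
import Cfsg.Agent.Lib.Helper4.NilB4

/-!
# Nilpotent blocks: values and inner products of the `*`-functions
-/

set_option autoImplicit false

namespace Cfsg.Agent.Lib.Helper4.NilB

open scoped ComplexConjugate
open Cfsg Cfsg.Agent.Lib.Helper4 Cfsg.Agent.Lib.Helper8 Cfsg.Agent.Lib.Helper8.BPS
  Cfsg.Agent.Lib.Helper8.MJ Cfsg.Agent.Lib.Helper8.BHI Cfsg.Agent.Lib.Helper8.VK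

universe u

variable {G : Type u} [Group G] [Fintype G] {M : Ideal AlgInt} {p : ℕ} [Fact p.Prime]

omit [Fact p.Prime] in
/-- the section parts over all blocks sum to the function itself on `p`-regular elements -/
theorem sum_blocks_secPart (hM : IsPModular p M) {ξ : G → ℂ} (hξ : IsClassFunction G ξ) (u : G)
    {c : ↥(cent u)} (hc : ¬ p ∣ orderOf c) :
    ∑ b ∈ blocksFinset M ↥(cent u), secPart p (cent u) b u ξ c = ξ (u * (c : G)) := by
  classical
  have : Fintype ↥(cent u) := Fintype.ofFinite _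
  have hMp := isPModular_isPrime hM
  have hC : ∀ t, t ∈ cent u ↔ t * u = u * t := fun t => mem_cent_iff
  have hcf : IsClassFunction ↥(cent u) (secFun (cent u) u ξ) := isClassFunction_section _ hC hξ
  have h1 : ∀ b ∈ blocksFinset M ↥(cent u), secPart p (cent u) b u ξ c =
      blockPart b (secFun (cent u) u ξ) c := by
    intro b _
    unfold secPart
    rw [pRegularPart_of_not_dvd _ hc]
  rw [Finset.sum_congr rfl h1, sum_blocks_blockPart hMp hcf c]
  rfl

omit [Fintype G] [Fact p.Prime] in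
/-- the `p`-regular cofactor of an element with `p`-part `u`, in `C_G(u)` -/
theorem not_dvd_orderOf_cofactor {g u : G} (h : IsPPart p g u) :
    ¬ p ∣ orderOf (⟨u⁻¹ * g, inv_mul_mem_cent_of_isPPart h⟩ : ↥(cent u)) := by
  obtain ⟨y, hy, -, -, hreg⟩ := h
  have : u⁻¹ * g = y := by rw [← hy, inv_mul_cancel_left]
  rw [← Subgroup.orderOf_coe]
  show ¬ p ∣ orderOf (u⁻¹ * g)
  rw [this]
  exact hreg

/-- the `*`-function with constant weight one is the function itself -/
theorem starFun_const_one (hM : IsPModular p M) {ξ : G → ℂ} (hξ : IsClassFunction G ξ) (g : G) :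
    starFun p M (fun _ _ => (1 : ℂ)) ξ g = ξ g := by
  have hp : p.Prime := Fact.out
  obtain ⟨u, hu⟩ := exists_isPPart hp g
  rw [starFun_eq _ _ hu]
  simp_rw [one_mul]
  rw [sum_blocks_secPart hM hξ u (not_dvd_orderOf_cofactor hu)]
  show ξ (u * (u⁻¹ * g)) = ξ g
  rw [mul_inv_cancel_left]

/-- vanishing of the section part of a subsection not belonging to the block -/
theorem secPart_eq_zero_of_not_pair (hM : IsPModular p M) {B : Set (IrrCharacter G)}
    (hB : IsPBlock M B) {u : G} (hu : ∃ k : ℕ, orderOf u = p ^ k)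
    {b : Set (IrrCharacter ↥(cent u))} (hb : IsPBlock M b)
    (hnot : ¬ IsBrauerPairOf p M B (Subgroup.zpowers u) b) {χ : IrrCharacter G} (hχ : χ ∈ B)
    (c : ↥(cent u)) : secPart p (cent u) b u (χ : G → ℂ) c = 0 := by
  classical
  have : Fintype ↥(cent u) := Fintype.ofFinite _
  have hMp := isPModular_isPrime hM
  have hQ : IsPGroup p (Subgroup.zpowers u) := by
    obtain ⟨k, hk⟩ := hu
    apply IsPGroup.of_card (n := k)
    rw [Nat.card_zpowers, hk]
  obtain ⟨B', hB', -⟩ := existsUnique_isBrauerPairOf hM (Subgroup.zpowers u) b ⟨hQ, hb⟩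
  have hind := induced_of_pair_zpowers hM hB'
  have hχ' : χ ∉ B' := by
    intro hχ'
    apply hnot
    have : B = B' := by
      rw [isPBlock_eq_blockOf hMp hB hχ, isPBlock_eq_blockOf hMp hB'.2.1 hχ']
    rw [this]
    exact hB'
  have hC : ∀ t, t ∈ cent u ↔ t * u = u * t := fun t => mem_cent_iff
  by_cases hc : p ∣ orderOf c
  · exact (secPart_spec (p := p) (cent u) b u (χ : G → ℂ)).2 c hc
  · unfold secPart
    rw [pRegularPart_of_not_dvd _ hc]
    exact blockPart_section_eq_zero hM (cent u) hC hu hind hχ' hc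

/-- **values on the `p`-regular elements**: `(η * χ)(s) = η(1) χ(s)` -/
theorem starFun_wOf_pRegular (hM : IsPModular p M) {B : Set (IrrCharacter G)}
    {D : Subgroup G} {eD : Set (IrrCharacter ↥(Subgroup.centralizer (D : Set G)))}
    (hmax : IsMaximalBrauerPair p M B D eD) (hnil : IsNilpotentBlock p M B)
    {η : D → ℂ} (hη : IsClassFunction D η) {χ : IrrCharacter G} (hχ : χ ∈ B) {s : G}
    (hs : ¬ p ∣ orderOf s) :
    starFun p M (wOf p M D eD η) (χ : G → ℂ) s = η 1 * (χ : G → ℂ) s := by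
  classical
  have hχcf : IsClassFunction G (χ : G → ℂ) := isClassFunction_of_isCharacter (isCharacter_of_irr χ.2)
  have hu1 : ∃ k : ℕ, orderOf (1 : G) = p ^ k := ⟨0, by rw [orderOf_one, pow_zero]⟩
  have hpp : IsPPart p s 1 := ⟨s, one_mul s, Commute.one_left s, hu1, hs⟩
  rw [starFun_eq _ _ hpp]
  have h1 : ∀ b ∈ blocksFinset M ↥(cent (1 : G)),
      wOf p M D eD η 1 b * secPart p (cent 1) b 1 (χ : G → ℂ)
        ⟨(1 : G)⁻¹ * s, inv_mul_mem_cent_of_isPPart hpp⟩ =
      η 1 * secPart p (cent 1) b 1 (χ : G → ℂ)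
        ⟨(1 : G)⁻¹ * s, inv_mul_mem_cent_of_isPPart hpp⟩ := by
    intro b hb
    rw [mem_blocksFinset] at hb
    by_cases hne : ∃ g, g ∈ carrP p M D eD ⟨Subgroup.zpowers (1 : G), b⟩
    · obtain ⟨g, hg⟩ := hne
      have hgu : g * 1 * g⁻¹ ∈ D := conj_mem_of_mem_carrP hg (Subgroup.mem_zpowers (1 : G))
      rw [wOf_eq hM hmax hnil hη hg hgu]
      congr 2
      apply Subtype.ext
      show g * 1 * g⁻¹ = 1
      rw [mul_one, mul_inv_cancel]
    · have hnot : ¬ IsBrauerPairOf p M B (Subgroup.zpowers (1 : G)) b := by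
        intro hpair
        obtain ⟨x, hx⟩ := exists_conj_subpairLE hM hmax hpair
        exact hne ⟨x, hx⟩
      rw [secPart_eq_zero_of_not_pair hM hmax.1.2.1 hu1 hb hnot hχ, mul_zero, mul_zero]
  rw [Finset.sum_congr rfl h1, ← Finset.mul_sum,
    sum_blocks_secPart hM hχcf 1 (not_dvd_orderOf_cofactor hpp)]
  show η 1 * (χ : G → ℂ) (1 * ((1 : G)⁻¹ * s)) = _
  rw [inv_one, one_mul, one_mul]

/-- **the inner product of a `*`-function with a class function**, through the defect group -/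
theorem classInner_starFun_wOf (hM : IsPModular p M) {B : Set (IrrCharacter G)}
    {D : Subgroup G} {eD : Set (IrrCharacter ↥(Subgroup.centralizer (D : Set G)))} [Fintype D]
    (hmax : IsMaximalBrauerPair p M B D eD) (hnil : IsNilpotentBlock p M B)
    {η : D → ℂ} (hη : IsClassFunction D η) {χ : IrrCharacter G} (hχ : χ ∈ B) {ξ : G → ℂ}
    (hξ : IsClassFunction G ξ) :
    classInner (starFun p M (wOf p M D eD η) (χ : G → ℂ)) ξ =
      ∑ v : D, η v * phi p M D eD (χ : G → ℂ) ξ (v : G) := by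
  classical
  have hχcf : IsClassFunction G (χ : G → ℂ) := isClassFunction_of_isCharacter (isCharacter_of_irr χ.2)
  have hG0 : (Nat.card G : ℂ) ≠ 0 := Nat.cast_ne_zero.2 Nat.card_pos.ne'
  have h1 : ∑ g : G, starFun p M (wOf p M D eD η) (χ : G → ℂ) g * conj (ξ g) =
      ∑ g : G, starFun p M (wOf p M D eD η) (χ : G → ℂ) g *
        conj (starFun p M (fun _ _ => (1 : ℂ)) ξ g) := by
    refine Finset.sum_congr rfl fun g _ => ?_
    rw [starFun_const_one hM hξ g]
  rw [classInner_def, h1, sum_starFun_mul_conj hM _ _ hχcf hξ]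
  have h2 : ∀ u ∈ pElts p G, ∀ b ∈ blocksFinset M ↥(cent u),
      wOf p M D eD η u b * conj (1 : ℂ) *
        ((Nat.card ↥(cent u) : ℂ) * contribF p (cent u) b u (χ : G → ℂ) ξ) =
      wOf p M D eD η u b * mm p ⟨Subgroup.zpowers u, b⟩ u (χ : G → ℂ) ξ := by
    intro u _ b _
    rw [map_one, mul_one]
    rfl
  rw [Finset.sum_congr rfl (fun u hu => Finset.sum_congr rfl (h2 u hu)),
    sum_wOf_mm hM hmax hnil hη hχ hξ, ← mul_assoc, inv_mul_cancel₀ hG0, one_mul,
    sum_ext0_mul]

/-- **the inner product of two `*`-functions**, through the defect group -/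
theorem classInner_starFun_wOf_wOf (hM : IsPModular p M) {B : Set (IrrCharacter G)}
    {D : Subgroup G} {eD : Set (IrrCharacter ↥(Subgroup.centralizer (D : Set G)))} [Fintype D]
    (hmax : IsMaximalBrauerPair p M B D eD) (hnil : IsNilpotentBlock p M B)
    {η η' : D → ℂ} (hη : IsClassFunction D η) (hη' : IsClassFunction D η')
    {χ : IrrCharacter G} (hχ : χ ∈ B) {ξ : G → ℂ} (hξ : IsClassFunction G ξ) :
    classInner (starFun p M (wOf p M D eD η) (χ : G → ℂ)) (starFun p M (wOf p M D eD η') ξ) =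
      ∑ v : D, η v * conj (η' v) * phi p M D eD (χ : G → ℂ) ξ (v : G) := by
  classical
  have hχcf : IsClassFunction G (χ : G → ℂ) := isClassFunction_of_isCharacter (isCharacter_of_irr χ.2)
  have hG0 : (Nat.card G : ℂ) ≠ 0 := Nat.cast_ne_zero.2 Nat.card_pos.ne'
  have hΩ : IsClassFunction D (fun v => η v * conj (η' v)) := by
    intro g h
    show η (h * g * h⁻¹) * conj (η' (h * g * h⁻¹)) = η g * conj (η' g)
    rw [hη, hη']
  rw [classInner_def, sum_starFun_mul_conj hM _ _ hχcf hξ]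
  have h2 : ∀ u ∈ pElts p G, ∀ b ∈ blocksFinset M ↥(cent u),
      wOf p M D eD η u b * conj (wOf p M D eD η' u b) *
        ((Nat.card ↥(cent u) : ℂ) * contribF p (cent u) b u (χ : G → ℂ) ξ) =
      wOf p M D eD (fun v => η v * conj (η' v)) u b *
        mm p ⟨Subgroup.zpowers u, b⟩ u (χ : G → ℂ) ξ := by
    intro u _ b _
    rw [wOf_mul_conj]
    rfl
  rw [Finset.sum_congr rfl (fun u hu => Finset.sum_congr rfl (h2 u hu)),
    sum_wOf_mm hM hmax hnil hΩ hχ hξ, ← mul_assoc, inv_mul_cancel₀ hG0, one_mul,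
    sum_ext0_mul]

end Cfsg.Agent.Lib.Helper4.NilB
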