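import Mathlib
import Cfsg.Prelude.Def_Blocks
import Cfsg.Prelude.Def_BlockRank
import Cfsg.Prelude.Def_BrauerPairs
import Cfsg.Agent.Lib.Helper4.NilB5

/-!
# The `*`-function of a star weight is a class function
-/

set_option autoImplicit false

namespace Cfsg.Agent.Lib.Helper4.NilB

open scoped ComplexConjugate
open Cfsg Cfsg.Agent.Lib.Helper4 Cfsg.Agent.Lib.Helper8 Cfsg.Agent.Lib.Helper8.BPS
  Cfsg.Agent.Lib.Helper8.MJ Cfsg.Agent.Lib.Helper8.BHI Cfsg.Agent.Lib.Helper8.VK

universe u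

variable {G : Type u} [Group G] [Fintype G] {M : Ideal AlgInt} {p : ℕ} [Fact p.Prime]

omit [Fintype G] [Fact p.Prime] in
theorem conj_mem_cent {x u c : G} (hc : c ∈ cent u) : x * c * x⁻¹ ∈ cent (x * u * x⁻¹) := by
  rw [mem_cent_iff] at hc ⊢
  calc x * c * x⁻¹ * (x * u * x⁻¹) = x * (c * u) * x⁻¹ := by group
    _ = x * (u * c) * x⁻¹ := by rw [hc]
    _ = x * u * x⁻¹ * (x * c * x⁻¹) := by group

omit [Fintype G] [Fact p.Prime] in
theorem conj_inv_mem_cent {x u c : G} (hc : c ∈ cent (x * u * x⁻¹)) : x⁻¹ * c * x ∈ cent u := by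
  have := conj_mem_cent (x := x⁻¹) hc
  rw [inv_inv] at this
  have h2 : x⁻¹ * (x * u * x⁻¹) * x = u := by group
  rwa [h2] at this

/-- conjugation by `x`, from `C_G(u)` onto `C_G(x u x⁻¹)` -/
def centIso (x u : G) : ↥(cent u) ≃* ↥(cent (x * u * x⁻¹)) where
  toFun c := ⟨x * c * x⁻¹, conj_mem_cent c.2⟩
  invFun c := ⟨x⁻¹ * c * x, conj_inv_mem_cent c.2⟩
  left_inv c := by
    apply Subtype.ext
    show x⁻¹ * (x * (c : G) * x⁻¹) * x = c
    group
  right_inv c := by
    apply Subtype.ext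
    show x * (x⁻¹ * (c : G) * x) * x⁻¹ = c
    group
  map_mul' a b := by
    apply Subtype.ext
    show x * ((a * b : ↥(cent u)) : G) * x⁻¹ = (x * (a : G) * x⁻¹) * (x * (b : G) * x⁻¹)
    rw [Subgroup.coe_mul]
    group

omit [Fintype G] [Fact p.Prime] in
theorem centIso_apply_coe (x u : G) (c : ↥(cent u)) : ((centIso x u c : _) : G) = x * c * x⁻¹ :=
  rfl

omit [Fintype G] [Fact p.Prime] in
theorem centIso_symm_apply_coe (x u : G) (c : ↥(cent (x * u * x⁻¹))) :
    (((centIso x u).symm c : _) : G) = x⁻¹ * c * x := rfl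

omit [Fintype G] [Fact p.Prime] in
/-- the conjugate of a subsection, with the block transported along `centIso` -/
theorem pairConj_zpowers (x u : G) (b : Set (IrrCharacter ↥(cent u))) :
    pairConj x ⟨Subgroup.zpowers u, b⟩ =
      ⟨Subgroup.zpowers (x * u * x⁻¹), irrMap (centIso x u) '' b⟩ := by
  show (⟨(Subgroup.zpowers u).map (MulAut.conj x).toMonoidHom,
    conjBlock (Subgroup.zpowers u) x b⟩ : BrauerPairIdx G) = _
  apply pairIdx_mk_ext (map_conj_zpowers x u)
  · intro ξ hξ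
    rw [conjBlock_eq_image] at hξ
    obtain ⟨ξ₀, hξ₀, rfl⟩ := hξ
    refine ⟨irrMap (centIso x u) ξ₀, ⟨ξ₀, hξ₀, rfl⟩, ?_⟩
    intro g hg hg'
    rw [irrMap_apply, irrMap_apply]
    apply congrArg
    apply Subtype.ext
    rfl
  · rintro _ ⟨ξ₀, hξ₀, rfl⟩
    refine ⟨irrMap (centConj (Subgroup.zpowers u) x) ξ₀, ?_, ?_⟩
    · rw [conjBlock_eq_image]
      exact ⟨ξ₀, hξ₀, rfl⟩
    · intro g hg hg'
      rw [irrMap_apply, irrMap_apply]
      apply congrArg
      apply Subtype.ext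
      rfl

/-- invariance of a star weight under conjugation, on the subsections of the block -/
theorem isStarWeight_conj (hM : IsPModular p M) {B : Set (IrrCharacter G)}
    {D : Subgroup G} {eD : Set (IrrCharacter ↥(Subgroup.centralizer (D : Set G)))}
    (hmax : IsMaximalBrauerPair p M B D eD) {η : D → ℂ} {w : StarWeight G}
    (hw : IsStarWeight p M B D eD η w) {u : G} (hu : ∃ k : ℕ, orderOf u = p ^ k)
    {b : Set (IrrCharacter ↥(cent u))} (hpair : IsBrauerPairOf p M B (Subgroup.zpowers u) b)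
    (x : G) : w (x * u * x⁻¹) (irrMap (centIso x u) '' b) = w u b := by
  obtain ⟨g, hg⟩ := exists_conj_subpairLE hM hmax hpair
  have hg' : g ∈ carrP p M D eD ⟨Subgroup.zpowers u, b⟩ := hg
  have hgu : g * u * g⁻¹ ∈ D := conj_mem_of_mem_carrP hg' (Subgroup.mem_zpowers u)
  rw [hw u b hu hpair g hgu hg]
  -- the conjugate subsection
  have hu' : ∃ k : ℕ, orderOf (x * u * x⁻¹) = p ^ k := by
    obtain ⟨k, hk⟩ := hu
    refine ⟨k, ?_⟩
    rw [← hk]
    have := (MulAut.conj x).orderOf_eq u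
    rwa [MulAut.conj_apply] at this
  have hpair' : IsBrauerPairOf p M B (Subgroup.zpowers (x * u * x⁻¹))
      (irrMap (centIso x u) '' b) := by
    have h1 := isBrauerPairOf_conj x hpair
    have h2 := pairConj_zpowers x u b
    have h3 : IsBrauerPairOf p M B (pairConj x ⟨Subgroup.zpowers u, b⟩).1
        (pairConj x ⟨Subgroup.zpowers u, b⟩).2 := h1
    rw [h2] at h3
    exact h3
  have hcar : g * x⁻¹ ∈ carrP p M D eD
      ⟨Subgroup.zpowers (x * u * x⁻¹), irrMap (centIso x u) '' b⟩ := by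
    rw [← pairConj_zpowers, mem_carrP_pairConj, inv_mul_cancel_right]
    exact hg'
  have hgx : g * x⁻¹ * (x * u * x⁻¹) * (g * x⁻¹)⁻¹ ∈ D :=
    conj_mem_of_mem_carrP hcar (Subgroup.mem_zpowers _)
  rw [hw (x * u * x⁻¹) (irrMap (centIso x u) '' b) hu' hpair' (g * x⁻¹) hgx hcar]
  congr 1
  apply Subtype.ext
  show g * x⁻¹ * (x * u * x⁻¹) * (g * x⁻¹)⁻¹ = g * u * g⁻¹
  group

omit [Fintype G] [Fact p.Prime] in
theorem isPBlock_image_centIso (x u : G) {b : Set (IrrCharacter ↥(cent u))} (hb : IsPBlock M b) :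
    IsPBlock M (irrMap (centIso x u) '' b) := isPBlock_image_irrMap _ hb

/-- **The `*`-function of a star weight is a class function.** -/
theorem isClassFunction_starFun (hM : IsPModular p M) {B : Set (IrrCharacter G)}
    {D : Subgroup G} {eD : Set (IrrCharacter ↥(Subgroup.centralizer (D : Set G)))}
    (hmax : IsMaximalBrauerPair p M B D eD) {η : D → ℂ} {w : StarWeight G}
    (hw : IsStarWeight p M B D eD η w) {χ : IrrCharacter G} (hχ : χ ∈ B) :
    IsClassFunction G (starFun p M w (χ : G → ℂ)) := by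
  classical
  have hp : p.Prime := Fact.out
  have hχcf : IsClassFunction G (χ : G → ℂ) := isClassFunction_of_isCharacter (isCharacter_of_irr χ.2)
  intro g x
  obtain ⟨u, hu⟩ := exists_isPPart hp g
  have hu1 : ∃ k : ℕ, orderOf u = p ^ k := by
    obtain ⟨y, -, -, hk, -⟩ := hu
    exact hk
  have hu' : IsPPart p (x * g * x⁻¹) (x * u * x⁻¹) := by
    obtain ⟨y, hy, hcomm, ⟨k, hk⟩, hreg⟩ := hu
    refine ⟨x * y * x⁻¹, ?_, ?_, ⟨k, ?_⟩, ?_⟩
    · rw [← hy]
      group
    · show x * u * x⁻¹ * (x * y * x⁻¹) = x * y * x⁻¹ * (x * u * x⁻¹)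
      have : u * y = y * u := hcomm
      calc x * u * x⁻¹ * (x * y * x⁻¹) = x * (u * y) * x⁻¹ := by group
        _ = x * (y * u) * x⁻¹ := by rw [this]
        _ = x * y * x⁻¹ * (x * u * x⁻¹) := by group
    · rw [← hk]
      have := (MulAut.conj x).orderOf_eq u
      rwa [MulAut.conj_apply] at this
    · have := (MulAut.conj x).orderOf_eq y
      rw [MulAut.conj_apply] at this
      rwa [this]
  have i1 : Fintype ↥(cent u) := Fintype.ofFinite _
  have i2 : Fintype ↥(cent (x * u * x⁻¹)) := Fintype.ofFinite _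
  rw [starFun_eq _ _ hu, starFun_eq _ _ hu']
  symm
  apply Finset.sum_bij (fun b _ => irrMap (centIso x u) '' b)
  · intro b hb
    rw [mem_blocksFinset] at hb ⊢
    exact isPBlock_image_centIso x u hb
  · intro b₁ _ b₂ _ h
    have := congrArg (fun s => irrMap (centIso x u).symm '' s) h
    simpa only [irrMap_image_image_symm] using this
  · intro b' hb'
    rw [mem_blocksFinset] at hb'
    refine ⟨irrMap (centIso x u).symm '' b', ?_, ?_⟩
    · rw [mem_blocksFinset]
      exact isPBlock_image_irrMap _ hb'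
    · exact irrMap_image_symm_image (centIso x u) b'
  · intro b hb
    rw [mem_blocksFinset] at hb
    have hc : (⟨(x * u * x⁻¹)⁻¹ * (x * g * x⁻¹), inv_mul_mem_cent_of_isPPart hu'⟩ :
        ↥(cent (x * u * x⁻¹))) = centIso x u ⟨u⁻¹ * g, inv_mul_mem_cent_of_isPPart hu⟩ := by
      apply Subtype.ext
      show (x * u * x⁻¹)⁻¹ * (x * g * x⁻¹) = x * (u⁻¹ * g) * x⁻¹
      group
    rw [hc, secPart_conj (cent u) (cent (x * u * x⁻¹)) (centIso x u) x (fun c => rfl) b u hχcf]
    by_cases hpair : IsBrauerPairOf p M B (Subgroup.zpowers u) b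
    · rw [isStarWeight_conj hM hmax hw hu1 hpair x]
    · rw [secPart_eq_zero_of_not_pair hM hmax.1.2.1 hu1 hb hpair hχ, mul_zero, mul_zero]

end Cfsg.Agent.Lib.Helper4.NilB
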