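import Mathlib
import Cfsg.Prelude.Def_Blocks
import Cfsg.Prelude.Def_BlockRank
import Cfsg.Prelude.Def_BrauerPairs
import Cfsg.Agent.Lib.Helper4.NilB10
import Cfsg.Agent.Lib.Helper8.Sub14

/-!
# The section parts of a `*`-function, and the composition of the `*`-construction
-/

set_option autoImplicit false

namespace Cfsg.Agent.Lib.Helper4.NilB

open scoped ComplexConjugate
open Cfsg Cfsg.Agent.Lib.Helper4 Cfsg.Agent.Lib.Helper8 Cfsg.Agent.Lib.Helper8.BPS
  Cfsg.Agent.Lib.Helper8.MJ Cfsg.Agent.Lib.Helper8.BHI Cfsg.Agent.Lib.Helper8.VK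

universe u

variable {G : Type u} [Group G] [Fintype G] {M : Ideal AlgInt} {p : ℕ} [Fact p.Prime]

/-- the value of a `*`-function on the section of a `p`-element -/
theorem starFun_mul_eq (w : StarWeight G) (ζ : G → ℂ) {u : G} (hu : ∃ k : ℕ, orderOf u = p ^ k)
    {c : ↥(cent u)} (hc : ¬ p ∣ orderOf c) :
    starFun p M w ζ (u * (c : G)) =
      ∑ b ∈ blocksFinset M ↥(cent u), w u b * secPart p (cent u) b u ζ c := by
  have hcG : ¬ p ∣ orderOf (c : G) := by rwa [Subgroup.orderOf_coe]
  have hpp : IsPPart p (u * (c : G)) u :=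
    isPPart_mul_of_commute hu hcG (mem_cent_iff.1 c.2).symm
  rw [starFun_eq w ζ hpp]
  refine Finset.sum_congr rfl fun b _ => ?_
  congr 2
  apply Subtype.ext
  show u⁻¹ * (u * (c : G)) = c
  rw [inv_mul_cancel_left]

omit [Fact p.Prime] in
/-- block parts for two blocks -/
theorem blockPart_blockPart (hM : IsPModular p M) {H : Type u} [Group H] [Fintype H]
    {b b' : Set (IrrCharacter H)} (hb : IsPBlock M b) (hb' : IsPBlock M b') (F : H → ℂ) (y : H) :
    blockPart b (blockPart b' F) y = if b = b' then blockPart b F y else 0 := by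
  classical
  have : Fintype (IrrCharacter H) := Fintype.ofFinite _
  have hMp := isPModular_isPrime hM
  have h1 : blockPart b' F = fun c => ∑ ψ : IrrCharacter H,
      ((if ψ ∈ b' then (1 : ℂ) else 0) * classInner F (ψ : H → ℂ)) * (ψ : H → ℂ) c := by
    funext c
    rw [blockPart_eq_sum]
    refine Finset.sum_congr rfl fun ψ _ => ?_
    ring
  rw [h1, blockPart_sum_mul]
  by_cases hbb : b = b'
  · subst hbb
    rw [if_pos rfl, blockPart_eq_sum]
    refine Finset.sum_congr rfl fun ψ _ => ?_
    rw [blockPart_irr]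
    by_cases hψ : ψ ∈ b
    · rw [if_pos hψ]
      ring
    · rw [if_neg hψ]
      ring
  · rw [if_neg hbb]
    refine Finset.sum_eq_zero fun ψ _ => ?_
    rw [blockPart_irr]
    by_cases hψ' : ψ ∈ b'
    · have hψ : ψ ∉ b := by
        intro hψ
        apply hbb
        rw [isPBlock_eq_blockOf hMp hb hψ, isPBlock_eq_blockOf hMp hb' hψ']
      rw [if_neg hψ, zero_mul, mul_zero]
    · rw [if_neg hψ', zero_mul, zero_mul]

/-- **the section parts of a `*`-function** -/
theorem secPart_starFun (hM : IsPModular p M) (w : StarWeight G) (ζ : G → ℂ) {u : G}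
    (hu : ∃ k : ℕ, orderOf u = p ^ k) {b : Set (IrrCharacter ↥(cent u))} (hb : IsPBlock M b)
    (c : ↥(cent u)) :
    secPart p (cent u) b u (starFun p M w ζ) c = w u b * secPart p (cent u) b u ζ c := by
  classical
  have : Fintype ↥(cent u) := Fintype.ofFinite _
  by_cases hc : p ∣ orderOf c
  · rw [(secPart_spec (p := p) (cent u) b u _).2 c hc, (secPart_spec (p := p) (cent u) b u _).2 c hc,
      mul_zero]
  · have h1 : blockPart b (secFun (cent u) u (starFun p M w ζ)) c =
        blockPart b (fun c' : ↥(cent u) => ∑ b' ∈ blocksFinset M ↥(cent u),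
          w u b' * secPart p (cent u) b' u ζ c') c := by
      apply blockPart_congr_pRegular hM hb _ hc
      intro c' hc'
      rw [secFun_apply]
      exact starFun_mul_eq w ζ hu hc'
    have h2 : ∀ b' ∈ blocksFinset M ↥(cent u),
        w u b' * blockPart b (secPart p (cent u) b' u ζ) c =
          if b = b' then w u b * blockPart b (secFun (cent u) u ζ) c else 0 := by
      intro b' hb'
      rw [mem_blocksFinset] at hb'
      have h3 : blockPart b (secPart p (cent u) b' u ζ) c =
          blockPart b (blockPart b' (secFun (cent u) u ζ)) c := by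
        apply blockPart_congr_pRegular hM hb _ hc
        intro c' hc'
        unfold secPart
        rw [pRegularPart_of_not_dvd _ hc']
      rw [h3, blockPart_blockPart hM hb hb']
      by_cases hbb : b = b'
      · subst hbb
        rw [if_pos rfl, if_pos rfl]
      · rw [if_neg hbb, if_neg hbb, mul_zero]
    have h4 : secPart p (cent u) b u (starFun p M w ζ) c =
        blockPart b (secFun (cent u) u (starFun p M w ζ)) c := by
      unfold secPart
      rw [pRegularPart_of_not_dvd _ hc]
    have h5 : secPart p (cent u) b u ζ c = blockPart b (secFun (cent u) u ζ) c := by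
      unfold secPart
      rw [pRegularPart_of_not_dvd _ hc]
    rw [h4, h1, blockPart_sum_mul, Finset.sum_congr rfl h2, Finset.sum_ite_eq,
      if_pos ((mem_blocksFinset b).2 hb), h5]

/-- **composition of the `*`-construction** -/
theorem starFun_starFun (hM : IsPModular p M) (w w' : StarWeight G) (ζ : G → ℂ) (g : G) :
    starFun p M w' (starFun p M w ζ) g = starFun p M (fun u b => w' u b * w u b) ζ g := by
  have hp : p.Prime := Fact.out
  obtain ⟨u, hu⟩ := exists_isPPart hp g
  have hu1 : ∃ k : ℕ, orderOf u = p ^ k := by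
    obtain ⟨y, -, -, hk, -⟩ := hu
    exact hk
  rw [starFun_eq _ _ hu, starFun_eq _ _ hu]
  refine Finset.sum_congr rfl fun b hb => ?_
  rw [mem_blocksFinset] at hb
  rw [secPart_starFun hM w ζ hu1 hb, mul_assoc]

end Cfsg.Agent.Lib.Helper4.NilB
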