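import Mathlib
import Cfsg.Prelude.Def_Characters
import Cfsg.Prelude.Def_Blocks
import Cfsg.Prelude.Def_BlockRank
import Cfsg.Prelude.Def_BrauerPairs
import Cfsg.Agent.Lib.Helper8.BPS18
import Cfsg.Agent.Lib.Helper8.BPS19
import Cfsg.Agent.Lib.Helper8.BPS24
import Cfsg.Agent.Lib.Helper4.NilB11
import Cfsg.Agent.Lib.Helper4.BPQ

/-!
# Carve-out (A2) of the Broué–Puig project, computational core:
the inner product of a `*`-function with a linear character of an elementary subgroup `E = Q × A`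
is an inner product on `Q` of the local function attached to the idempotent of `A`.
-/

set_option autoImplicit false

namespace Cfsg.Agent.Lib.Helper4.BPA2

open scoped ComplexConjugate
open Cfsg Cfsg.Agent.Lib.Helper4 Cfsg.Agent.Lib.Helper8 Cfsg.Agent.Lib.Helper8.BPS

universe u

variable {M : Ideal AlgInt} {p : ℕ} {G : Type u} [Group G] [Fintype G] [DecidableEq G]

/-- the value of the local function at `u`, as an average over `A` of values of the `*`-function -/
theorem thetaLoc_linIdem_eq [Fact p.Prime] (hM : IsPModular p M) (w : StarWeight G) {χ : G → ℂ}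
    (hχ : IsClassFunction G χ) (Q A : Subgroup G) [Fintype A]
    (hQp : ∀ u ∈ Q, ∃ k : ℕ, orderOf u = p ^ k) (hAp : ∀ s ∈ A, ¬ p ∣ orderOf s)
    (hcomm : ∀ u ∈ Q, ∀ s ∈ A, u * s = s * u) (φA : A →* ℂˣ) (u : Q) :
    thetaLoc M w χ Q (linIdem A φA) u =
      (Nat.card A : ℂ)⁻¹ * ∑ s : A, conj ((φA s : ℂˣ) : ℂ) *
        starFun p M w χ ((u : G) * (s : G)) := by
  classical
  have hu := hQp u u.2
  -- the values of the `*`-function
  have hstar : ∀ s : A, starFun p M w χ ((u : G) * (s : G)) =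
      ∑ b ∈ blocksFinset M ↥(cent (u : G)),
        w (u : G) b * ev χ (og (u : G) * og (s : G) * bidem (cent (u : G)) b) := by
    intro s
    have hsc : (s : G) ∈ cent (u : G) := mem_cent_iff.2 (hcomm u u.2 s s.2).symm
    have hc : ¬ p ∣ orderOf (⟨(s : G), hsc⟩ : ↥(cent (u : G))) := by
      rw [Subgroup.orderOf_mk]; exact hAp s s.2
    have h1 := NilB.starFun_mul_eq (M := M) w χ hu (c := ⟨(s : G), hsc⟩) hc
    rw [h1]
    refine Finset.sum_congr rfl fun b hb => ?_
    have hb' : IsPBlock M b := (mem_blocksFinset b).1 hb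
    rw [BPQ.secPart_eq_ev hM hu b hb' hχ ⟨(s : G), hsc⟩ hc]
    rfl
  unfold thetaLoc
  have h1 : ∀ b : Set (IrrCharacter ↥(cent (u : G))),
      ev χ (og (u : G) * linIdem A φA * bidem (cent (u : G)) b) =
        (Nat.card A : ℂ)⁻¹ * ∑ s : A, conj ((φA s : ℂˣ) : ℂ) *
          ev χ (og (u : G) * og (s : G) * bidem (cent (u : G)) b) :=
    fun b => ev_mul_linIdem_mul A φA χ _ _
  simp_rw [h1, hstar]
  simp only [Finset.mul_sum]
  rw [Finset.sum_comm]
  refine Finset.sum_congr rfl fun s _ => ?_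
  refine Finset.sum_congr rfl fun b _ => ?_
  ring

/-- the computational core of (A2) -/
theorem sum_starFun_eq_classInner [Fact p.Prime] (hM : IsPModular p M) (w : StarWeight G)
    {χ : G → ℂ} (hχ : IsClassFunction G χ) (E Q A : Subgroup G) [Fintype E] [Fintype Q] [Fintype A]
    (hQE : Q ≤ E) (hAE : A ≤ E)
    (hQp : ∀ u ∈ Q, ∃ k : ℕ, orderOf u = p ^ k) (hAp : ∀ s ∈ A, ¬ p ∣ orderOf s)
    (hcomm : ∀ u ∈ Q, ∀ s ∈ A, u * s = s * u)
    (hbij : Function.Bijective (fun x : Q × A =>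
      (⟨(x.1 : G) * (x.2 : G), E.mul_mem (hQE x.1.2) (hAE x.2.2)⟩ : E)))
    (lam : E →* ℂˣ) :
    (Nat.card E : ℂ)⁻¹ * ∑ x : E, starFun p M w χ (x : G) * conj ((lam x : ℂˣ) : ℂ) =
      classInner (thetaLoc M w χ Q (linIdem A (lam.comp (Subgroup.inclusion hAE))))
        (fun u : Q => (((lam.comp (Subgroup.inclusion hQE)) u : ℂˣ) : ℂ)) := by
  classical
  set φA : A →* ℂˣ := lam.comp (Subgroup.inclusion hAE) with hφA
  set φQ : Q →* ℂˣ := lam.comp (Subgroup.inclusion hQE) with hφQ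
  have hcardE : (Nat.card E : ℂ) = (Nat.card Q : ℂ) * (Nat.card A : ℂ) := by
    have h1 := Nat.card_congr (Equiv.ofBijective _ hbij)
    rw [Nat.card_prod] at h1
    rw [← h1]; push_cast; rfl
  have hlam : ∀ (u : Q) (s : A),
      lam ⟨(u : G) * (s : G), E.mul_mem (hQE u.2) (hAE s.2)⟩ = φQ u * φA s := by
    intro u s
    rw [hφQ, hφA, MonoidHom.comp_apply, MonoidHom.comp_apply, ← map_mul]
    rfl
  -- the sum over `E` as a double sum
  have hsum : ∑ x : E, starFun p M w χ (x : G) * conj ((lam x : ℂˣ) : ℂ) =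
      ∑ u : Q, ∑ s : A, starFun p M w χ ((u : G) * (s : G)) *
        (conj ((φQ u : ℂˣ) : ℂ) * conj ((φA s : ℂˣ) : ℂ)) := by
    rw [← (Equiv.ofBijective _ hbij).sum_comp, Fintype.sum_prod_type]
    refine Finset.sum_congr rfl fun u _ => ?_
    refine Finset.sum_congr rfl fun s _ => ?_
    rw [Equiv.ofBijective_apply]
    show starFun p M w χ ((u : G) * (s : G)) *
      conj ((lam ⟨(u : G) * (s : G), E.mul_mem (hQE u.2) (hAE s.2)⟩ : ℂˣ) : ℂ) = _
    rw [hlam u s, Units.val_mul, map_mul]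
  rw [hsum, classInner_def, hcardE, mul_inv, mul_assoc]
  congr 1
  rw [Finset.mul_sum]
  refine Finset.sum_congr rfl fun u _ => ?_
  rw [thetaLoc_linIdem_eq hM w hχ Q A hQp hAp hcomm φA u]
  rw [Finset.mul_sum, Finset.mul_sum, Finset.sum_mul]
  refine Finset.sum_congr rfl fun s _ => ?_
  ring

end Cfsg.Agent.Lib.Helper4.BPA2
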