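import Mathlib
import Cfsg.Prelude.Def_Characters
import Cfsg.Prelude.Def_Blocks
import Cfsg.Prelude.Def_BlockRank
import Cfsg.Prelude.Def_BrauerPairs
import Cfsg.Agent.Lib.Helper8.BPS18
import Cfsg.Agent.Lib.Helper8.BPS19
import Cfsg.Agent.Lib.Helper8.BPS24
import Cfsg.Agent.Lib.Helper8.PairConj3
import Cfsg.Agent.Lib.Helper2.BrauerAdd
import Cfsg.Agent.Lib.Lead.BPN
import Cfsg.Agent.Lib.Helper1.LinearChar
import Cfsg.Agent.Lib.Helper4.NilB10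
import Cfsg.Agent.Lib.Helper4.BPA2a

/-!
# Carve-out (A2) of the Broué–Puig project: the local statement implies the theorem
-/

set_option autoImplicit false

namespace Cfsg.Agent.Lib.Helper4.BPA2

open scoped ComplexConjugate
open Cfsg Cfsg.Agent.Lib.Helper4 Cfsg.Agent.Lib.Helper8 Cfsg.Agent.Lib.Helper8.BPS

universe u

variable {M : Ideal AlgInt} {p : ℕ} {G : Type u} [Group G] [Fintype G] [DecidableEq G]

/-- (A2) -/
theorem tstar_of_local (hM : IsPModular p M)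
    (h : LocalStatement p M (isPModular_isPrime hM) G) : TstarStatement p M G := by
  classical
  haveI : Fact p.Prime := ⟨hM.1⟩
  intro B D eD hmax _ S η hη hS w hw χ hχ
  have hcf := NilB.isClassFunction_starFun hM hmax hw hχ
  refine ⟨hcf, fun ψ => ?_⟩
  have hχcf : IsClassFunction G (χ : G → ℂ) :=
    isClassFunction_of_isCharacter (isCharacter_of_irr χ.2)
  refine Cfsg.Agent.Lib.Helper2.BrauerAdd.classInner_mem_of_elementary S _ hcf ?_ _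
    (isCharacter_of_irr ψ.2)
  rintro E lam ⟨q, hq, hE⟩
  haveI : Fintype E := Fintype.ofFinite E
  obtain ⟨Q₀, A₀, hQ₀, hA₀, hc₀, hbij₀⟩ :=
    Cfsg.Agent.Lib.Lead.exists_pPart_decomp_of_isElementary hq hE p
  set Q : Subgroup G := Q₀.map E.subtype with hQdef
  set A : Subgroup G := A₀.map E.subtype with hAdef
  haveI : Fintype Q := Fintype.ofFinite Q
  haveI : Fintype A := Fintype.ofFinite A
  have hQE : Q ≤ E := Subgroup.map_subtype_le Q₀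
  have hAE : A ≤ E := Subgroup.map_subtype_le A₀
  have hQp : ∀ u ∈ Q, ∃ k : ℕ, orderOf u = p ^ k := by
    rintro u ⟨u₀, hu₀, rfl⟩
    obtain ⟨k, hk⟩ := (IsPGroup.iff_orderOf.mp hQ₀) ⟨u₀, hu₀⟩
    refine ⟨k, ?_⟩
    rw [← hk, Subgroup.orderOf_mk]
    exact Subgroup.orderOf_coe u₀
  have hAp : ∀ s ∈ A, ¬ p ∣ orderOf s := by
    rintro s ⟨s₀, hs₀, rfl⟩
    have := hA₀ s₀ hs₀
    rwa [← Subgroup.orderOf_coe] at this
  have hcomm : ∀ u ∈ Q, ∀ s ∈ A, u * s = s * u := by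
    rintro u ⟨u₀, hu₀, rfl⟩ s ⟨s₀, hs₀, rfl⟩
    exact congrArg Subtype.val (hc₀ u₀ hu₀ s₀ hs₀)
  have hbij : Function.Bijective (fun x : Q × A =>
      (⟨(x.1 : G) * (x.2 : G), E.mul_mem (hQE x.1.2) (hAE x.2.2)⟩ : E)) := by
    constructor
    · rintro ⟨⟨u, hu⟩, ⟨s, hs⟩⟩ ⟨⟨u', hu'⟩, ⟨s', hs'⟩⟩ hxy
      obtain ⟨u₀, hu₀, rfl⟩ := hu
      obtain ⟨s₀, hs₀, rfl⟩ := hs
      obtain ⟨u₀', hu₀', rfl⟩ := hu'
      obtain ⟨s₀', hs₀', rfl⟩ := hs'
      have h1 : (u₀ : E) * (s₀ : E) = (u₀' : E) * (s₀' : E) := by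
        apply Subtype.ext
        exact congrArg Subtype.val hxy
      have h2 := hbij₀.1 (a₁ := (⟨⟨u₀, hu₀⟩, ⟨s₀, hs₀⟩⟩ : Q₀ × A₀))
        (a₂ := (⟨⟨u₀', hu₀'⟩, ⟨s₀', hs₀'⟩⟩ : Q₀ × A₀)) h1
      have h3 : u₀ = u₀' := congrArg (fun x : Q₀ × A₀ => (x.1 : E)) h2
      have h4 : s₀ = s₀' := congrArg (fun x : Q₀ × A₀ => (x.2 : E)) h2
      subst h3; subst h4; rfl
    · intro x
      obtain ⟨⟨u₀, s₀⟩, hx⟩ := hbij₀.2 x
      refine ⟨(⟨⟨(u₀ : E), ⟨(u₀ : E), u₀.2, rfl⟩⟩, ⟨(s₀ : E), ⟨(s₀ : E), s₀.2, rfl⟩⟩⟩ : Q × A), ?_⟩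
      apply Subtype.ext
      exact congrArg Subtype.val hx
  rw [finsum_eq_sum_of_fintype]
  rw [sum_starFun_eq_classInner hM w hχcf E Q A hQE hAE hQp hAp hcomm hbij lam]
  -- apply the local statement
  have hAcard : ¬ p ∣ Nat.card A := by
    intro hdvd
    obtain ⟨x, hx⟩ := exists_prime_orderOf_dvd_card' p hdvd
    apply hAp (x : G) x.2
    rw [Subgroup.orderOf_coe, hx]
  have hQpg : IsPGroup p Q := hQ₀.map E.subtype
  refine h B D eD hmax S η hη hS w hw χ hχ Q hQpg _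
    (linIdem_mul_self A _) ?_ ?_ _ ?_
  · rw [mem_fixedRing]
    refine ⟨fun g => linIdem_coeff_mem hM A _ hAcard g, fun s hs => ?_⟩
    exact cj_linIdem A _ s (fun a ha => hcomm s hs a ha)
  · intro g hg
    have hgA := linIdem_support A _ g hg
    refine ⟨?_, hAp g hgA⟩
    rw [Subgroup.mem_centralizer_iff]
    intro u hu
    exact hcomm u hu g hgA
  · exact isCharacter_of_irr (Cfsg.Agent.Lib.Helper1.isIrrCharacter_of_hom _)

end Cfsg.Agent.Lib.Helper4.BPA2
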