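import Cfsg.Agent.Lib.Helper6.C2Max.Defs
import Cfsg.Agent.Lib.Helper9.DecompNM2

set_option autoImplicit false
set_option linter.unusedSectionVars false

/-!
S5634, package PK-GLUE: from the coordinate statement (subgroups of `SL` over the index type
`Σ _ : Fin t, Fin m` containing all block-monomial matrices) to the frozen statement
(the stabiliser of an `m`-decomposition is maximal in `specialLinear (Fin n) F`).
-/

namespace Cfsg.Agent.Lib.Helper6.C2Max

open Matrix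

variable {F : Type*} [Field F] [Fintype F] {ι : Type*} [Fintype ι] [DecidableEq ι]

namespace PkGLUE

section basis

variable {n t m : ℕ} (B : Module.Basis (Σ _ : Fin t, Fin m) F (Fin n → F))

/-- "matrix in the basis `B`" as an algebra equivalence -/
noncomputable def toB : Matrix (Fin n) (Fin n) F ≃ₐ[F]
    Matrix (Σ _ : Fin t, Fin m) (Σ _ : Fin t, Fin m) F :=
  (Matrix.toLinAlgEquiv' : Matrix (Fin n) (Fin n) F ≃ₐ[F] ((Fin n → F) →ₗ[F] (Fin n → F))).trans
    (LinearMap.toMatrixAlgEquiv B)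

theorem toB_apply (A : Matrix (Fin n) (Fin n) F) (a b : Σ _ : Fin t, Fin m) :
    toB B A a b = B.repr (A *ᵥ B b) a := by
  unfold toB
  rw [AlgEquiv.trans_apply, LinearMap.toMatrixAlgEquiv_apply, Matrix.toLinAlgEquiv'_apply]

theorem det_toB (A : Matrix (Fin n) (Fin n) F) : (toB B A).det = A.det := by
  have h1 : toB B A = LinearMap.toMatrix B B (Matrix.toLin' A) := rfl
  rw [h1, LinearMap.det_toMatrix, LinearMap.det_toLin']

/-- from `SL` in the coordinates of `B` to `GL (Fin n) F` -/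
noncomputable def fromB : SpecialLinearGroup (Σ _ : Fin t, Fin m) F →* GL (Fin n) F :=
  (Units.map ((toB B).symm : Matrix (Σ _ : Fin t, Fin m) (Σ _ : Fin t, Fin m) F →*
    Matrix (Fin n) (Fin n) F)).comp SpecialLinearGroup.toGL

theorem fromB_val (k : SpecialLinearGroup (Σ _ : Fin t, Fin m) F) :
    ((fromB B k : GL (Fin n) F) : Matrix (Fin n) (Fin n) F) = (toB B).symm k.1 := rfl

theorem toB_fromB (k : SpecialLinearGroup (Σ _ : Fin t, Fin m) F) :
    toB B ((fromB B k : GL (Fin n) F) : Matrix (Fin n) (Fin n) F) = k.1 := by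
  rw [fromB_val, AlgEquiv.apply_symm_apply]

theorem fromB_mem_sl (k : SpecialLinearGroup (Σ _ : Fin t, Fin m) F) :
    fromB B k ∈ Cfsg.Geo.specialLinear (Fin n) F := by
  rw [Cfsg.Agent.H9Dec.mem_specialLinear_iff, ← det_toB B, toB_fromB]
  exact k.2

theorem exists_fromB (g : GL (Fin n) F) (hg : g ∈ Cfsg.Geo.specialLinear (Fin n) F) :
    ∃ k, fromB B k = g := by
  rw [Cfsg.Agent.H9Dec.mem_specialLinear_iff] at hg
  refine ⟨(⟨toB B (g : Matrix (Fin n) (Fin n) F), by rw [det_toB]; exact hg⟩ :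
    SpecialLinearGroup (Σ _ : Fin t, Fin m) F), ?_⟩
  apply Units.ext
  show (toB B).symm (toB B (g : Matrix (Fin n) (Fin n) F)) = _
  exact AlgEquiv.symm_apply_apply _ _

theorem repr_fromB (k : SpecialLinearGroup (Σ _ : Fin t, Fin m) F) (a b : Σ _ : Fin t, Fin m) :
    B.repr (((fromB B k : GL (Fin n) F) : Matrix (Fin n) (Fin n) F) *ᵥ B b) a = k.1 a b := by
  rw [← toB_apply, toB_fromB]

variable {B} {D : Fin t → Submodule F (Fin n → F)}

theorem isBM_of_mem_stab (hB : Cfsg.Agent.H9Dec.Adapted D B)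
    (k : SpecialLinearGroup (Σ _ : Fin t, Fin m) F)
    (h : fromB B k ∈ Cfsg.Geo.decompositionStabilizer D) :
    IsBM (Sigma.fst : (Σ _ : Fin t, Fin m) → Fin t) k.1 := by
  obtain ⟨σ, hσ⟩ := h
  refine ⟨σ, fun a b hab => ?_⟩
  by_contra hne
  apply hab
  rw [← repr_fromB B k a b]
  have hmem := Cfsg.Agent.H9Dec.stab_apply_mem hσ (hB.mem b.1 b.2)
  exact hB.repr_ne (σ b.1) a.1 a.2 _ hmem hne

theorem apply_basis_mem (hB : Cfsg.Agent.H9Dec.Adapted D B)
    (k : SpecialLinearGroup (Σ _ : Fin t, Fin m) F) (σ : Equiv.Perm (Fin t))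
    (hσ : ∀ r c, k.1 r c ≠ 0 → r.1 = σ c.1) (b : Σ _ : Fin t, Fin m) :
    ((fromB B k : GL (Fin n) F) : Matrix (Fin n) (Fin n) F) *ᵥ B b ∈ D (σ b.1) := by
  rw [← B.sum_repr (((fromB B k : GL (Fin n) F) : Matrix (Fin n) (Fin n) F) *ᵥ B b)]
  apply Submodule.sum_mem
  intro a _
  rw [repr_fromB]
  by_cases h0 : k.1 a b = 0
  · rw [h0, zero_smul]
    exact Submodule.zero_mem _
  · have h1 := hσ a b h0
    rw [← h1]
    exact Submodule.smul_mem _ _ (hB.mem a.1 a.2)

theorem apply_mem (hB : Cfsg.Agent.H9Dec.Adapted D B)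
    (k : SpecialLinearGroup (Σ _ : Fin t, Fin m) F) (σ : Equiv.Perm (Fin t))
    (hσ : ∀ r c, k.1 r c ≠ 0 → r.1 = σ c.1) (i : Fin t) (y : Fin n → F) (hy : y ∈ D i) :
    ((fromB B k : GL (Fin n) F) : Matrix (Fin n) (Fin n) F) *ᵥ y ∈ D (σ i) := by
  have h1 : ((fromB B k : GL (Fin n) F) : Matrix (Fin n) (Fin n) F) *ᵥ y =
      ∑ b, B.repr y b • (((fromB B k : GL (Fin n) F) : Matrix (Fin n) (Fin n) F) *ᵥ B b) := by
    conv_lhs => rw [← B.sum_repr y]
    rw [← Matrix.toLin'_apply, map_sum]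
    simp only [map_smul, Matrix.toLin'_apply]
  rw [h1]
  apply Submodule.sum_mem
  intro b _
  by_cases hb : b.1 = i
  · have h2 := apply_basis_mem hB k σ hσ b
    rw [hb] at h2
    exact Submodule.smul_mem _ _ h2
  · rw [hB.repr_ne i b.1 b.2 y hy hb, zero_smul]
    exact Submodule.zero_mem _

theorem mem_stab_of_isBM (hD : Cfsg.Geo.IsMDecomposition m D)
    (hB : Cfsg.Agent.H9Dec.Adapted D B) (k : SpecialLinearGroup (Σ _ : Fin t, Fin m) F)
    (h : IsBM (Sigma.fst : (Σ _ : Fin t, Fin m) → Fin t) k.1) :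
    fromB B k ∈ Cfsg.Geo.decompositionStabilizer D := by
  obtain ⟨σ, hσ⟩ := h
  refine ⟨σ, fun i => ?_⟩
  have hle : (D i).map (Matrix.toLin' ((fromB B k : GL (Fin n) F) : Matrix (Fin n) (Fin n) F)) ≤
      D (σ i) := by
    rintro _ ⟨y, hy, rfl⟩
    rw [Matrix.toLin'_apply]
    exact apply_mem hB k σ hσ i y hy
  have hinj : Function.Injective
      (Matrix.toLin' ((fromB B k : GL (Fin n) F) : Matrix (Fin n) (Fin n) F)) := by
    apply Function.LeftInverse.injective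
      (g := fun v => (((fromB B k)⁻¹ : GL (Fin n) F) : Matrix (Fin n) (Fin n) F) *ᵥ v)
    intro v
    show _ *ᵥ (Matrix.toLin' _ v) = v
    rw [Matrix.toLin'_apply, Matrix.mulVec_mulVec, ← Units.val_mul, inv_mul_cancel, Units.val_one,
      Matrix.one_mulVec]
  apply Submodule.eq_of_le_of_finrank_eq hle
  have e1 := (Submodule.equivMapOfInjective _ hinj (D i)).finrank_eq.symm
  exact e1.trans ((hD.finrank_eq i).trans (hD.finrank_eq (σ i)).symm)

end basis

theorem exists_not_isBM {t m : ℕ} (ht : 2 ≤ t) (hm : 0 < m) :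
    ∃ k : SpecialLinearGroup (Σ _ : Fin t, Fin m) F,
      ¬ IsBM (Sigma.fst : (Σ _ : Fin t, Fin m) → Fin t) k.1 := by
  let r : Σ _ : Fin t, Fin m := ⟨⟨0, by omega⟩, ⟨0, hm⟩⟩
  let c : Σ _ : Fin t, Fin m := ⟨⟨1, by omega⟩, ⟨0, hm⟩⟩
  have hrc : r ≠ c := by
    intro h
    have := congrArg (fun x : Σ _ : Fin t, Fin m => (x.1 : ℕ)) h
    simp [r, c] at this
  refine ⟨SpecialLinearGroup.transvection hrc 1, ?_⟩
  rintro ⟨σ, hσ⟩
  have hcoe : (SpecialLinearGroup.transvection hrc (1 : F)).1 = 1 + Matrix.single r c (1 : F) := by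
    rw [SpecialLinearGroup.transvection_coe]
  have e1 : (SpecialLinearGroup.transvection hrc (1 : F)).1 c c ≠ 0 := by
    rw [hcoe]
    simp [Matrix.add_apply, hrc]
  have e2 : (SpecialLinearGroup.transvection hrc (1 : F)).1 r c ≠ 0 := by
    rw [hcoe]
    simp [Matrix.add_apply, Matrix.one_apply_ne hrc]
  have h1 := hσ c c e1
  have h2 := hσ r c e2
  have h3 : r.1 = c.1 := h2.trans h1.symm
  have := congrArg (fun x : Fin t => (x : ℕ)) h3
  simp [r, c] at this

end PkGLUE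

/-! ## PK-GLUE : from coordinates to the statement -/

theorem card_of_isMDecomposition {n t m : ℕ} (D : Fin t → Submodule F (Fin n → F))
    (hD : Cfsg.Geo.IsMDecomposition m D) : t * m = n := by
  obtain ⟨B, -⟩ := Cfsg.Agent.H9Dec.exists_adapted hD
  have h1 := Module.finrank_eq_card_basis B
  rw [Module.finrank_fin_fun] at h1
  rw [h1]
  simp

theorem maximal_of_core {n t m : ℕ} (D : Fin t → Submodule F (Fin n → F))
    (hD : Cfsg.Geo.IsMDecomposition m D)
    (hcore : ∀ K : Subgroup (SpecialLinearGroup (Σ _ : Fin t, Fin m) F),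
      OverB (Sigma.fst : (Σ _ : Fin t, Fin m) → Fin t) K →
      (∀ g ∈ K, IsBM (Sigma.fst : (Σ _ : Fin t, Fin m) → Fin t)
        (g : SpecialLinearGroup (Σ _ : Fin t, Fin m) F).1) ∨ K = ⊤) :
    Cfsg.Geo.IsMaximalIn (Cfsg.Geo.specialLinear (Fin n) F)
      (Cfsg.Geo.decompositionStabilizer D ⊓ Cfsg.Geo.specialLinear (Fin n) F) := by
  classical
  obtain ⟨B, hB⟩ := Cfsg.Agent.H9Dec.exists_adapted hD
  refine ⟨lt_of_le_of_ne inf_le_right ?_, ?_⟩
  · intro heq
    obtain ⟨k₀, hk₀⟩ := PkGLUE.exists_not_isBM (F := F) hD.two_le hD.pos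
    have h1 : PkGLUE.fromB B k₀ ∈ Cfsg.Geo.specialLinear (Fin n) F := PkGLUE.fromB_mem_sl B k₀
    rw [← heq] at h1
    exact hk₀ (PkGLUE.isBM_of_mem_stab hB k₀ (Subgroup.mem_inf.1 h1).1)
  · intro M hHM hMS
    have hK : OverB (Sigma.fst : (Σ _ : Fin t, Fin m) → Fin t) (M.comap (PkGLUE.fromB B)) :=
      fun g hg => hHM (Subgroup.mem_inf.2
        ⟨PkGLUE.mem_stab_of_isBM hD hB g hg, PkGLUE.fromB_mem_sl B g⟩)
    rcases hcore _ hK with h | h
    · left
      apply le_antisymm _ hHM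
      intro g hg
      obtain ⟨k, rfl⟩ := PkGLUE.exists_fromB B g (hMS hg)
      exact Subgroup.mem_inf.2 ⟨PkGLUE.mem_stab_of_isBM hD hB k (h k hg), PkGLUE.fromB_mem_sl B k⟩
    · right
      apply le_antisymm hMS
      intro g hg
      obtain ⟨k, rfl⟩ := PkGLUE.exists_fromB B g hg
      have h2 : k ∈ M.comap (PkGLUE.fromB B) := by
        rw [h]
        exact Subgroup.mem_top _
      exact h2

theorem isBM_fst_iff_isMono {t : ℕ} (A : Matrix (Σ _ : Fin t, Fin 1) (Σ _ : Fin t, Fin 1) F) :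
    IsBM (Sigma.fst : (Σ _ : Fin t, Fin 1) → Fin t) A ↔ IsMono A := by
  let e : (Σ _ : Fin t, Fin 1) ≃ Fin t :=
    ⟨Sigma.fst, fun i => ⟨i, 0⟩, fun a => by
      obtain ⟨i, j⟩ := a
      have : j = 0 := Subsingleton.elim _ _
      subst this
      rfl, fun i => rfl⟩
  constructor
  · rintro ⟨σ, hσ⟩
    refine ⟨(e.trans σ).trans e.symm, fun r c h => ?_⟩
    have h1 := hσ r c h
    apply e.injective
    show r.1 = e (((e.trans σ).trans e.symm) c)
    rw [Equiv.trans_apply, Equiv.apply_symm_apply, Equiv.trans_apply]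
    exact h1
  · rintro ⟨σ, hσ⟩
    refine ⟨(e.symm.trans σ).trans e, fun r c h => ?_⟩
    have h1 := hσ r c h
    rw [Equiv.trans_apply, Equiv.trans_apply]
    have h2 : e.symm c.1 = c := e.symm_apply_apply c
    rw [h2, ← h1]
    rfl

end Cfsg.Agent.Lib.Helper6.C2Max
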