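import Cfsg.Agent.Lib.Helper4.C6PkBase

set_option autoImplicit false
set_option linter.unusedSectionVars false

open Matrix
open scoped MatrixGroups

/-! PKG-H1: noncentral involutions of `Sp_4(F)`, `char F ≠ 2`, form one class. -/

namespace Cfsg.Agent.Lib.C6Pk

open Cfsg.Agent.Lib.Helper2.Symp Cfsg.Agent.H9SpMax

variable {F : Type*} [Field F]

theorem mat_ext_cols {A B : Matrix (Fin 2 ⊕ Fin 2) (Fin 2 ⊕ Fin 2) F}
    (h : ∀ c, A *ᵥ Pi.single c 1 = B *ᵥ Pi.single c 1) : A = B := by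
  ext r c
  have := congrFun (h c) r
  rwa [Matrix.mulVec_single_one, Matrix.mulVec_single_one] at this

/-- two elements with the same normal form w.r.t. symplectic bases are conjugate in `spGL`. -/
theorem conj_of_normal_form (x y : GL (Fin 2 ⊕ Fin 2) F)
    (gx gy : Matrix.symplecticGroup (Fin 2) F) (N : Matrix (Fin 2 ⊕ Fin 2) (Fin 2 ⊕ Fin 2) F)
    (hx : (x : Matrix (Fin 2 ⊕ Fin 2) (Fin 2 ⊕ Fin 2) F) *
      (gx : Matrix (Fin 2 ⊕ Fin 2) (Fin 2 ⊕ Fin 2) F) =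
      (gx : Matrix (Fin 2 ⊕ Fin 2) (Fin 2 ⊕ Fin 2) F) * N)
    (hy : (y : Matrix (Fin 2 ⊕ Fin 2) (Fin 2 ⊕ Fin 2) F) *
      (gy : Matrix (Fin 2 ⊕ Fin 2) (Fin 2 ⊕ Fin 2) F) =
      (gy : Matrix (Fin 2 ⊕ Fin 2) (Fin 2 ⊕ Fin 2) F) * N) :
    ∃ g ∈ Cfsg.spGL 2 F, g⁻¹ * x * g = y := by
  have hGx : toGL 2 F gx ∈ Cfsg.spGL 2 F := by rw [← toGL_range]; exact ⟨gx, rfl⟩
  have hGy : toGL 2 F gy ∈ Cfsg.spGL 2 F := by rw [← toGL_range]; exact ⟨gy, rfl⟩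
  refine ⟨toGL 2 F gx * (toGL 2 F gy)⁻¹, (Cfsg.spGL 2 F).mul_mem hGx ((Cfsg.spGL 2 F).inv_mem hGy),
    ?_⟩
  have key : (toGL 2 F gx)⁻¹ * x * toGL 2 F gx = (toGL 2 F gy)⁻¹ * y * toGL 2 F gy := by
    have h1 : ∀ (z : GL (Fin 2 ⊕ Fin 2) F) (gz : Matrix.symplecticGroup (Fin 2) F),
        (z : Matrix (Fin 2 ⊕ Fin 2) (Fin 2 ⊕ Fin 2) F) *
          (gz : Matrix (Fin 2 ⊕ Fin 2) (Fin 2 ⊕ Fin 2) F) =
          (gz : Matrix (Fin 2 ⊕ Fin 2) (Fin 2 ⊕ Fin 2) F) * N →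
        (((toGL 2 F gz)⁻¹ * z * toGL 2 F gz : GL (Fin 2 ⊕ Fin 2) F) :
          Matrix (Fin 2 ⊕ Fin 2) (Fin 2 ⊕ Fin 2) F) = N := by
      intro z gz hz
      have e1 : ((toGL 2 F gz : GL (Fin 2 ⊕ Fin 2) F) :
          Matrix (Fin 2 ⊕ Fin 2) (Fin 2 ⊕ Fin 2) F) *
          (((toGL 2 F gz)⁻¹ * z * toGL 2 F gz : GL (Fin 2 ⊕ Fin 2) F) :
          Matrix (Fin 2 ⊕ Fin 2) (Fin 2 ⊕ Fin 2) F) =
          ((toGL 2 F gz : GL (Fin 2 ⊕ Fin 2) F) :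
          Matrix (Fin 2 ⊕ Fin 2) (Fin 2 ⊕ Fin 2) F) * N := by
        rw [← Units.val_mul]
        rw [show toGL 2 F gz * ((toGL 2 F gz)⁻¹ * z * toGL 2 F gz) = z * toGL 2 F gz by group]
        rw [Units.val_mul, toGL_coe, hz]
      have hinj : Function.Injective (fun M : Matrix (Fin 2 ⊕ Fin 2) (Fin 2 ⊕ Fin 2) F =>
          ((toGL 2 F gz : GL (Fin 2 ⊕ Fin 2) F) :
          Matrix (Fin 2 ⊕ Fin 2) (Fin 2 ⊕ Fin 2) F) * M) := by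
        intro M M' hMM
        have := congrArg (fun M => (((toGL 2 F gz)⁻¹ : GL (Fin 2 ⊕ Fin 2) F) :
          Matrix (Fin 2 ⊕ Fin 2) (Fin 2 ⊕ Fin 2) F) * M) hMM
        simpa [← Matrix.mul_assoc, ← Units.val_mul] using this
      exact hinj e1
    apply Units.ext
    rw [h1 x gx hx, h1 y gy hy]
  calc (toGL 2 F gx * (toGL 2 F gy)⁻¹)⁻¹ * x * (toGL 2 F gx * (toGL 2 F gy)⁻¹)
      = toGL 2 F gy * ((toGL 2 F gx)⁻¹ * x * toGL 2 F gx) * (toGL 2 F gy)⁻¹ := by group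
    _ = y := by rw [key]; group


/-- eigenvectors for different "signs" are orthogonal. -/
theorem orth_of_eig (X : Matrix (Fin 2 ⊕ Fin 2) (Fin 2 ⊕ Fin 2) F)
    (hXB : ∀ u v, Cfsg.sympForm 2 F (X *ᵥ u) (X *ᵥ v) = Cfsg.sympForm 2 F u v)
    (a b : F) (hab : 1 - a * b ≠ 0) (u v : Fin 2 ⊕ Fin 2 → F) (hu : X *ᵥ u = a • u)
    (hv : X *ᵥ v = b • v) : Cfsg.sympForm 2 F u v = 0 := by
  have h := hXB u v
  rw [hu, hv, sympForm_smul_left, sympForm_smul_right] at h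
  have : (1 - a * b) * Cfsg.sympForm 2 F u v = 0 := by linear_combination -h
  exact (mul_eq_zero.mp this).resolve_left hab

/-- a hyperbolic pair inside the `ε`-eigenspace of an involution. -/
theorem eig_pair (h2 : (2 : F) ≠ 0) (X : Matrix (Fin 2 ⊕ Fin 2) (Fin 2 ⊕ Fin 2) F)
    (hXB : ∀ u v, Cfsg.sympForm 2 F (X *ᵥ u) (X *ᵥ v) = Cfsg.sympForm 2 F u v)
    (hX2 : X * X = 1) (ε : F) (hε : ε * ε = 1) (hne : X + ε • (1 : Matrix _ _ F) ≠ 0) :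
    ∃ e f : Fin 2 ⊕ Fin 2 → F, X *ᵥ e = ε • e ∧ X *ᵥ f = ε • f ∧ Cfsg.sympForm 2 F f e = 1 := by
  have hε0 : ε ≠ 0 := by
    intro h
    rw [h, mul_zero] at hε
    exact zero_ne_one hε
  have hXP : X * (X + ε • (1 : Matrix _ _ F)) = ε • (X + ε • (1 : Matrix _ _ F)) := by
    rw [Matrix.mul_add, hX2, Matrix.mul_smul, Matrix.mul_one, smul_add, smul_smul, hε, one_smul,
      add_comm]
  have himg : ∀ v, X *ᵥ ((X + ε • (1 : Matrix _ _ F)) *ᵥ v) =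
      ε • ((X + ε • (1 : Matrix _ _ F)) *ᵥ v) := by
    intro v
    rw [Matrix.mulVec_mulVec, hXP, Matrix.smul_mulVec]
  obtain ⟨c, hc⟩ : ∃ c, (X + ε • (1 : Matrix _ _ F)) *ᵥ Pi.single c 1 ≠ 0 := by
    by_contra hcon
    push Not at hcon
    apply hne
    apply mat_ext_cols
    intro c
    rw [hcon c, Matrix.zero_mulVec]
  set e := (X + ε • (1 : Matrix _ _ F)) *ᵥ Pi.single c 1 with he
  obtain ⟨w, hw⟩ := exists_sympForm_ne_zero e hc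
  set f' := (X + ε • (1 : Matrix _ _ F)) *ᵥ w with hf'
  have hXe : X *ᵥ e = ε • e := himg _
  have hXf' : X *ᵥ f' = ε • f' := himg _
  have hpair : Cfsg.sympForm 2 F f' e = 2 * ε * Cfsg.sympForm 2 F w e := by
    have h1 : f' = X *ᵥ w + ε • w := by
      rw [hf', Matrix.add_mulVec, Matrix.smul_mulVec, Matrix.one_mulVec]
    have h3 : Cfsg.sympForm 2 F (X *ᵥ w) e = ε * Cfsg.sympForm 2 F w e := by
      have h4 := hXB w e
      rw [hXe, sympForm_smul_right] at h4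
      have : ε * (ε * Cfsg.sympForm 2 F (X *ᵥ w) e) = ε * Cfsg.sympForm 2 F w e := by rw [h4]
      rw [← mul_assoc, hε, one_mul] at this
      exact this
    rw [h1, sympForm_add_left, sympForm_smul_left, h3]
    ring
  have hpne : Cfsg.sympForm 2 F f' e ≠ 0 := by
    rw [hpair]
    exact mul_ne_zero (mul_ne_zero h2 hε0) hw
  refine ⟨e, (Cfsg.sympForm 2 F f' e)⁻¹ • f', hXe, ?_, ?_⟩
  · rw [Matrix.mulVec_smul, hXf', smul_comm]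
  · rw [sympForm_smul_left, inv_mul_cancel₀ hpne]

/-- the normal form of a noncentral involution. -/
def dH1 : Fin 2 ⊕ Fin 2 → F := fun c =>
  match c with
  | Sum.inl 0 => 1
  | Sum.inl 1 => -1
  | Sum.inr 0 => 1
  | Sum.inr 1 => -1

theorem exists_normal_form_H1 (h2 : (2 : F) ≠ 0)
    (X : Matrix (Fin 2 ⊕ Fin 2) (Fin 2 ⊕ Fin 2) F)
    (hXB : ∀ u v, Cfsg.sympForm 2 F (X *ᵥ u) (X *ᵥ v) = Cfsg.sympForm 2 F u v)
    (hX2 : X * X = 1) (hX1 : X ≠ 1) (hXm : X ≠ -1) :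
    ∃ g : Matrix.symplecticGroup (Fin 2) F,
      X * (g : Matrix (Fin 2 ⊕ Fin 2) (Fin 2 ⊕ Fin 2) F) =
        (g : Matrix (Fin 2 ⊕ Fin 2) (Fin 2 ⊕ Fin 2) F) * Matrix.diagonal (dH1 (F := F)) := by
  obtain ⟨e1, f1, he1, hf1, h11⟩ := eig_pair h2 X hXB hX2 1 (one_mul 1) (by
    intro h
    apply hXm
    rw [one_smul] at h
    exact eq_neg_of_add_eq_zero_left h)
  obtain ⟨e2, f2, he2, hf2, h22⟩ := eig_pair h2 X hXB hX2 (-1) (by ring) (by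
    intro h
    apply hX1
    rw [neg_smul, one_smul, ← sub_eq_add_neg] at h
    exact sub_eq_zero.mp h)
  have hab : (1 : F) - 1 * -1 ≠ 0 := by
    intro h
    apply h2
    linear_combination h
  have hab' : (1 : F) - -1 * 1 ≠ 0 := by
    intro h
    apply h2
    linear_combination h
  have hee := orth_of_eig X hXB 1 (-1) hab e1 e2 he1 he2
  have hff := orth_of_eig X hXB 1 (-1) hab f1 f2 hf1 hf2
  have h12 := orth_of_eig X hXB 1 (-1) hab f1 e2 hf1 he2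
  have h21 := orth_of_eig X hXB (-1) 1 hab' f2 e1 hf2 he1
  refine ⟨⟨colMat e1 e2 f1 f2, colMat_mem e1 e2 f1 f2 h11 h22 hee hff h12 h21⟩, ?_⟩
  apply mat_ext_cols
  intro c
  have hs : (Pi.single c (dH1 c : F) : Fin 2 ⊕ Fin 2 → F) =
      (dH1 c : F) • (Pi.single c (1 : F) : Fin 2 ⊕ Fin 2 → F) := by
    rw [← Pi.single_smul', smul_eq_mul, mul_one]
  rw [← Matrix.mulVec_mulVec, ← Matrix.mulVec_mulVec, Matrix.diagonal_mulVec_single, mul_one,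
    hs, Matrix.mulVec_smul]
  change X *ᵥ (colMat e1 e2 f1 f2 *ᵥ Pi.single c 1) =
    (dH1 c : F) • (colMat e1 e2 f1 f2 *ᵥ Pi.single c 1)
  rw [colMat_mulVec_single]
  rcases c with c | c <;> fin_cases c
  · simpa [colFun, dH1] using he1
  · simpa [colFun, dH1] using he2
  · simpa [colFun, dH1] using hf1
  · simpa [colFun, dH1] using hf2

/-- PKG-H1: noncentral involutions of Sp_4(F), char F ≠ 2, form one class. -/
theorem sp_invol_conj {F : Type*} [Field F] (h2 : (2 : F) ≠ 0)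
    (x y : GL (Fin 2 ⊕ Fin 2) F) (hx : x ∈ Cfsg.spGL 2 F) (hy : y ∈ Cfsg.spGL 2 F)
    (hx2 : (x : Matrix (Fin 2 ⊕ Fin 2) (Fin 2 ⊕ Fin 2) F) * (x : Matrix (Fin 2 ⊕ Fin 2) (Fin 2 ⊕ Fin 2) F) = 1)
    (hy2 : (y : Matrix (Fin 2 ⊕ Fin 2) (Fin 2 ⊕ Fin 2) F) * (y : Matrix (Fin 2 ⊕ Fin 2) (Fin 2 ⊕ Fin 2) F) = 1)
    (hx1 : (x : Matrix (Fin 2 ⊕ Fin 2) (Fin 2 ⊕ Fin 2) F) ≠ 1) (hxm : (x : Matrix (Fin 2 ⊕ Fin 2) (Fin 2 ⊕ Fin 2) F) ≠ -1)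
    (hy1 : (y : Matrix (Fin 2 ⊕ Fin 2) (Fin 2 ⊕ Fin 2) F) ≠ 1) (hym : (y : Matrix (Fin 2 ⊕ Fin 2) (Fin 2 ⊕ Fin 2) F) ≠ -1) :
    ∃ g ∈ Cfsg.spGL 2 F, g⁻¹ * x * g = y := by
  obtain ⟨gx, hgx⟩ := exists_normal_form_H1 h2 (x : Matrix (Fin 2 ⊕ Fin 2) (Fin 2 ⊕ Fin 2) F)
    (fun u v => hx u v) hx2 hx1 hxm
  obtain ⟨gy, hgy⟩ := exists_normal_form_H1 h2 (y : Matrix (Fin 2 ⊕ Fin 2) (Fin 2 ⊕ Fin 2) F)
    (fun u v => hy u v) hy2 hy1 hym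
  exact conj_of_normal_form x y gx gy _ hgx hgy

end Cfsg.Agent.Lib.C6Pk
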