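import Cfsg.Agent.Lib.Helper4.C6Pk1

set_option autoImplicit false
set_option linter.unusedSectionVars false

open Matrix Polynomial
open scoped MatrixGroups

/-! PKG-H2: elements of `Sp_4(F)` (`F` finite of odd characteristic) with square `-1` form one
class. -/

namespace Cfsg.Agent.Lib.C6Pk

open Cfsg.Agent.Lib.Helper2.Symp Cfsg.Agent.H9SpMax

variable {F : Type*} [Field F]

theorem exists_sq_add_sq [Fintype F] (h2 : (2 : F) ≠ 0) (t : F) : ∃ a b : F, a ^ 2 + b ^ 2 = t := by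
  have hch : ringChar F ≠ 2 := by
    intro h
    apply h2
    have := ringChar.Nat.cast_ringChar (R := F)
    rw [h] at this
    exact_mod_cast this
  have hodd : Fintype.card F % 2 = 1 := FiniteField.odd_card_of_char_ne_two hch
  obtain ⟨a, b, hab⟩ : ∃ a b, (X ^ 2 : F[X]).eval a + (X ^ 2 - C t : F[X]).eval b = 0 :=
    FiniteField.exists_root_sum_quadratic (degree_X_pow 2)
      (degree_X_pow_sub_C (by decide) _) hodd
  refine ⟨a, b, ?_⟩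
  simp only [eval_pow, eval_X, eval_sub, eval_C] at hab
  linear_combination hab

section sq

variable (X : Matrix (Fin 2 ⊕ Fin 2) (Fin 2 ⊕ Fin 2) F)
  (hXB : ∀ u v, Cfsg.sympForm 2 F (X *ᵥ u) (X *ᵥ v) = Cfsg.sympForm 2 F u v)
  (hX2 : X * X = -1)

include hX2 in
theorem XX_mulVec (u : Fin 2 ⊕ Fin 2 → F) : X *ᵥ (X *ᵥ u) = -u := by
  rw [Matrix.mulVec_mulVec, hX2, Matrix.neg_mulVec, Matrix.one_mulVec]

include hXB hX2 in
/-- `S(u,v) = B(Xu,v)` is symmetric. -/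
theorem S_symm (u v : Fin 2 ⊕ Fin 2 → F) :
    Cfsg.sympForm 2 F (X *ᵥ u) v = Cfsg.sympForm 2 F (X *ᵥ v) u := by
  have h := hXB (X *ᵥ u) v
  rw [XX_mulVec X hX2, show (-u) = (-1 : F) • u by simp, sympForm_smul_left] at h
  rw [← h, sympForm_swap u (X *ᵥ v)]
  ring

include hXB hX2 in
theorem S_XX (u v : Fin 2 ⊕ Fin 2 → F) :
    Cfsg.sympForm 2 F (X *ᵥ (X *ᵥ u)) (X *ᵥ v) = Cfsg.sympForm 2 F (X *ᵥ u) v := hXB _ _

include hXB in
theorem S_self_X (u : Fin 2 ⊕ Fin 2 → F) : Cfsg.sympForm 2 F (X *ᵥ u) (X *ᵥ u) = 0 :=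
  sympForm_self _

include hXB hX2 in
/-- from `S(u,u) ≠ 0` get `u' = αu + βXu` with `S(u',u') = 1`. -/
theorem exists_unit_vec [Fintype F] (h2 : (2 : F) ≠ 0) (u : Fin 2 ⊕ Fin 2 → F)
    (hu : Cfsg.sympForm 2 F (X *ᵥ u) u ≠ 0) :
    ∃ a b : F, Cfsg.sympForm 2 F (X *ᵥ (a • u + b • (X *ᵥ u))) (a • u + b • (X *ᵥ u)) = 1 := by
  obtain ⟨a, b, hab⟩ := exists_sq_add_sq h2 (Cfsg.sympForm 2 F (X *ᵥ u) u)⁻¹
  refine ⟨a, b, ?_⟩
  rw [Matrix.mulVec_add, Matrix.mulVec_smul, Matrix.mulVec_smul, XX_mulVec X hX2]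
  simp only [sympForm_add_left, sympForm_add_right, sympForm_smul_left, sympForm_smul_right]
  rw [sympForm_self, show (-u) = (-1 : F) • u by simp, sympForm_smul_left, sympForm_self,
    sympForm_smul_left]
  have h3 : Cfsg.sympForm 2 F u (X *ᵥ u) = - Cfsg.sympForm 2 F (X *ᵥ u) u := sympForm_swap _ _
  rw [h3]
  have : (a ^ 2 + b ^ 2) * Cfsg.sympForm 2 F (X *ᵥ u) u = 1 := by
    rw [hab, inv_mul_cancel₀ hu]
  linear_combination this


include hXB hX2 in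
/-- inside an `X`-invariant subspace `P` on which `S` is not identically zero there is a vector
with `S(u,u) = 1`. -/
theorem exists_unit_in [Fintype F] (h2 : (2 : F) ≠ 0) (P : (Fin 2 ⊕ Fin 2 → F) → Prop)
    (hadd : ∀ u v, P u → P v → P (u + v)) (hsmul : ∀ (c : F) u, P u → P (c • u))
    (hPX : ∀ u, P u → P (X *ᵥ u)) (a b : Fin 2 ⊕ Fin 2 → F) (ha : P a) (hb : P b)
    (hab : Cfsg.sympForm 2 F (X *ᵥ a) b ≠ 0) :
    ∃ u, P u ∧ Cfsg.sympForm 2 F (X *ᵥ u) u = 1 := by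
  have key : ∃ u, P u ∧ Cfsg.sympForm 2 F (X *ᵥ u) u ≠ 0 := by
    by_cases h1 : Cfsg.sympForm 2 F (X *ᵥ a) a = 0
    · by_cases h3 : Cfsg.sympForm 2 F (X *ᵥ b) b = 0
      · refine ⟨a + b, hadd a b ha hb, ?_⟩
        rw [Matrix.mulVec_add]
        simp only [sympForm_add_left, sympForm_add_right]
        rw [h1, h3, ← S_symm X hXB hX2 a b]
        intro h
        have : 2 * Cfsg.sympForm 2 F (X *ᵥ a) b = 0 := by linear_combination h
        rcases mul_eq_zero.mp this with h' | h'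
        · exact h2 h'
        · exact hab h'
      · exact ⟨b, hb, h3⟩
    · exact ⟨a, ha, h1⟩
  obtain ⟨u, hu, hne⟩ := key
  obtain ⟨α, β, h⟩ := exists_unit_vec X hXB hX2 h2 u hne
  exact ⟨α • u + β • (X *ᵥ u), hadd _ _ (hsmul _ _ hu) (hsmul _ _ (hPX _ hu)), h⟩

include hX2 in
theorem X_mulVec_ne_zero (a : Fin 2 ⊕ Fin 2 → F) (ha : a ≠ 0) : X *ᵥ a ≠ 0 := by
  intro h
  have := XX_mulVec X hX2 a
  rw [h, Matrix.mulVec_zero] at this
  exact ha (neg_eq_zero.mp this.symm)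

/-- the projection onto the orthogonal complement of a hyperbolic pair. -/
def proj (e f v : Fin 2 ⊕ Fin 2 → F) : Fin 2 ⊕ Fin 2 → F :=
  v + Cfsg.sympForm 2 F v f • e - Cfsg.sympForm 2 F v e • f

theorem proj_perp (e f : Fin 2 ⊕ Fin 2 → F) (hfe : Cfsg.sympForm 2 F f e = 1)
    (v : Fin 2 ⊕ Fin 2 → F) :
    Cfsg.sympForm 2 F (proj e f v) e = 0 ∧ Cfsg.sympForm 2 F (proj e f v) f = 0 := by
  have hef : Cfsg.sympForm 2 F e f = -1 := by rw [sympForm_swap, hfe]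
  unfold proj
  constructor
  · rw [sympForm_sub_left, sympForm_add_left, sympForm_smul_left, sympForm_smul_left,
      sympForm_self, hfe]
    ring
  · rw [sympForm_sub_left, sympForm_add_left, sympForm_smul_left, sympForm_smul_left,
      sympForm_self, hef]
    ring

theorem exists_proj_ne_zero (h2 : (2 : F) ≠ 0) (e f : Fin 2 ⊕ Fin 2 → F)
    (hfe : Cfsg.sympForm 2 F f e = 1) : ∃ s : Fin 2 ⊕ Fin 2, proj e f (Pi.single s 1) ≠ 0 := by
  by_contra hcon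
  push Not at hcon
  have hef : Cfsg.sympForm 2 F e f = -1 := by rw [sympForm_swap, hfe]
  set PP : Matrix (Fin 2 ⊕ Fin 2) (Fin 2 ⊕ Fin 2) F :=
    1 + vecMulVec e (Matrix.J (Fin 2) F *ᵥ f) - vecMulVec f (Matrix.J (Fin 2) F *ᵥ e) with hPP
  have hPPv : ∀ v, PP *ᵥ v = proj e f v := by
    intro v
    rw [hPP, Matrix.sub_mulVec, Matrix.add_mulVec, Matrix.one_mulVec, Matrix.vecMulVec_mulVec,
      Matrix.vecMulVec_mulVec]
    unfold proj Cfsg.sympForm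
    rw [dotProduct_comm v, dotProduct_comm v]
    simp
  have hPP0 : PP = 0 := by
    apply mat_ext_cols
    intro c
    rw [hPPv, hcon c, Matrix.zero_mulVec]
  have htr : Matrix.trace PP = 2 := by
    rw [hPP, Matrix.trace_sub, Matrix.trace_add, Matrix.trace_one, Matrix.trace_vecMulVec,
      Matrix.trace_vecMulVec]
    change ((Fintype.card (Fin 2 ⊕ Fin 2) : ℕ) : F) + Cfsg.sympForm 2 F e f
      - Cfsg.sympForm 2 F f e = 2
    rw [hef, hfe]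
    simp
    norm_num
  rw [hPP0, Matrix.trace_zero] at htr
  exact h2 htr.symm

end sq


theorem J_mulVec_single_inl (j : Fin 2) :
    Matrix.J (Fin 2) F *ᵥ (Pi.single (Sum.inl j) 1) = Pi.single (Sum.inr j) 1 := by
  funext i
  rcases i with i | i
  · rw [J_mulVec_apply_inl]; simp
  · rw [J_mulVec_apply_inr]
    by_cases hij : i = j
    · subst hij; simp
    · rw [Pi.single_eq_of_ne, Pi.single_eq_of_ne]
      · simpa using hij
      · simpa using hij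

theorem J_mulVec_single_inr (j : Fin 2) :
    Matrix.J (Fin 2) F *ᵥ (Pi.single (Sum.inr j) 1) = - Pi.single (Sum.inl j) 1 := by
  funext i
  rcases i with i | i
  · rw [J_mulVec_apply_inl]
    by_cases hij : i = j
    · subst hij; simp
    · rw [Pi.neg_apply, Pi.single_eq_of_ne, Pi.single_eq_of_ne]
      · simpa using hij
      · simpa using hij
  · rw [J_mulVec_apply_inr]; simp

theorem exists_normal_form_H2 [Fintype F] (h2 : (2 : F) ≠ 0)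
    (X : Matrix (Fin 2 ⊕ Fin 2) (Fin 2 ⊕ Fin 2) F)
    (hXB : ∀ u v, Cfsg.sympForm 2 F (X *ᵥ u) (X *ᵥ v) = Cfsg.sympForm 2 F u v)
    (hX2 : X * X = -1) :
    ∃ g : Matrix.symplecticGroup (Fin 2) F,
      X * (g : Matrix (Fin 2 ⊕ Fin 2) (Fin 2 ⊕ Fin 2) F) =
        (g : Matrix (Fin 2 ⊕ Fin 2) (Fin 2 ⊕ Fin 2) F) * Matrix.J (Fin 2) F := by
  -- the first vector
  have ha0 : (Pi.single (Sum.inl 0) 1 : Fin 2 ⊕ Fin 2 → F) ≠ 0 := by
    intro h
    have := congrFun h (Sum.inl 0)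
    simp at this
  obtain ⟨w, hw⟩ := exists_sympForm_ne_zero _ (X_mulVec_ne_zero X hX2 _ ha0)
  have hS1 : Cfsg.sympForm 2 F (X *ᵥ (Pi.single (Sum.inl 0) 1 : Fin 2 ⊕ Fin 2 → F)) w ≠ 0 := by
    rw [sympForm_swap]
    exact neg_ne_zero.mpr hw
  obtain ⟨u1, -, h11⟩ := exists_unit_in X hXB hX2 h2 (fun _ => True) (fun _ _ _ _ => trivial)
    (fun _ _ _ => trivial) (fun _ _ => trivial) _ w trivial trivial hS1
  -- the orthogonal complement of ⟨u1, X u1⟩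
  have hPX : ∀ v, (Cfsg.sympForm 2 F v u1 = 0 ∧ Cfsg.sympForm 2 F v (X *ᵥ u1) = 0) →
      (Cfsg.sympForm 2 F (X *ᵥ v) u1 = 0 ∧ Cfsg.sympForm 2 F (X *ᵥ v) (X *ᵥ u1) = 0) := by
    rintro v ⟨hv1, hv2⟩
    constructor
    · rw [S_symm X hXB hX2 v u1, sympForm_swap, hv2, neg_zero]
    · rw [hXB, hv1]
  obtain ⟨s, hs⟩ := exists_proj_ne_zero h2 u1 (X *ᵥ u1) h11
  have haP := proj_perp u1 (X *ᵥ u1) h11 (Pi.single s 1)
  obtain ⟨w', hw'⟩ := exists_sympForm_ne_zero _ (X_mulVec_ne_zero X hX2 _ hs)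
  have hbP := proj_perp u1 (X *ᵥ u1) h11 w'
  have hXa := hPX _ haP
  have hS2 : Cfsg.sympForm 2 F (X *ᵥ (proj u1 (X *ᵥ u1) (Pi.single s 1)))
      (proj u1 (X *ᵥ u1) w') ≠ 0 := by
    conv_lhs => rw [show proj u1 (X *ᵥ u1) w' = w' + Cfsg.sympForm 2 F w' (X *ᵥ u1) • u1 -
      Cfsg.sympForm 2 F w' u1 • (X *ᵥ u1) from rfl]
    rw [sympForm_sub_right, sympForm_add_right, sympForm_smul_right, sympForm_smul_right,
      hXa.1, hXa.2, mul_zero, mul_zero, add_zero, sub_zero, sympForm_swap]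
    exact neg_ne_zero.mpr hw'
  obtain ⟨u2, ⟨hu2e, hu2f⟩, h22⟩ := exists_unit_in X hXB hX2 h2
    (fun v => Cfsg.sympForm 2 F v u1 = 0 ∧ Cfsg.sympForm 2 F v (X *ᵥ u1) = 0)
    (by
      rintro u v ⟨h1, h2'⟩ ⟨h3, h4⟩
      exact ⟨by rw [sympForm_add_left, h1, h3, add_zero],
        by rw [sympForm_add_left, h2', h4, add_zero]⟩)
    (by
      rintro c u ⟨h1, h2'⟩
      exact ⟨by rw [sympForm_smul_left, h1, mul_zero], by rw [sympForm_smul_left, h2', mul_zero]⟩)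
    hPX _ _ haP hbP hS2
  have hee : Cfsg.sympForm 2 F u1 u2 = 0 := by rw [sympForm_swap, hu2e, neg_zero]
  have hff : Cfsg.sympForm 2 F (X *ᵥ u1) (X *ᵥ u2) = 0 := by rw [hXB, hee]
  have h12 : Cfsg.sympForm 2 F (X *ᵥ u1) u2 = 0 := by rw [sympForm_swap, hu2f, neg_zero]
  have h21 : Cfsg.sympForm 2 F (X *ᵥ u2) u1 = 0 := by rw [S_symm X hXB hX2 u2 u1, h12]
  refine ⟨⟨colMat u1 u2 (X *ᵥ u1) (X *ᵥ u2),
    colMat_mem u1 u2 (X *ᵥ u1) (X *ᵥ u2) h11 h22 hee hff h12 h21⟩, ?_⟩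
  apply mat_ext_cols
  intro c
  rw [← Matrix.mulVec_mulVec, ← Matrix.mulVec_mulVec]
  change X *ᵥ (colMat u1 u2 (X *ᵥ u1) (X *ᵥ u2) *ᵥ Pi.single c 1) =
    colMat u1 u2 (X *ᵥ u1) (X *ᵥ u2) *ᵥ (Matrix.J (Fin 2) F *ᵥ Pi.single c 1)
  rw [colMat_mulVec_single]
  rcases c with c | c
  · rw [J_mulVec_single_inl, colMat_mulVec_single]
    fin_cases c <;> rfl
  · rw [J_mulVec_single_inr, Matrix.mulVec_neg, colMat_mulVec_single]
    fin_cases c
    · exact XX_mulVec X hX2 u1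
    · exact XX_mulVec X hX2 u2

/-- PKG-H2: elements of Sp_4(F), F finite of odd characteristic, with square -1 form one class. -/
theorem sp_sqneg_conj {F : Type*} [Field F] [Fintype F] (h2 : (2 : F) ≠ 0)
    (x y : GL (Fin 2 ⊕ Fin 2) F) (hx : x ∈ Cfsg.spGL 2 F) (hy : y ∈ Cfsg.spGL 2 F)
    (hx2 : (x : Matrix (Fin 2 ⊕ Fin 2) (Fin 2 ⊕ Fin 2) F) * (x : Matrix (Fin 2 ⊕ Fin 2) (Fin 2 ⊕ Fin 2) F) = -1)
    (hy2 : (y : Matrix (Fin 2 ⊕ Fin 2) (Fin 2 ⊕ Fin 2) F) * (y : Matrix (Fin 2 ⊕ Fin 2) (Fin 2 ⊕ Fin 2) F) = -1) :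
    ∃ g ∈ Cfsg.spGL 2 F, g⁻¹ * x * g = y := by
  obtain ⟨gx, hgx⟩ := exists_normal_form_H2 h2 (x : Matrix (Fin 2 ⊕ Fin 2) (Fin 2 ⊕ Fin 2) F)
    (fun u v => hx u v) hx2
  obtain ⟨gy, hgy⟩ := exists_normal_form_H2 h2 (y : Matrix (Fin 2 ⊕ Fin 2) (Fin 2 ⊕ Fin 2) F)
    (fun u v => hy u v) hy2
  exact conj_of_normal_form x y gx gy _ hgx hgy

end Cfsg.Agent.Lib.C6Pk
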