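import Mathlib
import Cfsg.Prelude.Def_GeometricClasses

set_option autoImplicit false
open scoped MatrixGroups
open Matrix

/-! PK-S1 of S6000: involutions of `GL_4(F)`, `char F ≠ 2`: traces and `SL_4`-conjugacy. -/

namespace Cfsg.Agent.Lib.C6Pk

variable {F : Type*} [Field F]

/-- the eigenspace `{x | s x = c x}` -/
def eigSub (s : Matrix (Fin 4) (Fin 4) F) (c : F) : Submodule F (Fin 4 → F) where
  carrier := {x | s *ᵥ x = c • x}
  add_mem' := by
    intro a b ha hb
    simp only [Set.mem_ofPred_eq] at *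
    rw [Matrix.mulVec_add, ha, hb, smul_add]
  zero_mem' := by simp
  smul_mem' := by
    intro k a ha
    simp only [Set.mem_ofPred_eq] at *
    rw [Matrix.mulVec_smul, ha, smul_comm]

theorem mem_eigSub (s : Matrix (Fin 4) (Fin 4) F) (c : F) (x : Fin 4 → F) :
    x ∈ eigSub s c ↔ s *ᵥ x = c • x := Iff.rfl

theorem invol_isCompl (h2 : (2 : F) ≠ 0) (s : Matrix (Fin 4) (Fin 4) F) (hs : s * s = 1) :
    IsCompl (eigSub s 1) (eigSub s (-1)) := by
  constructor
  · rw [Submodule.disjoint_def]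
    intro x hx hx'
    rw [mem_eigSub] at hx hx'
    have h := hx.symm.trans hx'
    rw [one_smul, neg_smul, one_smul] at h
    have h3 : (2 : F) • x = 0 := by
      rw [two_smul]
      nth_rewrite 2 [h]
      exact add_neg_cancel x
    exact (smul_eq_zero.1 h3).resolve_left h2
  · rw [codisjoint_iff, eq_top_iff]
    intro x _
    rw [Submodule.mem_sup]
    refine ⟨(2 : F)⁻¹ • (x + s *ᵥ x), ?_, (2 : F)⁻¹ • (x - s *ᵥ x), ?_, ?_⟩
    · rw [mem_eigSub, Matrix.mulVec_smul, Matrix.mulVec_add, Matrix.mulVec_mulVec, hs,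
        Matrix.one_mulVec, one_smul, add_comm]
    · rw [mem_eigSub, Matrix.mulVec_smul, Matrix.mulVec_sub, Matrix.mulVec_mulVec, hs,
        Matrix.one_mulVec, neg_smul, one_smul, ← smul_neg, neg_sub]
    · rw [← smul_add, add_add_sub_cancel, ← two_smul F x, smul_smul, inv_mul_cancel₀ h2, one_smul]

/-- the sign pattern `(1,…,1,-1,…,-1)` with `r` ones -/
def sgnVec (r : ℕ) : Fin 4 → F := fun i => if i.val < r then 1 else -1

theorem exists_eigenbasis (h2 : (2 : F) ≠ 0) (s : Matrix (Fin 4) (Fin 4) F) (hs : s * s = 1) :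
    ∃ r : ℕ, r ≤ 4 ∧ ∃ b : Module.Basis (Fin 4) F (Fin 4 → F),
      ∀ i, s *ᵥ b i = (sgnVec r i : F) • b i := by
  have hc := invol_isCompl h2 s hs
  have hsum : Module.finrank F (eigSub s 1) + Module.finrank F (eigSub s (-1)) = 4 := by
    rw [Submodule.finrank_add_eq_of_isCompl hc]
    simp
  let b0 := ((Module.finBasis F (eigSub s 1)).prod (Module.finBasis F (eigSub s (-1)))).map
    (Submodule.prodEquivOfIsCompl _ _ hc)
  let e : Fin (Module.finrank F (eigSub s 1)) ⊕ Fin (Module.finrank F (eigSub s (-1))) ≃ Fin 4 :=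
    finSumFinEquiv.trans (finCongr hsum)
  refine ⟨Module.finrank F (eigSub s 1), by omega, b0.reindex e, ?_⟩
  intro i
  obtain ⟨j, rfl⟩ := e.surjective i
  rw [Module.Basis.reindex_apply, Equiv.symm_apply_apply]
  rcases j with a | c
  · have hb : b0 (Sum.inl a) = (Module.finBasis F (eigSub s 1) a : Fin 4 → F) := by
      simp [b0]
    have hv : (sgnVec (Module.finrank F (eigSub s 1)) (e (Sum.inl a)) : F) = 1 := by
      simp [sgnVec, e]
    rw [hb, hv]
    exact (Module.finBasis F (eigSub s 1) a).2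
  · have hb : b0 (Sum.inr c) = (Module.finBasis F (eigSub s (-1)) c : Fin 4 → F) := by
      simp [b0]
    have hv : (sgnVec (Module.finrank F (eigSub s 1)) (e (Sum.inr c)) : F) = -1 := by
      simp [sgnVec, e]
    rw [hb, hv]
    exact (Module.finBasis F (eigSub s (-1)) c).2

/-- matrix with given columns -/
def colM4 (b : Fin 4 → Fin 4 → F) : Matrix (Fin 4) (Fin 4) F := Matrix.of fun i j => b j i

theorem mul_colM4 (s : Matrix (Fin 4) (Fin 4) F) (b : Fin 4 → Fin 4 → F) (ε : Fin 4 → F)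
    (h : ∀ i, s *ᵥ b i = ε i • b i) : s * colM4 b = colM4 b * Matrix.diagonal ε := by
  ext i j
  rw [Matrix.mul_diagonal, Matrix.mul_apply]
  have := congrFun (h j) i
  simp only [Matrix.mulVec, dotProduct, Pi.smul_apply, smul_eq_mul] at this
  simp only [colM4, Matrix.of_apply]
  rw [this, mul_comm]

theorem colM4_isUnit (b : Module.Basis (Fin 4) F (Fin 4 → F)) : IsUnit (colM4 (fun i => b i)).det := by
  have h0 : colM4 (fun i => b i) = (Pi.basisFun F (Fin 4)).toMatrix b := by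
    ext i j
    simp [colM4, Module.Basis.toMatrix_apply]
  rw [h0]
  exact Matrix.isUnit_det_of_right_inverse
    (Module.Basis.toMatrix_mul_toMatrix_flip (Pi.basisFun F (Fin 4)) b)

theorem exists_diag (h2 : (2 : F) ≠ 0) (s : Matrix (Fin 4) (Fin 4) F) (hs : s * s = 1) :
    ∃ r : ℕ, r ≤ 4 ∧ ∃ B : GL (Fin 4) F,
      s * (B : Matrix (Fin 4) (Fin 4) F) =
        (B : Matrix (Fin 4) (Fin 4) F) * Matrix.diagonal (sgnVec r) := by
  obtain ⟨r, hr, b, hb⟩ := exists_eigenbasis h2 s hs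
  exact ⟨r, hr, Matrix.GeneralLinearGroup.mk'' _ (colM4_isUnit b), mul_colM4 s _ _ hb⟩

theorem eq_conj_of_diag (s : Matrix (Fin 4) (Fin 4) F) (D : Matrix (Fin 4) (Fin 4) F)
    (B : GL (Fin 4) F)
    (h : s * (B : Matrix (Fin 4) (Fin 4) F) = (B : Matrix (Fin 4) (Fin 4) F) * D) :
    s = (B : Matrix (Fin 4) (Fin 4) F) * D * ((B⁻¹ : GL (Fin 4) F) : Matrix (Fin 4) (Fin 4) F) := by
  rw [← h, Matrix.mul_assoc, ← Units.val_mul, mul_inv_cancel, Units.val_one, Matrix.mul_one]

theorem trace_of_diag (s : Matrix (Fin 4) (Fin 4) F) (r : ℕ) (hr : r ≤ 4) (B : GL (Fin 4) F)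
    (h : s * (B : Matrix (Fin 4) (Fin 4) F) =
        (B : Matrix (Fin 4) (Fin 4) F) * Matrix.diagonal (sgnVec r)) :
    s.trace = 2 * (r : F) - 4 := by
  rw [eq_conj_of_diag s _ B h, Matrix.trace_mul_comm, ← Matrix.mul_assoc, ← Units.val_mul,
    inv_mul_cancel, Units.val_one, Matrix.one_mul, Matrix.trace_diagonal]
  interval_cases r <;> simp [sgnVec, Fin.sum_univ_four] <;> ring

theorem eq_one_of_diag (s : Matrix (Fin 4) (Fin 4) F) (B : GL (Fin 4) F)
    (h : s * (B : Matrix (Fin 4) (Fin 4) F) =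
        (B : Matrix (Fin 4) (Fin 4) F) * Matrix.diagonal (sgnVec 4)) : s = 1 := by
  have hD : Matrix.diagonal (sgnVec (F := F) 4) = 1 := by
    rw [← Matrix.diagonal_one]
    congr 1
    funext i
    have := i.2
    simp [sgnVec]
  rw [eq_conj_of_diag s _ B h, hD, Matrix.mul_one, ← Units.val_mul, mul_inv_cancel, Units.val_one]

theorem eq_neg_one_of_diag (s : Matrix (Fin 4) (Fin 4) F) (B : GL (Fin 4) F)
    (h : s * (B : Matrix (Fin 4) (Fin 4) F) =
        (B : Matrix (Fin 4) (Fin 4) F) * Matrix.diagonal (sgnVec 0)) : s = -1 := by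
  have hD : Matrix.diagonal (sgnVec (F := F) 0) = -1 := by
    have h1 : sgnVec (F := F) 0 = fun _ => -1 := by
      funext i
      simp [sgnVec]
    rw [h1, ← Matrix.diagonal_one, Matrix.diagonal_neg]
  rw [eq_conj_of_diag s _ B h, hD, Matrix.mul_neg, Matrix.mul_one, Matrix.neg_mul,
    ← Units.val_mul, mul_inv_cancel, Units.val_one]

theorem gl4_invol_trace {F : Type*} [Field F] (h2 : (2 : F) ≠ 0)
    (s : Matrix (Fin 4) (Fin 4) F) (hs : s * s = 1) (hs1 : s ≠ 1) (hsm : s ≠ -1) :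
    s.trace = 2 ∨ s.trace = 0 ∨ s.trace = -2 := by
  obtain ⟨r, hr, B, hB⟩ := exists_diag h2 s hs
  have h0 : r ≠ 0 := by
    rintro rfl
    exact hsm (eq_neg_one_of_diag s B hB)
  have h4 : r ≠ 4 := by
    rintro rfl
    exact hs1 (eq_one_of_diag s B hB)
  rw [trace_of_diag s r hr B hB]
  interval_cases r
  · exact absurd rfl h0
  · right; right; push_cast; ring
  · right; left; push_cast; ring
  · left; push_cast; ring
  · exact absurd rfl h4

theorem natCast_eq_small (h2 : (2 : F) ≠ 0) {a b : ℕ} (ha1 : 1 ≤ a) (ha3 : a ≤ 3)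
    (hb1 : 1 ≤ b) (hb3 : b ≤ 3) (h : (2 : F) * a - 4 = 2 * b - 4) : a = b := by
  interval_cases a <;> interval_cases b
  all_goals (try push_cast at h)
  all_goals first
    | rfl
    | exact absurd (by linear_combination h) h2
    | exact absurd (by linear_combination -h) h2
    | exact absurd (mul_self_eq_zero.1 (by linear_combination h)) h2
    | exact absurd (mul_self_eq_zero.1 (by linear_combination -h)) h2

theorem inv_mul_of_diag (t D : Matrix (Fin 4) (Fin 4) F) (B : GL (Fin 4) F)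
    (h : t * (B : Matrix (Fin 4) (Fin 4) F) = (B : Matrix (Fin 4) (Fin 4) F) * D) :
    ((B⁻¹ : GL (Fin 4) F) : Matrix (Fin 4) (Fin 4) F) * t =
      D * ((B⁻¹ : GL (Fin 4) F) : Matrix (Fin 4) (Fin 4) F) := by
  calc ((B⁻¹ : GL (Fin 4) F) : Matrix (Fin 4) (Fin 4) F) * t
      = ((B⁻¹ : GL (Fin 4) F) : Matrix (Fin 4) (Fin 4) F) * t *
          ((B : Matrix (Fin 4) (Fin 4) F) * ((B⁻¹ : GL (Fin 4) F) : Matrix (Fin 4) (Fin 4) F)) := by
        rw [← Units.val_mul, mul_inv_cancel, Units.val_one, Matrix.mul_one]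
    _ = ((B⁻¹ : GL (Fin 4) F) : Matrix (Fin 4) (Fin 4) F) * (t * (B : Matrix (Fin 4) (Fin 4) F)) *
          ((B⁻¹ : GL (Fin 4) F) : Matrix (Fin 4) (Fin 4) F) := by
        simp only [Matrix.mul_assoc]
    _ = (((B⁻¹ : GL (Fin 4) F) : Matrix (Fin 4) (Fin 4) F) * (B : Matrix (Fin 4) (Fin 4) F)) * D *
          ((B⁻¹ : GL (Fin 4) F) : Matrix (Fin 4) (Fin 4) F) := by
        rw [h]
        simp only [Matrix.mul_assoc]
    _ = D * ((B⁻¹ : GL (Fin 4) F) : Matrix (Fin 4) (Fin 4) F) := by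
        rw [← Units.val_mul, inv_mul_cancel, Units.val_one, Matrix.one_mul]

theorem sl4_invol_conj {F : Type*} [Field F] (h2 : (2 : F) ≠ 0)
    (s t : GL (Fin 4) F)
    (hs : (s : Matrix (Fin 4) (Fin 4) F) * (s : Matrix (Fin 4) (Fin 4) F) = 1)
    (ht : (t : Matrix (Fin 4) (Fin 4) F) * (t : Matrix (Fin 4) (Fin 4) F) = 1)
    (hs1 : (s : Matrix (Fin 4) (Fin 4) F) ≠ 1) (hsm : (s : Matrix (Fin 4) (Fin 4) F) ≠ -1)
    (ht1 : (t : Matrix (Fin 4) (Fin 4) F) ≠ 1) (htm : (t : Matrix (Fin 4) (Fin 4) F) ≠ -1)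
    (htr : (s : Matrix (Fin 4) (Fin 4) F).trace = (t : Matrix (Fin 4) (Fin 4) F).trace) :
    ∃ g ∈ Cfsg.Geo.specialLinear (Fin 4) F, g⁻¹ * s * g = t := by
  obtain ⟨r, hr, B, hB⟩ := exists_diag h2 _ hs
  obtain ⟨r', hr', B', hB'⟩ := exists_diag h2 _ ht
  have hr0 : r ≠ 0 := by
    rintro rfl
    exact hsm (eq_neg_one_of_diag _ B hB)
  have hr4 : r ≠ 4 := by
    rintro rfl
    exact hs1 (eq_one_of_diag _ B hB)
  have hr0' : r' ≠ 0 := by
    rintro rfl
    exact htm (eq_neg_one_of_diag _ B' hB')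
  have hr4' : r' ≠ 4 := by
    rintro rfl
    exact ht1 (eq_one_of_diag _ B' hB')
  have hrr : r = r' := natCast_eq_small h2 (by omega) (by omega) (by omega) (by omega)
    (by rw [← trace_of_diag _ r hr B hB, ← trace_of_diag _ r' hr' B' hB', htr])
  subst hrr
  obtain ⟨u, hu⟩ : ∃ u : Fˣ, u = (Matrix.GeneralLinearGroup.det B)⁻¹ *
    Matrix.GeneralLinearGroup.det B' := ⟨_, rfl⟩
  have hLdet : IsUnit (Matrix.diagonal (fun i : Fin 4 => if i = 0 then (u : F) else 1)).det := by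
    rw [Matrix.det_diagonal, Fin.prod_univ_four]
    simp
  obtain ⟨L, hLval⟩ : ∃ L : GL (Fin 4) F, (L : Matrix (Fin 4) (Fin 4) F) =
      Matrix.diagonal (fun i : Fin 4 => if i = 0 then (u : F) else 1) :=
    ⟨Matrix.GeneralLinearGroup.mk'' _ hLdet, rfl⟩
  have hLd : Matrix.GeneralLinearGroup.det L = u := by
    apply Units.ext
    rw [Matrix.GeneralLinearGroup.val_det_apply, hLval, Matrix.det_diagonal, Fin.prod_univ_four]
    simp
  have hDL : Matrix.diagonal (sgnVec (F := F) r) * (L : Matrix (Fin 4) (Fin 4) F) =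
      (L : Matrix (Fin 4) (Fin 4) F) * Matrix.diagonal (sgnVec (F := F) r) := by
    rw [hLval, Matrix.diagonal_mul_diagonal, Matrix.diagonal_mul_diagonal]
    congr 1
    funext i
    exact mul_comm _ _
  refine ⟨B * L * B'⁻¹, ?_, ?_⟩
  · change B * L * B'⁻¹ ∈ (Matrix.GeneralLinearGroup.det : GL (Fin 4) F →* Fˣ).ker
    rw [MonoidHom.mem_ker, map_mul, map_mul, map_inv, hLd, hu]
    rw [mul_inv_cancel_left, mul_inv_cancel]
  · have key : s * (B * L * B'⁻¹) = (B * L * B'⁻¹) * t := by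
      apply Units.ext
      simp only [Units.val_mul]
      calc (s : Matrix (Fin 4) (Fin 4) F) * ((B : Matrix (Fin 4) (Fin 4) F) *
            (L : Matrix (Fin 4) (Fin 4) F) * ((B'⁻¹ : GL (Fin 4) F) : Matrix (Fin 4) (Fin 4) F))
          = ((s : Matrix (Fin 4) (Fin 4) F) * (B : Matrix (Fin 4) (Fin 4) F)) *
            (L : Matrix (Fin 4) (Fin 4) F) *
              ((B'⁻¹ : GL (Fin 4) F) : Matrix (Fin 4) (Fin 4) F) := by
            simp only [Matrix.mul_assoc]
        _ = (B : Matrix (Fin 4) (Fin 4) F) * (Matrix.diagonal (sgnVec (F := F) r) *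
            (L : Matrix (Fin 4) (Fin 4) F)) *
              ((B'⁻¹ : GL (Fin 4) F) : Matrix (Fin 4) (Fin 4) F) := by
            rw [hB]
            simp only [Matrix.mul_assoc]
        _ = (B : Matrix (Fin 4) (Fin 4) F) * (L : Matrix (Fin 4) (Fin 4) F) *
            (Matrix.diagonal (sgnVec (F := F) r) *
              ((B'⁻¹ : GL (Fin 4) F) : Matrix (Fin 4) (Fin 4) F)) := by
            rw [hDL]
            simp only [Matrix.mul_assoc]
        _ = (B : Matrix (Fin 4) (Fin 4) F) * (L : Matrix (Fin 4) (Fin 4) F) *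
            ((B'⁻¹ : GL (Fin 4) F) : Matrix (Fin 4) (Fin 4) F) *
              (t : Matrix (Fin 4) (Fin 4) F) := by
            rw [← inv_mul_of_diag _ _ B' hB']
            simp only [Matrix.mul_assoc]
    rw [mul_assoc, key, inv_mul_cancel_left]

end Cfsg.Agent.Lib.C6Pk
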