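import Mathlib
import Cfsg.Prelude.Def_GeometricClasses

set_option autoImplicit false
open scoped MatrixGroups
open Polynomial

/-! PK-S2 of S6000: `x² = z` scalar with `z` a non-square: char poly `(t² - z)²`, so `det x = z²`. -/

namespace Cfsg.Agent.Lib.C6Pk

theorem sq_scalar_charpoly_dvd {F : Type*} [Field F] (x : Matrix (Fin 4) (Fin 4) F) (z : F)
    (hx : x * x = z • (1 : Matrix (Fin 4) (Fin 4) F)) :
    x.charpoly ∣ (X ^ 2 - C z) ^ 4 := by
  have hA : (C : F →+* F[X]).mapMatrix x * (C : F →+* F[X]).mapMatrix x =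
      (C z : F[X]) • (1 : Matrix (Fin 4) (Fin 4) F[X]) := by
    rw [← map_mul, hx]
    ext i j
    simp [Matrix.one_apply]
    split_ifs <;> simp
  have hc : Matrix.charmatrix x =
      (X : F[X]) • (1 : Matrix (Fin 4) (Fin 4) F[X]) - (C : F →+* F[X]).mapMatrix x := by
    ext i j
    simp [Matrix.charmatrix_apply, Matrix.one_apply, Matrix.diagonal_apply]
  have h1 : Matrix.charmatrix x *
      ((X : F[X]) • (1 : Matrix (Fin 4) (Fin 4) F[X]) + (C : F →+* F[X]).mapMatrix x) =
      (X ^ 2 - C z : F[X]) • (1 : Matrix (Fin 4) (Fin 4) F[X]) := by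
    rw [hc, sub_mul, mul_add, mul_add, hA]
    simp only [smul_mul_assoc, mul_smul_comm, one_mul, mul_one, smul_smul]
    rw [sub_smul, pow_two]
    abel
  have h2 := congrArg Matrix.det h1
  rw [Matrix.det_mul, Matrix.det_smul, Matrix.det_one, mul_one, Fintype.card_fin] at h2
  exact ⟨_, h2.symm⟩

theorem sq_scalar_charpoly {F : Type*} [Field F] (x : Matrix (Fin 4) (Fin 4) F) (z : F)
    (hx : x * x = z • (1 : Matrix (Fin 4) (Fin 4) F)) (hz : ¬ IsSquare z) :
    x.charpoly = (X ^ 2 - C z) ^ 2 := by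
  have hirr : Irreducible (X ^ 2 - C z : F[X]) := by
    rw [X_pow_sub_C_irreducible_iff_of_prime Nat.prime_two]
    intro b hb
    exact hz ⟨b, by rw [← hb, pow_two]⟩
  have hmon : (X ^ 2 - C z : F[X]).Monic := monic_X_pow_sub_C z (by norm_num)
  have hdeg : (X ^ 2 - C z : F[X]).natDegree = 2 := natDegree_X_pow_sub_C
  obtain ⟨i, -, hi⟩ := (dvd_prime_pow hirr.prime 4).1 (sq_scalar_charpoly_dvd x z hx)
  have heq : x.charpoly = (X ^ 2 - C z) ^ i :=
    eq_of_monic_of_associated (Matrix.charpoly_monic x) (hmon.pow i) hi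
  have hd := congrArg natDegree heq
  rw [Matrix.charpoly_natDegree_eq_dim, Fintype.card_fin, hmon.natDegree_pow, hdeg] at hd
  have hi2 : i = 2 := by omega
  rw [heq, hi2]

theorem sq_scalar_det {F : Type*} [Field F] (x : Matrix (Fin 4) (Fin 4) F) (z : F)
    (hx : x * x = z • (1 : Matrix (Fin 4) (Fin 4) F)) (hz : ¬ IsSquare z) : x.det = z * z := by
  rw [Matrix.det_eq_sign_charpoly_coeff, sq_scalar_charpoly x z hx hz, Fintype.card_fin]
  rw [coeff_zero_eq_eval_zero]
  simp
  ring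

end Cfsg.Agent.Lib.C6Pk
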