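import Mathlib
import Cfsg.Prelude.Def_GeometricClasses
import Cfsg.Agent.Lib.Helper2.Symp4
import Cfsg.Agent.Lib.Helper9.SpMax1

set_option autoImplicit false
set_option linter.unusedSectionVars false

open Matrix

/-! Symplectic bases of `F^4` and elements of `spGL 2 F` (common part of packages H1, H2 for
helper9's C6 cluster). -/

namespace Cfsg.Agent.Lib.C6Pk

open Cfsg.Agent.Lib.Helper2.Symp

variable {F : Type*} [Field F]

/-- the matrix with prescribed columns. -/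
def colMat (e1 e2 f1 f2 : Fin 2 ⊕ Fin 2 → F) : Matrix (Fin 2 ⊕ Fin 2) (Fin 2 ⊕ Fin 2) F :=
  Matrix.of fun r c =>
    match c with
    | Sum.inl 0 => e1 r
    | Sum.inl 1 => e2 r
    | Sum.inr 0 => f1 r
    | Sum.inr 1 => f2 r

/-- the columns, as a function of the column index. -/
def colFun (e1 e2 f1 f2 : Fin 2 ⊕ Fin 2 → F) : Fin 2 ⊕ Fin 2 → (Fin 2 ⊕ Fin 2 → F) :=
  fun c =>
    match c with
    | Sum.inl 0 => e1
    | Sum.inl 1 => e2
    | Sum.inr 0 => f1
    | Sum.inr 1 => f2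

theorem colMat_apply (e1 e2 f1 f2 : Fin 2 ⊕ Fin 2 → F) (r c : Fin 2 ⊕ Fin 2) :
    colMat e1 e2 f1 f2 r c = colFun e1 e2 f1 f2 c r := by
  rcases c with c | c <;> fin_cases c <;> rfl

theorem colMat_mulVec_single (e1 e2 f1 f2 : Fin 2 ⊕ Fin 2 → F) (c : Fin 2 ⊕ Fin 2) :
    colMat e1 e2 f1 f2 *ᵥ Pi.single c 1 = colFun e1 e2 f1 f2 c := by
  funext r
  rw [Matrix.mulVec_single_one]
  exact colMat_apply e1 e2 f1 f2 r c

theorem transpose_J_mul_apply (g : Matrix (Fin 2 ⊕ Fin 2) (Fin 2 ⊕ Fin 2) F)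
    (s t : Fin 2 ⊕ Fin 2) :
    (gᵀ * Matrix.J (Fin 2) F * g) s t =
      Cfsg.sympForm 2 F (fun r => g r s) (fun r => g r t) := by
  unfold Cfsg.sympForm
  simp only [Matrix.mul_apply, Matrix.transpose_apply, dotProduct, Matrix.mulVec, Finset.sum_mul,
    Finset.mul_sum]
  rw [Finset.sum_comm]
  refine Finset.sum_congr rfl fun a _ => Finset.sum_congr rfl fun b _ => ?_
  ring

theorem J_apply_eq_sympForm (s t : Fin 2 ⊕ Fin 2) :
    Matrix.J (Fin 2) F s t =
      Cfsg.sympForm 2 F (Pi.single s (1 : F)) (Pi.single t (1 : F)) := by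
  unfold Cfsg.sympForm
  rw [single_dotProduct, one_mul, Matrix.mulVec_single_one]
  rfl

/-- a symplectic basis gives a symplectic matrix. -/
theorem colMat_mem (e1 e2 f1 f2 : Fin 2 ⊕ Fin 2 → F)
    (h11 : Cfsg.sympForm 2 F f1 e1 = 1) (h22 : Cfsg.sympForm 2 F f2 e2 = 1)
    (hee : Cfsg.sympForm 2 F e1 e2 = 0) (hff : Cfsg.sympForm 2 F f1 f2 = 0)
    (h12 : Cfsg.sympForm 2 F f1 e2 = 0) (h21 : Cfsg.sympForm 2 F f2 e1 = 0) :
    colMat e1 e2 f1 f2 ∈ Matrix.symplecticGroup (Fin 2) F := by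
  rw [SymplecticGroup.mem_iff']
  ext s t
  rw [transpose_J_mul_apply, J_apply_eq_sympForm]
  have hc : ∀ c, (fun r => colMat e1 e2 f1 f2 r c) = colFun e1 e2 f1 f2 c := by
    intro c; funext r; exact colMat_apply _ _ _ _ r c
  rw [hc, hc]
  have s11 : Cfsg.sympForm 2 F e1 f1 = -1 := by rw [sympForm_swap, h11]
  have s22 : Cfsg.sympForm 2 F e2 f2 = -1 := by rw [sympForm_swap, h22]
  have see : Cfsg.sympForm 2 F e2 e1 = 0 := by rw [sympForm_swap, hee, neg_zero]
  have sff : Cfsg.sympForm 2 F f2 f1 = 0 := by rw [sympForm_swap, hff, neg_zero]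
  have s12 : Cfsg.sympForm 2 F e2 f1 = 0 := by rw [sympForm_swap, h12, neg_zero]
  have s21 : Cfsg.sympForm 2 F e1 f2 = 0 := by rw [sympForm_swap, h21, neg_zero]
  rcases s with s | s <;> rcases t with t | t <;> fin_cases s <;> fin_cases t <;>
    simp [colFun, sympForm_single_inl, sympForm_single_inr, sympForm_self, *]

/-- nondegeneracy. -/
theorem exists_sympForm_ne_zero (e : Fin 2 ⊕ Fin 2 → F) (he : e ≠ 0) :
    ∃ w, Cfsg.sympForm 2 F w e ≠ 0 := by
  by_contra hcon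
  push Not at hcon
  apply he
  funext k
  rcases k with i | i
  · have := hcon (Pi.single (Sum.inr i) 1)
    rw [sympForm_swap, sympForm_single_inr, neg_neg] at this
    exact this
  · have := hcon (Pi.single (Sum.inl i) 1)
    rw [sympForm_swap, sympForm_single_inl, neg_eq_zero] at this
    exact this

end Cfsg.Agent.Lib.C6Pk
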