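import Mathlib
import Cfsg.Prelude.Def_LieClassical
import Cfsg.Prelude.Def_GeometricClasses
import Cfsg.Agent.Lib.Helper5.PSLCoset12
import Cfsg.Agent.Lib.Helper2.HermDecomp
import Cfsg.Agent.Lib.Helper2.GUIsom
import Cfsg.Agent.Lib.Helper4.C6Pk4

set_option autoImplicit false
set_option linter.unusedSectionVars false
set_option linter.style.haveILetI false
open scoped MatrixGroups
open Matrix

/-! PK-U1 of S6001: unitary involutions of `GU_4(p)` with the same trace are conjugate in `SU_4(p)`. -/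

namespace Cfsg.Agent.Lib.C6PkU

open Cfsg.Agent.Lib.C6Pk Cfsg.Agent.Lib.Helper5.PSLCoset Cfsg.Agent.Lib.Helper2

variable {F : Type*} [Field F] [Fintype F] {p : ℕ} [Fact p.Prime] [CharP F p]

theorem u1_sigma_sigma {σ : F ≃+* F} (hσ : orderOf σ = 2) (a : F) : σ (σ a) = a := by
  have h2 : σ ^ 2 = 1 := by
    rw [← hσ]
    exact pow_orderOf_eq_one σ
  have := congrArg (fun τ : F ≃+* F => τ a) h2
  simpa [pow_two] using this

/-- entries of `Bᵀ * B.map σ` for the column matrix of a family -/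
theorem u1_gram (σ : F ≃+* F) (hσq : ∀ a : F, σ a = a ^ p) (b : Fin 4 → Fin 4 → F) (i j : Fin 4) :
    ((colM4 b)ᵀ * (colM4 b).map σ) i j = Cfsg.hermForm 4 F p (b i) (b j) := by
  rw [Matrix.mul_apply]
  unfold Cfsg.hermForm
  apply Finset.sum_congr rfl
  intro k _
  simp only [Matrix.transpose_apply, colM4, Matrix.of_apply, Matrix.map_apply, hσq]

/-- unitary diagonalisation of a unitary involution -/
theorem u1_exists_unitary_diag (hF : Fintype.card F = p ^ 2) (h2 : (2 : F) ≠ 0)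
    (σ : F ≃+* F) (hσ : orderOf σ = 2) (hσq : ∀ a : F, σ a = a ^ p)
    (s : GL (Fin 4) F) (hsU : s ∈ Cfsg.GU 4 F p)
    (hs : (s : Matrix (Fin 4) (Fin 4) F) * (s : Matrix (Fin 4) (Fin 4) F) = 1) :
    ∃ r : ℕ, r ≤ 4 ∧ ∃ B : Matrix (Fin 4) (Fin 4) F, Bᵀ * B.map σ = 1 ∧
      (s : Matrix (Fin 4) (Fin 4) F) * B = B * Matrix.diagonal (sgnVec r) := by
  classical
  have hp : p.Prime := Fact.out
  set S : Matrix (Fin 4) (Fin 4) F := (s : Matrix (Fin 4) (Fin 4) F) with hS
  set H := Cfsg.hermForm 4 F p with hH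
  have hherm : IsHerm σ H := GUIsom.isHerm_hermForm 4 p σ (u1_sigma_sigma hσ) hσq
  have hnd : ∀ v, (∀ w, H v w = 0) → v = 0 := fun v hv =>
    GUIsom.hermForm_nondeg 4 p hp.ne_zero v hv
  have hinv : ∀ u v, H (S *ᵥ u) (S *ᵥ v) = H u v := hsU
  have hc := invol_isCompl h2 S hs
  -- orthogonality of the eigenspaces
  have horth : ∀ u ∈ eigSub S 1, ∀ v ∈ eigSub S (-1), H u v = 0 := by
    intro u hu v hv
    rw [mem_eigSub] at hu hv
    have h1 := hinv u v
    rw [hu, hv, one_smul, hherm.smul_right, map_neg, map_one] at h1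
    have h3 : (2 : F) * H u v = 0 := by linear_combination -h1
    rcases mul_eq_zero.1 h3 with h4 | h4
    · exact absurd h4 h2
    · exact h4
  have horth' : ∀ v ∈ eigSub S (-1), ∀ u ∈ eigSub S 1, H v u = 0 := by
    intro v hv u hu
    rw [hherm.symm u v, horth u hu v hv, map_zero]
  have hdec : ∀ w : Fin 4 → F, ∃ a ∈ eigSub S 1, ∃ b ∈ eigSub S (-1), a + b = w := by
    intro w
    have : w ∈ eigSub S 1 ⊔ eigSub S (-1) := by
      rw [hc.sup_eq_top]; exact Submodule.mem_top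
    exact Submodule.mem_sup.1 this
  have hndp : ∀ u : eigSub S 1, (∀ w : eigSub S 1, H (u : Fin 4 → F) (w : Fin 4 → F) = 0) → u = 0 := by
    intro u hu
    apply Subtype.ext
    apply hnd
    intro w
    obtain ⟨a, ha, b, hb, rfl⟩ := hdec w
    rw [hherm.add_right, hu ⟨a, ha⟩, horth _ u.2 b hb, add_zero]
  have hndm : ∀ u : eigSub S (-1),
      (∀ w : eigSub S (-1), H (u : Fin 4 → F) (w : Fin 4 → F) = 0) → u = 0 := by
    intro u hu
    apply Subtype.ext
    apply hnd
    intro w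
    obtain ⟨a, ha, b, hb, rfl⟩ := hdec w
    rw [hherm.add_right, hu ⟨b, hb⟩, horth' _ u.2 a ha, add_zero]
  have hsum : Module.finrank F (eigSub S 1) + Module.finrank F (eigSub S (-1)) = 4 := by
    rw [Submodule.finrank_add_eq_of_isCompl hc]
    simp
  obtain ⟨r, hr⟩ : ∃ r, Module.finrank F (eigSub S 1) = r := ⟨_, rfl⟩
  obtain ⟨r', hr'⟩ : ∃ r', Module.finrank F (eigSub S (-1)) = r' := ⟨_, rfl⟩
  rw [hr, hr'] at hsum
  obtain ⟨bp, hbp⟩ := HermDecomp.exists_onb hσ (HermDecomp.isHerm_restrict hherm (eigSub S 1))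
    hndp hr
  obtain ⟨bm, hbm⟩ := HermDecomp.exists_onb hσ (HermDecomp.isHerm_restrict hherm (eigSub S (-1)))
    hndm hr'
  let b : Fin 4 → Fin 4 → F := fun i =>
    if h : i.val < r then ((bp ⟨i.val, h⟩ : eigSub S 1) : Fin 4 → F)
    else ((bm ⟨i.val - r, by have := i.2; omega⟩ : eigSub S (-1)) : Fin 4 → F)
  have hb1 : ∀ i : Fin 4, ∀ h : i.val < r, b i = ((bp ⟨i.val, h⟩ : eigSub S 1) : Fin 4 → F) := by
    intro i h
    simp only [b, dif_pos h]
  have hb2 : ∀ i : Fin 4, ∀ h : ¬ i.val < r,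
      b i = ((bm ⟨i.val - r, by have := i.2; omega⟩ : eigSub S (-1)) : Fin 4 → F) := by
    intro i h
    simp only [b, dif_neg h]
  have hON : ∀ i j, H (b i) (b j) = if i = j then 1 else 0 := by
    intro i j
    by_cases hi : i.val < r
    · by_cases hj : j.val < r
      · rw [hb1 i hi, hb1 j hj, hbp]
        simp only [Fin.mk.injEq, Fin.val_inj]
      · rw [hb1 i hi, hb2 j hj, horth _ (Subtype.property _) _ (Subtype.property _)]
        rw [if_neg]
        intro h
        rw [h] at hi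
        exact hj hi
    · by_cases hj : j.val < r
      · rw [hb2 i hi, hb1 j hj, horth' _ (Subtype.property _) _ (Subtype.property _)]
        rw [if_neg]
        intro h
        rw [h] at hi
        exact hi hj
      · rw [hb2 i hi, hb2 j hj, hbm]
        simp only [Fin.mk.injEq]
        have : (i.val - r = j.val - r) ↔ i = j := by
          constructor
          · intro h
            apply Fin.ext
            omega
          · intro h
            rw [h]
        simp only [this]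
  have heig : ∀ i, S *ᵥ b i = (sgnVec r i : F) • b i := by
    intro i
    by_cases hi : i.val < r
    · rw [hb1 i hi]
      have := (mem_eigSub S 1 _).1 (Subtype.property (bp ⟨i.val, hi⟩))
      rw [this]
      simp [sgnVec, hi]
    · rw [hb2 i hi]
      have := (mem_eigSub S (-1) _).1 (Subtype.property (bm ⟨i.val - r, by have := i.2; omega⟩))
      rw [this]
      simp [sgnVec, hi]
  refine ⟨r, by omega, colM4 b, ?_, mul_colM4 S b _ heig⟩
  ext i j
  rw [u1_gram σ hσq, Matrix.one_apply]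
  exact hON i j


/-- the determinant of a unitary matrix has norm one -/
theorem u1_det_norm (σ : F ≃+* F) (B : Matrix (Fin 4) (Fin 4) F) (hB : Bᵀ * B.map σ = 1) :
    B.det * σ B.det = 1 := by
  have h1 := congrArg Matrix.det hB
  rw [Matrix.det_mul, Matrix.det_transpose, Matrix.det_one] at h1
  have h2 : (B.map σ).det = σ B.det := by
    have := RingHom.map_det (σ : F →+* F) B
    rw [RingHom.mapMatrix_apply] at this
    exact this.symm
  rw [h2] at h1
  exact h1

theorem su4_invol_conj (hF : Fintype.card F = p ^ 2) (h2 : (2 : F) ≠ 0)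
    (s t : GL (Fin 4) F) (hsU : s ∈ Cfsg.GU 4 F p) (htU : t ∈ Cfsg.GU 4 F p)
    (hs : (s : Matrix (Fin 4) (Fin 4) F) * (s : Matrix (Fin 4) (Fin 4) F) = 1)
    (ht : (t : Matrix (Fin 4) (Fin 4) F) * (t : Matrix (Fin 4) (Fin 4) F) = 1)
    (hs1 : (s : Matrix (Fin 4) (Fin 4) F) ≠ 1) (hsm : (s : Matrix (Fin 4) (Fin 4) F) ≠ -1)
    (ht1 : (t : Matrix (Fin 4) (Fin 4) F) ≠ 1) (htm : (t : Matrix (Fin 4) (Fin 4) F) ≠ -1)
    (htr : (s : Matrix (Fin 4) (Fin 4) F).trace = (t : Matrix (Fin 4) (Fin 4) F).trace) :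
    ∃ g ∈ Cfsg.GU 4 F p ⊓ Cfsg.Geo.specialLinear (Fin 4) F, g⁻¹ * s * g = t := by
  classical
  obtain ⟨σ, hσ, hσq⟩ := HermDecomp.exists_sigma hF
  obtain ⟨r, hr, Bm, hBmU, hBm⟩ := u1_exists_unitary_diag hF h2 σ hσ hσq s hsU hs
  obtain ⟨r', hr', Bm', hBmU', hBm'⟩ := u1_exists_unitary_diag hF h2 σ hσ hσq t htU ht
  have hdn := u1_det_norm σ Bm hBmU
  have hdn' := u1_det_norm σ Bm' hBmU'
  have hd0 : Bm.det ≠ 0 := by
    intro h
    rw [h, zero_mul] at hdn
    exact zero_ne_one hdn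
  have hd0' : Bm'.det ≠ 0 := by
    intro h
    rw [h, zero_mul] at hdn'
    exact zero_ne_one hdn'
  obtain ⟨B, hBval⟩ : ∃ B : GL (Fin 4) F, (B : Matrix (Fin 4) (Fin 4) F) = Bm :=
    ⟨Matrix.GeneralLinearGroup.mkOfDetNeZero Bm hd0, rfl⟩
  obtain ⟨B', hBval'⟩ : ∃ B' : GL (Fin 4) F, (B' : Matrix (Fin 4) (Fin 4) F) = Bm' :=
    ⟨Matrix.GeneralLinearGroup.mkOfDetNeZero Bm' hd0', rfl⟩
  have hBU : B ∈ Cfsg.GU 4 F p := by
    rw [mem_GU_iff σ p hσq, hBval]
    exact hBmU
  have hBU' : B' ∈ Cfsg.GU 4 F p := by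
    rw [mem_GU_iff σ p hσq, hBval']
    exact hBmU'
  have hB : (s : Matrix (Fin 4) (Fin 4) F) * (B : Matrix (Fin 4) (Fin 4) F) =
      (B : Matrix (Fin 4) (Fin 4) F) * Matrix.diagonal (sgnVec r) := by
    rw [hBval]; exact hBm
  have hB' : (t : Matrix (Fin 4) (Fin 4) F) * (B' : Matrix (Fin 4) (Fin 4) F) =
      (B' : Matrix (Fin 4) (Fin 4) F) * Matrix.diagonal (sgnVec r') := by
    rw [hBval']; exact hBm'
  have hr0 : r ≠ 0 := by
    rintro rfl
    exact hsm (eq_neg_one_of_diag _ B hB)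
  have hr4 : r ≠ 4 := by
    rintro rfl
    exact hs1 (eq_one_of_diag _ B hB)
  have hr0' : r' ≠ 0 := by
    rintro rfl
    exact htm (eq_neg_one_of_diag _ B' hB')
  have hr4' : r' ≠ 4 := by
    rintro rfl
    exact ht1 (eq_one_of_diag _ B' hB')
  have hrr : r = r' := natCast_eq_small h2 (by omega) (by omega) (by omega) (by omega)
    (by rw [← trace_of_diag _ r hr B hB, ← trace_of_diag _ r' hr' B' hB', htr])
  subst hrr
  obtain ⟨u, hu⟩ : ∃ u : Fˣ, u = (Matrix.GeneralLinearGroup.det B)⁻¹ *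
    Matrix.GeneralLinearGroup.det B' := ⟨_, rfl⟩
  have hdB : ((Matrix.GeneralLinearGroup.det B : Fˣ) : F) = Bm.det := by
    rw [Matrix.GeneralLinearGroup.val_det_apply, hBval]
  have hdB' : ((Matrix.GeneralLinearGroup.det B' : Fˣ) : F) = Bm'.det := by
    rw [Matrix.GeneralLinearGroup.val_det_apply, hBval']
  have hunorm : (u : F) * σ (u : F) = 1 := by
    have h1 : (u : F) = Bm.det⁻¹ * Bm'.det := by
      rw [hu, Units.val_mul, Units.val_inv_eq_inv_val, hdB, hdB']
    rw [h1, map_mul, map_inv₀]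
    have h3 : σ Bm.det ≠ 0 := by
      intro h
      rw [h, mul_zero] at hdn
      exact zero_ne_one hdn
    field_simp
    linear_combination hdn' - hdn
  have hLdet : IsUnit (Matrix.diagonal (fun i : Fin 4 => if i = 0 then (u : F) else 1)).det := by
    rw [Matrix.det_diagonal, Fin.prod_univ_four]
    simp
  obtain ⟨L, hLval⟩ : ∃ L : GL (Fin 4) F, (L : Matrix (Fin 4) (Fin 4) F) =
      Matrix.diagonal (fun i : Fin 4 => if i = 0 then (u : F) else 1) :=
    ⟨Matrix.GeneralLinearGroup.mk'' _ hLdet, rfl⟩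
  have hLd : Matrix.GeneralLinearGroup.det L = u := by
    apply Units.ext
    rw [Matrix.GeneralLinearGroup.val_det_apply, hLval, Matrix.det_diagonal, Fin.prod_univ_four]
    simp
  have hLU : L ∈ Cfsg.GU 4 F p := by
    rw [mem_GU_iff σ p hσq, hLval, Matrix.diagonal_transpose]
    have : (Matrix.diagonal (fun i : Fin 4 => if i = 0 then (u : F) else 1)).map σ =
        Matrix.diagonal (fun i : Fin 4 => if i = 0 then σ (u : F) else 1) := by
      ext i j
      simp only [Matrix.map_apply, Matrix.diagonal_apply]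
      by_cases hij : i = j
      · rw [if_pos hij, if_pos hij]
        by_cases hi : i = 0
        · rw [if_pos hi, if_pos hi]
        · rw [if_neg hi, if_neg hi, map_one]
      · rw [if_neg hij, if_neg hij, map_zero]
    rw [this, Matrix.diagonal_mul_diagonal, ← Matrix.diagonal_one]
    congr 1
    funext i
    by_cases hi : i = 0
    · rw [if_pos hi, if_pos hi, hunorm]
    · rw [if_neg hi, if_neg hi, one_mul]
  have hDL : Matrix.diagonal (sgnVec (F := F) r) * (L : Matrix (Fin 4) (Fin 4) F) =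
      (L : Matrix (Fin 4) (Fin 4) F) * Matrix.diagonal (sgnVec (F := F) r) := by
    rw [hLval, Matrix.diagonal_mul_diagonal, Matrix.diagonal_mul_diagonal]
    congr 1
    funext i
    exact mul_comm _ _
  refine ⟨B * L * B'⁻¹, ⟨?_, ?_⟩, ?_⟩
  · exact Subgroup.mul_mem _ (Subgroup.mul_mem _ hBU hLU) (Subgroup.inv_mem _ hBU')
  · change B * L * B'⁻¹ ∈ (Matrix.GeneralLinearGroup.det : GL (Fin 4) F →* Fˣ).ker
    rw [MonoidHom.mem_ker, map_mul, map_mul, map_inv, hLd, hu]
    rw [mul_inv_cancel_left, mul_inv_cancel]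
  · have key : s * (B * L * B'⁻¹) = (B * L * B'⁻¹) * t := by
      apply Units.ext
      simp only [Units.val_mul]
      calc (s : Matrix (Fin 4) (Fin 4) F) * ((B : Matrix (Fin 4) (Fin 4) F) *
            (L : Matrix (Fin 4) (Fin 4) F) * ((B'⁻¹ : GL (Fin 4) F) : Matrix (Fin 4) (Fin 4) F))
          = ((s : Matrix (Fin 4) (Fin 4) F) * (B : Matrix (Fin 4) (Fin 4) F)) *
            (L : Matrix (Fin 4) (Fin 4) F) *
              ((B'⁻¹ : GL (Fin 4) F) : Matrix (Fin 4) (Fin 4) F) := by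
            simp only [Matrix.mul_assoc]
        _ = (B : Matrix (Fin 4) (Fin 4) F) * (Matrix.diagonal (sgnVec (F := F) r) *
            (L : Matrix (Fin 4) (Fin 4) F)) *
              ((B'⁻¹ : GL (Fin 4) F) : Matrix (Fin 4) (Fin 4) F) := by
            rw [hB]
            simp only [Matrix.mul_assoc]
        _ = (B : Matrix (Fin 4) (Fin 4) F) * (L : Matrix (Fin 4) (Fin 4) F) *
            (Matrix.diagonal (sgnVec (F := F) r) *
              ((B'⁻¹ : GL (Fin 4) F) : Matrix (Fin 4) (Fin 4) F)) := by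
            rw [hDL]
            simp only [Matrix.mul_assoc]
        _ = (B : Matrix (Fin 4) (Fin 4) F) * (L : Matrix (Fin 4) (Fin 4) F) *
            ((B'⁻¹ : GL (Fin 4) F) : Matrix (Fin 4) (Fin 4) F) *
              (t : Matrix (Fin 4) (Fin 4) F) := by
            rw [← inv_mul_of_diag _ _ B' hB']
            simp only [Matrix.mul_assoc]
    rw [mul_assoc, key, inv_mul_cancel_left]

end Cfsg.Agent.Lib.C6PkU
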