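import Mathlib
import Cfsg.Prelude.Def_LieClassical
import Cfsg.Prelude.Def_GeometricClasses
import Cfsg.Agent.Lib.Helper5.PSLCoset12
import Cfsg.Agent.Lib.Helper2.HermDecomp
import Cfsg.Agent.Lib.Helper4.C6Pk4

set_option autoImplicit false
set_option linter.unusedSectionVars false
open scoped MatrixGroups

/-! PK-U2 of S6001: the square of an element of `SU_4(p)`, `p ≡ 3 (mod 4)`, if scalar, is the square of
a scalar of norm one. -/

namespace Cfsg.Agent.Lib.C6PkU

variable {F : Type*} [Field F] [Fintype F] {p : ℕ} [Fact p.Prime] [CharP F p]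

/-- the star of a scalar multiple of the identity -/
theorem u2_map_smul_one (σ : F ≃+* F) (z : F) :
    ((z • (1 : Matrix (Fin 4) (Fin 4) F)).map σ) = σ z • (1 : Matrix (Fin 4) (Fin 4) F) := by
  ext i j
  simp only [Matrix.map_apply, Matrix.smul_apply, Matrix.one_apply, smul_eq_mul]
  split_ifs <;> simp

theorem u2_norm_one (σ : F ≃+* F) (X : Matrix (Fin 4) (Fin 4) F) (z : F)
    (hU : X * (X.map σ).transpose = 1) (hx : X * X = z • 1) : z * σ z = 1 := by
  have h1 : (X.map σ).transpose * (X.map σ).transpose = σ z • (1 : Matrix (Fin 4) (Fin 4) F) := by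
    rw [← Matrix.transpose_mul, ← Matrix.map_mul, hx, u2_map_smul_one, Matrix.transpose_smul,
      Matrix.transpose_one]
  have h2 : (X * X) * ((X.map σ).transpose * (X.map σ).transpose) = 1 := by
    calc (X * X) * ((X.map σ).transpose * (X.map σ).transpose)
        = X * (X * (X.map σ).transpose) * (X.map σ).transpose := by
          simp only [Matrix.mul_assoc]
      _ = 1 := by rw [hU, Matrix.mul_one, hU]
  rw [hx, h1, Matrix.smul_mul, Matrix.mul_smul, Matrix.one_mul, smul_smul] at h2
  have := congrFun (congrFun h2 0) 0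
  simpa [mul_comm] using this

theorem su4_sq_scalar (hF : Fintype.card F = p ^ 2) (hp4 : p % 4 = 3)
    (x : GL (Fin 4) F) (hxU : x ∈ Cfsg.GU 4 F p) (hxS : x ∈ Cfsg.Geo.specialLinear (Fin 4) F) (z : F)
    (hx : (x : Matrix (Fin 4) (Fin 4) F) * (x : Matrix (Fin 4) (Fin 4) F) = z • 1) :
    ∃ c : F, c * c = z ∧ c ^ (p + 1) = 1 := by
  classical
  obtain ⟨σ, hσ2, hσq⟩ := Cfsg.Agent.Lib.Helper2.HermDecomp.exists_sigma hF
  set X : Matrix (Fin 4) (Fin 4) F := (x : Matrix (Fin 4) (Fin 4) F) with hX
  have hU : X * (X.map σ).transpose = 1 :=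
    (Cfsg.Agent.Lib.Helper5.PSLCoset.mem_GU_iff' σ p hσq x).1 hxU
  have hp : p.Prime := Fact.out
  have hp3 : 3 ≤ p := by
    by_contra h
    have : p = 2 := by
      have := hp.two_le
      omega
    rw [this] at hp4
    omega
  obtain ⟨k, hk⟩ : ∃ k, p + 1 = 4 * k := ⟨(p + 1) / 4, by omega⟩
  have h2 : (2 : F) ≠ 0 := by
    apply Ring.two_ne_zero
    rw [ringChar.eq F p]
    omega
  have hchar : ringChar F ≠ 2 := by
    rw [ringChar.eq F p]
    omega
  -- norm of z
  have hz1 : z * σ z = 1 := u2_norm_one σ X z hU hx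
  have hzp : z ^ (p + 1) = 1 := by
    rw [pow_succ, ← hσq, mul_comm]
    exact hz1
  have hz0 : z ≠ 0 := by
    rintro rfl
    rw [zero_pow (by omega)] at hzp
    exact zero_ne_one hzp
  -- z is a square
  have hsq : IsSquare z := by
    rw [FiniteField.isSquare_iff hchar hz0, hF]
    have : p ^ 2 / 2 = (p + 1) * (2 * k - 1) := by
      have h1 : p = 4 * k - 1 := by omega
      have hk1 : 1 ≤ k := by omega
      obtain ⟨j, rfl⟩ : ∃ j, k = j + 1 := ⟨k - 1, by omega⟩
      have h3 : p = 4 * j + 3 := by omega
      subst h3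
      have : (4 * j + 3) ^ 2 = 2 * ((4 * j + 3 + 1) * (2 * (j + 1) - 1)) + 1 := by
        have : 2 * (j + 1) - 1 = 2 * j + 1 := by omega
        rw [this]
        ring
      omega
    rw [this, pow_mul, hzp, one_pow]
  obtain ⟨c, hc⟩ := hsq
  have hc0 : c ≠ 0 := by
    rintro rfl
    rw [mul_zero] at hc
    exact hz0 hc
  have hcc : (c ^ (p + 1)) * (c ^ (p + 1)) = 1 := by
    rw [← mul_pow, ← hc, hzp]
  rcases mul_self_eq_one_iff.1 hcc with h | h
  · exact ⟨c, hc.symm, h⟩
  · -- the involution `S = c⁻¹ X`
    refine ⟨c, hc.symm, ?_⟩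
    set S : Matrix (Fin 4) (Fin 4) F := c⁻¹ • X with hS
    have hSS : S * S = 1 := by
      rw [hS, Matrix.smul_mul, Matrix.mul_smul, hx, smul_smul, smul_smul, hc]
      have : c⁻¹ * c⁻¹ * (c * c) = 1 := by field_simp
      rw [this, one_smul]
    -- X* = z⁻¹ X
    have hXstar : (X.map σ).transpose = z⁻¹ • X := by
      have h1 : X * (z⁻¹ • X) = 1 := by
        rw [Matrix.mul_smul, hx, smul_smul, inv_mul_cancel₀ hz0, one_smul]
      have h3 : (z⁻¹ • X) * X = 1 := by
        rw [Matrix.smul_mul, hx, smul_smul, inv_mul_cancel₀ hz0, one_smul]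
      calc (X.map σ).transpose = ((z⁻¹ • X) * X) * (X.map σ).transpose := by
            rw [h3, Matrix.one_mul]
        _ = (z⁻¹ • X) * (X * (X.map σ).transpose) := by rw [Matrix.mul_assoc]
        _ = z⁻¹ • X := by rw [hU, Matrix.mul_one]
    have hσc : σ c * c = -1 := by
      rw [hσq, ← pow_succ]
      exact h
    have hSstar : (S.map σ).transpose = -S := by
      have h1 : S.map σ = σ c⁻¹ • X.map σ := by
        ext i j
        simp [hS, Matrix.map_apply, Matrix.smul_apply]
      rw [h1, Matrix.transpose_smul, hXstar, hS, smul_smul, map_inv₀, hc]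
      have hσc0 : σ c ≠ 0 := by
        intro h0
        rw [h0, zero_mul] at hσc
        exact (neg_ne_zero.2 one_ne_zero) hσc.symm
      have : (σ c)⁻¹ * (c * c)⁻¹ = -c⁻¹ := by
        have h5 : (σ c)⁻¹ = -c := by
          apply inv_eq_of_mul_eq_one_right
          rw [mul_neg, hσc, neg_neg]
        rw [h5]
        field_simp
      rw [this, neg_smul]
    obtain ⟨r, hr, B, hB⟩ := Cfsg.Agent.Lib.C6Pk.exists_diag h2 S hSS
    have htr := Cfsg.Agent.Lib.C6Pk.trace_of_diag S r hr B hB
    have htr2 : σ S.trace = -S.trace := by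
      have h1 : (S.map σ).transpose.trace = σ S.trace := by
        rw [Matrix.trace_transpose]
        simp [Matrix.trace, Matrix.map_apply]
      rw [← h1, hSstar, Matrix.trace_neg]
    rw [htr] at htr2
    have h3 : (2 : F) * (r : F) - 4 = 0 := by
      have h4 : σ ((2 : F) * (r : F) - 4) = 2 * (r : F) - 4 := by
        rw [map_sub, map_mul, map_natCast, map_ofNat, map_ofNat]
      rw [h4] at htr2
      have : (2 : F) * (2 * (r : F) - 4) = 0 := by linear_combination htr2
      rcases mul_eq_zero.1 this with h5 | h5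
      · exact absurd h5 h2
      · exact h5
    have hr2 : r = 2 := by
      have h3' : (3 : F) ≠ 0 ∨ p = 3 := by
        by_cases hp3' : p = 3
        · exact Or.inr hp3'
        · left
          intro h30
          have : ((3 : ℕ) : F) = 0 := by exact_mod_cast h30
          rw [CharP.cast_eq_zero_iff F p] at this
          have := Nat.le_of_dvd (by norm_num) this
          omega
      interval_cases r
      · exfalso
        apply h2
        have : (2 : F) * 2 = 0 := by
          have := h3
          push_cast at this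
          linear_combination -this
        rcases mul_eq_zero.1 this with h5 | h5 <;> exact h5
      · exfalso
        apply h2
        have := h3
        push_cast at this
        linear_combination -this
      · rfl
      · exfalso
        apply h2
        have := h3
        push_cast at this
        linear_combination this
      · exfalso
        apply h2
        have : (2 : F) * 2 = 0 := by
          have := h3
          push_cast at this
          linear_combination this
        rcases mul_eq_zero.1 this with h5 | h5 <;> exact h5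
    subst hr2
    -- det S = 1
    have hdetS : S.det = 1 := by
      rw [Cfsg.Agent.Lib.C6Pk.eq_conj_of_diag S _ B hB, Matrix.det_mul, Matrix.det_mul,
        mul_right_comm, ← Matrix.det_mul, ← Units.val_mul, mul_inv_cancel, Units.val_one,
        Matrix.det_one, one_mul, Matrix.det_diagonal]
      simp [Cfsg.Agent.Lib.C6Pk.sgnVec, Fin.prod_univ_four]
    have hdetX : X.det = 1 := by
      have h1 : Matrix.GeneralLinearGroup.det x = 1 := hxS
      have h2' := congrArg Units.val h1
      simpa using h2'
    have hXS : X = c • S := by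
      rw [hS, smul_smul, mul_inv_cancel₀ hc0, one_smul]
    have hc4 : c ^ 4 = 1 := by
      rw [hXS, Matrix.det_smul, hdetS, mul_one, Fintype.card_fin] at hdetX
      exact hdetX
    rw [hk, pow_mul, hc4, one_pow]

end Cfsg.Agent.Lib.C6PkU
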