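import Mathlib
import Cfsg.Agent.Lib.Helper4.FrobTI4

set_option autoImplicit false
set_option linter.unusedSectionVars false
set_option maxHeartbeats 1600000

/-!
# Existence of the local data
-/

namespace Cfsg.Agent.Lib.Helper4.FrobTI

open Cfsg Cfsg.Agent.Lib.Helper1 Cfsg.Agent.Lib.Helper4 Cfsg.Agent.Lib.Helper2
open scoped ComplexConjugate

/-- The package of facts attached to a TI subgroup `H` with Frobenius normalizer. -/
structure LocalData {G : Type*} [Group G] [Fintype G] (H : Subgroup G) (e a : ℕ)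
    (F : Finset (G → ℂ)) (η β : G → ℂ) : Prop where
  card_norm : Nat.card (Subgroup.normalizer (H : Set G)) = e * Nat.card H
  e_odd : Odd e
  e_ge : 3 ≤ e
  a_even : Even a
  a_ge : 2 ≤ a
  q_eq : a * e + 1 = Nat.card (Abelianization H)
  nilp : Group.IsNilpotent H
  card_F : F.card = a
  eta_mem : η ∈ F
  genF : ∀ f ∈ F, IsGeneralizedCharacter G f
  conjF : ∀ f ∈ F, conjFun f ∈ F
  conj_ne : ∀ f ∈ F, conjFun f ≠ f
  inner_one : ∀ f ∈ F, classInner f (fun _ => (1 : ℂ)) = 0
  ortho : ∀ f ∈ F, ∀ f' ∈ F, classInner f f' = if f = f' then 1 else 0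
  genβ : IsGeneralizedCharacter G β
  β_one : classInner β (fun _ => (1 : ℂ)) = 1
  conjβ : conjFun β = β + η - conjFun η
  gram : ∀ f ∈ F, ∀ f' ∈ F,
    classInner (β + η - f) (β + η - f') = (e : ℂ) + if f = f' then 1 else 0
  supp : ∀ f ∈ F, ∀ g : G, (g = 1 ∨ ∀ x : G, x * g * x⁻¹ ∉ H) → (β + η - f) g = 0

section

variable {X : Type*}

theorem conjFun_sub (f g : X → ℂ) : conjFun (f - g) = conjFun f - conjFun g := by
  funext x; simp [conjFun_apply]

theorem conjFun_smul (c : ℂ) (f : X → ℂ) : conjFun (c • f) = conj c • conjFun f := by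
  funext x; simp [conjFun_apply]

end

theorem exists_localData {G : Type*} [Group G] [Fintype G] (hodd : Odd (Nat.card G))
    (H : Subgroup G) (hH1 : H ≠ ⊥) (hlt : H < Subgroup.normalizer (H : Set G))
    (hC : ∀ h ∈ H, h ≠ 1 → Subgroup.centralizer ({h} : Set G) ≤ H)
    (hTI : ∀ g : G, g ∉ Subgroup.normalizer (H : Set G) → ∀ t ∈ (H : Set G),
      g * t * g⁻¹ ∈ (H : Set G) → t = 1) :
    ∃ (e a : ℕ) (F : Finset (G → ℂ)) (η β : G → ℂ), LocalData H e a F η β := by
  classical
  haveI : Fintype ↥(Subgroup.normalizer (H : Set G)) := Fintype.ofFinite _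
  haveI : Fintype ↥(Ker H) := Fintype.ofFinite _
  have hCK := ker_cent H hC
  have hK1 := ker_ne_bot H hH1
  have hKt := ker_ne_top H hlt
  have hNodd : Odd (Nat.card ↥(Subgroup.normalizer (H : Set G))) :=
    Odd.of_dvd_nat hodd (Subgroup.card_subgroup_dvd_card _)
  haveI hnil : Group.IsNilpotent (Ker H) := isNilpotent_kernel (Ker H) hCK hK1 hKt
  haveI : Nontrivial (Ker H) := (Subgroup.nontrivial_iff_ne_bot _).mpr hK1
  have hle : H ≤ Subgroup.normalizer (H : Set G) := Subgroup.le_normalizer
  -- e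
  have he_card : Nat.card ↥(Subgroup.normalizer (H : Set G)) = (Ker H).index * Nat.card H := by
    rw [← card_ker H]; exact ((Ker H).index_mul_card).symm
  have he_odd : Odd (Ker H).index := Odd.of_dvd_nat hNodd ⟨_, he_card⟩
  have he1 : (Ker H).index ≠ 1 := fun h => hKt (Subgroup.index_eq_one.mp h)
  have he3 : 3 ≤ (Ker H).index := by
    obtain ⟨k, hk⟩ := he_odd
    omega
  -- X
  have hXfin := X_finite (K := Ker H)
  have hXne := X_nonempty (K := Ker H)
  have ha_even : Even (X (Ker H)).ncard :=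
    even_ncard_of_involution (X (Ker H)) hXfin conjFun (fun x hx => X_conj hx)
      (fun x hx => X_conj_ne hNodd hCK hx) (fun x _ => conjFun_conjFun x)
  have ha_pos : 0 < (X (Ker H)).ncard := (Set.ncard_pos hXfin).mpr hXne
  have ha2 : 2 ≤ (X (Ker H)).ncard := by
    obtain ⟨k, hk⟩ := ha_even
    omega
  have hq : (X (Ker H)).ncard * (Ker H).index + 1 = Nat.card (Abelianization H) := by
    have h1 := ncard_lin (K := Ker H)
    have h2 := ncard_lin_eq hCK
    have h3 : Nat.card (Abelianization (Ker H)) = Nat.card (Abelianization H) :=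
      Nat.card_congr (MulEquiv.abelianizationCongr (Subgroup.subgroupOfEquivOfLe hle)).toEquiv
    rw [← h3, ← h1, h2, mul_comm]
  have hnilH : Group.IsNilpotent H := Group.nilpotent_of_mulEquiv (Subgroup.subgroupOfEquivOfLe hle)
  -- enumeration
  have hXf_card : hXfin.toFinset.card = (X (Ker H)).ncard :=
    (Set.ncard_eq_toFinset_card _ hXfin).symm
  let eqv : hXfin.toFinset ≃ Fin (X (Ker H)).ncard :=
    (hXfin.toFinset.equivFin).trans (finCongr hXf_card)
  let χ : Fin (X (Ker H)).ncard → (↥(Subgroup.normalizer (H : Set G)) → ℂ) :=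
    fun i => (eqv.symm i).1
  have hχX : ∀ i, χ i ∈ X (Ker H) := fun i => (Set.Finite.mem_toFinset hXfin).mp (eqv.symm i).2
  have hχinj : Function.Injective χ := fun i j h => eqv.symm.injective (Subtype.ext h)
  have hχsurj : ∀ ξ ∈ X (Ker H), ∃ i, χ i = ξ := by
    intro ξ hξ
    refine ⟨eqv ⟨ξ, (Set.Finite.mem_toFinset hXfin).mpr hξ⟩, ?_⟩
    show (eqv.symm (eqv ⟨ξ, _⟩)).1 = ξ
    rw [Equiv.symm_apply_apply]
  have hmemK : ∀ x : ↥(Subgroup.normalizer (H : Set G)), (x : G) ∉ (H : Set G) → x ∉ Ker H :=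
    fun x hx h => hx (Subgroup.mem_subgroupOf.mp h)
  obtain ⟨ε, hε, θ, hθirr, hθinj, hθ⟩ := Cfsg.Agent.S0170.result (H : Set G)
    (fun x hx => hle hx) hTI (X (Ker H)).ncard ha2 χ (fun i => X_irr hCK (hχX i)) hχinj
    (fun i x hx => X_vanish (hχX i) (hmemK x hx))
    (fun i j => by rw [X_one (hχX i), X_one (hχX j)])
  have hε0 : ε ≠ 0 := by rcases hε with h | h <;> rw [h] <;> norm_num
  have hεc : conj ε = ε := by rcases hε with h | h <;> rw [h] <;> simp
  have hεε : ε * ε = 1 := by rcases hε with h | h <;> rw [h] <;> norm_num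
  -- the conjugate index
  have hconj : ∀ i, ∃ i', χ i' = conjFun (χ i) ∧ i' ≠ i ∧ conjFun (ε • θ i) = ε • θ i' := by
    intro i
    obtain ⟨i', hi'⟩ := hχsurj (conjFun (χ i)) (X_conj (hχX i))
    have hne : i' ≠ i := by
      intro h
      rw [h] at hi'
      exact X_conj_ne hNodd hCK (hχX i) hi'.symm
    refine ⟨i', hi', hne, ?_⟩
    have h1 := hθ i i'
    have h2 := hθ i' i
    have h3 : conjFun (indFun (Subgroup.normalizer (H : Set G)) (χ i) -
        indFun (Subgroup.normalizer (H : Set G)) (χ i')) =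
        indFun (Subgroup.normalizer (H : Set G)) (χ i') -
        indFun (Subgroup.normalizer (H : Set G)) (χ i) := by
      rw [conjFun_sub, conjFun_indFun', conjFun_indFun', hi', conjFun_conjFun, ← hi']
    rw [h1, h2, conjFun_smul, hεc, conjFun_sub] at h3
    have h4 : conjFun (θ i) - conjFun (θ i') = θ i' - θ i := by
      have := congrArg (fun f => ε • f) h3
      simp only [smul_smul, hεε, one_smul] at this
      exact this
    have h5 := conj_pair (hθirr i) (hθirr i') (fun h => hne (hθinj h).symm) h4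
    rw [conjFun_smul, hεc, h5]
  -- inner product with the principal character
  have hθ1 : ∀ i, classInner (θ i) (fun _ => (1 : ℂ)) = 0 := by
    intro i
    by_contra hne
    have h1 : θ i = fun _ => (1 : ℂ) := by
      by_contra h2
      exact hne (classInner_irr_ne (hθirr i) (one_irr G) h2)
    -- another index
    obtain ⟨j, hj⟩ : ∃ j : Fin (X (Ker H)).ncard, j ≠ i := by
      by_cases h0 : i = ⟨0, ha_pos⟩
      · refine ⟨⟨1, ha2⟩, ?_⟩
        rw [h0]; intro h; have := congrArg Fin.val h; simp at this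
      · exact ⟨⟨0, ha_pos⟩, fun h => h0 h.symm⟩
    have h3 : classInner (indFun (Subgroup.normalizer (H : Set G)) (χ i) -
        indFun (Subgroup.normalizer (H : Set G)) (χ j)) (fun _ => (1 : ℂ)) = 0 := by
      rw [← Cfsg.Agent.S0170.indFun_sub,
        Cfsg.Agent.S0146.result _ _ _ (isClassFunction_irr (one_irr G)), classInner_sub_left]
      have e1 := inner_X_one (hχX i)
      have e2 := inner_X_one (hχX j)
      rw [e1, e2, sub_zero]
    rw [hθ i j, classInner_smul_left, classInner_sub_left, h1, classInner_irr_self (one_irr G)] at h3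
    have h4 : classInner (θ j) (fun _ => (1 : ℂ)) = 0 := by
      apply classInner_irr_ne (hθirr j) (one_irr G)
      rw [← h1]
      exact fun h => hj (hθinj h)
    rw [h4, sub_zero, mul_one] at h3
    exact hε0 h3
  -- the objects
  let i₀ : Fin (X (Ker H)).ncard := ⟨0, ha_pos⟩
  let fF : Fin (X (Ker H)).ncard → (G → ℂ) := fun i => ε • θ i
  have hfinj : Function.Injective fF := by
    intro i j h
    apply hθinj
    have := congrArg (fun f => ε • f) h
    simp only [fF, smul_smul, hεε, one_smul] at this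
    exact this
  let F : Finset (G → ℂ) := Finset.univ.image fF
  let β : G → ℂ := indFun (Subgroup.normalizer (H : Set G)) (rho (Ker H) - χ i₀)
  have hmemF : ∀ f ∈ F, ∃ i, f = fF i := by
    intro f hf
    obtain ⟨i, -, rfl⟩ := Finset.mem_image.mp hf
    exact ⟨i, rfl⟩
  have hFmem : ∀ i, fF i ∈ F := fun i => Finset.mem_image.mpr ⟨i, Finset.mem_univ _, rfl⟩
  -- key identity
  have hkey : ∀ i, indFun (Subgroup.normalizer (H : Set G)) (rho (Ker H) - χ i) =
      β + fF i₀ - fF i := by
    intro i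
    have h1 : indFun (Subgroup.normalizer (H : Set G)) (rho (Ker H) - χ i) - β =
        fF i₀ - fF i := by
      show indFun _ (rho (Ker H) - χ i) - indFun _ (rho (Ker H) - χ i₀) = _
      rw [← Cfsg.Agent.S0170.indFun_sub]
      have : rho (Ker H) - χ i - (rho (Ker H) - χ i₀) = χ i₀ - χ i := by abel
      rw [this, Cfsg.Agent.S0170.indFun_sub, hθ i₀ i]
      show ε • (θ i₀ - θ i) = ε • θ i₀ - ε • θ i
      rw [smul_sub]
    have : indFun (Subgroup.normalizer (H : Set G)) (rho (Ker H) - χ i) =
        β + (fF i₀ - fF i) := by rw [← h1]; abel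
    rw [this]; abel
  have hgenχ : ∀ i, IsGeneralizedCharacter ↥(Subgroup.normalizer (H : Set G))
      (rho (Ker H) - χ i) := fun i =>
    isGenChar_sub (isGenChar_of_isCharacter (rho_isCharacter (Ker H)))
      (isGenChar_of_irr (X_irr hCK (hχX i)))
  have hvan : ∀ i, ∀ x : ↥(Subgroup.normalizer (H : Set G)), (x : G) ∉ (H : Set G) →
      (rho (Ker H) - χ i) x = 0 := by
    intro i x hx
    rw [Pi.sub_apply, rho_apply_notMem (Ker H) (hmemK x hx), X_vanish (hχX i) (hmemK x hx),
      sub_zero]
  have hone : ∀ i, (rho (Ker H) - χ i) 1 = 0 := by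
    intro i
    rw [Pi.sub_apply, rho_one, X_one (hχX i), sub_self]
  refine ⟨(Ker H).index, (X (Ker H)).ncard, F, fF i₀, β, ?_⟩
  refine
    { card_norm := he_card
      e_odd := he_odd
      e_ge := he3
      a_even := ha_even
      a_ge := ha2
      q_eq := hq
      nilp := hnilH
      card_F := ?_
      eta_mem := hFmem i₀
      genF := ?_
      conjF := ?_
      conj_ne := ?_
      inner_one := ?_
      ortho := ?_
      genβ := ?_
      β_one := ?_
      conjβ := ?_
      gram := ?_
      supp := ?_ }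
  · rw [Finset.card_image_of_injective _ hfinj, Finset.card_univ, Fintype.card_fin]
  · intro f hf
    obtain ⟨i, rfl⟩ := hmemF f hf
    show IsGeneralizedCharacter G (ε • θ i)
    rcases hε with h | h
    · rw [h, one_smul]; exact isGenChar_of_irr (hθirr i)
    · rw [h, neg_one_smul]; exact isGenChar_neg (isGenChar_of_irr (hθirr i))
  · intro f hf
    obtain ⟨i, rfl⟩ := hmemF f hf
    obtain ⟨i', -, -, h3⟩ := hconj i
    show conjFun (ε • θ i) ∈ F
    rw [h3]; exact hFmem i'
  · intro f hf
    obtain ⟨i, rfl⟩ := hmemF f hf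
    obtain ⟨i', -, h2, h3⟩ := hconj i
    show conjFun (ε • θ i) ≠ ε • θ i
    rw [h3]
    exact fun h => h2 (hfinj h)
  · intro f hf
    obtain ⟨i, rfl⟩ := hmemF f hf
    show classInner (ε • θ i) _ = 0
    rw [classInner_smul_left, hθ1 i, mul_zero]
  · intro f hf f' hf'
    obtain ⟨i, rfl⟩ := hmemF f hf
    obtain ⟨j, rfl⟩ := hmemF f' hf'
    show classInner (ε • θ i) (ε • θ j) = _
    rw [classInner_smul_left, classInner_smul_right, hεc, ← mul_assoc, hεε, one_mul,
      classInner_irr (hθirr i) (hθirr j)]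
    by_cases hij : i = j
    · rw [hij, if_pos rfl, if_pos rfl]
    · rw [if_neg (fun h => hij (hθinj h)), if_neg (fun h => hij (hfinj h))]
  · show IsGeneralizedCharacter G (indFun _ (rho (Ker H) - χ i₀))
    rw [Cfsg.Agent.S0170.indFun_sub]
    exact isGenChar_sub
      (isGenChar_of_isCharacter (Cfsg.Agent.S0148.result _ _ (rho_isCharacter (Ker H))))
      (isGenChar_of_isCharacter (Cfsg.Agent.S0148.result _ _
        (isCharacter_of_irr (X_irr hCK (hχX i₀)))))
  · show classInner (indFun _ (rho (Ker H) - χ i₀)) _ = 1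
    rw [Cfsg.Agent.S0146.result _ _ _ (isClassFunction_irr (one_irr G)), classInner_sub_left]
    have e1 := inner_rho_one (K := Ker H)
    have e2 := inner_X_one (hχX i₀)
    rw [e1, e2, sub_zero]
  · obtain ⟨i', h1, -, h3⟩ := hconj i₀
    show conjFun (indFun _ (rho (Ker H) - χ i₀)) = β + fF i₀ - conjFun (fF i₀)
    rw [conjFun_indFun', conjFun_sub, conjFun_rho, ← h1, hkey i']
    show β + fF i₀ - ε • θ i' = β + fF i₀ - conjFun (ε • θ i₀)
    rw [h3]
  · intro f hf f' hf'
    obtain ⟨i, rfl⟩ := hmemF f hf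
    obtain ⟨j, rfl⟩ := hmemF f' hf'
    rw [← hkey i, ← hkey j]
    rw [Cfsg.Agent.S0150.result (H : Set G) hTI (fun x hx => hle hx) _ _
      (isGenChar_isClassFunction (hgenχ i)) (isGenChar_isClassFunction (hgenχ j))
      (hvan i) (hvan j) (hone i)]
    rw [classInner_sub_left, classInner_sub_right, classInner_sub_right, inner_rho_rho,
      inner_rho_X (hχX j), inner_X_rho (hχX i), inner_X_X hCK (hχX i) (hχX j)]
    by_cases hij : i = j
    · rw [hij, if_pos rfl, if_pos rfl]; ring
    · rw [if_neg (fun h => hij (hχinj h)), if_neg (fun h => hij (hfinj h))]; ring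
  · intro f hf g hg
    obtain ⟨i, rfl⟩ := hmemF f hf
    rw [← hkey i]
    apply indFun_eq_zero_of
    intro x hx
    rcases hg with h1 | h2
    · subst h1
      have : (⟨x⁻¹ * 1 * x, hx⟩ : ↥(Subgroup.normalizer (H : Set G))) = 1 := by
        apply Subtype.ext
        show x⁻¹ * 1 * x = 1
        group
      rw [this]; exact hone i
    · apply hvan i
      have := h2 x⁻¹
      rw [inv_inv] at this
      exact this

end Cfsg.Agent.Lib.Helper4.FrobTI
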