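import Mathlib
import Cfsg.Agent.Lib.Helper4.FrobTI5
import Cfsg.Agent.Lib.Helper4.Coh1

set_option autoImplicit false
set_option linter.unusedSectionVars false

/-!
# Supports, local norms and the Cauchy–Schwarz lower bound
-/

namespace Cfsg.Agent.Lib.Helper4.FrobTI

open Cfsg Cfsg.Agent.Lib.Helper1 Cfsg.Agent.Lib.Helper4 Cfsg.Agent.Lib.Helper2
open Cfsg.Agent.Lib.Helper4.Coh
open scoped ComplexConjugate

section

variable {G : Type*} [Group G] [Fintype G]

/-- nonidentity elements conjugate into `K` -/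
def SS (K : Subgroup G) : Set G := {g | g ≠ 1 ∧ ∃ x : G, x * g * x⁻¹ ∈ K}

theorem one_notMem_SS (K : Subgroup G) : (1 : G) ∉ SS K := fun h => h.1 rfl

/-- `ψ` vanishes off `S` -/
def SuppOn (S : Set G) (ψ : G → ℂ) : Prop := ∀ g, g ∉ S → ψ g = 0

theorem SuppOn.add {S : Set G} {ψ φ : G → ℂ} (h1 : SuppOn S ψ) (h2 : SuppOn S φ) :
    SuppOn S (ψ + φ) := fun g hg => by rw [Pi.add_apply, h1 g hg, h2 g hg, add_zero]

theorem SuppOn.sub {S : Set G} {ψ φ : G → ℂ} (h1 : SuppOn S ψ) (h2 : SuppOn S φ) :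
    SuppOn S (ψ - φ) := fun g hg => by rw [Pi.sub_apply, h1 g hg, h2 g hg, sub_zero]

theorem SuppOn.neg {S : Set G} {ψ : G → ℂ} (h1 : SuppOn S ψ) :
    SuppOn S (-ψ) := fun g hg => by rw [Pi.neg_apply, h1 g hg, neg_zero]

theorem SuppOn.smul {S : Set G} {ψ : G → ℂ} (c : ℂ) (h1 : SuppOn S ψ) :
    SuppOn S (c • ψ) := fun g hg => by rw [Pi.smul_apply, h1 g hg, smul_zero]

theorem SuppOn.sum {S : Set G} {κ : Type*} (s : Finset κ) (f : κ → G → ℂ)
    (h : ∀ k ∈ s, SuppOn S (f k)) : SuppOn S (∑ k ∈ s, f k) := fun g hg => by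
  rw [Finset.sum_apply]
  exact Finset.sum_eq_zero fun k hk => h k hk g hg

theorem SuppOn.conj {S : Set G} {ψ : G → ℂ} (h1 : SuppOn S ψ) :
    SuppOn S (conjFun ψ) := fun g hg => by rw [conjFun_apply, h1 g hg, map_zero]

theorem classInner_eq_zero_of_disjoint {S T : Set G} (hST : Disjoint S T) {ψ φ : G → ℂ}
    (hψ : SuppOn S ψ) (hφ : SuppOn T φ) : classInner ψ φ = 0 := by
  rw [classInner_def]
  have : ∀ g : G, ψ g * conj (φ g) = 0 := by
    intro g
    by_cases hg : g ∈ S
    · have : g ∉ T := fun h => (Set.disjoint_left.mp hST) hg h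
      rw [hφ g this, map_zero, mul_zero]
    · rw [hψ g hg, zero_mul]
  rw [Finset.sum_eq_zero fun g _ => this g, mul_zero]

/-- local part of the norm -/
noncomputable def locN (S : Set G) (φ : G → ℂ) : ℝ :=
  (Nat.card G : ℝ)⁻¹ * ∑ g : G, S.indicator (fun g => Complex.normSq (φ g)) g

theorem locN_nonneg (S : Set G) (φ : G → ℂ) : 0 ≤ locN S φ := by
  unfold locN
  apply mul_nonneg (inv_nonneg.mpr (Nat.cast_nonneg _))
  apply Finset.sum_nonneg
  intro g _
  exact Set.indicator_nonneg (fun g _ => Complex.normSq_nonneg _) g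

theorem classInner_re (φ ψ : G → ℂ) :
    (classInner φ ψ).re = (Nat.card G : ℝ)⁻¹ * ∑ g : G, (φ g * conj (ψ g)).re := by
  rw [classInner_def]
  have : ((Nat.card G : ℂ)⁻¹) = (((Nat.card G : ℝ)⁻¹ : ℝ) : ℂ) := by push_cast; rfl
  rw [this, Complex.re_ofReal_mul, Complex.re_sum]

theorem classInner_self_re (ψ : G → ℂ) :
    (classInner ψ ψ).re = (Nat.card G : ℝ)⁻¹ * ∑ g : G, Complex.normSq (ψ g) := by
  rw [classInner_self_eq_ofReal, Complex.ofReal_re]

/-- Cauchy–Schwarz type lower bound for the local norm. -/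
theorem cs_bound {S : Set G} (φ : G → ℂ) {ψ : G → ℂ} (hψ : SuppOn S ψ) :
    2 * (classInner φ ψ).re - (classInner ψ ψ).re ≤ locN S φ := by
  rw [classInner_re, classInner_self_re]
  unfold locN
  have hpos : (0 : ℝ) ≤ (Nat.card G : ℝ)⁻¹ := inv_nonneg.mpr (Nat.cast_nonneg _)
  have key : ∀ g : G, 2 * (φ g * conj (ψ g)).re - Complex.normSq (ψ g) ≤
      S.indicator (fun g => Complex.normSq (φ g)) g := by
    intro g
    by_cases hg : g ∈ S
    · rw [Set.indicator_of_mem hg]
      have h1 : Complex.normSq (φ g - ψ g) =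
          Complex.normSq (φ g) + Complex.normSq (ψ g) - 2 * (φ g * conj (ψ g)).re :=
        Complex.normSq_sub _ _
      have h2 := Complex.normSq_nonneg (φ g - ψ g)
      linarith
    · rw [Set.indicator_of_notMem hg, hψ g hg]
      simp
  have hsum : ∑ g : G, (2 * (φ g * conj (ψ g)).re - Complex.normSq (ψ g)) ≤
      ∑ g : G, S.indicator (fun g => Complex.normSq (φ g)) g :=
    Finset.sum_le_sum fun g _ => key g
  have := mul_le_mul_of_nonneg_left hsum hpos
  rw [Finset.sum_sub_distrib, ← Finset.mul_sum] at this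
  linarith

/-- The local norms over disjoint supports add up to at most the norm. -/
theorem sum_locN_le {κ : Type*} [Fintype κ] (S : κ → Set G)
    (hdisj : ∀ i j, i ≠ j → Disjoint (S i) (S j)) (h1 : ∀ i, (1 : G) ∉ S i) (φ : G → ℂ) :
    Complex.normSq (φ 1) / (Nat.card G : ℝ) + ∑ i, locN (S i) φ ≤ (classInner φ φ).re := by
  classical
  rw [classInner_self_re]
  unfold locN
  rw [← Finset.mul_sum, div_eq_inv_mul, ← mul_add]
  have hpos : (0 : ℝ) ≤ (Nat.card G : ℝ)⁻¹ := inv_nonneg.mpr (Nat.cast_nonneg _)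
  apply mul_le_mul_of_nonneg_left _ hpos
  rw [Finset.sum_comm]
  have h2 : Complex.normSq (φ 1) = ∑ g : G, if g = 1 then Complex.normSq (φ g) else 0 := by
    rw [Finset.sum_ite_eq' Finset.univ (1 : G) (fun g => Complex.normSq (φ g))]
    simp
  rw [h2, ← Finset.sum_add_distrib]
  apply Finset.sum_le_sum
  intro g _
  by_cases hg : g = 1
  · rw [if_pos hg]
    have : ∑ i, (S i).indicator (fun g => Complex.normSq (φ g)) g = 0 := by
      apply Finset.sum_eq_zero
      intro i _
      rw [Set.indicator_of_notMem]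
      rw [hg]; exact h1 i
    rw [this, add_zero]
  · rw [if_neg hg, zero_add]
    by_cases hex : ∃ i, g ∈ S i
    · obtain ⟨i, hi⟩ := hex
      rw [Finset.sum_eq_single i]
      · rw [Set.indicator_of_mem hi]
      · intro j _ hj
        rw [Set.indicator_of_notMem]
        exact fun h => (Set.disjoint_left.mp (hdisj j i hj)) h hi
      · intro h; exact absurd (Finset.mem_univ i) h
    · push Not at hex
      rw [Finset.sum_eq_zero]
      · exact Complex.normSq_nonneg _
      · intro i _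
        exact Set.indicator_of_notMem (hex i) _

end

end Cfsg.Agent.Lib.Helper4.FrobTI
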