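import Mathlib
import Cfsg.Agent.Lib.Helper4.FrobPart1

set_option autoImplicit false
set_option linter.unusedSectionVars false
set_option maxHeartbeats 800000

/-!
# Consequences of the local data
-/

namespace Cfsg.Agent.Lib.Helper4.FrobTI

open Cfsg Cfsg.Agent.Lib.Helper1 Cfsg.Agent.Lib.Helper4 Cfsg.Agent.Lib.Helper2
open Cfsg.Agent.Lib.Helper4.Coh
open scoped ComplexConjugate

section Local

variable {G : Type*} [Group G] [Fintype G] {H : Subgroup G} {e a : ℕ} {F : Finset (G → ℂ)}
  {η β : G → ℂ}

/-- the sum of all the differences -/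
noncomputable def vv (F : Finset (G → ℂ)) (η β : G → ℂ) : G → ℂ := ∑ f ∈ F, (β + η - f)

theorem LocalData.supp_sub (h : LocalData H e a F η β) {f : G → ℂ} (hf : f ∈ F) :
    SuppOn (SS H) (β + η - f) := by
  intro g hg
  apply h.supp f hf g
  by_cases h1 : g = 1
  · exact Or.inl h1
  · right
    intro x hx
    exact hg ⟨h1, x, hx⟩

theorem LocalData.beta_eq (h : LocalData H e a F η β) : β = β + η - η := by abel

theorem LocalData.supp_beta (h : LocalData H e a F η β) : SuppOn (SS H) β := by
  have := h.supp_sub h.eta_mem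
  rwa [← h.beta_eq] at this

theorem LocalData.supp_FF (h : LocalData H e a F η β) {f f' : G → ℂ} (hf : f ∈ F) (hf' : f' ∈ F) :
    SuppOn (SS H) (f - f') := by
  have : f - f' = (β + η - f') - (β + η - f) := by abel
  rw [this]
  exact (h.supp_sub hf').sub (h.supp_sub hf)

theorem LocalData.supp_vv (h : LocalData H e a F η β) : SuppOn (SS H) (vv F η β) :=
  SuppOn.sum _ _ fun _ hf => h.supp_sub hf

theorem LocalData.inner_beta_beta (h : LocalData H e a F η β) : classInner β β = (e : ℂ) + 1 := by
  have := h.gram η h.eta_mem η h.eta_mem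
  rwa [← h.beta_eq, if_pos rfl] at this

theorem LocalData.theta_real (h : LocalData H e a F η β) : conjFun (β + η) = β + η := by
  have h1 : conjFun (β + η) = conjFun β + conjFun η := by
    funext x; simp [conjFun_apply]
  rw [h1, h.conjβ]; abel

theorem LocalData.genTheta (h : LocalData H e a F η β) : IsGeneralizedCharacter G (β + η) :=
  isGenChar_add h.genβ (h.genF η h.eta_mem)

theorem LocalData.theta_one (h : LocalData H e a F η β) :
    classInner (β + η) (fun _ => (1 : ℂ)) = 1 := by
  rw [classInner_add_left, h.β_one, h.inner_one η h.eta_mem, add_zero]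

theorem LocalData.inner_conj_eta (h : LocalData H e a F η β) :
    classInner (conjFun η) η = 0 := by
  rw [h.ortho _ (h.conjF η h.eta_mem) _ h.eta_mem, if_neg (h.conj_ne η h.eta_mem)]

theorem LocalData.exists_u (h : LocalData H e a F η β) :
    ∃ u : ℤ, classInner β (conjFun η) = u ∧ classInner β η = (u : ℂ) - 1 := by
  obtain ⟨w, hw⟩ := classInner_genChar_int h.genβ (h.genF η h.eta_mem)
  refine ⟨w + 1, ?_, ?_⟩
  · have h1 : classInner β (conjFun η) = conj (classInner (conjFun β) η) := by
      rw [classInner_conjFun_left, Complex.conj_conj]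
    rw [h1, h.conjβ, classInner_sub_left, classInner_add_left, hw,
      h.ortho η h.eta_mem η h.eta_mem, if_pos rfl, h.inner_conj_eta]
    simp
  · rw [hw]; push_cast; ring

theorem LocalData.inner_eta_vv (h : LocalData H e a F η β) {u : ℤ}
    (hu : classInner β η = (u : ℂ) - 1) : classInner η (vv F η β) = (a : ℂ) * u - 1 := by
  classical
  unfold vv
  rw [classInner_sum_right]
  have hw : classInner η β = (u : ℂ) - 1 := by
    have : classInner β η = ((u - 1 : ℤ) : ℂ) := by rw [hu]; push_cast; ring
    rw [classInner_int_symm this]; push_cast; ring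
  have : ∀ f ∈ F, classInner η (β + η - f) = (u : ℂ) - if f = η then 1 else 0 := by
    intro f hf
    rw [classInner_sub_right, classInner_add_right, hw, h.ortho η h.eta_mem η h.eta_mem,
      if_pos rfl, h.ortho η h.eta_mem f hf]
    by_cases hfe : f = η
    · rw [if_pos hfe, if_pos hfe.symm]; ring
    · rw [if_neg hfe, if_neg (Ne.symm hfe)]; ring
  rw [Finset.sum_congr rfl this, Finset.sum_sub_distrib, Finset.sum_const, h.card_F,
    Finset.sum_ite_eq' F η (fun _ => (1 : ℂ)), if_pos h.eta_mem]
  simp

theorem LocalData.inner_vv_beta (h : LocalData H e a F η β) :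
    classInner (vv F η β) β = (a : ℂ) * e + 1 := by
  classical
  unfold vv
  rw [classInner_sum_left]
  have : ∀ f ∈ F, classInner (β + η - f) β = (e : ℂ) + if f = η then 1 else 0 := by
    intro f hf
    have hb : classInner (β + η - f) β = classInner (β + η - f) (β + η - η) := by
      rw [← h.beta_eq]
    rw [hb, h.gram f hf η h.eta_mem]
  rw [Finset.sum_congr rfl this, Finset.sum_add_distrib, Finset.sum_const, h.card_F,
    Finset.sum_ite_eq' F η (fun _ => (1 : ℂ)), if_pos h.eta_mem]
  simp

theorem LocalData.inner_beta_vv (h : LocalData H e a F η β) :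
    classInner β (vv F η β) = (a : ℂ) * e + 1 := by
  have h1 : classInner (vv F η β) β = ((a * e + 1 : ℤ) : ℂ) := by
    rw [h.inner_vv_beta]; push_cast; ring
  rw [classInner_int_symm h1]; push_cast; ring

theorem LocalData.inner_vv_vv (h : LocalData H e a F η β) :
    classInner (vv F η β) (vv F η β) = (a : ℂ) * ((a : ℂ) * e + 1) := by
  classical
  unfold vv
  rw [classInner_sum_left]
  have : ∀ f ∈ F, classInner (β + η - f) (∑ f' ∈ F, (β + η - f')) = (a : ℂ) * e + 1 := by
    intro f hf
    rw [classInner_sum_right]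
    have h2 : ∀ f' ∈ F, classInner (β + η - f) (β + η - f') =
        (e : ℂ) + if f' = f then 1 else 0 := by
      intro f' hf'
      rw [h.gram f hf f' hf']
      by_cases hff : f = f'
      · rw [if_pos hff, if_pos hff.symm]
      · rw [if_neg hff, if_neg (Ne.symm hff)]
    rw [Finset.sum_congr rfl h2, Finset.sum_add_distrib, Finset.sum_const, h.card_F,
      Finset.sum_ite_eq' F f (fun _ => (1 : ℂ)), if_pos hf]
    simp
  rw [Finset.sum_congr rfl this, Finset.sum_const, h.card_F]
  simp only [nsmul_eq_mul]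

theorem LocalData.q_pos (_h : LocalData H e a F η β) : (0 : ℝ) < (a : ℝ) * e + 1 := by
  positivity

/-- lower bound for the local norm of a function whose inner products with the differences are a
constant integer. -/
theorem LocalData.other_bound (h : LocalData H e a F η β) (φ : G → ℂ) (m : ℤ)
    (hφ : ∀ f ∈ F, classInner φ (β + η - f) = m) :
    (a : ℝ) * (m : ℝ) ^ 2 / ((a : ℝ) * e + 1) ≤ locN (SS H) φ := by
  have hq := h.q_pos
  set c : ℝ := (m : ℝ) / ((a : ℝ) * e + 1) with hc
  have hsupp : SuppOn (SS H) (((c : ℝ) : ℂ) • vv F η β) := (h.supp_vv).smul _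
  have hb := cs_bound φ hsupp
  have h1 : classInner φ (((c : ℝ) : ℂ) • vv F η β) = ((c * a * m : ℝ) : ℂ) := by
    rw [classInner_smul_right, Complex.conj_ofReal]
    unfold vv
    rw [classInner_sum_right, Finset.sum_congr rfl hφ, Finset.sum_const, h.card_F]
    push_cast
    simp only [nsmul_eq_mul]
    ring
  have h2 : classInner (((c : ℝ) : ℂ) • vv F η β) (((c : ℝ) : ℂ) • vv F η β) =
      ((c * c * (a * (a * e + 1)) : ℝ) : ℂ) := by
    rw [classInner_smul_right, classInner_smul_left, Complex.conj_ofReal, h.inner_vv_vv]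
    push_cast
    ring
  rw [h1, h2, Complex.ofReal_re, Complex.ofReal_re] at hb
  have h3 : 2 * (c * a * m) - c * c * (a * (a * e + 1)) =
      (a : ℝ) * (m : ℝ) ^ 2 / ((a : ℝ) * e + 1) := by
    rw [hc]
    field_simp
    ring
  rw [h3] at hb
  exact hb

/-- lower bound for the local norm of `η` on its own support. -/
theorem LocalData.own_bound (h : LocalData H e a F η β) :
    1 - (e : ℝ) / ((a : ℝ) * e + 1) ≤ locN (SS H) η := by
  have hq := h.q_pos
  obtain ⟨u, hu1, hu2⟩ := h.exists_u
  have ha2 : (2 : ℝ) ≤ a := by exact_mod_cast h.a_ge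
  have ha0 : (0 : ℝ) < a := by linarith
  set q : ℝ := (a : ℝ) * e + 1 with hqdef
  set c : ℝ := ((a : ℝ) * u - 1 + q) / (a * q) with hc
  have hsupp : SuppOn (SS H) (((c : ℝ) : ℂ) • vv F η β - β) :=
    ((h.supp_vv).smul _).sub h.supp_beta
  have hb := cs_bound η hsupp
  have hw : classInner η β = (u : ℂ) - 1 := by
    have : classInner β η = ((u - 1 : ℤ) : ℂ) := by rw [hu2]; push_cast; ring
    rw [classInner_int_symm this]; push_cast; ring
  have h1 : classInner η (((c : ℝ) : ℂ) • vv F η β - β) =
      ((c * (a * u - 1) - (u - 1) : ℝ) : ℂ) := by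
    rw [classInner_sub_right, classInner_smul_right, Complex.conj_ofReal, h.inner_eta_vv hu2, hw]
    push_cast
    ring
  have h2 : classInner (((c : ℝ) : ℂ) • vv F η β - β) (((c : ℝ) : ℂ) • vv F η β - β) =
      ((c * c * (a * q) - 2 * c * q + (e + 1) : ℝ) : ℂ) := by
    rw [classInner_sub_left, classInner_sub_right, classInner_sub_right, classInner_smul_right,
      classInner_smul_left, classInner_smul_left, classInner_smul_right, Complex.conj_ofReal,
      h.inner_vv_vv, h.inner_vv_beta, h.inner_beta_vv, h.inner_beta_beta, hqdef]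
    push_cast
    ring
  rw [h1, h2, Complex.ofReal_re, Complex.ofReal_re] at hb
  have h3 : 2 * (c * (a * u - 1) - (u - 1)) - (c * c * (a * q) - 2 * c * q + (e + 1)) =
      1 - (e : ℝ) / q + ((a : ℝ) * u ^ 2 - 2 * u) / q := by
    rw [hc]
    field_simp
    rw [hqdef]
    ring
  rw [h3] at hb
  have h4 : (0 : ℝ) ≤ ((a : ℝ) * u ^ 2 - 2 * u) / q := by
    apply div_nonneg _ hq.le
    have hu' : (u : ℝ) ≤ 0 ∨ (1 : ℝ) ≤ u := by
      rcases le_or_gt u 0 with hh | hh
      · left; exact_mod_cast hh
      · right; exact_mod_cast hh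
    rcases hu' with hh | hh
    · nlinarith [mul_nonneg ha0.le (sq_nonneg (u : ℝ))]
    · nlinarith [mul_nonneg (sub_nonneg.mpr hh) (sub_nonneg.mpr ha2)]
  linarith

end Local

end Cfsg.Agent.Lib.Helper4.FrobTI
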