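import Mathlib
import Cfsg.Agent.Lib.Helper4.FrobPart2
import Cfsg.Agent.Lib.Helper4.Coh6
import Cfsg.Agent.S0161

set_option autoImplicit false
set_option linter.unusedSectionVars false
set_option maxHeartbeats 800000

/-!
# Generic tools: Bessel with three extra vectors, parity of real generalized characters
-/

namespace Cfsg.Agent.Lib.Helper4.FrobTI

open Cfsg Cfsg.Agent.Lib.Helper1 Cfsg.Agent.Lib.Helper4 Cfsg.Agent.Lib.Helper2
open Cfsg.Agent.Lib.Helper4.Coh
open scoped ComplexConjugate

section Generic

variable {G : Type*} [Group G] [Fintype G]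

/-- If a norm-one vector has the same integral coefficient on two orthonormal vectors, the
coefficient vanishes. -/
theorem two_bessel {b v w : G → ℂ} (hb : classInner b b = 1) (hv : classInner v v = 1)
    (hw : classInner w w = 1) (hvw : classInner v w = 0) {c : ℤ} (h1 : classInner b v = c)
    (h2 : classInner b w = c) : c = 0 := by
  classical
  have hwv : classInner w v = 0 := classInner_eq_zero_symm hvw
  have key := bessel_orth (G := G) (Finset.univ : Finset (Fin 2)) ![v, w] (fun _ => 1)
    (fun _ _ => one_ne_zero)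
    (by
      intro i _ j _
      fin_cases i <;> fin_cases j <;> simp [hv, hw, hvw, hwv])
    b (fun _ => c)
    (by
      intro i _
      fin_cases i <;> simp [h1, h2])
    (B := 1) (by rw [hb]; norm_num)
  rw [Fin.sum_univ_two] at key
  simp only [Nat.cast_one, div_one] at key
  have h3 : (c : ℝ) ^ 2 ≤ 1 / 2 := by linarith
  by_contra hc
  have h4 : (1 : ℝ) ≤ (c : ℝ) ^ 2 := by
    have : (1 : ℤ) ≤ c ^ 2 := by
      have := sq_nonneg c
      have h5 : c ^ 2 ≠ 0 := pow_ne_zero 2 hc
      omega
    exact_mod_cast this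
  linarith

open Classical in
/-- Bessel's inequality for an orthogonal family together with three extra orthonormal vectors. -/
theorem bessel3 {κ : Type*} (s : Finset κ) (x : Fin 3 → G → ℂ) (V : κ → G → ℂ) (k : κ → ℕ)
    (hk : ∀ j ∈ s, k j ≠ 0)
    (hx : ∀ p q : Fin 3, classInner (x p) (x q) = if p = q then 1 else 0)
    (hxV : ∀ p, ∀ j ∈ s, classInner (x p) (V j) = 0)
    (hV : ∀ j ∈ s, ∀ j' ∈ s, classInner (V j) (V j') = if j = j' then (k j : ℂ) else 0)
    (b : G → ℂ) (c : Fin 3 → ℤ) (z : κ → ℤ) (hc : ∀ p, classInner b (x p) = c p)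
    (hz : ∀ j ∈ s, classInner b (V j) = z j) {B : ℝ} (hB : classInner b b = B) :
    ∑ p, (c p : ℝ) ^ 2 + ∑ j ∈ s, (z j : ℝ) ^ 2 / (k j : ℝ) ≤ B := by
  have key := bessel_orth (G := G) ((Finset.univ : Finset (Fin 3)).disjSum s)
    (Sum.elim x V) (Sum.elim (fun _ => 1) k)
    (by
      intro i hi
      rcases i with p | j
      · simp
      · simpa using hk j (Finset.inr_mem_disjSum.mp hi))
    (by
      intro i hi j hj
      rcases i with p | i <;> rcases j with q | j
      · simp only [Sum.elim_inl, hx p q, Sum.inl.injEq]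
        split_ifs <;> simp
      · simp only [Sum.elim_inl, Sum.elim_inr, hxV p j (Finset.inr_mem_disjSum.mp hj)]
        simp
      · simp only [Sum.elim_inl, Sum.elim_inr]
        rw [classInner_eq_zero_symm (hxV q i (Finset.inr_mem_disjSum.mp hi))]
        simp
      · simp only [Sum.elim_inr, hV i (Finset.inr_mem_disjSum.mp hi) j
          (Finset.inr_mem_disjSum.mp hj), Sum.inr.injEq])
    b (Sum.elim c z)
    (by
      intro i hi
      rcases i with p | j
      · simp [hc p]
      · simp [hz j (Finset.inr_mem_disjSum.mp hi)])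
    hB
  rw [Finset.sum_disjSum] at key
  simpa using key

/-- In a group of odd order, the inner product of two real-valued generalized characters is
congruent modulo `2` to the product of the multiplicities of the principal character. -/
theorem parity_real (hodd : Odd (Nat.card G)) {θ θ' : G → ℂ}
    (hθ : IsGeneralizedCharacter G θ) (hθ' : IsGeneralizedCharacter G θ')
    (hr : conjFun θ = θ) (hr' : conjFun θ' = θ') {n c c' : ℤ}
    (hn : classInner θ θ' = n) (hc : classInner θ (fun _ => (1 : ℂ)) = c)
    (hc' : classInner θ' (fun _ => (1 : ℂ)) = c') : ((n : ℤ) : ZMod 2) = c * c' := by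
  classical
  haveI : Fintype (IrrCharacter G) := Fintype.ofFinite _
  choose m hm using fun χ : IrrCharacter G => classInner_genChar_int hθ (isGenChar_of_irr χ.2)
  choose m' hm' using fun χ : IrrCharacter G => classInner_genChar_int hθ' (isGenChar_of_irr χ.2)
  have h1 : n = ∑ χ : IrrCharacter G, m χ * m' χ := by
    have h2 := classInner_eq_sum_mult θ θ' (isGenChar_isClassFunction hθ)
    rw [hn] at h2
    have h3 : ((n : ℤ) : ℂ) = ((∑ χ : IrrCharacter G, m χ * m' χ : ℤ) : ℂ) := by
      rw [h2]
      push_cast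
      refine Finset.sum_congr rfl fun χ _ => ?_
      rw [hm χ, classInner_int_symm (hm' χ)]
    exact_mod_cast h3
  let χ₁ : IrrCharacter G := ⟨fun _ => (1 : ℂ), one_irr G⟩
  have hm1 : m χ₁ = c := by
    have : ((m χ₁ : ℤ) : ℂ) = (c : ℂ) := by rw [← hm χ₁, ← hc]
    exact_mod_cast this
  have hm1' : m' χ₁ = c' := by
    have : ((m' χ₁ : ℤ) : ℂ) = (c' : ℂ) := by rw [← hm' χ₁, ← hc']
    exact_mod_cast this
  -- conjugation on the irreducible characters
  let cj : IrrCharacter G → IrrCharacter G := fun χ => ⟨conjFun χ.1, isIrrCharacter_conj χ.2⟩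
  have hcjcj : ∀ χ, cj (cj χ) = χ := fun χ => Subtype.ext (conjFun_conjFun χ.1)
  have hmcj : ∀ χ, m (cj χ) = m χ := by
    intro χ
    have h2 : classInner θ (conjFun χ.1) = conj (classInner θ χ.1) := by
      conv_lhs => rw [← hr]
      rw [classInner_conjFun_conjFun]
    have : ((m (cj χ) : ℤ) : ℂ) = (m χ : ℂ) := by
      rw [← hm (cj χ)]
      show classInner θ (conjFun χ.1) = _
      rw [h2, hm χ, map_intCast]
    exact_mod_cast this
  have hmcj' : ∀ χ, m' (cj χ) = m' χ := by
    intro χ
    have h2 : classInner θ' (conjFun χ.1) = conj (classInner θ' χ.1) := by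
      conv_lhs => rw [← hr']
      rw [classInner_conjFun_conjFun]
    have : ((m' (cj χ) : ℤ) : ℂ) = (m' χ : ℂ) := by
      rw [← hm' (cj χ)]
      show classInner θ' (conjFun χ.1) = _
      rw [h2, hm' χ, map_intCast]
    exact_mod_cast this
  have hcjne : ∀ χ, χ ≠ χ₁ → cj χ ≠ χ := by
    intro χ hχ h
    apply hχ
    apply Subtype.ext
    show χ.1 = fun _ => (1 : ℂ)
    apply Cfsg.Agent.S0161.result hodd χ
    intro g
    have h2 : conjFun χ.1 g = χ.1 g := by
      have := congrArg Subtype.val h
      exact congrFun this g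
    rw [conjFun_apply] at h2
    exact Complex.conj_eq_iff_im.mp h2
  have hcj1 : cj χ₁ = χ₁ := by
    apply Subtype.ext
    funext g
    show conj (1 : ℂ) = 1
    simp
  rw [h1, ← Finset.add_sum_erase Finset.univ _ (Finset.mem_univ χ₁), hm1, hm1']
  push_cast
  have h0 : ∑ χ ∈ Finset.univ.erase χ₁, ((m χ : ZMod 2) * (m' χ : ZMod 2)) = 0 := by
    apply Finset.sum_involution (fun χ _ => cj χ)
    · intro χ _
      rw [hmcj, hmcj']
      exact CharTwo.add_self_eq_zero _
    · intro χ hχ _
      exact hcjne χ (Finset.ne_of_mem_erase hχ)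
    · intro χ hχ
      apply Finset.mem_erase.mpr
      refine ⟨?_, Finset.mem_univ _⟩
      intro h
      have : χ = χ₁ := by rw [← hcjcj χ, h, hcj1]
      exact (Finset.ne_of_mem_erase hχ) this
    · intro χ _
      exact hcjcj χ
  rw [h0, add_zero]

end Generic

end Cfsg.Agent.Lib.Helper4.FrobTI
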