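import Mathlib
import Cfsg.Agent.Lib.Helper4.FrobPart3
import Cfsg.Agent.Lib.Helper4.Coh8

set_option autoImplicit false
set_option linter.unusedSectionVars false
set_option maxHeartbeats 1600000

/-!
# The global inequalities
-/

namespace Cfsg.Agent.Lib.Helper4.FrobTI

open Cfsg Cfsg.Agent.Lib.Helper1 Cfsg.Agent.Lib.Helper4 Cfsg.Agent.Lib.Helper2
open Cfsg.Agent.Lib.Helper4.Coh
open scoped ComplexConjugate

section Global

variable {G : Type*} [Group G] [Fintype G] {ι : Type*} [Fintype ι] [DecidableEq ι]
  {H : ι → Subgroup G} {e a : ι → ℕ} {F : ι → Finset (G → ℂ)} {η β : ι → G → ℂ}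

theorem ortho_FF (hloc : ∀ i, LocalData (H i) (e i) (a i) (F i) (η i) (β i))
    (hdisj : ∀ i j, i ≠ j → Disjoint (SS (H i)) (SS (H j))) {i j : ι} (hij : i ≠ j)
    {f f' : G → ℂ} (hf : f ∈ F i) (hf' : f' ∈ F j) : classInner f f' = 0 := by
  have hcf' := (hloc j).conjF f' hf'
  obtain ⟨c, hc⟩ := classInner_genChar_int ((hloc i).genF f hf) ((hloc j).genF f' hf')
  obtain ⟨c', hc'⟩ := classInner_genChar_int ((hloc i).genF f hf) ((hloc j).genF _ hcf')
  have h0 := classInner_eq_zero_of_disjoint (hdisj i j hij)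
    ((hloc i).supp_FF hf ((hloc i).conjF f hf)) ((hloc j).supp_FF hf' hcf')
  rw [classInner_sub_left, classInner_sub_right, classInner_sub_right, hc, hc',
    classInner_conjFun_conjFun, hc, classInner_conjFun_left, hc', map_intCast, map_intCast] at h0
  have hcc : c = c' := by
    have : ((2 * c : ℤ) : ℂ) = ((2 * c' : ℤ) : ℂ) := by
      push_cast
      linear_combination h0
    have h2 : 2 * c = 2 * c' := by exact_mod_cast this
    omega
  rw [← hcc] at hc'
  have h1 : classInner f f = 1 := by rw [(hloc i).ortho f hf f hf, if_pos rfl]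
  have h2 : classInner f' f' = 1 := by rw [(hloc j).ortho f' hf' f' hf', if_pos rfl]
  have h3 : classInner (conjFun f') (conjFun f') = 1 := by
    rw [(hloc j).ortho _ hcf' _ hcf', if_pos rfl]
  have h4 : classInner f' (conjFun f') = 0 := by
    rw [(hloc j).ortho f' hf' _ hcf', if_neg (Ne.symm ((hloc j).conj_ne f' hf'))]
  have := two_bessel h1 h2 h3 h4 hc hc'
  rw [hc, this]; simp

open Classical in
/-- the integer `⟨β j, η i⟩` -/
noncomputable def mm (η β : ι → G → ℂ) (i j : ι) : ℤ :=
  if h : ∃ m : ℤ, classInner (β j) (η i) = m then h.choose else 0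

theorem mm_spec (hloc : ∀ i, LocalData (H i) (e i) (a i) (F i) (η i) (β i)) (i j : ι) :
    classInner (β j) (η i) = mm η β i j := by
  have h := classInner_genChar_int (hloc j).genβ ((hloc i).genF _ (hloc i).eta_mem)
  unfold mm
  rw [dif_pos h]
  exact h.choose_spec

theorem inner_beta_F (hloc : ∀ i, LocalData (H i) (e i) (a i) (F i) (η i) (β i))
    (hdisj : ∀ i j, i ≠ j → Disjoint (SS (H i)) (SS (H j))) {i j : ι} (hij : i ≠ j)
    {f : G → ℂ} (hf : f ∈ F i) : classInner (β j) f = mm η β i j := by
  have h0 := classInner_eq_zero_of_disjoint (hdisj j i hij.symm) (hloc j).supp_beta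
    ((hloc i).supp_FF hf (hloc i).eta_mem)
  rw [classInner_sub_right, mm_spec hloc] at h0
  linear_combination h0

theorem odd_mm (hodd : Odd (Nat.card G))
    (hloc : ∀ i, LocalData (H i) (e i) (a i) (F i) (η i) (β i))
    (hdisj : ∀ i j, i ≠ j → Disjoint (SS (H i)) (SS (H j))) {i j : ι} (hij : i ≠ j) :
    Odd (mm η β i j + mm η β j i) := by
  have h0 : classInner (β i) (β j) = 0 :=
    classInner_eq_zero_of_disjoint (hdisj i j hij) (hloc i).supp_beta (hloc j).supp_beta
  have h1 : classInner (β i + η i) (β j + η j) = ((mm η β i j + mm η β j i : ℤ) : ℂ) := by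
    rw [classInner_add_left, classInner_add_right, classInner_add_right, h0,
      mm_spec hloc j i, classInner_int_symm (mm_spec hloc i j),
      ortho_FF hloc hdisj hij (hloc i).eta_mem (hloc j).eta_mem]
    push_cast
    ring
  have h2 := parity_real hodd (hloc i).genTheta (hloc j).genTheta (hloc i).theta_real
    (hloc j).theta_real h1 (c := 1) (c' := 1) (by rw [(hloc i).theta_one]; simp)
    (by rw [(hloc j).theta_one]; simp)
  apply ZMod.intCast_eq_one_iff_odd.mp
  rw [h2]; simp

/-- Inequality (A): Bessel's inequality for `β i`. -/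
theorem boundA (hloc : ∀ i, LocalData (H i) (e i) (a i) (F i) (η i) (β i))
    (hdisj : ∀ i j, i ≠ j → Disjoint (SS (H i)) (SS (H j))) (i : ι) :
    (1 : ℝ) + ∑ j ∈ Finset.univ.erase i, (a j : ℝ) * (mm η β j i : ℝ) ^ 2 ≤ e i := by
  classical
  obtain ⟨u, hu1, hu2⟩ := (hloc i).exists_u
  have hηi := (hloc i).eta_mem
  have hcηi := (hloc i).conjF _ hηi
  have h11 : classInner (fun _ : G => (1 : ℂ)) (fun _ : G => (1 : ℂ)) = 1 :=
    classInner_irr_self (one_irr G)
  have h1F : ∀ j, ∀ f ∈ F j, classInner (fun _ : G => (1 : ℂ)) f = 0 := fun j f hf =>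
    classInner_eq_zero_symm ((hloc j).inner_one f hf)
  have key := bessel3 (G := G) (Finset.univ.erase i)
    ![fun _ => (1 : ℂ), η i, conjFun (η i)] (fun j => ∑ f ∈ F j, f) a
    (by
      intro j _
      have := (hloc j).a_ge
      omega)
    (by
      intro p q
      fin_cases p <;> fin_cases q
      · simpa using h11
      · simpa using h1F i _ hηi
      · simpa using h1F i _ hcηi
      · simpa using (hloc i).inner_one _ hηi
      · simpa using (hloc i).ortho _ hηi _ hηi
      · have := (hloc i).ortho _ hηi _ hcηi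
        rw [if_neg (Ne.symm ((hloc i).conj_ne _ hηi))] at this
        simpa using this
      · simpa using (hloc i).inner_one _ hcηi
      · have := (hloc i).ortho _ hcηi _ hηi
        rw [if_neg ((hloc i).conj_ne _ hηi)] at this
        simpa using this
      · simpa using (hloc i).ortho _ hcηi _ hcηi)
    (by
      intro p j hj
      have hji : j ≠ i := Finset.ne_of_mem_erase hj
      rw [classInner_sum_right]
      apply Finset.sum_eq_zero
      intro f hf
      fin_cases p
      · simpa using h1F j f hf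
      · simpa using ortho_FF hloc hdisj hji.symm hηi hf
      · simpa using ortho_FF hloc hdisj hji.symm hcηi hf)
    (by
      intro j hj j' hj'
      by_cases hjj : j = j'
      · subst hjj
        rw [if_pos rfl, norm_sum_orthonormal (F j) (fun α hα β hβ => by
          rw [(hloc j).ortho α hα β hβ]), (hloc j).card_F]
      · rw [if_neg hjj, classInner_sum_left]
        apply Finset.sum_eq_zero
        intro f hf
        rw [classInner_sum_right]
        apply Finset.sum_eq_zero
        intro f' hf'
        exact ortho_FF hloc hdisj hjj hf hf')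
    (β i) ![1, u - 1, u] (fun j => (a j : ℤ) * mm η β j i)
    (by
      intro p
      fin_cases p
      · simpa using (hloc i).β_one
      · simp only [Fin.mk_one, Matrix.cons_val_one, Matrix.cons_val_zero]
        rw [hu2]; push_cast; ring
      · simpa using hu1)
    (by
      intro j hj
      have hji : j ≠ i := Finset.ne_of_mem_erase hj
      rw [classInner_sum_right, Finset.sum_congr rfl fun f hf => inner_beta_F hloc hdisj hji hf,
        Finset.sum_const, (hloc j).card_F]
      push_cast
      simp only [nsmul_eq_mul])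
    (B := (e i : ℝ) + 1) (by rw [(hloc i).inner_beta_beta]; push_cast; ring)
  rw [Fin.sum_univ_three] at key
  simp only [Matrix.cons_val_zero, Matrix.cons_val_one] at key
  have h2 : ∀ j ∈ Finset.univ.erase i,
      (((a j : ℤ) * mm η β j i : ℤ) : ℝ) ^ 2 / (a j : ℝ) = (a j : ℝ) * (mm η β j i : ℝ) ^ 2 := by
    intro j _
    have : (a j : ℝ) ≠ 0 := by
      have := (hloc j).a_ge
      have : 0 < a j := by omega
      positivity
    push_cast
    field_simp
  rw [Finset.sum_congr rfl h2] at key
  have h3 : (1 : ℝ) ≤ ((u - 1 : ℤ) : ℝ) ^ 2 + ((![1, u - 1, u] : Fin 3 → ℤ) 2 : ℝ) ^ 2 := by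
    have : ((![1, u - 1, u] : Fin 3 → ℤ) 2) = u := rfl
    rw [this]
    have hu' : (u : ℝ) ≤ 0 ∨ (1 : ℝ) ≤ u := by
      rcases le_or_gt u 0 with hh | hh
      · left; exact_mod_cast hh
      · right; exact_mod_cast hh
    push_cast
    rcases hu' with hh | hh <;> nlinarith
  push_cast at key h3 ⊢
  linarith

/-- Inequality (B): the norm of `η i` is at least the sum of its local norms. -/
theorem boundB (hloc : ∀ i, LocalData (H i) (e i) (a i) (F i) (η i) (β i))
    (hdisj : ∀ i j, i ≠ j → Disjoint (SS (H i)) (SS (H j))) (i : ι) :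
    1 / (Nat.card G : ℝ) + ∑ j ∈ Finset.univ.erase i,
      (a j : ℝ) * (mm η β i j : ℝ) ^ 2 / ((a j : ℝ) * e j + 1) ≤
      (e i : ℝ) / ((a i : ℝ) * e i + 1) := by
  classical
  have hηi := (hloc i).eta_mem
  have hnorm : classInner (η i) (η i) = 1 := by rw [(hloc i).ortho _ hηi _ hηi, if_pos rfl]
  have hsum := sum_locN_le (fun j => SS (H j)) hdisj (fun j => one_notMem_SS (H j)) (η i)
  rw [hnorm, Complex.one_re] at hsum
  -- the value at one
  have hval : (1 : ℝ) ≤ Complex.normSq (η i 1) := by
    obtain ⟨k, hk⟩ := isGenChar_apply_one ((hloc i).genF _ hηi)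
    have hk0 : k ≠ 0 := by
      intro h0
      apply genChar_norm_one_apply_one_ne_zero ((hloc i).genF _ hηi) hnorm
      rw [hk, h0]; simp
    rw [hk]
    have : Complex.normSq ((k : ℤ) : ℂ) = (k : ℝ) ^ 2 := by
      have : ((k : ℤ) : ℂ) = ((k : ℝ) : ℂ) := by push_cast; rfl
      rw [this, Complex.normSq_ofReal]; ring
    rw [this]
    have h1 : (1 : ℤ) ≤ k ^ 2 := by
      have := sq_nonneg k
      have h5 : k ^ 2 ≠ 0 := pow_ne_zero 2 hk0
      omega
    exact_mod_cast h1
  have hg : (0 : ℝ) < (Nat.card G : ℝ) := by exact_mod_cast Nat.card_pos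
  have hval' : 1 / (Nat.card G : ℝ) ≤ Complex.normSq (η i 1) / (Nat.card G : ℝ) :=
    div_le_div_of_nonneg_right hval hg.le
  rw [← Finset.add_sum_erase Finset.univ _ (Finset.mem_univ i)] at hsum
  have hown := (hloc i).own_bound
  have hother : ∀ j ∈ Finset.univ.erase i,
      (a j : ℝ) * (mm η β i j : ℝ) ^ 2 / ((a j : ℝ) * e j + 1) ≤ locN (SS (H j)) (η i) := by
    intro j hj
    have hji : j ≠ i := Finset.ne_of_mem_erase hj
    apply (hloc j).other_bound (η i) (mm η β i j)
    intro f hf
    rw [classInner_sub_right, classInner_add_right, classInner_int_symm (mm_spec hloc i j),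
      ortho_FF hloc hdisj hji.symm hηi (hloc j).eta_mem, ortho_FF hloc hdisj hji.symm hηi hf]
    ring
  have := Finset.sum_le_sum hother
  linarith

end Global

end Cfsg.Agent.Lib.Helper4.FrobTI
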