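import Mathlib

set_option autoImplicit false
set_option linter.unusedSectionVars false
set_option maxHeartbeats 1600000

/-!
# The arithmetic contradiction
-/

namespace Cfsg.Agent.Lib.Helper4.FrobTI

section Arith

variable {ι : Type*} [Fintype ι] [DecidableEq ι]

theorem arith_core (e a h : ι → ℕ) (g : ℕ) (m : ι → ι → ℤ) (i : ι) (M : ℕ)
    (hg : 0 < g) (he : ∀ j, 1 ≤ e j) (ha : ∀ j, 1 ≤ a j) (hh : ∀ j, 0 < h j)
    (hM0 : 0 < M) (hM : ∀ j, j ≠ i → M ≤ a j * e j)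
    (hcount : ∑ j, ((h j : ℝ) - 1) / ((e j : ℝ) * h j) = 1 - 1 / (g : ℝ))
    (hpar : ∀ j, j ≠ i → m j i = 0 → m i j ≠ 0)
    (hA : (1 : ℝ) + ∑ j ∈ Finset.univ.erase i, (a j : ℝ) * (m j i : ℝ) ^ 2 ≤ e i)
    (hB : 1 / (g : ℝ) + ∑ j ∈ Finset.univ.erase i,
      (a j : ℝ) * (m i j : ℝ) ^ 2 / ((a j : ℝ) * e j + 1) ≤ (e i : ℝ) / ((a i : ℝ) * e i + 1)) :
    1 < ((h i : ℝ) - 1) / ((e i : ℝ) * h i) + ((e i : ℝ) - 1) / M +
      (1 + 1 / (M : ℝ)) * ((e i : ℝ) / ((a i : ℝ) * e i + 1)) := by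
  have hgR : (0 : ℝ) < g := by exact_mod_cast hg
  have hMR : (0 : ℝ) < M := by exact_mod_cast hM0
  rw [← Finset.add_sum_erase Finset.univ _ (Finset.mem_univ i)] at hcount
  have key : ∀ j ∈ Finset.univ.erase i, ((h j : ℝ) - 1) / ((e j : ℝ) * h j) ≤
      (1 / (M : ℝ)) * ((a j : ℝ) * (m j i : ℝ) ^ 2) +
      (1 + 1 / (M : ℝ)) * ((a j : ℝ) * (m i j : ℝ) ^ 2 / ((a j : ℝ) * e j + 1)) := by
    intro j hj
    have hji : j ≠ i := Finset.ne_of_mem_erase hj
    have heR : (1 : ℝ) ≤ e j := by exact_mod_cast he j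
    have haR : (1 : ℝ) ≤ a j := by exact_mod_cast ha j
    have hhR : (0 : ℝ) < h j := by exact_mod_cast hh j
    have hMj : (M : ℝ) ≤ (a j : ℝ) * e j := by exact_mod_cast hM j hji
    have he0 : (0 : ℝ) < e j := by linarith
    have ha0 : (0 : ℝ) < a j := by linarith
    have hq0 : (0 : ℝ) < (a j : ℝ) * e j + 1 := by positivity
    -- t_j ≤ 1 / e_j
    have h1 : ((h j : ℝ) - 1) / ((e j : ℝ) * h j) ≤ 1 / (e j : ℝ) := by
      rw [div_le_div_iff₀ (by positivity) he0]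
      nlinarith
    have hnn1 : (0 : ℝ) ≤ (1 / (M : ℝ)) * ((a j : ℝ) * (m j i : ℝ) ^ 2) := by positivity
    have hnn2 : (0 : ℝ) ≤ (1 + 1 / (M : ℝ)) *
        ((a j : ℝ) * (m i j : ℝ) ^ 2 / ((a j : ℝ) * e j + 1)) := by positivity
    by_cases hm : m j i = 0
    · have hm' := hpar j hji hm
      have hsq : (1 : ℝ) ≤ (m i j : ℝ) ^ 2 := by
        have : (1 : ℤ) ≤ (m i j) ^ 2 := by
          have := sq_nonneg (m i j)
          have h5 : (m i j) ^ 2 ≠ 0 := pow_ne_zero 2 hm'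
          omega
        exact_mod_cast this
      have h2 : 1 / (e j : ℝ) ≤ (1 + 1 / (M : ℝ)) *
          ((a j : ℝ) * (m i j : ℝ) ^ 2 / ((a j : ℝ) * e j + 1)) := by
        have h3 : 1 + 1 / ((a j : ℝ) * e j) ≤ 1 + 1 / (M : ℝ) := by
          have : 1 / ((a j : ℝ) * e j) ≤ 1 / (M : ℝ) := one_div_le_one_div_of_le hMR hMj
          linarith
        have h4 : (a j : ℝ) / ((a j : ℝ) * e j + 1) ≤
            (a j : ℝ) * (m i j : ℝ) ^ 2 / ((a j : ℝ) * e j + 1) := by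
          apply div_le_div_of_nonneg_right _ hq0.le
          nlinarith
        have h5 : 1 / (e j : ℝ) = (1 + 1 / ((a j : ℝ) * e j)) *
            ((a j : ℝ) / ((a j : ℝ) * e j + 1)) := by
          field_simp
        rw [h5]
        apply mul_le_mul h3 h4 (by positivity) (by positivity)
      linarith
    · have hsq : (1 : ℝ) ≤ (m j i : ℝ) ^ 2 := by
        have : (1 : ℤ) ≤ (m j i) ^ 2 := by
          have := sq_nonneg (m j i)
          have h5 : (m j i) ^ 2 ≠ 0 := pow_ne_zero 2 hm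
          omega
        exact_mod_cast this
      have h2 : 1 / (e j : ℝ) ≤ (1 / (M : ℝ)) * ((a j : ℝ) * (m j i : ℝ) ^ 2) := by
        have h3 : 1 / (e j : ℝ) ≤ (a j : ℝ) / (M : ℝ) := by
          rw [div_le_div_iff₀ he0 hMR]
          linarith
        have h4 : (a j : ℝ) / (M : ℝ) ≤ (1 / (M : ℝ)) * ((a j : ℝ) * (m j i : ℝ) ^ 2) := by
          rw [one_div, inv_mul_eq_div]
          apply div_le_div_of_nonneg_right _ hMR.le
          nlinarith
        linarith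
      linarith
  have hsum := Finset.sum_le_sum key
  rw [Finset.sum_add_distrib, ← Finset.mul_sum, ← Finset.mul_sum] at hsum
  have hA' : ∑ j ∈ Finset.univ.erase i, (a j : ℝ) * (m j i : ℝ) ^ 2 ≤ (e i : ℝ) - 1 := by linarith
  have hB' : ∑ j ∈ Finset.univ.erase i,
      (a j : ℝ) * (m i j : ℝ) ^ 2 / ((a j : ℝ) * e j + 1) ≤
      (e i : ℝ) / ((a i : ℝ) * e i + 1) - 1 / (g : ℝ) := by linarith
  have hM1 : (0 : ℝ) ≤ 1 / (M : ℝ) := by positivity
  have hM2 : (0 : ℝ) ≤ 1 + 1 / (M : ℝ) := by positivity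
  have h6 := mul_le_mul_of_nonneg_left hA' hM1
  have h7 := mul_le_mul_of_nonneg_left hB' hM2
  have h8 : (0 : ℝ) < 1 / (M : ℝ) * (1 / (g : ℝ)) := by positivity
  have h9 : 1 / (M : ℝ) * ((e i : ℝ) - 1) = ((e i : ℝ) - 1) / M := by ring
  rw [h9] at h6
  nlinarith

theorem arith_main [Nonempty ι] (e a h : ι → ℕ) (g : ℕ) (m : ι → ι → ℤ)
    (hg : 0 < g) (he_odd : ∀ j, Odd (e j)) (he3 : ∀ j, 3 ≤ e j) (ha_even : ∀ j, Even (a j))
    (ha2 : ∀ j, 2 ≤ a j) (hh : ∀ j, 0 < h j)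
    (hne : ∀ i j, i ≠ j → a i * e i ≠ a j * e j)
    (hspecial : ∀ j, a j = 2 → e j = 3 → h j = 7)
    (hcount : ∑ j, ((h j : ℝ) - 1) / ((e j : ℝ) * h j) = 1 - 1 / (g : ℝ))
    (hpar : ∀ i j, j ≠ i → m j i = 0 → m i j ≠ 0)
    (hA : ∀ i, (1 : ℝ) + ∑ j ∈ Finset.univ.erase i, (a j : ℝ) * (m j i : ℝ) ^ 2 ≤ e i)
    (hB : ∀ i, 1 / (g : ℝ) + ∑ j ∈ Finset.univ.erase i,
      (a j : ℝ) * (m i j : ℝ) ^ 2 / ((a j : ℝ) * e j + 1) ≤
      (e i : ℝ) / ((a i : ℝ) * e i + 1)) : False := by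
  obtain ⟨i, -, hi⟩ := Finset.exists_min_image Finset.univ e Finset.univ_nonempty
  have hmin : ∀ j, e i ≤ e j := fun j => hi j (Finset.mem_univ j)
  have he1 : ∀ j, 1 ≤ e j := fun j => le_trans (by norm_num) (he3 j)
  have ha1 : ∀ j, 1 ≤ a j := fun j => le_trans (by norm_num) (ha2 j)
  have hE3 : (3 : ℝ) ≤ e i := by exact_mod_cast he3 i
  have hE0 : (0 : ℝ) < e i := by linarith
  have hhR : (0 : ℝ) < h i := by exact_mod_cast hh i
  have hti : ((h i : ℝ) - 1) / ((e i : ℝ) * h i) ≤ 1 / (e i : ℝ) := by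
    rw [div_le_div_iff₀ (by positivity) hE0]
    nlinarith
  by_cases hai : a i = 2
  · -- the case `a i = 2`
    have hM : ∀ j, j ≠ i → 2 * e i + 4 ≤ a j * e j := by
      intro j hji
      have h1 := hne i j hji.symm
      rw [hai] at h1
      obtain ⟨k, hk⟩ := ha_even j
      have h2 := ha2 j
      have h3 := hmin j
      have h4 := he3 i
      by_cases hk1 : k = 1
      · have haj : a j = 2 := by omega
        rw [haj] at h1 ⊢
        obtain ⟨x, hx⟩ := he_odd i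
        obtain ⟨y, hy⟩ := he_odd j
        omega
      · have hk2 : 2 ≤ k := by omega
        have : 4 ≤ a j := by omega
        calc 2 * e i + 4 ≤ 4 * e i := by omega
          _ ≤ a j * e j := Nat.mul_le_mul this h3
    have hcore := arith_core e a h g m i (2 * e i + 4) hg he1 ha1 hh (by omega) hM hcount
      (hpar i) (hA i) (hB i)
    rw [hai] at hcore
    push_cast at hcore
    by_cases hhi : h i = 2 * e i + 1
    · rw [hhi] at hcore
      push_cast at hcore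
      have hid : 1 - ((2 * (e i : ℝ) + 1 - 1) / ((e i : ℝ) * (2 * (e i : ℝ) + 1)) +
          ((e i : ℝ) - 1) / (2 * (e i : ℝ) + 4) +
          (1 + 1 / (2 * (e i : ℝ) + 4)) * ((e i : ℝ) / (2 * (e i : ℝ) + 1))) =
          (2 * (e i : ℝ) - 3) / ((2 * (e i : ℝ) + 4) * (2 * (e i : ℝ) + 1)) := by
        field_simp
        ring
      have hpos : (0 : ℝ) ≤ (2 * (e i : ℝ) - 3) / ((2 * (e i : ℝ) + 4) * (2 * (e i : ℝ) + 1)) := by
        apply div_nonneg
        · linarith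
        · positivity
      linarith
    · have hE5 : (5 : ℝ) ≤ e i := by
        have : 5 ≤ e i := by
          have h3 := he3 i
          obtain ⟨x, hx⟩ := he_odd i
          have hne3 : e i ≠ 3 := by
            intro h3'
            apply hhi
            rw [hspecial i hai h3', h3']
          omega
        exact_mod_cast this
      have hid : 1 - (1 / (e i : ℝ) +
          ((e i : ℝ) - 1) / (2 * (e i : ℝ) + 4) +
          (1 + 1 / (2 * (e i : ℝ) + 4)) * ((e i : ℝ) / (2 * (e i : ℝ) + 1))) =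
          (2 * (e i : ℝ) ^ 2 - 5 * (e i : ℝ) - 4) /
            ((e i : ℝ) * (2 * (e i : ℝ) + 4) * (2 * (e i : ℝ) + 1)) := by
        field_simp
        ring
      have hpos : (0 : ℝ) ≤ (2 * (e i : ℝ) ^ 2 - 5 * (e i : ℝ) - 4) /
            ((e i : ℝ) * (2 * (e i : ℝ) + 4) * (2 * (e i : ℝ) + 1)) := by
        apply div_nonneg
        · nlinarith
        · positivity
      linarith
  · -- the case `4 ≤ a i`
    have ha4 : 4 ≤ a i := by
      obtain ⟨k, hk⟩ := ha_even i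
      have := ha2 i
      omega
    have hM : ∀ j, j ≠ i → 2 * e i ≤ a j * e j := fun j _ => Nat.mul_le_mul (ha2 j) (hmin j)
    have hcore := arith_core e a h g m i (2 * e i) hg he1 ha1 hh (by have := he3 i; omega) hM
      hcount (hpar i) (hA i) (hB i)
    push_cast at hcore
    have ha4R : (4 : ℝ) ≤ a i := by exact_mod_cast ha4
    have hq : (e i : ℝ) / ((a i : ℝ) * e i + 1) ≤ (e i : ℝ) / (4 * (e i : ℝ) + 1) := by
      apply div_le_div_of_nonneg_left hE0.le (by positivity)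
      nlinarith
    have hc2 : (0 : ℝ) ≤ 1 + 1 / (2 * (e i : ℝ)) := by positivity
    have hq' := mul_le_mul_of_nonneg_left hq hc2
    have hid : 1 - (1 / (e i : ℝ) + ((e i : ℝ) - 1) / (2 * (e i : ℝ)) +
        (1 + 1 / (2 * (e i : ℝ))) * ((e i : ℝ) / (4 * (e i : ℝ) + 1))) =
        (2 * (e i : ℝ) ^ 2 - 4 * (e i : ℝ) - 1) / (2 * (e i : ℝ) * (4 * (e i : ℝ) + 1)) := by
      field_simp
      ring
    have hpos : (0 : ℝ) ≤ (2 * (e i : ℝ) ^ 2 - 4 * (e i : ℝ) - 1) /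
        (2 * (e i : ℝ) * (4 * (e i : ℝ) + 1)) := by
      apply div_nonneg
      · nlinarith
      · positivity
    linarith

end Arith

end Cfsg.Agent.Lib.Helper4.FrobTI
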