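import Mathlib
import Cfsg.Agent.Lib.Helper4.CNMax6
import Cfsg.Agent.S1526

set_option autoImplicit false
set_option maxHeartbeats 800000

/-! The final contradiction for CN-groups of odd order. -/

namespace Cfsg.Agent.Lib.Helper4.CNMax

open Cfsg Cfsg.Agent.Lib.Lead Cfsg.Agent.Lib.Helper7

universe u

variable {G : Type u} [Group G] [Finite G]

theorem no_minSimple_CN (hG : IsMinSimpleOddOrder G) (hCN : IsCNGroup G) : False := by
  classical
  let 𝒯 := {H : Subgroup G // MaxNilp H}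
  let s : Setoid 𝒯 :=
    { r := fun A B => ∃ g : G, B.1 = cj g A.1
      iseqv := ⟨fun A => ⟨1, (cj_one A.1).symm⟩,
        fun {A B} ⟨g, hg⟩ => ⟨g⁻¹, by rw [hg, cj_inv_cj]⟩,
        fun {A B C} ⟨g, hg⟩ ⟨k, hk⟩ => ⟨k * g, by rw [hk, hg, cj_mul]⟩⟩ }
  haveI : Finite 𝒯 := Subtype.finite
  haveI : Fintype (Quotient s) := Fintype.ofFinite _
  let Hf : Quotient s → Subgroup G := fun i => (Quotient.out i).1
  have hHf : ∀ i, MaxNilp (Hf i) := fun i => (Quotient.out i).2
  have hconj : ∀ M : Subgroup G, MaxNilp M → ∃ i, ∃ y : G, M = cj y (Hf i) := by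
    intro M hM
    refine ⟨⟦⟨M, hM⟩⟧, ?_⟩
    have h1 : (Quotient.out (⟦⟨M, hM⟩⟧ : Quotient s)) ≈ ⟨M, hM⟩ := Quotient.mk_out _
    obtain ⟨y, hy⟩ := h1
    exact ⟨y, hy⟩
  have hnc : ∀ i j, (∃ g, Hf j = cj g (Hf i)) → i = j := by
    intro i j h
    have h1 : (Quotient.out i) ≈ (Quotient.out j) := h
    have h2 := Quotient.sound h1
    rwa [Quotient.out_eq, Quotient.out_eq] at h2
  have hsimple := hG.2.1
  have hnil_zp : ∀ g : G, Group.IsNilpotent (Subgroup.zpowers g) := by
    intro g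
    letI : CommGroup ↥(Subgroup.zpowers g) := IsCyclic.commGroup
    exact CommGroup.isNilpotent
  have hιne : Nonempty (Quotient s) := by
    obtain ⟨M, -, hM⟩ := exists_maxNilp_ge (hnil_zp (1 : G))
    exact ⟨⟦⟨M, hM⟩⟧⟩
  have hι : 2 ≤ Fintype.card (Quotient s) := by
    by_contra hlt
    have hle : Fintype.card (Quotient s) ≤ 1 := by omega
    have hss : Subsingleton (Quotient s) := Fintype.card_le_one_iff_subsingleton.mp hle
    obtain ⟨i₀⟩ := hιne
    have hcop := (hHf i₀).coprime_index hCN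
    have hne_top : Hf i₀ ≠ ⊤ := by
      intro h0
      apply MaxNilp.normalizer_ne_top hG hCN (hHf i₀)
      rw [h0]
      exact Subgroup.normalizer_eq_top (⊤ : Subgroup G)
    have hidx : (Hf i₀).index ≠ 1 := fun h => hne_top (Subgroup.index_eq_one.mp h)
    obtain ⟨p, hp, hpi⟩ := Nat.exists_prime_and_dvd hidx
    have : Fact p.Prime := ⟨hp⟩
    obtain ⟨P⟩ : Nonempty (Sylow p G) := inferInstance
    have hpG : p ∣ Nat.card G := hpi.trans (Subgroup.index_dvd_card _)
    have hpP : p ∣ Nat.card (P : Subgroup G) := P.dvd_card_of_dvd_card hpG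
    obtain ⟨M, hPM, hM⟩ := exists_maxNilp_ge (P.isPGroup'.isNilpotent)
    obtain ⟨j, y, hy⟩ := hconj M hM
    have hj : j = i₀ := Subsingleton.elim _ _
    rw [hj] at hy
    have hcard : Nat.card M = Nat.card (Hf i₀) := by
      rw [hy]
      exact Subgroup.card_map_of_injective (MulAut.conj y).injective
    have hpH : p ∣ Nat.card (Hf i₀) := by
      rw [← hcard]
      exact hpP.trans (Subgroup.card_dvd_of_le hPM)
    have := Nat.dvd_gcd hpH hpi
    rw [hcop] at this
    exact hp.one_lt.ne' (Nat.dvd_one.mp this)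
  apply Cfsg.Agent.S1526.result hG.1 hι (fun i => Subgroup.normalizer (Hf i : Set G)) Hf
  · intro i
    obtain ⟨E, hF⟩ := MaxNilp.frobIn hG hCN (hHf i)
    refine lt_of_le_of_ne Subgroup.le_normalizer ?_
    intro h0
    apply hF.E_ne
    rw [eq_bot_iff, ← hF.disj]
    refine le_inf ?_ le_rfl
    have := hF.E_le
    rw [← h0] at this
    exact this
  · intro i
    exact MaxNilp.ne_bot hG (hHf i)
  · intro i x hx h hh
    exact ((Subgroup.mem_normalizer_iff.mp hx) h).mp hh
  · intro i h hh h1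
    exact inf_le_right.trans
      (MaxNilp.centralizer_le_of_ti hCN (hHf i) (MaxNilp.ti' hG hCN (hHf i)) h hh h1)
  · intro i j hij
    exact (maxNilp_conj_or_coprime hCN (hHf i) (hHf j)).resolve_left (fun h => hij (hnc i j h))
  · intro i
    refine ⟨?_, rfl⟩
    intro g hg x hx hgx
    have hne : cj g (Hf i) ≠ Hf i := fun h => hg (mem_normalizer_iff_cj.mpr h)
    have hti := MaxNilp.ti' hG hCN (hHf i) g hne
    have hmem : g * x * g⁻¹ ∈ Hf i ⊓ cj g (Hf i) := by
      refine Subgroup.mem_inf.mpr ⟨hgx, ?_⟩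
      rw [mem_cj]
      have : g⁻¹ * (g * x * g⁻¹) * g = x := by group
      rw [this]; exact hx
    rw [hti, Subgroup.mem_bot] at hmem
    have : x = g⁻¹ * (g * x * g⁻¹) * g := by group
    rw [this, hmem]; group
  · intro g hg1
    obtain ⟨M, hgM, hM⟩ := exists_maxNilp_ge (hnil_zp g)
    obtain ⟨i, y, hy⟩ := hconj M hM
    refine ⟨i, y⁻¹, ?_⟩
    have hgM' : g ∈ M := hgM (Subgroup.mem_zpowers g)
    rw [hy, mem_cj] at hgM'
    rw [inv_inv]; exact hgM'

end Cfsg.Agent.Lib.Helper4.CNMax
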