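import Mathlib

set_option autoImplicit false
set_option linter.unusedSectionVars false
set_option linter.unusedVariables false

/-! Signed triples: the combinatorics behind the isometry attached to a cyclic subgroup whose
off-diagonal part is a trivial intersection set. -/

namespace Cfsg.Agent.Lib.Helper4.CTI

variable {E : Type*} [DecidableEq E] [InvolutiveNeg E]

/-- the sign change has no fixed point -/
class FixFree (E : Type*) [InvolutiveNeg E] : Prop where
  neg_ne : ∀ x : E, -x ≠ x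

/-- a signed triple -/
def Tri (S : Finset E) : Prop := S.card = 3 ∧ ∀ x ∈ S, -x ∉ S

/-- exactly one common element and no opposite pair -/
def Lin (S B : Finset E) : Prop :=
  (∃ e, e ∈ S ∧ e ∈ B ∧ ∀ x ∈ S, x ∈ B → x = e) ∧ ∀ x ∈ S, -x ∉ B

/-- orthogonal: no overlap, or exactly one common element and exactly one opposite pair -/
def Off (S B : Finset E) : Prop :=
  (∀ x ∈ S, x ∈ B → ∃ y ∈ S, -y ∈ B) ∧ (∀ y ∈ S, -y ∈ B → ∃ x ∈ S, x ∈ B) ∧
  (∀ x ∈ S, ∀ x' ∈ S, x ∈ B → x' ∈ B → x = x') ∧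
  (∀ y ∈ S, ∀ y' ∈ S, -y ∈ B → -y' ∈ B → y = y')

/-- different up to sign -/
def AbsNe (u v : E) : Prop := u ≠ v ∧ u ≠ -v

theorem AbsNe.symm {u v : E} (h : AbsNe u v) : AbsNe v u :=
  ⟨h.1.symm, fun h' => h.2 (by rw [h', neg_neg])⟩

theorem AbsNe.neg_left {u v : E} (h : AbsNe u v) : AbsNe (-u) v :=
  ⟨fun h' => h.2 (by rw [← h', neg_neg]), fun h' => h.1 (neg_injective h')⟩

theorem AbsNe.neg_right {u v : E} (h : AbsNe u v) : AbsNe u (-v) :=
  ⟨h.2, by rw [neg_neg]; exact h.1⟩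

theorem mem3 {a b c x : E} : x ∈ ({a, b, c} : Finset E) ↔ x = a ∨ x = b ∨ x = c := by
  simp

theorem Lin.symm {S B : Finset E} (h : Lin S B) : Lin B S := by
  obtain ⟨⟨e, he1, he2, he3⟩, h2⟩ := h
  refine ⟨⟨e, he2, he1, fun x hx hx' => he3 x hx' hx⟩, ?_⟩
  intro x hx hx'
  have := h2 (-x) hx'
  rw [neg_neg] at this
  exact this hx

theorem Off.symm {S B : Finset E} (h : Off S B) : Off B S := by
  obtain ⟨h1, h2, h3, h4⟩ := h
  refine ⟨?_, ?_, ?_, ?_⟩
  · intro x hx hx'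
    obtain ⟨y, hy, hy'⟩ := h1 x hx' hx
    exact ⟨-y, hy', by rwa [neg_neg]⟩
  · intro y hy hy'
    obtain ⟨x, hx, hx'⟩ := h2 (-y) hy' (by rwa [neg_neg])
    exact ⟨x, hx', hx⟩
  · intro x hx x' hx' h5 h6
    exact h3 x h5 x' h6 hx hx'
  · intro y hy y' hy' h5 h6
    have := h4 (-y) h5 (-y') h6 (by rwa [neg_neg]) (by rwa [neg_neg])
    exact neg_injective this

theorem Tri.neg_notMem {S : Finset E} (h : Tri S) {x : E} (hx : x ∈ S) : -x ∉ S := h.2 x hx

theorem Tri.notMem_of_neg {S : Finset E} (h : Tri S) {x : E} (hx : -x ∈ S) : x ∉ S :=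
  fun h' => h.2 x h' hx

theorem Tri.eq_of_three {S : Finset E} (h : Tri S) {a b c : E} (ha : a ∈ S) (hb : b ∈ S)
    (hc : c ∈ S) (hab : a ≠ b) (hac : a ≠ c) (hbc : b ≠ c) : S = {a, b, c} := by
  symm
  apply Finset.eq_of_subset_of_card_le
  · intro x hx
    rcases mem3.mp hx with rfl | rfl | rfl <;> assumption
  · rw [h.1, Finset.card_insert_of_notMem, Finset.card_insert_of_notMem, Finset.card_singleton]
    · simpa using hbc
    · simp [hab, hac]

theorem Tri.four {S : Finset E} (h : Tri S) {a b c d : E} (ha : a ∈ S) (hb : b ∈ S) (hc : c ∈ S)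
    (hd : d ∈ S) (hab : a ≠ b) (hac : a ≠ c) (had : a ≠ d) (hbc : b ≠ c) (hbd : b ≠ d)
    (hcd : c ≠ d) : False := by
  have h1 := h.eq_of_three ha hb hc hab hac hbc
  rw [h1] at hd
  rcases mem3.mp hd with rfl | rfl | rfl
  · exact had rfl
  · exact hbd rfl
  · exact hcd rfl

theorem Tri.exists_third {S : Finset E} (h : Tri S) {a b : E} (ha : a ∈ S) (hb : b ∈ S)
    (hab : a ≠ b) : ∃ c, c ∈ S ∧ c ≠ a ∧ c ≠ b ∧ S = {a, b, c} := by
  obtain ⟨x, y, z, hxy, hxz, hyz, hS⟩ := Finset.card_eq_three.mp h.1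
  have hmem : ∀ u, u ∈ S ↔ u = x ∨ u = y ∨ u = z := fun u => by rw [hS]; exact mem3
  have hex : ∃ c, c ∈ S ∧ c ≠ a ∧ c ≠ b := by
    by_contra hne
    push Not at hne
    have hx := hne x ((hmem x).2 (Or.inl rfl))
    have hy := hne y ((hmem y).2 (Or.inr (Or.inl rfl)))
    have hz := hne z ((hmem z).2 (Or.inr (Or.inr rfl)))
    by_cases h1 : x = a
    · have h2 : y = b := by
        by_contra h2
        exact h2 (hy (fun h3 => hxy (h1.trans h3.symm)))
      have h3 : z = b := by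
        by_contra h3
        exact h3 (hz (fun h4 => hxz (h1.trans h4.symm)))
      exact hyz (h2.trans h3.symm)
    · have h2 : x = b := hx h1
      have h3 : y = a := by
        by_contra h3
        exact hxy (h2.trans (hy h3).symm)
      have h4 : z = a := by
        by_contra h4
        exact hxz (h2.trans (hz h4).symm)
      exact hyz (h3.trans h4.symm)
  obtain ⟨c, hc, hca, hcb⟩ := hex
  exact ⟨c, hc, hca, hcb, h.eq_of_three ha hb hc hab (Ne.symm hca) (Ne.symm hcb)⟩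

theorem Tri.exists_two {S : Finset E} (h : Tri S) {a : E} (ha : a ∈ S) :
    ∃ b c, b ∈ S ∧ c ∈ S ∧ a ≠ b ∧ a ≠ c ∧ b ≠ c ∧ S = {a, b, c} := by
  have hex : ∃ b, b ∈ S ∧ b ≠ a := by
    by_contra hne
    push Not at hne
    have : S ⊆ {a} := fun x hx => by rw [Finset.mem_singleton]; exact hne x hx
    have := Finset.card_le_card this
    rw [h.1, Finset.card_singleton] at this
    omega
  obtain ⟨b, hb, hba⟩ := hex
  obtain ⟨c, hc, hca, hcb, hS⟩ := h.exists_third ha hb (Ne.symm hba)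
  exact ⟨b, c, hb, hc, Ne.symm hba, Ne.symm hca, Ne.symm hcb, hS⟩

variable [FixFree E]

theorem neg_ne' (x : E) : -x ≠ x := FixFree.neg_ne x

theorem ne_neg' (x : E) : x ≠ -x := fun h => FixFree.neg_ne x h.symm

/-- elements of a signed triple differ up to sign -/
theorem Tri.absNe {S : Finset E} (h : Tri S) {a b : E} (ha : a ∈ S) (hb : b ∈ S) (hab : a ≠ b) :
    AbsNe a b :=
  ⟨hab, fun h' => h.neg_notMem hb (h' ▸ ha)⟩

/-- for two sets on a line, elements other than the common one differ up to sign -/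
theorem Lin.absNe {S B : Finset E} (h : Lin S B) {u v : E} (hu : u ∈ S) (hv : v ∈ B)
    (huB : u ∉ B) : AbsNe u v :=
  ⟨fun h' => huB (h' ▸ hv), fun h' => h.2 u hu (by rw [h', neg_neg]; exact hv)⟩

theorem Lin.absNe' {S B : Finset E} (h : Lin S B) {u v : E} (hu : u ∈ S) (hv : v ∈ B)
    (hvS : v ∉ S) : AbsNe u v :=
  (h.symm.absNe hv hu hvS).symm

end Cfsg.Agent.Lib.Helper4.CTI
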