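import Mathlib
import Cfsg.Agent.Lib.Helper4.CTIa

set_option autoImplicit false
set_option linter.unusedSectionVars false
set_option linter.unusedVariables false

/-! Indicator calculus for signed triples: membership facts become linear arithmetic. -/

namespace Cfsg.Agent.Lib.Helper4.CTI

variable {E : Type*} [DecidableEq E] [InvolutiveNeg E]

/-- membership indicator -/
def ind (S : Finset E) (e : E) : ℕ := if e ∈ S then 1 else 0

theorem ind_le_one (S : Finset E) (e : E) : ind S e ≤ 1 := by
  unfold ind; split_ifs <;> omega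

theorem ind_eq_one_iff {S : Finset E} {e : E} : ind S e = 1 ↔ e ∈ S := by
  unfold ind; split_ifs with h <;> simp [h]

theorem ind_eq_zero_iff {S : Finset E} {e : E} : ind S e = 0 ↔ e ∉ S := by
  unfold ind; split_ifs with h <;> simp [h]

theorem ind_of_mem {S : Finset E} {e : E} (h : e ∈ S) : ind S e = 1 := ind_eq_one_iff.2 h

theorem ind_of_notMem {S : Finset E} {e : E} (h : e ∉ S) : ind S e = 0 := ind_eq_zero_iff.2 h

theorem mem_of_ind {S : Finset E} {e : E} (h : ind S e = 1) : e ∈ S := ind_eq_one_iff.1 h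

/-- a predicate holds along a list -/
def AllL (p : E → Prop) : List E → Prop
  | [] => True
  | e :: l => p e ∧ AllL p l

/-- sum along a list -/
def sumL (f : E → ℕ) : List E → ℕ
  | [] => 0
  | e :: l => f e + sumL f l

/-- pairwise different up to sign -/
def PW : List E → Prop
  | [] => True
  | e :: l => AllL (AbsNe e) l ∧ PW l

theorem AllL_iff {p : E → Prop} {L : List E} : AllL p L ↔ ∀ e ∈ L, p e := by
  induction L with
  | nil => simp [AllL]
  | cons a l ih => simp [AllL, ih]

theorem sumL_congr {f g : E → ℕ} {L : List E} (h : AllL (fun e => f e = g e) L) :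
    sumL f L = sumL g L := by
  induction L with
  | nil => rfl
  | cons a l ih =>
    obtain ⟨h1, h2⟩ := h
    simp only [sumL]
    rw [h1, ih h2]

theorem Tri.bnd {T : Finset E} (tT : Tri T) (L : List E) :
    AllL (fun e => ind T e + ind T (-e) ≤ 1) L := by
  rw [AllL_iff]
  intro e _
  by_cases h : e ∈ T
  · rw [ind_of_mem h, ind_of_notMem (tT.neg_notMem h)]
  · rw [ind_of_notMem h]
    have := ind_le_one T (-e)
    omega

theorem card_bound [FixFree E] (L : List E) : ∀ (S : Finset E), PW L →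
    sumL (fun e => ind S e + ind S (-e)) L ≤ S.card := by
  induction L with
  | nil => intro S _; simp [sumL]
  | cons a l ih =>
    intro S hP
    obtain ⟨h1, h2⟩ := hP
    simp only [sumL]
    have hcongr : sumL (fun e => ind S e + ind S (-e)) l =
        sumL (fun e => ind ((S.erase a).erase (-a)) e + ind ((S.erase a).erase (-a)) (-e)) l := by
      apply sumL_congr
      rw [AllL_iff] at h1 ⊢
      intro e he
      obtain ⟨hne1, hne2⟩ := h1 e he
      have e1 : e ≠ a := fun h => hne1 h.symm
      have e2 : e ≠ -a := fun h => hne2 (by rw [h, neg_neg])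
      have e3 : -e ≠ a := fun h => hne2 h.symm
      have e4 : -e ≠ -a := fun h => hne1 (neg_injective h).symm
      have m1 : e ∈ (S.erase a).erase (-a) ↔ e ∈ S := by
        simp [Finset.mem_erase, e1, e2]
      have m2 : -e ∈ (S.erase a).erase (-a) ↔ -e ∈ S := by
        simp [Finset.mem_erase, e3, e4]
      unfold ind
      simp only [m1, m2]
    rw [hcongr]
    have := ih ((S.erase a).erase (-a)) h2
    have hna : a ≠ -a := ne_neg' a
    have hc : ((S.erase a).erase (-a)).card + ind S a + ind S (-a) = S.card := by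
      by_cases ha : a ∈ S <;> by_cases hb : -a ∈ S
      · rw [ind_of_mem ha, ind_of_mem hb, Finset.card_erase_of_mem, Finset.card_erase_of_mem ha]
        · have : 2 ≤ S.card := by
            have : ({a, -a} : Finset E) ⊆ S := by
              intro u hu
              rcases Finset.mem_insert.mp hu with rfl | hu
              · exact ha
              · rw [Finset.mem_singleton.mp hu]; exact hb
            have h3 := Finset.card_le_card this
            rwa [Finset.card_pair hna] at h3
          omega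
        · exact Finset.mem_erase.mpr ⟨Ne.symm hna, hb⟩
      · rw [ind_of_mem ha, ind_of_notMem hb, Finset.erase_eq_of_notMem, Finset.card_erase_of_mem ha]
        · have : 1 ≤ S.card := Finset.card_pos.mpr ⟨a, ha⟩
          omega
        · exact fun h => hb (Finset.mem_of_mem_erase h)
      · rw [ind_of_notMem ha, ind_of_mem hb, Finset.erase_eq_of_notMem ha,
          Finset.card_erase_of_mem hb]
        have : 1 ≤ S.card := Finset.card_pos.mpr ⟨-a, hb⟩
        omega
      · rw [ind_of_notMem ha, ind_of_notMem hb, Finset.erase_eq_of_notMem ha,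
          Finset.erase_eq_of_notMem hb]
        omega
    omega

theorem Tri.norm [FixFree E] {T : Finset E} (tT : Tri T) {L : List E} (hP : PW L) :
    sumL (fun e => ind T e + ind T (-e)) L ≤ 3 := by
  have := card_bound L T hP
  rw [tT.1] at this
  exact this

theorem Tri.distinct {S : Finset E} (tS : Tri S) {a b c : E} (hS : S = {a, b, c}) :
    a ≠ b ∧ a ≠ c ∧ b ≠ c := by
  have h3 := tS.1
  rw [hS] at h3
  refine ⟨?_, ?_, ?_⟩
  · rintro rfl
    have : ({a, a, c} : Finset E).card ≤ 2 := by
      rw [Finset.insert_eq_of_mem (by simp)]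
      exact Finset.card_le_two
    omega
  · rintro rfl
    have : ({a, b, a} : Finset E).card ≤ 2 := by
      have : ({a, b, a} : Finset E) = {a, b} := by
        ext u; simp; tauto
      rw [this]
      exact Finset.card_le_two
    omega
  · rintro rfl
    have : ({a, b, b} : Finset E).card ≤ 2 := by
      have : ({a, b, b} : Finset E) = {a, b} := by
        ext u; simp
      rw [this]
      exact Finset.card_le_two
    omega

theorem Lin.ind3 {S B : Finset E} (h : Lin S B) (tS : Tri S) {a b c : E} (hS : S = {a, b, c}) :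
    ind B a + ind B b + ind B c = 1 ∧ ind B (-a) + ind B (-b) + ind B (-c) = 0 := by
  obtain ⟨hab, hac, hbc⟩ := tS.distinct hS
  obtain ⟨⟨e, he1, he2, he3⟩, h2⟩ := h
  have ha : a ∈ S := by rw [hS]; simp
  have hb : b ∈ S := by rw [hS]; simp
  have hc : c ∈ S := by rw [hS]; simp
  refine ⟨?_, ?_⟩
  · rw [hS] at he1
    rcases mem3.mp he1 with rfl | rfl | rfl
    · have h5 : b ∉ B := fun h => hab (he3 b hb h).symm
      have h6 : c ∉ B := fun h => hac (he3 c hc h).symm
      rw [ind_of_mem he2, ind_of_notMem h5, ind_of_notMem h6]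
    · have h5 : a ∉ B := fun h => hab (he3 a ha h)
      have h6 : c ∉ B := fun h => hbc (he3 c hc h).symm
      rw [ind_of_mem he2, ind_of_notMem h5, ind_of_notMem h6]
    · have h5 : a ∉ B := fun h => hac (he3 a ha h)
      have h6 : b ∉ B := fun h => hbc (he3 b hb h)
      rw [ind_of_mem he2, ind_of_notMem h5, ind_of_notMem h6]
  · rw [ind_of_notMem (h2 a ha), ind_of_notMem (h2 b hb), ind_of_notMem (h2 c hc)]

theorem Off.ind3 {S B : Finset E} (h : Off S B) (tS : Tri S) {a b c : E} (hS : S = {a, b, c}) :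
    ind B a + ind B b + ind B c = ind B (-a) + ind B (-b) + ind B (-c) ∧
      ind B a + ind B b + ind B c ≤ 1 := by
  obtain ⟨hab, hac, hbc⟩ := tS.distinct hS
  obtain ⟨h1, h2, h3, h4⟩ := h
  have ha : a ∈ S := by rw [hS]; simp
  have hb : b ∈ S := by rw [hS]; simp
  have hc : c ∈ S := by rw [hS]; simp
  -- at most one same
  have same_le : ind B a + ind B b + ind B c ≤ 1 := by
    by_cases ma : a ∈ B <;> by_cases mb : b ∈ B <;> by_cases mc : c ∈ B
    · exact absurd (h3 a ha b hb ma mb) hab
    · exact absurd (h3 a ha b hb ma mb) hab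
    · exact absurd (h3 a ha c hc ma mc) hac
    · rw [ind_of_mem ma, ind_of_notMem mb, ind_of_notMem mc]
    · exact absurd (h3 b hb c hc mb mc) hbc
    · rw [ind_of_notMem ma, ind_of_mem mb, ind_of_notMem mc]
    · rw [ind_of_notMem ma, ind_of_notMem mb, ind_of_mem mc]
    · rw [ind_of_notMem ma, ind_of_notMem mb, ind_of_notMem mc]; omega
  have opp_le : ind B (-a) + ind B (-b) + ind B (-c) ≤ 1 := by
    by_cases ma : -a ∈ B <;> by_cases mb : -b ∈ B <;> by_cases mc : -c ∈ B
    · exact absurd (h4 a ha b hb ma mb) hab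
    · exact absurd (h4 a ha b hb ma mb) hab
    · exact absurd (h4 a ha c hc ma mc) hac
    · rw [ind_of_mem ma, ind_of_notMem mb, ind_of_notMem mc]
    · exact absurd (h4 b hb c hc mb mc) hbc
    · rw [ind_of_notMem ma, ind_of_mem mb, ind_of_notMem mc]
    · rw [ind_of_notMem ma, ind_of_notMem mb, ind_of_mem mc]
    · rw [ind_of_notMem ma, ind_of_notMem mb, ind_of_notMem mc]; omega
  have same_pos : 1 ≤ ind B a + ind B b + ind B c → 1 ≤ ind B (-a) + ind B (-b) + ind B (-c) := by
    intro hpos
    have : ∃ x ∈ S, x ∈ B := by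
      by_contra hne
      push Not at hne
      rw [ind_of_notMem (hne a ha), ind_of_notMem (hne b hb), ind_of_notMem (hne c hc)] at hpos
      omega
    obtain ⟨x, hx, hxB⟩ := this
    obtain ⟨y, hy, hyB⟩ := h1 x hx hxB
    rw [hS] at hy
    rcases mem3.mp hy with rfl | rfl | rfl
    · rw [ind_of_mem hyB]; omega
    · rw [ind_of_mem hyB]; omega
    · rw [ind_of_mem hyB]; omega
  have opp_pos : 1 ≤ ind B (-a) + ind B (-b) + ind B (-c) → 1 ≤ ind B a + ind B b + ind B c := by
    intro hpos
    have : ∃ y ∈ S, -y ∈ B := by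
      by_contra hne
      push Not at hne
      rw [ind_of_notMem (hne a ha), ind_of_notMem (hne b hb), ind_of_notMem (hne c hc)] at hpos
      omega
    obtain ⟨y, hy, hyB⟩ := this
    obtain ⟨x, hx, hxB⟩ := h2 y hy hyB
    rw [hS] at hx
    rcases mem3.mp hx with rfl | rfl | rfl
    · rw [ind_of_mem hxB]; omega
    · rw [ind_of_mem hxB]; omega
    · rw [ind_of_mem hxB]; omega
  refine ⟨?_, same_le⟩
  omega

theorem Tri.eq_of_ind [FixFree E] {T : Finset E} (tT : Tri T) {a b c : E} (ha : ind T a = 1)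
    (hb : ind T b = 1) (hc : ind T c = 1) (hab : AbsNe a b) (hac : AbsNe a c) (hbc : AbsNe b c) :
    T = {a, b, c} :=
  tT.eq_of_three (mem_of_ind ha) (mem_of_ind hb) (mem_of_ind hc) hab.1 hac.1 hbc.1

theorem Tri.new1 {T : Finset E} (tT : Tri T) {a b : E} (ha : ind T a = 1) (hb : ind T b = 1)
    (hab : AbsNe a b) {L : List E}
    (hL : AllL (fun e => ind T e + ind T (-e) = 0 ∨ e = a ∨ -e = a ∨ e = b ∨ -e = b) L) :
    ∃ z, T = {a, b, z} ∧ AllL (AbsNe z) L := by
  have ha' := mem_of_ind ha
  have hb' := mem_of_ind hb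
  obtain ⟨z, hz, hza, hzb, hT⟩ := tT.exists_third ha' hb' hab.1
  refine ⟨z, hT, ?_⟩
  rw [AllL_iff] at hL ⊢
  intro e he
  have hza' : z ≠ -a := fun h => tT.neg_notMem ha' (h ▸ hz)
  have hzb' : z ≠ -b := fun h => tT.neg_notMem hb' (h ▸ hz)
  rcases hL e he with h0 | rfl | h1 | rfl | h1
  · have h1 : ind T e = 0 := by omega
    have h2 : ind T (-e) = 0 := by omega
    rw [ind_eq_zero_iff] at h1 h2
    exact ⟨fun h => h1 (h ▸ hz), fun h => h2 (h ▸ hz)⟩
  · exact ⟨hza, hza'⟩
  · subst h1
    rw [neg_neg] at hza'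
    exact ⟨hza', hza⟩
  · exact ⟨hzb, hzb'⟩
  · subst h1
    rw [neg_neg] at hzb'
    exact ⟨hzb', hzb⟩

theorem Lin.dnf3 {S B : Finset E} (h : Lin S B) (tS : Tri S) {a b c : E} (hS : S = {a, b, c}) :
    ((ind B a = 1 ∧ ind B b = 0 ∧ ind B c = 0) ∨ (ind B a = 0 ∧ ind B b = 1 ∧ ind B c = 0) ∨
      (ind B a = 0 ∧ ind B b = 0 ∧ ind B c = 1)) ∧
      ind B (-a) = 0 ∧ ind B (-b) = 0 ∧ ind B (-c) = 0 := by
  have h1 := h.ind3 tS hS
  have := ind_le_one B a
  have := ind_le_one B b
  have := ind_le_one B c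
  omega

theorem Off.dnf3 {S B : Finset E} (h : Off S B) (tS : Tri S) {a b c : E} (hS : S = {a, b, c}) :
    (ind B a = 0 ∧ ind B b = 0 ∧ ind B c = 0 ∧ ind B (-a) = 0 ∧ ind B (-b) = 0 ∧ ind B (-c) = 0) ∨
    (((ind B a = 1 ∧ ind B b = 0 ∧ ind B c = 0) ∨ (ind B a = 0 ∧ ind B b = 1 ∧ ind B c = 0) ∨
      (ind B a = 0 ∧ ind B b = 0 ∧ ind B c = 1)) ∧
     ((ind B (-a) = 1 ∧ ind B (-b) = 0 ∧ ind B (-c) = 0) ∨
      (ind B (-a) = 0 ∧ ind B (-b) = 1 ∧ ind B (-c) = 0) ∨
      (ind B (-a) = 0 ∧ ind B (-b) = 0 ∧ ind B (-c) = 1))) := by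
  have h1 := h.ind3 tS hS
  have := ind_le_one B a
  have := ind_le_one B b
  have := ind_le_one B c
  have := ind_le_one B (-a)
  have := ind_le_one B (-b)
  have := ind_le_one B (-c)
  omega

end Cfsg.Agent.Lib.Helper4.CTI
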