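import Mathlib
import Cfsg.Agent.Lib.Helper4.CTIb

set_option autoImplicit false
set_option linter.unusedSectionVars false
set_option linter.unusedVariables false
set_option linter.style.longLine false

/-! Two rows of signed triples: the common element of two triples of one row does not lie in the
other row (case analysis generated from a search tree; each node is closed by linear arithmetic
on membership indicators). -/

namespace Cfsg.Agent.Lib.Helper4.CTI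

variable {E : Type*} [DecidableEq E] [InvolutiveNeg E]

/-- two rows of a grid of signed triples -/
structure TwoRows {ι : Type*} (A C : ι → Finset E) : Prop where
  triA : ∀ j, Tri (A j)
  triC : ∀ j, Tri (C j)
  linA : ∀ j l, j ≠ l → Lin (A j) (A l)
  linC : ∀ j l, j ≠ l → Lin (C j) (C l)
  col : ∀ j, Lin (A j) (C j)
  off : ∀ j l, j ≠ l → Off (A j) (C l)

set_option maxHeartbeats 4000000 in
theorem TwoRows.core [FixFree E] {A C : Fin 4 → Finset E} (hG : TwoRows A C)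
    {e1 e2 e3 e4 e5 e6 : E} (hA0 : A 0 = {e1, e2, e3}) (hA1 : A 1 = {e1, e4, e5})
    (hC0 : C 0 = {e1, -e4, e6}) (hP6 : PW [e6, e5, e4, e3, e2, e1]) : False := by
  have hP := hP6
  simp only [PW, AllL, and_true] at hP
  obtain ⟨⟨n6_5, n6_4, n6_3, n6_2, n6_1⟩, ⟨n5_4, n5_3, n5_2, n5_1⟩, ⟨n4_3, n4_2, n4_1⟩,
    ⟨n3_2, n3_1⟩, n2_1⟩ := hP
  have q0_0 := (hG.off 0 1 (by decide)).ind3 (hG.triA 0) hA0
  have q0_1 := (hG.col 1).dnf3 (hG.triA 1) hA1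
  have q0_2 := (hG.linC 0 1 (by decide)).dnf3 (hG.triC 0) hC0
  have qb0 := (hG.triC 1).bnd [e6, e5, e4, e3, e2, e1]
  have qn0 := (hG.triC 1).norm hP6
  simp only [AllL, sumL, neg_neg] at q0_0 q0_1 q0_2 qb0 qn0
  have hc0 : (ind (C 1) (e1) = 1 ∧ ind (C 1) (-e2) = 1 ∧ ind (C 1) e6 + ind (C 1) (-e6) = 0 ∧ ind (C 1) e5 + ind (C 1) (-e5) = 0 ∧ ind (C 1) e4 + ind (C 1) (-e4) = 0 ∧ ind (C 1) e3 + ind (C 1) (-e3) = 0) ∨ (ind (C 1) (e1) = 1 ∧ ind (C 1) (-e3) = 1 ∧ ind (C 1) e6 + ind (C 1) (-e6) = 0 ∧ ind (C 1) e5 + ind (C 1) (-e5) = 0 ∧ ind (C 1) e4 + ind (C 1) (-e4) = 0 ∧ ind (C 1) e2 + ind (C 1) (-e2) = 0) ∨ (ind (C 1) (e5) = 1 ∧ ind (C 1) (e6) = 1 ∧ ind (C 1) e4 + ind (C 1) (-e4) = 0 ∧ ind (C 1) e3 + ind (C 1) (-e3) = 0 ∧ ind (C 1) e2 + ind (C 1) (-e2) = 0 ∧ ind (C 1) e1 + ind (C 1) (-e1) = 0) := by omega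
  clear q0_0 q0_1 q0_2 qb0 qn0
  rcases hc0 with ⟨m1, m2, z6, z5, z4, z3⟩ | ⟨m1, m2, z6, z5, z4, z2⟩ | ⟨m1, m2, z4, z3, z2, z1⟩
  · -- C1 = [1, -2, 7]
    obtain ⟨e7, hC1, hz⟩ := (hG.triC 1).new1 m1 m2 (n2_1.symm.neg_right) (L := [e6, e5, e4, e3, e2, e1]) ⟨Or.inl z6, Or.inl z5, Or.inl z4, Or.inl z3, Or.inr (Or.inr (Or.inr (Or.inr rfl))), Or.inr (Or.inl rfl), trivial⟩
    have hP7 : PW [e7, e6, e5, e4, e3, e2, e1] := ⟨hz, hP6⟩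
    obtain ⟨n7_6, n7_5, n7_4, n7_3, n7_2, n7_1, -⟩ := hz
    clear m1 m2 z6 z5 z4 z3
    have q1_0 := (hG.linA 0 2 (by decide)).dnf3 (hG.triA 0) hA0
    have q1_1 := (hG.linA 1 2 (by decide)).dnf3 (hG.triA 1) hA1
    have q1_2 := ((hG.off 2 0 (by decide)).symm).ind3 (hG.triC 0) hC0
    have q1_3 := ((hG.off 2 1 (by decide)).symm).ind3 (hG.triC 1) hC1
    have qb1 := (hG.triA 2).bnd [e7, e6, e5, e4, e3, e2, e1]
    have qn1 := (hG.triA 2).norm hP7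
    simp only [AllL, sumL, neg_neg] at q1_0 q1_1 q1_2 q1_3 qb1 qn1
    have hc1 : (ind (A 2) (e3) = 1 ∧ ind (A 2) (e5) = 1 ∧ ind (A 2) e7 + ind (A 2) (-e7) = 0 ∧ ind (A 2) e6 + ind (A 2) (-e6) = 0 ∧ ind (A 2) e4 + ind (A 2) (-e4) = 0 ∧ ind (A 2) e2 + ind (A 2) (-e2) = 0 ∧ ind (A 2) e1 + ind (A 2) (-e1) = 0) ∨ (ind (A 2) (e1) = 1 ∧ ind (A 2) (-e6) = 1 ∧ ind (A 2) (-e7) = 1) ∨ (ind (A 2) (e2) = 1 ∧ ind (A 2) (e5) = 1 ∧ ind (A 2) (e7) = 1) ∨ (ind (A 2) (e3) = 1 ∧ ind (A 2) (e4) = 1 ∧ ind (A 2) (e6) = 1) := by omega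
    clear q1_0 q1_1 q1_2 q1_3 qb1 qn1
    rcases hc1 with ⟨m1, m2, z7, z6, z4, z2, z1⟩ | ⟨m1, m2, m3⟩ | ⟨m1, m2, m3⟩ | ⟨m1, m2, m3⟩
    · -- A2 = [3, 5, 8]
      obtain ⟨e8, hA2, hz⟩ := (hG.triA 2).new1 m1 m2 (n5_3.symm) (L := [e7, e6, e5, e4, e3, e2, e1]) ⟨Or.inl z7, Or.inl z6, Or.inr (Or.inr (Or.inr (Or.inl rfl))), Or.inl z4, Or.inr (Or.inl rfl), Or.inl z2, Or.inl z1, trivial⟩
      have hP8 : PW [e8, e7, e6, e5, e4, e3, e2, e1] := ⟨hz, hP7⟩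
      obtain ⟨n8_7, n8_6, n8_5, n8_4, n8_3, n8_2, n8_1, -⟩ := hz
      clear m1 m2 z7 z6 z4 z2 z1
      have q2_0 := (hG.linA 0 3 (by decide)).dnf3 (hG.triA 0) hA0
      have q2_1 := (hG.linA 1 3 (by decide)).dnf3 (hG.triA 1) hA1
      have q2_2 := ((hG.off 3 0 (by decide)).symm).ind3 (hG.triC 0) hC0
      have q2_3 := ((hG.off 3 1 (by decide)).symm).ind3 (hG.triC 1) hC1
      have q2_4 := (hG.linA 2 3 (by decide)).dnf3 (hG.triA 2) hA2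
      have qb2 := (hG.triA 3).bnd [e8, e7, e6, e5, e4, e3, e2, e1]
      have qn2 := (hG.triA 3).norm hP8
      simp only [AllL, sumL, neg_neg] at q2_0 q2_1 q2_2 q2_3 q2_4 qb2 qn2
      have hc2 : (ind (A 3) (e2) = 1 ∧ ind (A 3) (e5) = 1 ∧ ind (A 3) (e7) = 1) ∨ (ind (A 3) (e3) = 1 ∧ ind (A 3) (e4) = 1 ∧ ind (A 3) (e6) = 1) := by omega
      clear q2_0 q2_1 q2_2 q2_3 q2_4 qb2 qn2
      rcases hc2 with ⟨m1, m2, m3⟩ | ⟨m1, m2, m3⟩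
      · -- A3 = [2, 5, 7]
        have hA3 : A 3 = {e2, e5, e7} := (hG.triA 3).eq_of_ind m1 m2 m3 (n5_2.symm) (n7_2.symm) (n7_5.symm)
        clear m1 m2 m3
        have q3_0 := (hG.off 0 2 (by decide)).ind3 (hG.triA 0) hA0
        have q3_1 := (hG.off 1 2 (by decide)).ind3 (hG.triA 1) hA1
        have q3_2 := (hG.linC 0 2 (by decide)).dnf3 (hG.triC 0) hC0
        have q3_3 := (hG.linC 1 2 (by decide)).dnf3 (hG.triC 1) hC1
        have q3_4 := (hG.col 2).dnf3 (hG.triA 2) hA2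
        have q3_5 := (hG.off 3 2 (by decide)).ind3 (hG.triA 3) hA3
        have qb3 := (hG.triC 2).bnd [e8, e7, e6, e5, e4, e3, e2, e1]
        have qn3 := (hG.triC 2).norm hP8
        simp only [AllL, sumL, neg_neg] at q3_0 q3_1 q3_2 q3_3 q3_4 q3_5 qb3 qn3
        omega
      · -- A3 = [3, 4, 6]
        have hA3 : A 3 = {e3, e4, e6} := (hG.triA 3).eq_of_ind m1 m2 m3 (n4_3.symm) (n6_3.symm) (n6_4.symm)
        clear m1 m2 m3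
        have q3_0 := (hG.off 0 2 (by decide)).ind3 (hG.triA 0) hA0
        have q3_1 := (hG.off 1 2 (by decide)).ind3 (hG.triA 1) hA1
        have q3_2 := (hG.linC 0 2 (by decide)).dnf3 (hG.triC 0) hC0
        have q3_3 := (hG.linC 1 2 (by decide)).dnf3 (hG.triC 1) hC1
        have q3_4 := (hG.col 2).dnf3 (hG.triA 2) hA2
        have q3_5 := (hG.off 3 2 (by decide)).ind3 (hG.triA 3) hA3
        have qb3 := (hG.triC 2).bnd [e8, e7, e6, e5, e4, e3, e2, e1]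
        have qn3 := (hG.triC 2).norm hP8
        simp only [AllL, sumL, neg_neg] at q3_0 q3_1 q3_2 q3_3 q3_4 q3_5 qb3 qn3
        omega
    · -- A2 = [1, -6, -7]
      have hA2 : A 2 = {e1, -e6, -e7} := (hG.triA 2).eq_of_ind m1 m2 m3 (n6_1.symm.neg_right) (n7_1.symm.neg_right) (n7_6.symm.neg_left.neg_right)
      clear m1 m2 m3
      have q2_0 := (hG.linA 0 3 (by decide)).dnf3 (hG.triA 0) hA0
      have q2_1 := (hG.linA 1 3 (by decide)).dnf3 (hG.triA 1) hA1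
      have q2_2 := ((hG.off 3 0 (by decide)).symm).ind3 (hG.triC 0) hC0
      have q2_3 := ((hG.off 3 1 (by decide)).symm).ind3 (hG.triC 1) hC1
      have q2_4 := (hG.linA 2 3 (by decide)).dnf3 (hG.triA 2) hA2
      have qb2 := (hG.triA 3).bnd [e7, e6, e5, e4, e3, e2, e1]
      have qn2 := (hG.triA 3).norm hP7
      simp only [AllL, sumL, neg_neg] at q2_0 q2_1 q2_2 q2_3 q2_4 qb2 qn2
      omega
    · -- A2 = [2, 5, 7]
      have hA2 : A 2 = {e2, e5, e7} := (hG.triA 2).eq_of_ind m1 m2 m3 (n5_2.symm) (n7_2.symm) (n7_5.symm)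
      clear m1 m2 m3
      have q2_0 := (hG.linA 0 3 (by decide)).dnf3 (hG.triA 0) hA0
      have q2_1 := (hG.linA 1 3 (by decide)).dnf3 (hG.triA 1) hA1
      have q2_2 := ((hG.off 3 0 (by decide)).symm).ind3 (hG.triC 0) hC0
      have q2_3 := ((hG.off 3 1 (by decide)).symm).ind3 (hG.triC 1) hC1
      have q2_4 := (hG.linA 2 3 (by decide)).dnf3 (hG.triA 2) hA2
      have qb2 := (hG.triA 3).bnd [e7, e6, e5, e4, e3, e2, e1]
      have qn2 := (hG.triA 3).norm hP7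
      simp only [AllL, sumL, neg_neg] at q2_0 q2_1 q2_2 q2_3 q2_4 qb2 qn2
      have hc2 : (ind (A 3) (e3) = 1 ∧ ind (A 3) (e5) = 1 ∧ ind (A 3) e7 + ind (A 3) (-e7) = 0 ∧ ind (A 3) e6 + ind (A 3) (-e6) = 0 ∧ ind (A 3) e4 + ind (A 3) (-e4) = 0 ∧ ind (A 3) e2 + ind (A 3) (-e2) = 0 ∧ ind (A 3) e1 + ind (A 3) (-e1) = 0) := by omega
      clear q2_0 q2_1 q2_2 q2_3 q2_4 qb2 qn2
      obtain ⟨m1, m2, z7, z6, z4, z2, z1⟩ := hc2
      -- A3 = [3, 5, 8]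
      obtain ⟨e8, hA3, hz⟩ := (hG.triA 3).new1 m1 m2 (n5_3.symm) (L := [e7, e6, e5, e4, e3, e2, e1]) ⟨Or.inl z7, Or.inl z6, Or.inr (Or.inr (Or.inr (Or.inl rfl))), Or.inl z4, Or.inr (Or.inl rfl), Or.inl z2, Or.inl z1, trivial⟩
      have hP8 : PW [e8, e7, e6, e5, e4, e3, e2, e1] := ⟨hz, hP7⟩
      obtain ⟨n8_7, n8_6, n8_5, n8_4, n8_3, n8_2, n8_1, -⟩ := hz
      clear m1 m2 z7 z6 z4 z2 z1
      have q3_0 := (hG.off 0 2 (by decide)).ind3 (hG.triA 0) hA0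
      have q3_1 := (hG.off 1 2 (by decide)).ind3 (hG.triA 1) hA1
      have q3_2 := (hG.linC 0 2 (by decide)).dnf3 (hG.triC 0) hC0
      have q3_3 := (hG.linC 1 2 (by decide)).dnf3 (hG.triC 1) hC1
      have q3_4 := (hG.col 2).dnf3 (hG.triA 2) hA2
      have q3_5 := (hG.off 3 2 (by decide)).ind3 (hG.triA 3) hA3
      have qb3 := (hG.triC 2).bnd [e8, e7, e6, e5, e4, e3, e2, e1]
      have qn3 := (hG.triC 2).norm hP8
      simp only [AllL, sumL, neg_neg] at q3_0 q3_1 q3_2 q3_3 q3_4 q3_5 qb3 qn3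
      have hc3 : (ind (C 2) (e6) = 1 ∧ ind (C 2) (e7) = 1 ∧ ind (C 2) e8 + ind (C 2) (-e8) = 0 ∧ ind (C 2) e5 + ind (C 2) (-e5) = 0 ∧ ind (C 2) e4 + ind (C 2) (-e4) = 0 ∧ ind (C 2) e3 + ind (C 2) (-e3) = 0 ∧ ind (C 2) e2 + ind (C 2) (-e2) = 0 ∧ ind (C 2) e1 + ind (C 2) (-e1) = 0) := by omega
      clear q3_0 q3_1 q3_2 q3_3 q3_4 q3_5 qb3 qn3
      obtain ⟨m1, m2, z8, z5, z4, z3, z2, z1⟩ := hc3
      -- C2 = [6, 7, 9]
      obtain ⟨e9, hC2, hz⟩ := (hG.triC 2).new1 m1 m2 (n7_6.symm) (L := [e8, e7, e6, e5, e4, e3, e2, e1]) ⟨Or.inl z8, Or.inr (Or.inr (Or.inr (Or.inl rfl))), Or.inr (Or.inl rfl), Or.inl z5, Or.inl z4, Or.inl z3, Or.inl z2, Or.inl z1, trivial⟩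
      have hP9 : PW [e9, e8, e7, e6, e5, e4, e3, e2, e1] := ⟨hz, hP8⟩
      obtain ⟨n9_8, n9_7, n9_6, n9_5, n9_4, n9_3, n9_2, n9_1, -⟩ := hz
      clear m1 m2 z8 z5 z4 z3 z2 z1
      have q4_0 := (hG.off 0 3 (by decide)).ind3 (hG.triA 0) hA0
      have q4_1 := (hG.off 1 3 (by decide)).ind3 (hG.triA 1) hA1
      have q4_2 := (hG.linC 0 3 (by decide)).dnf3 (hG.triC 0) hC0
      have q4_3 := (hG.linC 1 3 (by decide)).dnf3 (hG.triC 1) hC1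
      have q4_4 := (hG.off 2 3 (by decide)).ind3 (hG.triA 2) hA2
      have q4_5 := (hG.col 3).dnf3 (hG.triA 3) hA3
      have q4_6 := (hG.linC 2 3 (by decide)).dnf3 (hG.triC 2) hC2
      have qb4 := (hG.triC 3).bnd [e9, e8, e7, e6, e5, e4, e3, e2, e1]
      have qn4 := (hG.triC 3).norm hP9
      simp only [AllL, sumL, neg_neg] at q4_0 q4_1 q4_2 q4_3 q4_4 q4_5 q4_6 qb4 qn4
      omega
    · -- A2 = [3, 4, 6]
      have hA2 : A 2 = {e3, e4, e6} := (hG.triA 2).eq_of_ind m1 m2 m3 (n4_3.symm) (n6_3.symm) (n6_4.symm)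
      clear m1 m2 m3
      have q2_0 := (hG.linA 0 3 (by decide)).dnf3 (hG.triA 0) hA0
      have q2_1 := (hG.linA 1 3 (by decide)).dnf3 (hG.triA 1) hA1
      have q2_2 := ((hG.off 3 0 (by decide)).symm).ind3 (hG.triC 0) hC0
      have q2_3 := ((hG.off 3 1 (by decide)).symm).ind3 (hG.triC 1) hC1
      have q2_4 := (hG.linA 2 3 (by decide)).dnf3 (hG.triA 2) hA2
      have qb2 := (hG.triA 3).bnd [e7, e6, e5, e4, e3, e2, e1]
      have qn2 := (hG.triA 3).norm hP7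
      simp only [AllL, sumL, neg_neg] at q2_0 q2_1 q2_2 q2_3 q2_4 qb2 qn2
      have hc2 : (ind (A 3) (e3) = 1 ∧ ind (A 3) (e5) = 1 ∧ ind (A 3) e7 + ind (A 3) (-e7) = 0 ∧ ind (A 3) e6 + ind (A 3) (-e6) = 0 ∧ ind (A 3) e4 + ind (A 3) (-e4) = 0 ∧ ind (A 3) e2 + ind (A 3) (-e2) = 0 ∧ ind (A 3) e1 + ind (A 3) (-e1) = 0) := by omega
      clear q2_0 q2_1 q2_2 q2_3 q2_4 qb2 qn2
      obtain ⟨m1, m2, z7, z6, z4, z2, z1⟩ := hc2
      -- A3 = [3, 5, 8]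
      obtain ⟨e8, hA3, hz⟩ := (hG.triA 3).new1 m1 m2 (n5_3.symm) (L := [e7, e6, e5, e4, e3, e2, e1]) ⟨Or.inl z7, Or.inl z6, Or.inr (Or.inr (Or.inr (Or.inl rfl))), Or.inl z4, Or.inr (Or.inl rfl), Or.inl z2, Or.inl z1, trivial⟩
      have hP8 : PW [e8, e7, e6, e5, e4, e3, e2, e1] := ⟨hz, hP7⟩
      obtain ⟨n8_7, n8_6, n8_5, n8_4, n8_3, n8_2, n8_1, -⟩ := hz
      clear m1 m2 z7 z6 z4 z2 z1
      have q3_0 := (hG.off 0 2 (by decide)).ind3 (hG.triA 0) hA0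
      have q3_1 := (hG.off 1 2 (by decide)).ind3 (hG.triA 1) hA1
      have q3_2 := (hG.linC 0 2 (by decide)).dnf3 (hG.triC 0) hC0
      have q3_3 := (hG.linC 1 2 (by decide)).dnf3 (hG.triC 1) hC1
      have q3_4 := (hG.col 2).dnf3 (hG.triA 2) hA2
      have q3_5 := (hG.off 3 2 (by decide)).ind3 (hG.triA 3) hA3
      have qb3 := (hG.triC 2).bnd [e8, e7, e6, e5, e4, e3, e2, e1]
      have qn3 := (hG.triC 2).norm hP8
      simp only [AllL, sumL, neg_neg] at q3_0 q3_1 q3_2 q3_3 q3_4 q3_5 qb3 qn3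
      have hc3 : (ind (C 2) (e6) = 1 ∧ ind (C 2) (e7) = 1 ∧ ind (C 2) e8 + ind (C 2) (-e8) = 0 ∧ ind (C 2) e5 + ind (C 2) (-e5) = 0 ∧ ind (C 2) e4 + ind (C 2) (-e4) = 0 ∧ ind (C 2) e3 + ind (C 2) (-e3) = 0 ∧ ind (C 2) e2 + ind (C 2) (-e2) = 0 ∧ ind (C 2) e1 + ind (C 2) (-e1) = 0) := by omega
      clear q3_0 q3_1 q3_2 q3_3 q3_4 q3_5 qb3 qn3
      obtain ⟨m1, m2, z8, z5, z4, z3, z2, z1⟩ := hc3
      -- C2 = [6, 7, 9]
      obtain ⟨e9, hC2, hz⟩ := (hG.triC 2).new1 m1 m2 (n7_6.symm) (L := [e8, e7, e6, e5, e4, e3, e2, e1]) ⟨Or.inl z8, Or.inr (Or.inr (Or.inr (Or.inl rfl))), Or.inr (Or.inl rfl), Or.inl z5, Or.inl z4, Or.inl z3, Or.inl z2, Or.inl z1, trivial⟩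
      have hP9 : PW [e9, e8, e7, e6, e5, e4, e3, e2, e1] := ⟨hz, hP8⟩
      obtain ⟨n9_8, n9_7, n9_6, n9_5, n9_4, n9_3, n9_2, n9_1, -⟩ := hz
      clear m1 m2 z8 z5 z4 z3 z2 z1
      have q4_0 := (hG.off 0 3 (by decide)).ind3 (hG.triA 0) hA0
      have q4_1 := (hG.off 1 3 (by decide)).ind3 (hG.triA 1) hA1
      have q4_2 := (hG.linC 0 3 (by decide)).dnf3 (hG.triC 0) hC0
      have q4_3 := (hG.linC 1 3 (by decide)).dnf3 (hG.triC 1) hC1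
      have q4_4 := (hG.off 2 3 (by decide)).ind3 (hG.triA 2) hA2
      have q4_5 := (hG.col 3).dnf3 (hG.triA 3) hA3
      have q4_6 := (hG.linC 2 3 (by decide)).dnf3 (hG.triC 2) hC2
      have qb4 := (hG.triC 3).bnd [e9, e8, e7, e6, e5, e4, e3, e2, e1]
      have qn4 := (hG.triC 3).norm hP9
      simp only [AllL, sumL, neg_neg] at q4_0 q4_1 q4_2 q4_3 q4_4 q4_5 q4_6 qb4 qn4
      omega
  · -- C1 = [1, -3, 7]
    obtain ⟨e7, hC1, hz⟩ := (hG.triC 1).new1 m1 m2 (n3_1.symm.neg_right) (L := [e6, e5, e4, e3, e2, e1]) ⟨Or.inl z6, Or.inl z5, Or.inl z4, Or.inr (Or.inr (Or.inr (Or.inr rfl))), Or.inl z2, Or.inr (Or.inl rfl), trivial⟩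
    have hP7 : PW [e7, e6, e5, e4, e3, e2, e1] := ⟨hz, hP6⟩
    obtain ⟨n7_6, n7_5, n7_4, n7_3, n7_2, n7_1, -⟩ := hz
    clear m1 m2 z6 z5 z4 z2
    have q1_0 := (hG.linA 0 2 (by decide)).dnf3 (hG.triA 0) hA0
    have q1_1 := (hG.linA 1 2 (by decide)).dnf3 (hG.triA 1) hA1
    have q1_2 := ((hG.off 2 0 (by decide)).symm).ind3 (hG.triC 0) hC0
    have q1_3 := ((hG.off 2 1 (by decide)).symm).ind3 (hG.triC 1) hC1
    have qb1 := (hG.triA 2).bnd [e7, e6, e5, e4, e3, e2, e1]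
    have qn1 := (hG.triA 2).norm hP7
    simp only [AllL, sumL, neg_neg] at q1_0 q1_1 q1_2 q1_3 qb1 qn1
    have hc1 : (ind (A 2) (e2) = 1 ∧ ind (A 2) (e5) = 1 ∧ ind (A 2) e7 + ind (A 2) (-e7) = 0 ∧ ind (A 2) e6 + ind (A 2) (-e6) = 0 ∧ ind (A 2) e4 + ind (A 2) (-e4) = 0 ∧ ind (A 2) e3 + ind (A 2) (-e3) = 0 ∧ ind (A 2) e1 + ind (A 2) (-e1) = 0) ∨ (ind (A 2) (e1) = 1 ∧ ind (A 2) (-e6) = 1 ∧ ind (A 2) (-e7) = 1) ∨ (ind (A 2) (e2) = 1 ∧ ind (A 2) (e4) = 1 ∧ ind (A 2) (e6) = 1) ∨ (ind (A 2) (e3) = 1 ∧ ind (A 2) (e5) = 1 ∧ ind (A 2) (e7) = 1) := by omega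
    clear q1_0 q1_1 q1_2 q1_3 qb1 qn1
    rcases hc1 with ⟨m1, m2, z7, z6, z4, z3, z1⟩ | ⟨m1, m2, m3⟩ | ⟨m1, m2, m3⟩ | ⟨m1, m2, m3⟩
    · -- A2 = [2, 5, 8]
      obtain ⟨e8, hA2, hz⟩ := (hG.triA 2).new1 m1 m2 (n5_2.symm) (L := [e7, e6, e5, e4, e3, e2, e1]) ⟨Or.inl z7, Or.inl z6, Or.inr (Or.inr (Or.inr (Or.inl rfl))), Or.inl z4, Or.inl z3, Or.inr (Or.inl rfl), Or.inl z1, trivial⟩
      have hP8 : PW [e8, e7, e6, e5, e4, e3, e2, e1] := ⟨hz, hP7⟩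
      obtain ⟨n8_7, n8_6, n8_5, n8_4, n8_3, n8_2, n8_1, -⟩ := hz
      clear m1 m2 z7 z6 z4 z3 z1
      have q2_0 := (hG.linA 0 3 (by decide)).dnf3 (hG.triA 0) hA0
      have q2_1 := (hG.linA 1 3 (by decide)).dnf3 (hG.triA 1) hA1
      have q2_2 := ((hG.off 3 0 (by decide)).symm).ind3 (hG.triC 0) hC0
      have q2_3 := ((hG.off 3 1 (by decide)).symm).ind3 (hG.triC 1) hC1
      have q2_4 := (hG.linA 2 3 (by decide)).dnf3 (hG.triA 2) hA2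
      have qb2 := (hG.triA 3).bnd [e8, e7, e6, e5, e4, e3, e2, e1]
      have qn2 := (hG.triA 3).norm hP8
      simp only [AllL, sumL, neg_neg] at q2_0 q2_1 q2_2 q2_3 q2_4 qb2 qn2
      have hc2 : (ind (A 3) (e2) = 1 ∧ ind (A 3) (e4) = 1 ∧ ind (A 3) (e6) = 1) ∨ (ind (A 3) (e3) = 1 ∧ ind (A 3) (e5) = 1 ∧ ind (A 3) (e7) = 1) := by omega
      clear q2_0 q2_1 q2_2 q2_3 q2_4 qb2 qn2
      rcases hc2 with ⟨m1, m2, m3⟩ | ⟨m1, m2, m3⟩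
      · -- A3 = [2, 4, 6]
        have hA3 : A 3 = {e2, e4, e6} := (hG.triA 3).eq_of_ind m1 m2 m3 (n4_2.symm) (n6_2.symm) (n6_4.symm)
        clear m1 m2 m3
        have q3_0 := (hG.off 0 2 (by decide)).ind3 (hG.triA 0) hA0
        have q3_1 := (hG.off 1 2 (by decide)).ind3 (hG.triA 1) hA1
        have q3_2 := (hG.linC 0 2 (by decide)).dnf3 (hG.triC 0) hC0
        have q3_3 := (hG.linC 1 2 (by decide)).dnf3 (hG.triC 1) hC1
        have q3_4 := (hG.col 2).dnf3 (hG.triA 2) hA2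
        have q3_5 := (hG.off 3 2 (by decide)).ind3 (hG.triA 3) hA3
        have qb3 := (hG.triC 2).bnd [e8, e7, e6, e5, e4, e3, e2, e1]
        have qn3 := (hG.triC 2).norm hP8
        simp only [AllL, sumL, neg_neg] at q3_0 q3_1 q3_2 q3_3 q3_4 q3_5 qb3 qn3
        omega
      · -- A3 = [3, 5, 7]
        have hA3 : A 3 = {e3, e5, e7} := (hG.triA 3).eq_of_ind m1 m2 m3 (n5_3.symm) (n7_3.symm) (n7_5.symm)
        clear m1 m2 m3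
        have q3_0 := (hG.off 0 2 (by decide)).ind3 (hG.triA 0) hA0
        have q3_1 := (hG.off 1 2 (by decide)).ind3 (hG.triA 1) hA1
        have q3_2 := (hG.linC 0 2 (by decide)).dnf3 (hG.triC 0) hC0
        have q3_3 := (hG.linC 1 2 (by decide)).dnf3 (hG.triC 1) hC1
        have q3_4 := (hG.col 2).dnf3 (hG.triA 2) hA2
        have q3_5 := (hG.off 3 2 (by decide)).ind3 (hG.triA 3) hA3
        have qb3 := (hG.triC 2).bnd [e8, e7, e6, e5, e4, e3, e2, e1]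
        have qn3 := (hG.triC 2).norm hP8
        simp only [AllL, sumL, neg_neg] at q3_0 q3_1 q3_2 q3_3 q3_4 q3_5 qb3 qn3
        omega
    · -- A2 = [1, -6, -7]
      have hA2 : A 2 = {e1, -e6, -e7} := (hG.triA 2).eq_of_ind m1 m2 m3 (n6_1.symm.neg_right) (n7_1.symm.neg_right) (n7_6.symm.neg_left.neg_right)
      clear m1 m2 m3
      have q2_0 := (hG.linA 0 3 (by decide)).dnf3 (hG.triA 0) hA0
      have q2_1 := (hG.linA 1 3 (by decide)).dnf3 (hG.triA 1) hA1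
      have q2_2 := ((hG.off 3 0 (by decide)).symm).ind3 (hG.triC 0) hC0
      have q2_3 := ((hG.off 3 1 (by decide)).symm).ind3 (hG.triC 1) hC1
      have q2_4 := (hG.linA 2 3 (by decide)).dnf3 (hG.triA 2) hA2
      have qb2 := (hG.triA 3).bnd [e7, e6, e5, e4, e3, e2, e1]
      have qn2 := (hG.triA 3).norm hP7
      simp only [AllL, sumL, neg_neg] at q2_0 q2_1 q2_2 q2_3 q2_4 qb2 qn2
      omega
    · -- A2 = [2, 4, 6]
      have hA2 : A 2 = {e2, e4, e6} := (hG.triA 2).eq_of_ind m1 m2 m3 (n4_2.symm) (n6_2.symm) (n6_4.symm)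
      clear m1 m2 m3
      have q2_0 := (hG.linA 0 3 (by decide)).dnf3 (hG.triA 0) hA0
      have q2_1 := (hG.linA 1 3 (by decide)).dnf3 (hG.triA 1) hA1
      have q2_2 := ((hG.off 3 0 (by decide)).symm).ind3 (hG.triC 0) hC0
      have q2_3 := ((hG.off 3 1 (by decide)).symm).ind3 (hG.triC 1) hC1
      have q2_4 := (hG.linA 2 3 (by decide)).dnf3 (hG.triA 2) hA2
      have qb2 := (hG.triA 3).bnd [e7, e6, e5, e4, e3, e2, e1]
      have qn2 := (hG.triA 3).norm hP7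
      simp only [AllL, sumL, neg_neg] at q2_0 q2_1 q2_2 q2_3 q2_4 qb2 qn2
      have hc2 : (ind (A 3) (e2) = 1 ∧ ind (A 3) (e5) = 1 ∧ ind (A 3) e7 + ind (A 3) (-e7) = 0 ∧ ind (A 3) e6 + ind (A 3) (-e6) = 0 ∧ ind (A 3) e4 + ind (A 3) (-e4) = 0 ∧ ind (A 3) e3 + ind (A 3) (-e3) = 0 ∧ ind (A 3) e1 + ind (A 3) (-e1) = 0) := by omega
      clear q2_0 q2_1 q2_2 q2_3 q2_4 qb2 qn2
      obtain ⟨m1, m2, z7, z6, z4, z3, z1⟩ := hc2
      -- A3 = [2, 5, 8]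
      obtain ⟨e8, hA3, hz⟩ := (hG.triA 3).new1 m1 m2 (n5_2.symm) (L := [e7, e6, e5, e4, e3, e2, e1]) ⟨Or.inl z7, Or.inl z6, Or.inr (Or.inr (Or.inr (Or.inl rfl))), Or.inl z4, Or.inl z3, Or.inr (Or.inl rfl), Or.inl z1, trivial⟩
      have hP8 : PW [e8, e7, e6, e5, e4, e3, e2, e1] := ⟨hz, hP7⟩
      obtain ⟨n8_7, n8_6, n8_5, n8_4, n8_3, n8_2, n8_1, -⟩ := hz
      clear m1 m2 z7 z6 z4 z3 z1
      have q3_0 := (hG.off 0 2 (by decide)).ind3 (hG.triA 0) hA0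
      have q3_1 := (hG.off 1 2 (by decide)).ind3 (hG.triA 1) hA1
      have q3_2 := (hG.linC 0 2 (by decide)).dnf3 (hG.triC 0) hC0
      have q3_3 := (hG.linC 1 2 (by decide)).dnf3 (hG.triC 1) hC1
      have q3_4 := (hG.col 2).dnf3 (hG.triA 2) hA2
      have q3_5 := (hG.off 3 2 (by decide)).ind3 (hG.triA 3) hA3
      have qb3 := (hG.triC 2).bnd [e8, e7, e6, e5, e4, e3, e2, e1]
      have qn3 := (hG.triC 2).norm hP8
      simp only [AllL, sumL, neg_neg] at q3_0 q3_1 q3_2 q3_3 q3_4 q3_5 qb3 qn3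
      have hc3 : (ind (C 2) (e6) = 1 ∧ ind (C 2) (e7) = 1 ∧ ind (C 2) e8 + ind (C 2) (-e8) = 0 ∧ ind (C 2) e5 + ind (C 2) (-e5) = 0 ∧ ind (C 2) e4 + ind (C 2) (-e4) = 0 ∧ ind (C 2) e3 + ind (C 2) (-e3) = 0 ∧ ind (C 2) e2 + ind (C 2) (-e2) = 0 ∧ ind (C 2) e1 + ind (C 2) (-e1) = 0) := by omega
      clear q3_0 q3_1 q3_2 q3_3 q3_4 q3_5 qb3 qn3
      obtain ⟨m1, m2, z8, z5, z4, z3, z2, z1⟩ := hc3
      -- C2 = [6, 7, 9]
      obtain ⟨e9, hC2, hz⟩ := (hG.triC 2).new1 m1 m2 (n7_6.symm) (L := [e8, e7, e6, e5, e4, e3, e2, e1]) ⟨Or.inl z8, Or.inr (Or.inr (Or.inr (Or.inl rfl))), Or.inr (Or.inl rfl), Or.inl z5, Or.inl z4, Or.inl z3, Or.inl z2, Or.inl z1, trivial⟩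
      have hP9 : PW [e9, e8, e7, e6, e5, e4, e3, e2, e1] := ⟨hz, hP8⟩
      obtain ⟨n9_8, n9_7, n9_6, n9_5, n9_4, n9_3, n9_2, n9_1, -⟩ := hz
      clear m1 m2 z8 z5 z4 z3 z2 z1
      have q4_0 := (hG.off 0 3 (by decide)).ind3 (hG.triA 0) hA0
      have q4_1 := (hG.off 1 3 (by decide)).ind3 (hG.triA 1) hA1
      have q4_2 := (hG.linC 0 3 (by decide)).dnf3 (hG.triC 0) hC0
      have q4_3 := (hG.linC 1 3 (by decide)).dnf3 (hG.triC 1) hC1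
      have q4_4 := (hG.off 2 3 (by decide)).ind3 (hG.triA 2) hA2
      have q4_5 := (hG.col 3).dnf3 (hG.triA 3) hA3
      have q4_6 := (hG.linC 2 3 (by decide)).dnf3 (hG.triC 2) hC2
      have qb4 := (hG.triC 3).bnd [e9, e8, e7, e6, e5, e4, e3, e2, e1]
      have qn4 := (hG.triC 3).norm hP9
      simp only [AllL, sumL, neg_neg] at q4_0 q4_1 q4_2 q4_3 q4_4 q4_5 q4_6 qb4 qn4
      omega
    · -- A2 = [3, 5, 7]
      have hA2 : A 2 = {e3, e5, e7} := (hG.triA 2).eq_of_ind m1 m2 m3 (n5_3.symm) (n7_3.symm) (n7_5.symm)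
      clear m1 m2 m3
      have q2_0 := (hG.linA 0 3 (by decide)).dnf3 (hG.triA 0) hA0
      have q2_1 := (hG.linA 1 3 (by decide)).dnf3 (hG.triA 1) hA1
      have q2_2 := ((hG.off 3 0 (by decide)).symm).ind3 (hG.triC 0) hC0
      have q2_3 := ((hG.off 3 1 (by decide)).symm).ind3 (hG.triC 1) hC1
      have q2_4 := (hG.linA 2 3 (by decide)).dnf3 (hG.triA 2) hA2
      have qb2 := (hG.triA 3).bnd [e7, e6, e5, e4, e3, e2, e1]
      have qn2 := (hG.triA 3).norm hP7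
      simp only [AllL, sumL, neg_neg] at q2_0 q2_1 q2_2 q2_3 q2_4 qb2 qn2
      have hc2 : (ind (A 3) (e2) = 1 ∧ ind (A 3) (e5) = 1 ∧ ind (A 3) e7 + ind (A 3) (-e7) = 0 ∧ ind (A 3) e6 + ind (A 3) (-e6) = 0 ∧ ind (A 3) e4 + ind (A 3) (-e4) = 0 ∧ ind (A 3) e3 + ind (A 3) (-e3) = 0 ∧ ind (A 3) e1 + ind (A 3) (-e1) = 0) := by omega
      clear q2_0 q2_1 q2_2 q2_3 q2_4 qb2 qn2
      obtain ⟨m1, m2, z7, z6, z4, z3, z1⟩ := hc2
      -- A3 = [2, 5, 8]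
      obtain ⟨e8, hA3, hz⟩ := (hG.triA 3).new1 m1 m2 (n5_2.symm) (L := [e7, e6, e5, e4, e3, e2, e1]) ⟨Or.inl z7, Or.inl z6, Or.inr (Or.inr (Or.inr (Or.inl rfl))), Or.inl z4, Or.inl z3, Or.inr (Or.inl rfl), Or.inl z1, trivial⟩
      have hP8 : PW [e8, e7, e6, e5, e4, e3, e2, e1] := ⟨hz, hP7⟩
      obtain ⟨n8_7, n8_6, n8_5, n8_4, n8_3, n8_2, n8_1, -⟩ := hz
      clear m1 m2 z7 z6 z4 z3 z1
      have q3_0 := (hG.off 0 2 (by decide)).ind3 (hG.triA 0) hA0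
      have q3_1 := (hG.off 1 2 (by decide)).ind3 (hG.triA 1) hA1
      have q3_2 := (hG.linC 0 2 (by decide)).dnf3 (hG.triC 0) hC0
      have q3_3 := (hG.linC 1 2 (by decide)).dnf3 (hG.triC 1) hC1
      have q3_4 := (hG.col 2).dnf3 (hG.triA 2) hA2
      have q3_5 := (hG.off 3 2 (by decide)).ind3 (hG.triA 3) hA3
      have qb3 := (hG.triC 2).bnd [e8, e7, e6, e5, e4, e3, e2, e1]
      have qn3 := (hG.triC 2).norm hP8
      simp only [AllL, sumL, neg_neg] at q3_0 q3_1 q3_2 q3_3 q3_4 q3_5 qb3 qn3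
      have hc3 : (ind (C 2) (e6) = 1 ∧ ind (C 2) (e7) = 1 ∧ ind (C 2) e8 + ind (C 2) (-e8) = 0 ∧ ind (C 2) e5 + ind (C 2) (-e5) = 0 ∧ ind (C 2) e4 + ind (C 2) (-e4) = 0 ∧ ind (C 2) e3 + ind (C 2) (-e3) = 0 ∧ ind (C 2) e2 + ind (C 2) (-e2) = 0 ∧ ind (C 2) e1 + ind (C 2) (-e1) = 0) := by omega
      clear q3_0 q3_1 q3_2 q3_3 q3_4 q3_5 qb3 qn3
      obtain ⟨m1, m2, z8, z5, z4, z3, z2, z1⟩ := hc3
      -- C2 = [6, 7, 9]
      obtain ⟨e9, hC2, hz⟩ := (hG.triC 2).new1 m1 m2 (n7_6.symm) (L := [e8, e7, e6, e5, e4, e3, e2, e1]) ⟨Or.inl z8, Or.inr (Or.inr (Or.inr (Or.inl rfl))), Or.inr (Or.inl rfl), Or.inl z5, Or.inl z4, Or.inl z3, Or.inl z2, Or.inl z1, trivial⟩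
      have hP9 : PW [e9, e8, e7, e6, e5, e4, e3, e2, e1] := ⟨hz, hP8⟩
      obtain ⟨n9_8, n9_7, n9_6, n9_5, n9_4, n9_3, n9_2, n9_1, -⟩ := hz
      clear m1 m2 z8 z5 z4 z3 z2 z1
      have q4_0 := (hG.off 0 3 (by decide)).ind3 (hG.triA 0) hA0
      have q4_1 := (hG.off 1 3 (by decide)).ind3 (hG.triA 1) hA1
      have q4_2 := (hG.linC 0 3 (by decide)).dnf3 (hG.triC 0) hC0
      have q4_3 := (hG.linC 1 3 (by decide)).dnf3 (hG.triC 1) hC1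
      have q4_4 := (hG.off 2 3 (by decide)).ind3 (hG.triA 2) hA2
      have q4_5 := (hG.col 3).dnf3 (hG.triA 3) hA3
      have q4_6 := (hG.linC 2 3 (by decide)).dnf3 (hG.triC 2) hC2
      have qb4 := (hG.triC 3).bnd [e9, e8, e7, e6, e5, e4, e3, e2, e1]
      have qn4 := (hG.triC 3).norm hP9
      simp only [AllL, sumL, neg_neg] at q4_0 q4_1 q4_2 q4_3 q4_4 q4_5 q4_6 qb4 qn4
      omega
  · -- C1 = [5, 6, 7]
    obtain ⟨e7, hC1, hz⟩ := (hG.triC 1).new1 m1 m2 (n6_5.symm) (L := [e6, e5, e4, e3, e2, e1]) ⟨Or.inr (Or.inr (Or.inr (Or.inl rfl))), Or.inr (Or.inl rfl), Or.inl z4, Or.inl z3, Or.inl z2, Or.inl z1, trivial⟩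
    have hP7 : PW [e7, e6, e5, e4, e3, e2, e1] := ⟨hz, hP6⟩
    obtain ⟨n7_6, n7_5, n7_4, n7_3, n7_2, n7_1, -⟩ := hz
    clear m1 m2 z4 z3 z2 z1
    have q1_0 := (hG.linA 0 2 (by decide)).dnf3 (hG.triA 0) hA0
    have q1_1 := (hG.linA 1 2 (by decide)).dnf3 (hG.triA 1) hA1
    have q1_2 := ((hG.off 2 0 (by decide)).symm).ind3 (hG.triC 0) hC0
    have q1_3 := ((hG.off 2 1 (by decide)).symm).ind3 (hG.triC 1) hC1
    have qb1 := (hG.triA 2).bnd [e7, e6, e5, e4, e3, e2, e1]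
    have qn1 := (hG.triA 2).norm hP7
    simp only [AllL, sumL, neg_neg] at q1_0 q1_1 q1_2 q1_3 qb1 qn1
    have hc1 : (ind (A 2) (e1) = 1 ∧ ind (A 2) (-e6) = 1 ∧ ind (A 2) (e7) = 1) ∨ (ind (A 2) (e2) = 1 ∧ ind (A 2) (e5) = 1 ∧ ind (A 2) (-e7) = 1) ∨ (ind (A 2) (e3) = 1 ∧ ind (A 2) (e5) = 1 ∧ ind (A 2) (-e7) = 1) := by omega
    clear q1_0 q1_1 q1_2 q1_3 qb1 qn1
    rcases hc1 with ⟨m1, m2, m3⟩ | ⟨m1, m2, m3⟩ | ⟨m1, m2, m3⟩
    · -- A2 = [1, -6, 7]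
      have hA2 : A 2 = {e1, -e6, e7} := (hG.triA 2).eq_of_ind m1 m2 m3 (n6_1.symm.neg_right) (n7_1.symm) (n7_6.symm.neg_left)
      clear m1 m2 m3
      have q2_0 := (hG.linA 0 3 (by decide)).dnf3 (hG.triA 0) hA0
      have q2_1 := (hG.linA 1 3 (by decide)).dnf3 (hG.triA 1) hA1
      have q2_2 := ((hG.off 3 0 (by decide)).symm).ind3 (hG.triC 0) hC0
      have q2_3 := ((hG.off 3 1 (by decide)).symm).ind3 (hG.triC 1) hC1
      have q2_4 := (hG.linA 2 3 (by decide)).dnf3 (hG.triA 2) hA2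
      have qb2 := (hG.triA 3).bnd [e7, e6, e5, e4, e3, e2, e1]
      have qn2 := (hG.triA 3).norm hP7
      simp only [AllL, sumL, neg_neg] at q2_0 q2_1 q2_2 q2_3 q2_4 qb2 qn2
      omega
    · -- A2 = [2, 5, -7]
      have hA2 : A 2 = {e2, e5, -e7} := (hG.triA 2).eq_of_ind m1 m2 m3 (n5_2.symm) (n7_2.symm.neg_right) (n7_5.symm.neg_right)
      clear m1 m2 m3
      have q2_0 := (hG.linA 0 3 (by decide)).dnf3 (hG.triA 0) hA0
      have q2_1 := (hG.linA 1 3 (by decide)).dnf3 (hG.triA 1) hA1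
      have q2_2 := ((hG.off 3 0 (by decide)).symm).ind3 (hG.triC 0) hC0
      have q2_3 := ((hG.off 3 1 (by decide)).symm).ind3 (hG.triC 1) hC1
      have q2_4 := (hG.linA 2 3 (by decide)).dnf3 (hG.triA 2) hA2
      have qb2 := (hG.triA 3).bnd [e7, e6, e5, e4, e3, e2, e1]
      have qn2 := (hG.triA 3).norm hP7
      simp only [AllL, sumL, neg_neg] at q2_0 q2_1 q2_2 q2_3 q2_4 qb2 qn2
      omega
    · -- A2 = [3, 5, -7]
      have hA2 : A 2 = {e3, e5, -e7} := (hG.triA 2).eq_of_ind m1 m2 m3 (n5_3.symm) (n7_3.symm.neg_right) (n7_5.symm.neg_right)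
      clear m1 m2 m3
      have q2_0 := (hG.linA 0 3 (by decide)).dnf3 (hG.triA 0) hA0
      have q2_1 := (hG.linA 1 3 (by decide)).dnf3 (hG.triA 1) hA1
      have q2_2 := ((hG.off 3 0 (by decide)).symm).ind3 (hG.triC 0) hC0
      have q2_3 := ((hG.off 3 1 (by decide)).symm).ind3 (hG.triC 1) hC1
      have q2_4 := (hG.linA 2 3 (by decide)).dnf3 (hG.triA 2) hA2
      have qb2 := (hG.triA 3).bnd [e7, e6, e5, e4, e3, e2, e1]
      have qn2 := (hG.triA 3).norm hP7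
      simp only [AllL, sumL, neg_neg] at q2_0 q2_1 q2_2 q2_3 q2_4 qb2 qn2
      omega

end Cfsg.Agent.Lib.Helper4.CTI
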