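import Mathlib
import Cfsg.Agent.Lib.Helper4.CTIc

set_option autoImplicit false
set_option linter.unusedSectionVars false
set_option linter.unusedVariables false

/-! Two rows of signed triples over an arbitrary index set with at least four columns. -/

namespace Cfsg.Agent.Lib.Helper4.CTI

variable {E : Type*} [DecidableEq E] [InvolutiveNeg E]

theorem AbsNe.of_neg_right {u v : E} (h : AbsNe u (-v)) : AbsNe u v := by
  have := h.neg_right
  rwa [neg_neg] at this

theorem AbsNe.of_neg_left {u v : E} (h : AbsNe (-u) v) : AbsNe u v := by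
  have := h.neg_left
  rwa [neg_neg] at this

theorem absNe_of_ind {T : Finset E} {z e : E} (hz : z ∈ T) (h : ind T e + ind T (-e) = 0) :
    AbsNe z e := by
  have h1 : ind T e = 0 := by omega
  have h2 : ind T (-e) = 0 := by omega
  rw [ind_eq_zero_iff] at h1 h2
  exact ⟨fun h => h1 (h ▸ hz), fun h => h2 (h ▸ hz)⟩

theorem TwoRows.comp {ι κ : Type*} {A C : ι → Finset E} (hG : TwoRows A C) (f : κ → ι)
    (hf : Function.Injective f) : TwoRows (A ∘ f) (C ∘ f) where
  triA := fun j => hG.triA (f j)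
  triC := fun j => hG.triC (f j)
  linA := fun j l h => hG.linA (f j) (f l) (fun h' => h (hf h'))
  linC := fun j l h => hG.linC (f j) (f l) (fun h' => h (hf h'))
  col := fun j => hG.col (f j)
  off := fun j l h => hG.off (f j) (f l) (fun h' => h (hf h'))

theorem TwoRows.swap {ι : Type*} {A C : ι → Finset E} (hG : TwoRows A C) : TwoRows C A where
  triA := hG.triC
  triC := hG.triA
  linA := hG.linC
  linC := hG.linA
  col := fun j => (hG.col j).symm
  off := fun j l h => (hG.off l j (Ne.symm h)).symm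

/-- the common element of two triples of one row is not in the other row -/
theorem TwoRows.no_triple [FixFree E] {ι : Type*} {A C : ι → Finset E} (hG : TwoRows A C)
    {j l p q : ι} (hjl : j ≠ l) (hjp : j ≠ p) (hjq : j ≠ q) (hlp : l ≠ p) (hlq : l ≠ q)
    (hpq : p ≠ q) {r : E} (h1 : r ∈ A j) (h2 : r ∈ A l) (h3 : r ∈ C j) : False := by
  have tAj := hG.triA j
  have tAl := hG.triA l
  have tCj := hG.triC j
  obtain ⟨e2, e3, he2, he3, h12, h13, h23, hAj⟩ := tAj.exists_two h1
  have hoff := hG.off l j hjl.symm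
  obtain ⟨e4, he4, he4'⟩ := hoff.1 r h2 h3
  have h14 : r ≠ e4 := by
    rintro rfl
    exact tCj.neg_notMem h3 he4'
  obtain ⟨e5, he5, h51, h54, hAl⟩ := tAl.exists_third h2 he4 h14
  have h1n4 : r ≠ -e4 := fun h => tAl.neg_notMem he4 (by rw [← h]; exact h2)
  obtain ⟨e6, he6, h61, h64, hCj⟩ := tCj.exists_third h3 he4' h1n4
  have qA := (hG.linA j l hjl).ind3 tAj hAj
  have qC := (hG.col j).ind3 tAj hAj
  have qO := hoff.ind3 tAl hAl
  have i1 := ind_of_mem h2
  have i2 := ind_of_mem h3
  have i3 := ind_of_mem he4'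
  have b1 := tCj.bnd [r]
  simp only [AllL] at b1
  have hP : PW [e6, e5, e4, e3, e2, r] := by
    refine ⟨⟨?_, ?_, ?_, ?_, ?_, trivial⟩, ⟨?_, ?_, ?_, ?_, trivial⟩, ⟨?_, ?_, ?_, trivial⟩,
      ⟨?_, ?_, trivial⟩, ⟨?_, trivial⟩, trivial, trivial⟩
    · exact absNe_of_ind he6 (by omega)
    · exact (tCj.absNe he6 he4' h64).of_neg_right
    · exact absNe_of_ind he6 (by omega)
    · exact absNe_of_ind he6 (by omega)
    · exact tCj.absNe he6 h3 h61
    · exact tAl.absNe he5 he4 h54
    · exact absNe_of_ind he5 (by omega)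
    · exact absNe_of_ind he5 (by omega)
    · exact tAl.absNe he5 h2 h51
    · exact absNe_of_ind he4 (by omega)
    · exact absNe_of_ind he4 (by omega)
    · exact tAl.absNe he4 h2 (Ne.symm h14)
    · exact tAj.absNe he3 he2 (Ne.symm h23)
    · exact tAj.absNe he3 h1 (Ne.symm h13)
    · exact tAj.absNe he2 h1 (Ne.symm h12)
  have hf : Function.Injective ![j, l, p, q] := by
    intro a b hab
    fin_cases a <;> fin_cases b <;>
      simp_all [hjl.symm, hjp.symm, hjq.symm, hlp.symm, hlq.symm, hpq.symm]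
  exact (hG.comp ![j, l, p, q] hf).core (e1 := r) hAj hAl hCj hP

end Cfsg.Agent.Lib.Helper4.CTI
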