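import Mathlib
import Cfsg.Agent.Lib.Helper4.CTId

set_option autoImplicit false
set_option linter.unusedSectionVars false
set_option linter.unusedVariables false

/-! Rows of a grid of signed triples have a common element. -/

namespace Cfsg.Agent.Lib.Helper4.CTI

variable {E : Type*} [DecidableEq E] [InvolutiveNeg E]

theorem Lin.exists_common {S B : Finset E} (h : Lin S B) : ∃ e, e ∈ S ∧ e ∈ B := by
  obtain ⟨⟨e, h1, h2, _⟩, _⟩ := h
  exact ⟨e, h1, h2⟩

theorem Lin.eq_of_common {S B : Finset E} (h : Lin S B) {x y : E} (hx : x ∈ S) (hx' : x ∈ B)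
    (hy : y ∈ S) (hy' : y ∈ B) : x = y := by
  obtain ⟨⟨e, _, _, h3⟩, _⟩ := h
  rw [h3 x hx hx', h3 y hy hy']

section rows

variable [FixFree E] {ι : Type*} {A C : ι → Finset E}

/-- key configuration excluded -/
theorem TwoRows.key0 (hG : TwoRows A C) {j l l' q : ι} (hjl : j ≠ l) (hjl' : j ≠ l')
    (hjq : j ≠ q) (hll' : l ≠ l') (hlq : l ≠ q) (hl'q : l' ≠ q) {a b : E} (haj : a ∈ A j)
    (hal : a ∈ A l) (haq : a ∈ A q) (hbj : b ∈ A j) (hbl' : b ∈ A l') (hab : a ≠ b) : False := by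
  have hal' : a ∉ A l' := fun h => hab ((hG.linA j l' hjl').eq_of_common haj h hbj hbl')
  have hbl : b ∉ A l := fun h => hab ((hG.linA j l hjl).eq_of_common haj hal hbj h)
  have hbq : b ∉ A q := fun h => hab ((hG.linA j q hjq).eq_of_common haj haq hbj h)
  obtain ⟨s, hs1, hs2⟩ := (hG.linA l' l hll'.symm).exists_common
  obtain ⟨t, ht1, ht2⟩ := (hG.linA l' q hl'q).exists_common
  have hsb : s ≠ b := fun h => hbl (h ▸ hs2)
  have htb : t ≠ b := fun h => hbq (h ▸ ht2)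
  have hst : s ≠ t := by
    intro h
    have : s = a := (hG.linA l q hlq).eq_of_common hs2 (h ▸ ht2) hal haq
    exact hal' (this ▸ hs1)
  have hAl' := (hG.triA l').eq_of_three hbl' hs1 ht1 (Ne.symm hsb) (Ne.symm htb) hst
  obtain ⟨e, he1, he2⟩ := (hG.col l').exists_common
  rw [hAl'] at he1
  rcases mem3.mp he1 with rfl | rfl | rfl
  · exact hG.no_triple hjl'.symm hll'.symm hl'q hjl hjq hlq hbl' hbj he2
  · exact hG.no_triple hll'.symm hjl'.symm hl'q hjl.symm hlq hjq hs1 hs2 he2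
  · exact hG.no_triple hl'q hjl'.symm hll'.symm hjq.symm hlq.symm hjl ht1 ht2 he2

/-- the common elements of `A j` with two other columns coincide -/
theorem TwoRows.key (hG : TwoRows A C) {j l l' q : ι} (hjl : j ≠ l) (hjl' : j ≠ l')
    (hjq : j ≠ q) (hll' : l ≠ l') (hlq : l ≠ q) (hl'q : l' ≠ q) {a b : E} (haj : a ∈ A j)
    (hal : a ∈ A l) (hbj : b ∈ A j) (hbl' : b ∈ A l') : a = b := by
  by_contra hab
  obtain ⟨c, hc1, hc2⟩ := (hG.linA j q hjq).exists_common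
  by_cases hca : c = a
  · subst hca
    exact hG.key0 hjl hjl' hjq hll' hlq hl'q haj hal hc2 hbj hbl' hab
  by_cases hcb : c = b
  · subst hcb
    exact hG.key0 hjl' hjl hjq hll'.symm hl'q hlq hbj hbl' hc2 haj hal (Ne.symm hab)
  have hAj := (hG.triA j).eq_of_three haj hbj hc1 hab (Ne.symm hca) (Ne.symm hcb)
  obtain ⟨e, he1, he2⟩ := (hG.col j).exists_common
  rw [hAj] at he1
  rcases mem3.mp he1 with rfl | rfl | rfl
  · exact hG.no_triple hjl hjl' hjq hll' hlq hl'q haj hal he2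
  · exact hG.no_triple hjl' hjl hjq hll'.symm hl'q hlq hbj hbl' he2
  · exact hG.no_triple hjq hjl hjl' hlq.symm hl'q.symm hll' hc1 hc2 he2

/-- a row has a common element -/
theorem TwoRows.exists_common (hG : TwoRows A C) (h4 : ∀ x y z : ι, ∃ w, w ≠ x ∧ w ≠ y ∧ w ≠ z)
    (j₀ : ι) : ∃ a, ∀ j, a ∈ A j := by
  obtain ⟨l₀, hl₀, -, -⟩ := h4 j₀ j₀ j₀
  obtain ⟨a, ha1, ha2⟩ := (hG.linA j₀ l₀ (Ne.symm hl₀)).exists_common
  refine ⟨a, fun j => ?_⟩
  by_cases h1 : j = j₀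
  · rw [h1]; exact ha1
  by_cases h2 : j = l₀
  · rw [h2]; exact ha2
  obtain ⟨q, hq1, hq2, hq3⟩ := h4 j₀ l₀ j
  obtain ⟨y, hy1, hy2⟩ := (hG.linA j₀ j (Ne.symm h1)).exists_common
  have := hG.key (Ne.symm hl₀) (Ne.symm h1) (Ne.symm hq1) (Ne.symm h2) (Ne.symm hq2)
    (Ne.symm hq3) ha1 ha2 hy1 hy2
  rw [this]
  exact hy2

end rows

end Cfsg.Agent.Lib.Helper4.CTI
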