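import Mathlib
import Cfsg.Agent.Lib.Helper4.CTIe

set_option autoImplicit false
set_option linter.unusedSectionVars false
set_option linter.unusedVariables false

/-! A grid of signed triples (one common element along rows and columns, orthogonal otherwise) with at
least four columns and two or at least four rows is standard. -/

namespace Cfsg.Agent.Lib.Helper4.CTI

variable {E : Type*} [DecidableEq E] [InvolutiveNeg E]

/-- a grid of signed triples -/
structure Grid {I J : Type*} (S : I → J → Finset E) : Prop where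
  tri : ∀ i j, Tri (S i j)
  row : ∀ i j l, j ≠ l → Lin (S i j) (S i l)
  col : ∀ i k j, i ≠ k → Lin (S i j) (S k j)
  off : ∀ i k j l, i ≠ k → j ≠ l → Off (S i j) (S k l)

/-- the standard form of a grid -/
structure Std {I J : Type*} (S : I → J → Finset E) (a : I → E) (b : J → E) (c : I → J → E) :
    Prop where
  eq : ∀ i j, S i j = {a i, b j, c i j}
  aa : ∀ i k, i ≠ k → AbsNe (a i) (a k)
  bb : ∀ j l, j ≠ l → AbsNe (b j) (b l)
  ab : ∀ i j, AbsNe (a i) (b j)
  ca : ∀ i j k, AbsNe (c i j) (a k)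
  cb : ∀ i j l, AbsNe (c i j) (b l)
  cc : ∀ i j k l, (i ≠ k ∨ j ≠ l) → AbsNe (c i j) (c k l)

variable {I J : Type*} {S : I → J → Finset E}

theorem Grid.twoRows (hS : Grid S) {i k : I} (hik : i ≠ k) : TwoRows (S i) (S k) where
  triA := hS.tri i
  triC := hS.tri k
  linA := hS.row i
  linC := hS.row k
  col := fun j => hS.col i k j hik
  off := fun j l h => hS.off i k j l hik h

theorem Grid.transpose (hS : Grid S) : Grid (fun j i => S i j) where
  tri := fun j i => hS.tri i j
  row := fun j i k h => hS.col i k j h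
  col := fun j l i h => hS.row i j l h
  off := fun j l i k hjl hik => (hS.off i k j l hik hjl)

theorem notMem3 {T : Finset E} {x a b c : E} (hT : T = {a, b, c}) (ha : AbsNe x a)
    (hb : AbsNe x b) (hc : AbsNe x c) : ind T x + ind T (-x) = 0 := by
  have h1 : x ∉ T := by
    rw [hT]
    intro h
    rcases mem3.mp h with h | h | h
    · exact ha.1 h
    · exact hb.1 h
    · exact hc.1 h
  have h2 : -x ∉ T := by
    rw [hT]
    intro h
    rcases mem3.mp h with h | h | h
    · exact ha.2 (by rw [← h, neg_neg])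
    · exact hb.2 (by rw [← h, neg_neg])
    · exact hc.2 (by rw [← h, neg_neg])
  rw [ind_of_notMem h1, ind_of_notMem h2]

theorem Grid.exists_std [FixFree E] [Nonempty I] [Nonempty J] (hS : Grid S)
    (hJ : ∀ x y z : J, ∃ w, w ≠ x ∧ w ≠ y ∧ w ≠ z)
    (hI : (∀ x y z : I, ∃ w, w ≠ x ∧ w ≠ y ∧ w ≠ z) ∨
      (∃ i₀ k₀ : I, i₀ ≠ k₀ ∧ ∀ i, i = i₀ ∨ i = k₀)) :
    ∃ a b c, Std S a b c := by
  have hI2 : ∀ i : I, ∃ k, k ≠ i := by
    intro i
    rcases hI with hI | ⟨i₀, k₀, hne, hall⟩
    · obtain ⟨k, hk, -, -⟩ := hI i i i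
      exact ⟨k, hk⟩
    · rcases hall i with rfl | rfl
      · exact ⟨k₀, Ne.symm hne⟩
      · exact ⟨i₀, hne⟩
  have hJ2 : ∀ j : J, ∃ l, l ≠ j := by
    intro j
    obtain ⟨l, hl, -, -⟩ := hJ j j j
    exact ⟨l, hl⟩
  have j₀ : J := Classical.arbitrary J
  have i₀ : I := Classical.arbitrary I
  have hrow : ∀ i, ∃ a, ∀ j, a ∈ S i j := by
    intro i
    obtain ⟨k, hk⟩ := hI2 i
    exact (hS.twoRows (Ne.symm hk)).exists_common hJ j₀
  have hcol : ∀ j, ∃ b, ∀ i, b ∈ S i j := by
    intro j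
    rcases hI with hI | ⟨i₁, k₁, hne, hall⟩
    · obtain ⟨l, hl⟩ := hJ2 j
      exact (hS.transpose.twoRows (Ne.symm hl)).exists_common hI i₀
    · obtain ⟨e, he1, he2⟩ := (hS.col i₁ k₁ j hne).exists_common
      refine ⟨e, fun i => ?_⟩
      rcases hall i with rfl | rfl
      · exact he1
      · exact he2
  choose a ha using hrow
  choose b hb using hcol
  have hab : ∀ i j, a i ≠ b j := by
    intro i j h
    obtain ⟨k, hk⟩ := hI2 i
    obtain ⟨l, hl, -, -⟩ := hJ j j j
    obtain ⟨p, hp1, hp2, -⟩ := hJ j l l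
    obtain ⟨q, hq1, hq2, hq3⟩ := hJ j l p
    exact (hS.twoRows (Ne.symm hk)).no_triple (Ne.symm hl) (Ne.symm hp1) (Ne.symm hq1)
      (Ne.symm hp2) (Ne.symm hq2) (Ne.symm hq3) (ha i j) (ha i l) (h ▸ hb j k)
  have hc : ∀ i j, ∃ c, c ∈ S i j ∧ c ≠ a i ∧ c ≠ b j ∧ S i j = {a i, b j, c} :=
    fun i j => (hS.tri i j).exists_third (ha i j) (hb j i) (hab i j)
  choose c hc1 hc2 hc3 hc4 using hc
  have hAB : ∀ i j, AbsNe (a i) (b j) := fun i j => (hS.tri i j).absNe (ha i j) (hb j i) (hab i j)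
  have hAA : ∀ i k, i ≠ k → AbsNe (a i) (a k) := by
    intro i k hik
    refine (hS.col i k j₀ hik).absNe (ha i j₀) (ha k j₀) ?_
    intro h
    exact hab i j₀ ((hS.col i k j₀ hik).eq_of_common (ha i j₀) h (hb j₀ i) (hb j₀ k))
  have hBB : ∀ j l, j ≠ l → AbsNe (b j) (b l) := by
    intro j l hjl
    refine (hS.row i₀ j l hjl).absNe (hb j i₀) (hb l i₀) ?_
    intro h
    exact hab i₀ j ((hS.row i₀ j l hjl).eq_of_common (ha i₀ j) (ha i₀ l) (hb j i₀) h)
  have hCA : ∀ i j k, AbsNe (c i j) (a k) := by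
    intro i j k
    by_cases hik : i = k
    · subst hik
      exact (hS.tri i j).absNe (hc1 i j) (ha i j) (hc2 i j)
    · refine (hS.col i k j hik).absNe (hc1 i j) (ha k j) ?_
      intro h
      exact hc3 i j ((hS.col i k j hik).eq_of_common (hc1 i j) h (hb j i) (hb j k))
  have hCB : ∀ i j l, AbsNe (c i j) (b l) := by
    intro i j l
    by_cases hjl : j = l
    · subst hjl
      exact (hS.tri i j).absNe (hc1 i j) (hb j i) (hc3 i j)
    · refine (hS.row i j l hjl).absNe (hc1 i j) (hb l i) ?_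
      intro h
      exact hc2 i j ((hS.row i j l hjl).eq_of_common (hc1 i j) h (ha i j) (ha i l))
  refine ⟨a, b, c, hc4, hAA, hBB, hAB, hCA, hCB, ?_⟩
  intro i j k l hne
  by_cases hik : i = k
  · subst hik
    have hjl : j ≠ l := by
      rcases hne with h | h
      · exact absurd rfl h
      · exact h
    refine (hS.row i j l hjl).absNe (hc1 i j) (hc1 i l) ?_
    intro h
    exact hc2 i j ((hS.row i j l hjl).eq_of_common (hc1 i j) h (ha i j) (ha i l))
  by_cases hjl : j = l
  · subst hjl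
    refine (hS.col i k j hik).absNe (hc1 i j) (hc1 k j) ?_
    intro h
    exact hc3 i j ((hS.col i k j hik).eq_of_common (hc1 i j) h (hb j i) (hb j k))
  -- the orthogonal case
  have q := (hS.off i k j l hik hjl).ind3 (hS.tri i j) (hc4 i j)
  have z1 := notMem3 (hc4 k l) (hAA i k hik) (hAB i l) (hCA k l i).symm
  have z2 := notMem3 (hc4 k l) (hAB k j).symm (hBB j l hjl) (hCB k l j).symm
  have b1 := (hS.tri k l).bnd [c k l]
  simp only [AllL] at b1
  have m1 := ind_of_mem (hc1 k l)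
  constructor
  · intro h
    rw [h] at q
    omega
  · intro h
    rw [h, neg_neg] at q
    omega

end Cfsg.Agent.Lib.Helper4.CTI
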