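import Mathlib
import Cfsg.Agent.Lib.Helper4.CTIf
import Cfsg.Agent.Lib.Helper4.VirtualChar
import Cfsg.Agent.Lib.Helper4.Coh1

set_option autoImplicit false
set_option linter.unusedSectionVars false
set_option linter.unusedVariables false

/-! Signed irreducible characters; a generalized character of norm three is a signed triple. -/

namespace Cfsg.Agent.Lib.Helper4.CTI

open Cfsg Cfsg.Agent.Lib.Helper1 Cfsg.Agent.Lib.Helper4
open scoped ComplexConjugate

/-- signed irreducible characters -/
structure SIrr (G : Type*) [Group G] where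
  /-- the underlying irreducible character -/
  chr : Cfsg.IrrCharacter G
  /-- the sign -/
  pos : Bool

variable {G : Type*} [Group G]

noncomputable instance instDecEqSIrr : DecidableEq (SIrr G) := Classical.decEq _

instance instNegSIrr : InvolutiveNeg (SIrr G) where
  neg e := ⟨e.chr, !e.pos⟩
  neg_neg e := by
    rcases e with ⟨χ, b⟩
    show (⟨χ, !!b⟩ : SIrr G) = ⟨χ, b⟩
    rw [Bool.not_not]

theorem SIrr.neg_chr (e : SIrr G) : (-e).chr = e.chr := rfl

theorem SIrr.neg_pos (e : SIrr G) : (-e).pos = !e.pos := rfl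

theorem SIrr.ext_iff' {e e' : SIrr G} : e = e' ↔ e.chr = e'.chr ∧ e.pos = e'.pos := by
  constructor
  · rintro rfl; exact ⟨rfl, rfl⟩
  · rcases e with ⟨χ, b⟩
    rcases e' with ⟨χ', b'⟩
    rintro ⟨h1, h2⟩
    simp only at h1 h2
    rw [h1, h2]

instance instFixFreeSIrr : FixFree (SIrr G) where
  neg_ne e h := by
    have := (SIrr.ext_iff'.1 h).2
    rw [SIrr.neg_pos] at this
    cases h2 : e.pos <;> rw [h2] at this <;> simp at this

instance instFiniteSIrr [Finite G] : Finite (SIrr G) :=
  Finite.of_injective (fun e : SIrr G => (e.chr, e.pos)) (by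
    intro e e' h
    rw [Prod.ext_iff] at h
    exact SIrr.ext_iff'.2 h)

/-- the class function of a signed irreducible character -/
noncomputable def SIrr.fn (e : SIrr G) : G → ℂ :=
  if e.pos then (e.chr : G → ℂ) else -(e.chr : G → ℂ)

theorem SIrr.fn_neg (e : SIrr G) : (-e).fn = -e.fn := by
  unfold SIrr.fn
  rw [SIrr.neg_chr, SIrr.neg_pos]
  cases e.pos <;> simp

theorem SIrr.fn_signed (e : SIrr G) : IsIrrCharacter G e.fn ∨ IsIrrCharacter G (-e.fn) := by
  unfold SIrr.fn
  cases e.pos
  · right; simp only [Bool.false_eq_true, if_false, neg_neg]; exact e.chr.2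
  · left; simp only [if_true]; exact e.chr.2

theorem SIrr.fn_one_ne (e : SIrr G) : e.fn 1 ≠ 0 := by
  unfold SIrr.fn
  have := irr_apply_one_ne_zero e.chr.2
  cases e.pos
  · simp only [Bool.false_eq_true, if_false, Pi.neg_apply, ne_eq, neg_eq_zero]; exact this
  · simp only [if_true]; exact this

theorem SIrr.fn_genChar (e : SIrr G) : IsGeneralizedCharacter G e.fn := by
  unfold SIrr.fn
  cases e.pos
  · simp only [Bool.false_eq_true, if_false]; exact isGenChar_neg (isGenChar_of_irr e.chr.2)
  · simp only [if_true]; exact isGenChar_of_irr e.chr.2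

variable [Fintype G]

theorem SIrr.fn_inner (e e' : SIrr G) :
    classInner e.fn e'.fn = if e = e' then 1 else if e = -e' then -1 else 0 := by
  rcases e with ⟨χ, b⟩
  rcases e' with ⟨χ', b'⟩
  have hirr := classInner_irr χ.2 χ'.2
  have hsub : ((χ : G → ℂ) = (χ' : G → ℂ)) ↔ χ = χ' := Subtype.ext_iff.symm
  have e1 : (⟨χ, b⟩ : SIrr G) = ⟨χ', b'⟩ ↔ χ = χ' ∧ b = b' := SIrr.ext_iff'
  have e2 : (⟨χ, b⟩ : SIrr G) = -(⟨χ', b'⟩ : SIrr G) ↔ χ = χ' ∧ b = !b' := SIrr.ext_iff'
  unfold SIrr.fn
  by_cases h : χ = χ'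
  · subst h
    rw [if_pos rfl] at hirr
    cases b <;> cases b' <;>
      simp [e1, e2, hirr, classInner_neg_left, classInner_neg_right]
  · have h' : ¬ ((χ : G → ℂ) = (χ' : G → ℂ)) := fun h2 => h (hsub.1 h2)
    rw [if_neg h'] at hirr
    cases b <;> cases b' <;>
      simp [e1, e2, h, hirr, classInner_neg_left, classInner_neg_right]

/-- the sum of a finite set of signed irreducible characters -/
noncomputable def vec (S : Finset (SIrr G)) : G → ℂ := ∑ e ∈ S, e.fn

theorem vec_genChar (S : Finset (SIrr G)) : IsGeneralizedCharacter G (vec S) :=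
  isGenChar_sum S _ fun e _ => e.fn_genChar

theorem inner_vec_fn (S : Finset (SIrr G)) (e : SIrr G) :
    classInner (vec S) e.fn = (ind S e : ℂ) - (ind S (-e) : ℂ) := by
  unfold vec
  rw [classInner_sum_left]
  simp only [SIrr.fn_inner]
  have hne : ∀ x : SIrr G, x = e → ¬ x = -e := by
    intro x h1 h2
    exact ne_neg' e (h1 ▸ h2)
  have : ∀ x : SIrr G, (if x = e then (1 : ℂ) else if x = -e then -1 else 0) =
      (if x = e then 1 else 0) - (if x = -e then 1 else 0) := by
    intro x
    by_cases h1 : x = e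
    · simp [h1, ne_neg' e]
    · by_cases h2 : x = -e
      · simp [h2, neg_ne' e]
      · simp [h1, h2]
  simp only [this, Finset.sum_sub_distrib, Finset.sum_ite_eq', ind]
  push_cast
  simp

theorem inner_fn_vec (S : Finset (SIrr G)) (e : SIrr G) :
    classInner e.fn (vec S) = (ind S e : ℂ) - (ind S (-e) : ℂ) := by
  rw [← classInner_conj_symm, inner_vec_fn]
  simp

theorem inner_vec_vec (S B : Finset (SIrr G)) :
    classInner (vec S) (vec B) = ∑ e ∈ S, ((ind B e : ℂ) - (ind B (-e) : ℂ)) := by
  conv_lhs => unfold vec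
  rw [classInner_sum_left]
  refine Finset.sum_congr rfl fun e _ => ?_
  exact inner_fn_vec B e

theorem vec_three {a b c : SIrr G} (hab : a ≠ b) (hac : a ≠ c) (hbc : b ≠ c) :
    vec ({a, b, c} : Finset (SIrr G)) = a.fn + b.fn + c.fn := by
  unfold vec
  rw [Finset.sum_insert (by simp [hab, hac]), Finset.sum_insert (by simp [hbc]),
    Finset.sum_singleton, add_assoc]

section Converse

variable {E : Type*} [DecidableEq E] [InvolutiveNeg E]

theorem Lin.of_ind3 {S B : Finset E} {a b c : E} (hS : S = {a, b, c})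
    (h1 : ind B a + ind B b + ind B c = 1) (h0 : ind B (-a) + ind B (-b) + ind B (-c) = 0) :
    Lin S B := by
  have ha : a ∈ S := by rw [hS]; simp
  have hb : b ∈ S := by rw [hS]; simp
  have hc : c ∈ S := by rw [hS]; simp
  have la := ind_le_one B a
  have lb := ind_le_one B b
  have lc := ind_le_one B c
  constructor
  · have : ind B a = 1 ∨ ind B b = 1 ∨ ind B c = 1 := by omega
    rcases this with h | h | h
    · refine ⟨a, ha, mem_of_ind h, ?_⟩
      intro x hx hxB
      rw [hS] at hx
      rcases mem3.mp hx with rfl | rfl | rfl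
      · rfl
      · have := ind_of_mem hxB; omega
      · have := ind_of_mem hxB; omega
    · refine ⟨b, hb, mem_of_ind h, ?_⟩
      intro x hx hxB
      rw [hS] at hx
      rcases mem3.mp hx with rfl | rfl | rfl
      · have := ind_of_mem hxB; omega
      · rfl
      · have := ind_of_mem hxB; omega
    · refine ⟨c, hc, mem_of_ind h, ?_⟩
      intro x hx hxB
      rw [hS] at hx
      rcases mem3.mp hx with rfl | rfl | rfl
      · have := ind_of_mem hxB; omega
      · have := ind_of_mem hxB; omega
      · rfl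
  · intro x hx hxB
    rw [hS] at hx
    have := ind_of_mem hxB
    rcases mem3.mp hx with rfl | rfl | rfl <;> omega

theorem Off.of_ind3 {S B : Finset E} {a b c : E} (hS : S = {a, b, c})
    (h1 : ind B a + ind B b + ind B c = ind B (-a) + ind B (-b) + ind B (-c))
    (h0 : ind B a + ind B b + ind B c ≤ 1) : Off S B := by
  have ha : a ∈ S := by rw [hS]; simp
  have hb : b ∈ S := by rw [hS]; simp
  have hc : c ∈ S := by rw [hS]; simp
  have la := ind_le_one B (-a)
  have lb := ind_le_one B (-b)
  have lc := ind_le_one B (-c)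
  have la' := ind_le_one B a
  have lb' := ind_le_one B b
  have lc' := ind_le_one B c
  refine ⟨?_, ?_, ?_, ?_⟩
  · intro x hx hxB
    have hpos : 1 ≤ ind B a + ind B b + ind B c := by
      rw [hS] at hx
      have := ind_of_mem hxB
      rcases mem3.mp hx with rfl | rfl | rfl <;> omega
    have : ind B (-a) = 1 ∨ ind B (-b) = 1 ∨ ind B (-c) = 1 := by omega
    rcases this with h | h | h
    · exact ⟨a, ha, mem_of_ind h⟩
    · exact ⟨b, hb, mem_of_ind h⟩
    · exact ⟨c, hc, mem_of_ind h⟩
  · intro y hy hyB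
    have hpos : 1 ≤ ind B (-a) + ind B (-b) + ind B (-c) := by
      rw [hS] at hy
      have := ind_of_mem hyB
      rcases mem3.mp hy with rfl | rfl | rfl <;> omega
    have : ind B a = 1 ∨ ind B b = 1 ∨ ind B c = 1 := by omega
    rcases this with h | h | h
    · exact ⟨a, ha, mem_of_ind h⟩
    · exact ⟨b, hb, mem_of_ind h⟩
    · exact ⟨c, hc, mem_of_ind h⟩
  · intro x hx x' hx' hxB hx'B
    rw [hS] at hx hx'
    have h3 := ind_of_mem hxB
    have h4 := ind_of_mem hx'B
    rcases mem3.mp hx with rfl | rfl | rfl <;> rcases mem3.mp hx' with rfl | rfl | rfl <;>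
      first | rfl | (exfalso; omega)
  · intro x hx x' hx' hxB hx'B
    rw [hS] at hx hx'
    have h3 := ind_of_mem hxB
    have h4 := ind_of_mem hx'B
    rcases mem3.mp hx with rfl | rfl | rfl <;> rcases mem3.mp hx' with rfl | rfl | rfl <;>
      first | rfl | (exfalso; omega)

end Converse

section Decomp

variable {G : Type*} [Group G] [Fintype G]

theorem tri_inner_self {S : Finset (SIrr G)} (tS : Tri S) : classInner (vec S) (vec S) = 3 := by
  rw [inner_vec_vec]
  have : ∀ e ∈ S, ((ind S e : ℂ) - (ind S (-e) : ℂ)) = 1 := by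
    intro e he
    rw [ind_of_mem he, ind_of_notMem (tS.neg_notMem he)]
    simp
  rw [Finset.sum_congr rfl this, Finset.sum_const, tS.1]
  simp

/-- a generalized character of norm three is the sum of a signed triple -/
theorem exists_tri {X : G → ℂ} (hX : IsGeneralizedCharacter G X) (h3 : classInner X X = 3) :
    ∃ S : Finset (SIrr G), Tri S ∧ X = vec S := by
  classical
  have : Fintype (Cfsg.IrrCharacter G) := Fintype.ofFinite _
  have hm : ∀ χ : Cfsg.IrrCharacter G, ∃ m : ℤ, Cfsg.classInner X (χ : G → ℂ) = m :=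
    fun χ => classInner_genChar_int hX (isGenChar_of_irr χ.2)
  choose m hm using hm
  have hn := genChar_norm hX m hm
  rw [h3] at hn
  have hsum : ∑ χ : Cfsg.IrrCharacter G, m χ * m χ = 3 := by exact_mod_cast hn.symm
  have hnn : ∀ i, 0 ≤ m i * m i := fun i => mul_self_nonneg _
  have hsingle : ∀ i, m i * m i ≤ 3 := by
    intro i
    rw [← hsum]
    exact Finset.single_le_sum (fun j _ => hnn j) (Finset.mem_univ i)
  have hunit : ∀ i, m i = 0 ∨ m i = 1 ∨ m i = -1 := by
    intro i
    have h2 := hsingle i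
    have h3 : -1 ≤ m i := by nlinarith
    have h4 : m i ≤ 1 := by nlinarith
    omega
  set supp : Finset (Cfsg.IrrCharacter G) := Finset.univ.filter (fun χ => m χ ≠ 0) with hsupp
  set f : Cfsg.IrrCharacter G → SIrr G := fun χ => ⟨χ, decide (m χ = 1)⟩ with hf
  have hfinj : Function.Injective f := by
    intro χ χ' h
    exact (SIrr.ext_iff'.1 h).1
  refine ⟨supp.image f, ⟨?_, ?_⟩, ?_⟩
  · rw [Finset.card_image_of_injective _ hfinj]
    have h1 : ∀ χ, m χ * m χ = if m χ ≠ 0 then 1 else 0 := by
      intro χ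
      rcases hunit χ with h | h | h <;> rw [h] <;> simp
    have h2 : (∑ χ : Cfsg.IrrCharacter G, m χ * m χ) = (supp.card : ℤ) := by
      rw [Finset.sum_congr rfl fun χ _ => h1 χ, hsupp, Finset.card_filter]
      push_cast
      rfl
    rw [hsum] at h2
    exact_mod_cast h2.symm
  · intro x hx hx'
    obtain ⟨χ, -, rfl⟩ := Finset.mem_image.1 hx
    obtain ⟨χ', -, h⟩ := Finset.mem_image.1 hx'
    have h1 := (SIrr.ext_iff'.1 h).1
    have h2 := (SIrr.ext_iff'.1 h).2
    rw [SIrr.neg_chr] at h1
    rw [SIrr.neg_pos] at h2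
    simp only [hf] at h1 h2
    rw [h1] at h2
    cases hd : decide (m χ = 1) <;> rw [hd] at h2 <;> simp at h2
  · have hexp := genChar_expansion hX m hm
    unfold vec
    rw [Finset.sum_image (fun x _ y _ h => hfinj h)]
    rw [hexp]
    symm
    rw [← Finset.sum_subset (Finset.subset_univ supp)]
    · refine Finset.sum_congr rfl fun χ hχ => ?_
      rw [hsupp, Finset.mem_filter] at hχ
      unfold SIrr.fn
      rcases hunit χ with h | h | h
      · exact absurd h hχ.2
      · simp [hf, h]
      · simp [hf, h]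
    · intro χ _ hχ
      rw [hsupp, Finset.mem_filter] at hχ
      push Not at hχ
      rw [hχ (Finset.mem_univ _)]
      simp

end Decomp

end Cfsg.Agent.Lib.Helper4.CTI
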