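import Mathlib
import Cfsg.Agent.Lib.Helper4.CTIg

set_option autoImplicit false
set_option linter.unusedSectionVars false
set_option linter.unusedVariables false

/-! A family of generalized characters of norm three with the Gram matrix of a grid is a grid of
signed triples, hence standard. -/

namespace Cfsg.Agent.Lib.Helper4.CTI

open Cfsg Cfsg.Agent.Lib.Helper1 Cfsg.Agent.Lib.Helper4
open scoped ComplexConjugate

variable {G : Type*} [Group G] [Fintype G]

theorem no_opp {S B : Finset (SIrr G)} (tS : Tri S) (tB : Tri B)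
    (h1 : classInner (vec S) (vec B) = 1) (hdeg : vec S 1 = vec B 1) {e : SIrr G} (he : e ∈ S)
    (he' : -e ∈ B) : False := by
  have hSS := tri_inner_self tS
  have hBB := tri_inner_self tB
  have hBS : classInner (vec B) (vec S) = 1 := by
    rw [← classInner_conj_symm, h1]; simp
  have hSe : classInner (vec S) e.fn = 1 := by
    rw [inner_vec_fn, ind_of_mem he, ind_of_notMem (tS.neg_notMem he)]; simp
  have heS : classInner e.fn (vec S) = 1 := by
    rw [inner_fn_vec, ind_of_mem he, ind_of_notMem (tS.neg_notMem he)]; simp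
  have hBe : classInner (vec B) e.fn = -1 := by
    rw [inner_vec_fn, ind_of_mem he', ind_of_notMem (tB.notMem_of_neg he')]; simp
  have heB : classInner e.fn (vec B) = -1 := by
    rw [inner_fn_vec, ind_of_mem he', ind_of_notMem (tB.notMem_of_neg he')]; simp
  have hee : classInner e.fn e.fn = 1 := by
    rw [SIrr.fn_inner, if_pos rfl]
  have hZ : classInner (vec S - vec B - (2 : ℂ) • e.fn) (vec S - vec B - (2 : ℂ) • e.fn) = 0 := by
    simp only [classInner_sub_left, classInner_sub_right, classInner_smul_left,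
      classInner_smul_right, hSS, hBB, h1, hBS, hSe, heS, hBe, heB, hee]
    simp
    norm_num
  have h0 := congrFun (Coh.eq_zero_of_classInner_self hZ) 1
  simp only [Pi.sub_apply, Pi.smul_apply, smul_eq_mul, Pi.zero_apply] at h0
  rw [hdeg, sub_self, zero_sub, neg_eq_zero] at h0
  rcases mul_eq_zero.1 h0 with h | h
  · norm_num at h
  · exact e.fn_one_ne h

theorem lin_of_inner {S B : Finset (SIrr G)} (tS : Tri S) (tB : Tri B)
    (h1 : classInner (vec S) (vec B) = 1) (hdeg : vec S 1 = vec B 1) : Lin S B := by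
  obtain ⟨a, b, c, hab, hac, hbc, hS⟩ := Finset.card_eq_three.mp tS.1
  have ha : a ∈ S := by rw [hS]; simp
  have hb : b ∈ S := by rw [hS]; simp
  have hc : c ∈ S := by rw [hS]; simp
  have na : ind B (-a) = 0 := ind_of_notMem fun h => no_opp tS tB h1 hdeg ha h
  have nb : ind B (-b) = 0 := ind_of_notMem fun h => no_opp tS tB h1 hdeg hb h
  have nc : ind B (-c) = 0 := ind_of_notMem fun h => no_opp tS tB h1 hdeg hc h
  rw [inner_vec_vec, hS, Finset.sum_insert (by simp [hab, hac]), Finset.sum_insert (by simp [hbc]),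
    Finset.sum_singleton, na, nb, nc] at h1
  have h2 : ind B a + ind B b + ind B c = 1 := by
    have : ((ind B a + ind B b + ind B c : ℕ) : ℂ) = ((1 : ℕ) : ℂ) := by
      push_cast
      rw [← h1]
      simp
      ring
    exact_mod_cast this
  exact Lin.of_ind3 hS h2 (by rw [na, nb, nc])

theorem off_of_inner {S B : Finset (SIrr G)} (tS : Tri S) (tB : Tri B)
    (h0 : classInner (vec S) (vec B) = 0) : Off S B := by
  obtain ⟨a, b, c, hab, hac, hbc, hS⟩ := Finset.card_eq_three.mp tS.1
  rw [inner_vec_vec, hS, Finset.sum_insert (by simp [hab, hac]), Finset.sum_insert (by simp [hbc]),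
    Finset.sum_singleton] at h0
  have h2 : ind B a + ind B b + ind B c = ind B (-a) + ind B (-b) + ind B (-c) := by
    have : ((ind B a + ind B b + ind B c : ℕ) : ℂ) =
        ((ind B (-a) + ind B (-b) + ind B (-c) : ℕ) : ℂ) := by
      push_cast
      linear_combination h0
    exact_mod_cast this
  have bd := tB.bnd [a, b, c]
  simp only [AllL] at bd
  exact Off.of_ind3 hS h2 (by omega)

/-- a family of generalized characters with the Gram matrix of a grid -/
theorem grid_of_family {I J : Type*} (X : I → J → G → ℂ)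
    (hgen : ∀ i j, IsGeneralizedCharacter G (X i j))
    (h3 : ∀ i j, classInner (X i j) (X i j) = 3)
    (hrow : ∀ i j l, j ≠ l → classInner (X i j) (X i l) = 1)
    (hcol : ∀ i k j, i ≠ k → classInner (X i j) (X k j) = 1)
    (hoff : ∀ i k j l, i ≠ k → j ≠ l → classInner (X i j) (X k l) = 0)
    (hdeg : ∀ i j k l, X i j 1 = X k l 1) :
    ∃ S : I → J → Finset (SIrr G), Grid S ∧ ∀ i j, X i j = vec (S i j) := by
  have h := fun i j => exists_tri (hgen i j) (h3 i j)
  choose S hS1 hS2 using h
  refine ⟨S, ⟨hS1, ?_, ?_, ?_⟩, hS2⟩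
  · intro i j l hjl
    refine lin_of_inner (hS1 i j) (hS1 i l) ?_ ?_
    · rw [← hS2, ← hS2]; exact hrow i j l hjl
    · rw [← hS2, ← hS2]; exact hdeg i j i l
  · intro i k j hik
    refine lin_of_inner (hS1 i j) (hS1 k j) ?_ ?_
    · rw [← hS2, ← hS2]; exact hcol i k j hik
    · rw [← hS2, ← hS2]; exact hdeg i j k j
  · intro i k j l hik hjl
    refine off_of_inner (hS1 i j) (hS1 k l) ?_
    rw [← hS2, ← hS2]; exact hoff i k j l hik hjl

end Cfsg.Agent.Lib.Helper4.CTI
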