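import Mathlib
import Cfsg.Prelude.Def_Characters
import Cfsg.Prelude.Def_OddOrderLocal
import Cfsg.Agent.Lib.Helper1.IndFun
import Cfsg.Agent.Lib.Helper1.LinearChar
import Cfsg.Agent.Lib.Helper4.Characters

set_option autoImplicit false

namespace Cfsg.Agent.Lib.Helper4

open Cfsg.Agent.Lib.Helper1
open scoped ComplexConjugate

section Lin
variable {W : Type*} [Group W]

/-- The complex-valued function of a linear character. -/
def linFn (ω : W →* ℂˣ) : W → ℂ := fun w => (ω w : ℂ)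

theorem linFn_apply (ω : W →* ℂˣ) (w : W) : linFn ω w = (ω w : ℂ) := rfl

theorem linFn_injective : Function.Injective (linFn : (W →* ℂˣ) → W → ℂ) := by
  intro ω ω' h
  ext w
  exact congrFun h w

theorem linFn_one : linFn (1 : W →* ℂˣ) = fun _ => 1 := by
  funext w; simp [linFn]

theorem linFn_mul (ω ω' : W →* ℂˣ) : linFn (ω * ω') = linFn ω * linFn ω' := by
  funext w; simp [linFn]

theorem classInner_linFn [Fintype W] (ω ω' : W →* ℂˣ) :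
    Cfsg.classInner (linFn ω) (linFn ω') = if ω = ω' then 1 else 0 := by
  classical
  have := classInner_irr (isIrrCharacter_of_hom ω) (isIrrCharacter_of_hom ω')
  show Cfsg.classInner (fun g => (ω g : ℂ)) (fun g => (ω' g : ℂ)) = _
  rw [this]
  by_cases h : ω = ω'
  · subst h; simp
  · have : ¬ ((fun g => (ω g : ℂ)) = (fun g => (ω' g : ℂ))) := fun h' => h (linFn_injective h')
    simp [h, this]

end Lin

section Sub
variable {G : Type*} [Group G] (W₁ W₂ : Subgroup G)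

theorem hom_eq_one_of_trivial (ω : ↥(W₁ ⊔ W₂) →* ℂˣ)
    (h1 : ∀ w : ↥(W₁ ⊔ W₂), (w : G) ∈ W₁ → ω w = 1)
    (h2 : ∀ w : ↥(W₁ ⊔ W₂), (w : G) ∈ W₂ → ω w = 1) : ω = 1 := by
  have hK : W₁ ⊔ W₂ ≤ (ω.ker).map (W₁ ⊔ W₂).subtype := by
    apply sup_le
    · intro a ha
      exact ⟨⟨a, le_sup_left (a := W₁) ha⟩, h1 _ ha, rfl⟩
    · intro a ha
      exact ⟨⟨a, le_sup_right (a := W₁) ha⟩, h2 _ ha, rfl⟩
  ext w
  obtain ⟨k, hk, hkw⟩ := hK w.2
  have : k = w := Subtype.ext hkw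
  rw [← this]
  have := MonoidHom.mem_ker.mp hk
  simp [this]

theorem hom_mul_eq_mul_iff (φ₁ φ₂ ψ₁ ψ₂ : ↥(W₁ ⊔ W₂) →* ℂˣ)
    (hφ₁ : ∀ w : ↥(W₁ ⊔ W₂), (w : G) ∈ W₂ → φ₁ w = 1)
    (hφ₂ : ∀ w : ↥(W₁ ⊔ W₂), (w : G) ∈ W₂ → φ₂ w = 1)
    (hψ₁ : ∀ w : ↥(W₁ ⊔ W₂), (w : G) ∈ W₁ → ψ₁ w = 1)
    (hψ₂ : ∀ w : ↥(W₁ ⊔ W₂), (w : G) ∈ W₁ → ψ₂ w = 1) :
    φ₁ * ψ₁ = φ₂ * ψ₂ ↔ φ₁ = φ₂ ∧ ψ₁ = ψ₂ := by
  constructor
  · intro h
    have hone : φ₁ / φ₂ = 1 := by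
      apply hom_eq_one_of_trivial
      · intro w hw
        have := DFunLike.congr_fun h w
        simp only [MonoidHom.mul_apply, hψ₁ w hw, hψ₂ w hw, mul_one] at this
        simp [this]
      · intro w hw
        simp [hφ₁ w hw, hφ₂ w hw]
    have e1 : φ₁ = φ₂ := div_eq_one.mp hone
    refine ⟨e1, ?_⟩
    subst e1
    exact mul_left_cancel h
  · rintro ⟨rfl, rfl⟩; rfl

end Sub

section TI
variable {G : Type*} [Group G] [Finite G] {W₁ W₂ : Subgroup G}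

theorem snc_comm (hW : Cfsg.IsSelfNormalizingCyclic W₁ W₂) {u v : G} (hu : u ∈ W₁ ⊔ W₂)
    (hv : v ∈ W₁ ⊔ W₂) : u * v = v * u := by
  haveI := hW.2.2.2.2.1
  have := (IsCyclic.isMulCommutative (α := ↥(W₁ ⊔ W₂))).is_comm.comm ⟨u, hu⟩ ⟨v, hv⟩
  exact congrArg Subtype.val this

theorem snc_normalizer_singleton (hW : Cfsg.IsSelfNormalizingCyclic W₁ W₂) {w : G}
    (hw : w ∈ W₁ ⊔ W₂) (hw1 : w ∉ W₁) (hw2 : w ∉ W₂) :
    Subgroup.normalizer ({w} : Set G) = W₁ ⊔ W₂ := by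
  apply hW.2.2.2.2.2 {w}
  · rintro _ rfl
    refine ⟨hw, ?_⟩
    rintro (h | h)
    · exact hw1 h
    · exact hw2 h
  · exact Set.singleton_nonempty w

/-- The TI property: if `w` and `x⁻¹ w x` both lie in `W \ (W₁ ∪ W₂)` then `x ∈ W`. -/
theorem snc_mem_of_conj_mem (hW : Cfsg.IsSelfNormalizingCyclic W₁ W₂) {w x : G}
    (hw : w ∈ W₁ ⊔ W₂) (hw1 : w ∉ W₁) (hw2 : w ∉ W₂) (hx : x⁻¹ * w * x ∈ W₁ ⊔ W₂)
    (hx1 : x⁻¹ * w * x ∉ W₁) (hx2 : x⁻¹ * w * x ∉ W₂) : x ∈ W₁ ⊔ W₂ := by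
  have hN' := snc_normalizer_singleton hW hx hx1 hx2
  -- conjugation by x⁻¹ maps W into W
  have hconj : ∀ u ∈ W₁ ⊔ W₂, x⁻¹ * u * x ∈ W₁ ⊔ W₂ := by
    intro u hu
    rw [← hN', Subgroup.mem_set_normalizer_iff]
    have hc : x⁻¹ * u * x * (x⁻¹ * w * x) * (x⁻¹ * u * x)⁻¹ = x⁻¹ * w * x := by
      have : u * w * u⁻¹ = w := by rw [snc_comm hW hu hw]; group
      calc x⁻¹ * u * x * (x⁻¹ * w * x) * (x⁻¹ * u * x)⁻¹ = x⁻¹ * (u * w * u⁻¹) * x := by group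
        _ = x⁻¹ * w * x := by rw [this]
    intro n
    simp only [Set.mem_singleton_iff]
    constructor
    · rintro rfl; exact hc
    · intro hn
      have h2 : x⁻¹ * u * x * n * (x⁻¹ * u * x)⁻¹ = x⁻¹ * u * x * (x⁻¹ * w * x) * (x⁻¹ * u * x)⁻¹ := by
        rw [hn, hc]
      exact mul_left_cancel (mul_right_cancel h2)
  have hmap : (W₁ ⊔ W₂).map (MulAut.conj x⁻¹).toMonoidHom = W₁ ⊔ W₂ := by
    apply Subgroup.eq_of_le_of_card_ge
    · rintro _ ⟨u, hu, rfl⟩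
      have := hconj u hu
      simpa [MulAut.conj_apply] using this
    · rw [Subgroup.card_map_of_injective (MulAut.conj x⁻¹).injective]
  -- generators
  haveI := hW.2.2.2.2.1
  obtain ⟨g₀, hg₀⟩ := IsCyclic.exists_generator (α := ↥(W₁ ⊔ W₂))
  let X : Set G := {n | Subgroup.zpowers n = W₁ ⊔ W₂}
  have hg₀X : (g₀ : G) ∈ X := by
    show Subgroup.zpowers (g₀ : G) = W₁ ⊔ W₂
    apply le_antisymm
    · rw [Subgroup.zpowers_le]; exact g₀.2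
    · intro u hu
      obtain ⟨k, hk⟩ := Subgroup.mem_zpowers_iff.mp (hg₀ ⟨u, hu⟩)
      rw [Subgroup.mem_zpowers_iff]
      refine ⟨k, ?_⟩
      have := congrArg Subtype.val hk
      simpa using this
  have hXV : X ⊆ (↑(W₁ ⊔ W₂) : Set G) \ (↑W₁ ∪ ↑W₂) := by
    intro n hn
    have hn' : Subgroup.zpowers n = W₁ ⊔ W₂ := hn
    refine ⟨?_, ?_⟩
    · show n ∈ W₁ ⊔ W₂
      rw [← hn']; exact Subgroup.mem_zpowers n
    · rintro (h | h)
      · have h3 : W₁ ⊔ W₂ ≤ W₁ := by rw [← hn', Subgroup.zpowers_le]; exact h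
        have h4 : W₂ ≤ W₁ ⊓ W₂ := le_inf (le_sup_right.trans h3) le_rfl
        rw [hW.2.2.1] at h4
        exact hW.2.1 (le_bot_iff.mp h4)
      · have h3 : W₁ ⊔ W₂ ≤ W₂ := by rw [← hn', Subgroup.zpowers_le]; exact h
        have h4 : W₁ ≤ W₁ ⊓ W₂ := le_inf le_rfl (le_sup_left.trans h3)
        rw [hW.2.2.1] at h4
        exact hW.1 (le_bot_iff.mp h4)
  have hNX := hW.2.2.2.2.2 X hXV ⟨_, hg₀X⟩
  have hxinv : x⁻¹ ∈ Subgroup.normalizer X := by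
    rw [Subgroup.mem_set_normalizer_iff]
    intro n
    have hz : Subgroup.zpowers (x⁻¹ * n * x⁻¹⁻¹) = (Subgroup.zpowers n).map (MulAut.conj x⁻¹).toMonoidHom := by
      rw [MonoidHom.map_zpowers]
      rfl
    show Subgroup.zpowers n = W₁ ⊔ W₂ ↔ Subgroup.zpowers (x⁻¹ * n * x⁻¹⁻¹) = W₁ ⊔ W₂
    rw [hz]
    constructor
    · intro h; rw [h, hmap]
    · intro h
      rw [← hmap] at h
      exact Subgroup.map_injective (MulAut.conj x⁻¹).injective h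
  rw [hNX] at hxinv
  simpa using (W₁ ⊔ W₂).inv_mem hxinv

/-- Induction from `W` of a function vanishing on `W₁ ∪ W₂` restricts to that function on
`W \ (W₁ ∪ W₂)`. -/
theorem snc_indFun_apply [Fintype G] (hW : Cfsg.IsSelfNormalizingCyclic W₁ W₂)
    (α : ↥(W₁ ⊔ W₂) → ℂ) (hα : ∀ w : ↥(W₁ ⊔ W₂), ((w : G) ∈ W₁ ∨ (w : G) ∈ W₂) → α w = 0)
    (w : ↥(W₁ ⊔ W₂)) (hw1 : (w : G) ∉ W₁) (hw2 : (w : G) ∉ W₂) :
    Cfsg.indFun (W₁ ⊔ W₂) α w = α w := by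
  classical
  rw [indFun_apply]
  have hterm : ∀ x : G, Cfsg.extendByZero (W₁ ⊔ W₂) α (x⁻¹ * w * x)
      = if x ∈ W₁ ⊔ W₂ then α w else 0 := by
    intro x
    split_ifs with hx
    · have : x⁻¹ * (w : G) * x = w := by
        rw [mul_assoc, snc_comm hW w.2 hx]; group
      rw [this, extendByZero_coe]
    · by_cases hm : x⁻¹ * (w : G) * x ∈ W₁ ⊔ W₂
      · rw [extendByZero_of_mem _ _ hm]
        apply hα
        by_contra hcon
        push Not at hcon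
        exact hx (snc_mem_of_conj_mem hW w.2 hw1 hw2 hm hcon.1 hcon.2)
      · exact extendByZero_of_notMem _ _ hm
  rw [Finset.sum_congr rfl fun x _ => hterm x, Finset.sum_ite, Finset.sum_const_zero, add_zero,
    Finset.sum_const, nsmul_eq_mul]
  have hc : (Finset.univ.filter (fun x : G => x ∈ W₁ ⊔ W₂)).card = Nat.card ↥(W₁ ⊔ W₂) := by
    rw [Nat.card_eq_fintype_card, Fintype.card_subtype]
  rw [hc]
  have h0 : (Nat.card ↥(W₁ ⊔ W₂) : ℂ) ≠ 0 := Nat.cast_ne_zero.mpr Nat.card_pos.ne'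
  field_simp

end TI

end Cfsg.Agent.Lib.Helper4
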