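import Mathlib
import Cfsg.Prelude.Def_Characters
import Cfsg.Prelude.Def_OddOrderLocal
import Cfsg.Agent.Lib.Helper4.CyclicTI
import Cfsg.Agent.Lib.Helper4.CyclicUnique
import Cfsg.Agent.Lib.Lead.CoprimeTools

set_option autoImplicit false

namespace Cfsg.Agent.Lib.Helper4

section CTI2
variable {G : Type*} [Group G] [Finite G] {W₁ W₂ : Subgroup G}

theorem snc_card_sup (hW : Cfsg.IsSelfNormalizingCyclic W₁ W₂) :
    Nat.card ↥(W₁ ⊔ W₂) = Nat.card W₁ * Nat.card W₂ := by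
  apply Cfsg.Agent.Lib.Lead.card_sup_of_disjoint W₁ W₂ _ hW.2.2.1
  intro a ha
  rw [Subgroup.mem_normalizer_iff]
  intro b
  constructor
  · intro hb
    have := hW.2.2.2.1 a ha b hb
    rw [this, mul_inv_cancel_right]
    exact hb
  · intro hb
    have h1 := hW.2.2.2.1 a⁻¹ (inv_mem ha) _ hb
    have h2 : b = a⁻¹ * (a * b * a⁻¹) * a := by group
    rw [h2, h1, inv_mul_cancel_right]
    exact hb

theorem snc_coprime (hW : Cfsg.IsSelfNormalizingCyclic W₁ W₂) :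
    Nat.Coprime (Nat.card W₁) (Nat.card W₂) := by
  rw [Nat.coprime_iff_gcd_eq_one]
  by_contra hne
  obtain ⟨p, hp, hpd⟩ := Nat.exists_prime_and_dvd hne
  have : Fact p.Prime := ⟨hp⟩
  have hp1 : p ∣ Nat.card W₁ := hpd.trans (Nat.gcd_dvd_left _ _)
  have hp2 : p ∣ Nat.card W₂ := hpd.trans (Nat.gcd_dvd_right _ _)
  obtain ⟨x, hx⟩ := exists_prime_orderOf_dvd_card' p hp1
  obtain ⟨y, hy⟩ := exists_prime_orderOf_dvd_card' p hp2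
  have hxo : orderOf (x : G) = p := by rw [Subgroup.orderOf_coe, hx]
  have hyo : orderOf (y : G) = p := by rw [Subgroup.orderOf_coe, hy]
  have heq : Subgroup.zpowers (x : G) = Subgroup.zpowers (y : G) := by
    apply subgroup_eq_of_card_eq_of_le_cyclic (W₁ ⊔ W₂) _ _ hW.2.2.2.2.1
    · rw [Subgroup.zpowers_le]
      exact le_sup_left (a := W₁) x.2
    · rw [Subgroup.zpowers_le]
      exact le_sup_right (a := W₁) y.2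
    · rw [Nat.card_zpowers, Nat.card_zpowers, hxo, hyo]
  have hx2 : (x : G) ∈ W₂ := by
    have : (x : G) ∈ Subgroup.zpowers (y : G) := by
      rw [← heq]
      exact Subgroup.mem_zpowers _
    exact (Subgroup.zpowers_le.2 y.2) this
  have hx1 : (x : G) ∈ W₁ ⊓ W₂ := ⟨x.2, hx2⟩
  rw [hW.2.2.1, Subgroup.mem_bot] at hx1
  rw [hx1, orderOf_one] at hxo
  exact hp.one_lt.ne hxo

/-- Every linear character of `W₁ × W₂` factors as a product of one trivial on `W₂` and one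
trivial on `W₁`. -/
theorem snc_hom_decomp (hW : Cfsg.IsSelfNormalizingCyclic W₁ W₂) (ω : ↥(W₁ ⊔ W₂) →* ℂˣ) :
    ∃ φ ψ : ↥(W₁ ⊔ W₂) →* ℂˣ, (∀ w : ↥(W₁ ⊔ W₂), (w : G) ∈ W₂ → φ w = 1) ∧
      (∀ w : ↥(W₁ ⊔ W₂), (w : G) ∈ W₁ → ψ w = 1) ∧ ω = φ * ψ := by
  have hcop := snc_coprime hW
  obtain ⟨e₁, he₁a, he₁b⟩ := Nat.chineseRemainder hcop 1 0
  obtain ⟨e₂, he₂a, he₂b⟩ := Nat.chineseRemainder hcop 0 1
  have hpow : ∀ (w : ↥(W₁ ⊔ W₂)) (H : Subgroup G) (e : ℕ), (w : G) ∈ H → e ≡ 0 [MOD Nat.card H] →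
      w ^ e = 1 := by
    intro w H e hw he
    apply Subtype.ext
    rw [Subgroup.coe_pow, Subgroup.coe_one]
    have h1 : orderOf (w : G) ∣ Nat.card H := by
      have : orderOf (⟨(w : G), hw⟩ : H) ∣ Nat.card H := orderOf_dvd_natCard _
      rwa [← Subgroup.orderOf_coe] at this
    have h2 : Nat.card H ∣ e := (Nat.modEq_zero_iff_dvd).1 he
    exact orderOf_dvd_iff_pow_eq_one.1 (h1.trans h2)
  refine ⟨ω ^ e₁, ω ^ e₂, ?_, ?_, ?_⟩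
  · intro w hw
    rw [MonoidHom.pow_apply, ← map_pow, hpow w W₂ e₁ hw he₁b, map_one]
  · intro w hw
    rw [MonoidHom.pow_apply, ← map_pow, hpow w W₁ e₂ hw he₂a, map_one]
  · ext w
    rw [MonoidHom.mul_apply, MonoidHom.pow_apply, MonoidHom.pow_apply, ← pow_add, ← map_pow]
    congr 2
    have h1 : e₁ + e₂ ≡ 1 [MOD Nat.card W₁] := by
      have := he₁a.add he₂a
      simpa using this
    have h2 : e₁ + e₂ ≡ 1 [MOD Nat.card W₂] := by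
      have := he₁b.add he₂b
      simpa using this
    have h3 : e₁ + e₂ ≡ 1 [MOD Nat.card W₁ * Nat.card W₂] :=
      (Nat.modEq_and_modEq_iff_modEq_mul hcop).1 ⟨h1, h2⟩
    rw [← snc_card_sup hW] at h3
    conv_lhs => rw [← pow_one w]
    rw [pow_eq_pow_iff_modEq]
    exact (h3.of_dvd (orderOf_dvd_natCard w)).symm

theorem snc_mem_sup (hW : Cfsg.IsSelfNormalizingCyclic W₁ W₂) {g : G} (hg : g ∈ W₁ ⊔ W₂) :
    ∃ a ∈ W₁, ∃ b ∈ W₂, g = a * b := by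
  let K : Subgroup G :=
    { carrier := {g | ∃ a ∈ W₁, ∃ b ∈ W₂, g = a * b}
      one_mem' := ⟨1, W₁.one_mem, 1, W₂.one_mem, (mul_one 1).symm⟩
      mul_mem' := by
        rintro _ _ ⟨a, ha, b, hb, rfl⟩ ⟨a', ha', b', hb', rfl⟩
        refine ⟨a * a', W₁.mul_mem ha ha', b * b', W₂.mul_mem hb hb', ?_⟩
        have := hW.2.2.2.1 a' ha' b hb
        calc a * b * (a' * b') = a * (b * a') * b' := by group
          _ = a * (a' * b) * b' := by rw [this]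
          _ = a * a' * (b * b') := by group
      inv_mem' := by
        rintro _ ⟨a, ha, b, hb, rfl⟩
        refine ⟨a⁻¹, W₁.inv_mem ha, b⁻¹, W₂.inv_mem hb, ?_⟩
        have := hW.2.2.2.1 a⁻¹ (W₁.inv_mem ha) b⁻¹ (W₂.inv_mem hb)
        rw [mul_inv_rev, this] }
  have hle : W₁ ⊔ W₂ ≤ K := by
    apply sup_le
    · intro a ha
      exact ⟨a, ha, 1, W₂.one_mem, (mul_one a).symm⟩
    · intro b hb
      exact ⟨1, W₁.one_mem, b, hb, (one_mul b).symm⟩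
  exact hle hg

/-- The linear characters of `W₁ ⊔ W₂` trivial on a subgroup `V` are at most `|W|/…` many: here
we bound them by the exponent killing them. -/
theorem snc_card_le_of_pow (hW : Cfsg.IsSelfNormalizingCyclic W₁ W₂) (n : ℕ) (hn : 0 < n)
    (S : Set (↥(W₁ ⊔ W₂) →* ℂˣ)) (hS : ∀ φ ∈ S, φ ^ n = 1) : Nat.card S ≤ n := by
  classical
  have := hW.2.2.2.2.1
  let _ : CommGroup ↥(W₁ ⊔ W₂) := IsCyclic.commGroup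
  have hne : NeZero (Monoid.exponent ↥(W₁ ⊔ W₂)) := ⟨Monoid.exponent_ne_zero_of_finite⟩
  obtain ⟨e⟩ := CommGroup.monoidHom_mulEquiv_of_hasEnoughRootsOfUnity ↥(W₁ ⊔ W₂) ℂ
  have : IsCyclic (↥(W₁ ⊔ W₂) →* ℂˣ) := isCyclic_of_surjective e.symm e.symm.surjective
  have : Fintype (↥(W₁ ⊔ W₂) →* ℂˣ) := Fintype.ofFinite _
  have h1 := IsCyclic.card_pow_eq_one_le (α := ↥(W₁ ⊔ W₂) →* ℂˣ) hn
  refine le_trans ?_ h1
  rw [Nat.card_eq_fintype_card, Fintype.card_subtype]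
  apply Finset.card_le_card
  intro φ hφ
  rw [Finset.mem_filter] at hφ ⊢
  exact ⟨Finset.mem_univ _, hS φ hφ.2⟩

theorem snc_card_hom (hW : Cfsg.IsSelfNormalizingCyclic W₁ W₂) :
    Nat.card (↥(W₁ ⊔ W₂) →* ℂˣ) = Nat.card W₁ * Nat.card W₂ := by
  have := hW.2.2.2.2.1
  let _ : CommGroup ↥(W₁ ⊔ W₂) := IsCyclic.commGroup
  have hne : NeZero (Monoid.exponent ↥(W₁ ⊔ W₂)) := ⟨Monoid.exponent_ne_zero_of_finite⟩
  rw [CommGroup.card_monoidHom_of_hasEnoughRootsOfUnity ↥(W₁ ⊔ W₂) ℂ, snc_card_sup hW]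

/-- The pairs `(φ, ψ)` with `φ` trivial on `W₂` and `ψ` trivial on `W₁` parametrize all linear
characters. -/
noncomputable def sncEquiv (hW : Cfsg.IsSelfNormalizingCyclic W₁ W₂) :
    {φ : ↥(W₁ ⊔ W₂) →* ℂˣ // ∀ w : ↥(W₁ ⊔ W₂), (w : G) ∈ W₂ → φ w = 1} ×
      {ψ : ↥(W₁ ⊔ W₂) →* ℂˣ // ∀ w : ↥(W₁ ⊔ W₂), (w : G) ∈ W₁ → ψ w = 1}
      ≃ (↥(W₁ ⊔ W₂) →* ℂˣ) :=
  Equiv.ofBijective (fun p => p.1.1 * p.2.1) (by
    constructor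
    · rintro ⟨⟨φ₁, h1⟩, ⟨ψ₁, h2⟩⟩ ⟨⟨φ₂, h3⟩, ⟨ψ₂, h4⟩⟩ h
      obtain ⟨rfl, rfl⟩ := (hom_mul_eq_mul_iff W₁ W₂ φ₁ φ₂ ψ₁ ψ₂ h1 h3 h2 h4).1 h
      rfl
    · intro ω
      obtain ⟨φ, ψ, h1, h2, rfl⟩ := snc_hom_decomp hW ω
      exact ⟨(⟨φ, h1⟩, ⟨ψ, h2⟩), rfl⟩)

theorem sncEquiv_apply (hW : Cfsg.IsSelfNormalizingCyclic W₁ W₂)
    (p : {φ : ↥(W₁ ⊔ W₂) →* ℂˣ // ∀ w : ↥(W₁ ⊔ W₂), (w : G) ∈ W₂ → φ w = 1} ×
      {ψ : ↥(W₁ ⊔ W₂) →* ℂˣ // ∀ w : ↥(W₁ ⊔ W₂), (w : G) ∈ W₁ → ψ w = 1}) :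
    sncEquiv hW p = p.1.1 * p.2.1 := rfl

theorem snc_card_triv (hW : Cfsg.IsSelfNormalizingCyclic W₁ W₂) :
    Nat.card {φ : ↥(W₁ ⊔ W₂) →* ℂˣ // ∀ w : ↥(W₁ ⊔ W₂), (w : G) ∈ W₂ → φ w = 1} = Nat.card W₁ ∧
    Nat.card {ψ : ↥(W₁ ⊔ W₂) →* ℂˣ // ∀ w : ↥(W₁ ⊔ W₂), (w : G) ∈ W₁ → ψ w = 1} = Nat.card W₂ := by
  have hmem : ∀ (w : ↥(W₁ ⊔ W₂)), ∃ a ∈ W₁, ∃ b ∈ W₂, (w : G) = a * b := by
    intro w
    exact snc_mem_sup hW w.2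
  have hpowcard : ∀ (H : Subgroup G) (x : G), x ∈ H → x ^ Nat.card H = 1 := by
    intro H x hx
    have : (⟨x, hx⟩ : H) ^ Nat.card H = 1 := pow_card_eq_one'
    exact congrArg Subtype.val this
  have h1 : Nat.card {φ : ↥(W₁ ⊔ W₂) →* ℂˣ // ∀ w : ↥(W₁ ⊔ W₂), (w : G) ∈ W₂ → φ w = 1}
      ≤ Nat.card W₁ := by
    apply snc_card_le_of_pow hW (Nat.card W₁) Nat.card_pos
      {φ : ↥(W₁ ⊔ W₂) →* ℂˣ | ∀ w : ↥(W₁ ⊔ W₂), (w : G) ∈ W₂ → φ w = 1}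
    intro φ hφ
    ext w
    obtain ⟨a, ha, b, hb, hab⟩ := hmem w
    have hw : w = ⟨a, le_sup_left (a := W₁) ha⟩ * ⟨b, le_sup_right (a := W₁) hb⟩ :=
      Subtype.ext hab
    rw [MonoidHom.pow_apply, MonoidHom.one_apply, hw, map_mul, hφ ⟨b, _⟩ hb, mul_one, ← map_pow]
    have : (⟨a, le_sup_left (a := W₁) ha⟩ : ↥(W₁ ⊔ W₂)) ^ Nat.card W₁ = 1 :=
      Subtype.ext (hpowcard W₁ a ha)
    rw [this, map_one]
  have h2 : Nat.card {ψ : ↥(W₁ ⊔ W₂) →* ℂˣ // ∀ w : ↥(W₁ ⊔ W₂), (w : G) ∈ W₁ → ψ w = 1}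
      ≤ Nat.card W₂ := by
    apply snc_card_le_of_pow hW (Nat.card W₂) Nat.card_pos
      {ψ : ↥(W₁ ⊔ W₂) →* ℂˣ | ∀ w : ↥(W₁ ⊔ W₂), (w : G) ∈ W₁ → ψ w = 1}
    intro ψ hψ
    ext w
    obtain ⟨a, ha, b, hb, hab⟩ := hmem w
    have hw : w = ⟨a, le_sup_left (a := W₁) ha⟩ * ⟨b, le_sup_right (a := W₁) hb⟩ :=
      Subtype.ext hab
    rw [MonoidHom.pow_apply, MonoidHom.one_apply, hw, map_mul, hψ ⟨a, _⟩ ha, one_mul, ← map_pow]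
    have : (⟨b, le_sup_right (a := W₁) hb⟩ : ↥(W₁ ⊔ W₂)) ^ Nat.card W₂ = 1 :=
      Subtype.ext (hpowcard W₂ b hb)
    rw [this, map_one]
  have h3 := Nat.card_congr (sncEquiv hW)
  rw [Nat.card_prod, snc_card_hom hW] at h3
  have hp1 : 0 < Nat.card W₁ := Nat.card_pos
  have hp2 : 0 < Nat.card W₂ := Nat.card_pos
  constructor
  · apply le_antisymm h1
    by_contra hlt
    push Not at hlt
    have : Nat.card {φ : ↥(W₁ ⊔ W₂) →* ℂˣ // ∀ w : ↥(W₁ ⊔ W₂), (w : G) ∈ W₂ → φ w = 1} *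
        Nat.card {ψ : ↥(W₁ ⊔ W₂) →* ℂˣ // ∀ w : ↥(W₁ ⊔ W₂), (w : G) ∈ W₁ → ψ w = 1}
        < Nat.card W₁ * Nat.card W₂ := Nat.mul_lt_mul_of_lt_of_le hlt h2 hp2
    omega
  · apply le_antisymm h2
    by_contra hlt
    push Not at hlt
    have : Nat.card {φ : ↥(W₁ ⊔ W₂) →* ℂˣ // ∀ w : ↥(W₁ ⊔ W₂), (w : G) ∈ W₂ → φ w = 1} *
        Nat.card {ψ : ↥(W₁ ⊔ W₂) →* ℂˣ // ∀ w : ↥(W₁ ⊔ W₂), (w : G) ∈ W₁ → ψ w = 1}
        < Nat.card W₁ * Nat.card W₂ := Nat.mul_lt_mul_of_le_of_lt h1 hlt hp1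
    omega

end CTI2

end Cfsg.Agent.Lib.Helper4
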