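import Mathlib
import Cfsg.Prelude.Def_Characters
import Cfsg.Agent.Lib.Helper4.Gallagher
import Cfsg.Agent.Lib.Helper8.Deflation
import Cfsg.Agent.S0161

set_option autoImplicit false

namespace Cfsg.Agent.Lib.Helper4

open Cfsg.Agent.Lib.Helper1
open scoped ComplexConjugate

section Compl
variable {G : Type*} [Group G] [Fintype G] (N : Subgroup G) [hN : N.Normal]

/-- If all irreducible constituents of `θ^G` have the same multiplicity `e` and `N` has a
complement, then `e` divides `θ(1)`. -/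
theorem uniform_mult_dvd_degree (θ : N → ℂ) (hθ : Cfsg.IsIrrCharacter N θ) (e : ℕ)
    (hgal : ∀ ψ : G → ℂ, Cfsg.IsIrrCharacter G ψ → Cfsg.classInner (Cfsg.indFun N θ) ψ ≠ 0 →
      Cfsg.classInner (Cfsg.indFun N θ) ψ = e)
    (A : Subgroup G) (hA : A ⊓ N = ⊥) (hcard : Nat.card A * Nat.card N = Nat.card G)
    (k : ℕ) (hk : θ 1 = k) : e ∣ k := by
  classical
  have : Fintype A := Fintype.ofFinite A
  have : Fintype (Cfsg.IrrCharacter G) := Fintype.ofFinite _
  set Θ : G → ℂ := Cfsg.indFun N θ with hΘ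
  have hΘc : Cfsg.IsCharacter G Θ := Cfsg.Agent.S0148.result N θ (isCharacter_of_irr hθ)
  have hN0 : (Nat.card N : ℂ) ≠ 0 := Nat.cast_ne_zero.2 Nat.card_pos.ne'
  have hA0 : (Nat.card A : ℂ) ≠ 0 := Nat.cast_ne_zero.2 Nat.card_pos.ne'
  have hr : ∀ ψ : Cfsg.IrrCharacter G, ∃ r : ℕ,
      Cfsg.classInner (fun a : A => (ψ : G → ℂ) a) (fun _ => (1 : ℂ)) = r := fun ψ =>
    classInner_char_nat (Cfsg.Agent.S0148.isCharacter_restrict A (isCharacter_of_irr ψ.2))
      (isCharacter_of_irr Cfsg.Agent.S0161.isIrrCharacter_one)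
  choose r hr using hr
  have hexp := class_function_expansion Θ (isClassFunction_of_isCharacter hΘc)
  have hres : (fun a : A => Θ a)
      = ∑ ψ : Cfsg.IrrCharacter G, Cfsg.classInner Θ (ψ : G → ℂ) • (fun a : A => (ψ : G → ℂ) a) := by
    funext a
    conv_lhs => rw [hexp]
    simp only [Finset.sum_apply, Pi.smul_apply]
  have h1 : Cfsg.classInner (fun a : A => Θ a) (fun _ => (1 : ℂ))
      = ((e * ∑ ψ ∈ Finset.univ.filter
          (fun ψ : Cfsg.IrrCharacter G => Cfsg.classInner Θ (ψ : G → ℂ) ≠ 0), r ψ : ℕ) : ℂ) := by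
    rw [hres, classInner_sum_left]
    push_cast
    rw [Finset.mul_sum, Finset.sum_filter]
    refine Finset.sum_congr rfl fun ψ _ => ?_
    rw [classInner_smul_left, hr]
    split_ifs with h
    · rw [hgal ψ ψ.2 h]
    · push Not at h
      rw [h, zero_mul]
  have h2 : Cfsg.classInner (fun a : A => Θ a) (fun _ => (1 : ℂ)) = (k : ℂ) := by
    unfold Cfsg.classInner
    have h3 : ∀ a : A, a ≠ 1 → Θ a * conj (1 : ℂ) = 0 := by
      intro a ha
      have : (a : G) ∉ N := by
        intro hmem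
        apply ha
        have : (a : G) ∈ A ⊓ N := ⟨a.2, hmem⟩
        rw [hA, Subgroup.mem_bot] at this
        exact Subtype.ext this
      rw [hΘ, indFun_normal_of_notMem N θ this, zero_mul]
    rw [Finset.sum_eq_single (1 : A) (fun a _ ha => h3 a ha) (fun h => absurd (Finset.mem_univ _) h)]
    rw [map_one, mul_one, Subgroup.coe_one, hΘ, Cfsg.Agent.S0170.indFun_one, hk]
    have : (Nat.card G : ℂ) = (Nat.card A : ℂ) * (Nat.card N : ℂ) := by
      rw [← Nat.cast_mul, hcard]
    rw [this]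
    field_simp
  rw [h1] at h2
  have h4 : e * ∑ ψ ∈ Finset.univ.filter
      (fun ψ : Cfsg.IrrCharacter G => Cfsg.classInner Θ (ψ : G → ℂ) ≠ 0), r ψ = k := by
    exact_mod_cast h2
  exact ⟨_, h4.symm⟩

end Compl

end Cfsg.Agent.Lib.Helper4
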