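import Mathlib
import Cfsg.Agent.Lib.Lead.CoprimeAction

set_option autoImplicit false

namespace Cfsg.Agent.Lib.Helper4

open Cfsg.Agent.Lib.Lead
open scoped Pointwise

variable {G : Type*} [Group G] [Finite G]

/-- Glauberman's lemma for conjugacy classes, cyclic case: if `x` normalizes `H`, has order
coprime to `|H|`, and maps `k₀ ∈ H` to an `H`-conjugate of `k₀`, then `x` centralizes some
`H`-conjugate of `k₀`. -/
theorem coprime_fixed_class_elt (H : Subgroup G) (x : G)
    (hx : x ∈ Subgroup.normalizer (H : Set G)) (hcop : (orderOf x).Coprime (Nat.card H))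
    (k₀ : G) (hk₀ : k₀ ∈ H) (m : G) (hm : m ∈ H) (hfix : x * k₀ * x⁻¹ = m * k₀ * m⁻¹) :
    ∃ u ∈ H, x * (u * k₀ * u⁻¹) * x⁻¹ = u * k₀ * u⁻¹ := by
  classical
  set A : Subgroup G := Subgroup.zpowers x with hA
  have hAcard : Nat.card A = orderOf x := Nat.card_zpowers x
  have hAK : A ≤ Subgroup.normalizer (H : Set G) := by
    rw [hA, Subgroup.zpowers_le]; exact hx
  have hcop' : (Nat.card A).Coprime (Nat.card H) := by rw [hAcard]; exact hcop
  have hdisj : A ⊓ H = ⊥ := (Subgroup.disjoint_of_coprime_natCard hcop').eq_bot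
  have hsolv : Group.IsSolvable A := by
    haveI : IsMulCommutative A := by rw [hA]; infer_instance
    exact isSolvable_of_comm (fun a b => mul_comm' a b)
  set Cen : Subgroup G := Subgroup.centralizer ({k₀} : Set G) with hCen
  set L : Subgroup G := A ⊔ H with hL
  have hLN : L ≤ Subgroup.normalizer (H : Set G) := sup_le hAK Subgroup.le_normalizer
  have hLcard : Nat.card L = Nat.card A * Nat.card H := card_sup_of_disjoint A H hAK hdisj
  -- y = m⁻¹ x centralizes k₀
  set y : G := m⁻¹ * x with hy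
  have hyC : y ∈ Cen := by
    rw [hCen, Subgroup.mem_centralizer_iff]
    intro z hz
    rw [Set.mem_singleton_iff] at hz
    subst hz
    have : y * z * y⁻¹ = z := by
      calc y * z * y⁻¹ = m⁻¹ * (x * z * x⁻¹) * m := by rw [hy]; group
        _ = m⁻¹ * (m * z * m⁻¹) * m := by rw [hfix]
        _ = z := by group
    calc z * y = (y * z * y⁻¹) * y := by rw [this]
      _ = y * z := by group
  have hyL : y ∈ L := by
    rw [hy]
    exact L.mul_mem (L.inv_mem (le_sup_right (a := A) hm)) (le_sup_left (b := H) (Subgroup.mem_zpowers x))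
  set C : Subgroup G := L ⊓ Cen with hC
  set M' : Subgroup G := H ⊓ Cen with hM'
  have hM'C : M' ≤ C := inf_le_inf_right _ le_sup_right
  have hCN : C ≤ Subgroup.normalizer (M' : Set G) := by
    refine le_trans ?_ Subgroup.inf_normalizer_le_normalizer_inf
    exact le_inf (inf_le_left.trans hLN) (inf_le_right.trans Subgroup.le_normalizer)
  -- C ⊔ H = L
  have hCH : C ⊔ H = L := by
    apply le_antisymm
    · exact sup_le inf_le_left le_sup_right
    · apply sup_le
      · rw [hA, Subgroup.zpowers_le]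
        have : x = m * y := by rw [hy]; group
        rw [this]
        exact Subgroup.mul_mem _ (Subgroup.mem_sup_right hm) (Subgroup.mem_sup_left ⟨hyL, hyC⟩)
      · exact le_sup_right
  have hCinfH : C ⊓ H = M' := by
    rw [hC, hM']
    ext z
    simp only [Subgroup.mem_inf]
    constructor
    · rintro ⟨⟨_, h2⟩, h3⟩; exact ⟨h3, h2⟩
    · rintro ⟨h1, h2⟩; exact ⟨⟨le_sup_right (a := A) h1, h2⟩, h1⟩
  have hCcard : Nat.card A * Nat.card M' = Nat.card C := by
    have h1 := card_sup_mul_card_inf C H (inf_le_left.trans hLN)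
    rw [hCH, hCinfH, hLcard] at h1
    have hHpos : 0 < Nat.card H := Nat.card_pos
    have : Nat.card H * (Nat.card A * Nat.card M') = Nat.card H * Nat.card C := by
      rw [← mul_assoc, mul_comm (Nat.card H) (Nat.card A), h1, mul_comm]
    exact Nat.eq_of_mul_eq_mul_left hHpos this
  have hcopM : (Nat.card A).Coprime (Nat.card M') :=
    Nat.Coprime.coprime_dvd_right (Subgroup.card_dvd_of_le inf_le_left) hcop'
  obtain ⟨B, hBC, hBcard⟩ := sz_exists_internal M' C hM'C hCN (Nat.card A) hCcard hcopM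
  obtain ⟨u, huH, hu⟩ := coprime_conj_complement A H hAK hcop' (Or.inl hsolv) B
    (hBC.trans inf_le_left) hBcard
  refine ⟨u⁻¹, H.inv_mem huH, ?_⟩
  have hxB : u * x * u⁻¹ ∈ B := by
    rw [← hu, mem_conj_smul_iff']
    have : u⁻¹ * (u * x * u⁻¹) * u = x := by group
    rw [this]
    exact Subgroup.mem_zpowers x
  have hcen : u * x * u⁻¹ ∈ Cen := (hBC hxB).2
  rw [hCen, Subgroup.mem_centralizer_iff] at hcen
  have h1 := hcen k₀ rfl
  -- k₀ * (u x u⁻¹) = (u x u⁻¹) * k₀
  calc x * (u⁻¹ * k₀ * u⁻¹⁻¹) * x⁻¹ = u⁻¹ * ((u * x * u⁻¹) * k₀) * u * x⁻¹ := by group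
    _ = u⁻¹ * (k₀ * (u * x * u⁻¹)) * u * x⁻¹ := by rw [h1]
    _ = u⁻¹ * k₀ * u⁻¹⁻¹ := by group

end Cfsg.Agent.Lib.Helper4
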