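import Mathlib
import Cfsg.Agent.Lib.Helper4.CoprimeClass
import Cfsg.Agent.Lib.Lead.CoprimeAction
import Cfsg.Agent.Lib.Lead.HallTools

set_option autoImplicit false

/-! Glauberman's lemma on fixed elements of conjugacy classes, injectivity part (cyclic case). -/

namespace Cfsg.Agent.Lib.Helper4

open Cfsg.Agent.Lib.Lead
open Pointwise

variable {G : Type*} [Group G] [Finite G]

/-- If `x` normalizes `H`, has order coprime to `|H|`, and `k₁, k₂ ∈ H` are centralized by `x` and
`H`-conjugate, then they are conjugate by an element of `C_H(x)`. -/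
theorem coprime_conj_in_centralizer (H : Subgroup G) (x : G)
    (hx : x ∈ Subgroup.normalizer (H : Set G)) (hcop : (orderOf x).Coprime (Nat.card H))
    (k₁ k₂ : G) (h1 : x * k₁ = k₁ * x) (h2 : x * k₂ = k₂ * x)
    (u : G) (hu : u ∈ H) (hconj : u * k₁ * u⁻¹ = k₂) :
    ∃ c ∈ H, x * c = c * x ∧ c * k₁ * c⁻¹ = k₂ := by
  classical
  set A : Subgroup G := Subgroup.zpowers x with hA
  have hAcard : Nat.card A = orderOf x := Nat.card_zpowers x
  have hAH : A ≤ Subgroup.normalizer (H : Set G) := by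
    rw [hA, Subgroup.zpowers_le]; exact hx
  have hcop' : (Nat.card A).Coprime (Nat.card H) := by rw [hAcard]; exact hcop
  have hdisj : A ⊓ H = ⊥ := (Subgroup.disjoint_of_coprime_natCard hcop').eq_bot
  have hsolv : Group.IsSolvable A := by
    haveI : IsMulCommutative A := by rw [hA]; infer_instance
    exact isSolvable_of_comm (fun a b => mul_comm' a b)
  -- elements of `A` centralize `k₁` and `k₂`
  have hAk : ∀ a ∈ A, ∀ k : G, x * k = k * x → a * k = k * a := by
    intro a ha k hk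
    rw [hA, Subgroup.mem_zpowers_iff] at ha
    obtain ⟨i, rfl⟩ := ha
    exact ((show Commute x k from hk).zpow_left i).eq
  set D : Subgroup G := H ⊓ Subgroup.centralizer ({k₁} : Set G) with hD
  have hAD : A ≤ Subgroup.normalizer (D : Set G) := by
    refine le_trans ?_ Subgroup.inf_normalizer_le_normalizer_inf
    refine le_inf hAH ?_
    intro a ha
    apply Subgroup.le_normalizer
    rw [Subgroup.mem_centralizer_iff]
    intro y hy
    rw [Set.mem_singleton_iff] at hy
    subst hy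
    exact (hAk a ha y h1).symm
  have hcopD : (Nat.card A).Coprime (Nat.card D) :=
    Nat.Coprime.coprime_dvd_right (Subgroup.card_dvd_of_le inf_le_left) hcop'
  -- the conjugate `u⁻¹ A u`
  have hB : MulAut.conj u⁻¹ • A ≤ A ⊔ D := by
    intro y hy
    rw [mem_conj_smul_iff', inv_inv] at hy
    -- y = u⁻¹ a u with a = u y u⁻¹ ∈ A
    set a := u * y * u⁻¹ with ha
    have hy' : y = (u⁻¹ * (a * u * a⁻¹)) * a := by rw [ha]; group
    rw [hy']
    refine Subgroup.mul_mem _ (Subgroup.mem_sup_right ?_) (Subgroup.mem_sup_left hy)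
    refine Subgroup.mem_inf.mpr ⟨?_, ?_⟩
    · have h3 : a * u * a⁻¹ ∈ H := (Subgroup.mem_normalizer_iff.mp (hAH hy) u).mp hu
      exact H.mul_mem (H.inv_mem hu) h3
    · rw [Subgroup.mem_centralizer_iff]
      intro z hz
      rw [Set.mem_singleton_iff] at hz
      subst hz
      have hak1 := hAk a hy z h1
      have hak2 := hAk a hy k₂ h2
      have hak1' : a⁻¹ * z = z * a⁻¹ := (show Commute a z from hak1).inv_left.eq
      -- (a u a⁻¹) z (a u a⁻¹)⁻¹ = k₂ = u z u⁻¹
      have h4 : (a * u * a⁻¹) * z * (a * u * a⁻¹)⁻¹ = k₂ := by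
        calc (a * u * a⁻¹) * z * (a * u * a⁻¹)⁻¹ = a * u * (a⁻¹ * z) * a * u⁻¹ * a⁻¹ := by group
          _ = a * u * (z * a⁻¹) * a * u⁻¹ * a⁻¹ := by rw [hak1']
          _ = a * (u * z * u⁻¹) * a⁻¹ := by group
          _ = a * k₂ * a⁻¹ := by rw [hconj]
          _ = k₂ := by rw [hak2]; group
      have h5 : (a * u * a⁻¹) * z = k₂ * (a * u * a⁻¹) := by
        rw [← h4]; group
      have h6 : u * z = k₂ * u := by rw [← hconj]; group
      calc z * (u⁻¹ * (a * u * a⁻¹)) = u⁻¹ * (u * z) * u⁻¹ * (a * u * a⁻¹) := by group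
        _ = u⁻¹ * (k₂ * u) * u⁻¹ * (a * u * a⁻¹) := by rw [h6]
        _ = u⁻¹ * (k₂ * (a * u * a⁻¹)) := by group
        _ = u⁻¹ * ((a * u * a⁻¹) * z) := by rw [h5]
        _ = u⁻¹ * (a * u * a⁻¹) * z := by group
  obtain ⟨d, hdD, hd⟩ := coprime_conj_complement A D hAD hcopD (Or.inl hsolv) _ hB
    (card_conj_smul u⁻¹ A)
  -- v = u d normalizes A
  have hvH : u * d ∈ H := H.mul_mem hu hdD.1
  have hvA : ∀ a ∈ A, (u * d) * a * (u * d)⁻¹ ∈ A := by
    intro a ha
    have h3 : d * a * d⁻¹ ∈ MulAut.conj d • A := by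
      rw [mem_conj_smul_iff']
      have : d⁻¹ * (d * a * d⁻¹) * d = a := by group
      rw [this]; exact ha
    rw [hd, mem_conj_smul_iff', inv_inv] at h3
    have : u * d * a * (u * d)⁻¹ = u * (d * a * d⁻¹) * u⁻¹ := by group
    rw [this]
    exact h3
  have hvc := mem_centralizer_of_mem_normalizer A H hAH hdisj (u * d) hvH hvA
  rw [Subgroup.mem_centralizer_iff] at hvc
  refine ⟨u * d, hvH, hvc x (Subgroup.mem_zpowers x), ?_⟩
  have hdk : d * k₁ * d⁻¹ = k₁ := by
    have := Subgroup.mem_centralizer_iff.mp hdD.2 k₁ rfl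
    rw [← this]; group
  calc u * d * k₁ * (u * d)⁻¹ = u * (d * k₁ * d⁻¹) * u⁻¹ := by group
    _ = k₂ := by rw [hdk, hconj]

end Cfsg.Agent.Lib.Helper4
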