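import Mathlib
import Cfsg.Prelude.Def_Characters
import Cfsg.Agent.Lib.Helper4.KW1
import Cfsg.Agent.Lib.Helper4.Gallagher2
import Cfsg.Agent.Lib.Helper1.CharFound8
import Cfsg.Agent.Lib.Helper1.CliffordCorr
import Cfsg.Agent.S0185

set_option autoImplicit false
set_option linter.unusedSectionVars false
set_option linter.style.haveILetI false

/-! The set-up `L = K ⋊ W₁`, `W₂ = C_K(x)` for all `x ∈ W₁ - 1`: invariant characters of `K`. -/

namespace Cfsg.Agent.Lib.Helper4.KW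

open Cfsg Cfsg.Agent.Lib.Helper1 Cfsg.Agent.Lib.Helper4 Cfsg.Agent.Lib.Lead
open Cfsg.Agent.S0193 Cfsg.Agent.S0194
open scoped ComplexConjugate

structure Setup {L : Type*} [Group L] (K W₁ W₂ : Subgroup L) : Prop where
  disj : K ⊓ W₁ = ⊥
  sup : K ⊔ W₁ = ⊤
  W₁_ne : W₁ ≠ ⊥
  W₁_cyclic : IsCyclic W₁
  hall : Nat.Coprime (Nat.card W₁) W₁.index
  W₂_ne : W₂ ≠ ⊥
  W₂_cyclic : IsCyclic W₂
  W₂_le : W₂ ≤ K
  cent : ∀ x ∈ W₁, x ≠ 1 → K ⊓ Subgroup.centralizer ({x} : Set L) = W₂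

variable {L : Type*} [Group L] [Finite L] {K W₁ W₂ : Subgroup L} [hK : K.Normal]

theorem Setup.card (S : Setup K W₁ W₂) : Nat.card L = Nat.card K * Nat.card W₁ := by
  have h1 := card_sup_of_disjoint W₁ K (by rw [Subgroup.normalizer_eq_top]; exact le_top)
    (by rw [inf_comm]; exact S.disj)
  rw [sup_comm, S.sup, Subgroup.card_top, mul_comm] at h1
  exact h1

theorem Setup.coprime (S : Setup K W₁ W₂) : (Nat.card W₁).Coprime (Nat.card K) := by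
  have h1 := Subgroup.card_mul_index W₁
  rw [S.card, mul_comm (Nat.card K)] at h1
  have h2 : W₁.index = Nat.card K := Nat.eq_of_mul_eq_mul_left Nat.card_pos h1
  rw [← h2]
  exact S.hall

theorem Setup.orderOf_coprime (S : Setup K W₁ W₂) {x : L} (hx : x ∈ W₁) :
    (orderOf x).Coprime (Nat.card K) := by
  have h1 : orderOf (⟨x, hx⟩ : W₁) ∣ Nat.card W₁ := orderOf_dvd_natCard _
  rw [← Subgroup.orderOf_coe] at h1
  exact Nat.Coprime.coprime_dvd_left h1 S.coprime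

/-- every element is `k * w` -/
theorem Setup.exists_mul (S : Setup K W₁ W₂) (g : L) : ∃ k ∈ K, ∃ w ∈ W₁, g = k * w := by
  have h1 : g ∈ K ⊔ W₁ := by rw [S.sup]; trivial
  rw [Subgroup.mem_sup_of_normal_left] at h1
  obtain ⟨k, hk, w, hw, rfl⟩ := h1
  exact ⟨k, hk, w, hw, rfl⟩

theorem Setup.comm_W₁ (S : Setup K W₁ W₂) {a b : L} (ha : a ∈ W₁) (hb : b ∈ W₁) :
    a * b = b * a := by
  haveI := S.W₁_cyclic
  have h1 := (IsCyclic.commGroup (α := W₁)).mul_comm ⟨a, ha⟩ ⟨b, hb⟩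
  exact congrArg Subtype.val h1

/-- `L / K` is abelian -/
theorem Setup.commutator_mem (S : Setup K W₁ W₂) (x y : L) : x * y * x⁻¹ * y⁻¹ ∈ K := by
  obtain ⟨k₁, hk₁, w₁, hw₁, rfl⟩ := S.exists_mul x
  obtain ⟨k₂, hk₂, w₂, hw₂, rfl⟩ := S.exists_mul y
  rw [← QuotientGroup.eq_one_iff]
  have e1 : ((k₁ : L) : L ⧸ K) = 1 := (QuotientGroup.eq_one_iff _).2 hk₁
  have e2 : ((k₂ : L) : L ⧸ K) = 1 := (QuotientGroup.eq_one_iff _).2 hk₂
  simp only [QuotientGroup.mk_mul, QuotientGroup.mk_inv, e1, e2, one_mul]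
  rw [← QuotientGroup.mk_mul, S.comm_W₁ hw₁ hw₂, QuotientGroup.mk_mul]
  group

theorem Setup.mem_W₂_iff (S : Setup K W₁ W₂) {x : L} (hx : x ∈ W₁) (hx1 : x ≠ 1) (k : L) :
    k ∈ W₂ ↔ k ∈ K ∧ x * k = k * x := by
  rw [← S.cent x hx hx1, Subgroup.mem_inf, Subgroup.mem_centralizer_iff]
  constructor
  · rintro ⟨h1, h2⟩
    exact ⟨h1, h2 x rfl⟩
  · rintro ⟨h1, h2⟩
    refine ⟨h1, ?_⟩
    intro y hy
    rw [Set.mem_singleton_iff] at hy
    rw [hy]; exact h2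

/-- a generator of `W₁` -/
theorem Setup.exists_gen (S : Setup K W₁ W₂) :
    ∃ w ∈ W₁, w ≠ 1 ∧ ∀ x ∈ W₁, x ∈ Subgroup.zpowers w := by
  haveI := S.W₁_cyclic
  obtain ⟨g, hg⟩ := IsCyclic.exists_generator (α := W₁)
  have hall : ∀ x ∈ W₁, x ∈ Subgroup.zpowers (g : L) := by
    intro x hx
    obtain ⟨i, hi⟩ := Subgroup.mem_zpowers_iff.mp (hg ⟨x, hx⟩)
    rw [Subgroup.mem_zpowers_iff]
    refine ⟨i, ?_⟩
    have := congrArg Subtype.val hi
    simpa using this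
  refine ⟨g, g.2, ?_, hall⟩
  intro h1
  apply S.W₁_ne
  rw [eq_bot_iff]
  intro x hx
  have := hall x hx
  rw [h1, Subgroup.zpowers_one_eq_bot] at this
  exact this

section Brauer

/-- conjugation by `x` on the normal subgroup `K` -/
def cj (K : Subgroup L) [hK : K.Normal] (x : L) : K → K :=
  fun n => ⟨x * n * x⁻¹, hK.conj_mem n n.2 x⟩

theorem cj_val (x : L) (n : K) : ((cj K x n : K) : L) = x * n * x⁻¹ := rfl

/-- the irreducible characters of `K` fixed by `x` -/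
def InvS (K : Subgroup L) [hK : K.Normal] (x : L) : Set (Cfsg.IrrCharacter K) :=
  {χ | conjFun K (χ : K → ℂ) x = (χ : K → ℂ)}

/-- the classes of `K` fixed by `x` -/
def ClS (K : Subgroup L) [hK : K.Normal] (x : L) : Set (ConjClasses K) :=
  {c | IsConj (cj K x (Quotient.out c)) (Quotient.out c)}

theorem ncard_InvS (x : L) : (InvS K x).ncard = (ClS K x).ncard := by
  classical
  haveI : Fintype K := Fintype.ofFinite _
  haveI : Fintype (Cfsg.IrrCharacter K) := Fintype.ofFinite _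
  haveI : Fintype (ConjClasses K) := Fintype.ofFinite _
  have hβ : ∀ χ : K → ℂ, Cfsg.IsIrrCharacter K χ →
      Cfsg.IsIrrCharacter K (fun n => χ (cj K x n)) :=
    fun χ hχ => conjFun_irr K χ hχ x
  have hbr := brauer_perm_generic (cj K x) hβ
  have hbr' : (Finset.univ.filter (fun χ : Cfsg.IrrCharacter K =>
        (fun g => (χ : K → ℂ) (cj K x g)) = (χ : K → ℂ))).card
      = (Finset.univ.filter (fun c : ConjClasses K =>
        IsConj (cj K x (Quotient.out c)) (Quotient.out c))).card := by exact_mod_cast hbr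
  rw [Set.ncard_eq_toFinset_card', Set.ncard_eq_toFinset_card']
  convert hbr' using 2
  · ext χ
    simp only [Set.mem_toFinset, Finset.mem_filter, Finset.mem_univ, true_and]
    rfl
  · ext c
    simp only [Set.mem_toFinset, Finset.mem_filter, Finset.mem_univ, true_and]
    rfl

/-- a class fixed by `x ∈ W₁ - 1` contains an element of `W₂` -/
theorem Setup.exists_mem_W₂ (S : Setup K W₁ W₂) {x : L} (hx : x ∈ W₁) (hx1 : x ≠ 1)
    {k₀ : K} (h : IsConj (cj K x k₀) k₀) : ∃ u : K, ((u * k₀ * u⁻¹ : K) : L) ∈ W₂ := by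
  rw [isConj_iff] at h
  obtain ⟨m, hm⟩ := h
  have hm' : (m : L) * (x * k₀ * x⁻¹) * (m : L)⁻¹ = k₀ := by
    have := congrArg Subtype.val hm
    simpa [cj] using this
  have hfix : x * (k₀ : L) * x⁻¹ = (m : L)⁻¹ * k₀ * ((m : L)⁻¹)⁻¹ := by
    calc x * (k₀ : L) * x⁻¹
        = (m : L)⁻¹ * ((m : L) * (x * k₀ * x⁻¹) * (m : L)⁻¹) * ((m : L)⁻¹)⁻¹ := by group
      _ = (m : L)⁻¹ * k₀ * ((m : L)⁻¹)⁻¹ := by rw [hm']
  obtain ⟨u, hu, hux⟩ := coprime_fixed_class_elt K x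
    (by rw [Subgroup.normalizer_eq_top]; trivial) (S.orderOf_coprime hx) k₀ k₀.2 (m : L)⁻¹
    (K.inv_mem m.2) hfix
  refine ⟨⟨u, hu⟩, ?_⟩
  rw [S.mem_W₂_iff hx hx1]
  refine ⟨(⟨u, hu⟩ * k₀ * (⟨u, hu⟩ : K)⁻¹ : K).2, ?_⟩
  show x * (u * k₀ * u⁻¹) = (u * k₀ * u⁻¹) * x
  calc x * (u * k₀ * u⁻¹) = (x * (u * k₀ * u⁻¹) * x⁻¹) * x := by group
    _ = (u * k₀ * u⁻¹) * x := by rw [hux]

theorem Setup.ClS_subset (S : Setup K W₁ W₂) {x y : L} (hx : x ∈ W₁) (hx1 : x ≠ 1)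
    (hy : y ∈ W₁) : ClS K x ⊆ ClS K y := by
  intro c hc
  by_cases hy1 : y = 1
  · subst hy1
    show IsConj (cj K 1 (Quotient.out c)) (Quotient.out c)
    have : cj K 1 (Quotient.out c) = Quotient.out c := by
      apply Subtype.ext
      simp [cj]
    rw [this]
  set k₀ := Quotient.out c with hk₀
  obtain ⟨u, hu⟩ := S.exists_mem_W₂ hx hx1 hc
  have hycomm := ((S.mem_W₂_iff hy hy1 _).mp hu).2
  -- y k₀ y⁻¹ is conjugate to k₀ by (y u⁻¹ y⁻¹) u
  show IsConj (cj K y k₀) k₀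
  rw [isConj_comm, isConj_iff]
  refine ⟨cj K y u⁻¹ * u, ?_⟩
  apply Subtype.ext
  show (y * (u⁻¹ : K) * y⁻¹ * u) * k₀ * (y * (u⁻¹ : K) * y⁻¹ * u)⁻¹ = y * k₀ * y⁻¹
  have h2 : y * ((u : L) * k₀ * (u : L)⁻¹) * y⁻¹ = (u : L) * k₀ * (u : L)⁻¹ := by
    have h3 : y * ((u : L) * k₀ * (u : L)⁻¹) = ((u : L) * k₀ * (u : L)⁻¹) * y := by
      have := hycomm
      simpa using this
    rw [h3]; group
  calc (y * ((u⁻¹ : K) : L) * y⁻¹ * u) * k₀ * (y * ((u⁻¹ : K) : L) * y⁻¹ * u)⁻¹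
      = y * (u : L)⁻¹ * y⁻¹ * ((u : L) * k₀ * (u : L)⁻¹) * y * (u : L) * y⁻¹ := by
        simp only [Subgroup.coe_inv]; group
    _ = y * (u : L)⁻¹ * y⁻¹ * (y * ((u : L) * k₀ * (u : L)⁻¹) * y⁻¹) * y * (u : L) * y⁻¹ := by
        rw [h2]
    _ = y * k₀ * y⁻¹ := by group

theorem Setup.ncard_InvS_eq (S : Setup K W₁ W₂) {x y : L} (hx : x ∈ W₁) (hx1 : x ≠ 1)
    (hy : y ∈ W₁) (hy1 : y ≠ 1) : (InvS K x).ncard = (InvS K y).ncard := by
  rw [ncard_InvS, ncard_InvS]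
  congr 1
  exact Set.Subset.antisymm (S.ClS_subset hx hx1 hy) (S.ClS_subset hy hy1 hx)

theorem InvS_subset_of_mem_zpowers {w x : L} (hx : x ∈ Subgroup.zpowers w) :
    InvS K w ⊆ InvS K x := by
  intro χ hχ
  have h1 : w ∈ inertia K (χ : K → ℂ) := hχ
  have h2 : Subgroup.zpowers w ≤ inertia K (χ : K → ℂ) := by
    rw [Subgroup.zpowers_le]; exact h1
  exact h2 hx

/-- a character fixed by a nonidentity element of `W₁` is fixed by all of `W₁` -/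
theorem Setup.invariant_of_fixed (S : Setup K W₁ W₂) {θ : K → ℂ} (hθ : Cfsg.IsIrrCharacter K θ)
    {x : L} (hx : x ∈ W₁) (hx1 : x ≠ 1) (hfix : conjFun K θ x = θ) :
    ∀ y ∈ W₁, conjFun K θ y = θ := by
  obtain ⟨w, hw, hw1, hgen⟩ := S.exists_gen
  have hsub : InvS K w ⊆ InvS K x := InvS_subset_of_mem_zpowers (hgen x hx)
  have hfin : (InvS K x).Finite := Set.toFinite _
  have heq : InvS K w = InvS K x :=
    Set.eq_of_subset_of_ncard_le hsub (S.ncard_InvS_eq hx hx1 hw hw1).le hfin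
  have hθw : (⟨θ, hθ⟩ : Cfsg.IrrCharacter K) ∈ InvS K w := by
    rw [heq]; exact hfix
  intro y hy
  exact InvS_subset_of_mem_zpowers (hgen y hy) hθw

end Brauer

end Cfsg.Agent.Lib.Helper4.KW
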