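import Mathlib
import Cfsg.Prelude.Def_Characters
import Cfsg.Agent.Lib.Helper4.KW2
import Cfsg.Agent.Lib.Helper4.CyclicTI
import Cfsg.Agent.S0146

set_option autoImplicit false
set_option linter.unusedSectionVars false

/-! The set-up `L = K ⋊ W₁`, `W₂ = C_K(x)`: the set `W - W₂` is a trivial intersection set with
normaliser `W = W₁ W₂`; induction from `W` of functions vanishing on `W₂`. -/

namespace Cfsg.Agent.Lib.Helper4.KW

open Cfsg Cfsg.Agent.Lib.Helper1 Cfsg.Agent.Lib.Helper4 Cfsg.Agent.Lib.Lead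
open scoped ComplexConjugate

variable {L : Type*} [Group L] [Finite L] {K W₁ W₂ : Subgroup L} [hK : K.Normal]

theorem Setup.comm_W₁₂ (S : Setup K W₁ W₂) {a b : L} (ha : a ∈ W₁) (hb : b ∈ W₂) :
    a * b = b * a := by
  obtain ⟨w, hw, hw1, hgen⟩ := S.exists_gen
  have h1 : Commute w b := ((S.mem_W₂_iff hw hw1 b).1 hb).2
  obtain ⟨i, rfl⟩ := Subgroup.mem_zpowers_iff.mp (hgen a ha)
  exact (h1.zpow_left i).eq

theorem Setup.comm_W₂ (S : Setup K W₁ W₂) {a b : L} (ha : a ∈ W₂) (hb : b ∈ W₂) :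
    a * b = b * a := by
  haveI := S.W₂_cyclic
  have h1 := (IsCyclic.commGroup (α := W₂)).mul_comm ⟨a, ha⟩ ⟨b, hb⟩
  exact congrArg Subtype.val h1

theorem Setup.comm_W (S : Setup K W₁ W₂) {u v : L} (hu : u ∈ W₁ ⊔ W₂) (hv : v ∈ W₁ ⊔ W₂) :
    u * v = v * u := by
  have h : W₁ ⊔ W₂ ≤ Subgroup.centralizer ((W₁ ⊔ W₂ : Subgroup L) : Set L) := by
    apply sup_le
    · rw [Subgroup.le_centralizer_iff]
      apply sup_le
      · intro a ha
        rw [Subgroup.mem_centralizer_iff]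
        intro b hb
        exact S.comm_W₁ hb ha
      · intro a ha
        rw [Subgroup.mem_centralizer_iff]
        intro b hb
        exact S.comm_W₁₂ hb ha
    · rw [Subgroup.le_centralizer_iff]
      apply sup_le
      · intro a ha
        rw [Subgroup.mem_centralizer_iff]
        intro b hb
        exact (S.comm_W₁₂ ha hb).symm
      · intro a ha
        rw [Subgroup.mem_centralizer_iff]
        intro b hb
        exact S.comm_W₂ hb ha
  exact (Subgroup.mem_centralizer_iff.mp (h hv)) u hu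

theorem Setup.exists_mul_W (S : Setup K W₁ W₂) {u : L} (hu : u ∈ W₁ ⊔ W₂) :
    ∃ b ∈ W₂, ∃ a ∈ W₁, u = b * a := by
  obtain ⟨k, hk, a, ha, rfl⟩ := S.exists_mul u
  obtain ⟨w, hw, hw1, hgen⟩ := S.exists_gen
  have hkW : k ∈ W₁ ⊔ W₂ := by
    have : k = (k * a) * a⁻¹ := by group
    rw [this]
    exact mul_mem hu (inv_mem (Subgroup.mem_sup_left ha))
  exact ⟨k, (S.mem_W₂_iff hw hw1 k).2 ⟨hk, S.comm_W (Subgroup.mem_sup_left hw) hkW⟩, a, ha, rfl⟩

theorem Setup.W₁_inf_K (S : Setup K W₁ W₂) {a : L} (ha : a ∈ W₁) (hk : a ∈ K) : a = 1 := by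
  have : a ∈ K ⊓ W₁ := Subgroup.mem_inf.mpr ⟨hk, ha⟩
  rw [S.disj] at this
  exact Subgroup.mem_bot.mp this

theorem Setup.W_inf_K (S : Setup K W₁ W₂) {u : L} (hu : u ∈ W₁ ⊔ W₂) (hk : u ∈ K) : u ∈ W₂ := by
  obtain ⟨b, hb, a, ha, rfl⟩ := S.exists_mul_W hu
  have haK : a ∈ K := by
    have : a = b⁻¹ * (b * a) := by group
    rw [this]
    exact mul_mem (inv_mem (S.W₂_le hb)) hk
  rw [S.W₁_inf_K ha haK, mul_one]
  exact hb

theorem Setup.mem_W_of_comm (S : Setup K W₁ W₂) {a g : L} (ha : a ∈ W₁) (ha1 : a ≠ 1)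
    (h : g * a = a * g) : g ∈ W₁ ⊔ W₂ := by
  obtain ⟨k, hk, c, hc, rfl⟩ := S.exists_mul g
  have h1 : a * k = k * a := by
    have h2 : c * a = a * c := S.comm_W₁ hc ha
    have h3 : k * (c * a) = a * k * c := by rw [← mul_assoc, h, mul_assoc]
    rw [h2, ← mul_assoc] at h3
    exact (mul_right_cancel h3).symm
  exact mul_mem (Subgroup.mem_sup_right ((S.mem_W₂_iff ha ha1 k).2 ⟨hk, h1⟩))
    (Subgroup.mem_sup_left hc)

theorem Setup.exists_pow (S : Setup K W₁ W₂) {a : L} (ha : a ∈ W₁) :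
    ∃ N : ℕ, ∀ b ∈ W₂, (b * a) ^ N = a := by
  have hcop : (Nat.card K).Coprime (orderOf a) := (S.orderOf_coprime ha).symm
  obtain ⟨m, hm⟩ := exists_pow_eq_self_of_coprime hcop
  refine ⟨Nat.card K * m, fun b hb => ?_⟩
  have hc : Commute b a := (S.comm_W₁₂ ha hb).symm
  rw [hc.mul_pow, pow_mul, pow_mul, hm]
  have hb1 : b ^ Nat.card K = 1 := by
    have := pow_card_eq_one' (G := K) (x := ⟨b, S.W₂_le hb⟩)
    have h2 : ((⟨b, S.W₂_le hb⟩ : K) : L) ^ Nat.card K = 1 := by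
      rw [← Subgroup.coe_pow, this, Subgroup.coe_one]
    exact h2
  rw [hb1, one_pow, one_mul]

/-- `W - W₂` is a trivial intersection set with normaliser `W`. -/
theorem Setup.mem_W_of_conj (S : Setup K W₁ W₂) {u g : L} (hu : u ∈ W₁ ⊔ W₂) (hu2 : u ∉ W₂)
    (hc : g⁻¹ * u * g ∈ W₁ ⊔ W₂) : g ∈ W₁ ⊔ W₂ := by
  obtain ⟨b, hb, a, ha, hba⟩ := S.exists_mul_W hu
  obtain ⟨b', hb', a', ha', hba'⟩ := S.exists_mul_W hc
  have ha1 : a ≠ 1 := by
    rintro rfl
    rw [mul_one] at hba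
    exact hu2 (hba ▸ hb)
  have haa : a' = a := by
    have h1 : a' * a⁻¹ ∈ K := by
      have h2 : a' * a⁻¹ = b'⁻¹ * (g⁻¹ * u * g⁻¹⁻¹ * u⁻¹) * b := by
        rw [inv_inv, hba', hba]; group
      rw [h2]
      exact mul_mem (mul_mem (inv_mem (S.W₂_le hb')) (S.commutator_mem g⁻¹ u)) (S.W₂_le hb)
    have h3 := S.W₁_inf_K (mul_mem ha' (inv_mem ha)) h1
    exact mul_inv_eq_one.mp h3
  obtain ⟨N, hN⟩ := S.exists_pow ha
  have h4 : (g⁻¹ * u * g) ^ N = a := by rw [hba', haa]; exact hN b' hb'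
  have h5 : (g⁻¹ * u * g) ^ N = g⁻¹ * a * g := by
    have : g⁻¹ * u * g = g⁻¹ * u * g⁻¹⁻¹ := by rw [inv_inv]
    rw [this, conj_pow, inv_inv, hba, hN b hb]
  have h6 : g * a = a * g := by
    have h7 : g⁻¹ * a * g = a := h5.symm.trans h4
    calc g * a = g * (g⁻¹ * a * g) := by rw [h7]
      _ = a * g := by group
  exact S.mem_W_of_comm ha ha1 h6

theorem Setup.centralizer_eq (S : Setup K W₁ W₂) {u : L} (hu : u ∈ W₁ ⊔ W₂) (hu2 : u ∉ W₂) :
    Subgroup.centralizer ({u} : Set L) = W₁ ⊔ W₂ := by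
  apply le_antisymm
  · intro g hg
    rw [Subgroup.mem_centralizer_iff] at hg
    have h1 : u * g = g * u := hg u rfl
    apply S.mem_W_of_conj hu hu2 (g := g)
    have : g⁻¹ * u * g = u := by rw [mul_assoc, h1]; group
    rw [this]
    exact hu
  · intro g hg
    rw [Subgroup.mem_centralizer_iff]
    intro y hy
    rw [Set.mem_singleton_iff] at hy
    rw [hy]
    exact S.comm_W hu hg

section Ind
variable [Fintype L]

/-- Induction from `W` of a function vanishing on `W₂` restricts to that function on `W - W₂`. -/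
theorem Setup.indFun_apply_of_notMem (S : Setup K W₁ W₂) (α : ↥(W₁ ⊔ W₂) → ℂ)
    (w : ↥(W₁ ⊔ W₂)) (hw2 : (w : L) ∉ W₂) :
    Cfsg.indFun (W₁ ⊔ W₂) α w = α w := by
  classical
  rw [indFun_apply]
  have hterm : ∀ x : L, Cfsg.extendByZero (W₁ ⊔ W₂) α (x⁻¹ * w * x)
      = if x ∈ W₁ ⊔ W₂ then α w else 0 := by
    intro x
    split_ifs with hx
    · have : x⁻¹ * (w : L) * x = w := by
        rw [mul_assoc, S.comm_W w.2 hx]; group
      rw [this, extendByZero_coe]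
    · have hm : x⁻¹ * (w : L) * x ∉ W₁ ⊔ W₂ := fun hm => hx (S.mem_W_of_conj w.2 hw2 hm)
      exact extendByZero_of_notMem _ _ hm
  rw [Finset.sum_congr rfl fun x _ => hterm x, Finset.sum_ite, Finset.sum_const_zero, add_zero,
    Finset.sum_const, nsmul_eq_mul]
  have hc : (Finset.univ.filter (fun x : L => x ∈ W₁ ⊔ W₂)).card = Nat.card ↥(W₁ ⊔ W₂) := by
    rw [Nat.card_eq_fintype_card, Fintype.card_subtype]
  rw [hc]
  have h0 : (Nat.card ↥(W₁ ⊔ W₂) : ℂ) ≠ 0 := Nat.cast_ne_zero.mpr Nat.card_pos.ne'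
  field_simp

theorem indFun_one_of_zero (H : Subgroup L) (α : H → ℂ) (hα : α 1 = 0) :
    Cfsg.indFun H α 1 = 0 := by
  rw [indFun_apply]
  have : ∀ x : L, Cfsg.extendByZero H α (x⁻¹ * 1 * x) = 0 := by
    intro x
    have h1 : x⁻¹ * 1 * x = ((1 : H) : L) := by simp
    rw [h1, extendByZero_coe, hα]
  rw [Finset.sum_congr rfl fun x _ => this x, Finset.sum_const_zero, mul_zero]

/-- Induction from `W` is an isometry on functions vanishing on `W₂`. -/
theorem Setup.classInner_indFun [Fintype ↥(W₁ ⊔ W₂)] (S : Setup K W₁ W₂) (α β : ↥(W₁ ⊔ W₂) → ℂ)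
    (hα : ∀ w : ↥(W₁ ⊔ W₂), (w : L) ∈ W₂ → α w = 0) :
    Cfsg.classInner (Cfsg.indFun (W₁ ⊔ W₂) α) (Cfsg.indFun (W₁ ⊔ W₂) β) = Cfsg.classInner α β := by
  classical
  rw [Cfsg.Agent.S0146.result (W₁ ⊔ W₂) α _ (indFun_isClassFunction _ _)]
  unfold Cfsg.classInner
  congr 1
  refine Finset.sum_congr rfl fun w _ => ?_
  by_cases hw : (w : L) ∈ W₂
  · rw [hα w hw, zero_mul, zero_mul]
  · show α w * conj (Cfsg.indFun (W₁ ⊔ W₂) β w) = _
    rw [S.indFun_apply_of_notMem β w hw]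

end Ind

end Cfsg.Agent.Lib.Helper4.KW
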