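import Mathlib
import Cfsg.Agent.Lib.Helper4.CTIh
import Cfsg.Agent.Lib.Helper4.CyclicTI2
import Cfsg.Agent.Lib.Helper4.KW5
import Cfsg.Agent.S0146
import Cfsg.Agent.S0177
import Cfsg.Agent.S0161

set_option autoImplicit false
set_option linter.unusedSectionVars false
set_option linter.unusedVariables false

/-! The generalized characters induced from `(1 - φ)(1 - ψ)` for a self-normalizing cyclic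
subgroup `W = W₁ × W₂`: their Gram matrix. -/

namespace Cfsg.Agent.Lib.Helper4.CTI

open Cfsg Cfsg.Agent.Lib.Helper1 Cfsg.Agent.Lib.Helper4
open scoped ComplexConjugate

variable {G : Type*} [Group G] [Fintype G] {W₁ W₂ : Subgroup G}

/-- the function `(1 - φ)(1 - ψ)` -/
def alpha (φ ψ : ↥(W₁ ⊔ W₂) →* ℂˣ) : ↥(W₁ ⊔ W₂) → ℂ :=
  fun w => 1 - (φ w : ℂ) - (ψ w : ℂ) + (φ w : ℂ) * (ψ w : ℂ)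

theorem alpha_vanish {φ ψ : ↥(W₁ ⊔ W₂) →* ℂˣ}
    (hφ : ∀ w : ↥(W₁ ⊔ W₂), (w : G) ∈ W₂ → φ w = 1)
    (hψ : ∀ w : ↥(W₁ ⊔ W₂), (w : G) ∈ W₁ → ψ w = 1)
    (w : ↥(W₁ ⊔ W₂)) (hw : (w : G) ∈ W₁ ∨ (w : G) ∈ W₂) : alpha φ ψ w = 0 := by
  unfold alpha
  rcases hw with hw | hw
  · rw [hψ w hw]; simp
  · rw [hφ w hw]; simp

theorem alpha_one (φ ψ : ↥(W₁ ⊔ W₂) →* ℂˣ) : alpha φ ψ 1 = 0 := by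
  unfold alpha
  simp

theorem alpha_eq_lin (φ ψ : ↥(W₁ ⊔ W₂) →* ℂˣ) :
    alpha φ ψ = linFn (1 * 1 : ↥(W₁ ⊔ W₂) →* ℂˣ) - linFn (φ * 1) - linFn (1 * ψ)
      + linFn (φ * ψ) := by
  funext w
  simp [alpha, linFn]

theorem alpha_genChar (φ ψ : ↥(W₁ ⊔ W₂) →* ℂˣ) :
    IsGeneralizedCharacter ↥(W₁ ⊔ W₂) (alpha φ ψ) := by
  rw [alpha_eq_lin]
  have h : ∀ ω : ↥(W₁ ⊔ W₂) →* ℂˣ, IsGeneralizedCharacter ↥(W₁ ⊔ W₂) (linFn ω) :=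
    fun ω => isGenChar_of_irr (isIrrCharacter_of_hom ω)
  exact isGenChar_add (isGenChar_sub (isGenChar_sub (h _) (h _)) (h _)) (h _)

section

variable [Fintype ↥(W₁ ⊔ W₂)]

theorem classInner_lin_prod (φ₁ φ₂ ψ₁ ψ₂ : ↥(W₁ ⊔ W₂) →* ℂˣ)
    (hφ₁ : ∀ w : ↥(W₁ ⊔ W₂), (w : G) ∈ W₂ → φ₁ w = 1)
    (hφ₂ : ∀ w : ↥(W₁ ⊔ W₂), (w : G) ∈ W₂ → φ₂ w = 1)
    (hψ₁ : ∀ w : ↥(W₁ ⊔ W₂), (w : G) ∈ W₁ → ψ₁ w = 1)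
    (hψ₂ : ∀ w : ↥(W₁ ⊔ W₂), (w : G) ∈ W₁ → ψ₂ w = 1) :
    classInner (linFn (φ₁ * ψ₁)) (linFn (φ₂ * ψ₂)) = if φ₁ = φ₂ ∧ ψ₁ = ψ₂ then 1 else 0 := by
  rw [classInner_linFn]
  have := hom_mul_eq_mul_iff W₁ W₂ φ₁ φ₂ ψ₁ ψ₂ hφ₁ hφ₂ hψ₁ hψ₂
  by_cases h : φ₁ * ψ₁ = φ₂ * ψ₂
  · rw [if_pos h, if_pos (this.1 h)]
  · rw [if_neg h, if_neg (fun h' => h (this.2 h'))]

theorem inner_alpha {φ φ' ψ ψ' : ↥(W₁ ⊔ W₂) →* ℂˣ}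
    (hφ : ∀ w : ↥(W₁ ⊔ W₂), (w : G) ∈ W₂ → φ w = 1)
    (hφ' : ∀ w : ↥(W₁ ⊔ W₂), (w : G) ∈ W₂ → φ' w = 1)
    (hψ : ∀ w : ↥(W₁ ⊔ W₂), (w : G) ∈ W₁ → ψ w = 1)
    (hψ' : ∀ w : ↥(W₁ ⊔ W₂), (w : G) ∈ W₁ → ψ' w = 1)
    (h1 : φ ≠ 1) (h2 : φ' ≠ 1) (h3 : ψ ≠ 1) (h4 : ψ' ≠ 1) :
    classInner (alpha φ ψ) (alpha φ' ψ') =
      1 + (if φ = φ' then 1 else 0) + (if ψ = ψ' then 1 else 0)
        + (if φ = φ' ∧ ψ = ψ' then 1 else 0) := by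
  have t1 : ∀ w : ↥(W₁ ⊔ W₂), (w : G) ∈ W₂ → (1 : ↥(W₁ ⊔ W₂) →* ℂˣ) w = 1 := fun _ _ => rfl
  have t2 : ∀ w : ↥(W₁ ⊔ W₂), (w : G) ∈ W₁ → (1 : ↥(W₁ ⊔ W₂) →* ℂˣ) w = 1 := fun _ _ => rfl
  rw [alpha_eq_lin, alpha_eq_lin]
  simp only [classInner_add_left, classInner_add_right, classInner_sub_left, classInner_sub_right]
  rw [classInner_lin_prod 1 1 1 1 t1 t1 t2 t2, classInner_lin_prod 1 φ' 1 1 t1 hφ' t2 t2,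
    classInner_lin_prod 1 1 1 ψ' t1 t1 t2 hψ', classInner_lin_prod 1 φ' 1 ψ' t1 hφ' t2 hψ',
    classInner_lin_prod φ 1 1 1 hφ t1 t2 t2, classInner_lin_prod φ φ' 1 1 hφ hφ' t2 t2,
    classInner_lin_prod φ 1 1 ψ' hφ t1 t2 hψ', classInner_lin_prod φ φ' 1 ψ' hφ hφ' t2 hψ',
    classInner_lin_prod 1 1 ψ 1 t1 t1 hψ t2, classInner_lin_prod 1 φ' ψ 1 t1 hφ' hψ t2,
    classInner_lin_prod 1 1 ψ ψ' t1 t1 hψ hψ', classInner_lin_prod 1 φ' ψ ψ' t1 hφ' hψ hψ',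
    classInner_lin_prod φ 1 ψ 1 hφ t1 hψ t2, classInner_lin_prod φ φ' ψ 1 hφ hφ' hψ t2,
    classInner_lin_prod φ 1 ψ ψ' hφ t1 hψ hψ', classInner_lin_prod φ φ' ψ ψ' hφ hφ' hψ hψ']
  simp only [h1, h2, h3, h4, Ne.symm h1, Ne.symm h2, Ne.symm h3, Ne.symm h4, and_true, true_and,
    and_false, false_and, if_true, if_false, and_self]
  ring

theorem inner_alpha_one {φ ψ : ↥(W₁ ⊔ W₂) →* ℂˣ}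
    (hφ : ∀ w : ↥(W₁ ⊔ W₂), (w : G) ∈ W₂ → φ w = 1)
    (hψ : ∀ w : ↥(W₁ ⊔ W₂), (w : G) ∈ W₁ → ψ w = 1) (h1 : φ ≠ 1) (h3 : ψ ≠ 1) :
    classInner (alpha φ ψ) (fun _ => (1 : ℂ)) = 1 := by
  have t1 : ∀ w : ↥(W₁ ⊔ W₂), (w : G) ∈ W₂ → (1 : ↥(W₁ ⊔ W₂) →* ℂˣ) w = 1 := fun _ _ => rfl
  have t2 : ∀ w : ↥(W₁ ⊔ W₂), (w : G) ∈ W₁ → (1 : ↥(W₁ ⊔ W₂) →* ℂˣ) w = 1 := fun _ _ => rfl
  have h0 : (fun _ : ↥(W₁ ⊔ W₂) => (1 : ℂ)) = linFn (1 * 1 : ↥(W₁ ⊔ W₂) →* ℂˣ) := by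
    funext w; simp [linFn]
  rw [h0, alpha_eq_lin]
  simp only [classInner_add_left, classInner_sub_left]
  rw [classInner_lin_prod 1 1 1 1 t1 t1 t2 t2, classInner_lin_prod φ 1 1 1 hφ t1 t2 t2,
    classInner_lin_prod 1 1 ψ 1 t1 t1 hψ t2, classInner_lin_prod φ 1 ψ 1 hφ t1 hψ t2]
  simp [h1, h3]

end

/-- induction from `W` is an isometry on functions vanishing on `W₁ ∪ W₂` -/
theorem snc_classInner_indFun (hW : Cfsg.IsSelfNormalizingCyclic W₁ W₂) [Fintype ↥(W₁ ⊔ W₂)]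
    (α β : ↥(W₁ ⊔ W₂) → ℂ)
    (hα : ∀ w : ↥(W₁ ⊔ W₂), ((w : G) ∈ W₁ ∨ (w : G) ∈ W₂) → α w = 0)
    (hβ : ∀ w : ↥(W₁ ⊔ W₂), ((w : G) ∈ W₁ ∨ (w : G) ∈ W₂) → β w = 0) :
    classInner (indFun (W₁ ⊔ W₂) α) (indFun (W₁ ⊔ W₂) β) = classInner α β := by
  classical
  rw [Cfsg.Agent.S0146.result (W₁ ⊔ W₂) α _ (indFun_isClassFunction _ _)]
  unfold Cfsg.classInner
  congr 1
  refine Finset.sum_congr rfl fun w _ => ?_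
  by_cases hw : (w : G) ∈ W₁ ∨ (w : G) ∈ W₂
  · rw [hα w hw, zero_mul, zero_mul]
  · push Not at hw
    show α w * conj (Cfsg.indFun (W₁ ⊔ W₂) β w) = _
    rw [snc_indFun_apply hW β hβ w hw.1 hw.2]

end Cfsg.Agent.Lib.Helper4.CTI
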