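import Mathlib
import Cfsg.Agent.Lib.Helper4.CTIi

set_option autoImplicit false
set_option linter.unusedSectionVars false
set_option linter.unusedVariables false

/-! The family `Ind((1 - φ)(1 - ψ)) - 1` is a standard grid of signed triples. -/

namespace Cfsg.Agent.Lib.Helper4.CTI

open Cfsg Cfsg.Agent.Lib.Helper1 Cfsg.Agent.Lib.Helper4
open scoped ComplexConjugate

section Comb

variable {E : Type*} [DecidableEq E] [InvolutiveNeg E] [FixFree E]

theorem exists_fourth {α : Type*} [Finite α] (h : 4 ≤ Nat.card α) (x y z : α) :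
    ∃ w, w ≠ x ∧ w ≠ y ∧ w ≠ z := by
  classical
  have : Fintype α := Fintype.ofFinite α
  by_contra hne
  push Not at hne
  have hsub : (Finset.univ : Finset α) ⊆ {x, y, z} := by
    intro w _
    by_cases h1 : w = x
    · simp [h1]
    by_cases h2 : w = y
    · simp [h2]
    have := hne w h1 h2
    simp [this]
  have h3 := Finset.card_le_card hsub
  have h4 : ({x, y, z} : Finset α).card ≤ 3 := Finset.card_le_three
  rw [Finset.card_univ, ← Nat.card_eq_fintype_card] at h3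
  omega

theorem exists_pair_of_card_two {α : Type*} (h : Nat.card α = 2) :
    ∃ i₀ k₀ : α, i₀ ≠ k₀ ∧ ∀ i, i = i₀ ∨ i = k₀ := by
  obtain ⟨x, y, hxy, huniv⟩ := Nat.card_eq_two_iff.1 h
  refine ⟨x, y, hxy, fun i => ?_⟩
  have : i ∈ ({x, y} : Set α) := by rw [huniv]; exact Set.mem_univ i
  simpa using this

theorem size_cond {α : Type*} [Finite α] (h : Nat.card α = 2 ∨ 4 ≤ Nat.card α) :
    ((∀ x y z : α, ∃ w, w ≠ x ∧ w ≠ y ∧ w ≠ z) ∨
      (∃ i₀ k₀ : α, i₀ ≠ k₀ ∧ ∀ i, i = i₀ ∨ i = k₀)) := by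
  rcases h with h | h
  · exact Or.inr (exists_pair_of_card_two h)
  · exact Or.inl (exists_fourth h)

theorem Grid.exists_std_symm {I J : Type*} [Finite I] [Finite J] {S : I → J → Finset E}
    (hS : Grid S) (hI : Nat.card I = 2 ∨ 4 ≤ Nat.card I) (hJ : Nat.card J = 2 ∨ 4 ≤ Nat.card J)
    (hIJ : 4 ≤ Nat.card I ∨ 4 ≤ Nat.card J) : ∃ a b c, Std S a b c := by
  have hIne : Nonempty I := by
    have : 0 < Nat.card I := by omega
    exact (Nat.card_pos_iff.1 this).1
  have hJne : Nonempty J := by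
    have : 0 < Nat.card J := by omega
    exact (Nat.card_pos_iff.1 this).1
  by_cases h4 : 4 ≤ Nat.card J
  · exact hS.exists_std (exists_fourth h4) (size_cond hI)
  · have h4I : 4 ≤ Nat.card I := by
      rcases hIJ with h | h
      · exact h
      · exact absurd h h4
    obtain ⟨a', b', c', hstd⟩ := hS.transpose.exists_std (exists_fourth h4I) (size_cond hJ)
    refine ⟨b', a', fun i j => c' j i, ?_, hstd.bb, hstd.aa, fun i j => (hstd.ab j i).symm,
      fun i j k => hstd.cb j i k, fun i j l => hstd.ca j i l,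
      fun i j k l h => hstd.cc j i l k h.symm⟩
    intro i j
    have := hstd.eq j i
    rw [this, Finset.insert_comm]

end Comb

variable {G : Type*} [Group G] [Fintype G]

section Types

variable (W₁ W₂ : Subgroup G)

/-- linear characters of `W` trivial on `W₂` -/
abbrev T1 : Type _ :=
  {φ : ↥(W₁ ⊔ W₂) →* ℂˣ // ∀ w : ↥(W₁ ⊔ W₂), (w : G) ∈ W₂ → φ w = 1}

/-- linear characters of `W` trivial on `W₁` -/
abbrev T2 : Type _ :=
  {ψ : ↥(W₁ ⊔ W₂) →* ℂˣ // ∀ w : ↥(W₁ ⊔ W₂), (w : G) ∈ W₁ → ψ w = 1}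

/-- nontrivial linear characters of `W` trivial on `W₂` -/
abbrev I1 : Type _ := {φ : T1 W₁ W₂ // φ.1 ≠ 1}

/-- nontrivial linear characters of `W` trivial on `W₁` -/
abbrev J1 : Type _ := {ψ : T2 W₁ W₂ // ψ.1 ≠ 1}

end Types

variable {W₁ W₂ : Subgroup G}

/-- the generalized characters `Ind((1 - φ)(1 - ψ)) - 1` -/
noncomputable def XX (i : I1 W₁ W₂) (j : J1 W₁ W₂) : G → ℂ :=
  indFun (W₁ ⊔ W₂) (alpha i.1.1 j.1.1) - fun _ => 1

theorem XX_genChar (i : I1 W₁ W₂) (j : J1 W₁ W₂) : IsGeneralizedCharacter G (XX i j) :=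
  isGenChar_sub (Cfsg.Agent.S0177.isGenChar_indFun _ (alpha_genChar _ _))
    (isGenChar_of_irr Cfsg.Agent.S0161.isIrrCharacter_one)

theorem XX_one (i : I1 W₁ W₂) (j : J1 W₁ W₂) : XX i j 1 = -1 := by
  unfold XX
  rw [Pi.sub_apply, KW.indFun_one_of_zero _ _ (alpha_one _ _)]
  simp

theorem ind_alpha_inner_one (hW : Cfsg.IsSelfNormalizingCyclic W₁ W₂) (i : I1 W₁ W₂)
    (j : J1 W₁ W₂) :
    classInner (indFun (W₁ ⊔ W₂) (alpha i.1.1 j.1.1)) (fun _ => (1 : ℂ)) = 1 := by
  classical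
  have hc : IsClassFunction G (fun _ => (1 : ℂ)) := fun _ _ => rfl
  rw [Cfsg.Agent.S0146.result (W₁ ⊔ W₂) _ _ hc]
  exact inner_alpha_one i.1.2 j.1.2 i.2 j.2

theorem one_inner_one : classInner (fun _ : G => (1 : ℂ)) (fun _ => (1 : ℂ)) = 1 :=
  classInner_irr_self Cfsg.Agent.S0161.isIrrCharacter_one

theorem XX_inner_one (hW : Cfsg.IsSelfNormalizingCyclic W₁ W₂) (i : I1 W₁ W₂) (j : J1 W₁ W₂) :
    classInner (XX i j) (fun _ => (1 : ℂ)) = 0 := by
  unfold XX
  rw [classInner_sub_left, ind_alpha_inner_one hW, one_inner_one, sub_self]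

open Classical in
theorem XX_inner (hW : Cfsg.IsSelfNormalizingCyclic W₁ W₂) (i k : I1 W₁ W₂) (j l : J1 W₁ W₂) :
    classInner (XX i j) (XX k l) = (if i = k then 1 else 0) + (if j = l then 1 else 0)
      + (if i = k ∧ j = l then 1 else 0) := by
  classical
  have h1 : classInner (fun _ : G => (1 : ℂ)) (indFun (W₁ ⊔ W₂) (alpha k.1.1 l.1.1)) = 1 := by
    rw [← classInner_conj_symm, ind_alpha_inner_one hW]; simp
  unfold XX
  rw [classInner_sub_left, classInner_sub_right, classInner_sub_right, ind_alpha_inner_one hW,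
    h1, one_inner_one,
    snc_classInner_indFun hW _ _ (alpha_vanish i.1.2 j.1.2) (alpha_vanish k.1.2 l.1.2),
    inner_alpha i.1.2 k.1.2 j.1.2 l.1.2 i.2 k.2 j.2 l.2]
  have e1 : (i.1.1 = k.1.1) ↔ i = k := by
    constructor
    · intro h; exact Subtype.ext (Subtype.ext h)
    · rintro rfl; rfl
  have e2 : (j.1.1 = l.1.1) ↔ j = l := by
    constructor
    · intro h; exact Subtype.ext (Subtype.ext h)
    · rintro rfl; rfl
  simp only [e1, e2]
  ring

end Cfsg.Agent.Lib.Helper4.CTI
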