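import Mathlib
import Cfsg.Agent.Lib.Helper4.CTIj

set_option autoImplicit false
set_option linter.unusedSectionVars false
set_option linter.unusedVariables false

/-! Existence of the standard family of signed irreducible characters attached to a
self-normalizing cyclic subgroup `W = W₁ × W₂` of odd order. -/

namespace Cfsg.Agent.Lib.Helper4.CTI

open Cfsg Cfsg.Agent.Lib.Helper1 Cfsg.Agent.Lib.Helper4
open scoped ComplexConjugate

theorem card_ne_sub_one {α : Type*} [Finite α] (a : α) :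
    Nat.card {x : α // x ≠ a} = Nat.card α - 1 := by
  classical
  have : Fintype α := Fintype.ofFinite α
  rw [Nat.card_eq_fintype_card, Nat.card_eq_fintype_card]
  have := Fintype.card_subtype_compl (fun x : α => x = a)
  rw [Fintype.card_subtype_eq] at this
  exact this

variable {G : Type*} [Group G] [Fintype G] {W₁ W₂ : Subgroup G}

/-- the principal character as a signed irreducible character -/
noncomputable def oneS : SIrr G := ⟨⟨fun _ => 1, Cfsg.Agent.S0161.isIrrCharacter_one⟩, true⟩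

theorem oneS_fn : (oneS : SIrr G).fn = fun _ => 1 := by
  unfold SIrr.fn oneS
  simp

theorem card_I1 (hW : Cfsg.IsSelfNormalizingCyclic W₁ W₂) :
    Nat.card (I1 W₁ W₂) = Nat.card W₁ - 1 := by
  rw [← (snc_card_triv hW).1, ← card_ne_sub_one (⟨1, fun _ _ => rfl⟩ : T1 W₁ W₂)]
  apply Nat.card_congr
  apply Equiv.subtypeEquivRight
  intro φ
  rw [Ne, Ne, Subtype.ext_iff]

theorem card_J1 (hW : Cfsg.IsSelfNormalizingCyclic W₁ W₂) :
    Nat.card (J1 W₁ W₂) = Nat.card W₂ - 1 := by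
  rw [← (snc_card_triv hW).2, ← card_ne_sub_one (⟨1, fun _ _ => rfl⟩ : T2 W₁ W₂)]
  apply Nat.card_congr
  apply Equiv.subtypeEquivRight
  intro φ
  rw [Ne, Ne, Subtype.ext_iff]

theorem snc_sizes (hW : Cfsg.IsSelfNormalizingCyclic W₁ W₂)
    (hodd : Odd (Nat.card ↥(W₁ ⊔ W₂))) :
    (Nat.card (I1 W₁ W₂) = 2 ∨ 4 ≤ Nat.card (I1 W₁ W₂)) ∧
    (Nat.card (J1 W₁ W₂) = 2 ∨ 4 ≤ Nat.card (J1 W₁ W₂)) ∧
    (4 ≤ Nat.card (I1 W₁ W₂) ∨ 4 ≤ Nat.card (J1 W₁ W₂)) := by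
  rw [card_I1 hW, card_J1 hW]
  rw [snc_card_sup hW, Nat.odd_mul] at hodd
  obtain ⟨⟨k₁, hk₁⟩, ⟨k₂, hk₂⟩⟩ := hodd
  have h1 : Nat.card W₁ ≠ 1 := fun h => hW.1 (Subgroup.card_eq_one.1 h)
  have h2 : Nat.card W₂ ≠ 1 := fun h => hW.2.1 (Subgroup.card_eq_one.1 h)
  have hcop := snc_coprime hW
  have h33 : ¬ (Nat.card W₁ = 3 ∧ Nat.card W₂ = 3) := by
    rintro ⟨h3, h3'⟩
    rw [h3, h3'] at hcop
    norm_num at hcop
  omega

/-- the standard family -/
structure StdFam (W₁ W₂ : Subgroup G) (a : I1 W₁ W₂ → SIrr G) (b : J1 W₁ W₂ → SIrr G)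
    (c : I1 W₁ W₂ → J1 W₁ W₂ → SIrr G) : Prop where
  eq : ∀ i j, XX i j = (a i).fn + (b j).fn + (c i j).fn
  aa : ∀ i k, i ≠ k → AbsNe (a i) (a k)
  bb : ∀ j l, j ≠ l → AbsNe (b j) (b l)
  ab : ∀ i j, AbsNe (a i) (b j)
  ca : ∀ i j k, AbsNe (c i j) (a k)
  cb : ∀ i j l, AbsNe (c i j) (b l)
  cc : ∀ i j k l, (i ≠ k ∨ j ≠ l) → AbsNe (c i j) (c k l)
  a0 : ∀ i, AbsNe (a i) oneS
  b0 : ∀ j, AbsNe (b j) oneS
  c0 : ∀ i j, AbsNe (c i j) oneS

theorem exists_stdFam (hW : Cfsg.IsSelfNormalizingCyclic W₁ W₂)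
    (hodd : Odd (Nat.card ↥(W₁ ⊔ W₂))) : ∃ a b c, StdFam W₁ W₂ a b c := by
  classical
  obtain ⟨hI, hJ, hIJ⟩ := snc_sizes hW hodd
  have hIne : Nonempty (I1 W₁ W₂) := by
    have : 0 < Nat.card (I1 W₁ W₂) := by omega
    exact (Nat.card_pos_iff.1 this).1
  have hJne : Nonempty (J1 W₁ W₂) := by
    have : 0 < Nat.card (J1 W₁ W₂) := by omega
    exact (Nat.card_pos_iff.1 this).1
  obtain ⟨S, hS, hXS⟩ := grid_of_family (XX : I1 W₁ W₂ → J1 W₁ W₂ → G → ℂ) XX_genChar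
    (fun i j => by rw [XX_inner hW]; simp; norm_num)
    (fun i j l hjl => by rw [XX_inner hW]; simp [hjl])
    (fun i k j hik => by rw [XX_inner hW]; simp [hik])
    (fun i k j l hik hjl => by rw [XX_inner hW]; simp [hik, hjl])
    (fun i j k l => by rw [XX_one, XX_one])
  obtain ⟨a, b, c, hstd⟩ := hS.exists_std_symm hI hJ hIJ
  have h0 : ∀ i j, ∀ x ∈ S i j, AbsNe x oneS := by
    intro i j x hx
    have h1 := XX_inner_one hW i j
    rw [hXS i j, ← oneS_fn, inner_vec_fn] at h1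
    have h2 : ind (S i j) oneS = ind (S i j) (-oneS) := by
      have : ((ind (S i j) oneS : ℕ) : ℂ) = ((ind (S i j) (-oneS) : ℕ) : ℂ) := by
        linear_combination h1
      exact_mod_cast this
    have h3 := (hS.tri i j).bnd [oneS]
    simp only [AllL] at h3
    exact absNe_of_ind hx (by omega)
  have i₀ : I1 W₁ W₂ := Classical.arbitrary _
  have j₀ : J1 W₁ W₂ := Classical.arbitrary _
  have memA : ∀ i j, a i ∈ S i j := fun i j => by rw [hstd.eq i j]; simp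
  have memB : ∀ i j, b j ∈ S i j := fun i j => by rw [hstd.eq i j]; simp
  have memC : ∀ i j, c i j ∈ S i j := fun i j => by rw [hstd.eq i j]; simp
  refine ⟨a, b, c, ?_, hstd.aa, hstd.bb, hstd.ab, hstd.ca, hstd.cb, hstd.cc,
    fun i => h0 i j₀ _ (memA i j₀), fun j => h0 i₀ j _ (memB i₀ j), fun i j => h0 i j _ (memC i j)⟩
  intro i j
  rw [hXS i j, hstd.eq i j]
  exact vec_three (hstd.ab i j).1 (hstd.ca i j i).1.symm (hstd.cb i j j).1.symm

end Cfsg.Agent.Lib.Helper4.CTI
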