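import Mathlib
import Cfsg.Agent.Lib.Helper4.CTIk

set_option autoImplicit false
set_option linter.unusedSectionVars false
set_option linter.unusedVariables false

/-! The family of signed irreducible characters attached to the linear characters of a
self-normalizing cyclic subgroup: all properties except the values off `W₁ ∪ W₂`. -/

namespace Cfsg.Agent.Lib.Helper4.CTI

open Cfsg Cfsg.Agent.Lib.Helper1 Cfsg.Agent.Lib.Helper4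
open scoped ComplexConjugate

variable {G : Type*} [Group G] [Fintype G] {W₁ W₂ : Subgroup G}

open Classical in
/-- the labelling of the pairs `(φ, ψ)` by signed irreducible characters -/
noncomputable def lam (a : I1 W₁ W₂ → SIrr G) (b : J1 W₁ W₂ → SIrr G)
    (c : I1 W₁ W₂ → J1 W₁ W₂ → SIrr G) (p : T1 W₁ W₂ × T2 W₁ W₂) : SIrr G :=
  if h1 : p.1.1 = 1 then (if h2 : p.2.1 = 1 then oneS else -(b ⟨p.2, h2⟩))
  else (if h2 : p.2.1 = 1 then -(a ⟨p.1, h1⟩) else c ⟨p.1, h1⟩ ⟨p.2, h2⟩)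

variable {a : I1 W₁ W₂ → SIrr G} {b : J1 W₁ W₂ → SIrr G} {c : I1 W₁ W₂ → J1 W₁ W₂ → SIrr G}

theorem lam_one_one (p : T1 W₁ W₂ × T2 W₁ W₂) (h1 : p.1.1 = 1) (h2 : p.2.1 = 1) :
    lam a b c p = oneS := by
  unfold lam
  rw [dif_pos h1, dif_pos h2]

theorem lam_one_ne (p : T1 W₁ W₂ × T2 W₁ W₂) (h1 : p.1.1 = 1) (h2 : p.2.1 ≠ 1) :
    lam a b c p = -(b ⟨p.2, h2⟩) := by
  unfold lam
  rw [dif_pos h1, dif_neg h2]

theorem lam_ne_one (p : T1 W₁ W₂ × T2 W₁ W₂) (h1 : p.1.1 ≠ 1) (h2 : p.2.1 = 1) :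
    lam a b c p = -(a ⟨p.1, h1⟩) := by
  unfold lam
  rw [dif_neg h1, dif_pos h2]

theorem lam_ne_ne (p : T1 W₁ W₂ × T2 W₁ W₂) (h1 : p.1.1 ≠ 1) (h2 : p.2.1 ≠ 1) :
    lam a b c p = c ⟨p.1, h1⟩ ⟨p.2, h2⟩ := by
  unfold lam
  rw [dif_neg h1, dif_neg h2]

theorem pair_eq {p p' : T1 W₁ W₂ × T2 W₁ W₂} (h1 : p.1.1 = p'.1.1) (h2 : p.2.1 = p'.2.1) :
    p = p' :=
  Prod.ext (Subtype.ext h1) (Subtype.ext h2)

theorem lam_absNe (h : StdFam W₁ W₂ a b c) {p p' : T1 W₁ W₂ × T2 W₁ W₂} (hne : p ≠ p') :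
    AbsNe (lam a b c p) (lam a b c p') := by
  by_cases h1 : p.1.1 = 1 <;> by_cases h2 : p.2.1 = 1 <;> by_cases h3 : p'.1.1 = 1 <;>
    by_cases h4 : p'.2.1 = 1
  · exact absurd (pair_eq (h1.trans h3.symm) (h2.trans h4.symm)) hne
  · rw [lam_one_one p h1 h2, lam_one_ne p' h3 h4]
    exact (h.b0 _).symm.neg_right
  · rw [lam_one_one p h1 h2, lam_ne_one p' h3 h4]
    exact (h.a0 _).symm.neg_right
  · rw [lam_one_one p h1 h2, lam_ne_ne p' h3 h4]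
    exact (h.c0 _ _).symm
  · rw [lam_one_ne p h1 h2, lam_one_one p' h3 h4]
    exact (h.b0 _).neg_left
  · rw [lam_one_ne p h1 h2, lam_one_ne p' h3 h4]
    refine (h.bb _ _ ?_).neg_left.neg_right
    intro h5
    have h6 : p.2 = p'.2 := congrArg Subtype.val h5
    exact hne (pair_eq (h1.trans h3.symm) (congrArg Subtype.val h6))
  · rw [lam_one_ne p h1 h2, lam_ne_one p' h3 h4]
    exact (h.ab _ _).symm.neg_left.neg_right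
  · rw [lam_one_ne p h1 h2, lam_ne_ne p' h3 h4]
    exact (h.cb _ _ _).symm.neg_left
  · rw [lam_ne_one p h1 h2, lam_one_one p' h3 h4]
    exact (h.a0 _).neg_left
  · rw [lam_ne_one p h1 h2, lam_one_ne p' h3 h4]
    exact (h.ab _ _).neg_left.neg_right
  · rw [lam_ne_one p h1 h2, lam_ne_one p' h3 h4]
    refine (h.aa _ _ ?_).neg_left.neg_right
    intro h5
    have h6 : p.1 = p'.1 := congrArg Subtype.val h5
    exact hne (pair_eq (congrArg Subtype.val h6) (h2.trans h4.symm))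
  · rw [lam_ne_one p h1 h2, lam_ne_ne p' h3 h4]
    exact (h.ca _ _ _).symm.neg_left
  · rw [lam_ne_ne p h1 h2, lam_one_one p' h3 h4]
    exact h.c0 _ _
  · rw [lam_ne_ne p h1 h2, lam_one_ne p' h3 h4]
    exact (h.cb _ _ _).neg_right
  · rw [lam_ne_ne p h1 h2, lam_ne_one p' h3 h4]
    exact (h.ca _ _ _).neg_right
  · rw [lam_ne_ne p h1 h2, lam_ne_ne p' h3 h4]
    refine h.cc _ _ _ _ ?_
    by_contra h5
    push Not at h5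
    have h6 : p.1 = p'.1 := congrArg Subtype.val h5.1
    have h7 : p.2 = p'.2 := congrArg Subtype.val h5.2
    exact hne (Prod.ext h6 h7)

/-- the family of signed irreducible characters -/
noncomputable def chi (hW : Cfsg.IsSelfNormalizingCyclic W₁ W₂) (a : I1 W₁ W₂ → SIrr G)
    (b : J1 W₁ W₂ → SIrr G) (c : I1 W₁ W₂ → J1 W₁ W₂ → SIrr G) (ω : ↥(W₁ ⊔ W₂) →* ℂˣ) : G → ℂ :=
  (lam a b c ((sncEquiv hW).symm ω)).fn

theorem chi_mul (hW : Cfsg.IsSelfNormalizingCyclic W₁ W₂) (p : T1 W₁ W₂ × T2 W₁ W₂) :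
    chi hW a b c (p.1.1 * p.2.1) = (lam a b c p).fn := by
  unfold chi
  rw [← sncEquiv_apply hW p, Equiv.symm_apply_apply]

theorem chi_signed (hW : Cfsg.IsSelfNormalizingCyclic W₁ W₂) (ω : ↥(W₁ ⊔ W₂) →* ℂˣ) :
    IsIrrCharacter G (chi hW a b c ω) ∨ IsIrrCharacter G (-chi hW a b c ω) :=
  SIrr.fn_signed _

open Classical in
theorem chi_orthonormal (hW : Cfsg.IsSelfNormalizingCyclic W₁ W₂) (h : StdFam W₁ W₂ a b c)
    (ω ω' : ↥(W₁ ⊔ W₂) →* ℂˣ) :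
    classInner (chi hW a b c ω) (chi hW a b c ω') = if ω = ω' then 1 else 0 := by
  unfold chi
  rw [SIrr.fn_inner]
  by_cases hω : ω = ω'
  · subst hω
    simp
  · have hne : (sncEquiv hW).symm ω ≠ (sncEquiv hW).symm ω' :=
      fun h' => hω ((sncEquiv hW).symm.injective h')
    have := lam_absNe h hne
    rw [if_neg this.1, if_neg this.2, if_neg hω]

theorem chi_one (hW : Cfsg.IsSelfNormalizingCyclic W₁ W₂) :
    chi hW a b c 1 = fun _ => 1 := by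
  have h1 : (1 : ↥(W₁ ⊔ W₂) →* ℂˣ) =
      ((⟨1, fun _ _ => rfl⟩ : T1 W₁ W₂), (⟨1, fun _ _ => rfl⟩ : T2 W₁ W₂)).1.1 *
      ((⟨1, fun _ _ => rfl⟩ : T1 W₁ W₂), (⟨1, fun _ _ => rfl⟩ : T2 W₁ W₂)).2.1 := by
    ext w; simp
  rw [h1, chi_mul hW, lam_one_one _ rfl rfl, oneS_fn]

theorem chi_induced (hW : Cfsg.IsSelfNormalizingCyclic W₁ W₂) (h : StdFam W₁ W₂ a b c)
    (φ ψ : ↥(W₁ ⊔ W₂) →* ℂˣ) (hφ1 : φ ≠ 1) (hψ1 : ψ ≠ 1)
    (hφ : ∀ w : ↥(W₁ ⊔ W₂), (w : G) ∈ W₂ → φ w = 1)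
    (hψ : ∀ w : ↥(W₁ ⊔ W₂), (w : G) ∈ W₁ → ψ w = 1) :
    indFun (W₁ ⊔ W₂) (fun w => 1 - (φ w : ℂ) - (ψ w : ℂ) + (φ w : ℂ) * (ψ w : ℂ)) =
      fun g => 1 - chi hW a b c φ g - chi hW a b c ψ g + chi hW a b c (φ * ψ) g := by
  obtain ⟨i, hi⟩ : ∃ i : I1 W₁ W₂, i = ⟨⟨φ, hφ⟩, hφ1⟩ := ⟨_, rfl⟩
  obtain ⟨j, hj⟩ : ∃ j : J1 W₁ W₂, j = ⟨⟨ψ, hψ⟩, hψ1⟩ := ⟨_, rfl⟩
  have e1 : chi hW a b c φ = -(a i).fn := by
    have h1 : φ = ((⟨φ, hφ⟩ : T1 W₁ W₂), (⟨1, fun _ _ => rfl⟩ : T2 W₁ W₂)).1.1 *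
        ((⟨φ, hφ⟩ : T1 W₁ W₂), (⟨1, fun _ _ => rfl⟩ : T2 W₁ W₂)).2.1 := by
      ext w; simp
    rw [h1, chi_mul hW, lam_ne_one _ hφ1 rfl, SIrr.fn_neg, hi]
  have e2 : chi hW a b c ψ = -(b j).fn := by
    have h1 : ψ = ((⟨1, fun _ _ => rfl⟩ : T1 W₁ W₂), (⟨ψ, hψ⟩ : T2 W₁ W₂)).1.1 *
        ((⟨1, fun _ _ => rfl⟩ : T1 W₁ W₂), (⟨ψ, hψ⟩ : T2 W₁ W₂)).2.1 := by
      ext w; simp
    rw [h1, chi_mul hW, lam_one_ne _ rfl hψ1, SIrr.fn_neg, hj]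
  have e3 : chi hW a b c (φ * ψ) = (c i j).fn := by
    have h1 : φ * ψ = ((⟨φ, hφ⟩ : T1 W₁ W₂), (⟨ψ, hψ⟩ : T2 W₁ W₂)).1.1 *
        ((⟨φ, hφ⟩ : T1 W₁ W₂), (⟨ψ, hψ⟩ : T2 W₁ W₂)).2.1 := rfl
    rw [h1, chi_mul hW, lam_ne_ne _ hφ1 hψ1, hi, hj]
  have h2 := h.eq i j
  unfold XX at h2
  have hi' : i.1.1 = φ := by rw [hi]
  have hj' : j.1.1 = ψ := by rw [hj]
  rw [hi', hj'] at h2
  have h3 : indFun (W₁ ⊔ W₂) (alpha φ ψ) = (a i).fn + (b j).fn + (c i j).fn + fun _ => 1 := by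
    rw [← h2]
    funext g
    simp
  show indFun (W₁ ⊔ W₂) (alpha φ ψ) = _
  rw [h3, e1, e2, e3]
  funext g
  simp only [Pi.add_apply, Pi.neg_apply]
  ring

end Cfsg.Agent.Lib.Helper4.CTI
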