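import Mathlib
import Cfsg.Prelude.Def_Characters
import Cfsg.Agent.Lib.Helper4.Coherence
import Cfsg.Agent.S0161

set_option autoImplicit false

/-! An abstract coherence lemma: a family of differences of norm two with pairwise inner products
one comes from an orthonormal family of irreducible characters, up to a global sign. -/

namespace Cfsg.Agent.Lib.Helper4.KW

open Cfsg Cfsg.Agent.Lib.Helper1 Cfsg.Agent.Lib.Helper4
open scoped ComplexConjugate

variable {G : Type*} [Group G] [Fintype G]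

theorem exists_pos_neg {v : G → ℂ} (hv : IsGeneralizedCharacter G v)
    (h2 : classInner v v = 2) (h1 : v 1 = 0) :
    ∃ P N : G → ℂ, IsIrrCharacter G P ∧ IsIrrCharacter G N ∧ P ≠ N ∧ v = P - N := by
  obtain ⟨ψ₁, ψ₂, hψ₁, hψ₂, hne, a, ha, hθeq⟩ := genChar_norm_two_vanish hv h2 h1
  rcases ha with rfl | rfl
  · refine ⟨ψ₁, ψ₂, hψ₁, hψ₂, hne, ?_⟩
    rw [hθeq, one_smul, one_smul]
  · refine ⟨ψ₂, ψ₁, hψ₂, hψ₁, Ne.symm hne, ?_⟩
    rw [hθeq]
    funext g
    simp
    ring

theorem share_of_inner_one {P N P' N' : G → ℂ} (hP : IsIrrCharacter G P)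
    (hN : IsIrrCharacter G N) (hP' : IsIrrCharacter G P') (hN' : IsIrrCharacter G N')
    (hPN : P ≠ N) (hPN' : P' ≠ N') (h : classInner (P - N) (P' - N') = 1) :
    (P = P' ∧ N ≠ N') ∨ (N = N' ∧ P ≠ P') := by
  rw [classInner_sub_left, classInner_sub_right, classInner_sub_right, classInner_irr hP hP',
    classInner_irr hP hN', classInner_irr hN hP', classInner_irr hN hN'] at h
  by_cases h1 : P = P'
  · by_cases h2 : N = N'
    · exfalso
      have h3 : ¬ P = N' := fun h3 => hPN' (h1 ▸ h3)
      have h4 : ¬ N = P' := fun h4 => hPN' (h4 ▸ h2 ▸ rfl)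
      rw [if_pos h1, if_pos h2, if_neg h3, if_neg h4] at h
      norm_num at h
    · exact Or.inl ⟨h1, h2⟩
  · by_cases h2 : N = N'
    · exact Or.inr ⟨h2, h1⟩
    · exfalso
      rw [if_neg h1, if_neg h2] at h
      by_cases h3 : P = N' <;> by_cases h4 : N = P' <;> simp [h3, h4] at h <;> norm_num at h

theorem exists_coherent_family {ι : Type*} (v : ι → ι → (G → ℂ))
    (hgen : ∀ i j, IsGeneralizedCharacter G (v i j)) (hone : ∀ i j, v i j 1 = 0)
    (hadd : ∀ i j k, v i j + v j k = v i k)
    (h2 : ∀ i j, i ≠ j → classInner (v i j) (v i j) = 2)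
    (h1 : ∀ i j k, i ≠ j → i ≠ k → j ≠ k → classInner (v i j) (v i k) = 1) :
    ∃ (ε : ℂ) (μ : ι → (G → ℂ)), (ε = 1 ∨ ε = -1) ∧ (∀ i, IsIrrCharacter G (μ i)) ∧
      Function.Injective μ ∧ ∀ i j, v i j = ε • (μ i - μ j) := by
  classical
  rcases isEmpty_or_nonempty ι with hem | ⟨⟨i₀⟩⟩
  · exact ⟨1, fun i => isEmptyElim i, Or.inl rfl, fun i => isEmptyElim i,
      fun i => isEmptyElim i, fun i => isEmptyElim i⟩
  have hvii : ∀ i, v i i = 0 := by
    intro i
    have := hadd i i i
    exact add_eq_left.mp this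
  have hanti : ∀ i j, v j i = - v i j := by
    intro i j
    have := hadd i j i
    rw [hvii] at this
    exact (neg_eq_of_add_eq_zero_right this).symm
  have hgenl : ∀ i j, v i j = v i₀ j - v i₀ i := by
    intro i j
    have := hadd i i₀ j
    rw [hanti i₀ i] at this
    rw [← this]
    abel
  have key : ∀ j, j ≠ i₀ → ∃ P N : G → ℂ, IsIrrCharacter G P ∧ IsIrrCharacter G N ∧ P ≠ N ∧
      v i₀ j = P - N :=
    fun j hj => exists_pos_neg (hgen i₀ j) (h2 i₀ j (Ne.symm hj)) (hone i₀ j)
  choose! P N hP hN hPN hv using key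
  have hshare : ∀ j k, j ≠ i₀ → k ≠ i₀ → j ≠ k →
      (P j = P k ∧ N j ≠ N k) ∨ (N j = N k ∧ P j ≠ P k) := by
    intro j k hj hk hjk
    apply share_of_inner_one (hP j hj) (hN j hj) (hP k hk) (hN k hk) (hPN j hj) (hPN k hk)
    rw [← hv j hj, ← hv k hk]
    exact h1 i₀ j k (Ne.symm hj) (Ne.symm hk) hjk
  have hmix : ∀ j k l, j ≠ i₀ → k ≠ i₀ → l ≠ i₀ → j ≠ k → j ≠ l → k ≠ l →
      P j = P k → N j = N l → False := by
    intro j k l hj hk hl hjk hjl hkl hPjk hNjl
    rcases hshare k l hk hl hkl with ⟨h3, h4⟩ | ⟨h3, h4⟩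
    · rcases hshare j l hj hl hjl with ⟨_, h6⟩ | ⟨_, h6⟩
      · exact h6 hNjl
      · exact h6 (hPjk.trans h3)
    · rcases hshare j k hj hk hjk with ⟨_, h6⟩ | ⟨_, h6⟩
      · exact h6 (hNjl.trans h3.symm)
      · exact h6 hPjk
  have hdich : (∀ j k, j ≠ i₀ → k ≠ i₀ → j ≠ k → P j = P k) ∨
      (∀ j k, j ≠ i₀ → k ≠ i₀ → j ≠ k → N j = N k) := by
    by_contra hne
    push Not at hne
    obtain ⟨⟨j, k, hj, hk, hjk, hPne⟩, ⟨j', k', hj', hk', hjk', hNne⟩⟩ := hne
    have hB : N j = N k := by
      rcases hshare j k hj hk hjk with ⟨h3, _⟩ | ⟨h3, _⟩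
      · exact absurd h3 hPne
      · exact h3
    have hA : P j' = P k' := by
      rcases hshare j' k' hj' hk' hjk' with ⟨h3, _⟩ | ⟨h3, _⟩
      · exact h3
      · exact absurd h3 hNne
    by_cases hjj : j = j'
    · subst hjj
      have hkk : k' ≠ k := by
        intro h; subst h; exact hPne hA
      exact hmix j k' k hj hk' hk hjk' hjk hkk hA hB
    · rcases hshare j j' hj hj' hjj with ⟨h3, h4⟩ | ⟨h3, h4⟩
      · have hj'k : j' ≠ k := by
          intro h; subst h; exact hPne h3
        exact hmix j j' k hj hj' hk hjj hjk hj'k h3 hB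
      · have hk'j : k' ≠ j := by
          intro h; subst h; exact h4 hA.symm
        exact hmix j' k' j hj' hk' hj hjk' (Ne.symm hjj) hk'j hA h3.symm
  by_cases hex : ∃ j₁, j₁ ≠ i₀
  swap
  · push Not at hex
    refine ⟨1, fun _ => (fun _ => (1 : ℂ)), Or.inl rfl,
      fun _ => Cfsg.Agent.S0161.isIrrCharacter_one, ?_, ?_⟩
    · intro i j _
      rw [hex i, hex j]
    · intro i j
      rw [hex i, hex j, hvii, sub_self, smul_zero]
  obtain ⟨j₁, hj₁⟩ := hex
  rcases hdich with hA | hB
  · -- common positive part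
    have hPc : ∀ j, j ≠ i₀ → P j = P j₁ := by
      intro j hj
      by_cases hjj : j = j₁
      · rw [hjj]
      · exact hA j j₁ hj hj₁ hjj
    refine ⟨1, fun i => if i = i₀ then P j₁ else N i, Or.inl rfl, ?_, ?_, ?_⟩
    · intro i
      by_cases hi : i = i₀
      · simp only [if_pos hi]; exact hP j₁ hj₁
      · simp only [if_neg hi]; exact hN i hi
    · intro i j hij
      by_cases hi : i = i₀ <;> by_cases hj : j = i₀
      · rw [hi, hj]
      · simp only [if_pos hi, if_neg hj] at hij
        exact absurd ((hPc j hj).trans hij) (hPN j hj)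
      · simp only [if_neg hi, if_pos hj] at hij
        exact absurd ((hPc i hi).trans hij.symm) (hPN i hi)
      · simp only [if_neg hi, if_neg hj] at hij
        by_contra hne
        rcases hshare i j hi hj hne with ⟨_, h4⟩ | ⟨_, h4⟩
        · exact h4 hij
        · exact h4 (hA i j hi hj hne)
    · have hbase : ∀ i, v i₀ i = P j₁ - (if i = i₀ then P j₁ else N i) := by
        intro i
        by_cases hi : i = i₀
        · rw [if_pos hi, hi, hvii, sub_self]
        · rw [if_neg hi, hv i hi, hPc i hi]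
      intro i j
      rw [hgenl i j, hbase i, hbase j, one_smul]
      abel
  · -- common negative part
    have hNc : ∀ j, j ≠ i₀ → N j = N j₁ := by
      intro j hj
      by_cases hjj : j = j₁
      · rw [hjj]
      · exact hB j j₁ hj hj₁ hjj
    refine ⟨-1, fun i => if i = i₀ then N j₁ else P i, Or.inr rfl, ?_, ?_, ?_⟩
    · intro i
      by_cases hi : i = i₀
      · simp only [if_pos hi]; exact hN j₁ hj₁
      · simp only [if_neg hi]; exact hP i hi
    · intro i j hij
      by_cases hi : i = i₀ <;> by_cases hj : j = i₀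
      · rw [hi, hj]
      · simp only [if_pos hi, if_neg hj] at hij
        exact absurd (hij.symm.trans (hNc j hj).symm) (hPN j hj)
      · simp only [if_neg hi, if_pos hj] at hij
        exact absurd (hij.trans (hNc i hi).symm) (hPN i hi)
      · simp only [if_neg hi, if_neg hj] at hij
        by_contra hne
        rcases hshare i j hi hj hne with ⟨_, h4⟩ | ⟨_, h4⟩
        · exact h4 (hB i j hi hj hne)
        · exact h4 hij
    · have hbase : ∀ i, v i₀ i = (if i = i₀ then N j₁ else P i) - N j₁ := by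
        intro i
        by_cases hi : i = i₀
        · rw [if_pos hi, hi, hvii, sub_self]
        · rw [if_neg hi, hv i hi, hNc i hi]
      intro i j
      rw [hgenl i j, hbase i, hbase j]
      funext g
      simp only [Pi.sub_apply, Pi.smul_apply, smul_eq_mul]
      ring

end Cfsg.Agent.Lib.Helper4.KW
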