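import Mathlib
import Cfsg.Prelude.Def_Characters
import Cfsg.Agent.Lib.Helper4.KW5

set_option autoImplicit false
set_option linter.unusedSectionVars false

/-! Linear characters of `W = W₁ W₂` in the set-up `L = K ⋊ W₁`: twisting by characters trivial on
`W₂`, and inner products of differences. -/

namespace Cfsg.Agent.Lib.Helper4.KW

open Cfsg Cfsg.Agent.Lib.Helper1 Cfsg.Agent.Lib.Helper4 Cfsg.Agent.Lib.Lead
open scoped ComplexConjugate

section Twist
variable {L : Type*} [Group L] [Finite L] {K W₁ W₂ : Subgroup L} [hK : K.Normal]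

/-- a linear character of `W` trivial on `W₂` and nontrivial at a given element outside `W₂` -/
theorem Setup.exists_twist (S : Setup K W₁ W₂) {u : L} (hu : u ∈ W₁ ⊔ W₂) (hu2 : u ∉ W₂) :
    ∃ φ : ↥(W₁ ⊔ W₂) →* ℂˣ, (∀ w : ↥(W₁ ⊔ W₂), (w : L) ∈ W₂ → φ w = 1) ∧ φ ⟨u, hu⟩ ≠ 1 := by
  classical
  letI : CommGroup (L ⧸ K) :=
    { (inferInstance : Group (L ⧸ K)) with
      mul_comm := by
        intro a b
        induction a using QuotientGroup.induction_on with | _ x => ?_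
        induction b using QuotientGroup.induction_on with | _ y => ?_
        rw [← QuotientGroup.mk_mul, ← QuotientGroup.mk_mul, QuotientGroup.eq]
        have := S.commutator_mem y⁻¹ x⁻¹
        simpa [mul_assoc] using this }
  have hne : NeZero (Monoid.exponent (L ⧸ K)) := ⟨Monoid.exponent_ne_zero_of_finite⟩
  have hu1 : ((u : L) : L ⧸ K) ≠ 1 := by
    rw [Ne, QuotientGroup.eq_one_iff]
    exact fun h => hu2 (S.W_inf_K hu h)
  obtain ⟨μ, hμ⟩ := CommGroup.exists_apply_ne_one_of_hasEnoughRootsOfUnity (L ⧸ K) ℂ hu1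
  refine ⟨(μ.comp (QuotientGroup.mk' K)).comp (W₁ ⊔ W₂).subtype, ?_, ?_⟩
  · intro w hw
    have : ((w : L) : L ⧸ K) = 1 := (QuotientGroup.eq_one_iff _).2 (S.W₂_le hw)
    simp [this]
  · simpa using hμ

theorem Setup.card_hom (S : Setup K W₁ W₂) :
    Nat.card (↥(W₁ ⊔ W₂) →* ℂˣ) = Nat.card ↥(W₁ ⊔ W₂) := by
  letI : CommGroup ↥(W₁ ⊔ W₂) :=
    { (inferInstance : Group ↥(W₁ ⊔ W₂)) with
      mul_comm := fun a b => Subtype.ext (S.comm_W a.2 b.2) }
  have hne : NeZero (Monoid.exponent ↥(W₁ ⊔ W₂)) := ⟨Monoid.exponent_ne_zero_of_finite⟩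
  exact CommGroup.card_monoidHom_of_hasEnoughRootsOfUnity ↥(W₁ ⊔ W₂) ℂ

end Twist

section Sum
variable {A : Type*} [Group A]

theorem twist_sum_zero [Fintype (A →* ℂˣ)] (φ : A →* ℂˣ) (u : A) (hφ : φ u ≠ 1)
    (F : (A →* ℂˣ) → ℂ) (hF : ∀ ω, F (ω * φ) = F ω) :
    ∑ ω : A →* ℂˣ, F ω * ((ω u : ℂˣ) : ℂ) = 0 := by
  have h1 : ((φ u : ℂˣ) : ℂ) * ∑ ω : A →* ℂˣ, F ω * ((ω u : ℂˣ) : ℂ)
      = ∑ ω : A →* ℂˣ, F ω * ((ω u : ℂˣ) : ℂ) := by
    rw [Finset.mul_sum]
    refine Fintype.sum_equiv (Equiv.mulRight φ) _ _ fun ω => ?_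
    rw [Equiv.coe_mulRight, hF, MonoidHom.mul_apply, Units.val_mul]
    ring
  have h2 : (((φ u : ℂˣ) : ℂ) - 1) * ∑ ω : A →* ℂˣ, F ω * ((ω u : ℂˣ) : ℂ) = 0 := by
    rw [sub_mul, h1, one_mul, sub_self]
  rcases mul_eq_zero.1 h2 with h | h
  · exfalso
    apply hφ
    apply Units.ext
    rw [Units.val_one]
    linear_combination h
  · exact h

variable [Fintype A]

theorem classInner_lin_sub (ω₁ ω₂ ω₃ ω₄ : A →* ℂˣ) :
    Cfsg.classInner (fun w => ((ω₁ w : ℂˣ) : ℂ) - ((ω₂ w : ℂˣ) : ℂ))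
        (fun w => ((ω₃ w : ℂˣ) : ℂ) - ((ω₄ w : ℂˣ) : ℂ))
      = (if ω₁ = ω₃ then 1 else 0) - (if ω₁ = ω₄ then 1 else 0)
        - ((if ω₂ = ω₃ then 1 else 0) - (if ω₂ = ω₄ then 1 else 0)) := by
  have e : ∀ ω ω' : A →* ℂˣ, (fun w => ((ω w : ℂˣ) : ℂ) - ((ω' w : ℂˣ) : ℂ))
      = linFn ω - linFn ω' := fun _ _ => rfl
  rw [e, e, classInner_sub_left, classInner_sub_right, classInner_sub_right, classInner_linFn,
    classInner_linFn, classInner_linFn, classInner_linFn]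

theorem classInner_irr_sub {G : Type*} [Group G] [Fintype G] {P N P' N' : G → ℂ}
    (hP : IsIrrCharacter G P) (hN : IsIrrCharacter G N) (hP' : IsIrrCharacter G P')
    (hN' : IsIrrCharacter G N') :
    Cfsg.classInner (P - N) (P' - N')
      = (if P = P' then 1 else 0) - (if P = N' then 1 else 0)
        - ((if N = P' then 1 else 0) - (if N = N' then 1 else 0)) := by
  rw [classInner_sub_left, classInner_sub_right, classInner_sub_right, classInner_irr hP hP',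
    classInner_irr hP hN', classInner_irr hN hP', classInner_irr hN hN']

end Sum

end Cfsg.Agent.Lib.Helper4.KW
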