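import Mathlib
import Cfsg.Prelude.Def_Characters
import Cfsg.Agent.Lib.Helper4.KW4
import Cfsg.Agent.Lib.Helper4.KW6
import Cfsg.Agent.S0177
import Cfsg.Agent.Lib.Helper1.CliffordCorr

set_option autoImplicit false
set_option linter.unusedSectionVars false

/-! The exceptional characters `μ ω` of `L = K ⋊ W₁`: existence of the coherent family. -/

namespace Cfsg.Agent.Lib.Helper4.KW

open Cfsg Cfsg.Agent.Lib.Helper1 Cfsg.Agent.Lib.Helper4 Cfsg.Agent.Lib.Lead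
open scoped ComplexConjugate

variable {L : Type*} [Group L] [Fintype L] {K W₁ W₂ : Subgroup L} [hK : K.Normal]

/-- agreeing on `W₂` -/
def Agree (W₁ W₂ : Subgroup L) (ω ω' : ↥(W₁ ⊔ W₂) →* ℂˣ) : Prop :=
  ∀ w : ↥(W₁ ⊔ W₂), (w : L) ∈ W₂ → ω w = ω' w

def agreeSetoid (W₁ W₂ : Subgroup L) : Setoid (↥(W₁ ⊔ W₂) →* ℂˣ) where
  r := Agree W₁ W₂
  iseqv := ⟨fun _ _ _ => rfl, fun h w hw => (h w hw).symm,
    fun h h' w hw => (h w hw).trans (h' w hw)⟩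

/-- the difference of two linear characters, as a function -/
def dif (ω ω' : ↥(W₁ ⊔ W₂) →* ℂˣ) : ↥(W₁ ⊔ W₂) → ℂ :=
  fun w => ((ω w : ℂˣ) : ℂ) - ((ω' w : ℂˣ) : ℂ)

theorem dif_apply (ω ω' : ↥(W₁ ⊔ W₂) →* ℂˣ) (w : ↥(W₁ ⊔ W₂)) :
    dif ω ω' w = ((ω w : ℂˣ) : ℂ) - ((ω' w : ℂˣ) : ℂ) := rfl

theorem dif_vanish {ω ω' : ↥(W₁ ⊔ W₂) →* ℂˣ} (h : Agree W₁ W₂ ω ω') (w : ↥(W₁ ⊔ W₂))
    (hw : (w : L) ∈ W₂) : dif ω ω' w = 0 := by
  rw [dif_apply, h w hw, sub_self]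

theorem dif_one (ω ω' : ↥(W₁ ⊔ W₂) →* ℂˣ) : dif ω ω' 1 = 0 := by
  rw [dif_apply, map_one, map_one, sub_self]

theorem dif_add (a b c : ↥(W₁ ⊔ W₂) →* ℂˣ) : dif a b + dif b c = dif a c := by
  funext w
  simp only [Pi.add_apply, dif_apply]
  ring

theorem isGenChar_dif (ω ω' : ↥(W₁ ⊔ W₂) →* ℂˣ) :
    IsGeneralizedCharacter ↥(W₁ ⊔ W₂) (dif ω ω') :=
  ⟨fun w => ((ω w : ℂˣ) : ℂ), fun w => ((ω' w : ℂˣ) : ℂ),
    isCharacter_of_irr (isIrrCharacter_of_hom ω), isCharacter_of_irr (isIrrCharacter_of_hom ω'), rfl⟩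

theorem Setup.exists_family (S : Setup K W₁ W₂) :
    ∃ (μ : (↥(W₁ ⊔ W₂) →* ℂˣ) → (L → ℂ)) (δ : (↥(W₁ ⊔ W₂) →* ℂˣ) → ℂ),
      Function.Injective μ ∧ (∀ ω, IsIrrCharacter L (μ ω)) ∧ (∀ ω, δ ω = 1 ∨ δ ω = -1) ∧
      (∀ ω ω', Agree W₁ W₂ ω ω' →
        δ ω = δ ω' ∧ Cfsg.indFun (W₁ ⊔ W₂) (dif ω ω') = δ ω • (μ ω - μ ω')) := by
  classical
  haveI : Fintype ↥(W₁ ⊔ W₂) := Fintype.ofFinite _
  let s := agreeSetoid W₁ W₂
  have key : ∀ c : Quotient s, ∃ (ε : ℂ) (μ : {ω // Quotient.mk s ω = c} → (L → ℂ)),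
      (ε = 1 ∨ ε = -1) ∧ (∀ i, IsIrrCharacter L (μ i)) ∧ Function.Injective μ ∧
      ∀ i j, Cfsg.indFun (W₁ ⊔ W₂) (dif i.1 j.1) = ε • (μ i - μ j) := by
    intro c
    have hag : ∀ i j : {ω // Quotient.mk s ω = c}, Agree W₁ W₂ i.1 j.1 :=
      fun i j => Quotient.exact (i.2.trans j.2.symm)
    apply exists_coherent_family (fun i j : {ω // Quotient.mk s ω = c} =>
      Cfsg.indFun (W₁ ⊔ W₂) (dif i.1 j.1))
    · intro i j
      exact Cfsg.Agent.S0177.isGenChar_indFun _ (isGenChar_dif _ _)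
    · intro i j
      exact indFun_one_of_zero _ _ (dif_one _ _)
    · intro i j k
      rw [← indFun_add, dif_add]
    · intro i j hij
      rw [S.classInner_indFun _ _ (dif_vanish (hag i j))]
      have h1 : i.1 ≠ j.1 := fun h => hij (Subtype.ext h)
      have := classInner_lin_sub i.1 j.1 i.1 j.1
      rw [if_pos rfl, if_pos rfl, if_neg h1, if_neg h1.symm] at this
      rw [show dif i.1 j.1 = fun w => ((i.1 w : ℂˣ) : ℂ) - ((j.1 w : ℂˣ) : ℂ) from rfl, this]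
      norm_num
    · intro i j k hij hik hjk
      rw [S.classInner_indFun _ _ (dif_vanish (hag i j))]
      have h1 : i.1 ≠ j.1 := fun h => hij (Subtype.ext h)
      have h2 : i.1 ≠ k.1 := fun h => hik (Subtype.ext h)
      have h3 : j.1 ≠ k.1 := fun h => hjk (Subtype.ext h)
      have := classInner_lin_sub i.1 j.1 i.1 k.1
      rw [if_pos rfl, if_neg h2, if_neg h1.symm, if_neg h3] at this
      rw [show dif i.1 j.1 = fun w => ((i.1 w : ℂˣ) : ℂ) - ((j.1 w : ℂˣ) : ℂ) from rfl,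
        show dif i.1 k.1 = fun w => ((i.1 w : ℂˣ) : ℂ) - ((k.1 w : ℂˣ) : ℂ) from rfl, this]
      norm_num
  choose ε μ hε hirr hinj hv using key
  have htr : ∀ (ω : ↥(W₁ ⊔ W₂) →* ℂˣ) (c : Quotient s) (hc : Quotient.mk s ω = c),
      μ c ⟨ω, hc⟩ = μ (Quotient.mk s ω) ⟨ω, rfl⟩ := by
    intro ω c hc
    subst hc
    rfl
  have hd : ∀ ω ω', Agree W₁ W₂ ω ω' → ε (Quotient.mk s ω) = ε (Quotient.mk s ω') ∧
      Cfsg.indFun (W₁ ⊔ W₂) (dif ω ω') = ε (Quotient.mk s ω) •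
        (μ (Quotient.mk s ω) ⟨ω, rfl⟩ - μ (Quotient.mk s ω') ⟨ω', rfl⟩) := by
    intro ω ω' h
    have hc : Quotient.mk s ω' = Quotient.mk s ω := Quotient.sound (s := s) (s.symm h)
    refine ⟨by rw [hc], ?_⟩
    have := hv (Quotient.mk s ω) ⟨ω, rfl⟩ ⟨ω', hc⟩
    rw [htr ω' _ hc] at this
    exact this
  have hinjc : ∀ ω ω', Quotient.mk s ω' = Quotient.mk s ω →
      μ (Quotient.mk s ω) ⟨ω, rfl⟩ = μ (Quotient.mk s ω') ⟨ω', rfl⟩ → ω = ω' := by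
    intro ω ω' hc h
    rw [← htr ω' _ hc] at h
    have := hinj _ h
    exact congrArg Subtype.val this
  refine ⟨fun ω => μ (Quotient.mk s ω) ⟨ω, rfl⟩, fun ω => ε (Quotient.mk s ω), ?_,
    fun ω => hirr _ _, fun ω => hε _, hd⟩
  intro ω ω' hM
  by_cases hc : Quotient.mk s ω' = Quotient.mk s ω
  · exact hinjc ω ω' hc hM
  exfalso
  -- a nontrivial character trivial on `W₂`
  obtain ⟨w, hw, hw1, -⟩ := S.exists_gen
  have hw2 : w ∉ W₂ := fun h => hw1 (S.W₁_inf_K hw (S.W₂_le h))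
  obtain ⟨φ, hφ, hφw⟩ := S.exists_twist (Subgroup.mem_sup_left hw) hw2
  have hφ1 : φ ≠ 1 := by
    rintro rfl
    exact hφw rfl
  have hag : ∀ ω₀ : ↥(W₁ ⊔ W₂) →* ℂˣ, Agree W₁ W₂ ω₀ (ω₀ * φ) := by
    intro ω₀ u hu
    rw [MonoidHom.mul_apply, hφ u hu, mul_one]
  have hne : ∀ ω₀ : ↥(W₁ ⊔ W₂) →* ℂˣ, ω₀ ≠ ω₀ * φ := by
    intro ω₀ h
    apply hφ1
    ext u
    have h2 := DFunLike.congr_fun h u
    rw [MonoidHom.mul_apply] at h2
    have h3 : φ u = 1 := by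
      have h4 : ω₀ u * φ u = ω₀ u * 1 := by rw [mul_one]; exact h2.symm
      exact mul_left_cancel h4
    rw [h3, MonoidHom.one_apply]
  have hcl : ∀ ω₀ : ↥(W₁ ⊔ W₂) →* ℂˣ, Quotient.mk s (ω₀ * φ) = Quotient.mk s ω₀ :=
    fun ω₀ => Quotient.sound (s := s) (s.symm (hag ω₀))
  have hX1 : Cfsg.classInner (Cfsg.indFun (W₁ ⊔ W₂) (dif ω (ω * φ)))
      (Cfsg.indFun (W₁ ⊔ W₂) (dif ω' (ω' * φ))) = 0 := by
    rw [S.classInner_indFun _ _ (dif_vanish (hag ω))]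
    have := classInner_lin_sub ω (ω * φ) ω' (ω' * φ)
    have n1 : ω ≠ ω' := fun h => hc (by rw [h])
    have n2 : ω ≠ ω' * φ := fun h => hc (by rw [h, hcl])
    have n3 : ω * φ ≠ ω' := fun h => hc (by rw [← h, hcl])
    have n4 : ω * φ ≠ ω' * φ := fun h => hc (by rw [← hcl ω', ← h, hcl])
    rw [if_neg n1, if_neg n2, if_neg n3, if_neg n4] at this
    rw [show dif ω (ω * φ) = fun w => ((ω w : ℂˣ) : ℂ) - (((ω * φ) w : ℂˣ) : ℂ) from rfl,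
      show dif ω' (ω' * φ) = fun w => ((ω' w : ℂˣ) : ℂ) - (((ω' * φ) w : ℂˣ) : ℂ) from rfl, this]
    norm_num
  rw [(hd ω _ (hag ω)).2, (hd ω' _ (hag ω')).2, classInner_smul_left, classInner_smul_right,
    classInner_irr_sub (hirr _ _) (hirr _ _) (hirr _ _) (hirr _ _)] at hX1
  have m2 : μ (Quotient.mk s ω) ⟨ω, rfl⟩ ≠ μ (Quotient.mk s (ω' * φ)) ⟨ω' * φ, rfl⟩ := by
    intro h
    exact hne ω' (hinjc ω' (ω' * φ) (hcl ω') (hM.symm.trans h))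
  have m3 : μ (Quotient.mk s (ω * φ)) ⟨ω * φ, rfl⟩ ≠ μ (Quotient.mk s ω') ⟨ω', rfl⟩ := by
    intro h
    exact hne ω (hinjc ω (ω * φ) (hcl ω) (hM.trans h.symm))
  rw [if_pos hM, if_neg m2, if_neg m3] at hX1
  have e1 : ε (Quotient.mk s ω) ≠ 0 := by
    rcases hε (Quotient.mk s ω) with h | h <;> rw [h] <;> norm_num
  have e2 : conj (ε (Quotient.mk s ω')) ≠ 0 := by
    rcases hε (Quotient.mk s ω') with h | h <;> rw [h] <;> simp
  rcases mul_eq_zero.1 hX1 with h | h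
  · exact e1 h
  · rcases mul_eq_zero.1 h with h | h
    · exact e2 h
    · split_ifs at h <;> norm_num at h

end Cfsg.Agent.Lib.Helper4.KW
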