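import Mathlib
import Cfsg.Prelude.Def_Characters
import Cfsg.Agent.Lib.Helper4.KW7
import Cfsg.Agent.Lib.Helper4.Gallagher
import Cfsg.Agent.Lib.Helper1.CharFound5

set_option autoImplicit false
set_option linter.unusedSectionVars false

/-! The exceptional characters `μ ω` of `L = K ⋊ W₁`: values on `W - W₂`. -/

namespace Cfsg.Agent.Lib.Helper4.KW

open Cfsg Cfsg.Agent.Lib.Helper1 Cfsg.Agent.Lib.Helper4 Cfsg.Agent.Lib.Lead
open scoped ComplexConjugate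

theorem sum_le_of_injective {α β : Type*} [Fintype α] [Fintype β] (e : α → β)
    (he : Function.Injective e) (f : β → ℝ) (hf : ∀ b, 0 ≤ f b) :
    ∑ a, f (e a) ≤ ∑ b, f b := by
  classical
  rw [← Finset.sum_image (s := Finset.univ) (g := e) (f := f) (fun a _ b _ h => he h)]
  exact Finset.sum_le_sum_of_subset_of_nonneg (Finset.subset_univ _) (fun b _ _ => hf b)

theorem eq_zero_of_sum_le {α β : Type*} [Fintype α] [Fintype β] (e : α → β)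
    (he : Function.Injective e) (f : β → ℝ) (hf : ∀ b, 0 ≤ f b)
    (h : ∑ b, f b ≤ ∑ a, f (e a)) (b : β) (hb : ∀ a, b ≠ e a) : f b = 0 := by
  classical
  have h1 : ∑ a, f (e a) = ∑ b ∈ Finset.univ.image e, f b :=
    (Finset.sum_image (s := Finset.univ) (g := e) (f := f) (fun a _ b _ h => he h)).symm
  have hb' : b ∉ Finset.univ.image e := by
    intro hm
    obtain ⟨a, -, ha⟩ := Finset.mem_image.mp hm
    exact hb a ha.symm
  have h2 : ∑ b ∈ insert b (Finset.univ.image e), f b ≤ ∑ b, f b :=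
    Finset.sum_le_sum_of_subset_of_nonneg (Finset.subset_univ _) (fun b _ _ => hf b)
  rw [Finset.sum_insert hb'] at h2
  have := hf b
  linarith

variable {L : Type*} [Group L] [Fintype L] {K W₁ W₂ : Subgroup L} [hK : K.Normal]

/-- the conclusions (a)-(d) for a family `μ`, `δ` -/
structure Family (W₁ W₂ : Subgroup L) (μ : (↥(W₁ ⊔ W₂) →* ℂˣ) → (L → ℂ))
    (δ : (↥(W₁ ⊔ W₂) →* ℂˣ) → ℂ) : Prop where
  inj : Function.Injective μ
  irr : ∀ ω, IsIrrCharacter L (μ ω)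
  sign : ∀ ω, δ ω = 1 ∨ δ ω = -1
  coh : ∀ ω ω', Agree W₁ W₂ ω ω' →
    δ ω = δ ω' ∧ Cfsg.indFun (W₁ ⊔ W₂) (dif ω ω') = δ ω • (μ ω - μ ω')

variable {μ : (↥(W₁ ⊔ W₂) →* ℂˣ) → (L → ℂ)} {δ : (↥(W₁ ⊔ W₂) →* ℂˣ) → ℂ}

theorem Family.sq (F : Family W₁ W₂ μ δ) (ω : ↥(W₁ ⊔ W₂) →* ℂˣ) : δ ω * δ ω = 1 := by
  rcases F.sign ω with h | h <;> rw [h] <;> norm_num

theorem Family.conj_sign (F : Family W₁ W₂ μ δ) (ω : ↥(W₁ ⊔ W₂) →* ℂˣ) : conj (δ ω) = δ ω := by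
  rcases F.sign ω with h | h <;> rw [h] <;> simp

/-- the defect `μ ω x - δ ω * ω x` depends only on the class of `ω` -/
theorem Family.defect_eq (F : Family W₁ W₂ μ δ) (S : Setup K W₁ W₂) (w : ↥(W₁ ⊔ W₂))
    (hw : (w : L) ∉ W₂) {ω ω' : ↥(W₁ ⊔ W₂) →* ℂˣ} (h : Agree W₁ W₂ ω ω') :
    μ ω w - δ ω * ((ω w : ℂˣ) : ℂ) = μ ω' w - δ ω' * ((ω' w : ℂˣ) : ℂ) := by
  obtain ⟨h1, h2⟩ := F.coh ω ω' h
  have h3 := congrFun h2 (w : L)
  rw [S.indFun_apply_of_notMem _ w hw, dif_apply] at h3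
  simp only [Pi.smul_apply, Pi.sub_apply, smul_eq_mul] at h3
  have h4 := F.sq ω
  rw [← h1]
  linear_combination (-(δ ω)) * h3 - (μ ω ↑w - μ ω' ↑w) * h4

/-- the key inequality: the family exhausts the column of `x` -/
theorem Family.key (F : Family W₁ W₂ μ δ) (S : Setup K W₁ W₂) (w : ↥(W₁ ⊔ W₂))
    (hw : (w : L) ∉ W₂) [Fintype (↥(W₁ ⊔ W₂) →* ℂˣ)] [Fintype (Cfsg.IrrCharacter L)] :
    (∑ χ : Cfsg.IrrCharacter L, Complex.normSq ((χ : L → ℂ) w))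
      + ∑ ω : ↥(W₁ ⊔ W₂) →* ℂˣ, Complex.normSq (μ ω w - δ ω * ((ω w : ℂˣ) : ℂ))
      = ∑ ω : ↥(W₁ ⊔ W₂) →* ℂˣ, Complex.normSq (μ ω w) := by
  classical
  haveI : Fintype ↥(W₁ ⊔ W₂) := Fintype.ofFinite _
  -- column orthogonality
  have hcol := column_orthogonality (G := L) (w : L) (w : L)
  have hci : classIndicator (w : L) (w : L) = 1 := by
    unfold classIndicator
    rw [if_pos (IsConj.refl _)]
  rw [hci, mul_one, S.centralizer_eq w.2 hw] at hcol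
  have hcol' : ∑ χ : Cfsg.IrrCharacter L, Complex.normSq ((χ : L → ℂ) w)
      = (Nat.card ↥(W₁ ⊔ W₂) : ℝ) := by
    apply Complex.ofReal_injective
    rw [Complex.ofReal_sum, Complex.ofReal_natCast, ← hcol]
    refine Finset.sum_congr rfl fun χ _ => ?_
    rw [Complex.mul_conj]
  -- the twist
  obtain ⟨φ, hφ, hφw⟩ := S.exists_twist w.2 hw
  have hag : ∀ ω₀ : ↥(W₁ ⊔ W₂) →* ℂˣ, Agree W₁ W₂ ω₀ (ω₀ * φ) := by
    intro ω₀ u hu
    rw [MonoidHom.mul_apply, hφ u hu, mul_one]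
  have htw := twist_sum_zero φ w hφw
    (fun ω => δ ω * conj (μ ω w - δ ω * ((ω w : ℂˣ) : ℂ))) (by
      intro ω
      show δ (ω * φ) * conj (μ (ω * φ) w - δ (ω * φ) * (((ω * φ) w : ℂˣ) : ℂ)) = _
      rw [← F.defect_eq S w hw (hag ω), ← (F.coh ω _ (hag ω)).1])
  -- expand
  have hexp : ∀ ω : ↥(W₁ ⊔ W₂) →* ℂˣ, Complex.normSq (μ ω w)
      = 1 + Complex.normSq (μ ω w - δ ω * ((ω w : ℂˣ) : ℂ))
        + 2 * (δ ω * conj (μ ω w - δ ω * ((ω w : ℂˣ) : ℂ)) * ((ω w : ℂˣ) : ℂ)).re := by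
    intro ω
    have h1 : μ ω w = δ ω * ((ω w : ℂˣ) : ℂ) + (μ ω w - δ ω * ((ω w : ℂˣ) : ℂ)) := by ring
    have h2 : Complex.normSq (δ ω * ((ω w : ℂˣ) : ℂ)) = 1 := by
      rw [Complex.normSq_mul, Complex.normSq_eq_norm_sq, Complex.normSq_eq_norm_sq,
        norm_hom_apply]
      rcases F.sign ω with h | h <;> rw [h] <;> simp
    conv_lhs => rw [h1]
    rw [Complex.normSq_add, h2]
    congr 2
    ring_nf
  rw [Finset.sum_congr rfl fun ω _ => hexp ω, Finset.sum_add_distrib, Finset.sum_add_distrib,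
    ← Finset.mul_sum, ← Complex.re_sum, htw, Complex.zero_re, mul_zero, add_zero, hcol',
    Finset.sum_const, Finset.card_univ, ← Nat.card_eq_fintype_card, S.card_hom]
  simp

/-- (e): the values of `μ ω` on `W - W₂` -/
theorem Family.apply_of_notMem (F : Family W₁ W₂ μ δ) (S : Setup K W₁ W₂)
    (ω : ↥(W₁ ⊔ W₂) →* ℂˣ) (w : ↥(W₁ ⊔ W₂)) (hw : (w : L) ∉ W₂) :
    μ ω w = δ ω * ((ω w : ℂˣ) : ℂ) := by
  classical
  haveI : Fintype (↥(W₁ ⊔ W₂) →* ℂˣ) := Fintype.ofFinite _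
  haveI : Fintype (Cfsg.IrrCharacter L) := Fintype.ofFinite _
  have hkey := F.key S w hw
  have hle := sum_le_of_injective (fun ω => (⟨μ ω, F.irr ω⟩ : Cfsg.IrrCharacter L))
    (fun a b h => F.inj (congrArg Subtype.val h))
    (fun χ => Complex.normSq ((χ : L → ℂ) w)) (fun χ => Complex.normSq_nonneg _)
  have h0 : ∑ ω : ↥(W₁ ⊔ W₂) →* ℂˣ, Complex.normSq (μ ω w - δ ω * ((ω w : ℂˣ) : ℂ)) ≤ 0 := by
    simp only at hle
    linarith
  have h1 := (Finset.sum_eq_zero_iff_of_nonneg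
    (fun ω _ => Complex.normSq_nonneg (μ ω w - δ ω * ((ω w : ℂˣ) : ℂ)))).1
    (le_antisymm h0 (Finset.sum_nonneg fun ω _ => Complex.normSq_nonneg _)) ω (Finset.mem_univ _)
  rw [Complex.normSq_eq_zero] at h1
  exact sub_eq_zero.mp h1

/-- (f): other irreducible characters vanish on `W - W₂` -/
theorem Family.vanish (F : Family W₁ W₂ μ δ) (S : Setup K W₁ W₂) (θ : L → ℂ)
    (hθ : IsIrrCharacter L θ) (hne : ∀ ω, θ ≠ μ ω) (w : ↥(W₁ ⊔ W₂)) (hw : (w : L) ∉ W₂) :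
    θ w = 0 := by
  classical
  haveI : Fintype (↥(W₁ ⊔ W₂) →* ℂˣ) := Fintype.ofFinite _
  haveI : Fintype (Cfsg.IrrCharacter L) := Fintype.ofFinite _
  have hkey := F.key S w hw
  have hnn : 0 ≤ ∑ ω : ↥(W₁ ⊔ W₂) →* ℂˣ, Complex.normSq (μ ω w - δ ω * ((ω w : ℂˣ) : ℂ)) :=
    Finset.sum_nonneg fun ω _ => Complex.normSq_nonneg _
  have h1 := eq_zero_of_sum_le (fun ω => (⟨μ ω, F.irr ω⟩ : Cfsg.IrrCharacter L))
    (fun a b h => F.inj (congrArg Subtype.val h))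
    (fun χ => Complex.normSq ((χ : L → ℂ) w)) (fun χ => Complex.normSq_nonneg _)
    (by simp only; linarith) ⟨θ, hθ⟩ (fun ω h => hne ω (congrArg Subtype.val h))
  simp only at h1
  exact Complex.normSq_eq_zero.mp h1

end Cfsg.Agent.Lib.Helper4.KW
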