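import Mathlib
import Cfsg.Agent.Lib.Helper4.CTIl
import Cfsg.Agent.Lib.Helper4.KW8
import Cfsg.Agent.Lib.Helper4.Gallagher

set_option autoImplicit false
set_option linter.unusedSectionVars false
set_option linter.unusedVariables false

/-! Character sums over the two factors of the dual of `W = W₁ × W₂`. -/

namespace Cfsg.Agent.Lib.Helper4.CTI

open Cfsg Cfsg.Agent.Lib.Helper1 Cfsg.Agent.Lib.Helper4
open scoped ComplexConjugate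

variable {G : Type*} [Group G] [Fintype G] {W₁ W₂ : Subgroup G}

theorem exists_hom_ne_one (hW : Cfsg.IsSelfNormalizingCyclic W₁ W₂) (u : ↥(W₁ ⊔ W₂))
    (hu : u ≠ 1) : ∃ μ : ↥(W₁ ⊔ W₂) →* ℂˣ, μ u ≠ 1 := by
  have := hW.2.2.2.2.1
  let _ : CommGroup ↥(W₁ ⊔ W₂) := IsCyclic.commGroup
  have hne : NeZero (Monoid.exponent ↥(W₁ ⊔ W₂)) := ⟨Monoid.exponent_ne_zero_of_finite⟩
  exact CommGroup.exists_apply_ne_one_of_hasEnoughRootsOfUnity ↥(W₁ ⊔ W₂) ℂ hu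

theorem exists_T2_ne_one (hW : Cfsg.IsSelfNormalizingCyclic W₁ W₂) (w : ↥(W₁ ⊔ W₂))
    (hw : (w : G) ∉ W₁) : ∃ ψ : T2 W₁ W₂, ψ.1 w ≠ 1 := by
  obtain ⟨x, hx, y, hy, hxy⟩ := snc_mem_sup hW w.2
  have hy1 : y ≠ 1 := by
    rintro rfl
    rw [mul_one] at hxy
    exact hw (hxy ▸ hx)
  set x' : ↥(W₁ ⊔ W₂) := ⟨x, le_sup_left (a := W₁) hx⟩ with hx'
  set y' : ↥(W₁ ⊔ W₂) := ⟨y, le_sup_right (a := W₁) hy⟩ with hy'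
  have hy1' : y' ≠ 1 := fun h => hy1 (congrArg Subtype.val h)
  have hw' : w = x' * y' := Subtype.ext hxy
  obtain ⟨μ, hμ⟩ := exists_hom_ne_one hW y' hy1'
  obtain ⟨φ, ψ, hφ, hψ, rfl⟩ := snc_hom_decomp hW μ
  refine ⟨⟨ψ, hψ⟩, ?_⟩
  show ψ w ≠ 1
  rw [hw', map_mul, hψ x' hx, one_mul]
  intro h
  apply hμ
  rw [MonoidHom.mul_apply, hφ y' hy, h, one_mul]

theorem exists_T1_ne_one (hW : Cfsg.IsSelfNormalizingCyclic W₁ W₂) (w : ↥(W₁ ⊔ W₂))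
    (hw : (w : G) ∉ W₂) : ∃ φ : T1 W₁ W₂, φ.1 w ≠ 1 := by
  obtain ⟨x, hx, y, hy, hxy⟩ := snc_mem_sup hW w.2
  have hx1 : x ≠ 1 := by
    rintro rfl
    rw [one_mul] at hxy
    exact hw (hxy ▸ hy)
  set x' : ↥(W₁ ⊔ W₂) := ⟨x, le_sup_left (a := W₁) hx⟩ with hx'
  set y' : ↥(W₁ ⊔ W₂) := ⟨y, le_sup_right (a := W₁) hy⟩ with hy'
  have hx1' : x' ≠ 1 := fun h => hx1 (congrArg Subtype.val h)
  have hw' : w = x' * y' := Subtype.ext hxy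
  obtain ⟨μ, hμ⟩ := exists_hom_ne_one hW x' hx1'
  obtain ⟨φ, ψ, hφ, hψ, rfl⟩ := snc_hom_decomp hW μ
  refine ⟨⟨φ, hφ⟩, ?_⟩
  show φ w ≠ 1
  rw [hw', map_mul, hφ y' hy, mul_one]
  intro h
  apply hμ
  rw [MonoidHom.mul_apply, hψ x' hx, h, one_mul]

/-- multiplication by a fixed element of `T2` -/
noncomputable def mulT2 (ψ₀ : T2 W₁ W₂) : T2 W₁ W₂ ≃ T2 W₁ W₂ where
  toFun ψ := ⟨ψ₀.1 * ψ.1, fun w hw => by rw [MonoidHom.mul_apply, ψ₀.2 w hw, ψ.2 w hw, one_mul]⟩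
  invFun ψ := ⟨ψ₀.1⁻¹ * ψ.1, fun w hw => by
    rw [MonoidHom.mul_apply, MonoidHom.inv_apply, ψ₀.2 w hw, ψ.2 w hw, inv_one, one_mul]⟩
  left_inv ψ := by
    apply Subtype.ext
    ext w
    simp
  right_inv ψ := by
    apply Subtype.ext
    ext w
    simp

/-- multiplication by a fixed element of `T1` -/
noncomputable def mulT1 (φ₀ : T1 W₁ W₂) : T1 W₁ W₂ ≃ T1 W₁ W₂ where
  toFun φ := ⟨φ₀.1 * φ.1, fun w hw => by rw [MonoidHom.mul_apply, φ₀.2 w hw, φ.2 w hw, one_mul]⟩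
  invFun φ := ⟨φ₀.1⁻¹ * φ.1, fun w hw => by
    rw [MonoidHom.mul_apply, MonoidHom.inv_apply, φ₀.2 w hw, φ.2 w hw, inv_one, one_mul]⟩
  left_inv φ := by
    apply Subtype.ext
    ext w
    simp
  right_inv φ := by
    apply Subtype.ext
    ext w
    simp

theorem sum_T2_zero (hW : Cfsg.IsSelfNormalizingCyclic W₁ W₂) [Fintype (T2 W₁ W₂)]
    (w : ↥(W₁ ⊔ W₂)) (hw : (w : G) ∉ W₁) : ∑ ψ : T2 W₁ W₂, ((ψ.1 w : ℂˣ) : ℂ) = 0 := by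
  obtain ⟨ψ₀, hψ₀⟩ := exists_T2_ne_one hW w hw
  have h1 : ((ψ₀.1 w : ℂˣ) : ℂ) * ∑ ψ : T2 W₁ W₂, ((ψ.1 w : ℂˣ) : ℂ)
      = ∑ ψ : T2 W₁ W₂, ((ψ.1 w : ℂˣ) : ℂ) := by
    rw [Finset.mul_sum]
    refine Fintype.sum_equiv (mulT2 ψ₀) _ _ fun ψ => ?_
    show _ = (((ψ₀.1 * ψ.1) w : ℂˣ) : ℂ)
    rw [MonoidHom.mul_apply, Units.val_mul]
  have h2 : (((ψ₀.1 w : ℂˣ) : ℂ) - 1) * ∑ ψ : T2 W₁ W₂, ((ψ.1 w : ℂˣ) : ℂ) = 0 := by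
    rw [sub_mul, h1, one_mul, sub_self]
  rcases mul_eq_zero.1 h2 with h | h
  · exfalso
    apply hψ₀
    apply Units.ext
    rw [Units.val_one]
    linear_combination h
  · exact h

theorem sum_T1_zero (hW : Cfsg.IsSelfNormalizingCyclic W₁ W₂) [Fintype (T1 W₁ W₂)]
    (w : ↥(W₁ ⊔ W₂)) (hw : (w : G) ∉ W₂) : ∑ φ : T1 W₁ W₂, ((φ.1 w : ℂˣ) : ℂ) = 0 := by
  obtain ⟨φ₀, hφ₀⟩ := exists_T1_ne_one hW w hw
  have h1 : ((φ₀.1 w : ℂˣ) : ℂ) * ∑ φ : T1 W₁ W₂, ((φ.1 w : ℂˣ) : ℂ)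
      = ∑ φ : T1 W₁ W₂, ((φ.1 w : ℂˣ) : ℂ) := by
    rw [Finset.mul_sum]
    refine Fintype.sum_equiv (mulT1 φ₀) _ _ fun φ => ?_
    show _ = (((φ₀.1 * φ.1) w : ℂˣ) : ℂ)
    rw [MonoidHom.mul_apply, Units.val_mul]
  have h2 : (((φ₀.1 w : ℂˣ) : ℂ) - 1) * ∑ φ : T1 W₁ W₂, ((φ.1 w : ℂˣ) : ℂ) = 0 := by
    rw [sub_mul, h1, one_mul, sub_self]
  rcases mul_eq_zero.1 h2 with h | h
  · exfalso
    apply hφ₀
    apply Units.ext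
    rw [Units.val_one]
    linear_combination h
  · exact h

end Cfsg.Agent.Lib.Helper4.CTI
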