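import Mathlib
import Cfsg.Agent.Lib.Helper4.CTIm

set_option autoImplicit false
set_option linter.unusedSectionVars false
set_option linter.unusedVariables false

/-! The values of the family of signed irreducible characters on `W` off `W₁ ∪ W₂`. -/

namespace Cfsg.Agent.Lib.Helper4.CTI

open Cfsg Cfsg.Agent.Lib.Helper1 Cfsg.Agent.Lib.Helper4
open scoped ComplexConjugate

variable {G : Type*} [Group G] [Fintype G] {W₁ W₂ : Subgroup G}

theorem AbsNe.chr_ne {e e' : SIrr G} (h : AbsNe e e') : e.chr ≠ e'.chr := by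
  intro hc
  by_cases hp : e.pos = e'.pos
  · exact h.1 (SIrr.ext_iff'.2 ⟨hc, hp⟩)
  · apply h.2
    rw [SIrr.ext_iff', SIrr.neg_chr, SIrr.neg_pos]
    refine ⟨hc, ?_⟩
    cases h1 : e.pos <;> cases h2 : e'.pos <;> simp_all

theorem SIrr.normSq_fn (e : SIrr G) (x : G) :
    Complex.normSq (e.fn x) = Complex.normSq ((e.chr : G → ℂ) x) := by
  unfold SIrr.fn
  cases e.pos
  · simp only [Bool.false_eq_true, if_false, Pi.neg_apply, Complex.normSq_neg]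
  · simp only [if_true]

/-- the sum of `|χ(x)|²` over the irreducible characters is at most `|W|` for `x` off `W₁ ∪ W₂` -/
theorem sum_normSq_le (hW : Cfsg.IsSelfNormalizingCyclic W₁ W₂) [Fintype (Cfsg.IrrCharacter G)]
    {x : G} (hx : x ∈ W₁ ⊔ W₂) (hx1 : x ∉ W₁) (hx2 : x ∉ W₂) :
    ∑ χ : Cfsg.IrrCharacter G, Complex.normSq ((χ : G → ℂ) x) ≤ (Nat.card ↥(W₁ ⊔ W₂) : ℝ) := by
  have hcol := column_orthogonality x x
  have hci : classIndicator x x = 1 := by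
    unfold classIndicator
    rw [if_pos (IsConj.refl x)]
  rw [hci, mul_one] at hcol
  have h1 : ((∑ χ : Cfsg.IrrCharacter G, Complex.normSq ((χ : G → ℂ) x) : ℝ) : ℂ)
      = (Nat.card (Subgroup.centralizer ({x} : Set G)) : ℂ) := by
    rw [← hcol]
    push_cast
    refine Finset.sum_congr rfl fun χ _ => ?_
    rw [Complex.mul_conj]
  have h2 : (∑ χ : Cfsg.IrrCharacter G, Complex.normSq ((χ : G → ℂ) x) : ℝ)
      = (Nat.card (Subgroup.centralizer ({x} : Set G)) : ℝ) := by exact_mod_cast h1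
  rw [h2]
  have hle : Subgroup.centralizer ({x} : Set G) ≤ W₁ ⊔ W₂ := by
    rw [← snc_normalizer_singleton hW hx hx1 hx2]
    exact Subgroup.centralizer_le_normalizer (G := G) (s := ({x} : Set G))
  exact_mod_cast Subgroup.card_le_of_le hle

variable {a : I1 W₁ W₂ → SIrr G} {b : J1 W₁ W₂ → SIrr G} {c : I1 W₁ W₂ → J1 W₁ W₂ → SIrr G}

/-- the defect of the value at `w` -/
noncomputable def gam (a : I1 W₁ W₂ → SIrr G) (b : J1 W₁ W₂ → SIrr G)
    (c : I1 W₁ W₂ → J1 W₁ W₂ → SIrr G) (w : ↥(W₁ ⊔ W₂)) (p : T1 W₁ W₂ × T2 W₁ W₂) : ℂ :=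
  (lam a b c p).fn (w : G) - ((p.1.1 w : ℂˣ) : ℂ) * ((p.2.1 w : ℂˣ) : ℂ)

theorem gam_add (hW : Cfsg.IsSelfNormalizingCyclic W₁ W₂) (h : StdFam W₁ W₂ a b c)
    (w : ↥(W₁ ⊔ W₂)) (hw1 : (w : G) ∉ W₁) (hw2 : (w : G) ∉ W₂) (φ : T1 W₁ W₂) (ψ : T2 W₁ W₂) :
    gam a b c w (φ, ψ) = gam a b c w (φ, ⟨1, fun _ _ => rfl⟩)
      + gam a b c w (⟨1, fun _ _ => rfl⟩, ψ) := by
  have h00 : gam a b c w ((⟨1, fun _ _ => rfl⟩ : T1 W₁ W₂), (⟨1, fun _ _ => rfl⟩ : T2 W₁ W₂))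
      = 0 := by
    unfold gam
    rw [lam_one_one _ rfl rfl, oneS_fn]
    simp
  by_cases h1 : φ.1 = 1
  · have : φ = ⟨1, fun _ _ => rfl⟩ := Subtype.ext h1
    rw [this, h00, zero_add]
  by_cases h2 : ψ.1 = 1
  · have : ψ = ⟨1, fun _ _ => rfl⟩ := Subtype.ext h2
    rw [this, h00, add_zero]
  have h3 := congrFun (h.eq ⟨φ, h1⟩ ⟨ψ, h2⟩) (w : G)
  unfold XX at h3
  rw [Pi.sub_apply, snc_indFun_apply hW _ (alpha_vanish φ.2 ψ.2) w hw1 hw2] at h3
  simp only [Pi.add_apply] at h3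
  unfold gam
  rw [lam_ne_ne (φ, ψ) h1 h2, lam_ne_one (φ, ⟨1, fun _ _ => rfl⟩) h1 rfl,
    lam_one_ne (⟨1, fun _ _ => rfl⟩, ψ) rfl h2, SIrr.fn_neg, SIrr.fn_neg]
  unfold alpha at h3
  simp only [Pi.neg_apply, MonoidHom.one_apply, Units.val_one]
  linear_combination (-1 : ℂ) * h3

end Cfsg.Agent.Lib.Helper4.CTI
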