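import Mathlib
import Cfsg.Agent.Lib.Helper4.CTIn

set_option autoImplicit false
set_option linter.unusedSectionVars false
set_option linter.unusedVariables false

/-! The family of signed irreducible characters agrees with the linear characters of `W` off
`W₁ ∪ W₂`. -/

namespace Cfsg.Agent.Lib.Helper4.CTI

open Cfsg Cfsg.Agent.Lib.Helper1 Cfsg.Agent.Lib.Helper4
open scoped ComplexConjugate

variable {G : Type*} [Group G] [Fintype G] {W₁ W₂ : Subgroup G}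
variable {a : I1 W₁ W₂ → SIrr G} {b : J1 W₁ W₂ → SIrr G} {c : I1 W₁ W₂ → J1 W₁ W₂ → SIrr G}

theorem normSq_hom_apply (ω : ↥(W₁ ⊔ W₂) →* ℂˣ) (w : ↥(W₁ ⊔ W₂)) :
    Complex.normSq ((ω w : ℂˣ) : ℂ) = 1 := by
  classical
  have : Fintype ↥(W₁ ⊔ W₂) := Fintype.ofFinite _
  rw [Complex.normSq_eq_norm_sq, norm_hom_apply]
  norm_num

theorem gam_eq_zero (hW : Cfsg.IsSelfNormalizingCyclic W₁ W₂) (h : StdFam W₁ W₂ a b c)
    (w : ↥(W₁ ⊔ W₂)) (hw1 : (w : G) ∉ W₁) (hw2 : (w : G) ∉ W₂) (p : T1 W₁ W₂ × T2 W₁ W₂) :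
    gam a b c w p = 0 := by
  classical
  have : Fintype (Cfsg.IrrCharacter G) := Fintype.ofFinite _
  have : Fintype (T1 W₁ W₂) := Fintype.ofFinite _
  have : Fintype (T2 W₁ W₂) := Fintype.ofFinite _
  -- notation
  set z : T1 W₁ W₂ × T2 W₁ W₂ → ℂ := fun p => ((p.1.1 w : ℂˣ) : ℂ) * ((p.2.1 w : ℂˣ) : ℂ) with hz
  set u : T1 W₁ W₂ → ℂ := fun φ => gam a b c w (φ, ⟨1, fun _ _ => rfl⟩) with hu
  set v : T2 W₁ W₂ → ℂ := fun ψ => gam a b c w (⟨1, fun _ _ => rfl⟩, ψ) with hv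
  have hval : ∀ p : T1 W₁ W₂ × T2 W₁ W₂, (lam a b c p).fn (w : G) = z p + gam a b c w p := by
    intro p
    unfold gam
    simp only [hz]
    ring
  have hgam : ∀ p : T1 W₁ W₂ × T2 W₁ W₂, gam a b c w p = u p.1 + v p.2 := by
    rintro ⟨φ, ψ⟩
    exact gam_add hW h w hw1 hw2 φ ψ
  -- the bound
  have hinj : Function.Injective (fun p : T1 W₁ W₂ × T2 W₁ W₂ => (lam a b c p).chr) := by
    intro p p' hpp
    by_contra hne
    exact (lam_absNe h hne).chr_ne hpp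
  have hbound : ∑ p : T1 W₁ W₂ × T2 W₁ W₂, Complex.normSq ((lam a b c p).fn (w : G))
      ≤ (Nat.card ↥(W₁ ⊔ W₂) : ℝ) := by
    have h1 := KW.sum_le_of_injective _ hinj
      (fun χ : Cfsg.IrrCharacter G => Complex.normSq ((χ : G → ℂ) (w : G)))
      (fun χ => Complex.normSq_nonneg _)
    have h2 := sum_normSq_le hW w.2 hw1 hw2
    calc ∑ p : T1 W₁ W₂ × T2 W₁ W₂, Complex.normSq ((lam a b c p).fn (w : G))
        = ∑ p : T1 W₁ W₂ × T2 W₁ W₂, Complex.normSq (((lam a b c p).chr : G → ℂ) (w : G)) :=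
          Finset.sum_congr rfl fun p _ => SIrr.normSq_fn _ _
      _ ≤ _ := h1
      _ ≤ _ := h2
  -- the main term
  have hmain : ∑ p : T1 W₁ W₂ × T2 W₁ W₂, Complex.normSq (z p) = (Nat.card ↥(W₁ ⊔ W₂) : ℝ) := by
    have : ∀ p : T1 W₁ W₂ × T2 W₁ W₂, Complex.normSq (z p) = 1 := by
      intro p
      simp only [hz]
      rw [Complex.normSq_mul, normSq_hom_apply, normSq_hom_apply, one_mul]
    rw [Finset.sum_congr rfl fun p _ => this p, Finset.sum_const, Finset.card_univ,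
      Fintype.card_prod, ← Nat.card_eq_fintype_card, ← Nat.card_eq_fintype_card,
      (snc_card_triv hW).1, (snc_card_triv hW).2, snc_card_sup hW]
    simp
  -- the cross term
  have hcross : ∑ p : T1 W₁ W₂ × T2 W₁ W₂, z p * conj (gam a b c w p) = 0 := by
    rw [Fintype.sum_prod_type]
    have hs2 := sum_T2_zero hW w hw1
    have hs1 := sum_T1_zero hW w hw2
    have : ∀ φ : T1 W₁ W₂, ∑ ψ : T2 W₁ W₂, z (φ, ψ) * conj (gam a b c w (φ, ψ))
        = ((φ.1 w : ℂˣ) : ℂ) * conj (u φ) * ∑ ψ : T2 W₁ W₂, ((ψ.1 w : ℂˣ) : ℂ)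
          + ((φ.1 w : ℂˣ) : ℂ) * ∑ ψ : T2 W₁ W₂, ((ψ.1 w : ℂˣ) : ℂ) * conj (v ψ) := by
      intro φ
      rw [Finset.mul_sum, Finset.mul_sum, ← Finset.sum_add_distrib]
      refine Finset.sum_congr rfl fun ψ _ => ?_
      rw [hgam, map_add]
      simp only [hz]
      ring
    rw [Finset.sum_congr rfl fun φ _ => this φ, hs2]
    simp only [mul_zero, zero_add]
    rw [← Finset.sum_mul, hs1, zero_mul]
  -- expand
  have hexp : ∑ p : T1 W₁ W₂ × T2 W₁ W₂, Complex.normSq ((lam a b c p).fn (w : G))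
      = (Nat.card ↥(W₁ ⊔ W₂) : ℝ) + ∑ p : T1 W₁ W₂ × T2 W₁ W₂, Complex.normSq (gam a b c w p) := by
    have h1 : ∀ p : T1 W₁ W₂ × T2 W₁ W₂, Complex.normSq ((lam a b c p).fn (w : G))
        = Complex.normSq (z p) + Complex.normSq (gam a b c w p)
          + 2 * (z p * conj (gam a b c w p)).re := by
      intro p
      rw [hval p, Complex.normSq_add]
    rw [Finset.sum_congr rfl fun p _ => h1 p, Finset.sum_add_distrib, Finset.sum_add_distrib,
      hmain, ← Finset.mul_sum, ← Complex.re_sum, hcross]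
    simp
  have hle : ∑ p : T1 W₁ W₂ × T2 W₁ W₂, Complex.normSq (gam a b c w p) ≤ 0 := by
    rw [hexp] at hbound
    linarith
  have hzero := (Finset.sum_eq_zero_iff_of_nonneg
    (fun p _ => Complex.normSq_nonneg (gam a b c w p))).1
    (le_antisymm hle (Finset.sum_nonneg fun p _ => Complex.normSq_nonneg _)) p (Finset.mem_univ p)
  exact Complex.normSq_eq_zero.1 hzero

theorem chi_eq_on (hW : Cfsg.IsSelfNormalizingCyclic W₁ W₂) (h : StdFam W₁ W₂ a b c)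
    (ω : ↥(W₁ ⊔ W₂) →* ℂˣ) (w : ↥(W₁ ⊔ W₂)) (hw1 : (w : G) ∉ W₁) (hw2 : (w : G) ∉ W₂) :
    chi hW a b c ω w = ((ω w : ℂˣ) : ℂ) := by
  have h1 := gam_eq_zero hW h w hw1 hw2 ((sncEquiv hW).symm ω)
  unfold gam at h1
  have h2 : ω = ((sncEquiv hW).symm ω).1.1 * ((sncEquiv hW).symm ω).2.1 := by
    rw [← sncEquiv_apply hW, Equiv.apply_symm_apply]
  unfold chi
  rw [sub_eq_zero] at h1
  rw [h1]
  conv_rhs => rw [h2]
  rw [MonoidHom.mul_apply, Units.val_mul]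

end Cfsg.Agent.Lib.Helper4.CTI
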