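import Mathlib

/-!
# Carve-out A1 for S2099: `gcd (4, q^l + 1)`
-/

namespace Cfsg.Agent.Lib.Carve.A1

theorem gcd_four_cases (m : ℕ) : Nat.gcd 4 m = 1 ∨ Nat.gcd 4 m = 2 ∨ Nat.gcd 4 m = 4 := by
  have h : Nat.gcd 4 m ∣ 4 := Nat.gcd_dvd_left 4 m
  have hle : Nat.gcd 4 m ≤ 4 := Nat.le_of_dvd (by norm_num) h
  have hpos : 0 < Nat.gcd 4 m := Nat.gcd_pos_of_pos_left m (by norm_num)
  interval_cases hg : Nat.gcd 4 m
  · left; rfl
  · right; left; rfl
  · exfalso; omega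
  · right; right; rfl

theorem three_pow_mod_four (l : ℕ) : 3 ^ l % 4 = if Even l then 1 else 3 := by
  induction l with
  | zero => simp
  | succ l ih =>
    rw [pow_succ, Nat.mul_mod, ih]
    by_cases h : Even l
    · rw [if_pos h, if_neg (by rw [Nat.even_add_one]; exact not_not.2 h)]
    · rw [if_neg h, if_pos (by rw [Nat.even_add_one]; exact h)]

theorem odd_pow_mod_four {q : ℕ} (hq : Odd q) (l : ℕ) :
    q ^ l % 4 = 1 ∨ (q ^ l % 4 = 3 ∧ Odd l ∧ q % 4 = 3) := by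
  have hq4 : q % 4 = 1 ∨ q % 4 = 3 := by
    obtain ⟨k, rfl⟩ := hq
    omega
  rcases hq4 with h4 | h4
  · left
    rw [Nat.pow_mod, h4, Nat.one_pow]
  · rw [Nat.pow_mod, h4, three_pow_mod_four]
    by_cases h : Even l
    · left; rw [if_pos h]
    · right
      rw [if_neg h]
      exact ⟨rfl, Nat.not_even_iff_odd.1 h, rfl⟩

theorem gcd_four_pow_add_one (q l : ℕ) (hl : 1 ≤ l) :
    (Even q → Nat.gcd 4 (q ^ l + 1) = 1) ∧
    (Odd q → ¬ 4 ∣ q ^ l + 1 → Nat.gcd 4 (q ^ l + 1) = 2) ∧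
    (4 ∣ q ^ l + 1 → Nat.gcd 4 (q ^ l + 1) = 4 ∧ Odd l ∧ Odd q) := by
  refine ⟨?_, ?_, ?_⟩
  · intro hq
    have hev : Even (q ^ l) := (Nat.even_pow.2 ⟨hq, by omega⟩)
    have hodd : Odd (q ^ l + 1) := hev.add_one
    have h2 : ¬ 2 ∣ q ^ l + 1 := fun h => (Nat.not_even_iff_odd.2 hodd) (even_iff_two_dvd.2 h)
    rcases gcd_four_cases (q ^ l + 1) with h | h | h
    · exact h
    · exfalso
      apply h2
      rw [← h]
      exact Nat.gcd_dvd_right 4 _
    · exfalso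
      apply h2
      have : 4 ∣ q ^ l + 1 := by rw [← h]; exact Nat.gcd_dvd_right 4 _
      exact Dvd.dvd.trans (by norm_num) this
  · intro hq h4
    have hodd : Odd (q ^ l) := hq.pow
    have h2 : 2 ∣ q ^ l + 1 := even_iff_two_dvd.1 hodd.add_one
    rcases gcd_four_cases (q ^ l + 1) with h | h | h
    · exfalso
      have : 2 ∣ Nat.gcd 4 (q ^ l + 1) := Nat.dvd_gcd (by norm_num) h2
      rw [h] at this
      omega
    · exact h
    · exfalso
      apply h4
      rw [← h]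
      exact Nat.gcd_dvd_right 4 _
  · intro h4
    have hq : Odd q := by
      by_contra hne
      rw [Nat.not_odd_iff_even] at hne
      have hev : Even (q ^ l) := (Nat.even_pow.2 ⟨hne, by omega⟩)
      have hodd : Odd (q ^ l + 1) := hev.add_one
      have : 2 ∣ q ^ l + 1 := Dvd.dvd.trans (by norm_num) h4
      exact (Nat.not_even_iff_odd.2 hodd) (even_iff_two_dvd.2 this)
    refine ⟨Nat.gcd_eq_left h4, ?_, hq⟩
    rcases odd_pow_mod_four hq l with h | ⟨_, hl', _⟩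
    · exfalso; omega
    · exact hl'

end Cfsg.Agent.Lib.Carve.A1
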