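import Mathlib

/-!
# Carve-out U8 for S2511: arithmetic of `q^n ± 1` and `q + 1`
-/

set_option autoImplicit false

namespace Cfsg.Agent.Lib.Carve

namespace U8

theorem dvd_odd (q : ℕ) {n : ℕ} (hn : Odd n) : q + 1 ∣ q ^ n + 1 := by
  have h := hn.nat_add_dvd_pow_add_pow q 1
  rwa [one_pow] at h

theorem dvd_even (q : ℕ) {n : ℕ} (hn : Even n) : q + 1 ∣ q ^ n - 1 := by
  obtain ⟨m, rfl⟩ := hn
  rw [← two_mul, pow_mul]
  have h1 : q ^ 2 - 1 ∣ (q ^ 2) ^ m - 1 := Nat.sub_one_dvd_pow_sub_one (q ^ 2) m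
  have h2 : q + 1 ∣ q ^ 2 - 1 := by
    refine ⟨q - 1, ?_⟩
    rcases Nat.eq_zero_or_pos q with rfl | hq
    · simp
    · have : q ^ 2 - 1 = (q + 1) * (q - 1) := by
        obtain ⟨t, rfl⟩ : ∃ t, q = t + 1 := ⟨q - 1, by omega⟩
        simp only [Nat.add_sub_cancel]
        have : (t + 1) ^ 2 = (t + 1 + 1) * t + 1 := by ring
        omega
      exact this
  exact h2.trans h1

/-- `∑_{i<n} (-q)^i ≡ n` modulo `q + 1`, as integers -/
theorem geom_neg_modEq (q : ℕ) (n : ℕ) :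
    (∑ i ∈ Finset.range n, (-(q : ℤ)) ^ i) ≡ (n : ℤ) [ZMOD ((q : ℤ) + 1)] := by
  have h1 : (-(q : ℤ)) ≡ 1 [ZMOD ((q : ℤ) + 1)] := by
    rw [Int.modEq_iff_dvd]
    exact ⟨1, by ring⟩
  induction n with
  | zero => rw [Finset.sum_range_zero, Nat.cast_zero]
  | succ n ih =>
    rw [Finset.sum_range_succ]
    push_cast
    have h2 : (-(q : ℤ)) ^ n ≡ 1 [ZMOD ((q : ℤ) + 1)] := by
      have := h1.pow n
      rwa [one_pow] at this
    exact ih.add h2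

/-- `(-q)^n - 1 = (-q - 1) * ∑_{i<n} (-q)^i` -/
theorem geom_neg_mul (q : ℕ) (n : ℕ) :
    (-(q : ℤ)) ^ n - 1 = (-(q : ℤ) - 1) * ∑ i ∈ Finset.range n, (-(q : ℤ)) ^ i := by
  rw [mul_comm]
  exact (geom_sum_mul (-(q : ℤ)) n).symm

theorem gcd_dvd_odd (q : ℕ) {n : ℕ} (hn : Odd n) :
    Nat.gcd n (q + 1) ∣ (q ^ n + 1) / (q + 1) := by
  obtain ⟨c, hc⟩ := dvd_odd q hn
  have hq1 : 0 < q + 1 := Nat.succ_pos q
  rw [hc, Nat.mul_div_cancel_left _ hq1]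
  -- `c = ∑ (-q)^i` as integers
  have h1 : (c : ℤ) = ∑ i ∈ Finset.range n, (-(q : ℤ)) ^ i := by
    have h2 := geom_neg_mul q n
    rw [hn.neg_pow] at h2
    have h3 : ((q : ℤ) + 1) * (c : ℤ) = (q : ℤ) ^ n + 1 := by
      have : ((q ^ n + 1 : ℕ) : ℤ) = (((q + 1) * c : ℕ) : ℤ) := by rw [hc]
      push_cast at this
      linarith
    have h4 : ((q : ℤ) + 1) * (c : ℤ) =
        ((q : ℤ) + 1) * ∑ i ∈ Finset.range n, (-(q : ℤ)) ^ i := by
      rw [h3]; linarith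
    have h5 : ((q : ℤ) + 1) ≠ 0 := by positivity
    exact mul_left_cancel₀ h5 h4
  have h6 : (c : ℤ) ≡ (n : ℤ) [ZMOD ((q : ℤ) + 1)] := by
    rw [h1]; exact geom_neg_modEq q n
  -- so `gcd n (q+1)` divides `c`
  have h7 : ((Nat.gcd n (q + 1) : ℕ) : ℤ) ∣ (c : ℤ) := by
    have hg1 : ((Nat.gcd n (q + 1) : ℕ) : ℤ) ∣ (n : ℤ) :=
      Int.natCast_dvd_natCast.2 (Nat.gcd_dvd_left _ _)
    have hg2 : ((Nat.gcd n (q + 1) : ℕ) : ℤ) ∣ (q : ℤ) + 1 := by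
      have := Int.natCast_dvd_natCast.2 (Nat.gcd_dvd_right n (q + 1))
      push_cast at this
      exact this
    have h8 : ((q : ℤ) + 1) ∣ (n : ℤ) - (c : ℤ) := (Int.modEq_iff_dvd.1 h6)
    have h9 := hg2.trans h8
    have : (c : ℤ) = (n : ℤ) - ((n : ℤ) - (c : ℤ)) := by ring
    rw [this]
    exact dvd_sub hg1 h9
  exact Int.natCast_dvd_natCast.1 h7

theorem gcd_dvd_even (q : ℕ) {n : ℕ} (hn : Even n) :
    Nat.gcd n (q + 1) ∣ (q ^ n - 1) / (q + 1) := by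
  obtain ⟨c, hc⟩ := dvd_even q hn
  have hq1 : 0 < q + 1 := Nat.succ_pos q
  rw [hc, Nat.mul_div_cancel_left _ hq1]
  rcases Nat.eq_zero_or_pos n with rfl | hn0
  · -- `n = 0`: `c = 0`
    simp only [pow_zero, Nat.sub_self] at hc
    have : c = 0 := by
      rcases Nat.eq_zero_or_pos c with h | h
      · exact h
      · exfalso
        have : 0 < (q + 1) * c := Nat.mul_pos hq1 h
        omega
    rw [this]; exact dvd_zero _
  rcases Nat.eq_zero_or_pos q with rfl | hq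
  · -- `q = 0`: gcd n 1 = 1
    rw [zero_add, Nat.gcd_one_right]; exact one_dvd _
  have hqn : 1 ≤ q ^ n := Nat.one_le_pow _ _ hq
  -- `-c = ∑ (-q)^i` as integers
  have h1 : -(c : ℤ) = ∑ i ∈ Finset.range n, (-(q : ℤ)) ^ i := by
    have h2 := geom_neg_mul q n
    rw [hn.neg_pow] at h2
    have h3 : ((q : ℤ) + 1) * (c : ℤ) = (q : ℤ) ^ n - 1 := by
      have : ((q ^ n - 1 : ℕ) : ℤ) = (((q + 1) * c : ℕ) : ℤ) := by rw [hc]
      push_cast [hqn] at this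
      linarith
    have h4 : ((q : ℤ) + 1) * (-(c : ℤ)) =
        ((q : ℤ) + 1) * ∑ i ∈ Finset.range n, (-(q : ℤ)) ^ i := by
      have : ((q : ℤ) + 1) * (-(c : ℤ)) = -((q : ℤ) ^ n - 1) := by rw [← h3]; ring
      rw [this]; linarith
    have h5 : ((q : ℤ) + 1) ≠ 0 := by positivity
    exact mul_left_cancel₀ h5 h4
  have h6 : -(c : ℤ) ≡ (n : ℤ) [ZMOD ((q : ℤ) + 1)] := by
    rw [h1]; exact geom_neg_modEq q n
  have h7 : ((Nat.gcd n (q + 1) : ℕ) : ℤ) ∣ (c : ℤ) := by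
    have hg1 : ((Nat.gcd n (q + 1) : ℕ) : ℤ) ∣ (n : ℤ) :=
      Int.natCast_dvd_natCast.2 (Nat.gcd_dvd_left _ _)
    have hg2 : ((Nat.gcd n (q + 1) : ℕ) : ℤ) ∣ (q : ℤ) + 1 := by
      have := Int.natCast_dvd_natCast.2 (Nat.gcd_dvd_right n (q + 1))
      push_cast at this
      exact this
    have h8 : ((q : ℤ) + 1) ∣ (n : ℤ) - (-(c : ℤ)) := (Int.modEq_iff_dvd.1 h6)
    have h9 := hg2.trans h8
    have : (c : ℤ) = ((n : ℤ) - (-(c : ℤ))) - (n : ℤ) := by ring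
    rw [this]
    exact dvd_sub h9 hg1
  exact Int.natCast_dvd_natCast.1 h7

end U8

end Cfsg.Agent.Lib.Carve
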