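import Cfsg.Agent.Lib.Helper5.ThreeSq.Defs

/-!
# Carve-out Y1 for S2459: Sourour's reduction step for `n = 3`
-/

set_option autoImplicit false

open Cfsg.Agent.Lib.Helper5.ThreeSq

namespace Cfsg.Agent.Lib.Carve.Y1

open Matrix

/-- a non-scalar matrix has a vector `v` with `v`, `g v` linearly independent -/
theorem exists_indep {F : Type*} [Field F] (g : Matrix (Fin 3) (Fin 3) F)
    (hg : ∀ c : F, g ≠ c • (1 : Matrix (Fin 3) (Fin 3) F)) :
    ∃ v : Fin 3 → F, LinearIndependent F ![v, g *ᵥ v] := by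
  by_contra hcon
  push Not at hcon
  obtain ⟨c, hc⟩ := LinearMap.exists_eq_smul_id_of_forall_notLinearIndependent
    (f := Matrix.toLin' g) (fun v => by rw [Matrix.toLin'_apply]; exact hcon v)
  apply hg c
  have h1 : Matrix.toLin' g = Matrix.toLin' (c • (1 : Matrix (Fin 3) (Fin 3) F)) := by
    rw [hc, map_smul, Matrix.toLin'_one]; rfl
  exact Matrix.toLin'.injective h1

/-- the matrix with prescribed columns -/
def ofCols {F : Type*} (v u e : Fin 3 → F) : Matrix (Fin 3) (Fin 3) F :=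
  Matrix.of fun i j => ![v i, u i, e i] j

theorem ofCols_mulVec {F : Type*} [Field F] (v u e w : Fin 3 → F) (i : Fin 3) :
    (ofCols v u e *ᵥ w) i = v i * w 0 + u i * w 1 + e i * w 2 := by
  simp [ofCols, Matrix.mulVec, dotProduct, Fin.sum_univ_three]

theorem ofCols_det {F : Type*} [Field F] (v u e : Fin 3 → F) :
    (ofCols v u e).det = e ⬝ᵥ (v ⨯₃ u) := by
  have h1 : (ofCols v u e)ᵀ = (![v, u, e] : Matrix (Fin 3) (Fin 3) F) := by
    ext j i
    fin_cases j <;> rfl
  rw [← Matrix.det_transpose, h1, ← triple_product_eq_det, triple_product_permutation,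
    triple_product_permutation]

/-- first step: a similar matrix with first column `(a, 1, 0)` -/
theorem exists_conj_first_col {F : Type*} [Field F] (g : Matrix (Fin 3) (Fin 3) F)
    (hg : ∀ c : F, g ≠ c • (1 : Matrix (Fin 3) (Fin 3) F)) (a : F) :
    ∃ P M : Matrix (Fin 3) (Fin 3) F, P.det ≠ 0 ∧ g * P = P * M ∧ M 0 0 = a ∧ M 1 0 = 1 ∧
      M 2 0 = 0 := by
  classical
  obtain ⟨v, hv⟩ := exists_indep g hg
  have hcross : v ⨯₃ (g *ᵥ v) ≠ 0 := crossProduct_ne_zero_iff_linearIndependent.2 hv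
  obtain ⟨k, hk⟩ := Function.ne_iff.1 hcross
  set u : Fin 3 → F := g *ᵥ v - a • v with hu
  set e : Fin 3 → F := Pi.single k 1 with he
  have hcu : v ⨯₃ u = v ⨯₃ (g *ᵥ v) := by
    rw [hu, map_sub, map_smul, cross_self, smul_zero, sub_zero]
  set P := ofCols v u e with hP
  have hPdet : P.det ≠ 0 := by
    rw [hP, ofCols_det, hcu, he, single_one_dotProduct]
    exact hk
  have hPu : IsUnit P.det := isUnit_iff_ne_zero.mpr hPdet
  have h1 : P⁻¹ * P = 1 := Matrix.nonsing_inv_mul P hPu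
  have h2 : P * P⁻¹ = 1 := Matrix.mul_nonsing_inv P hPu
  set M := P⁻¹ * g * P with hM
  have hgP : g * P = P * M := by
    rw [hM, ← Matrix.mul_assoc, ← Matrix.mul_assoc, h2, Matrix.one_mul]
  have hinj : Function.Injective P.mulVec :=
    Matrix.mulVec_injective_iff_isUnit.2 ((Matrix.isUnit_iff_isUnit_det P).2 hPu)
  have hcol : M *ᵥ Pi.single 0 1 = ![a, 1, 0] := by
    apply hinj
    show P *ᵥ (M *ᵥ Pi.single 0 1) = P *ᵥ ![a, 1, 0]
    rw [Matrix.mulVec_mulVec, ← hgP, ← Matrix.mulVec_mulVec]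
    have e1 : P *ᵥ Pi.single 0 1 = v := by
      ext i
      rw [hP, ofCols_mulVec]
      simp
    rw [e1]
    ext i
    rw [hP, ofCols_mulVec, hu]
    simp only [Matrix.cons_val_zero, Matrix.cons_val_one, Pi.sub_apply, Pi.smul_apply,
      smul_eq_mul]
    have : (![a, 1, 0] : Fin 3 → F) 2 = 0 := rfl
    rw [this]
    ring
  rw [Matrix.mulVec_single_one] at hcol
  refine ⟨P, M, hPdet, hgP, ?_, ?_, ?_⟩
  · exact congrFun hcol 0
  · exact congrFun hcol 1
  · exact congrFun hcol 2

/-- the column operation `e₂ ↦ e₂ + e₀` -/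
def T {F : Type*} [Field F] : Matrix (Fin 3) (Fin 3) F := !![1, 0, 1; 0, 1, 0; 0, 0, 1]

/-- `T⁻¹ M T` written out -/
def conjT {F : Type*} [Field F] (M : Matrix (Fin 3) (Fin 3) F) : Matrix (Fin 3) (Fin 3) F :=
  !![M 0 0 - M 2 0, M 0 1 - M 2 1, (M 0 0 - M 2 0) + (M 0 2 - M 2 2);
     M 1 0, M 1 1, M 1 0 + M 1 2;
     M 2 0, M 2 1, M 2 0 + M 2 2]

theorem T_det {F : Type*} [Field F] : (T : Matrix (Fin 3) (Fin 3) F).det = 1 := by
  rw [T, Matrix.det_fin_three]; simp

theorem mul_T {F : Type*} [Field F] (M : Matrix (Fin 3) (Fin 3) F) : M * T = T * conjT M := by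
  ext i j
  fin_cases i <;> fin_cases j <;>
    simp [T, conjT, Matrix.mul_apply, Fin.sum_univ_three] <;> ring

/-- Sourour's reduction step (n = 3): a non-scalar invertible `g` is similar to a matrix `M` with
prescribed nonzero `(0,0)` entry `a` whose Schur complement is non-scalar. -/
theorem exists_conj_schur_nonscalar {F : Type*} [Field F] (g : Matrix (Fin 3) (Fin 3) F)
    (hg : ∀ c : F, g ≠ c • (1 : Matrix (Fin 3) (Fin 3) F)) (hdet : g.det ≠ 0) (a : F) (ha : a ≠ 0) :
    ∃ P M : Matrix (Fin 3) (Fin 3) F, P.det ≠ 0 ∧ g * P = P * M ∧ M 0 0 = a ∧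
      ∀ c : F, schur M ≠ c • (1 : Matrix (Fin 2) (Fin 2) F) := by
  obtain ⟨P, M, hP, hgP, h00, h10, h20⟩ := exists_conj_first_col g hg a
  by_cases hsc : ∀ c : F, schur M ≠ c • (1 : Matrix (Fin 2) (Fin 2) F)
  · exact ⟨P, M, hP, hgP, h00, hsc⟩
  · push Not at hsc
    obtain ⟨c, hc⟩ := hsc
    -- `c ≠ 0`
    have hMdet : M.det = g.det := by
      have := congrArg Matrix.det hgP
      rw [Matrix.det_mul, Matrix.det_mul, mul_comm] at this
      exact (mul_left_cancel₀ hP this).symm
    have hc0 : c ≠ 0 := by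
      intro h0
      apply hdet
      rw [← hMdet, det_eq_mul_det_schur M (by rw [h00]; exact ha), hc, h0, zero_smul,
        Matrix.det_zero, mul_zero]
    -- entries of the Schur complement
    have e01 : M 1 2 - M 1 0 * M 0 2 / M 0 0 = 0 := by
      have := congrFun (congrFun hc 0) 1
      rw [schur_apply] at this
      simpa using this
    have e11 : M 2 2 - M 2 0 * M 0 2 / M 0 0 = c := by
      have := congrFun (congrFun hc 1) 1
      rw [schur_apply] at this
      simpa using this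
    rw [h00, h10] at e01
    rw [h00, h20] at e11
    refine ⟨P * T, conjT M, ?_, ?_, ?_, ?_⟩
    · rw [Matrix.det_mul, T_det, mul_one]; exact hP
    · rw [← Matrix.mul_assoc, hgP, Matrix.mul_assoc, mul_T, Matrix.mul_assoc]
    · show M 0 0 - M 2 0 = a
      rw [h00, h20, sub_zero]
    · intro c' hc'
      have := congrFun (congrFun hc' 0) 1
      rw [schur_apply] at this
      have h3 : (c' • (1 : Matrix (Fin 2) (Fin 2) F)) 0 1 = 0 := by simp
      rw [h3] at this
      have h4 : conjT M (Fin.succ (0 : Fin 2)) (Fin.succ (1 : Fin 2)) = M 1 0 + M 1 2 := rfl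
      have h5 : conjT M (Fin.succ (0 : Fin 2)) 0 = M 1 0 := rfl
      have h6 : conjT M 0 (Fin.succ (1 : Fin 2)) = (M 0 0 - M 2 0) + (M 0 2 - M 2 2) := rfl
      have h7 : conjT M 0 0 = M 0 0 - M 2 0 := rfl
      rw [h4, h5, h6, h7, h00, h10, h20] at this
      apply hc0
      have h8 : M 2 2 = c := by
        rw [← e11]; ring
      rw [h8] at this
      field_simp at this e01
      -- this : a + a * M12 - (a + M02 - c) = 0 ; e01 : a * M12 - M02 = 0  (up to normal form)
      linear_combination this - e01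

end Cfsg.Agent.Lib.Carve.Y1
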