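import Cfsg.Agent.Lib.Helper5.ThreeSq.Defs

/-!
# Carve-out Y2 for S2459: Sourour's theorem for `n = 2`, split torus
-/

set_option autoImplicit false

open Cfsg.Agent.Lib.Helper5.ThreeSq

namespace Cfsg.Agent.Lib.Carve.Y2

/-- entrywise equality of explicit `2 × 2` matrices -/
theorem of_eq {F : Type*} [Field F] {x1 x2 x3 x4 y1 y2 y3 y4 : F} (h1 : x1 = y1) (h2 : x2 = y2) (h3 : x3 = y3)
    (h4 : x4 = y4) : (!![x1, x2; x3, x4] : Matrix (Fin 2) (Fin 2) F) = !![y1, y2; y3, y4] := by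
  rw [h1, h2, h3, h4]

/-- a non-scalar `2 × 2` matrix has a vector `w` with `w`, `S w` independent -/
theorem exists_non_eigen {F : Type*} [Field F] (S : Matrix (Fin 2) (Fin 2) F)
    (hS : ∀ c : F, S ≠ c • (1 : Matrix (Fin 2) (Fin 2) F)) :
    ∃ w0 w1 : F, w0 * (S 1 0 * w0 + S 1 1 * w1) - w1 * (S 0 0 * w0 + S 0 1 * w1) ≠ 0 := by
  by_cases h10 : S 1 0 = 0
  · by_cases h01 : S 0 1 = 0
    · refine ⟨1, 1, ?_⟩
      rw [h10, h01]
      intro h
      apply hS (S 0 0)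
      ext i j
      fin_cases i <;> fin_cases j
      · simp
      · simpa using h01
      · simpa using h10
      · simp only [Fin.mk_one, Fin.isValue, Matrix.smul_apply, Matrix.one_apply_eq, smul_eq_mul,
          mul_one]
        linear_combination h
    · refine ⟨0, 1, ?_⟩
      simpa using h01
  · refine ⟨1, 0, ?_⟩
    simpa using h10

/-- a lower triangular matrix with diagonal `α, α⁻¹` is similar to `diag(α, α⁻¹)` -/
theorem conj_lower {F : Type*} [Field F] (α : F) (hα : α ≠ 0) (hα2 : α ^ 2 ≠ 1) :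
    Conj (!![α, 0; α, α⁻¹] : Matrix (Fin 2) (Fin 2) F) (Matrix.diagonal ![α, α⁻¹]) := by
  refine ⟨!![α - α⁻¹, 0; α, 1], ?_, ?_⟩
  · rw [Matrix.det_fin_two_of]
    intro h
    apply hα2
    have h1 : α - α⁻¹ = 0 := by linear_combination h
    have h2 : α * α⁻¹ = 1 := mul_inv_cancel₀ hα
    linear_combination α * h1 + h2
  · have h2 : α * α⁻¹ = 1 := mul_inv_cancel₀ hα
    ext i j
    fin_cases i <;> fin_cases j <;>
      simp [Matrix.mul_apply, Fin.sum_univ_two, Matrix.diagonal_apply] <;> ring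

/-- an upper triangular matrix with diagonal `α⁻¹, α` is similar to `diag(α, α⁻¹)` -/
theorem conj_upper {F : Type*} [Field F] (α y : F) (hα : α ≠ 0) (hα2 : α ^ 2 ≠ 1) :
    Conj (!![α⁻¹, y; 0, α] : Matrix (Fin 2) (Fin 2) F) (Matrix.diagonal ![α, α⁻¹]) := by
  refine ⟨!![y, 1; α - α⁻¹, 0], ?_, ?_⟩
  · rw [Matrix.det_fin_two_of]
    intro h
    apply hα2
    have h1 : α - α⁻¹ = 0 := by linear_combination -h
    have h2 : α * α⁻¹ = 1 := mul_inv_cancel₀ hα
    linear_combination α * h1 + h2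
  · have h2 : α * α⁻¹ = 1 := mul_inv_cancel₀ hα
    ext i j
    fin_cases i <;> fin_cases j <;>
      simp [Matrix.mul_apply, Fin.sum_univ_two, Matrix.diagonal_apply] <;> ring

/-- Sourour's theorem for `n = 2`, split torus: a non-scalar `S` of determinant 1 is a product
of two matrices each similar to `diag(α, α⁻¹)` (`α² ≠ 1`). -/
theorem two_by_two_split {F : Type*} [Field F] (S : Matrix (Fin 2) (Fin 2) F)
    (hS : ∀ c : F, S ≠ c • (1 : Matrix (Fin 2) (Fin 2) F)) (hdet : S.det = 1)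
    (α : F) (hα : α ≠ 0) (hα2 : α ^ 2 ≠ 1) :
    ∃ L U : Matrix (Fin 2) (Fin 2) F, S = L * U ∧
      Conj L (Matrix.diagonal ![α, α⁻¹]) ∧ Conj U (Matrix.diagonal ![α, α⁻¹]) := by
  obtain ⟨w0, w1, hw⟩ := exists_non_eigen S hS
  have hαi : α * α⁻¹ = 1 := mul_inv_cancel₀ hα
  rw [Matrix.det_fin_two] at hdet
  set a := S 0 0 with ha
  set b := S 0 1 with hb
  set c := S 1 0 with hc
  set d := S 1 1 with hd
  have hSeq : S = !![a, b; c, d] := by
    ext i j
    fin_cases i <;> fin_cases j <;> rfl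
  let Q : Matrix (Fin 2) (Fin 2) F := !![w0, a * w0 + b * w1 - w0; w1, c * w0 + d * w1 - w1]
  let N : Matrix (Fin 2) (Fin 2) F := !![1, a + d - 2; 1, a + d - 1]
  let A : Matrix (Fin 2) (Fin 2) F := !![α, 0; α, α⁻¹]
  let B : Matrix (Fin 2) (Fin 2) F := !![α⁻¹, (a + d - 2) * α⁻¹; 0, α]
  have hQdet : Q.det ≠ 0 := by
    have : Q.det = w0 * (c * w0 + d * w1) - w1 * (a * w0 + b * w1) := by
      rw [Matrix.det_fin_two_of]; ring
    rw [this]; exact hw
  have hQu : IsUnit Q.det := isUnit_iff_ne_zero.mpr hQdet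
  have h1 : Q⁻¹ * Q = 1 := Matrix.nonsing_inv_mul Q hQu
  have h2 : Q * Q⁻¹ = 1 := Matrix.mul_nonsing_inv Q hQu
  have hAB : A * B = N := by
    show (!![α, 0; α, α⁻¹] : Matrix (Fin 2) (Fin 2) F) * !![α⁻¹, (a + d - 2) * α⁻¹; 0, α] =
      !![1, a + d - 2; 1, a + d - 1]
    rw [Matrix.mul_fin_two]
    have e1 : α * α⁻¹ + 0 * 0 = 1 := by linear_combination hαi
    have e2 : α * ((a + d - 2) * α⁻¹) + 0 * α = a + d - 2 := by
      linear_combination (a + d - 2) * hαi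
    have e3 : α * α⁻¹ + α⁻¹ * 0 = 1 := by linear_combination hαi
    have e4 : α * ((a + d - 2) * α⁻¹) + α⁻¹ * α = a + d - 1 := by
      linear_combination (a + d - 2) * hαi + hαi
    exact of_eq e1 e2 e3 e4
  have hSQ : S * Q = Q * N := by
    rw [hSeq]
    show (!![a, b; c, d] : Matrix (Fin 2) (Fin 2) F) *
        !![w0, a * w0 + b * w1 - w0; w1, c * w0 + d * w1 - w1] =
      !![w0, a * w0 + b * w1 - w0; w1, c * w0 + d * w1 - w1] * !![1, a + d - 2; 1, a + d - 1]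
    rw [Matrix.mul_fin_two, Matrix.mul_fin_two]
    have e1 : a * w0 + b * w1 = w0 * 1 + (a * w0 + b * w1 - w0) * 1 := by ring
    have e2 : a * (a * w0 + b * w1 - w0) + b * (c * w0 + d * w1 - w1) =
        w0 * (a + d - 2) + (a * w0 + b * w1 - w0) * (a + d - 1) := by
      linear_combination (-w0) * hdet
    have e3 : c * w0 + d * w1 = w1 * 1 + (c * w0 + d * w1 - w1) * 1 := by ring
    have e4 : c * (a * w0 + b * w1 - w0) + d * (c * w0 + d * w1 - w1) =
        w1 * (a + d - 2) + (c * w0 + d * w1 - w1) * (a + d - 1) := by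
      linear_combination (-w1) * hdet
    exact of_eq e1 e2 e3 e4
  refine ⟨Q * A * Q⁻¹, Q * B * Q⁻¹, ?_, ?_, ?_⟩
  · calc S = S * (Q * Q⁻¹) := by rw [h2, Matrix.mul_one]
      _ = S * Q * Q⁻¹ := by rw [Matrix.mul_assoc]
      _ = Q * (A * B) * Q⁻¹ := by rw [hSQ, hAB]
      _ = Q * A * (Q⁻¹ * Q) * B * Q⁻¹ := by rw [h1, Matrix.mul_one, Matrix.mul_assoc Q A B]
      _ = Q * A * Q⁻¹ * (Q * B * Q⁻¹) := by simp only [Matrix.mul_assoc]
  · obtain ⟨P, hP, e⟩ := conj_lower α hα hα2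
    refine ⟨Q * P, by rw [Matrix.det_mul]; exact mul_ne_zero hQdet hP, ?_⟩
    calc Q * A * Q⁻¹ * (Q * P) = Q * A * (Q⁻¹ * Q) * P := by simp only [Matrix.mul_assoc]
      _ = Q * (A * P) := by rw [h1, Matrix.mul_one, Matrix.mul_assoc]
      _ = Q * P * Matrix.diagonal ![α, α⁻¹] := by rw [e, Matrix.mul_assoc]
  · obtain ⟨P, hP, e⟩ := conj_upper α ((a + d - 2) * α⁻¹) hα hα2
    refine ⟨Q * P, by rw [Matrix.det_mul]; exact mul_ne_zero hQdet hP, ?_⟩
    calc Q * B * Q⁻¹ * (Q * P) = Q * B * (Q⁻¹ * Q) * P := by simp only [Matrix.mul_assoc]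
      _ = Q * (B * P) := by rw [h1, Matrix.mul_one, Matrix.mul_assoc]
      _ = Q * P * Matrix.diagonal ![α, α⁻¹] := by rw [e, Matrix.mul_assoc]

end Cfsg.Agent.Lib.Carve.Y2
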