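import Mathlib
import Cfsg.Agent.Lib.Helper8.Chr8Defs

set_option autoImplicit false

/-! S4751, package KMa: the Fourier coefficient of `x ↦ χ (x g)` at a `g`-fixed `l ∈ L` has
norm `|P|`. -/

namespace Cfsg.Agent.Lib.Helper8.Chr8

open Cfsg Cfsg.Agent.Lib.Helper8.RDG Cfsg.Agent.Lib.Helper1 Cfsg.Agent.Lib.Helper4 Cfsg.Agent.S0193
open scoped ComplexConjugate

universe u

variable {G : Type u} [Group G] [Finite G]

/-- orthogonality of the linear characters of `P` -/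
theorem kma_sum_hom (P : Subgroup G) [Fintype ↥P] (m l : ↥P →* ℂˣ) :
    ∑ x : P, ((m x : ℂˣ) : ℂ) * conj ((l x : ℂˣ) : ℂ) =
      if m = l then (Nat.card P : ℂ) else 0 := by
  have h := Cfsg.Agent.Lib.Helper4.classInner_irr (isIrr_lin P m) (isIrr_lin P l)
  rw [Cfsg.Agent.Lib.Helper4.classInner_def] at h
  have hP0 : (Nat.card P : ℂ) ≠ 0 := Nat.cast_ne_zero.2 Nat.card_pos.ne'
  have h2 : ∑ x : P, lin P m x * conj (lin P l x) =
      (Nat.card P : ℂ) * (if lin P m = lin P l then 1 else 0) := by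
    rw [← h, ← mul_assoc, mul_inv_cancel₀ hP0, one_mul]
  have h3 : (lin P m = lin P l) ↔ m = l := ⟨fun e => lin_injective P e, fun e => by rw [e]⟩
  simp only [lin_apply] at h2
  rw [h2]
  by_cases hml : m = l
  · rw [if_pos hml, if_pos (h3.mpr hml), mul_one]
  · rw [if_neg hml, if_neg (fun e => hml (h3.mp e)), mul_zero]

theorem fourier_coeff {χ : G → ℂ} (hχ : IsIrrCharacter G χ) (P : Subgroup G) [P.Normal] [Fintype ↥P]
    {L : Finset (↥P →* ℂˣ)} (hS : Spec χ P L) (l : ↥P →* ℂˣ) (hl : l ∈ L) (g : G)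
    (hg : conjHom P l g = l) :
    ‖∑ x : P, χ ((x : G) * g) * conj ((l x : ℂˣ) : ℂ)‖ = Nat.card P := by
  classical
  haveI : Fintype G := Fintype.ofFinite G
  have hP0 : (Nat.card P : ℂ) ≠ 0 := Nat.cast_ne_zero.2 Nat.card_pos.ne'
  -- the constituent
  have hconst : Cfsg.classInner (fun n : P => χ n) (lin P l) ≠ 0 := by
    rw [Cfsg.Agent.Lib.Helper4.classInner_def]
    have h1 : ∑ x : P, (fun n : P => χ n) x * conj (lin P l x) = (Nat.card P : ℂ) := by
      simp only [lin_apply]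
      have : ∀ x : P, χ (x : G) * conj ((l x : ℂˣ) : ℂ) =
          ∑ m ∈ L, ((m x : ℂˣ) : ℂ) * conj ((l x : ℂˣ) : ℂ) := by
        intro x
        rw [hS.res x, Finset.sum_mul]
      simp only [this]
      rw [Finset.sum_comm]
      simp only [kma_sum_hom]
      rw [Finset.sum_ite_eq' L l]
      rw [if_pos hl]
    rw [h1, inv_mul_cancel₀ hP0]
    exact one_ne_zero
  -- the inertia group
  obtain ⟨T, hT⟩ : ∃ T : Subgroup G, T = inertia P (lin P l) := ⟨_, rfl⟩
  have hcf : Cfsg.IsClassFunction P (lin P l) := by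
    intro a b
    rw [lin_apply, lin_apply, map_mul, map_mul, map_inv, mul_comm (l b), mul_assoc,
      mul_inv_cancel, mul_one]
  have hNT : P ≤ T := by rw [hT]; exact le_inertia P hcf
  have hmemT : ∀ r : G, r ∈ T ↔ conjHom P l r = l := by
    intro r
    rw [hT, mem_inertia, conjFun_lin]
    exact ⟨fun e => lin_injective P e, fun e => by rw [e]⟩
  have hgT : g ∈ T := (hmemT g).mpr hg
  obtain ⟨ψ, hψ, hχψ, c, hc⟩ := clifford_correspondence P (lin P l) (isIrr_lin P l) χ hχ hconst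
    T hT hNT
  -- the index of `T`
  have hidx : T.index = L.card := by
    rw [hT, ← card_orbitFinset]
    have : orbitFinset P (lin P l) = L.image (lin P) := by
      ext f
      rw [mem_orbitFinset, Finset.mem_image]
      constructor
      · rintro ⟨r, rfl⟩
        refine ⟨conjHom P l r, ?_, (conjFun_lin P l r).symm⟩
        apply hS.all_mem
        intro h1
        have h2 : conjHom P (conjHom P l r) r⁻¹ = l := by
          rw [conjHom_mul', mul_inv_cancel, conjHom_one]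
        rw [h1, conjHom_one_hom] at h2
        exact hS.one_notMem (h2 ▸ hl)
      · rintro ⟨m, hm, rfl⟩
        obtain ⟨r, hr⟩ := hS.trans l hl m hm
        exact ⟨r, by rw [conjFun_lin, hr]⟩
    rw [this, Finset.card_image_of_injective _ (lin_injective P)]
  -- degrees
  have hcardT : (Nat.card G : ℂ) = (T.index : ℂ) * (Nat.card T : ℂ) := by
    rw [← Nat.cast_mul, mul_comm, Subgroup.card_mul_index]
  have hT0 : (Nat.card T : ℂ) ≠ 0 := Nat.cast_ne_zero.2 Nat.card_pos.ne'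
  have hψ1 : ψ 1 = 1 := by
    have h1 : χ 1 = (T.index : ℂ) * ψ 1 := by
      rw [hχψ, indFun_apply]
      have : ∀ x : G, Cfsg.extendByZero T ψ (x⁻¹ * 1 * x) = ψ 1 := by
        intro x
        rw [mul_one, inv_mul_cancel, extendByZero_of_mem T ψ T.one_mem]
        rfl
      simp only [this]
      rw [Finset.sum_const, Finset.card_univ, nsmul_eq_mul, ← Nat.card_eq_fintype_card, hcardT]
      field_simp
    rw [hS.deg, hidx] at h1
    have hL0 : (L.card : ℂ) ≠ 0 := by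
      have := hS.two_le
      exact Nat.cast_ne_zero.2 (by omega)
    have h2 : (L.card : ℂ) * 1 = (L.card : ℂ) * ψ 1 := by rw [mul_one]; exact h1
    exact (mul_left_cancel₀ hL0 h2).symm
  obtain ⟨φ, hφ0⟩ := exists_hom_of_isIrrCharacter hψ hψ1
  have hφ : ∀ t : T, ψ t = ((φ t : ℂˣ) : ℂ) := fun t => congrFun hφ0 t
  have hc1 : c = 1 := by
    have := hc 1
    rw [lin_one_apply, mul_one] at this
    rw [← this]
    exact hψ1
  have hφP : ∀ n : P, ((φ ⟨n, hNT n.2⟩ : ℂˣ) : ℂ) = ((l n : ℂˣ) : ℂ) := by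
    intro n
    have := hc n
    rw [hc1, one_mul, lin_apply, hφ] at this
    exact this
  -- the main computation
  have hA : ∀ r : G, ∑ x : P, Cfsg.extendByZero T ψ (r⁻¹ * ((x : G) * g) * r) *
      conj ((l x : ℂˣ) : ℂ) = if r ∈ T then (Nat.card P : ℂ) * ((φ ⟨g, hgT⟩ : ℂˣ) : ℂ) else 0 := by
    intro r
    by_cases hr : r⁻¹ * g * r ∈ T
    · have hx : ∀ x : P, r⁻¹ * (x : G) * r ∈ P := by
        intro x
        have := (inferInstance : P.Normal).conj_mem x x.2 r⁻¹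
        rwa [inv_inv] at this
      have h1 : ∀ x : P, Cfsg.extendByZero T ψ (r⁻¹ * ((x : G) * g) * r) =
          ((conjHom P l r⁻¹ x : ℂˣ) : ℂ) * ((φ ⟨r⁻¹ * g * r, hr⟩ : ℂˣ) : ℂ) := by
        intro x
        have e : r⁻¹ * ((x : G) * g) * r = (r⁻¹ * (x : G) * r) * (r⁻¹ * g * r) := by group
        have hmem : (r⁻¹ * (x : G) * r) * (r⁻¹ * g * r) ∈ T := T.mul_mem (hNT (hx x)) hr
        rw [e, extendByZero_of_mem T ψ hmem, hφ]
        have e2 : (⟨(r⁻¹ * (x : G) * r) * (r⁻¹ * g * r), hmem⟩ : T) =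
            ⟨r⁻¹ * (x : G) * r, hNT (hx x)⟩ * ⟨r⁻¹ * g * r, hr⟩ := rfl
        rw [e2, map_mul, Units.val_mul, hφP ⟨r⁻¹ * (x : G) * r, hx x⟩, conjHom_apply]
        congr 3
        simp
      simp only [h1]
      have h2 : ∑ x : P, ((conjHom P l r⁻¹ x : ℂˣ) : ℂ) * ((φ ⟨r⁻¹ * g * r, hr⟩ : ℂˣ) : ℂ) *
          conj ((l x : ℂˣ) : ℂ) = ((φ ⟨r⁻¹ * g * r, hr⟩ : ℂˣ) : ℂ) *
          ∑ x : P, ((conjHom P l r⁻¹ x : ℂˣ) : ℂ) * conj ((l x : ℂˣ) : ℂ) := by
        rw [Finset.mul_sum]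
        exact Finset.sum_congr rfl fun x _ => by ring
      rw [h2, kma_sum_hom]
      by_cases hrT : r ∈ T
      · have hr' : conjHom P l r⁻¹ = l := (hmemT r⁻¹).mp (T.inv_mem hrT)
        rw [if_pos hr', if_pos hrT]
        have e3 : (⟨r⁻¹ * g * r, hr⟩ : T) = (⟨r, hrT⟩ : T)⁻¹ * ⟨g, hgT⟩ * ⟨r, hrT⟩ := rfl
        rw [e3, map_mul, map_mul, map_inv, mul_comm ((φ ⟨r, hrT⟩)⁻¹), mul_assoc, inv_mul_cancel,
          mul_one, mul_comm]
      · have hr' : ¬ conjHom P l r⁻¹ = l := by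
          intro e
          apply hrT
          have := T.inv_mem ((hmemT r⁻¹).mpr e)
          rwa [inv_inv] at this
        rw [if_neg hr', if_neg hrT, mul_zero]
    · have hrT : r ∉ T := fun h => hr (T.mul_mem (T.mul_mem (T.inv_mem h) hgT) h)
      rw [if_neg hrT]
      apply Finset.sum_eq_zero
      intro x _
      have hx : r⁻¹ * (x : G) * r ∈ P := by
        have := (inferInstance : P.Normal).conj_mem x x.2 r⁻¹
        rwa [inv_inv] at this
      have hn : r⁻¹ * ((x : G) * g) * r ∉ T := by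
        intro h
        apply hr
        have e : r⁻¹ * g * r = (r⁻¹ * (x : G) * r)⁻¹ * (r⁻¹ * ((x : G) * g) * r) := by group
        rw [e]
        exact T.mul_mem (T.inv_mem (hNT hx)) h
      rw [extendByZero_of_notMem T ψ hn, zero_mul]
  have hS2 : ∑ x : P, χ ((x : G) * g) * conj ((l x : ℂˣ) : ℂ) =
      (Nat.card P : ℂ) * ((φ ⟨g, hgT⟩ : ℂˣ) : ℂ) := by
    have h1 : ∀ x : P, χ ((x : G) * g) * conj ((l x : ℂˣ) : ℂ) =
        (Nat.card T : ℂ)⁻¹ * ∑ r : G, Cfsg.extendByZero T ψ (r⁻¹ * ((x : G) * g) * r) *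
          conj ((l x : ℂˣ) : ℂ) := by
      intro x
      rw [hχψ, indFun_apply, mul_assoc, Finset.sum_mul]
    simp only [h1]
    rw [← Finset.mul_sum, Finset.sum_comm]
    simp only [hA]
    rw [Finset.sum_ite, Finset.sum_const_zero, add_zero, Finset.sum_const, nsmul_eq_mul]
    have hcard : ((Finset.univ.filter fun r : G => r ∈ T).card : ℂ) = (Nat.card T : ℂ) := by
      congr 1
      rw [Nat.card_eq_fintype_card, Fintype.card_subtype]
    rw [hcard, ← mul_assoc, inv_mul_cancel₀ hT0, one_mul]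
  rw [hS2, norm_mul, Complex.norm_natCast]
  have hn1 : ‖((φ ⟨g, hgT⟩ : ℂˣ) : ℂ)‖ = 1 := by
    have hfin : (⟨g, hgT⟩ : T) ^ (orderOf (⟨g, hgT⟩ : T)) = 1 := pow_orderOf_eq_one _
    have h1 : ((φ ⟨g, hgT⟩ : ℂˣ) : ℂ) ^ (orderOf (⟨g, hgT⟩ : T)) = 1 := by
      rw [← Units.val_pow_eq_pow_val, ← map_pow, hfin, map_one, Units.val_one]
    exact Complex.norm_eq_one_of_pow_eq_one h1 (orderOf_pos _).ne'
  rw [hn1, mul_one]

end Cfsg.Agent.Lib.Helper8.Chr8
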