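import Mathlib

set_option autoImplicit false

namespace Cfsg.Agent.Lib.Helper4

/-- A residue coprime to a divisor `d` of `N` lifts to a residue coprime to `N`. -/
theorem exists_coprime_lift (N d c : ℕ) [NeZero N] (hd : d ∣ N) (hc : c.Coprime d) :
    ∃ m : ℕ, m.Coprime N ∧ m ≡ c [MOD d] := by
  have hd0 : NeZero d := ⟨fun h => by
    rw [h, zero_dvd_iff] at hd
    exact NeZero.ne N hd⟩
  obtain ⟨v, hv⟩ := ZMod.unitsMap_surjective hd (ZMod.unitOfCoprime c hc)
  refine ⟨(v : ZMod N).val, ZMod.val_coe_unit_coprime v, ?_⟩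
  rw [← ZMod.natCast_eq_natCast_iff]
  have h1 : ((ZMod.unitsMap hd v : (ZMod d)ˣ) : ZMod d) = (c : ZMod d) := by
    rw [hv]
    rfl
  rw [← h1, ZMod.unitsMap_def, Units.coe_map]
  simp [ZMod.natCast_val]

end Cfsg.Agent.Lib.Helper4
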