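import Mathlib

set_option autoImplicit false

namespace Cfsg.Agent.Lib.Helper4

/-- If `g` normalises `H` and `z ∈ H g`, then `z ^ i ∈ H g ^ i` for all integers `i`. -/
theorem zpow_mul_inv_mem {G : Type*} [Group G] (H : Subgroup G) (g z : G)
    (hg : g ∈ Subgroup.normalizer (H : Set G)) (hz : z * g⁻¹ ∈ H) (i : ℤ) :
    z ^ i * (g ^ i)⁻¹ ∈ H := by
  set N := Subgroup.normalizer (H : Set G) with hN
  have hzN : z ∈ N := by
    have : z = (z * g⁻¹) * g := by group
    rw [this]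
    exact N.mul_mem (Subgroup.le_normalizer hz) hg
  haveI : (H.subgroupOf N).Normal := Subgroup.normal_in_normalizer
  have h1 : (QuotientGroup.mk' (H.subgroupOf N)) ⟨z, hzN⟩ = (QuotientGroup.mk' (H.subgroupOf N)) ⟨g, hg⟩ := by
    rw [QuotientGroup.mk'_apply, QuotientGroup.mk'_apply, QuotientGroup.eq, Subgroup.mem_subgroupOf]
    have : ((⟨z, hzN⟩ : N)⁻¹ * ⟨g, hg⟩ : N) = ((z⁻¹ * g : G)) := rfl
    rw [this]
    have h2 : z⁻¹ * g = g⁻¹ * (z * g⁻¹)⁻¹ * g⁻¹⁻¹ := by group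
    rw [h2]
    exact (Subgroup.mem_normalizer_iff.mp (N.inv_mem hg) _).mp (H.inv_mem hz)
  have h3 : (QuotientGroup.mk' (H.subgroupOf N)) ((⟨z, hzN⟩ : N) ^ i * ((⟨g, hg⟩ : N) ^ i)⁻¹) = 1 := by
    rw [map_mul, map_inv, map_zpow, map_zpow, h1, mul_inv_cancel]
  have h4 := (QuotientGroup.eq_one_iff _).mp h3
  rw [Subgroup.mem_subgroupOf] at h4
  simpa using h4

/-- Lemma A: a `q`-element of `N ⋊ ⟨g⟩` congruent to `t ∈ ⟨g⟩` modulo the normal `q'`-subgroup `N`
is `N`-conjugate to `t`. -/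
theorem conj_of_pElement {K : Type*} [Group K] [Finite K] (N : Subgroup K) [N.Normal] (g : K)
    (hsup : N ⊔ Subgroup.zpowers g = ⊤) (hinf : N ⊓ Subgroup.zpowers g = ⊥)
    (q : ℕ) [Fact q.Prime] (hq : ¬ q ∣ Nat.card N) (a : ℕ) (w t : K) (hw : w ^ (q ^ a) = 1)
    (ht : t ∈ Subgroup.zpowers g) (hwt : w * t⁻¹ ∈ N) : ∃ x ∈ N, x * w * x⁻¹ = t := by
  have hcompl : Subgroup.IsComplement' N (Subgroup.zpowers g) := by
    apply Subgroup.isComplement'_of_disjoint_and_mul_eq_univ (disjoint_iff.mpr hinf)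
    rw [← Subgroup.normal_mul, hsup, Subgroup.coe_top]
  have hcard : Nat.card (K ⧸ Subgroup.zpowers g) = Nat.card N := hcompl.index_eq_card
  have hZ : IsPGroup q (Subgroup.zpowers w) := by
    rintro ⟨y, hy⟩
    refine ⟨a, ?_⟩
    obtain ⟨i, rfl⟩ := Subgroup.mem_zpowers_iff.mp hy
    apply Subtype.ext
    show (w ^ i) ^ (q ^ a) = 1
    rw [← zpow_natCast, ← zpow_mul, mul_comm, zpow_mul, zpow_natCast, hw, one_zpow]
  obtain ⟨ω, hω⟩ := hZ.nonempty_fixed_point_of_prime_not_dvd_card (K ⧸ Subgroup.zpowers g)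
    (by rw [hcard]; exact hq)
  induction ω using QuotientGroup.induction_on with
  | H k =>
    rw [MulAction.mem_fixedPoints] at hω
    have h1 : ((w * k : K) : K ⧸ Subgroup.zpowers g) = (k : K ⧸ Subgroup.zpowers g) :=
      hω ⟨w, Subgroup.mem_zpowers w⟩
    have h2 : (w * k)⁻¹ * k ∈ Subgroup.zpowers g := QuotientGroup.eq.mp h1
    -- k = x * s
    have hk : k ∈ N ⊔ Subgroup.zpowers g := by rw [hsup]; exact Subgroup.mem_top k
    rw [Subgroup.mem_sup_of_normal_left] at hk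
    obtain ⟨x, hx, s, hs, rfl⟩ := hk
    -- k⁻¹ w k ∈ ⟨g⟩, k = x s
    have h3 : x⁻¹ * w * x ∈ Subgroup.zpowers g := by
      have h4 : x⁻¹ * w * x = s * ((w * (x * s))⁻¹ * (x * s))⁻¹ * s⁻¹ := by group
      rw [h4]
      exact Subgroup.mul_mem _ (Subgroup.mul_mem _ hs (Subgroup.inv_mem _ h2)) (Subgroup.inv_mem _ hs)
    refine ⟨x⁻¹, N.inv_mem hx, ?_⟩
    rw [inv_inv]
    -- x⁻¹ w x t⁻¹ ∈ N ⊓ ⟨g⟩
    have h5 : x⁻¹ * w * x * t⁻¹ ∈ N := by
      have h6 : x⁻¹ * w * x * t⁻¹ = x⁻¹ * (w * t⁻¹) * (t * x * t⁻¹) := by group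
      rw [h6]
      exact N.mul_mem (N.mul_mem (N.inv_mem hx) hwt) (Subgroup.Normal.conj_mem inferInstance x hx t)
    have h7 : x⁻¹ * w * x * t⁻¹ ∈ N ⊓ Subgroup.zpowers g :=
      ⟨h5, Subgroup.mul_mem _ h3 (Subgroup.inv_mem _ ht)⟩
    rw [hinf, Subgroup.mem_bot] at h7
    exact mul_inv_eq_one.mp h7


/-- ambient version of `conj_of_pElement` -/
theorem conj_of_pElement' {G : Type*} [Group G] [Finite G] (H : Subgroup G) (g : G)
    (hg : g ∈ Subgroup.normalizer (H : Set G)) (hinf : H ⊓ Subgroup.zpowers g = ⊥)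
    (q : ℕ) [Fact q.Prime] (hq : ¬ q ∣ Nat.card H) (a : ℕ) (w t : G) (hw : w ^ (q ^ a) = 1)
    (ht : t ∈ Subgroup.zpowers g) (hwt : w * t⁻¹ ∈ H) : ∃ x ∈ H, x * w * x⁻¹ = t := by
  set K := H ⊔ Subgroup.zpowers g with hK
  have hHK : H ≤ K := le_sup_left
  have hZK : Subgroup.zpowers g ≤ K := le_sup_right
  have hgK : g ∈ K := hZK (Subgroup.mem_zpowers g)
  have htK : t ∈ K := hZK ht
  have hwK : w ∈ K := by
    have : w = (w * t⁻¹) * t := by group
    rw [this]; exact K.mul_mem (hHK hwt) htK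
  have hKN : K ≤ Subgroup.normalizer (H : Set G) :=
    sup_le Subgroup.le_normalizer (Subgroup.zpowers_le.mpr hg)
  haveI hNn : (H.subgroupOf K).Normal := (Subgroup.normal_subgroupOf_iff_le_normalizer hHK).mpr hKN
  have hsup : H.subgroupOf K ⊔ Subgroup.zpowers (⟨g, hgK⟩ : K) = ⊤ := by
    apply Subgroup.map_injective K.subtype_injective
    rw [Subgroup.map_sup, Subgroup.subgroupOf_map_subtype, MonoidHom.map_zpowers,
      ← MonoidHom.range_eq_map, Subgroup.range_subtype, inf_eq_left.mpr hHK]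
    rfl
  have hinf' : H.subgroupOf K ⊓ Subgroup.zpowers (⟨g, hgK⟩ : K) = ⊥ := by
    rw [eq_bot_iff]
    rintro y ⟨hy1, hy2⟩
    rw [Subgroup.mem_bot]
    have h1 : (y : G) ∈ H := Subgroup.mem_subgroupOf.mp hy1
    obtain ⟨i, hi⟩ := Subgroup.mem_zpowers_iff.mp hy2
    have h2 : (y : G) ∈ Subgroup.zpowers g := by
      rw [← hi]
      exact ⟨i, by simp⟩
    have : (y : G) ∈ H ⊓ Subgroup.zpowers g := ⟨h1, h2⟩
    rw [hinf, Subgroup.mem_bot] at this
    exact Subtype.ext this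
  have hcard : Nat.card (H.subgroupOf K) = Nat.card H :=
    Nat.card_congr (Subgroup.subgroupOfEquivOfLe hHK).toEquiv
  have ht' : (⟨t, htK⟩ : K) ∈ Subgroup.zpowers (⟨g, hgK⟩ : K) := by
    obtain ⟨i, hi⟩ := Subgroup.mem_zpowers_iff.mp ht
    refine ⟨i, ?_⟩
    apply Subtype.ext
    simpa using hi
  obtain ⟨x, hx, hxe⟩ := conj_of_pElement (H.subgroupOf K) ⟨g, hgK⟩ hsup hinf' q
    (by rw [hcard]; exact hq) a ⟨w, hwK⟩ ⟨t, htK⟩ (by apply Subtype.ext; simpa using hw) ht'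
    (by rw [Subgroup.mem_subgroupOf]; simpa using hwt)
  refine ⟨(x : G), Subgroup.mem_subgroupOf.mp hx, ?_⟩
  have := congrArg Subtype.val hxe
  simpa using this

/-- Conjugacy of cyclic complements: if `g` normalises `H`, `g ^ n = 1`, `n` is coprime to `|H|`,
and `z ∈ H g` satisfies `z ^ n = 1`, then `z` is `H`-conjugate to `g`. -/
theorem conj_of_cyclic_complement {G : Type*} [Group G] [Finite G] :
    ∀ (n : ℕ), 0 < n → ∀ (H : Subgroup G) (g z : G), g ∈ Subgroup.normalizer (H : Set G) →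
      Nat.Coprime n (Nat.card H) → g ^ n = 1 → z ^ n = 1 → z * g⁻¹ ∈ H →
      ∃ x ∈ H, x * z * x⁻¹ = g := by
  intro n
  induction n using Nat.strong_induction_on with
  | _ n ih =>
    intro hn H g z hg hcop hgn hzn hzg
    by_cases hn1 : n = 1
    · subst hn1
      rw [pow_one] at hgn hzn
      exact ⟨1, H.one_mem, by rw [hgn, hzn]; group⟩
    -- a prime divisor
    have hq : (n.minFac).Prime := Nat.minFac_prime hn1
    set q := n.minFac with hqdef
    haveI : Fact q.Prime := ⟨hq⟩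
    have hqn : q ∣ n := Nat.minFac_dvd n
    obtain ⟨a, n', hqn', hnn'⟩ := Nat.exists_eq_pow_mul_and_not_dvd hn.ne' q hq.ne_one
    have ha : 0 < a := by
      rcases Nat.eq_zero_or_pos a with h | h
      · subst h
        rw [pow_zero, one_mul] at hnn'
        exact absurd (hnn' ▸ hqn) hqn'
      · exact h
    have hn'pos : 0 < n' := by
      rcases Nat.eq_zero_or_pos n' with h | h
      · subst h; simp at hnn'; omega
      · exact h
    have hn'lt : n' < n := by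
      rw [hnn']
      have : 1 < q ^ a := Nat.one_lt_pow ha.ne' hq.one_lt
      nlinarith
    have hcop' : Nat.Coprime (q ^ a) n' :=
      Nat.Coprime.pow_left a ((Nat.Prime.coprime_iff_not_dvd hq).mpr hqn')
    obtain ⟨α, β, hαβ⟩ := Nat.isCoprime_iff_coprime.mpr hcop'
    -- u = β n', v = α q^a
    set u : ℤ := β * n' with hu
    set v : ℤ := α * (q ^ a : ℕ) with hv
    have huv : v + u = 1 := hαβ
    have hqH : ¬ q ∣ Nat.card H := by
      intro h
      have := Nat.dvd_gcd hqn h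
      rw [hcop.gcd_eq_one] at this
      exact hq.one_lt.ne' (Nat.dvd_one.mp this)
    have hinf : H ⊓ Subgroup.zpowers g = ⊥ := by
      apply Subgroup.inf_eq_bot_of_coprime
      rw [Nat.card_zpowers]
      exact (Nat.Coprime.coprime_dvd_left (orderOf_dvd_of_pow_eq_one hgn) hcop).symm
    have hpow : ∀ y : G, y ^ n = 1 → (y ^ u) ^ (q ^ a) = 1 := by
      intro y hy
      rw [← zpow_natCast, ← zpow_mul, hu]
      have : β * (n' : ℤ) * ((q ^ a : ℕ) : ℤ) = (n : ℤ) * β := by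
        rw [hnn']; push_cast; ring
      rw [this, zpow_mul, zpow_natCast, hy, one_zpow]
    have hpow' : ∀ y : G, y ^ n = 1 → (y ^ v) ^ n' = 1 := by
      intro y hy
      rw [← zpow_natCast, ← zpow_mul, hv]
      have : α * ((q ^ a : ℕ) : ℤ) * (n' : ℤ) = (n : ℤ) * α := by
        rw [hnn']; push_cast; ring
      rw [this, zpow_mul, zpow_natCast, hy, one_zpow]
    -- Step A
    obtain ⟨x₁, hx₁, hx₁e⟩ := conj_of_pElement' H g hg hinf q hqH a (z ^ u) (g ^ u) (hpow z hzn)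
      (Subgroup.zpow_mem_zpowers g u) (zpow_mul_inv_mem H g z hg hzg u)
    set z' := x₁ * z * x₁⁻¹ with hz'
    have hz'u : z' ^ u = g ^ u := by
      rw [hz', conj_zpow]; exact hx₁e
    have hz'n : z' ^ n = 1 := by
      rw [hz', conj_pow, hzn]; group
    have hz'g : z' * g⁻¹ ∈ H := by
      have : z' * g⁻¹ = x₁ * (z * g⁻¹) * (g * x₁⁻¹ * g⁻¹) := by rw [hz']; group
      rw [this]
      exact H.mul_mem (H.mul_mem hx₁ hzg)
        ((Subgroup.mem_normalizer_iff.mp hg _).mp (H.inv_mem hx₁))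
    -- Step B
    set H' := H ⊓ Subgroup.centralizer ({g ^ u} : Set G) with hH'
    have hcomm_g : g * g ^ u = g ^ u * g := by
      rw [← zpow_one_add, ← zpow_add_one, add_comm]
    have hgH' : g ∈ Subgroup.normalizer (H' : Set G) := by
      have key : ∀ k : G, k ∈ Subgroup.normalizer (H : Set G) → k * g ^ u = g ^ u * k →
          ∀ y ∈ H', k * y * k⁻¹ ∈ H' := by
        intro k hk hkc y hy
        have hy' := Subgroup.mem_inf.mp hy
        refine Subgroup.mem_inf.mpr ⟨(Subgroup.mem_normalizer_iff.mp hk _).mp hy'.1, ?_⟩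
        have hyc := hy'.2
        rw [Subgroup.mem_centralizer_iff] at hyc ⊢
        intro c hc
        rw [Set.mem_singleton_iff] at hc
        subst hc
        have h1 := hyc (g ^ u) rfl
        calc g ^ u * (k * y * k⁻¹) = (g ^ u * k) * y * k⁻¹ := by group
          _ = k * (g ^ u * y) * k⁻¹ := by rw [← hkc]; group
          _ = k * (y * g ^ u) * k⁻¹ := by rw [h1]
          _ = k * y * (g ^ u * k⁻¹) := by group
          _ = k * y * (k⁻¹ * g ^ u) := by
              have : g ^ u * k⁻¹ = k⁻¹ * g ^ u := by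
                calc g ^ u * k⁻¹ = k⁻¹ * (k * g ^ u) * k⁻¹ := by group
                  _ = k⁻¹ * (g ^ u * k) * k⁻¹ := by rw [hkc]
                  _ = k⁻¹ * g ^ u := by group
              rw [this]
          _ = k * y * k⁻¹ * g ^ u := by group
      rw [Subgroup.mem_normalizer_iff]
      intro y
      constructor
      · exact key g hg hcomm_g y
      · intro hy
        have hginv : g⁻¹ * g ^ u = g ^ u * g⁻¹ := by
          calc g⁻¹ * g ^ u = g⁻¹ * (g ^ u * g) * g⁻¹ := by group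
            _ = g⁻¹ * (g * g ^ u) * g⁻¹ := by rw [hcomm_g]
            _ = g ^ u * g⁻¹ := by group
        have := key g⁻¹ (Subgroup.inv_mem _ hg) hginv _ hy
        have e : g⁻¹ * (g * y * g⁻¹) * g⁻¹⁻¹ = y := by group
        rw [e] at this
        exact this
    have hz'H' : z' * g⁻¹ ∈ H' := by
      refine Subgroup.mem_inf.mpr ⟨hz'g, ?_⟩
      rw [Subgroup.mem_centralizer_iff]
      intro c hc
      rw [Set.mem_singleton_iff] at hc
      subst hc
      have h1 : g ^ u * z' = z' * g ^ u := by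
        rw [← hz'u, ← zpow_add_one, ← zpow_one_add, add_comm]
      have h2 : g ^ u * g⁻¹ = g⁻¹ * g ^ u := by
        calc g ^ u * g⁻¹ = g⁻¹ * (g * g ^ u) * g⁻¹ := by group
          _ = g⁻¹ * (g ^ u * g) * g⁻¹ := by rw [hcomm_g]
          _ = g⁻¹ * g ^ u := by group
      calc g ^ u * (z' * g⁻¹) = (g ^ u * z') * g⁻¹ := by group
        _ = z' * (g ^ u * g⁻¹) := by rw [h1]; group
        _ = z' * g⁻¹ * g ^ u := by rw [h2]; group
    have hcopH' : Nat.Coprime n' (Nat.card H') := by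
      have h1 : n' ∣ n := ⟨q ^ a, by rw [hnn']; ring⟩
      have h2 : Nat.card H' ∣ Nat.card H := Subgroup.card_dvd_of_le inf_le_left
      exact Nat.Coprime.coprime_dvd_left h1 (Nat.Coprime.coprime_dvd_right h2 hcop)
    obtain ⟨x₂, hx₂, hx₂e⟩ := ih n' hn'lt hn'pos H' (g ^ v) (z' ^ v)
      (Subgroup.zpow_mem _ hgH' v) hcopH' (hpow' g hgn) (hpow' z' hz'n)
      (zpow_mul_inv_mem H' g z' hgH' hz'H' v)
    have hx₂' := Subgroup.mem_inf.mp hx₂
    refine ⟨x₂ * x₁, H.mul_mem hx₂'.1 hx₁, ?_⟩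
    have hx₂c : x₂ * g ^ u = g ^ u * x₂ := by
      have := hx₂'.2
      rw [Subgroup.mem_centralizer_iff] at this
      exact (this (g ^ u) rfl).symm
    have e1 : x₂ * x₁ * z * (x₂ * x₁)⁻¹ = x₂ * z' * x₂⁻¹ := by rw [hz']; group
    rw [e1]
    have e2 : z' = z' ^ v * z' ^ u := by rw [← zpow_add, huv, zpow_one]
    have e3 : g = g ^ v * g ^ u := by rw [← zpow_add, huv, zpow_one]
    calc x₂ * z' * x₂⁻¹ = x₂ * (z' ^ v * z' ^ u) * x₂⁻¹ := by rw [← e2]
      _ = (x₂ * z' ^ v * x₂⁻¹) * (x₂ * z' ^ u * x₂⁻¹) := by group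
      _ = g ^ v * (x₂ * g ^ u * x₂⁻¹) := by rw [hx₂e, hz'u]
      _ = g ^ v * (g ^ u * x₂ * x₂⁻¹) := by rw [hx₂c]
      _ = g ^ v * g ^ u := by group
      _ = g := e3.symm

end Cfsg.Agent.Lib.Helper4
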