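import Mathlib
import Cfsg.Prelude.Def_Characters
import Cfsg.Agent.Lib.Helper4.GaloisTwist
import Cfsg.Agent.Lib.Helper1.IndFun

set_option autoImplicit false

namespace Cfsg.Agent.Lib.Helper4

open Cfsg.Agent.Lib.Helper1
open scoped ComplexConjugate

section Twist2
variable {G : Type*} [Group G] [Fintype G]

/-- `X` is an irreducible character up to sign. -/
def SignedIrr (X : G → ℂ) : Prop := Cfsg.IsIrrCharacter G X ∨ Cfsg.IsIrrCharacter G (-X)

theorem SignedIrr.twist (τ : ℂ →+* ℂ) {X : G → ℂ} (hX : SignedIrr X) :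
    SignedIrr (fun g => τ (X g)) := by
  rcases hX with h | h
  · exact Or.inl (isIrrCharacter_twist τ h)
  · right
    have := isIrrCharacter_twist τ h
    convert this using 1
    funext g
    simp

theorem SignedIrr.conj_apply {X : G → ℂ} (hX : SignedIrr X) (g : G) : conj (X g) = X g⁻¹ := by
  rcases hX with h | h
  · exact (isCharacter_inv (isCharacter_of_irr h) g).symm
  · have := (isCharacter_inv (isCharacter_of_irr h) g).symm
    simp only [Pi.neg_apply, map_neg, neg_inj] at this
    exact this

/-- Twisting commutes with inner products of signed irreducible characters. -/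
theorem classInner_twist (τ : ℂ →+* ℂ) (X : G → ℂ) {Y : G → ℂ} (hY : SignedIrr Y) :
    Cfsg.classInner (fun g => τ (X g)) (fun g => τ (Y g)) = τ (Cfsg.classInner X Y) := by
  unfold Cfsg.classInner
  rw [map_mul, map_inv₀, map_natCast, map_sum]
  congr 1
  refine Finset.sum_congr rfl fun g _ => ?_
  rw [map_mul, (hY.twist τ).conj_apply g, hY.conj_apply g]

/-- Twisting commutes with induction. -/
theorem indFun_twist (τ : ℂ →+* ℂ) (H : Subgroup G) (α : H → ℂ) (g : G) :
    τ (Cfsg.indFun H α g) = Cfsg.indFun H (fun h => τ (α h)) g := by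
  rw [indFun_apply, indFun_apply, map_mul, map_inv₀, map_natCast, map_sum]
  congr 1
  refine Finset.sum_congr rfl fun x _ => ?_
  by_cases hx : x⁻¹ * g * x ∈ H
  · rw [extendByZero_of_mem _ _ hx, extendByZero_of_mem _ _ hx]
  · rw [extendByZero_of_notMem _ _ hx, extendByZero_of_notMem _ _ hx, map_zero]

/-- Inner products of signed irreducible characters. -/
theorem SignedIrr.inner_cases {X Y : G → ℂ} (hX : SignedIrr X) (hY : SignedIrr Y) :
    Cfsg.classInner X Y = 0 ∨ (Cfsg.classInner X Y = 1 ∧ X = Y) ∨
      (Cfsg.classInner X Y = -1 ∧ X = -Y) := by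
  have key : ∀ {A B : G → ℂ}, Cfsg.IsIrrCharacter G A → Cfsg.IsIrrCharacter G B →
      Cfsg.classInner A B = 0 ∨ (Cfsg.classInner A B = 1 ∧ A = B) := by
    intro A B hA hB
    by_cases h : A = B
    · right
      subst h
      exact ⟨classInner_irr_self hA, rfl⟩
    · left
      exact classInner_irr_ne hA hB h
  have hnegl : ∀ A B : G → ℂ, Cfsg.classInner (-A) B = -Cfsg.classInner A B := by
    intro A B
    have := classInner_smul_left (-1 : ℂ) A B
    simpa using this
  have hnegr : ∀ A B : G → ℂ, Cfsg.classInner A (-B) = -Cfsg.classInner A B := by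
    intro A B
    have := classInner_smul_right (-1 : ℂ) A B
    simpa using this
  rcases hX with hX | hX <;> rcases hY with hY | hY
  · rcases key hX hY with h | ⟨h1, h2⟩
    · exact Or.inl h
    · exact Or.inr (Or.inl ⟨h1, h2⟩)
  · rcases key hX hY with h | ⟨h1, h2⟩
    · left
      rw [hnegr] at h
      simpa using h
    · right; right
      rw [hnegr] at h1
      exact ⟨by linear_combination -h1, h2⟩
  · rcases key hX hY with h | ⟨h1, h2⟩
    · left
      rw [hnegl] at h
      simpa using h
    · right; right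
      rw [hnegl] at h1
      refine ⟨by linear_combination -h1, ?_⟩
      rw [← h2, neg_neg]
  · rcases key hX hY with h | ⟨h1, h2⟩
    · left
      rw [hnegl, hnegr] at h
      simpa using h
    · right; left
      rw [hnegl, hnegr] at h1
      refine ⟨by simpa using h1, ?_⟩
      exact neg_injective h2

/-- If a signed irreducible `X` pairs to `1` against `Y₁ + Y₂ - Y₃` for pairwise orthogonal
signed irreducibles, it is one of `Y₁`, `Y₂`, `-Y₃`. -/
theorem SignedIrr.pick {X Y₁ Y₂ Y₃ : G → ℂ} (hX : SignedIrr X) (h1 : SignedIrr Y₁)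
    (h2 : SignedIrr Y₂) (h3 : SignedIrr Y₃) (h12 : Cfsg.classInner Y₁ Y₂ = 0)
    (h13 : Cfsg.classInner Y₁ Y₃ = 0) (h23 : Cfsg.classInner Y₂ Y₃ = 0)
    (hsum : Cfsg.classInner X Y₁ + Cfsg.classInner X Y₂ - Cfsg.classInner X Y₃ = 1) :
    X = Y₁ ∨ X = Y₂ ∨ X = -Y₃ := by
  rcases hX.inner_cases h1 with c1 | ⟨_, e1⟩ | ⟨c1, e1⟩
  · rcases hX.inner_cases h2 with c2 | ⟨_, e2⟩ | ⟨c2, e2⟩
    · rcases hX.inner_cases h3 with c3 | ⟨c3, _⟩ | ⟨_, e3⟩
      · rw [c1, c2, c3] at hsum
        norm_num at hsum
      · rw [c1, c2, c3] at hsum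
        norm_num at hsum
      · exact Or.inr (Or.inr e3)
    · exact Or.inr (Or.inl e2)
    · exfalso
      have c3 : Cfsg.classInner X Y₃ = 0 := by
        rw [e2, classInner_neg_left, h23, neg_zero]
      rw [c1, c2, c3] at hsum
      norm_num at hsum
  · exact Or.inl e1
  · exfalso
    have c2 : Cfsg.classInner X Y₂ = 0 := by
      rw [e1, classInner_neg_left, h12, neg_zero]
    have c3 : Cfsg.classInner X Y₃ = 0 := by
      rw [e1, classInner_neg_left, h13, neg_zero]
    rw [c1, c2, c3] at hsum
    norm_num at hsum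

/-- Matching two orthonormal families of signed irreducibles through two three-term
relations sharing one index. -/
theorem SignedIrr.match_of_two {ι : Type*} [DecidableEq ι] (X Y : ι → G → ℂ)
    (hXs : ∀ i, SignedIrr (X i)) (hYs : ∀ i, SignedIrr (Y i))
    (hXo : ∀ i j, Cfsg.classInner (X i) (X j) = if i = j then 1 else 0)
    (hYo : ∀ i j, Cfsg.classInner (Y i) (Y j) = if i = j then 1 else 0)
    (a b c b' c' : ι) (hab : a ≠ b) (hac : a ≠ c) (hbc : b ≠ c) (hab' : a ≠ b') (hac' : a ≠ c')
    (hbc' : b' ≠ c') (hbb' : b ≠ b') (hbc'' : b ≠ c') (hcb' : c ≠ b') (hcc' : c ≠ c')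
    (hE : X a + X b - X c = Y a + Y b - Y c) (hE' : X a + X b' - X c' = Y a + Y b' - Y c') :
    X a = Y a := by
  have hYne : ∀ i j, i ≠ j → Y i ≠ Y j ∧ Y i ≠ -Y j := by
    intro i j hij
    constructor
    · intro h
      have := hYo i j
      rw [if_neg hij, ← h, hYo i i, if_pos rfl] at this
      exact one_ne_zero this
    · intro h
      have := hYo i j
      rw [if_neg hij] at this
      have h2 : Cfsg.classInner (Y i) (Y j) = -1 := by
        have h3 : Y j = -Y i := by rw [h, neg_neg]
        rw [h3, classInner_neg_right, hYo i i, if_pos rfl]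
      rw [h2] at this
      norm_num at this
  have hpick : ∀ b c : ι, a ≠ b → a ≠ c → b ≠ c → X a + X b - X c = Y a + Y b - Y c →
      X a = Y a ∨ X a = Y b ∨ X a = -Y c := by
    intro b c hab hac hbc hE
    apply SignedIrr.pick (hXs a) (hYs a) (hYs b) (hYs c)
    · rw [hYo, if_neg hab]
    · rw [hYo, if_neg hac]
    · rw [hYo, if_neg hbc]
    · have h1 : Cfsg.classInner (X a) (X a + X b - X c) = 1 := by
        rw [classInner_sub_right, classInner_add_right, hXo, hXo, hXo, if_pos rfl, if_neg hab,
          if_neg hac]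
        ring
      rw [hE, classInner_sub_right, classInner_add_right] at h1
      exact h1
  rcases hpick b c hab hac hbc hE with h | h | h
  · exact h
  · rcases hpick b' c' hab' hac' hbc' hE' with h' | h' | h'
    · exact h'
    · exact absurd (h.symm.trans h') (hYne b b' hbb').1
    · exact absurd (h.symm.trans h') (hYne b c' hbc'').2
  · rcases hpick b' c' hab' hac' hbc' hE' with h' | h' | h'
    · exact h'
    · have := h.symm.trans h'
      have h2 : Y b' = -Y c := by rw [← this]
      exact absurd h2 (hYne b' c hcb'.symm).2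
    · have := h.symm.trans h'
      exact absurd (neg_injective this) (hYne c c' hcc').1

end Twist2

end Cfsg.Agent.Lib.Helper4
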