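import Mathlib
import Cfsg.Prelude.Def_Characters
import Cfsg.Prelude.Def_OddOrderLocal
import Cfsg.Prelude.Def_OddOrderChar
import Cfsg.Agent.Lib.Helper4.CyclicTI2
import Cfsg.Agent.Lib.Helper4.GaloisTwist2

set_option autoImplicit false

namespace Cfsg.Agent.Lib.Helper4


theorem hom_one_mul {W : Type*} [Group W] (ψ : W →* ℂˣ) : 1 * ψ = ψ := by
  ext w
  simp

theorem hom_mul_one {W : Type*} [Group W] (ψ : W →* ℂˣ) : ψ * 1 = ψ := by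
  ext w
  simp

theorem hom_one_pow {W : Type*} [Group W] (m : ℕ) : (1 : W →* ℂˣ) ^ m = 1 := by
  ext w
  simp

section CTI3
variable {G : Type*} [Group G] [Fintype G] {W₁ W₂ : Subgroup G}

/-- There are at least two nontrivial characters among a set of odd size `> 1`. -/
theorem exists_two_nontrivial {S : Type*} [Finite S] (s₀ : S) (hodd : Odd (Nat.card S))
    (hne : Nat.card S ≠ 1) : ∃ a b : S, a ≠ s₀ ∧ b ≠ s₀ ∧ a ≠ b := by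
  classical
  have : Fintype S := Fintype.ofFinite S
  have h3 : 3 ≤ Fintype.card S := by
    rw [← Nat.card_eq_fintype_card]
    obtain ⟨k, hk⟩ := hodd
    omega
  have h2 : 2 ≤ ((Finset.univ : Finset S).erase s₀).card := by
    rw [Finset.card_erase_of_mem (Finset.mem_univ _), Finset.card_univ]
    omega
  obtain ⟨a, ha, b, hb, hab⟩ := Finset.one_lt_card.1 h2
  exact ⟨a, b, (Finset.mem_erase.1 ha).1, (Finset.mem_erase.1 hb).1, hab⟩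

theorem cyclicTI_twist (hW : Cfsg.IsSelfNormalizingCyclic W₁ W₂)
    (hodd : Odd (Nat.card ↥(W₁ ⊔ W₂))) (χ : (↥(W₁ ⊔ W₂) →* ℂˣ) → (G → ℂ))
    (hχ : Cfsg.IsCyclicTIFamily W₁ W₂ χ) (τ : ℂ →+* ℂ) (m : ℕ) (hm : m.Coprime (Nat.card G))
    (hτ : ∀ c : ℂ, c ^ Nat.card G = 1 → τ c = c ^ m) (ω : ↥(W₁ ⊔ W₂) →* ℂˣ) (g : G) :
    τ (χ ω g) = χ (ω ^ m) g := by
  classical
  -- values of linear characters are roots of unity
  have hroot : ∀ (φ : ↥(W₁ ⊔ W₂) →* ℂˣ) (w : ↥(W₁ ⊔ W₂)), τ ((φ w : ℂˣ) : ℂ) = (((φ ^ m) w : ℂˣ) : ℂ) := by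
    intro φ w
    rw [hτ, MonoidHom.pow_apply, Units.val_pow_eq_pow_val]
    rw [← Units.val_pow_eq_pow_val, ← map_pow]
    have : w ^ Nat.card G = 1 := by
      apply Subtype.ext
      rw [Subgroup.coe_pow, Subgroup.coe_one]
      exact pow_card_eq_one'
    rw [this, map_one, Units.val_one]
  -- injectivity of the power map
  have hcardW : Nat.card (↥(W₁ ⊔ W₂) →* ℂˣ) ∣ Nat.card G := by
    rw [snc_card_hom hW, ← snc_card_sup hW]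
    exact Subgroup.card_subgroup_dvd_card _
  have hpinj : ∀ φ φ' : ↥(W₁ ⊔ W₂) →* ℂˣ, φ ^ m = φ' ^ m → φ = φ' := by
    intro φ φ' h
    have hc : Nat.Coprime (Nat.card (↥(W₁ ⊔ W₂) →* ℂˣ)) m :=
      (Nat.Coprime.coprime_dvd_right hcardW hm).symm
    exact (powCoprime hc).injective h
  set X : (↥(W₁ ⊔ W₂) →* ℂˣ) → G → ℂ := fun ω g => τ (χ ω g) with hX
  set Y : (↥(W₁ ⊔ W₂) →* ℂˣ) → G → ℂ := fun ω => χ (ω ^ m) with hY
  have hχs : ∀ ω, SignedIrr (χ ω) := fun ω => hχ.irr_or_neg ω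
  have hXs : ∀ ω, SignedIrr (X ω) := fun ω => (hχs ω).twist τ
  have hYs : ∀ ω, SignedIrr (Y ω) := fun ω => hχs (ω ^ m)
  have hXo : ∀ ω ω', Cfsg.classInner (X ω) (X ω') = if ω = ω' then 1 else 0 := by
    intro ω ω'
    show Cfsg.classInner (fun g => τ (χ ω g)) (fun g => τ (χ ω' g)) = _
    rw [classInner_twist τ (χ ω) (hχs ω'), hχ.orthonormal]
    split_ifs <;> simp
  have hYo : ∀ ω ω', Cfsg.classInner (Y ω) (Y ω') = if ω = ω' then 1 else 0 := by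
    intro ω ω'
    show Cfsg.classInner (χ (ω ^ m)) (χ (ω' ^ m)) = _
    rw [hχ.orthonormal]
    by_cases h : ω = ω'
    · rw [if_pos h, if_pos (by rw [h])]
    · rw [if_neg h, if_neg (fun h' => h (hpinj _ _ h'))]
  -- the twisted induction identity
  have hE : ∀ φ ψ : ↥(W₁ ⊔ W₂) →* ℂˣ, φ ≠ 1 → ψ ≠ 1 →
      (∀ w : ↥(W₁ ⊔ W₂), (w : G) ∈ W₂ → φ w = 1) → (∀ w : ↥(W₁ ⊔ W₂), (w : G) ∈ W₁ → ψ w = 1) →
      X φ + X ψ - X (φ * ψ) = Y φ + Y ψ - Y (φ * ψ) := by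
    intro φ ψ hφ1 hψ1 hφ hψ
    have h1 := hχ.induced_eq φ ψ hφ1 hψ1 hφ hψ
    have hφm1 : φ ^ m ≠ 1 := fun h => hφ1 (hpinj φ 1 (by rw [h, hom_one_pow]))
    have hψm1 : ψ ^ m ≠ 1 := fun h => hψ1 (hpinj ψ 1 (by rw [h, hom_one_pow]))
    have hφm : ∀ w : ↥(W₁ ⊔ W₂), (w : G) ∈ W₂ → (φ ^ m) w = 1 := by
      intro w hw
      rw [MonoidHom.pow_apply, hφ w hw, one_pow]
    have hψm : ∀ w : ↥(W₁ ⊔ W₂), (w : G) ∈ W₁ → (ψ ^ m) w = 1 := by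
      intro w hw
      rw [MonoidHom.pow_apply, hψ w hw, one_pow]
    have h2 := hχ.induced_eq (φ ^ m) (ψ ^ m) hφm1 hψm1 hφm hψm
    funext g
    have h3 := congrFun h1 g
    have h4 := congrFun h2 g
    have h5 := congrArg τ h3
    rw [indFun_twist] at h5
    have h6 : (fun w : ↥(W₁ ⊔ W₂) => τ (1 - (φ w : ℂ) - (ψ w : ℂ) + (φ w : ℂ) * (ψ w : ℂ)))
        = fun w => 1 - ((φ ^ m) w : ℂ) - ((ψ ^ m) w : ℂ) + ((φ ^ m) w : ℂ) * ((ψ ^ m) w : ℂ) := by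
      funext w
      rw [map_add, map_sub, map_sub, map_one, map_mul, hroot φ w, hroot ψ w]
    rw [h6, h4] at h5
    simp only [map_add, map_sub, map_one] at h5
    have h7 : (φ * ψ) ^ m = φ ^ m * ψ ^ m := mul_pow φ ψ m
    simp only [Pi.add_apply, Pi.sub_apply, hX, hY]
    rw [h7]
    linear_combination h5
  -- index bookkeeping
  have hmulne : ∀ φ ψ φ' ψ' : ↥(W₁ ⊔ W₂) →* ℂˣ,
      (∀ w : ↥(W₁ ⊔ W₂), (w : G) ∈ W₂ → φ w = 1) → (∀ w : ↥(W₁ ⊔ W₂), (w : G) ∈ W₁ → ψ w = 1) →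
      (∀ w : ↥(W₁ ⊔ W₂), (w : G) ∈ W₂ → φ' w = 1) → (∀ w : ↥(W₁ ⊔ W₂), (w : G) ∈ W₁ → ψ' w = 1) →
      (φ ≠ φ' ∨ ψ ≠ ψ') → φ * ψ ≠ φ' * ψ' := by
    intro φ ψ φ' ψ' h1 h2 h3 h4 hne h
    obtain ⟨e1, e2⟩ := (hom_mul_eq_mul_iff W₁ W₂ φ φ' ψ ψ' h1 h3 h2 h4).1 h
    rcases hne with hne | hne
    · exact hne e1
    · exact hne e2
  have ht2one : ∀ w : ↥(W₁ ⊔ W₂), (w : G) ∈ W₂ → (1 : ↥(W₁ ⊔ W₂) →* ℂˣ) w = 1 := fun _ _ => rfl
  have ht1one : ∀ w : ↥(W₁ ⊔ W₂), (w : G) ∈ W₁ → (1 : ↥(W₁ ⊔ W₂) →* ℂˣ) w = 1 := fun _ _ => rfl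
  obtain ⟨hc1, hc2⟩ := snc_card_triv hW
  have hodd12 : Odd (Nat.card W₁) ∧ Odd (Nat.card W₂) := by
    rw [snc_card_sup hW] at hodd
    exact Nat.odd_mul.1 hodd
  have hW1ne : Nat.card W₁ ≠ 1 := by
    intro h
    exact hW.1 (Subgroup.card_eq_one.1 h)
  have hW2ne : Nat.card W₂ ≠ 1 := by
    intro h
    exact hW.2.1 (Subgroup.card_eq_one.1 h)
  -- X φ = Y φ for nontrivial φ trivial on W₂
  have hΦ : ∀ φ : ↥(W₁ ⊔ W₂) →* ℂˣ, φ ≠ 1 →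
      (∀ w : ↥(W₁ ⊔ W₂), (w : G) ∈ W₂ → φ w = 1) → X φ = Y φ := by
    intro φ hφ1 hφ
    obtain ⟨ψ, ψ', hψ1, hψ'1, hψψ'⟩ := exists_two_nontrivial
      (S := {ψ : ↥(W₁ ⊔ W₂) →* ℂˣ // ∀ w : ↥(W₁ ⊔ W₂), (w : G) ∈ W₁ → ψ w = 1})
      ⟨1, ht1one⟩ (by rw [hc2]; exact hodd12.2) (by rw [hc2]; exact hW2ne)
    have hψ1' : ψ.1 ≠ 1 := fun h => hψ1 (Subtype.ext h)
    have hψ'1' : ψ'.1 ≠ 1 := fun h => hψ'1 (Subtype.ext h)
    have hψψ'' : ψ.1 ≠ ψ'.1 := fun h => hψψ' (Subtype.ext h)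
    apply SignedIrr.match_of_two X Y hXs hYs hXo hYo φ ψ.1 (φ * ψ.1) ψ'.1 (φ * ψ'.1)
    · have := hmulne φ 1 1 ψ.1 hφ ht1one ht2one ψ.2 (Or.inl hφ1)
      simp only [hom_one_mul, hom_mul_one] at this
      exact this
    · have := hmulne φ 1 φ ψ.1 hφ ht1one hφ ψ.2 (Or.inr hψ1'.symm)
      simp only [hom_one_mul, hom_mul_one] at this
      exact this
    · have := hmulne 1 ψ.1 φ ψ.1 ht2one ψ.2 hφ ψ.2 (Or.inl hφ1.symm)
      simp only [hom_one_mul, hom_mul_one] at this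
      exact this
    · have := hmulne φ 1 1 ψ'.1 hφ ht1one ht2one ψ'.2 (Or.inl hφ1)
      simp only [hom_one_mul, hom_mul_one] at this
      exact this
    · have := hmulne φ 1 φ ψ'.1 hφ ht1one hφ ψ'.2 (Or.inr hψ'1'.symm)
      simp only [hom_one_mul, hom_mul_one] at this
      exact this
    · have := hmulne 1 ψ'.1 φ ψ'.1 ht2one ψ'.2 hφ ψ'.2 (Or.inl hφ1.symm)
      simp only [hom_one_mul, hom_mul_one] at this
      exact this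
    · exact hψψ''
    · have := hmulne 1 ψ.1 φ ψ'.1 ht2one ψ.2 hφ ψ'.2 (Or.inl hφ1.symm)
      simp only [hom_one_mul, hom_mul_one] at this
      exact this
    · have := hmulne φ ψ.1 1 ψ'.1 hφ ψ.2 ht2one ψ'.2 (Or.inl hφ1)
      simp only [hom_one_mul, hom_mul_one] at this
      exact this
    · exact hmulne φ ψ.1 φ ψ'.1 hφ ψ.2 hφ ψ'.2 (Or.inr hψψ'')
    · exact hE φ ψ.1 hφ1 hψ1' hφ ψ.2
    · exact hE φ ψ'.1 hφ1 hψ'1' hφ ψ'.2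
  -- X ψ = Y ψ for nontrivial ψ trivial on W₁
  have hΨ : ∀ ψ : ↥(W₁ ⊔ W₂) →* ℂˣ, ψ ≠ 1 →
      (∀ w : ↥(W₁ ⊔ W₂), (w : G) ∈ W₁ → ψ w = 1) → X ψ = Y ψ := by
    intro ψ hψ1 hψ
    obtain ⟨φ, φ', hφ1, hφ'1, hφφ'⟩ := exists_two_nontrivial
      (S := {φ : ↥(W₁ ⊔ W₂) →* ℂˣ // ∀ w : ↥(W₁ ⊔ W₂), (w : G) ∈ W₂ → φ w = 1})
      ⟨1, ht2one⟩ (by rw [hc1]; exact hodd12.1) (by rw [hc1]; exact hW1ne)
    have hφ1' : φ.1 ≠ 1 := fun h => hφ1 (Subtype.ext h)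
    have hφ'1' : φ'.1 ≠ 1 := fun h => hφ'1 (Subtype.ext h)
    have hφφ'' : φ.1 ≠ φ'.1 := fun h => hφφ' (Subtype.ext h)
    apply SignedIrr.match_of_two X Y hXs hYs hXo hYo ψ φ.1 (φ.1 * ψ) φ'.1 (φ'.1 * ψ)
    · have := hmulne 1 ψ φ.1 1 ht2one hψ φ.2 ht1one (Or.inr hψ1)
      simp only [hom_one_mul, hom_mul_one] at this
      exact this
    · have := hmulne 1 ψ φ.1 ψ ht2one hψ φ.2 hψ (Or.inl hφ1'.symm)
      simp only [hom_one_mul, hom_mul_one] at this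
      exact this
    · have := hmulne φ.1 1 φ.1 ψ φ.2 ht1one φ.2 hψ (Or.inr hψ1.symm)
      simp only [hom_one_mul, hom_mul_one] at this
      exact this
    · have := hmulne 1 ψ φ'.1 1 ht2one hψ φ'.2 ht1one (Or.inr hψ1)
      simp only [hom_one_mul, hom_mul_one] at this
      exact this
    · have := hmulne 1 ψ φ'.1 ψ ht2one hψ φ'.2 hψ (Or.inl hφ'1'.symm)
      simp only [hom_one_mul, hom_mul_one] at this
      exact this
    · have := hmulne φ'.1 1 φ'.1 ψ φ'.2 ht1one φ'.2 hψ (Or.inr hψ1.symm)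
      simp only [hom_one_mul, hom_mul_one] at this
      exact this
    · exact hφφ''
    · have := hmulne φ.1 1 φ'.1 ψ φ.2 ht1one φ'.2 hψ (Or.inr hψ1.symm)
      simp only [hom_one_mul, hom_mul_one] at this
      exact this
    · have := hmulne φ.1 ψ φ'.1 1 φ.2 hψ φ'.2 ht1one (Or.inr hψ1)
      simp only [hom_one_mul, hom_mul_one] at this
      exact this
    · exact hmulne φ.1 ψ φ'.1 ψ φ.2 hψ φ'.2 hψ (Or.inl hφφ'')
    · have := hE φ.1 ψ hφ1' hψ1 φ.2 hψ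
      rw [add_comm (X φ.1), add_comm (Y φ.1)] at this
      exact this
    · have := hE φ'.1 ψ hφ'1' hψ1 φ'.2 hψ
      rw [add_comm (X φ'.1), add_comm (Y φ'.1)] at this
      exact this
  -- the trivial character
  have h1 : X 1 = Y 1 := by
    funext g
    simp only [hX, hY]
    rw [hom_one_pow, hχ.map_one, map_one]
  -- general case
  obtain ⟨φ, ψ, hφ, hψ, rfl⟩ := snc_hom_decomp hW ω
  have hgoal : X (φ * ψ) = Y (φ * ψ) := by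
    by_cases hφ1 : φ = 1
    · subst hφ1
      rw [hom_one_mul]
      by_cases hψ1 : ψ = 1
      · subst hψ1
        exact h1
      · exact hΨ ψ hψ1 hψ
    · by_cases hψ1 : ψ = 1
      · subst hψ1
        rw [hom_mul_one]
        exact hΦ φ hφ1 hφ
      · have h2 := hE φ ψ hφ1 hψ1 hφ hψ
        rw [hΦ φ hφ1 hφ, hΨ ψ hψ1 hψ] at h2
        have h3 : X (φ * ψ) = Y φ + Y ψ - (Y φ + Y ψ - X (φ * ψ)) := by abel
        rw [h3, h2]
        abel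
  exact congrFun hgoal g

end CTI3

end Cfsg.Agent.Lib.Helper4
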