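import Mathlib
import Cfsg.Agent.Lib.Helper4.VLBasic

set_option autoImplicit false

/-! Derived length of `p`-groups: Hall's lemma with its equality case, towards Mann's bound
`2^k + 2k - 2 ≤ log_p |G|` for derived length `k + 1` (S4009). -/

namespace Cfsg.Agent.Lib.Helper4.DL

open Subgroup
open scoped commutatorElement

variable {G : Type*} [Group G]

/-- three subgroups lemma modulo a normal subgroup -/
theorem three_subgroups_le (H₁ H₂ H₃ N : Subgroup G) [hN : N.Normal] (h1 : ⁅⁅H₂, H₃⁆, H₁⁆ ≤ N)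
    (h2 : ⁅⁅H₃, H₁⁆, H₂⁆ ≤ N) : ⁅⁅H₁, H₂⁆, H₃⁆ ≤ N := by
  have hker : (QuotientGroup.mk' N).ker = N := QuotientGroup.ker_mk' N
  have e1 : ⁅⁅H₂.map (QuotientGroup.mk' N), H₃.map (QuotientGroup.mk' N)⁆,
      H₁.map (QuotientGroup.mk' N)⁆ = ⊥ := by
    rw [← Subgroup.map_commutator, ← Subgroup.map_commutator, Subgroup.map_eq_bot_iff, hker]
    exact h1
  have e2 : ⁅⁅H₃.map (QuotientGroup.mk' N), H₁.map (QuotientGroup.mk' N)⁆,
      H₂.map (QuotientGroup.mk' N)⁆ = ⊥ := by
    rw [← Subgroup.map_commutator, ← Subgroup.map_commutator, Subgroup.map_eq_bot_iff, hker]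
    exact h2
  have e3 := Subgroup.commutator_commutator_eq_bot_of_rotate e1 e2
  rw [← Subgroup.map_commutator, ← Subgroup.map_commutator, Subgroup.map_eq_bot_iff, hker] at e3
  exact e3

/-- the lower central series of the whole group, `lcs G i = γ_{i+1}(G)`. -/
abbrev lcs (G : Type*) [Group G] (i : ℕ) : Subgroup G := (⊤ : Subgroup G).lowerCentralSeries i

instance lcs_normal (i : ℕ) : (lcs G i).Normal := Subgroup.normal_of_characteristic _

theorem lcs_succ (i : ℕ) : lcs G (i + 1) = ⁅lcs G i, (⊤ : Subgroup G)⁆ := rfl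

theorem lcs_anti {m n : ℕ} (h : m ≤ n) : lcs G n ≤ lcs G m :=
  Subgroup.lowerCentralSeries_antitone (⊤ : Subgroup G) h

/-- `[γ_{i+1}, γ_{j+1}] ≤ γ_{i+j+2}`. -/
theorem lcs_comm_le : ∀ (j i : ℕ), ⁅lcs G i, lcs G j⁆ ≤ lcs G (i + j + 1) := by
  intro j
  induction j with
  | zero => intro i; exact le_of_eq rfl
  | succ j ih =>
    intro i
    rw [lcs_succ, commutator_comm]
    apply three_subgroups_le
    · -- ⁅⁅⊤, lcs i⁆, lcs j⁆
      rw [commutator_comm ⊤ (lcs G i), ← lcs_succ]
      have := ih (i + 1)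
      have e : i + 1 + j + 1 = i + (j + 1) + 1 := by omega
      rw [e] at this
      exact this
    · -- ⁅⁅lcs i, lcs j⁆, ⊤⁆
      have h1 : ⁅⁅lcs G i, lcs G j⁆, (⊤ : Subgroup G)⁆ ≤ ⁅lcs G (i + j + 1), (⊤ : Subgroup G)⁆ :=
        commutator_mono (ih i) le_rfl
      exact h1

/-- chains with central steps and the lower central series. -/
theorem chain_comm_le (c : ℕ → Subgroup G) (hn : ∀ i, (c i).Normal)
    (hc : ∀ i, ⁅c (i + 1), (⊤ : Subgroup G)⁆ ≤ c i) :
    ∀ m i, ⁅c (i + m + 1), lcs G m⁆ ≤ c i := by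
  intro m
  induction m with
  | zero => intro i; exact hc i
  | succ m ih =>
    intro i
    have := hn i
    rw [lcs_succ, commutator_comm]
    apply three_subgroups_le
    · -- ⁅⁅⊤, C⁆, lcs m⁆
      rw [commutator_comm ⊤ (c (i + (m + 1) + 1))]
      refine le_trans (commutator_mono (hc _) le_rfl) ?_
      exact ih i
    · -- ⁅⁅C, lcs m⁆, ⊤⁆
      have h1 : ⁅c (i + (m + 1) + 1), lcs G m⁆ ≤ c (i + 1) := by
        have := ih (i + 1)
        have e : i + 1 + m + 1 = i + (m + 1) + 1 := by omega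
        rw [e] at this
        exact this
      exact le_trans (commutator_mono h1 le_rfl) (hc i)

/-- in a nilpotent group a normal subgroup `A ≤ [A, G]` is trivial. -/
theorem eq_bot_of_le_commutator_top [Group.IsNilpotent G] (A : Subgroup G)
    (h : A ≤ ⁅A, (⊤ : Subgroup G)⁆) : A = ⊥ := by
  have h1 : ∀ m, A ≤ lcs G m := by
    intro m
    induction m with
    | zero => exact le_top
    | succ m ih => exact h.trans (commutator_mono ih le_rfl)
  obtain ⟨n, hn⟩ := Subgroup.nilpotent_iff_lowerCentralSeries.mp (inferInstance : Group.IsNilpotent G)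
  exact eq_bot_iff.mpr (hn ▸ h1 n)

/-- `cmod Q u = {x | ⁅x, u⁆ ∈ Q}` for a normal subgroup `Q`: the centralizer of `u` modulo `Q`. -/
def cmod (Q : Subgroup G) [hQ : Q.Normal] (u : G) : Subgroup G where
  carrier := {x | ⁅x, u⁆ ∈ Q}
  one_mem' := by
    show ⁅(1 : G), u⁆ ∈ Q
    rw [commutatorElement_one_left]; exact Q.one_mem
  mul_mem' := by
    intro x y hx hy
    show ⁅x * y, u⁆ ∈ Q
    have e : ⁅x * y, u⁆ = (x * ⁅y, u⁆ * x⁻¹) * ⁅x, u⁆ := by
      simp only [commutatorElement_def]; group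
    rw [e]
    exact Q.mul_mem (hQ.conj_mem _ hy x) hx
  inv_mem' := by
    intro x hx
    show ⁅x⁻¹, u⁆ ∈ Q
    have e : ⁅x⁻¹, u⁆ = x⁻¹ * ⁅x, u⁆⁻¹ * x⁻¹⁻¹ := by
      simp only [commutatorElement_def]; group
    rw [e]
    exact hQ.conj_mem _ (Q.inv_mem hx) x⁻¹

theorem mem_cmod (Q : Subgroup G) [Q.Normal] {u x : G} : x ∈ cmod Q u ↔ ⁅x, u⁆ ∈ Q := Iff.rfl

theorem mem_cmod_comm (Q : Subgroup G) [Q.Normal] {u x : G} : x ∈ cmod Q u ↔ u ∈ cmod Q x := by
  rw [mem_cmod, mem_cmod, ← commutatorElement_inv x u, Q.inv_mem_iff]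

theorem self_mem_cmod (Q : Subgroup G) [Q.Normal] (u : G) : u ∈ cmod Q u := by
  rw [mem_cmod, commutatorElement_self]; exact Q.one_mem

/-- if `N` is generated by `x`, `y` and a subgroup `N₂` central in `N` modulo the normal subgroup
`Q`, and `⁅y, x⁆ ∈ Q`, then `N` is abelian modulo `Q`. -/
theorem commutator_le_of_two_gen (Q N N₂ : Subgroup G) [Q.Normal] (x y : G) (hx : x ∈ N)
    (hy : y ∈ N) (hgen : N ≤ zpowers x ⊔ (zpowers y ⊔ N₂)) (hc : ⁅N₂, N⁆ ≤ Q)
    (hyx : ⁅y, x⁆ ∈ Q) : ⁅N, N⁆ ≤ Q := by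
  have hN₂ : ∀ a ∈ N, N₂ ≤ cmod Q a := fun a ha n hn =>
    hc (commutator_mem_commutator hn ha)
  have hxx : N ≤ cmod Q x := by
    refine hgen.trans (sup_le ?_ (sup_le ?_ (hN₂ x hx)))
    · rw [zpowers_le]; exact self_mem_cmod Q x
    · rw [zpowers_le]; exact hyx
  have hyy : N ≤ cmod Q y := by
    refine hgen.trans (sup_le ?_ (sup_le ?_ (hN₂ y hy)))
    · rw [zpowers_le, mem_cmod_comm]; exact hyx
    · rw [zpowers_le]; exact self_mem_cmod Q y
  rw [commutator_le]
  intro b hb a ha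
  have : N ≤ cmod Q a := by
    refine hgen.trans (sup_le ?_ (sup_le ?_ (hN₂ a ha)))
    · rw [zpowers_le, mem_cmod_comm]; exact hxx ha
    · rw [zpowers_le, mem_cmod_comm]; exact hyy ha
  exact this hb

/-- the one-generator version. -/
theorem commutator_le_of_one_gen (Q N N₁ : Subgroup G) [Q.Normal] (x : G) (hx : x ∈ N)
    (hgen : N ≤ zpowers x ⊔ N₁) (hc : ⁅N₁, N⁆ ≤ Q) : ⁅N, N⁆ ≤ Q := by
  refine commutator_le_of_two_gen Q N N₁ x 1 hx N.one_mem ?_ hc ?_
  · rw [zpowers_one_eq_bot, bot_sup_eq]; exact hgen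
  · rw [commutatorElement_one_left]; exact Q.one_mem

/-- a subgroup `H` with `[H, G] ≤ H` is normal. -/
theorem normal_of_commutator_top_le (H : Subgroup G) (h : ⁅H, (⊤ : Subgroup G)⁆ ≤ H) :
    H.Normal := by
  constructor
  intro n hn g
  have h1 : ⁅n, g⁆ ∈ H := h (commutator_mem_commutator hn (mem_top g))
  have e : g * n * g⁻¹ = (⁅n, g⁆)⁻¹ * n := by
    simp only [commutatorElement_def]; group
  rw [e]
  exact H.mul_mem (H.inv_mem h1) hn

/-- iterated commutators with the whole group. -/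
def iterTop (A : Subgroup G) : ℕ → Subgroup G
  | 0 => A
  | m + 1 => ⁅iterTop A m, (⊤ : Subgroup G)⁆

theorem iterTop_le_lcs (A : Subgroup G) (m : ℕ) : iterTop A m ≤ lcs G m := by
  induction m with
  | zero => exact le_top
  | succ m ih => exact commutator_mono ih le_rfl

theorem iterTop_le (A : Subgroup G) [hA : A.Normal] (m : ℕ) : iterTop A m ≤ A := by
  induction m with
  | zero => exact le_rfl
  | succ m ih => exact (commutator_mono ih le_rfl).trans (commutator_le_left A ⊤)

/-- in a nilpotent group, if `B < A` with `A` normal there is `x ∈ A \ B` central modulo `B`. -/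
theorem exists_central_mod [Group.IsNilpotent G] (B A : Subgroup G) [hA : A.Normal]
    (hlt : B < A) : ∃ x ∈ A, x ∉ B ∧ ∀ g : G, ⁅x, g⁆ ∈ B := by
  classical
  have hex : ∃ m, iterTop A m ≤ B := by
    obtain ⟨n, hn⟩ := Subgroup.nilpotent_iff_lowerCentralSeries.mp
      (inferInstance : Group.IsNilpotent G)
    refine ⟨n, (iterTop_le_lcs A n).trans ?_⟩
    show (⊤ : Subgroup G).lowerCentralSeries n ≤ B
    rw [hn]; exact bot_le
  have h0 : ¬ iterTop A 0 ≤ B := fun h => (not_le_of_gt hlt) h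
  have hpos : Nat.find hex ≠ 0 := by
    intro h
    have := Nat.find_spec hex
    rw [h] at this
    exact h0 this
  obtain ⟨m, hm⟩ := Nat.exists_eq_succ_of_ne_zero hpos
  have h1 : ¬ iterTop A m ≤ B := Nat.find_min hex (by omega)
  have h2 : iterTop A (m + 1) ≤ B := by
    have := Nat.find_spec hex
    rw [hm] at this
    exact this
  obtain ⟨x, hx, hxB⟩ := SetLike.not_le_iff_exists.mp h1
  exact ⟨x, iterTop_le A m hx, hxB, fun g => h2 (commutator_mem_commutator hx (mem_top g))⟩

theorem card_lt_of_lt [Finite G] {B A : Subgroup G} (h : B < A) : Nat.card B < Nat.card A := by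
  refine lt_of_le_of_ne (card_le_of_le h.le) (fun he => ?_)
  exact h.ne (eq_of_le_of_card_ge h.le he.ge)

/-- chains of normal subgroups with cyclic central steps. -/
theorem exists_chain [Finite G] [Group.IsNilpotent G] :
    ∀ (k : ℕ) (B A : Subgroup G), B.Normal → A.Normal → B ≤ A → Nat.card A - Nat.card B ≤ k →
    ∃ (t : ℕ) (c : ℕ → Subgroup G), c 0 = B ∧ (∀ i, t ≤ i → c i = A) ∧ (∀ i, (c i).Normal) ∧
      (∀ i, c i ≤ c (i + 1)) ∧ (∀ i, ⁅c (i + 1), (⊤ : Subgroup G)⁆ ≤ c i) ∧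
      (∀ i, i < t → c i < c (i + 1)) ∧ (∀ i, ∃ x ∈ c (i + 1), c (i + 1) ≤ zpowers x ⊔ c i) := by
  intro k
  induction k with
  | zero =>
    intro B A hB hA hBA hk
    have hcard : Nat.card A ≤ Nat.card B := by omega
    have hEq : B = A := eq_of_le_of_card_ge hBA hcard
    subst hEq
    refine ⟨0, fun _ => B, rfl, fun _ _ => rfl, fun _ => hB, fun _ => le_rfl,
      fun _ => commutator_le_left B ⊤, fun i hi => absurd hi (Nat.not_lt_zero i),
      fun _ => ⟨1, B.one_mem, le_sup_right⟩⟩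
  | succ k ih =>
    intro B A hB hA hBA hk
    rcases eq_or_lt_of_le hBA with hEq | hlt
    · subst hEq
      refine ⟨0, fun _ => B, rfl, fun _ _ => rfl, fun _ => hB, fun _ => le_rfl,
        fun _ => commutator_le_left B ⊤, fun i hi => absurd hi (Nat.not_lt_zero i),
        fun _ => ⟨1, B.one_mem, le_sup_right⟩⟩
    · obtain ⟨x, hxA, hxB, hxc⟩ := exists_central_mod B A hlt
      obtain ⟨B₁, hB₁⟩ : ∃ B₁ : Subgroup G, B₁ = zpowers x ⊔ B := ⟨_, rfl⟩
      have hBB₁ : B ≤ B₁ := hB₁ ▸ le_sup_right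
      have hxB₁ : x ∈ B₁ := hB₁ ▸ (le_sup_left : zpowers x ≤ _) (mem_zpowers x)
      have hcen : ⁅B₁, (⊤ : Subgroup G)⁆ ≤ B := by
        rw [commutator_le]
        intro h hh g _
        have : B₁ ≤ cmod B g := by
          rw [hB₁]
          refine sup_le ?_ ?_
          · rw [zpowers_le]; exact hxc g
          · intro b hb
            rw [mem_cmod]
            have e : ⁅b, g⁆ = b * (g * b⁻¹ * g⁻¹) := by
              simp only [commutatorElement_def]; group
            rw [e]
            exact B.mul_mem hb (hB.conj_mem _ (B.inv_mem hb) g)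
        exact this hh
      have hB₁n : B₁.Normal := normal_of_commutator_top_le B₁ (hcen.trans hBB₁)
      have hlt₁ : B < B₁ := lt_of_le_of_ne hBB₁ (fun h => hxB (h ▸ hxB₁))
      have hB₁A : B₁ ≤ A := by
        rw [hB₁]; exact sup_le (by rw [zpowers_le]; exact hxA) hBA
      have hc1 := card_lt_of_lt hlt₁
      have hc2 := card_le_of_le hB₁A
      obtain ⟨t, c, h0, hA', hn, hmono, hcent, hstrict, hgen⟩ :=
        ih B₁ A hB₁n hA hB₁A (by omega)
      refine ⟨t + 1, fun i => Nat.casesOn i B c, rfl, ?_, ?_, ?_, ?_, ?_, ?_⟩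
      · intro i hi
        cases i with
        | zero => omega
        | succ i => exact hA' i (by omega)
      · intro i
        cases i with
        | zero => exact hB
        | succ i => exact hn i
      · intro i
        cases i with
        | zero => show B ≤ c 0; rw [h0]; exact hBB₁
        | succ i => exact hmono i
      · intro i
        cases i with
        | zero => show ⁅c 0, (⊤ : Subgroup G)⁆ ≤ B; rw [h0]; exact hcen
        | succ i => exact hcent i
      · intro i hi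
        cases i with
        | zero => show B < c 0; rw [h0]; exact hlt₁
        | succ i => exact hstrict i (by omega)
      · intro i
        cases i with
        | zero =>
          show ∃ x ∈ c 0, c 0 ≤ zpowers x ⊔ B
          rw [h0]
          exact ⟨x, hxB₁, hB₁.le⟩
        | succ i => exact hgen i

end Cfsg.Agent.Lib.Helper4.DL
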