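import Mathlib
import Cfsg.Agent.Lib.Helper4.DL1

set_option autoImplicit false

/-! Hall's lemma with its equality case (S4009). -/

namespace Cfsg.Agent.Lib.Helper4.DL

open Subgroup Cfsg.Agent.Lib.Helper4.VL
open scoped commutatorElement

variable {G : Type*} [Group G]

/-- **Hall's lemma with the equality case**: for a normal subgroup `N ≤ γ_{v+1}` of a finite
`p`-group with `N' ≠ 1`, `|N : N'| ≥ p^(v+2)`, and if equality holds then `N'/[N',G]` is cyclic. -/
theorem hall_core [Finite G] {p : ℕ} [hp : Fact p.Prime] (hG : IsPGroup p G) (N : Subgroup G)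
    [hN : N.Normal] (v : ℕ) (hNv : N ≤ lcs G v) (hN' : ⁅N, N⁆ ≠ ⊥) :
    p ^ (v + 2) ≤ (⁅N, N⁆).relIndex N ∧
      ((⁅N, N⁆).relIndex N = p ^ (v + 2) →
        ∃ c ∈ ⁅N, N⁆, ⁅N, N⁆ ≤ zpowers c ⊔ ⁅⁅N, N⁆, (⊤ : Subgroup G)⁆) := by
  have hnil : Group.IsNilpotent G := hG.isNilpotent
  obtain ⟨N', hN'def⟩ : ∃ N' : Subgroup G, N' = ⁅N, N⁆ := ⟨_, rfl⟩
  rw [← hN'def] at hN' ⊢
  have hN'n : N'.Normal := by rw [hN'def]; infer_instance
  have hN'N : N' ≤ N := by rw [hN'def]; exact commutator_le_left N N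
  obtain ⟨R, hRdef⟩ : ∃ R : Subgroup G, R = ⁅N', (⊤ : Subgroup G)⁆ := ⟨_, rfl⟩
  rw [← hRdef]
  have hRn : R.Normal := by rw [hRdef]; infer_instance
  have hRN' : R ≤ N' := by rw [hRdef]; exact commutator_le_left N' ⊤
  obtain ⟨t, c, h0, hA, hn, hmono, hcent, hstrict, hgen⟩ :=
    exists_chain (Nat.card N - Nat.card N') N' N hN'n hN hN'N le_rfl
  have hct : c t = N := hA t le_rfl
  -- the chain extended by `R`
  have hkey : ∀ s, s ≤ v → ⁅c s, N⁆ ≤ R := by
    intro s hs
    have h1 := chain_comm_le (fun i => Nat.casesOn i R c)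
      (fun i => by cases i with
        | zero => exact hRn
        | succ i => exact hn i)
      (fun i => by cases i with
        | zero => show ⁅c 0, (⊤ : Subgroup G)⁆ ≤ R; rw [h0, hRdef]
        | succ i => exact hcent i) s 0
    have h2 : ⁅c s, lcs G s⁆ ≤ R := by
      have e : (0 + s + 1) = s + 1 := by omega
      rw [e] at h1
      exact h1
    exact (commutator_mono le_rfl (hNv.trans (lcs_anti hs))).trans h2
  have hmono' : ∀ i j, i ≤ j → c i ≤ c j := by
    intro i j hij
    induction j with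
    | zero =>
      have : i = 0 := by omega
      rw [this]
    | succ j ih =>
      rcases Nat.eq_or_lt_of_le hij with h | h
      · rw [h]
      · exact (ih (by omega)).trans (hmono j)
  have hpow : ∀ i, i ≤ t → p ^ i ≤ (c 0).relIndex (c i) := by
    intro i
    induction i with
    | zero => intro _; rw [pow_zero, relIndex_self]
    | succ i ih =>
      intro hi
      have h1 := ih (by omega)
      have h2 : p ≤ (c i).relIndex (c (i + 1)) := p_le_relIndex_of_lt hG (hstrict i (by omega))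
      rw [← relIndex_mul_relIndex (c 0) (c i) (c (i + 1)) (hmono' 0 i (by omega)) (hmono i),
        pow_succ]
      exact Nat.mul_le_mul h1 h2
  -- `t ≥ v + 2`
  have ht : v + 2 ≤ t := by
    by_contra hlt
    have hlt' : t ≤ v + 1 := by omega
    rcases Nat.eq_zero_or_pos t with ht0 | htpos
    · -- `N' = N`
      have hEq : N' = N := by rw [← h0, ← hct, ht0]
      apply hN'
      have h1 : N ≤ ⁅N, (⊤ : Subgroup G)⁆ := by
        calc N = N' := hEq.symm
          _ = ⁅N, N⁆ := hN'def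
          _ ≤ ⁅N, (⊤ : Subgroup G)⁆ := commutator_mono le_rfl le_top
      have := eq_bot_of_le_commutator_top N h1
      rw [hEq, this]
    · obtain ⟨s, hs⟩ : ∃ s, t = s + 1 := ⟨t - 1, by omega⟩
      obtain ⟨x, hx, hxgen⟩ := hgen s
      rw [← hs, hct] at hx hxgen
      have h1 := commutator_le_of_one_gen R N (c s) x hx hxgen (hkey s (by omega))
      apply hN'
      apply eq_bot_of_le_commutator_top N'
      rw [← hRdef, hN'def]
      exact h1
  have hrel : (c 0).relIndex (c t) = N'.relIndex N := by rw [h0, hct]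
  refine ⟨?_, ?_⟩
  · rw [← hrel]
    exact (Nat.pow_le_pow_right hp.out.pos ht).trans (hpow t le_rfl)
  · intro heq
    have h1 := hpow t le_rfl
    rw [hrel, heq] at h1
    have htle : t ≤ v + 2 := (Nat.pow_le_pow_iff_right hp.out.one_lt).mp h1
    have hteq : t = v + 2 := by omega
    obtain ⟨x, hx, hxgen⟩ := hgen (v + 1)
    obtain ⟨y, hy, hygen⟩ := hgen v
    have e2 : c (v + 1 + 1) = N := by rw [← hct, hteq]
    rw [e2] at hx hxgen
    have hyN : y ∈ N := by
      rw [← e2]; exact hmono (v + 1) hy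
    have hcc : ⁅y, x⁆ ∈ N' := by rw [hN'def]; exact commutator_mem_commutator hyN hx
    obtain ⟨Q, hQdef⟩ : ∃ Q : Subgroup G, Q = zpowers ⁅y, x⁆ ⊔ R := ⟨_, rfl⟩
    have hRQ : R ≤ Q := hQdef ▸ le_sup_right
    have hQN' : Q ≤ N' := by
      rw [hQdef]; exact sup_le (by rw [zpowers_le]; exact hcc) hRN'
    have hQn : Q.Normal := by
      apply normal_of_commutator_top_le
      refine le_trans (commutator_mono hQN' le_rfl) ?_
      rw [← hRdef]; exact hRQ
    have hccQ : ⁅y, x⁆ ∈ Q := hQdef ▸ (le_sup_left : zpowers ⁅y, x⁆ ≤ _) (mem_zpowers _)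
    have h2 := commutator_le_of_two_gen Q N (c v) x y hx hyN
      (hxgen.trans (sup_le_sup_left hygen _)) ((hkey v le_rfl).trans hRQ) hccQ
    refine ⟨⁅y, x⁆, hcc, ?_⟩
    rw [hN'def, ← hQdef]
    exact h2

end Cfsg.Agent.Lib.Helper4.DL
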