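import Mathlib
import Cfsg.Agent.Lib.Helper4.DL2

set_option autoImplicit false

/-! Mann's bound for the order of a `p`-group of given derived length (S4009). -/

namespace Cfsg.Agent.Lib.Helper4.DL

open Subgroup Cfsg.Agent.Lib.Helper4.VL
open scoped commutatorElement

variable {G : Type*} [Group G]

/-- `der j N` : the `j`-th derived subgroup of the subgroup `N`. -/
def der : ℕ → Subgroup G → Subgroup G
  | 0, N => N
  | j + 1, N => der j ⁅N, N⁆

theorem der_normal : ∀ (j : ℕ) (N : Subgroup G), N.Normal → (der j N).Normal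
  | 0, _, h => h
  | j + 1, N, h => by
    have := h
    exact der_normal j ⁅N, N⁆ inferInstance

theorem der_le : ∀ (j : ℕ) (N : Subgroup G), N.Normal → der j N ≤ N
  | 0, _, _ => le_rfl
  | j + 1, N, h => by
    have := h
    exact (der_le j ⁅N, N⁆ inferInstance).trans (commutator_le_left N N)

theorem der_bot : ∀ j : ℕ, der j (⊥ : Subgroup G) = ⊥
  | 0 => rfl
  | j + 1 => by
    show der j ⁅(⊥ : Subgroup G), ⊥⁆ = ⊥
    rw [commutator_bot_left]; exact der_bot j

theorem der_succ' : ∀ (j : ℕ) (N : Subgroup G), der (j + 1) N = ⁅der j N, der j N⁆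
  | 0, _ => rfl
  | j + 1, N => by
    show der (j + 1) ⁅N, N⁆ = ⁅der j ⁅N, N⁆, der j ⁅N, N⁆⁆
    exact der_succ' j ⁅N, N⁆

theorem der_top : ∀ j : ℕ, der j (⊤ : Subgroup G) = derivedSeries G j
  | 0 => rfl
  | j + 1 => by
    rw [der_succ', der_top j]; rfl

/-- `[γ_{a+1}, γ_{a+1}] ≤ γ_{2a+2}`. -/
theorem commutator_le_lcs (L : Subgroup G) (a : ℕ) (hL : L ≤ lcs G a) :
    ⁅L, L⁆ ≤ lcs G (2 * a + 1) := by
  have := lcs_comm_le (G := G) a a
  have e : a + a + 1 = 2 * a + 1 := by omega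
  rw [e] at this
  exact (commutator_mono hL hL).trans this

/-- Lemma B: if `L ≤ γ_{a+1}` and `L/[L,G]` is cyclic then `L' ≤ γ_{2a+3}`. -/
theorem commutator_le_lcs_of_cyclic (L : Subgroup G) [hL : L.Normal] (a : ℕ) (hLa : L ≤ lcs G a)
    (hcyc : ∃ c ∈ L, L ≤ zpowers c ⊔ ⁅L, (⊤ : Subgroup G)⁆) : ⁅L, L⁆ ≤ lcs G (2 * a + 2) := by
  obtain ⟨c, hc, hgen⟩ := hcyc
  have h1 : ⁅L, L⁆ ≤ ⁅L, ⁅L, (⊤ : Subgroup G)⁆⁆ := by
    apply commutator_le_of_one_gen ⁅L, ⁅L, (⊤ : Subgroup G)⁆⁆ L ⁅L, (⊤ : Subgroup G)⁆ c hc hgen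
    rw [commutator_comm]
  have h2 : ⁅L, (⊤ : Subgroup G)⁆ ≤ lcs G (a + 1) := commutator_mono hLa le_rfl
  have h3 := lcs_comm_le (G := G) (a + 1) a
  have e : a + (a + 1) + 1 = 2 * a + 2 := by omega
  rw [e] at h3
  exact h1.trans ((commutator_mono hLa h2).trans h3)

/-- relative indices in a finite `p`-group are powers of `p`. -/
theorem relIndex_eq_pow [Finite G] {p : ℕ} [hp : Fact p.Prime] (hG : IsPGroup p G)
    (H K : Subgroup G) : ∃ e, H.relIndex K = p ^ e :=
  (hG.to_subgroup K).index (H.subgroupOf K)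

/-- the main induction. -/
theorem main_ind [Finite G] {p : ℕ} [hp : Fact p.Prime] (hG : IsPGroup p G) :
    ∀ (i : ℕ) (N : Subgroup G) (v : ℕ), N.Normal → N ≤ lcs G v → der (i + 1) N ≠ ⊥ →
      ∃ x, (der (i + 1) N).relIndex N = p ^ x ∧ 2 ^ (i + 1) * (v + 1) + 2 * i ≤ x + (v + 1) ∧
        ((∃ c ∈ N, N ≤ zpowers c ⊔ ⁅N, (⊤ : Subgroup G)⁆) →
          2 ^ (i + 1) * (v + 1) + 2 * i + 1 ≤ x + (v + 1)) := by
  intro i
  induction i with
  | zero =>
    intro N v hN hNv hne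
    have := hN
    have hne' : ⁅N, N⁆ ≠ ⊥ := hne
    obtain ⟨h1, -⟩ := hall_core hG N v hNv hne'
    obtain ⟨e, he⟩ := relIndex_eq_pow hG ⁅N, N⁆ N
    rw [he] at h1
    have hle : v + 2 ≤ e := (Nat.pow_le_pow_iff_right hp.out.one_lt).mp h1
    refine ⟨e, he, ?_, fun _ => ?_⟩
    · simp only [zero_add, pow_one]; omega
    · simp only [zero_add, pow_one]; omega
  | succ i ih =>
    intro N v hN hNv hne
    have := hN
    obtain ⟨N', hN'def⟩ : ∃ N' : Subgroup G, N' = ⁅N, N⁆ := ⟨_, rfl⟩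
    have hN'n : N'.Normal := by rw [hN'def]; infer_instance
    have hN'N : N' ≤ N := by rw [hN'def]; exact commutator_le_left N N
    have hder : der (i + 1 + 1) N = der (i + 1) N' := by rw [hN'def]; rfl
    rw [hder] at hne ⊢
    have hN'ne : N' ≠ ⊥ := by
      intro h
      apply hne
      rw [h]; exact der_bot _
    have hN'ne' : ⁅N, N⁆ ≠ ⊥ := hN'def ▸ hN'ne
    obtain ⟨hA1, hA2⟩ := hall_core hG N v hNv hN'ne'
    rw [← hN'def] at hA1 hA2
    obtain ⟨e, he⟩ := relIndex_eq_pow hG N' N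
    rw [he] at hA1 hA2
    have hle : v + 2 ≤ e := (Nat.pow_le_pow_iff_right hp.out.one_lt).mp hA1
    have hmul : (der (i + 1) N').relIndex N = (der (i + 1) N').relIndex N' * p ^ e := by
      rw [← he]
      exact (relIndex_mul_relIndex _ _ _ (der_le (i + 1) N' hN'n) hN'N).symm
    have hE : 2 ≤ 2 ^ (i + 1) := by
      calc 2 = 2 ^ 1 := (pow_one 2).symm
        _ ≤ 2 ^ (i + 1) := Nat.pow_le_pow_right (by norm_num) (by omega)
    have e1 : 2 ^ (i + 1 + 1) * (v + 1) = 2 ^ (i + 1) * (2 * v + 1 + 1) := by ring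
    have e2 : 2 ^ (i + 1) * (2 * v + 2 + 1) = 2 ^ (i + 1 + 1) * (v + 1) + 2 ^ (i + 1) := by ring
    -- the two weights for `N'`
    have hw1 : N' ≤ lcs G (2 * v + 1) := by rw [hN'def]; exact commutator_le_lcs N v hNv
    obtain ⟨x1, hx1, hb1, hb1c⟩ := ih N' (2 * v + 1) hN'n hw1 hne
    refine ⟨x1 + e, by rw [hmul, hx1, pow_add], ?_, ?_⟩
    · -- non-cyclic branch
      rcases Nat.eq_or_lt_of_le hle with heq | hlt
      · have hcyc := hA2 (by rw [← heq])
        have := hb1c hcyc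
        omega
      · omega
    · -- cyclic branch
      intro hcycN
      have hw2 : N' ≤ lcs G (2 * v + 2) := by
        rw [hN'def]; exact commutator_le_lcs_of_cyclic N v hNv hcycN
      obtain ⟨x2, hx2, hb2, hb2c⟩ := ih N' (2 * v + 2) hN'n hw2 hne
      have hxx : x2 = x1 := by
        have := hx1.symm.trans hx2
        exact ((Nat.pow_right_injective hp.out.two_le) this).symm
      rw [hxx] at hb2 hb2c
      rcases Nat.eq_or_lt_of_le hle with heq | hlt
      · have hcyc := hA2 (by rw [← heq])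
        have := hb2c hcyc
        omega
      · omega

/-- **Mann's bound** : a `p`-group of order `p ^ n` with `G^(k) ≠ 1` has `2^k + 2k ≤ n + 2`. -/
theorem mann_bound [Finite G] (p : ℕ) [hp : Fact p.Prime] (n k : ℕ) (hcard : Nat.card G = p ^ n)
    (hk : derivedSeries G k ≠ ⊥) : 2 ^ k + 2 * k ≤ n + 2 := by
  have hG : IsPGroup p G := IsPGroup.of_card hcard
  cases k with
  | zero => simp
  | succ i =>
    have hne : der (i + 1) (⊤ : Subgroup G) ≠ ⊥ := by rw [der_top]; exact hk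
    obtain ⟨x, hx, hb, -⟩ := main_ind hG i ⊤ 0 inferInstance le_rfl hne
    rw [der_top, relIndex_top_right] at hx
    obtain ⟨m, hm⟩ := IsPGroup.iff_card.mp (hG.to_subgroup (derivedSeries G (i + 1)))
    have hm1 : 1 ≤ m := by
      rcases Nat.eq_zero_or_pos m with h0 | h0
      · exfalso
        rw [h0, pow_zero] at hm
        exact hk (Subgroup.card_eq_one.mp hm)
      · exact h0
    have h1 := (derivedSeries G (i + 1)).card_mul_index
    rw [hm, hx, hcard, ← pow_add] at h1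
    have h2 : m + x = n := Nat.pow_right_injective hp.out.two_le h1
    omega

end Cfsg.Agent.Lib.Helper4.DL
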