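import Mathlib
import Cfsg.Prelude.Def_OddOrderChar
import Cfsg.Agent.Lib.Helper4.Dade2

set_option autoImplicit false

namespace Cfsg.Agent.Lib.Helper4

section DadeSum
variable {G : Type*} [Group G] [Fintype G] {A : Set G} {L : Subgroup G} [Fintype L]
  {H : G → Subgroup G} {K : Type*} [Field K] [CharZero K]

open Classical in
/-- Fiber count: the weighted number of triples `(x, a, u)` with `x⁻¹ (a u) x = g`. -/
theorem dade_fiber (hD : Cfsg.DadeHypothesis A L H) (g : G) (a₀ : L) (ha₀ : (a₀ : G) ∈ A)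
    (u₀ x₀ : G) (hu₀ : u₀ ∈ H a₀) (hg : g = x₀⁻¹ * ((a₀ : G) * u₀) * x₀) :
    ∑ p ∈ (Finset.univ : Finset (G × L × G)).filter
        (fun p => ((p.2.1 : G) ∈ A ∧ p.2.2 ∈ H p.2.1) ∧ p.1⁻¹ * ((p.2.1 : G) * p.2.2) * p.1 = g),
      ((Nat.card (H p.2.1) : K))⁻¹ = (Nat.card L : K) := by
  set X : Finset G := Finset.univ.filter (fun y => y * (a₀ : G) * y⁻¹ ∈ A) with hX
  set Fib : Finset (G × L × G) := (Finset.univ : Finset (G × L × G)).filter
        (fun p => ((p.2.1 : G) ∈ A ∧ p.2.2 ∈ H p.2.1) ∧ p.1⁻¹ * ((p.2.1 : G) * p.2.2) * p.1 = g)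
    with hFib
  -- all weights equal
  have hw : ∀ p ∈ Fib, ((Nat.card (H p.2.1) : K))⁻¹ = ((Nat.card (H a₀) : K))⁻¹ := by
    intro p hp
    rw [hFib, Finset.mem_filter] at hp
    obtain ⟨_, ⟨hpA, hpu⟩, hpg⟩ := hp
    set y := p.1 * x₀⁻¹ with hy
    have h1 : y * ((a₀ : G) * u₀) * y⁻¹ = (p.2.1 : G) * p.2.2 := by
      rw [hy]
      have : p.1 * x₀⁻¹ * ((a₀ : G) * u₀) * (p.1 * x₀⁻¹)⁻¹
          = p.1 * (x₀⁻¹ * ((a₀ : G) * u₀) * x₀) * p.1⁻¹ := by group
      rw [this, ← hg, ← hpg]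
      group
    have h2 := dade_key hD ha₀ hpA hu₀ hpu h1
    have h3 := dade_card_H_conj hD ha₀ y (by rw [h2]; exact hpA)
    rw [h2] at h3
    rw [h3]
  rw [Finset.sum_congr rfl hw, Finset.sum_const, nsmul_eq_mul]
  -- count the fiber
  have hcard : Fib.card = X.card := by
    symm
    refine Finset.card_bij
      (fun y hy => (y * x₀, (⟨y * (a₀ : G) * y⁻¹,
        hD.subset (by rw [hX, Finset.mem_filter] at hy; exact hy.2)⟩ : L), y * u₀ * y⁻¹))
      ?_ ?_ ?_
    · intro y hy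
      rw [hX, Finset.mem_filter] at hy
      rw [hFib, Finset.mem_filter]
      refine ⟨Finset.mem_univ _, ⟨hy.2, dade_H_conj hD ha₀ y hy.2 hu₀⟩, ?_⟩
      rw [hg]
      show (y * x₀)⁻¹ * (y * (a₀ : G) * y⁻¹ * (y * u₀ * y⁻¹)) * (y * x₀) = _
      group
    · intro y _ y' _ h
      have := congrArg Prod.fst h
      exact mul_right_cancel this
    · intro p hp
      rw [hFib, Finset.mem_filter] at hp
      obtain ⟨_, ⟨hpA, hpu⟩, hpg⟩ := hp
      set y := p.1 * x₀⁻¹ with hy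
      have h1 : y * ((a₀ : G) * u₀) * y⁻¹ = (p.2.1 : G) * p.2.2 := by
        rw [hy]
        have : p.1 * x₀⁻¹ * ((a₀ : G) * u₀) * (p.1 * x₀⁻¹)⁻¹
            = p.1 * (x₀⁻¹ * ((a₀ : G) * u₀) * x₀) * p.1⁻¹ := by group
        rw [this, ← hg, ← hpg]
        group
      have h2 := dade_key hD ha₀ hpA hu₀ hpu h1
      have hyX : y ∈ X := by
        rw [hX, Finset.mem_filter]
        exact ⟨Finset.mem_univ _, by rw [h2]; exact hpA⟩
      refine ⟨y, hyX, ?_⟩
      have h3 : y * u₀ * y⁻¹ = p.2.2 := by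
        have : y * ((a₀ : G) * u₀) * y⁻¹ = (y * (a₀ : G) * y⁻¹) * (y * u₀ * y⁻¹) := by group
        rw [this, h2] at h1
        exact mul_left_cancel h1
      refine Prod.ext ?_ (Prod.ext ?_ ?_)
      · show y * x₀ = p.1
        rw [hy]
        group
      · apply Subtype.ext
        exact h2
      · exact h3
  have hXcard : X.card = Nat.card L * Nat.card (H a₀) := by
    rw [← dade_card_conj_set hD ha₀, Nat.card_eq_fintype_card, Fintype.card_subtype]
  rw [hcard, hXcard]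
  have hH0 : (Nat.card (H a₀) : K) ≠ 0 := Nat.cast_ne_zero.2 Nat.card_pos.ne'
  push_cast
  field_simp

open Classical in
/-- The Dade counting formula: summing a class function over the elements conjugate into some
coset `a H(a)` amounts to a weighted sum over these cosets. -/
theorem dade_sum (hD : Cfsg.DadeHypothesis A L H) (F : G → K)
    (hF : ∀ g x : G, F (x * g * x⁻¹) = F g) :
    (Nat.card L : K) * ∑ g ∈ (Finset.univ : Finset G).filter
        (fun g => ∃ a : L, (a : G) ∈ A ∧ ∃ u ∈ H a, ∃ x : G, x * g * x⁻¹ = (a : G) * u), F g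
      = (Nat.card G : K) * ∑ a ∈ (Finset.univ : Finset L).filter (fun a : L => (a : G) ∈ A),
          (fun a : L => ((Nat.card (H (a : G)) : K))⁻¹ *
            ∑ u ∈ (Finset.univ : Finset G).filter (fun u => u ∈ H (a : G)), F ((a : G) * u)) a := by
  set P : Finset (G × L × G) := (Finset.univ : Finset (G × L × G)).filter
    (fun p => (p.2.1 : G) ∈ A ∧ p.2.2 ∈ H p.2.1) with hP
  have hI : ∑ p ∈ P, ((Nat.card (H p.2.1) : K))⁻¹ * F (p.1⁻¹ * ((p.2.1 : G) * p.2.2) * p.1)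
      = (Nat.card G : K) * ∑ a ∈ (Finset.univ : Finset L).filter (fun a : L => (a : G) ∈ A),
          (fun a : L => ((Nat.card (H (a : G)) : K))⁻¹ *
            ∑ u ∈ (Finset.univ : Finset G).filter (fun u => u ∈ H (a : G)), F ((a : G) * u)) a := by
    have h1 : ∀ p : G × L × G, F (p.1⁻¹ * ((p.2.1 : G) * p.2.2) * p.1) = F ((p.2.1 : G) * p.2.2) := by
      intro p
      have := hF ((p.2.1 : G) * p.2.2) p.1⁻¹
      rwa [inv_inv] at this
    rw [Finset.sum_congr rfl fun p _ => by rw [h1 p], hP, Finset.sum_filter,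
      Fintype.sum_prod_type]
    simp only [Fintype.sum_prod_type]
    rw [Finset.sum_const, Finset.card_univ, nsmul_eq_mul, Nat.card_eq_fintype_card]
    congr 1
    rw [Finset.sum_filter]
    refine Finset.sum_congr rfl fun a _ => ?_
    split_ifs with ha
    · rw [Finset.mul_sum, Finset.sum_filter]
      refine Finset.sum_congr rfl fun u _ => ?_
      by_cases hu : u ∈ H (a : G)
      · rw [if_pos ⟨ha, hu⟩, if_pos hu]
      · rw [if_neg (fun h => hu h.2), if_neg hu]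
    · refine Finset.sum_eq_zero fun u _ => ?_
      rw [if_neg (fun h => ha h.1)]
  have hII : ∑ p ∈ P, ((Nat.card (H p.2.1) : K))⁻¹ * F (p.1⁻¹ * ((p.2.1 : G) * p.2.2) * p.1)
      = (Nat.card L : K) * ∑ g ∈ (Finset.univ : Finset G).filter
        (fun g => ∃ a : L, (a : G) ∈ A ∧ ∃ u ∈ H a, ∃ x : G, x * g * x⁻¹ = (a : G) * u), F g := by
    rw [← Finset.sum_fiberwise P (fun p => p.1⁻¹ * ((p.2.1 : G) * p.2.2) * p.1), Finset.mul_sum,
      Finset.sum_filter]
    refine Finset.sum_congr rfl fun g _ => ?_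
    have h1 : ∑ p ∈ P.filter (fun p => p.1⁻¹ * ((p.2.1 : G) * p.2.2) * p.1 = g),
        ((Nat.card (H p.2.1) : K))⁻¹ * F (p.1⁻¹ * ((p.2.1 : G) * p.2.2) * p.1)
        = (∑ p ∈ P.filter (fun p => p.1⁻¹ * ((p.2.1 : G) * p.2.2) * p.1 = g),
            ((Nat.card (H p.2.1) : K))⁻¹) * F g := by
      rw [Finset.sum_mul]
      refine Finset.sum_congr rfl fun p hp => ?_
      rw [(Finset.mem_filter.1 hp).2]
    rw [h1, hP, Finset.filter_filter]
    split_ifs with hg
    · obtain ⟨a₀, ha₀, u₀, hu₀, x₀, hx₀⟩ := hg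
      have hg' : g = x₀⁻¹ * ((a₀ : G) * u₀) * x₀ := by
        rw [← hx₀]
        group
      rw [dade_fiber hD g a₀ ha₀ u₀ x₀ hu₀ hg']
    · rw [Finset.sum_eq_zero, zero_mul]
      intro p hp
      exfalso
      apply hg
      obtain ⟨_, ⟨hpA, hpu⟩, hpg⟩ := Finset.mem_filter.1 hp
      refine ⟨p.2.1, hpA, p.2.2, hpu, p.1, ?_⟩
      rw [← hpg]
      group
  rw [← hII, hI]

end DadeSum

end Cfsg.Agent.Lib.Helper4
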