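import Mathlib
import Cfsg.Prelude.Def_OddOrderChar
import Cfsg.Agent.Lib.Helper4.Dade3
import Cfsg.Agent.Lib.Helper4.Characters

set_option autoImplicit false

namespace Cfsg.Agent.Lib.Helper4

open scoped ComplexConjugate

section DadeIso
variable {G : Type*} [Group G] {A : Set G} {L : Subgroup G} {H : G → Subgroup G}

/-- The Dade map is well defined on class functions. -/
theorem dade_apply [Finite G] (hD : Cfsg.DadeHypothesis A L H) (α : L → ℂ)
    (hα : Cfsg.IsClassFunction L α) (g : G) (a : L) (ha : (a : G) ∈ A) (u x : G)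
    (hu : u ∈ H a) (hx : x * g * x⁻¹ = (a : G) * u) :
    Cfsg.dadeIsometry A L H α g = α a := by
  classical
  have h : ∃ a : ↥L, (a : G) ∈ A ∧ ∃ x : G, ∃ u ∈ H (a : G), x * g * x⁻¹ = (a : G) * u :=
    ⟨a, ha, x, u, hu, hx⟩
  unfold Cfsg.dadeIsometry
  rw [dif_pos h]
  obtain ⟨ha', x', u', hu', hx'⟩ := Classical.choose_spec h
  set a' := Classical.choose h with ha'def
  have h1 : (x' * x⁻¹) * ((a : G) * u) * (x' * x⁻¹)⁻¹ = (a' : G) * u' := by
    rw [← hx, ← hx']
    group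
  have h2 := dade_key hD ha ha' hu hu' h1
  obtain ⟨l, hl, hla⟩ := hD.fusion a ha (x' * x⁻¹) (by rw [h2]; exact ha')
  have h3 : a' = ⟨l, hl⟩ * a * (⟨l, hl⟩ : L)⁻¹ := by
    apply Subtype.ext
    rw [← h2, ← hla]
    rfl
  rw [h3]
  exact hα a ⟨l, hl⟩

theorem dade_apply_of_not (α : L → ℂ) (g : G)
    (h : ¬ ∃ a : ↥L, (a : G) ∈ A ∧ ∃ u ∈ H (a : G), ∃ x : G, x * g * x⁻¹ = (a : G) * u) :
    Cfsg.dadeIsometry A L H α g = 0 := by
  classical
  unfold Cfsg.dadeIsometry
  rw [dif_neg]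
  rintro ⟨a, ha, x, u, hu, hx⟩
  exact h ⟨a, ha, u, hu, x, hx⟩

theorem dade_isClassFunction [Finite G] (hD : Cfsg.DadeHypothesis A L H) (α : L → ℂ)
    (hα : Cfsg.IsClassFunction L α) : Cfsg.IsClassFunction G (Cfsg.dadeIsometry A L H α) := by
  classical
  intro g y
  by_cases h : ∃ a : ↥L, (a : G) ∈ A ∧ ∃ u ∈ H (a : G), ∃ x : G, x * g * x⁻¹ = (a : G) * u
  · obtain ⟨a, ha, u, hu, x, hx⟩ := h
    rw [dade_apply hD α hα g a ha u x hu hx]
    apply dade_apply hD α hα _ a ha u (x * y⁻¹) hu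
    rw [← hx]
    group
  · rw [dade_apply_of_not α g h]
    apply dade_apply_of_not
    rintro ⟨a, ha, u, hu, x, hx⟩
    apply h
    refine ⟨a, ha, u, hu, x * y, ?_⟩
    rw [← hx]
    group

variable [Fintype G] [Fintype L]

/-- The adjunction formula for the Dade map. -/
theorem dade_inner (hD : Cfsg.DadeHypothesis A L H) (α : L → ℂ)
    (hα : Cfsg.IsClassFunction L α) (hαA : ∀ x : L, (x : G) ∉ A → α x = 0)
    (χ : G → ℂ) (ψ : L → ℂ) (hχ : Cfsg.IsClassFunction G χ)
    (hψ : ∀ a : L, (a : G) ∈ A →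
      ψ a = (Nat.card (H a) : ℂ)⁻¹ * ∑ᶠ u ∈ (H a : Set G), χ (a * u)) :
    Cfsg.classInner (Cfsg.dadeIsometry A L H α) χ = Cfsg.classInner α ψ := by
  classical
  set τα := Cfsg.dadeIsometry A L H α with hτα
  have hτc : Cfsg.IsClassFunction G τα := dade_isClassFunction hD α hα
  set F : G → ℂ := fun g => τα g * conj (χ g) with hF
  have hFc : ∀ g x : G, F (x * g * x⁻¹) = F g := by
    intro g x
    simp only [hF]
    rw [hτc g x, hχ g x]
  have hsum := dade_sum (K := ℂ) hD F hFc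
  have hL0 : (Nat.card L : ℂ) ≠ 0 := Nat.cast_ne_zero.2 Nat.card_pos.ne'
  have hG0 : (Nat.card G : ℂ) ≠ 0 := Nat.cast_ne_zero.2 Nat.card_pos.ne'
  -- left side: full sum equals sum over the support
  have h1 : ∑ g : G, F g = ∑ g ∈ (Finset.univ : Finset G).filter
      (fun g => ∃ a : L, (a : G) ∈ A ∧ ∃ u ∈ H a, ∃ x : G, x * g * x⁻¹ = (a : G) * u), F g := by
    rw [Finset.sum_filter]
    refine Finset.sum_congr rfl fun g _ => ?_
    split_ifs with h
    · rfl
    · simp only [hF, hτα]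
      rw [dade_apply_of_not α g h, zero_mul]
  -- right side
  have h2 : ∑ a ∈ (Finset.univ : Finset L).filter (fun a : L => (a : G) ∈ A),
      (fun a : L => ((Nat.card (H (a : G)) : ℂ))⁻¹ *
        ∑ u ∈ (Finset.univ : Finset G).filter (fun u => u ∈ H (a : G)), F ((a : G) * u)) a
      = ∑ a : L, α a * conj (ψ a) := by
    rw [Finset.sum_filter]
    refine Finset.sum_congr rfl fun a _ => ?_
    split_ifs with ha
    · have hset : ((H (a : G) : Subgroup G) : Set G)
          = ↑((Finset.univ : Finset G).filter (fun u => u ∈ H (a : G))) := by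
        ext u
        simp
      rw [hψ a ha, hset, finsum_mem_coe_finset, map_mul, map_inv₀, Complex.conj_natCast, map_sum]
      show ((Nat.card (H (a : G)) : ℂ))⁻¹ *
        ∑ u ∈ (Finset.univ : Finset G).filter (fun u => u ∈ H (a : G)), F ((a : G) * u) = _
      have h3 : ∀ u ∈ (Finset.univ : Finset G).filter (fun u => u ∈ H (a : G)),
          F ((a : G) * u) = α a * conj (χ ((a : G) * u)) := by
        intro u hu
        simp only [hF, hτα]
        rw [dade_apply hD α hα ((a : G) * u) a ha u 1 (Finset.mem_filter.1 hu).2 (by group)]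
      rw [Finset.sum_congr rfl h3, ← Finset.mul_sum]
      ring
    · rw [hαA a ha, zero_mul]
  unfold Cfsg.classInner
  rw [show (∑ g : G, τα g * conj (χ g)) = ∑ g : G, F g from rfl, h1]
  rw [h2] at hsum
  have h4 : ∑ g ∈ (Finset.univ : Finset G).filter
      (fun g => ∃ a : L, (a : G) ∈ A ∧ ∃ u ∈ H a, ∃ x : G, x * g * x⁻¹ = (a : G) * u), F g
      = (Nat.card L : ℂ)⁻¹ * ((Nat.card G : ℂ) * ∑ a : L, α a * conj (ψ a)) := by
    rw [← hsum]
    field_simp
  rw [h4]
  field_simp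

end DadeIso

end Cfsg.Agent.Lib.Helper4
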