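import Mathlib
import Cfsg.Prelude.Def_OddOrderChar
import Cfsg.Agent.Lib.Helper4.Dade4

set_option autoImplicit false

/-! The Dade map commutes with taking the `π`-part of an element. -/

namespace Cfsg.Agent.Lib.Helper4

section Arith

/-- Split `N` as `m * n` with `m` prime to `d` and every prime divisor of `n` dividing `d`. -/
theorem exists_coprime_split_aux (d : ℕ) : ∀ N : ℕ, N ≠ 0 →
    ∃ m n : ℕ, N = m * n ∧ m.Coprime d ∧ ∀ p : ℕ, p.Prime → p ∣ n → p ∣ d := by
  intro N
  induction N using Nat.strong_induction_on with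
  | _ N ih =>
    intro hN
    by_cases hg : N.gcd d = 1
    · exact ⟨N, 1, by rw [mul_one], hg, fun p hp h1 => absurd (Nat.dvd_one.1 h1) hp.ne_one⟩
    · set g := N.gcd d with hgdef
      have hgN : g ∣ N := Nat.gcd_dvd_left N d
      have hgd : g ∣ d := Nat.gcd_dvd_right N d
      have hg0 : g ≠ 0 := fun h => hN (by
        have := Nat.eq_zero_of_zero_dvd (h ▸ hgN)
        exact this)
      have hg2 : 2 ≤ g := by omega
      have hNpos : 0 < N := Nat.pos_of_ne_zero hN
      have hlt : N / g < N := Nat.div_lt_self hNpos hg2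
      have hne : N / g ≠ 0 := by
        intro h
        have h1 := Nat.div_mul_cancel hgN
        rw [h, zero_mul] at h1
        exact hN h1.symm
      obtain ⟨m', n', h1, h2, h3⟩ := ih (N / g) hlt hne
      refine ⟨m', n' * g, ?_, h2, ?_⟩
      · rw [← mul_assoc, ← h1, Nat.div_mul_cancel hgN]
      · intro p hp hpd
        rcases (Nat.Prime.dvd_mul hp).1 hpd with h | h
        · exact h3 p hp h
        · exact h.trans hgd

theorem exists_coprime_split (d N : ℕ) (hN : N ≠ 0) :
    ∃ m n : ℕ, N = m * n ∧ m.Coprime n ∧ (∀ c : ℕ, c ∣ N → c ∣ d → c ∣ n) ∧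
      (∀ h : ℕ, h ∣ N → h.Coprime d → h ∣ m) := by
  obtain ⟨m, n, h1, h2, h3⟩ := exists_coprime_split_aux d N hN
  refine ⟨m, n, h1, ?_, ?_, ?_⟩
  · apply Nat.coprime_of_dvd
    intro p hp hpm hpn
    have hpd := h3 p hp hpn
    have := Nat.dvd_gcd hpm hpd
    rw [h2] at this
    exact hp.ne_one (Nat.dvd_one.1 this)
  · intro c hcN hcd
    have hcm : c.Coprime m := (Nat.Coprime.coprime_dvd_left hcd h2.symm)
    rw [h1] at hcN
    exact hcm.dvd_of_dvd_mul_left hcN
  · intro h hhN hhd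
    have hhn : h.Coprime n := by
      apply Nat.coprime_of_dvd
      intro p hp hph hpn
      have hpd := h3 p hp hpn
      have := Nat.dvd_gcd hph hpd
      rw [hhd] at this
      exact hp.ne_one (Nat.dvd_one.1 this)
    rw [h1] at hhN
    exact hhn.dvd_of_dvd_mul_right hhN

end Arith

section DadePow
variable {G : Type*} [Group G] [Finite G] {A : Set G} {L : Subgroup G} {H : G → Subgroup G}

/-- Arithmetic data attached to a Dade set-up: `|G| = m n` with `m`, `n` coprime, all `|C_L(a)|`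
dividing `n`, all `|H a|` dividing `m`, and `k` congruent to `0` mod `m` and `1` mod `n`. -/
structure DadeSplit (A : Set G) (L : Subgroup G) (H : G → Subgroup G) (m n k : ℕ) : Prop where
  card : Nat.card G = m * n
  cop : m.Coprime n
  hn : ∀ a ∈ A, Nat.card ↥(L ⊓ Subgroup.centralizer ({a} : Set G)) ∣ n
  hm : ∀ a ∈ A, Nat.card (H a) ∣ m
  k0 : k ≡ 0 [MOD m]
  k1 : k ≡ 1 [MOD n]

theorem exists_dadeSplit (hD : Cfsg.DadeHypothesis A L H) : ∃ m n k : ℕ, DadeSplit A L H m n k := by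
  classical
  set s : Finset G := (Set.toFinite A).toFinset with hs
  set d : ℕ := ∏ a ∈ s, Nat.card ↥(L ⊓ Subgroup.centralizer ({a} : Set G)) with hd
  obtain ⟨m, n, h1, h2, h3, h4⟩ := exists_coprime_split d (Nat.card G) Nat.card_pos.ne'
  obtain ⟨k, hk1, hk0⟩ := Nat.chineseRemainder h2.symm 1 0
  refine ⟨m, n, k, h1, h2, ?_, ?_, hk0, hk1⟩
  · intro a ha
    apply h3
    · exact Subgroup.card_subgroup_dvd_card _
    · exact Finset.dvd_prod_of_mem _ ((Set.Finite.mem_toFinset _).2 ha)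
  · intro a ha
    apply h4
    · exact Subgroup.card_subgroup_dvd_card _
    · apply Nat.Coprime.prod_right
      intro b hb
      exact hD.coprime a ha b ((Set.Finite.mem_toFinset _).1 hb)

variable {m n k : ℕ}

theorem DadeSplit.orderOf_dvd (S : DadeSplit A L H m n k) (hD : Cfsg.DadeHypothesis A L H) {a : G}
    (ha : a ∈ A) : orderOf a ∣ n := by
  have h1 : orderOf (⟨a, dade_mem_inf hD ha⟩ : ↥(L ⊓ Subgroup.centralizer ({a} : Set G)))
      ∣ Nat.card ↥(L ⊓ Subgroup.centralizer ({a} : Set G)) := orderOf_dvd_natCard _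
  rw [← Subgroup.orderOf_coe] at h1
  exact h1.trans (S.hn a ha)

theorem DadeSplit.pow_self (S : DadeSplit A L H m n k) (hD : Cfsg.DadeHypothesis A L H) {a : G}
    (ha : a ∈ A) {K : ℕ} (hK1 : K ≡ 1 [MOD n]) : a ^ K = a := by
  have h1 : a ^ K = a ^ 1 := by
    rw [pow_eq_pow_iff_modEq]
    exact hK1.of_dvd (S.orderOf_dvd hD ha)
  rw [h1, pow_one]

theorem DadeSplit.pow_coset (S : DadeSplit A L H m n k) (hD : Cfsg.DadeHypothesis A L H) {a : G}
    (ha : a ∈ A) {u : G} (hu : u ∈ H a) : (a * u) ^ k = a := by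
  have hou : orderOf u ∣ m := by
    have h1 : orderOf (⟨u, hu⟩ : H a) ∣ Nat.card (H a) := orderOf_dvd_natCard _
    rw [← Subgroup.orderOf_coe] at h1
    exact h1.trans (S.hm a ha)
  have hu1 : u ^ k = 1 := by
    apply orderOf_dvd_iff_pow_eq_one.1
    exact hou.trans ((Nat.modEq_zero_iff_dvd).1 S.k0)
  rw [(show Commute a u from dade_commute hD ha hu).mul_pow, S.pow_self hD ha S.k1, hu1, mul_one]

/-- An element one of whose suitable powers is `a ∈ A` lies in the coset `a H(a)`. -/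
theorem DadeSplit.of_pow (S : DadeSplit A L H m n k) (hD : Cfsg.DadeHypothesis A L H) {a : G}
    (ha : a ∈ A) {g : G} {K : ℕ} (hK1 : K ≡ 1 [MOD n]) (h : g ^ K = a) :
    ∃ v ∈ H a, g = a * v := by
  have hcomm : Commute g a := by
    rw [← h]
    exact (Commute.refl g).pow_right K
  refine ⟨a⁻¹ * g, ?_, by group⟩
  have hcent : a⁻¹ * g ∈ Subgroup.centralizer ({a} : Set G) := by
    rw [Subgroup.mem_centralizer_iff]
    intro z hz
    rw [Set.mem_singleton_iff] at hz
    subst hz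
    rw [mul_inv_cancel_left, mul_assoc, hcomm.eq, inv_mul_cancel_left]
  have hvK : (a⁻¹ * g) ^ K = 1 := by
    rw [(hcomm.symm.inv_left).mul_pow, h, inv_pow, S.pow_self hD ha hK1, inv_mul_cancel]
  have ho1 : orderOf (a⁻¹ * g) ∣ K := orderOf_dvd_of_pow_eq_one hvK
  have hKn : K.Coprime n := by
    have := hK1.gcd_eq
    rw [Nat.Coprime, this, Nat.gcd_one_left]
  apply dade_mem_H_of_coprime hD ha hcent
  exact Nat.Coprime.coprime_dvd_right (S.hn a ha) (Nat.Coprime.coprime_dvd_left ho1 hKn)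

/-- The Dade map is constant on `g ↦ g ^ k`. -/
theorem DadeSplit.dade_pow (S : DadeSplit A L H m n k) (hD : Cfsg.DadeHypothesis A L H)
    (α : L → ℂ) (hα : Cfsg.IsClassFunction L α) (g : G) :
    Cfsg.dadeIsometry A L H α (g ^ k) = Cfsg.dadeIsometry A L H α g := by
  by_cases h : ∃ a : ↥L, (a : G) ∈ A ∧ ∃ u ∈ H (a : G), ∃ x : G, x * g * x⁻¹ = (a : G) * u
  · obtain ⟨a, ha, u, hu, x, hx⟩ := h
    rw [dade_apply hD α hα g a ha u x hu hx]
    apply dade_apply hD α hα (g ^ k) a ha 1 x (one_mem _)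
    rw [mul_one, ← conj_pow, hx]
    exact S.pow_coset hD ha hu
  · rw [dade_apply_of_not α g h]
    apply dade_apply_of_not
    rintro ⟨a, ha, u, hu, x, hx⟩
    apply h
    have hK1 : k * k ≡ 1 [MOD n] := by
      have := S.k1.mul S.k1
      rwa [one_mul] at this
    have hpow : (x * g * x⁻¹) ^ (k * k) = (a : G) := by
      rw [pow_mul, conj_pow, hx, S.pow_coset hD ha hu]
    obtain ⟨v, hv, hgv⟩ := S.of_pow hD ha hK1 hpow
    exact ⟨a, ha, v, hv, x, hgv⟩

end DadePow

end Cfsg.Agent.Lib.Helper4
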