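import Mathlib
import Cfsg.Prelude.Def_OddOrderChar
import Cfsg.Agent.Lib.Helper4.Dade5
import Cfsg.Agent.Lib.Helper4.FrobTI4
import Cfsg.Agent.Lib.Helper1.IndFun
import Cfsg.Agent.S0157

set_option autoImplicit false

/-! Values of the torsion permutation character and of the induced function on the elements whose
order is prime to all `|H a|`. -/

namespace Cfsg.Agent.Lib.Helper4

open Cfsg.Agent.Lib.Helper1

section Tors
variable {G : Type*} [Group G]

/-- The elements killed by `M`, on which `G` acts by conjugation. -/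
structure PowTors (G : Type*) [Group G] (M : ℕ) where
  val : G
  prop : val ^ M = 1

theorem PowTors.ext' {M : ℕ} {u v : PowTors G M} (h : u.val = v.val) : u = v := by
  cases u; cases v; cases h; rfl

instance powTorsMulAction (M : ℕ) : MulAction G (PowTors G M) where
  smul g u := ⟨g * u.val * g⁻¹, by rw [conj_pow, u.prop, mul_one, mul_inv_cancel]⟩
  one_smul u := PowTors.ext' (by show 1 * u.val * 1⁻¹ = u.val; group)
  mul_smul g h u := PowTors.ext' (by
    show (g * h) * u.val * (g * h)⁻¹ = g * (h * u.val * h⁻¹) * g⁻¹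
    group)

theorem powTors_smul_val (M : ℕ) (g : G) (u : PowTors G M) : (g • u).val = g * u.val * g⁻¹ := rfl

instance powTorsFinite [Finite G] (M : ℕ) : Finite (PowTors G M) :=
  Finite.of_injective (fun u : PowTors G M => u.val) (fun _ _ h => PowTors.ext' h)

/-- The permutation character of `G` on the elements killed by `M`. -/
noncomputable def torsChar (G : Type*) [Group G] (M : ℕ) : G → ℂ :=
  fun g => (Nat.card (MulAction.fixedBy (PowTors G M) g) : ℂ)

theorem isCharacter_torsChar [Finite G] (M : ℕ) : Cfsg.IsCharacter G (torsChar G M) :=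
  Cfsg.Agent.S0157.isCharacter_perm (PowTors G M)

end Tors

section Values
variable {G : Type*} [Group G] [Finite G] {A : Set G} {L : Subgroup G} {H : G → Subgroup G}

theorem torsChar_apply (hD : Cfsg.DadeHypothesis A L H) {M : ℕ}
    (hM1 : ∀ a ∈ A, Nat.card (H a) ∣ M)
    (hM2 : ∀ b ∈ A, M.Coprime (Nat.card ↥(L ⊓ Subgroup.centralizer ({b} : Set G))))
    {a : G} (ha : a ∈ A) : torsChar G M a = (Nat.card (H a) : ℂ) := by
  unfold torsChar
  congr 1
  apply Nat.card_congr
  refine ⟨fun u => ⟨u.1.val, ?_⟩, fun v => ⟨(PowTors.mk v.1 ?_ : PowTors G M), ?_⟩, ?_, ?_⟩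
  · have hu := u.2
    rw [MulAction.mem_fixedBy] at hu
    have hu' : a * u.1.val * a⁻¹ = u.1.val := congrArg PowTors.val hu
    apply dade_mem_H_of_coprime hD ha
    · rw [Subgroup.mem_centralizer_iff]
      intro z hz
      rw [Set.mem_singleton_iff] at hz
      subst hz
      conv_rhs => rw [← hu']
      group
    · have h1 : orderOf u.1.val ∣ M := orderOf_dvd_of_pow_eq_one u.1.prop
      exact Nat.Coprime.coprime_dvd_left h1 (hM2 a ha)
  · have h1 : orderOf (v : H a) ∣ Nat.card (H a) := orderOf_dvd_natCard _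
    rw [← Subgroup.orderOf_coe] at h1
    exact orderOf_dvd_iff_pow_eq_one.1 (h1.trans (hM1 a ha))
  · rw [MulAction.mem_fixedBy]
    apply PowTors.ext'
    show a * v.1 * a⁻¹ = v.1
    rw [dade_commute hD ha v.2, mul_inv_cancel_right]
  · intro u
    rfl
  · intro v
    rfl

theorem isClassFunction_torsChar (M : ℕ) : Cfsg.IsClassFunction G (torsChar G M) :=
  isClassFunction_of_isCharacter (isCharacter_torsChar M)

omit [Finite G] in
/-- An element of a coset `a H(a)` whose order is prime to `|H a|` is `a`. -/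
theorem dade_eq_one_of_coprime (hD : Cfsg.DadeHypothesis A L H) {M : ℕ}
    (hM1 : ∀ a ∈ A, Nat.card (H a) ∣ M)
    (hM2 : ∀ b ∈ A, M.Coprime (Nat.card ↥(L ⊓ Subgroup.centralizer ({b} : Set G))))
    {a : G} (ha : a ∈ A) {u : G} (hu : u ∈ H a) (hcop : (orderOf (a * u)).Coprime M) : u = 1 := by
  have hc : Commute a u := dade_commute hD ha hu
  have h1 : u = a⁻¹ * (a * u) := by group
  have hc2 : Commute a⁻¹ (a * u) := ((Commute.refl a).mul_right hc).inv_left
  have h2 : orderOf u ∣ Nat.lcm (orderOf a⁻¹) (orderOf (a * u)) := by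
    conv_lhs => rw [h1]
    exact hc2.orderOf_mul_dvd_lcm
  rw [orderOf_inv] at h2
  have h3 : orderOf u ∣ orderOf a * orderOf (a * u) := h2.trans (Nat.lcm_dvd_mul _ _)
  have hoa : orderOf a ∣ Nat.card ↥(L ⊓ Subgroup.centralizer ({a} : Set G)) := by
    have h1 : orderOf (⟨a, dade_mem_inf hD ha⟩ : ↥(L ⊓ Subgroup.centralizer ({a} : Set G)))
        ∣ Nat.card ↥(L ⊓ Subgroup.centralizer ({a} : Set G)) := orderOf_dvd_natCard _
    rwa [← Subgroup.orderOf_coe] at h1
  have h4 : (orderOf a * orderOf (a * u)).Coprime M :=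
    Nat.Coprime.mul_left (Nat.Coprime.coprime_dvd_left hoa (hM2 a ha).symm) hcop
  have h5 : orderOf u ∣ M := by
    have h1 : orderOf (⟨u, hu⟩ : H a) ∣ Nat.card (H a) := orderOf_dvd_natCard _
    rw [← Subgroup.orderOf_coe] at h1
    exact h1.trans (hM1 a ha)
  have h6 : orderOf u = 1 := Nat.Coprime.eq_one_of_dvd (Nat.Coprime.coprime_dvd_left h3 h4) h5
  exact orderOf_eq_one_iff.1 h6

end Values

section Ind
variable {G : Type*} [Group G] [Fintype G] {A : Set G} {L : Subgroup G} [Fintype L]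
  {H : G → Subgroup G}

omit [Fintype L] in
theorem indFun_dade_apply (hD : Cfsg.DadeHypothesis A L H) (α : L → ℂ)
    (hα : Cfsg.IsClassFunction L α) (hαA : ∀ x : L, (x : G) ∉ A → α x = 0) (a : L)
    (ha : (a : G) ∈ A) : Cfsg.indFun L α (a : G) = (Nat.card (H a) : ℂ) * α a := by
  classical
  rw [indFun_apply]
  have h1 : ∑ x : G, Cfsg.extendByZero L α (x⁻¹ * (a : G) * x)
      = ∑ y : G, Cfsg.extendByZero L α (y * (a : G) * y⁻¹) := by
    have := Equiv.sum_comp (Equiv.inv G) (fun y : G => Cfsg.extendByZero L α (y * (a : G) * y⁻¹))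
    rw [← this]
    refine Finset.sum_congr rfl fun x _ => ?_
    simp only [Equiv.inv_apply, inv_inv]
  have h2 : ∀ y : G, Cfsg.extendByZero L α (y * (a : G) * y⁻¹)
      = if y * (a : G) * y⁻¹ ∈ A then α a else 0 := by
    intro y
    split_ifs with hy
    · obtain ⟨l, hl, hla⟩ := hD.fusion a ha y hy
      rw [extendByZero_of_mem L α (hD.subset hy)]
      have h3 : (⟨y * (a : G) * y⁻¹, hD.subset hy⟩ : L) = ⟨l, hl⟩ * a * (⟨l, hl⟩ : L)⁻¹ := by
        apply Subtype.ext
        show y * (a : G) * y⁻¹ = l * (a : G) * l⁻¹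
        exact hla.symm
      rw [h3]
      exact hα a ⟨l, hl⟩
    · by_cases hyL : y * (a : G) * y⁻¹ ∈ L
      · rw [extendByZero_of_mem L α hyL]
        exact hαA _ hy
      · exact extendByZero_of_notMem L α hyL
  rw [h1, Finset.sum_congr rfl fun y _ => h2 y, ← Finset.sum_filter, Finset.sum_const,
    nsmul_eq_mul]
  have h3 : ((Finset.univ : Finset G).filter (fun y => y * (a : G) * y⁻¹ ∈ A)).card
      = Nat.card L * Nat.card (H a) := by
    rw [← dade_card_conj_set hD ha, Nat.card_eq_fintype_card, Fintype.card_subtype]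
  rw [h3]
  have hL0 : (Nat.card L : ℂ) ≠ 0 := Nat.cast_ne_zero.2 Nat.card_pos.ne'
  push_cast
  field_simp

omit [Fintype L] in
theorem indFun_dade_zero (α : L → ℂ) (hαA : ∀ x : L, (x : G) ∉ A → α x = 0) (y : G)
    (hy : ∀ x : G, x⁻¹ * y * x ∉ A) : Cfsg.indFun L α y = 0 := by
  apply Cfsg.Agent.Lib.Helper4.FrobTI.indFun_eq_zero_of
  intro x hx
  exact hαA _ (hy x)

/-- The values of the three functions on an element of order prime to `M`. -/
theorem dade_pi_values (hD : Cfsg.DadeHypothesis A L H) {M : ℕ}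
    (hM1 : ∀ a ∈ A, Nat.card (H a) ∣ M)
    (hM2 : ∀ b ∈ A, M.Coprime (Nat.card ↥(L ⊓ Subgroup.centralizer ({b} : Set G))))
    (α : L → ℂ) (hα : Cfsg.IsClassFunction L α) (hαA : ∀ x : L, (x : G) ∉ A → α x = 0)
    (y : G) (hy : (orderOf y).Coprime M) :
    (∃ a : L, (a : G) ∈ A ∧ torsChar G M y = (Nat.card (H a) : ℂ) ∧
      Cfsg.indFun L α y = (Nat.card (H a) : ℂ) * Cfsg.dadeIsometry A L H α y ∧
      Cfsg.dadeIsometry A L H α y = α a) ∨
    (Cfsg.indFun L α y = 0 ∧ Cfsg.dadeIsometry A L H α y = 0) := by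
  by_cases h : ∃ a : ↥L, (a : G) ∈ A ∧ ∃ u ∈ H (a : G), ∃ x : G, x * y * x⁻¹ = (a : G) * u
  · left
    obtain ⟨a, ha, u, hu, x, hx⟩ := h
    have hord : orderOf ((a : G) * u) = orderOf y := by
      rw [← hx]
      have hs : SemiconjBy x y (x * y * x⁻¹) := by
        unfold SemiconjBy
        group
      exact (hs.orderOf_eq x).symm
    have hu1 : u = 1 := dade_eq_one_of_coprime hD hM1 hM2 ha hu (by rw [hord]; exact hy)
    rw [hu1, mul_one] at hx
    have hβ : Cfsg.dadeIsometry A L H α y = α a :=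
      dade_apply hD α hα y a ha 1 x (one_mem _) (by rw [mul_one]; exact hx)
    refine ⟨a, ha, ?_, ?_, hβ⟩
    · rw [← isClassFunction_torsChar M y x, hx]
      exact torsChar_apply hD hM1 hM2 ha
    · rw [← indFun_isClassFunction L α y x, hx, hβ]
      exact indFun_dade_apply hD α hα hαA a ha
  · right
    refine ⟨?_, dade_apply_of_not α y h⟩
    apply indFun_dade_zero α hαA
    intro x hxA
    apply h
    refine ⟨⟨x⁻¹ * y * x, hD.subset hxA⟩, hxA, 1, one_mem _, x⁻¹, ?_⟩
    rw [mul_one, inv_inv]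

end Ind

end Cfsg.Agent.Lib.Helper4
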