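import Mathlib
import Cfsg.Prelude.Def_OddOrderChar
import Cfsg.Agent.Lib.Helper4.Dade6
import Cfsg.Agent.Lib.Helper4.Coh1
import Cfsg.Agent.Lib.Helper2.PiSection
import Cfsg.Agent.Lib.Helper2.TIFN
import Cfsg.Agent.S0177

set_option autoImplicit false

/-! The Dade map of a generalized character, pulled back to a group of order prime to all
`|H a|`, is a generalized character. -/

namespace Cfsg.Agent.Lib.Helper4

open Cfsg.Agent.Lib.Helper1 Cfsg.Agent.Lib.Helper2.PiSection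
open scoped ComplexConjugate

universe u

section Tools
variable {G : Type u} [Group G]

theorem isGenChar_const_int (z : ℤ) : Cfsg.IsGeneralizedCharacter G (fun _ => (z : ℂ)) := by
  have h := Cfsg.Agent.Lib.Helper2.TIFN.isGenChar_zsmul (Cfsg.Agent.S0177.isGenChar_const_nat (A := G) 1) z
  convert h using 1
  funext x
  simp

theorem isGenChar_pow {c : G → ℂ} (hc : Cfsg.IsGeneralizedCharacter G c) (j : ℕ) :
    Cfsg.IsGeneralizedCharacter G (c ^ j) := by
  induction j with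
  | zero =>
    rw [pow_zero]
    have h := Cfsg.Agent.S0177.isGenChar_const_nat (A := G) 1
    convert h using 1
    funext x
    simp
  | succ j ih =>
    rw [pow_succ]
    exact Cfsg.Agent.S0177.isGenChar_mul ih hc

theorem isCharacter_comp_hom' {F : Type*} [Group F] {χ : G → ℂ} (hχ : Cfsg.IsCharacter G χ)
    (e : F →* G) : Cfsg.IsCharacter F (fun f => χ (e f)) := by
  obtain ⟨n, ρ, rfl⟩ := hχ
  exact ⟨n, ρ.comp e, rfl⟩

theorem isGenChar_comp_hom' {F : Type*} [Group F] {θ : G → ℂ}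
    (hθ : Cfsg.IsGeneralizedCharacter G θ) (e : F →* G) :
    Cfsg.IsGeneralizedCharacter F (fun f => θ (e f)) := by
  obtain ⟨a, b, ha, hb, rfl⟩ := hθ
  exact ⟨_, _, isCharacter_comp_hom' ha e, isCharacter_comp_hom' hb e, rfl⟩

theorem isGenChar_of_int_mult [Fintype G] (θ : G → ℂ) (hθ : Cfsg.IsClassFunction G θ)
    (h : ∀ ξ : G → ℂ, Cfsg.IsIrrCharacter G ξ → ∃ z : ℤ, Cfsg.classInner θ ξ = z) :
    Cfsg.IsGeneralizedCharacter G θ := by
  classical
  have : Fintype (Cfsg.IrrCharacter G) := Fintype.ofFinite _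
  rw [class_function_expansion θ hθ]
  apply isGenChar_sum
  intro ξ _
  obtain ⟨z, hz⟩ := h ξ ξ.2
  rw [hz]
  have h1 := Cfsg.Agent.Lib.Helper2.TIFN.isGenChar_zsmul (isGenChar_of_irr ξ.2) z
  convert h1 using 1
  funext x
  simp

/-- Integer "interpolation": `∏ (c - h) = c Γ + ∏ (-h)` with `Γ` a generalized character. -/
theorem exists_interp {c : G → ℂ} (hc : Cfsg.IsGeneralizedCharacter G c) (s : Finset ℕ) :
    ∃ Γ : G → ℂ, Cfsg.IsGeneralizedCharacter G Γ ∧
      ∀ g, ∏ h ∈ s, (c g - (h : ℂ)) = c g * Γ g + ((∏ h ∈ s, (-(h : ℤ)) : ℤ) : ℂ) := by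
  classical
  induction s using Finset.induction_on with
  | empty => exact ⟨0, isGenChar_zero, fun g => by simp⟩
  | insert h₀ s hh ih =>
    obtain ⟨Γ, hΓ, hg⟩ := ih
    refine ⟨(c - fun _ => (h₀ : ℂ)) * Γ + fun _ => ((∏ h ∈ s, (-(h : ℤ)) : ℤ) : ℂ), ?_, ?_⟩
    · exact isGenChar_add (Cfsg.Agent.S0177.isGenChar_mul
        (isGenChar_sub hc (Cfsg.Agent.S0177.isGenChar_const_nat h₀)) hΓ) (isGenChar_const_int _)
    · intro g
      rw [Finset.prod_insert hh, Finset.prod_insert hh, hg g]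
      simp only [Pi.add_apply, Pi.mul_apply, Pi.sub_apply]
      push_cast
      ring

end Tools

section Inner
variable {F : Type u} [Group F] [Fintype F]

theorem classInner_algInt_of_congr (b Θ : F → ℂ) (hΘ : Cfsg.IsGeneralizedCharacter F Θ)
    (hb : ∀ f, b f ∈ Cfsg.AlgInt)
    (hcongr : ∀ f, ∃ s : ℤ, Θ f - b f = ((Nat.card F : ℂ) * s) * b f)
    (ξ : F → ℂ) (hξ : Cfsg.IsIrrCharacter F ξ) : Cfsg.classInner b ξ ∈ Cfsg.AlgInt := by
  classical
  have h1 : b = Θ - (Θ - b) := by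
    funext f
    simp
  rw [h1, classInner_sub_left]
  apply Subalgebra.sub_mem
  · obtain ⟨z, hz⟩ := classInner_genChar_int hΘ (isGenChar_of_irr hξ)
    rw [hz]
    exact Subalgebra.intCast_mem _ z
  · choose s hs using hcongr
    rw [classInner_def, Finset.mul_sum]
    apply Subalgebra.sum_mem
    intro f _
    have hF0 : (Nat.card F : ℂ) ≠ 0 := Nat.cast_ne_zero.2 Nat.card_pos.ne'
    have h2 : (Nat.card F : ℂ)⁻¹ * ((Θ - b) f * conj (ξ f)) = (s f : ℂ) * b f * conj (ξ f) := by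
      rw [Pi.sub_apply, hs f]
      field_simp
    rw [h2]
    apply Subalgebra.mul_mem
    · apply Subalgebra.mul_mem
      · exact Subalgebra.intCast_mem _ (s f)
      · exact hb f
    · exact algInt_conj (algInt_char (isCharacter_of_irr hξ) f)

theorem classInner_rat_of_scalar (b Θ : F → ℂ) (hΘ : Cfsg.IsGeneralizedCharacter F Θ)
    (C : ℤ) (hC : C ≠ 0) (h : ∀ f, Θ f = (C : ℂ) * b f)
    (ξ : F → ℂ) (hξ : Cfsg.IsIrrCharacter F ξ) : ∃ q : ℚ, Cfsg.classInner b ξ = (q : ℂ) := by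
  have h1 : Θ = (C : ℂ) • b := by
    funext f
    rw [h f]
    rfl
  obtain ⟨z, hz⟩ := classInner_genChar_int hΘ (isGenChar_of_irr hξ)
  rw [h1, classInner_smul_left] at hz
  refine ⟨(z : ℚ) / (C : ℚ), ?_⟩
  have hC' : (C : ℂ) ≠ 0 := Int.cast_ne_zero.2 hC
  push_cast
  rw [eq_div_iff hC', mul_comm]
  exact hz

end Inner

end Cfsg.Agent.Lib.Helper4
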