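import Mathlib
import Cfsg.Prelude.Def_OddOrderChar
import Cfsg.Agent.Lib.Helper4.Dade7

set_option autoImplicit false

/-! The Dade map of a generalized character, pulled back to a group of order prime to all
`|H a|`, is a generalized character (main step). -/

namespace Cfsg.Agent.Lib.Helper4

open Cfsg.Agent.Lib.Helper1 Cfsg.Agent.Lib.Helper2.PiSection
open scoped ComplexConjugate

universe u v

theorem dade_isGenChar_comp {G : Type u} [Group G] [Fintype G] {A : Set G} {L : Subgroup G}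
    [Fintype L] {H : G → Subgroup G} (hD : Cfsg.DadeHypothesis A L H) {M : ℕ}
    (hM1 : ∀ a ∈ A, Nat.card (H a) ∣ M)
    (hM2 : ∀ b ∈ A, M.Coprime (Nat.card ↥(L ⊓ Subgroup.centralizer ({b} : Set G))))
    (α : L → ℂ) (hα : Cfsg.IsGeneralizedCharacter L α) (hαA : ∀ x : L, (x : G) ∉ A → α x = 0)
    {F : Type v} [Group F] [Fintype F] (ι : F →* G) (hw : (Nat.card F).Coprime M) :
    Cfsg.IsGeneralizedCharacter F (fun f => Cfsg.dadeIsometry A L H α (ι f)) := by
  classical
  set β := Cfsg.dadeIsometry A L H α with hβdef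
  set c := torsChar G M with hcdef
  set ψ := Cfsg.indFun L α with hψdef
  have hαc : Cfsg.IsClassFunction L α := isGenChar_isClassFunction hα
  have hc : Cfsg.IsGeneralizedCharacter G c := isGenChar_of_isCharacter (isCharacter_torsChar M)
  have hψ : Cfsg.IsGeneralizedCharacter G ψ := Cfsg.Agent.S0177.isGenChar_indFun L hα
  have hβc : Cfsg.IsClassFunction G β := dade_isClassFunction hD α hαc
  have hord : ∀ f : F, (orderOf (ι f)).Coprime M := fun f =>
    Nat.Coprime.coprime_dvd_left ((orderOf_map_dvd ι f).trans (orderOf_dvd_natCard f)) hw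
  have hval : ∀ f : F, (∃ a : L, (a : G) ∈ A ∧ c (ι f) = (Nat.card (H a) : ℂ) ∧
      ψ (ι f) = (Nat.card (H a) : ℂ) * β (ι f) ∧ β (ι f) = α a) ∨
      (ψ (ι f) = 0 ∧ β (ι f) = 0) :=
    fun f => dade_pi_values hD hM1 hM2 α hαc hαA (ι f) (hord f)
  have hbint : ∀ f, β (ι f) ∈ Cfsg.AlgInt := by
    intro f
    rcases hval f with ⟨a, ha, _, _, h3⟩ | ⟨_, h2⟩
    · rw [h3]
      exact Cfsg.Agent.Lib.Helper2.TIFN.isIntegral_genChar hα a
    · rw [h2]
      exact Subalgebra.zero_mem _
  apply isGenChar_of_int_mult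
  · intro f g
    show β (ι (g * f * g⁻¹)) = β (ι f)
    rw [map_mul, map_mul, map_inv]
    exact hβc _ _
  intro ξ hξ
  -- algebraic integrality
  have hA : Cfsg.classInner (fun f => β (ι f)) ξ ∈ Cfsg.AlgInt := by
    set w := Nat.card F with hwdef
    set t := Nat.totient w with htdef
    have ht : 0 < t := Nat.totient_pos.2 Nat.card_pos
    apply classInner_algInt_of_congr _ (fun f => (c ^ (t - 1) * ψ) (ι f))
      (isGenChar_comp_hom' (Cfsg.Agent.S0177.isGenChar_mul (isGenChar_pow hc (t - 1)) hψ) ι)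
      hbint _ ξ hξ
    intro f
    rcases hval f with ⟨a, ha, h1, h2, h3⟩ | ⟨h1, h2⟩
    · have hcop : (Nat.card (H a)).Coprime w :=
        Nat.Coprime.coprime_dvd_left (hM1 a ha) hw.symm
      have hmod := Nat.ModEq.pow_totient hcop
      obtain ⟨s, hs⟩ : ∃ s : ℤ, ((Nat.card (H a) : ℤ)) ^ t - 1 = (w : ℤ) * s := by
        have h4 := (Nat.modEq_iff_dvd.1 hmod.symm)
        obtain ⟨s, hs⟩ := h4
        refine ⟨s, ?_⟩
        rw [← hs]
        push_cast
        ring
      refine ⟨s, ?_⟩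
      simp only [Pi.mul_apply, Pi.pow_apply]
      rw [h1, h2]
      have h5 : ((Nat.card (H a) : ℂ)) ^ (t - 1) * (Nat.card (H a) : ℂ)
          = (Nat.card (H a) : ℂ) ^ t := by
        rw [← pow_succ, Nat.sub_add_cancel ht]
      have hs' : ((Nat.card (H a) : ℂ)) ^ t - 1 = (w : ℂ) * s := by exact_mod_cast hs
      linear_combination (β (ι f)) * hs' + (β (ι f)) * h5
    · refine ⟨0, ?_⟩
      simp only [Pi.mul_apply]
      rw [h1, h2]
      simp
  -- rationality
  have hQ : ∃ q : ℚ, Cfsg.classInner (fun f => β (ι f)) ξ = (q : ℂ) := by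
    set s : Finset ℕ := ((Set.toFinite A).toFinset).image (fun a => Nat.card (H a)) with hsdef
    obtain ⟨Γ, hΓ, hΓeq⟩ := exists_interp hc s
    set P : ℤ := ∏ h ∈ s, (-(h : ℤ)) with hPdef
    have hP : P ≠ 0 := by
      apply Finset.prod_ne_zero_iff.2
      intro h hh
      obtain ⟨a, ha, rfl⟩ := Finset.mem_image.1 hh
      have : Nat.card (H a) ≠ 0 := Nat.card_pos.ne'
      simpa using this
    apply classInner_rat_of_scalar _ (fun f => (Γ * ψ) (ι f))
      (isGenChar_comp_hom' (Cfsg.Agent.S0177.isGenChar_mul hΓ hψ) ι) (-P) (neg_ne_zero.2 hP) _ ξ hξ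
    intro f
    rcases hval f with ⟨a, ha, h1, h2, h3⟩ | ⟨h1, h2⟩
    · have hmem : Nat.card (H a) ∈ s :=
        Finset.mem_image_of_mem _ ((Set.Finite.mem_toFinset _).2 ha)
      have h0 : ∏ h ∈ s, (c (ι f) - (h : ℂ)) = 0 :=
        Finset.prod_eq_zero hmem (by rw [h1, sub_self])
      have h4 := hΓeq (ι f)
      rw [h0, h1] at h4
      simp only [Pi.mul_apply]
      rw [h2]
      push_cast
      linear_combination (-β (ι f)) * h4
    · simp only [Pi.mul_apply]
      rw [h1, h2]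
      simp
  obtain ⟨q, hq⟩ := hQ
  rw [hq] at hA
  obtain ⟨z, hz⟩ := Cfsg.Agent.Lib.Helper2.TIFN.int_of_rat_isIntegral q hA
  exact ⟨z, hq.trans hz⟩

end Cfsg.Agent.Lib.Helper4
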