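import Mathlib
import Cfsg.Agent.Lib.Helper4.Deg11_Defs

set_option autoImplicit false
set_option linter.unusedVariables false
set_option maxRecDepth 4000

/-!
# Degree eleven: the group of order 7920 is sharply 4-transitive (S0679 swarm, package P8)

Generated transversal words for the stabilizer chain `G ⊃ G_0 ⊃ G_01 ⊃ G_012 ⊃ G_0123`.
-/

namespace Cfsg.Agent.Lib.Helper4.Deg11M

open Equiv MulAction Cfsg.Agent.Lib.Deg11

/-- the base tuple `(0, 1, 2, 3)` -/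
def base4 : Fin 4 ↪ Fin 11 := Fin.castLEEmb (by norm_num)

theorem base4_apply (i : Fin 4) : base4 i = Fin.castLE (by norm_num) i := rfl

theorem app_inv (g : Perm (Fin 11)) (x : Fin 11) : g (g⁻¹ x) = x := g.apply_symm_apply x

theorem chain4 (G : Subgroup (Perm (Fin 11)))
    (h1 : ∀ a : Fin 11, ∃ g ∈ G, g 0 = a)
    (h2 : ∀ a : Fin 11, a ≠ 0 → ∃ g ∈ G, g 0 = 0 ∧ g 1 = a)
    (h3 : ∀ a : Fin 11, a ≠ 0 → a ≠ 1 → ∃ g ∈ G, g 0 = 0 ∧ g 1 = 1 ∧ g 2 = a)
    (h4 : ∀ a : Fin 11, a ≠ 0 → a ≠ 1 → a ≠ 2 →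
      ∃ g ∈ G, g 0 = 0 ∧ g 1 = 1 ∧ g 2 = 2 ∧ g 3 = a) :
    IsMultiplyPretransitive G (Fin 11) 4 := by
  refine (isPretransitive_iff_base base4).mpr fun x => ?_
  have hx : ∀ i j : Fin 4, x i = x j → i = j := fun i j h => x.injective h
  obtain ⟨g0, hg0, e0⟩ := h1 (x 0)
  have hb1 : g0⁻¹ (x 1) ≠ 0 := by
    intro h
    have h' : x 1 = g0 0 := by rw [← h, app_inv]
    rw [e0] at h'
    exact absurd (hx _ _ h') (by decide)
  obtain ⟨g1, hg1, e10, e11⟩ := h2 _ hb1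
  have f0 : (g0 * g1) 0 = x 0 := by rw [Perm.mul_apply, e10, e0]
  have f1 : (g0 * g1) 1 = x 1 := by rw [Perm.mul_apply, e11, app_inv]
  have hb20 : (g0 * g1)⁻¹ (x 2) ≠ 0 := by
    intro h
    have h' : x 2 = (g0 * g1) 0 := by rw [← h, app_inv]
    rw [f0] at h'
    exact absurd (hx _ _ h') (by decide)
  have hb21 : (g0 * g1)⁻¹ (x 2) ≠ 1 := by
    intro h
    have h' : x 2 = (g0 * g1) 1 := by rw [← h, app_inv]
    rw [f1] at h'
    exact absurd (hx _ _ h') (by decide)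
  obtain ⟨g2, hg2, e20, e21, e22⟩ := h3 _ hb20 hb21
  have k0 : (g0 * g1 * g2) 0 = x 0 := by rw [Perm.mul_apply, e20, f0]
  have k1 : (g0 * g1 * g2) 1 = x 1 := by rw [Perm.mul_apply, e21, f1]
  have k2 : (g0 * g1 * g2) 2 = x 2 := by rw [Perm.mul_apply, e22, app_inv]
  have hb30 : (g0 * g1 * g2)⁻¹ (x 3) ≠ 0 := by
    intro h
    have h' : x 3 = (g0 * g1 * g2) 0 := by rw [← h, app_inv]
    rw [k0] at h'
    exact absurd (hx _ _ h') (by decide)
  have hb31 : (g0 * g1 * g2)⁻¹ (x 3) ≠ 1 := by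
    intro h
    have h' : x 3 = (g0 * g1 * g2) 1 := by rw [← h, app_inv]
    rw [k1] at h'
    exact absurd (hx _ _ h') (by decide)
  have hb32 : (g0 * g1 * g2)⁻¹ (x 3) ≠ 2 := by
    intro h
    have h' : x 3 = (g0 * g1 * g2) 2 := by rw [← h, app_inv]
    rw [k2] at h'
    exact absurd (hx _ _ h') (by decide)
  obtain ⟨g3, hg3, e30, e31, e32, e33⟩ := h4 _ hb30 hb31 hb32
  have m0 : (g0 * g1 * g2 * g3) 0 = x 0 := by rw [Perm.mul_apply, e30, k0]
  have m1 : (g0 * g1 * g2 * g3) 1 = x 1 := by rw [Perm.mul_apply, e31, k1]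
  have m2 : (g0 * g1 * g2 * g3) 2 = x 2 := by rw [Perm.mul_apply, e32, k2]
  have m3 : (g0 * g1 * g2 * g3) 3 = x 3 := by rw [Perm.mul_apply, e33, app_inv]
  refine ⟨⟨g0 * g1 * g2 * g3, G.mul_mem (G.mul_mem (G.mul_mem hg0 hg1) hg2) hg3⟩, ?_⟩
  refine DFunLike.ext _ _ fun i => ?_
  fin_cases i
  · exact m0
  · exact m1
  · exact m2
  · exact m3

theorem sharp4 (G : Subgroup (Perm (Fin 11))) (h4 : IsMultiplyPretransitive G (Fin 11) 4)
    (hcard : Nat.card G = 7920) (x : Fin 4 ↪ Fin 11) : stabilizer G x = ⊥ := by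
  have h1 : (stabilizer G x).index = Nat.card (Fin 4 ↪ Fin 11) :=
    @MulAction.index_stabilizer_of_transitive G (Fin 4 ↪ Fin 11) _ _ x h4
  have h2 : Nat.card (Fin 4 ↪ Fin 11) = 7920 := by
    rw [Nat.card_eq_fintype_card, Fintype.card_embedding_eq, Fintype.card_fin, Fintype.card_fin]
    decide
  have h3 := Subgroup.card_mul_index (stabilizer G x)
  rw [h1, h2, hcard] at h3
  have h4' : Nat.card (stabilizer G x) = 1 := by omega
  exact Subgroup.card_eq_one.mp h4'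

theorem lv1 (G : Subgroup (Perm (Fin 11))) (hc : d11c ∈ G) :
    ∀ a : Fin 11, ∃ g ∈ G, g 0 = a := by
  intro a
  exact ⟨d11c ^ a.val, G.pow_mem hc _, by revert a; decide⟩

theorem lv2_g26 (G : Subgroup (Perm (Fin 11))) (hc : d11c ∈ G) (hd : d11d ∈ G)
    (hy : d11g26 ∈ G) : ∀ a : Fin 11, a ≠ 0 → ∃ g ∈ G, g 0 = 0 ∧ g 1 = a := by
  intro a ha
  fin_cases a
  · exact absurd rfl ha
  · exact ⟨1, G.one_mem, by decide, by decide⟩
  · exact ⟨d11c * d11d * d11c * d11g26 * d11c * d11c * d11d, (G.mul_mem (G.mul_mem (G.mul_mem (G.mul_mem (G.mul_mem (G.mul_mem hc hd) hc) hy) hc) hc) hd), by decide, by decide⟩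
  · exact ⟨d11d, hd, by decide, by decide⟩
  · exact ⟨d11g26 * d11d * d11d, (G.mul_mem (G.mul_mem hy hd) hd), by decide, by decide⟩
  · exact ⟨d11d * d11d * d11d, (G.mul_mem (G.mul_mem hd hd) hd), by decide, by decide⟩
  · exact ⟨d11c * d11g26 * d11d * d11c * d11c * d11d, (G.mul_mem (G.mul_mem (G.mul_mem (G.mul_mem (G.mul_mem hc hy) hd) hc) hc) hd), by decide, by decide⟩
  · exact ⟨d11c * d11c * d11g26 * d11c * d11c * d11c, (G.mul_mem (G.mul_mem (G.mul_mem (G.mul_mem (G.mul_mem hc hc) hy) hc) hc) hc), by decide, by decide⟩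
  · exact ⟨d11c * d11g26 * d11d * d11c * d11g26 * d11c, (G.mul_mem (G.mul_mem (G.mul_mem (G.mul_mem (G.mul_mem hc hy) hd) hc) hy) hc), by decide, by decide⟩
  · exact ⟨d11d * d11d, (G.mul_mem hd hd), by decide, by decide⟩
  · exact ⟨d11c * d11g26 * d11g26 * d11c * d11c * d11d, (G.mul_mem (G.mul_mem (G.mul_mem (G.mul_mem (G.mul_mem hc hy) hy) hc) hc) hd), by decide, by decide⟩

theorem lv3_g26 (G : Subgroup (Perm (Fin 11))) (hc : d11c ∈ G) (hd : d11d ∈ G)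
    (hy : d11g26 ∈ G) :
    ∀ a : Fin 11, a ≠ 0 → a ≠ 1 → ∃ g ∈ G, g 0 = 0 ∧ g 1 = 1 ∧ g 2 = a := by
  intro a ha0 ha1
  fin_cases a
  · exact absurd rfl ha0
  · exact absurd rfl ha1
  · exact ⟨1, G.one_mem, by decide, by decide, by decide⟩
  · exact ⟨d11d * d11d * d11c * d11g26 * d11g26 * d11c * d11c, (G.mul_mem (G.mul_mem (G.mul_mem (G.mul_mem (G.mul_mem (G.mul_mem hd hd) hc) hy) hy) hc) hc), by decide, by decide, by decide⟩
  · exact ⟨d11c * d11g26 * d11c * d11d * d11d * d11d * d11c, (G.mul_mem (G.mul_mem (G.mul_mem (G.mul_mem (G.mul_mem (G.mul_mem hc hy) hc) hd) hd) hd) hc), by decide, by decide, by decide⟩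
  · exact ⟨d11g26 * d11c * d11g26 * d11c * d11d * d11d * d11d * d11c, (G.mul_mem (G.mul_mem (G.mul_mem (G.mul_mem (G.mul_mem (G.mul_mem (G.mul_mem hy hc) hy) hc) hd) hd) hd) hc), by decide, by decide, by decide⟩
  · exact ⟨d11g26, hy, by decide, by decide, by decide⟩
  · exact ⟨d11g26 * d11g26 * d11g26, (G.mul_mem (G.mul_mem hy hy) hy), by decide, by decide, by decide⟩
  · exact ⟨d11c * d11c * d11g26 * d11d * d11c * d11g26 * d11g26 * d11g26, (G.mul_mem (G.mul_mem (G.mul_mem (G.mul_mem (G.mul_mem (G.mul_mem (G.mul_mem hc hc) hy) hd) hc) hy) hy) hy), by decide, by decide, by decide⟩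
  · exact ⟨d11c * d11c * d11g26 * d11d * d11c * d11g26, (G.mul_mem (G.mul_mem (G.mul_mem (G.mul_mem (G.mul_mem hc hc) hy) hd) hc) hy), by decide, by decide, by decide⟩
  · exact ⟨d11g26 * d11g26, (G.mul_mem hy hy), by decide, by decide, by decide⟩

theorem lv4_g26 (G : Subgroup (Perm (Fin 11))) (hc : d11c ∈ G) (hd : d11d ∈ G)
    (hy : d11g26 ∈ G) :
    ∀ a : Fin 11, a ≠ 0 → a ≠ 1 → a ≠ 2 →
      ∃ g ∈ G, g 0 = 0 ∧ g 1 = 1 ∧ g 2 = 2 ∧ g 3 = a := by
  intro a ha0 ha1 ha2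
  fin_cases a
  · exact absurd rfl ha0
  · exact absurd rfl ha1
  · exact absurd rfl ha2
  · exact ⟨1, G.one_mem, by decide, by decide, by decide, by decide⟩
  · exact ⟨d11c * d11g26 * d11g26 * d11c * d11g26 * d11c * d11d * d11d * d11d, (G.mul_mem (G.mul_mem (G.mul_mem (G.mul_mem (G.mul_mem (G.mul_mem (G.mul_mem (G.mul_mem hc hy) hy) hc) hy) hc) hd) hd) hd), by decide, by decide, by decide, by decide⟩
  · exact ⟨d11g26 * d11g26 * d11g26 * d11c * d11c * d11g26 * d11d * d11c, (G.mul_mem (G.mul_mem (G.mul_mem (G.mul_mem (G.mul_mem (G.mul_mem (G.mul_mem hy hy) hy) hc) hc) hy) hd) hc), by decide, by decide, by decide, by decide⟩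
  · exact ⟨d11c * d11g26 * d11d * d11c * d11c * d11g26 * d11d * d11g26, (G.mul_mem (G.mul_mem (G.mul_mem (G.mul_mem (G.mul_mem (G.mul_mem (G.mul_mem hc hy) hd) hc) hc) hy) hd) hy), by decide, by decide, by decide, by decide⟩
  · exact ⟨d11c * d11c * d11g26 * d11d * d11c * d11g26 * d11g26, (G.mul_mem (G.mul_mem (G.mul_mem (G.mul_mem (G.mul_mem (G.mul_mem hc hc) hy) hd) hc) hy) hy), by decide, by decide, by decide, by decide⟩
  · exact ⟨d11c * d11g26 * d11g26 * d11c * d11c * d11g26 * d11d, (G.mul_mem (G.mul_mem (G.mul_mem (G.mul_mem (G.mul_mem (G.mul_mem hc hy) hy) hc) hc) hy) hd), by decide, by decide, by decide, by decide⟩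
  · exact ⟨d11c * d11c * d11g26 * d11g26 * d11d * d11g26 * d11c * d11c * d11g26 * d11c, (G.mul_mem (G.mul_mem (G.mul_mem (G.mul_mem (G.mul_mem (G.mul_mem (G.mul_mem (G.mul_mem (G.mul_mem hc hc) hy) hy) hd) hy) hc) hc) hy) hc), by decide, by decide, by decide, by decide⟩
  · exact ⟨d11c * d11d * d11c * d11g26 * d11c * d11g26 * d11c * d11d * d11g26 * d11g26, (G.mul_mem (G.mul_mem (G.mul_mem (G.mul_mem (G.mul_mem (G.mul_mem (G.mul_mem (G.mul_mem (G.mul_mem hc hd) hc) hy) hc) hy) hc) hd) hy) hy), by decide, by decide, by decide, by decide⟩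

theorem lv2_g2a (G : Subgroup (Perm (Fin 11))) (hc : d11c ∈ G) (hd : d11d ∈ G)
    (hy : d11g2a ∈ G) : ∀ a : Fin 11, a ≠ 0 → ∃ g ∈ G, g 0 = 0 ∧ g 1 = a := by
  intro a ha
  fin_cases a
  · exact absurd rfl ha
  · exact ⟨1, G.one_mem, by decide, by decide⟩
  · exact ⟨d11d * d11d * d11c * d11g2a * d11c * d11c, (G.mul_mem (G.mul_mem (G.mul_mem (G.mul_mem (G.mul_mem hd hd) hc) hy) hc) hc), by decide, by decide⟩
  · exact ⟨d11d, hd, by decide, by decide⟩
  · exact ⟨d11g2a * d11d * d11d, (G.mul_mem (G.mul_mem hy hd) hd), by decide, by decide⟩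
  · exact ⟨d11d * d11d * d11d, (G.mul_mem (G.mul_mem hd hd) hd), by decide, by decide⟩
  · exact ⟨d11c * d11g2a * d11g2a * d11d * d11c * d11c, (G.mul_mem (G.mul_mem (G.mul_mem (G.mul_mem (G.mul_mem hc hy) hy) hd) hc) hc), by decide, by decide⟩
  · exact ⟨d11c * d11c * d11g2a * d11c * d11c * d11c, (G.mul_mem (G.mul_mem (G.mul_mem (G.mul_mem (G.mul_mem hc hc) hy) hc) hc) hc), by decide, by decide⟩
  · exact ⟨d11d * d11c * d11g2a * d11c * d11c, (G.mul_mem (G.mul_mem (G.mul_mem (G.mul_mem hd hc) hy) hc) hc), by decide, by decide⟩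
  · exact ⟨d11d * d11d, (G.mul_mem hd hd), by decide, by decide⟩
  · exact ⟨d11c * d11g2a * d11c * d11c, (G.mul_mem (G.mul_mem (G.mul_mem hc hy) hc) hc), by decide, by decide⟩

theorem lv3_g2a (G : Subgroup (Perm (Fin 11))) (hc : d11c ∈ G) (hd : d11d ∈ G)
    (hy : d11g2a ∈ G) :
    ∀ a : Fin 11, a ≠ 0 → a ≠ 1 → ∃ g ∈ G, g 0 = 0 ∧ g 1 = 1 ∧ g 2 = a := by
  intro a ha0 ha1
  fin_cases a
  · exact absurd rfl ha0
  · exact absurd rfl ha1
  · exact ⟨1, G.one_mem, by decide, by decide, by decide⟩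
  · exact ⟨d11c * d11c * d11g2a * d11d * d11g2a * d11g2a * d11c, (G.mul_mem (G.mul_mem (G.mul_mem (G.mul_mem (G.mul_mem (G.mul_mem hc hc) hy) hd) hy) hy) hc), by decide, by decide, by decide⟩
  · exact ⟨d11g2a * d11c * d11g2a * d11c * d11g2a * d11c, (G.mul_mem (G.mul_mem (G.mul_mem (G.mul_mem (G.mul_mem hy hc) hy) hc) hy) hc), by decide, by decide, by decide⟩
  · exact ⟨d11c * d11g2a * d11c * d11c * d11d * d11d, (G.mul_mem (G.mul_mem (G.mul_mem (G.mul_mem (G.mul_mem hc hy) hc) hc) hd) hd), by decide, by decide, by decide⟩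
  · exact ⟨d11g2a * d11g2a * d11g2a, (G.mul_mem (G.mul_mem hy hy) hy), by decide, by decide, by decide⟩
  · exact ⟨d11d * d11c * d11c * d11g2a * d11d * d11c, (G.mul_mem (G.mul_mem (G.mul_mem (G.mul_mem (G.mul_mem hd hc) hc) hy) hd) hc), by decide, by decide, by decide⟩
  · exact ⟨d11g2a * d11g2a, (G.mul_mem hy hy), by decide, by decide, by decide⟩
  · exact ⟨d11c * d11g2a * d11c * d11g2a * d11c, (G.mul_mem (G.mul_mem (G.mul_mem (G.mul_mem hc hy) hc) hy) hc), by decide, by decide, by decide⟩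
  · exact ⟨d11g2a, hy, by decide, by decide, by decide⟩

theorem lv4_g2a (G : Subgroup (Perm (Fin 11))) (hc : d11c ∈ G) (hd : d11d ∈ G)
    (hy : d11g2a ∈ G) :
    ∀ a : Fin 11, a ≠ 0 → a ≠ 1 → a ≠ 2 →
      ∃ g ∈ G, g 0 = 0 ∧ g 1 = 1 ∧ g 2 = 2 ∧ g 3 = a := by
  intro a ha0 ha1 ha2
  fin_cases a
  · exact absurd rfl ha0
  · exact absurd rfl ha1
  · exact absurd rfl ha2
  · exact ⟨1, G.one_mem, by decide, by decide, by decide, by decide⟩
  · exact ⟨d11d * d11g2a * d11d * d11c * d11g2a * d11c * d11g2a * d11c * d11d, (G.mul_mem (G.mul_mem (G.mul_mem (G.mul_mem (G.mul_mem (G.mul_mem (G.mul_mem (G.mul_mem hd hy) hd) hc) hy) hc) hy) hc) hd), by decide, by decide, by decide, by decide⟩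
  · exact ⟨d11c * d11g2a * d11c * d11g2a * d11c * d11g2a, (G.mul_mem (G.mul_mem (G.mul_mem (G.mul_mem (G.mul_mem hc hy) hc) hy) hc) hy), by decide, by decide, by decide, by decide⟩
  · exact ⟨d11d * d11g2a * d11g2a * d11c * d11g2a * d11c * d11c * d11g2a * d11g2a * d11d, (G.mul_mem (G.mul_mem (G.mul_mem (G.mul_mem (G.mul_mem (G.mul_mem (G.mul_mem (G.mul_mem (G.mul_mem hd hy) hy) hc) hy) hc) hc) hy) hy) hd), by decide, by decide, by decide, by decide⟩
  · exact ⟨d11g2a * d11d * d11c * d11c * d11g2a * d11g2a * d11c * d11c * d11d * d11c, (G.mul_mem (G.mul_mem (G.mul_mem (G.mul_mem (G.mul_mem (G.mul_mem (G.mul_mem (G.mul_mem (G.mul_mem hy hd) hc) hc) hy) hy) hc) hc) hd) hc), by decide, by decide, by decide, by decide⟩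
  · exact ⟨d11c * d11g2a * d11g2a * d11d * d11c * d11c * d11g2a * d11d, (G.mul_mem (G.mul_mem (G.mul_mem (G.mul_mem (G.mul_mem (G.mul_mem (G.mul_mem hc hy) hy) hd) hc) hc) hy) hd), by decide, by decide, by decide, by decide⟩
  · exact ⟨d11g2a * d11c * d11g2a * d11c * d11c * d11g2a * d11d, (G.mul_mem (G.mul_mem (G.mul_mem (G.mul_mem (G.mul_mem (G.mul_mem hy hc) hy) hc) hc) hy) hd), by decide, by decide, by decide, by decide⟩
  · exact ⟨d11c * d11g2a * d11c * d11c * d11g2a * d11d * d11g2a * d11g2a, (G.mul_mem (G.mul_mem (G.mul_mem (G.mul_mem (G.mul_mem (G.mul_mem (G.mul_mem hc hy) hc) hc) hy) hd) hy) hy), by decide, by decide, by decide, by decide⟩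

end Cfsg.Agent.Lib.Helper4.Deg11M

namespace Cfsg.Agent.Lib.Deg11

open Equiv MulAction Cfsg.Agent.Lib.Helper4.Deg11M

/-- the group of order 7920 containing `c`, `d` and one of the two elements of order four of the
normalizer of `d` is sharply 4-transitive -/
theorem d11_m11 (G : Subgroup (Perm (Fin 11))) (hc : d11c ∈ G) (hd : d11d ∈ G)
    (hy : d11g26 ∈ G ∨ d11g2a ∈ G) (hcard : Nat.card G = 7920) :
    IsMultiplyPretransitive G (Fin 11) 4 ∧ ∀ x : Fin 4 ↪ Fin 11, stabilizer G x = ⊥ := by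
  have h4 : IsMultiplyPretransitive G (Fin 11) 4 := by
    rcases hy with hy | hy
    · exact chain4 G (lv1 G hc) (lv2_g26 G hc hd hy) (lv3_g26 G hc hd hy) (lv4_g26 G hc hd hy)
    · exact chain4 G (lv1 G hc) (lv2_g2a G hc hd hy) (lv3_g2a G hc hd hy) (lv4_g2a G hc hd hy)
  exact ⟨h4, sharp4 G h4 hcard⟩

end Cfsg.Agent.Lib.Deg11
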