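import Mathlib
import Cfsg.Agent.Lib.Helper2.S3T34

set_option autoImplicit false
set_option linter.style.haveILetI false

/-!
# Degree eleven: the simple group of order 660 (S0679 swarm, package P6)

A simple group of order `660` with twelve Sylow 11-subgroups acts faithfully and transitively
on them; the classification of transitive groups of degree `p + 1` and order `(p + 1) p d`,
`d < p`, identifies it with `PSL(2, 11)`.
-/

namespace Cfsg.Agent.Lib.Deg11

open MulAction

theorem d11_psl {G : Type*} [Group G] [Finite G] (hs : IsSimpleGroup G)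
    (hn : Nat.card (Sylow 11 G) * 55 = Nat.card G) (h660 : Nat.card G = 660) :
    Nonempty (G ≃* Matrix.ProjectiveSpecialLinearGroup (Fin 2) (ZMod 11)) := by
  classical
  haveI : Fact (Nat.Prime 11) := ⟨by norm_num⟩
  have hn12 : Nat.card (Sylow 11 G) = 12 := by omega
  letI : Fintype (Sylow 11 G) := Fintype.ofFinite _
  have hcard : Fintype.card (Sylow 11 G) = 11 + 1 := by
    rw [← Nat.card_eq_fintype_card, hn12]
  have faith : ∀ g : G, (∀ P : Sylow 11 G, g • P = P) → g = 1 := by
    have hK : (MulAction.toPermHom G (Sylow 11 G)).ker = ⊥ ∨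
        (MulAction.toPermHom G (Sylow 11 G)).ker = ⊤ :=
      hs.eq_bot_or_eq_top_of_normal _ inferInstance
    have hmem : ∀ g : G, (∀ P : Sylow 11 G, g • P = P) →
        g ∈ (MulAction.toPermHom G (Sylow 11 G)).ker := by
      intro g hg
      rw [MonoidHom.mem_ker]
      exact Equiv.ext fun P => hg P
    rcases hK with hK | hK
    · intro g hg
      have h1 := hmem g hg
      rw [hK] at h1
      exact Subgroup.mem_bot.mp h1
    · exfalso
      have hall : ∀ (g : G) (P : Sylow 11 G), g • P = P := by
        intro g P
        have h1 : g ∈ (MulAction.toPermHom G (Sylow 11 G)).ker := by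
          rw [hK]
          exact Subgroup.mem_top g
        rw [MonoidHom.mem_ker] at h1
        have h2 := congrArg (fun f : Equiv.Perm (Sylow 11 G) => f P) h1
        simpa using h2
      have hsub : Subsingleton (Sylow 11 G) := by
        refine ⟨fun P P' => ?_⟩
        obtain ⟨g, hg⟩ := MulAction.exists_smul_eq G P P'
        rw [← hg, hall g P]
      have h1 : Nat.card (Sylow 11 G) ≤ 1 := Finite.card_le_one_iff_subsingleton.mpr hsub
      omega
  have hG : Nat.card G = (11 + 1) * 11 * 5 := by rw [h660]
  rcases Cfsg.Agent.Lib.Helper2.S3T.degree_prime_add_one (G := G) (Ω := Sylow 11 G) faith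
    (by norm_num : Nat.Prime 11) hcard hG (by norm_num) with ⟨h, -⟩ | ⟨-, h⟩ | ⟨q, -, hq2, -⟩
  · omega
  · exact h
  · exfalso
    have hq4 : q < 4 := by
      by_contra hcon
      push Not at hcon
      have : 2 ^ 4 ≤ 2 ^ q := Nat.pow_le_pow_right (by norm_num) hcon
      omega
    interval_cases q <;> omega

end Cfsg.Agent.Lib.Deg11
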