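import Mathlib
import Cfsg.Agent.Lib.Helper4.Deg11_Defs

set_option autoImplicit false
set_option linter.unusedVariables false
set_option maxRecDepth 4000

/-!
# Degree eleven: the two tables of the normalizer of `x ↦ 3 * x` (S0679 swarm, package P3)

Generated file: every case `(k, y 2)` is non-injective, or one of the listed survivors, or has a
certificate (a word in `y, c, d` a power of which is a cycle of length 2, 3, 5 or 7).
-/

namespace Cfsg.Agent.Lib.Helper4.Deg11T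

open Equiv Cfsg.Agent.Lib.Deg11

theorem cyc_aux (l : List (Fin 11)) (hl : l.Nodup) (h2 : 2 ≤ l.length) :
    l.formPerm.IsCycle ∧ l.formPerm.support.card = l.length := by
  refine ⟨List.isCycle_formPerm hl h2, ?_⟩
  rw [List.support_formPerm_of_nodup l hl, List.toFinset_card_of_nodup hl]
  intro x hx
  rw [hx] at h2
  simp at h2

theorem no_cycle (G : Subgroup (Perm (Fin 11))) (hJ : NoSmallCycle G) (g : Perm (Fin 11))
    (hg : g ∈ G) (l : List (Fin 11)) (hl : l.Nodup) (h2 : 2 ≤ l.length)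
    (hlen : l.length ∈ ({2, 3, 5, 7} : Finset ℕ)) (he : g = l.formPerm) : False := by
  obtain ⟨h1, h3⟩ := cyc_aux l hl h2
  subst he
  exact hJ _ hg h1 (by rw [h3]; exact hlen)

theorem dd1 : d11d 1 = 3 := by decide
theorem dd3 : d11d 3 = 9 := by decide
theorem dd9 : d11d 9 = 5 := by decide
theorem dd5 : d11d 5 = 4 := by decide
theorem dd2 : d11d 2 = 6 := by decide
theorem dd6 : d11d 6 = 7 := by decide
theorem dd7 : d11d 7 = 10 := by decide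
theorem dd10 : d11d 10 = 8 := by decide

/-- the table of values of a permutation `y` with `y (3 * x) = D (y x)` and `y 0 = 0` -/
theorem norm_vals (y D : Perm (Fin 11)) (h : ∀ x, y (d11d x) = D (y x)) (h0 : y 0 = 0)
    (a b : Fin 11) (h1 : y 1 = a) (h2 : y 2 = b) (x : Fin 11) :
    y x = ![0, a, b, D a, D (D (D (D a))), D (D (D a)), D b, D (D b), D (D (D (D b))),
      D (D a), D (D (D b))] x := by
  subst h1 h2
  have e3 : y 3 = D (y 1) := (congrArg y dd1).symm.trans (h 1)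
  have e9 : y 9 = D (D (y 1)) := ((congrArg y dd3).symm.trans (h 3)).trans (congrArg D e3)
  have e5 : y 5 = D (D (D (y 1))) := ((congrArg y dd9).symm.trans (h 9)).trans (congrArg D e9)
  have e4 : y 4 = D (D (D (D (y 1)))) :=
    ((congrArg y dd5).symm.trans (h 5)).trans (congrArg D e5)
  have e6 : y 6 = D (y 2) := (congrArg y dd2).symm.trans (h 2)
  have e7 : y 7 = D (D (y 2)) := ((congrArg y dd6).symm.trans (h 6)).trans (congrArg D e6)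
  have e10 : y 10 = D (D (D (y 2))) :=
    ((congrArg y dd7).symm.trans (h 7)).trans (congrArg D e7)
  have e8 : y 8 = D (D (D (D (y 2)))) :=
    ((congrArg y dd10).symm.trans (h 10)).trans (congrArg D e10)
  fin_cases x
  · exact h0
  · rfl
  · rfl
  · exact e3
  · exact e4
  · exact e5
  · exact e6
  · exact e7
  · exact e8
  · exact e9
  · exact e10

theorem norm_inj (y D : Perm (Fin 11)) (h : ∀ x, y (d11d x) = D (y x)) (h0 : y 0 = 0)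
    (a b : Fin 11) (h1 : y 1 = a) (h2 : y 2 = b) :
    Function.Injective ![0, a, b, D a, D (D (D (D a))), D (D (D a)), D b, D (D b),
      D (D (D (D b))), D (D a), D (D (D b))] := by
  intro i j hij
  apply y.injective
  rw [norm_vals y D h h0 a b h1 h2 i, norm_vals y D h h0 a b h1 h2 j]
  exact hij

theorem norm_eq (y D P : Perm (Fin 11)) (h : ∀ x, y (d11d x) = D (y x)) (h0 : y 0 = 0)
    (a b : Fin 11) (h1 : y 1 = a) (h2 : y 2 = b)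
    (hP : ∀ x, P x = ![0, a, b, D a, D (D (D (D a))), D (D (D a)), D b, D (D b),
      D (D (D (D b))), D (D a), D (D (D b))] x) : y = P := by
  ext x
  rw [norm_vals y D h h0 a b h1 h2 x, hP x]

/-- reduction of the exponent and the fixed point `0` -/
theorem norm_red (y : Perm (Fin 11)) (k : ℕ) (hk : y * d11d = d11d ^ k * y) :
    ∃ j : ℕ, (j = 1 ∨ j = 2 ∨ j = 3 ∨ j = 4) ∧ (∀ x, y (d11d x) = (d11d ^ j) (y x)) ∧ y 0 = 0 := by
  have h5 : d11d ^ 5 = 1 := by decide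
  have hk5 : d11d ^ k = d11d ^ (k % 5) := pow_eq_pow_mod k h5
  rw [hk5] at hk
  have hlt : k % 5 < 5 := Nat.mod_lt _ (by norm_num)
  generalize k % 5 = j at hk hlt
  have hk' : ∀ x, y (d11d x) = (d11d ^ j) (y x) := fun x => by
    have := congrArg (fun f : Perm (Fin 11) => f x) hk
    simpa [Perm.mul_apply] using this
  have h00 : y 0 = (d11d ^ j) (y 0) := hk' 0
  refine ⟨j, ?_, hk', ?_⟩
  · interval_cases j
    · exfalso
      rw [pow_zero, one_mul] at hk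
      have h1 : d11d = 1 := by simpa using hk
      exact absurd h1 (by decide)
    · exact Or.inl rfl
    · exact Or.inr (Or.inl rfl)
    · exact Or.inr (Or.inr (Or.inl rfl))
    · exact Or.inr (Or.inr (Or.inr rfl))
  · interval_cases j
    · exfalso
      rw [pow_zero, one_mul] at hk
      have h1 : d11d = 1 := by simpa using hk
      exact absurd h1 (by decide)
    · revert h00; generalize y 0 = t; revert t; decide
    · revert h00; generalize y 0 = t; revert t; decide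
    · revert h00; generalize y 0 = t; revert t; decide
    · revert h00; generalize y 0 = t; revert t; decide

def pS_1_6 : Perm (Fin 11) :=
  mkP ![0, 1, 6, 3, 4, 5, 7, 10, 2, 9, 8] ![0, 1, 8, 3, 4, 5, 2, 6, 10, 9, 7] (by decide) (by decide)

theorem certS_1_6 (G : Subgroup (Perm (Fin 11))) (hc : d11c ∈ G) (hd : d11d ∈ G)
    (hJ : NoSmallCycle G) (hy : pS_1_6 ∈ G) : False :=
  no_cycle G hJ ((pS_1_6) ^ 1) (G.pow_mem hy 1)
    [2, 6, 7, 10, 8] (by decide) (by decide) (by decide) (by decide)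

def pS_1_7 : Perm (Fin 11) :=
  mkP ![0, 1, 7, 3, 4, 5, 10, 8, 6, 9, 2] ![0, 1, 10, 3, 4, 5, 8, 2, 7, 9, 6] (by decide) (by decide)

theorem certS_1_7 (G : Subgroup (Perm (Fin 11))) (hc : d11c ∈ G) (hd : d11d ∈ G)
    (hJ : NoSmallCycle G) (hy : pS_1_7 ∈ G) : False :=
  no_cycle G hJ ((pS_1_7) ^ 1) (G.pow_mem hy 1)
    [2, 7, 8, 6, 10] (by decide) (by decide) (by decide) (by decide)

def pS_1_8 : Perm (Fin 11) :=
  mkP ![0, 1, 8, 3, 4, 5, 2, 6, 10, 9, 7] ![0, 1, 6, 3, 4, 5, 7, 10, 2, 9, 8] (by decide) (by decide)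

theorem certS_1_8 (G : Subgroup (Perm (Fin 11))) (hc : d11c ∈ G) (hd : d11d ∈ G)
    (hJ : NoSmallCycle G) (hy : pS_1_8 ∈ G) : False :=
  no_cycle G hJ ((pS_1_8) ^ 1) (G.pow_mem hy 1)
    [2, 8, 10, 7, 6] (by decide) (by decide) (by decide) (by decide)

def pS_1_10 : Perm (Fin 11) :=
  mkP ![0, 1, 10, 3, 4, 5, 8, 2, 7, 9, 6] ![0, 1, 7, 3, 4, 5, 10, 8, 6, 9, 2] (by decide) (by decide)

theorem certS_1_10 (G : Subgroup (Perm (Fin 11))) (hc : d11c ∈ G) (hd : d11d ∈ G)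
    (hJ : NoSmallCycle G) (hy : pS_1_10 ∈ G) : False :=
  no_cycle G hJ ((pS_1_10) ^ 1) (G.pow_mem hy 1)
    [2, 10, 6, 8, 7] (by decide) (by decide) (by decide) (by decide)

def pS_2_2 : Perm (Fin 11) :=
  mkP ![0, 1, 2, 9, 5, 3, 7, 8, 10, 4, 6] ![0, 1, 2, 5, 9, 4, 10, 6, 7, 3, 8] (by decide) (by decide)

theorem certS_2_2 (G : Subgroup (Perm (Fin 11))) (hc : d11c ∈ G) (hd : d11d ∈ G)
    (hJ : NoSmallCycle G) (hy : pS_2_2 ∈ G) : False :=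
  no_cycle G hJ ((pS_2_2 * d11d * d11c) ^ 3) (G.pow_mem (G.mul_mem (G.mul_mem hy hd) hc) 3)
    [1, 4, 3, 2, 8, 7, 5] (by decide) (by decide) (by decide) (by decide)

def pS_2_7 : Perm (Fin 11) :=
  mkP ![0, 1, 7, 9, 5, 3, 8, 6, 2, 4, 10] ![0, 1, 8, 5, 9, 4, 7, 2, 6, 3, 10] (by decide) (by decide)

theorem certS_2_7 (G : Subgroup (Perm (Fin 11))) (hc : d11c ∈ G) (hd : d11d ∈ G)
    (hJ : NoSmallCycle G) (hy : pS_2_7 ∈ G) : False :=
  no_cycle G hJ ((pS_2_7 * d11c * d11c) ^ 3) (G.pow_mem (G.mul_mem (G.mul_mem hy hc) hc) 3)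
    [0, 8, 9, 4, 1, 7, 10] (by decide) (by decide) (by decide) (by decide)

def pS_2_8 : Perm (Fin 11) :=
  mkP ![0, 1, 8, 9, 5, 3, 6, 10, 7, 4, 2] ![0, 1, 10, 5, 9, 4, 6, 8, 2, 3, 7] (by decide) (by decide)

theorem certS_2_8 (G : Subgroup (Perm (Fin 11))) (hc : d11c ∈ G) (hd : d11d ∈ G)
    (hJ : NoSmallCycle G) (hy : pS_2_8 ∈ G) : False :=
  no_cycle G hJ ((pS_2_8 * d11c * d11c) ^ 3) (G.pow_mem (G.mul_mem (G.mul_mem hy hc) hc) 3)
    [0, 5, 9, 2, 1, 8, 10] (by decide) (by decide) (by decide) (by decide)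

def pS_3_2 : Perm (Fin 11) :=
  mkP ![0, 1, 2, 5, 9, 4, 10, 6, 7, 3, 8] ![0, 1, 2, 9, 5, 3, 7, 8, 10, 4, 6] (by decide) (by decide)

theorem certS_3_2 (G : Subgroup (Perm (Fin 11))) (hc : d11c ∈ G) (hd : d11d ∈ G)
    (hJ : NoSmallCycle G) (hy : pS_3_2 ∈ G) : False :=
  no_cycle G hJ ((pS_3_2 * d11c) ^ 3) (G.pow_mem (G.mul_mem hy hc) 3)
    [0, 5, 1, 10, 2] (by decide) (by decide) (by decide) (by decide)

def pS_3_8 : Perm (Fin 11) :=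
  mkP ![0, 1, 8, 5, 9, 4, 7, 2, 6, 3, 10] ![0, 1, 7, 9, 5, 3, 8, 6, 2, 4, 10] (by decide) (by decide)

theorem certS_3_8 (G : Subgroup (Perm (Fin 11))) (hc : d11c ∈ G) (hd : d11d ∈ G)
    (hJ : NoSmallCycle G) (hy : pS_3_8 ∈ G) : False :=
  no_cycle G hJ ((pS_3_8 * d11c * d11c) ^ 3) (G.pow_mem (G.mul_mem (G.mul_mem hy hc) hc) 3)
    [0, 1, 9, 10, 2, 8, 5] (by decide) (by decide) (by decide) (by decide)

def pS_3_10 : Perm (Fin 11) :=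
  mkP ![0, 1, 10, 5, 9, 4, 6, 8, 2, 3, 7] ![0, 1, 8, 9, 5, 3, 6, 10, 7, 4, 2] (by decide) (by decide)

theorem certS_3_10 (G : Subgroup (Perm (Fin 11))) (hc : d11c ∈ G) (hd : d11d ∈ G)
    (hJ : NoSmallCycle G) (hy : pS_3_10 ∈ G) : False :=
  no_cycle G hJ ((pS_3_10 * d11c) ^ 3) (G.pow_mem (G.mul_mem hy hc) 3)
    [2, 8, 7, 6, 9, 5, 3] (by decide) (by decide) (by decide) (by decide)

def pS_4_2 : Perm (Fin 11) :=
  mkP ![0, 1, 2, 4, 3, 9, 8, 10, 6, 5, 7] ![0, 1, 2, 4, 3, 9, 8, 10, 6, 5, 7] (by decide) (by decide)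

theorem certS_4_2 (G : Subgroup (Perm (Fin 11))) (hc : d11c ∈ G) (hd : d11d ∈ G)
    (hJ : NoSmallCycle G) (hy : pS_4_2 ∈ G) : False :=
  no_cycle G hJ ((pS_4_2 * d11c * pS_4_2 * d11c * d11c * d11d) ^ 3) (G.pow_mem (G.mul_mem (G.mul_mem (G.mul_mem (G.mul_mem (G.mul_mem hy hc) hy) hc) hc) hd) 3)
    [1, 10, 3, 2, 8, 7, 6] (by decide) (by decide) (by decide) (by decide)

def pS_4_6 : Perm (Fin 11) :=
  mkP ![0, 1, 6, 4, 3, 9, 2, 8, 7, 5, 10] ![0, 1, 6, 4, 3, 9, 2, 8, 7, 5, 10] (by decide) (by decide)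

theorem certS_4_6 (G : Subgroup (Perm (Fin 11))) (hc : d11c ∈ G) (hd : d11d ∈ G)
    (hJ : NoSmallCycle G) (hy : pS_4_6 ∈ G) : False :=
  no_cycle G hJ ((pS_4_6 * d11c * d11c * d11c) ^ 4) (G.pow_mem (G.mul_mem (G.mul_mem (G.mul_mem hy hc) hc) hc) 4)
    [0, 4, 8] (by decide) (by decide) (by decide) (by decide)

def pS_4_7 : Perm (Fin 11) :=
  mkP ![0, 1, 7, 4, 3, 9, 6, 2, 10, 5, 8] ![0, 1, 7, 4, 3, 9, 6, 2, 10, 5, 8] (by decide) (by decide)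

theorem certS_4_7 (G : Subgroup (Perm (Fin 11))) (hc : d11c ∈ G) (hd : d11d ∈ G)
    (hJ : NoSmallCycle G) (hy : pS_4_7 ∈ G) : False :=
  no_cycle G hJ ((pS_4_7 * d11c * pS_4_7 * d11c * d11c) ^ 4) (G.pow_mem (G.mul_mem (G.mul_mem (G.mul_mem (G.mul_mem hy hc) hy) hc) hc) 4)
    [2, 4, 5, 8, 3] (by decide) (by decide) (by decide) (by decide)

def pZ_1_1 : Perm (Fin 11) :=
  mkP ![0, 2, 1, 6, 8, 10, 3, 9, 4, 7, 5] ![0, 2, 1, 6, 8, 10, 3, 9, 4, 7, 5] (by decide) (by decide)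

theorem certZ_1_1 (G : Subgroup (Perm (Fin 11))) (hc : d11c ∈ G) (hd : d11d ∈ G)
    (hJ : NoSmallCycle G) (hy : pZ_1_1 ∈ G) : False :=
  no_cycle G hJ ((pZ_1_1 * d11c * d11d) ^ 4) (G.pow_mem (G.mul_mem (G.mul_mem hy hc) hd) 4)
    [0, 5, 2, 10, 9, 7, 3] (by decide) (by decide) (by decide) (by decide)

def pZ_1_3 : Perm (Fin 11) :=
  mkP ![0, 2, 3, 6, 8, 10, 9, 5, 1, 7, 4] ![0, 8, 1, 2, 10, 7, 3, 9, 4, 6, 5] (by decide) (by decide)

theorem certZ_1_3 (G : Subgroup (Perm (Fin 11))) (hc : d11c ∈ G) (hd : d11d ∈ G)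
    (hJ : NoSmallCycle G) (hy : pZ_1_3 ∈ G) : False :=
  no_cycle G hJ ((pZ_1_3 * d11c) ^ 4) (G.pow_mem (G.mul_mem hy hc) 4)
    [0, 9, 2, 4, 6, 10, 5] (by decide) (by decide) (by decide) (by decide)

def pZ_1_5 : Perm (Fin 11) :=
  mkP ![0, 2, 5, 6, 8, 10, 4, 1, 9, 7, 3] ![0, 7, 1, 10, 6, 2, 3, 9, 4, 8, 5] (by decide) (by decide)

theorem certZ_1_5 (G : Subgroup (Perm (Fin 11))) (hc : d11c ∈ G) (hd : d11d ∈ G)
    (hJ : NoSmallCycle G) (hy : pZ_1_5 ∈ G) : False :=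
  no_cycle G hJ ((pZ_1_5 * d11c) ^ 4) (G.pow_mem (G.mul_mem hy hc) 4)
    [0, 5, 2, 4, 6, 10, 1] (by decide) (by decide) (by decide) (by decide)

def pZ_1_9 : Perm (Fin 11) :=
  mkP ![0, 2, 9, 6, 8, 10, 5, 4, 3, 7, 1] ![0, 10, 1, 8, 7, 6, 3, 9, 4, 2, 5] (by decide) (by decide)

theorem certZ_1_9 (G : Subgroup (Perm (Fin 11))) (hc : d11c ∈ G) (hd : d11d ∈ G)
    (hJ : NoSmallCycle G) (hy : pZ_1_9 ∈ G) : False :=
  no_cycle G hJ ((pZ_1_9 * d11c) ^ 6) (G.pow_mem (G.mul_mem hy hc) 6)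
    [0, 2, 6, 4, 10] (by decide) (by decide) (by decide) (by decide)

def pZ_2_1 : Perm (Fin 11) :=
  mkP ![0, 2, 1, 7, 10, 6, 9, 4, 5, 8, 3] ![0, 2, 1, 10, 7, 8, 5, 3, 9, 6, 4] (by decide) (by decide)

theorem certZ_2_1 (G : Subgroup (Perm (Fin 11))) (hc : d11c ∈ G) (hd : d11d ∈ G)
    (hJ : NoSmallCycle G) (hy : pZ_2_1 ∈ G) : False :=
  no_cycle G hJ ((pZ_2_1 * d11c) ^ 2) (G.pow_mem (G.mul_mem hy hc) 2)
    [0, 7, 9, 10, 2, 5, 3] (by decide) (by decide) (by decide) (by decide)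

def pZ_2_3 : Perm (Fin 11) :=
  mkP ![0, 2, 3, 7, 10, 6, 5, 1, 4, 8, 9] ![0, 7, 1, 2, 8, 6, 5, 3, 9, 10, 4] (by decide) (by decide)

theorem certZ_2_3 (G : Subgroup (Perm (Fin 11))) (hc : d11c ∈ G) (hd : d11d ∈ G)
    (hJ : NoSmallCycle G) (hy : pZ_2_3 ∈ G) : False :=
  no_cycle G hJ ((pZ_2_3 * d11c * d11c) ^ 9) (G.pow_mem (G.mul_mem (G.mul_mem hy hc) hc) 9)
    [2, 10] (by decide) (by decide) (by decide) (by decide)

def pZ_2_4 : Perm (Fin 11) :=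
  mkP ![0, 2, 4, 7, 10, 6, 3, 5, 9, 8, 1] ![0, 10, 1, 6, 2, 7, 5, 3, 9, 8, 4] (by decide) (by decide)

theorem certZ_2_4 (G : Subgroup (Perm (Fin 11))) (hc : d11c ∈ G) (hd : d11d ∈ G)
    (hJ : NoSmallCycle G) (hy : pZ_2_4 ∈ G) : False :=
  no_cycle G hJ ((pZ_2_4 * d11c * d11c) ^ 6) (G.pow_mem (G.mul_mem (G.mul_mem hy hc) hc) 6)
    [0, 4, 3, 6, 9] (by decide) (by decide) (by decide) (by decide)

def pZ_2_5 : Perm (Fin 11) :=
  mkP ![0, 2, 5, 7, 10, 6, 1, 9, 3, 8, 4] ![0, 6, 1, 8, 10, 2, 5, 3, 9, 7, 4] (by decide) (by decide)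

theorem certZ_2_5 (G : Subgroup (Perm (Fin 11))) (hc : d11c ∈ G) (hd : d11d ∈ G)
    (hJ : NoSmallCycle G) (hy : pZ_2_5 ∈ G) : False :=
  no_cycle G hJ ((pZ_2_5 * d11c) ^ 6) (G.pow_mem (G.mul_mem hy hc) 6)
    [0, 2, 7, 3, 10] (by decide) (by decide) (by decide) (by decide)

def pZ_2_9 : Perm (Fin 11) :=
  mkP ![0, 2, 9, 7, 10, 6, 4, 3, 1, 8, 5] ![0, 8, 1, 7, 6, 10, 5, 3, 9, 2, 4] (by decide) (by decide)

theorem certZ_2_9 (G : Subgroup (Perm (Fin 11))) (hc : d11c ∈ G) (hd : d11d ∈ G)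
    (hJ : NoSmallCycle G) (hy : pZ_2_9 ∈ G) : False :=
  no_cycle G hJ ((pZ_2_9 * d11c * d11d) ^ 9) (G.pow_mem (G.mul_mem (G.mul_mem hy hc) hd) 9)
    [4, 9] (by decide) (by decide) (by decide) (by decide)

def pZ_3_1 : Perm (Fin 11) :=
  mkP ![0, 2, 1, 10, 7, 8, 5, 3, 9, 6, 4] ![0, 2, 1, 7, 10, 6, 9, 4, 5, 8, 3] (by decide) (by decide)

theorem certZ_3_1 (G : Subgroup (Perm (Fin 11))) (hc : d11c ∈ G) (hd : d11d ∈ G)
    (hJ : NoSmallCycle G) (hy : pZ_3_1 ∈ G) : False :=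
  no_cycle G hJ ((pZ_3_1 * d11c * d11c) ^ 4) (G.pow_mem (G.mul_mem (G.mul_mem hy hc) hc) 4)
    [0, 7, 1, 6, 10, 9, 2] (by decide) (by decide) (by decide) (by decide)

def pZ_3_3 : Perm (Fin 11) :=
  mkP ![0, 2, 3, 10, 7, 8, 4, 9, 5, 6, 1] ![0, 10, 1, 2, 6, 8, 9, 4, 5, 7, 3] (by decide) (by decide)

theorem certZ_3_3 (G : Subgroup (Perm (Fin 11))) (hc : d11c ∈ G) (hd : d11d ∈ G)
    (hJ : NoSmallCycle G) (hy : pZ_3_3 ∈ G) : False :=
  no_cycle G hJ ((pZ_3_3 * d11c) ^ 8) (G.pow_mem (G.mul_mem hy hc) 8)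
    [0, 10, 2] (by decide) (by decide) (by decide) (by decide)

def pZ_3_4 : Perm (Fin 11) :=
  mkP ![0, 2, 4, 10, 7, 8, 9, 1, 3, 6, 5] ![0, 7, 1, 8, 2, 10, 9, 4, 5, 6, 3] (by decide) (by decide)

theorem certZ_3_4 (G : Subgroup (Perm (Fin 11))) (hc : d11c ∈ G) (hd : d11d ∈ G)
    (hJ : NoSmallCycle G) (hy : pZ_3_4 ∈ G) : False :=
  no_cycle G hJ ((pZ_3_4 * d11c) ^ 4) (G.pow_mem (G.mul_mem hy hc) 4)
    [0, 2, 10] (by decide) (by decide) (by decide) (by decide)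

def pZ_3_5 : Perm (Fin 11) :=
  mkP ![0, 2, 5, 10, 7, 8, 3, 4, 1, 6, 9] ![0, 8, 1, 6, 7, 2, 9, 4, 5, 10, 3] (by decide) (by decide)

theorem certZ_3_5 (G : Subgroup (Perm (Fin 11))) (hc : d11c ∈ G) (hd : d11d ∈ G)
    (hJ : NoSmallCycle G) (hy : pZ_3_5 ∈ G) : False :=
  no_cycle G hJ ((pZ_3_5 * pZ_3_5 * d11c) ^ 4) (G.pow_mem (G.mul_mem (G.mul_mem hy hy) hc) 4)
    [0, 5, 10] (by decide) (by decide) (by decide) (by decide)

def pZ_3_9 : Perm (Fin 11) :=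
  mkP ![0, 2, 9, 10, 7, 8, 1, 5, 4, 6, 3] ![0, 6, 1, 10, 8, 7, 9, 4, 5, 2, 3] (by decide) (by decide)

theorem certZ_3_9 (G : Subgroup (Perm (Fin 11))) (hc : d11c ∈ G) (hd : d11d ∈ G)
    (hJ : NoSmallCycle G) (hy : pZ_3_9 ∈ G) : False :=
  no_cycle G hJ ((pZ_3_9 * d11c) ^ 8) (G.pow_mem (G.mul_mem hy hc) 8)
    [0, 10, 2] (by decide) (by decide) (by decide) (by decide)

def pZ_4_1 : Perm (Fin 11) :=
  mkP ![0, 2, 1, 8, 6, 7, 4, 5, 3, 10, 9] ![0, 2, 1, 8, 6, 7, 4, 5, 3, 10, 9] (by decide) (by decide)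

theorem certZ_4_1 (G : Subgroup (Perm (Fin 11))) (hc : d11c ∈ G) (hd : d11d ∈ G)
    (hJ : NoSmallCycle G) (hy : pZ_4_1 ∈ G) : False :=
  no_cycle G hJ ((pZ_4_1 * d11c) ^ 4) (G.pow_mem (G.mul_mem hy hc) 4)
    [3, 7, 4, 5, 6] (by decide) (by decide) (by decide) (by decide)

def pZ_4_3 : Perm (Fin 11) :=
  mkP ![0, 2, 3, 8, 6, 7, 1, 4, 9, 10, 5] ![0, 6, 1, 2, 7, 10, 4, 5, 3, 8, 9] (by decide) (by decide)

theorem certZ_4_3 (G : Subgroup (Perm (Fin 11))) (hc : d11c ∈ G) (hd : d11d ∈ G)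
    (hJ : NoSmallCycle G) (hy : pZ_4_3 ∈ G) : False :=
  no_cycle G hJ ((pZ_4_3 * d11c) ^ 4) (G.pow_mem (G.mul_mem hy hc) 4)
    [1, 7, 3, 9, 6, 5, 4] (by decide) (by decide) (by decide) (by decide)

def pZ_4_4 : Perm (Fin 11) :=
  mkP ![0, 2, 4, 8, 6, 7, 5, 9, 1, 10, 3] ![0, 8, 1, 10, 2, 6, 4, 5, 3, 7, 9] (by decide) (by decide)

theorem certZ_4_4 (G : Subgroup (Perm (Fin 11))) (hc : d11c ∈ G) (hd : d11d ∈ G)
    (hJ : NoSmallCycle G) (hy : pZ_4_4 ∈ G) : False :=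
  no_cycle G hJ ((pZ_4_4 * pZ_4_4 * d11d) ^ 1) (G.pow_mem (G.mul_mem (G.mul_mem hy hy) hd) 1)
    [2, 7, 8, 6, 10] (by decide) (by decide) (by decide) (by decide)

def pZ_4_5 : Perm (Fin 11) :=
  mkP ![0, 2, 5, 8, 6, 7, 9, 3, 4, 10, 1] ![0, 10, 1, 7, 8, 2, 4, 5, 3, 6, 9] (by decide) (by decide)

theorem certZ_4_5 (G : Subgroup (Perm (Fin 11))) (hc : d11c ∈ G) (hd : d11d ∈ G)
    (hJ : NoSmallCycle G) (hy : pZ_4_5 ∈ G) : False :=
  no_cycle G hJ ((pZ_4_5 * d11c) ^ 4) (G.pow_mem (G.mul_mem hy hc) 4)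
    [1, 5, 9] (by decide) (by decide) (by decide) (by decide)

def pZ_4_9 : Perm (Fin 11) :=
  mkP ![0, 2, 9, 8, 6, 7, 3, 1, 5, 10, 4] ![0, 7, 1, 6, 10, 8, 4, 5, 3, 2, 9] (by decide) (by decide)

theorem certZ_4_9 (G : Subgroup (Perm (Fin 11))) (hc : d11c ∈ G) (hd : d11d ∈ G)
    (hJ : NoSmallCycle G) (hy : pZ_4_9 ∈ G) : False :=
  no_cycle G hJ ((pZ_4_9 * d11c) ^ 4) (G.pow_mem (G.mul_mem hy hc) 4)
    [1, 5, 9, 3, 4, 6, 7] (by decide) (by decide) (by decide) (by decide)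

theorem tableS_aux (G : Subgroup (Perm (Fin 11))) (hc : d11c ∈ G) (hd : d11d ∈ G)
    (hJ : NoSmallCycle G) (y : Perm (Fin 11)) (hy : y ∈ G) (k : ℕ)
    (hk : y * d11d = d11d ^ k * y) (h1 : y 1 = 1) :
    y = 1 ∨ y = d11g26 ∨ y = d11g2a ∨ y = d11g36 ∨ y = d11g37 ∨ y = d11g48 ∨ y = d11g4a := by
  obtain ⟨j, hj, hk', h0⟩ := norm_red y k hk
  generalize hb : y 2 = b
  rcases hj with rfl | rfl | rfl | rfl
  · fin_cases b
    · exact absurd (norm_inj y (d11d ^ 1) hk' h0 1 0 h1 hb) (by decide)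
    · exact absurd (norm_inj y (d11d ^ 1) hk' h0 1 1 h1 hb) (by decide)
    · exact Or.inl (norm_eq y (d11d ^ 1) 1 hk' h0 1 2 h1 hb (by decide))
    · exact absurd (norm_inj y (d11d ^ 1) hk' h0 1 3 h1 hb) (by decide)
    · exact absurd (norm_inj y (d11d ^ 1) hk' h0 1 4 h1 hb) (by decide)
    · exact absurd (norm_inj y (d11d ^ 1) hk' h0 1 5 h1 hb) (by decide)
    · exact (certS_1_6 G hc hd hJ (norm_eq y (d11d ^ 1) pS_1_6 hk' h0 1 6 h1 hb (by decide) ▸ hy)).elim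
    · exact (certS_1_7 G hc hd hJ (norm_eq y (d11d ^ 1) pS_1_7 hk' h0 1 7 h1 hb (by decide) ▸ hy)).elim
    · exact (certS_1_8 G hc hd hJ (norm_eq y (d11d ^ 1) pS_1_8 hk' h0 1 8 h1 hb (by decide) ▸ hy)).elim
    · exact absurd (norm_inj y (d11d ^ 1) hk' h0 1 9 h1 hb) (by decide)
    · exact (certS_1_10 G hc hd hJ (norm_eq y (d11d ^ 1) pS_1_10 hk' h0 1 10 h1 hb (by decide) ▸ hy)).elim
  · fin_cases b
    · exact absurd (norm_inj y (d11d ^ 2) hk' h0 1 0 h1 hb) (by decide)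
    · exact absurd (norm_inj y (d11d ^ 2) hk' h0 1 1 h1 hb) (by decide)
    · exact (certS_2_2 G hc hd hJ (norm_eq y (d11d ^ 2) pS_2_2 hk' h0 1 2 h1 hb (by decide) ▸ hy)).elim
    · exact absurd (norm_inj y (d11d ^ 2) hk' h0 1 3 h1 hb) (by decide)
    · exact absurd (norm_inj y (d11d ^ 2) hk' h0 1 4 h1 hb) (by decide)
    · exact absurd (norm_inj y (d11d ^ 2) hk' h0 1 5 h1 hb) (by decide)
    · exact Or.inr (Or.inl (norm_eq y (d11d ^ 2) d11g26 hk' h0 1 6 h1 hb (by decide)))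
    · exact (certS_2_7 G hc hd hJ (norm_eq y (d11d ^ 2) pS_2_7 hk' h0 1 7 h1 hb (by decide) ▸ hy)).elim
    · exact (certS_2_8 G hc hd hJ (norm_eq y (d11d ^ 2) pS_2_8 hk' h0 1 8 h1 hb (by decide) ▸ hy)).elim
    · exact absurd (norm_inj y (d11d ^ 2) hk' h0 1 9 h1 hb) (by decide)
    · exact Or.inr (Or.inr (Or.inl (norm_eq y (d11d ^ 2) d11g2a hk' h0 1 10 h1 hb (by decide))))
  · fin_cases b
    · exact absurd (norm_inj y (d11d ^ 3) hk' h0 1 0 h1 hb) (by decide)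
    · exact absurd (norm_inj y (d11d ^ 3) hk' h0 1 1 h1 hb) (by decide)
    · exact (certS_3_2 G hc hd hJ (norm_eq y (d11d ^ 3) pS_3_2 hk' h0 1 2 h1 hb (by decide) ▸ hy)).elim
    · exact absurd (norm_inj y (d11d ^ 3) hk' h0 1 3 h1 hb) (by decide)
    · exact absurd (norm_inj y (d11d ^ 3) hk' h0 1 4 h1 hb) (by decide)
    · exact absurd (norm_inj y (d11d ^ 3) hk' h0 1 5 h1 hb) (by decide)
    · exact Or.inr (Or.inr (Or.inr (Or.inl (norm_eq y (d11d ^ 3) d11g36 hk' h0 1 6 h1 hb (by decide)))))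
    · exact Or.inr (Or.inr (Or.inr (Or.inr (Or.inl (norm_eq y (d11d ^ 3) d11g37 hk' h0 1 7 h1 hb (by decide))))))
    · exact (certS_3_8 G hc hd hJ (norm_eq y (d11d ^ 3) pS_3_8 hk' h0 1 8 h1 hb (by decide) ▸ hy)).elim
    · exact absurd (norm_inj y (d11d ^ 3) hk' h0 1 9 h1 hb) (by decide)
    · exact (certS_3_10 G hc hd hJ (norm_eq y (d11d ^ 3) pS_3_10 hk' h0 1 10 h1 hb (by decide) ▸ hy)).elim
  · fin_cases b
    · exact absurd (norm_inj y (d11d ^ 4) hk' h0 1 0 h1 hb) (by decide)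
    · exact absurd (norm_inj y (d11d ^ 4) hk' h0 1 1 h1 hb) (by decide)
    · exact (certS_4_2 G hc hd hJ (norm_eq y (d11d ^ 4) pS_4_2 hk' h0 1 2 h1 hb (by decide) ▸ hy)).elim
    · exact absurd (norm_inj y (d11d ^ 4) hk' h0 1 3 h1 hb) (by decide)
    · exact absurd (norm_inj y (d11d ^ 4) hk' h0 1 4 h1 hb) (by decide)
    · exact absurd (norm_inj y (d11d ^ 4) hk' h0 1 5 h1 hb) (by decide)
    · exact (certS_4_6 G hc hd hJ (norm_eq y (d11d ^ 4) pS_4_6 hk' h0 1 6 h1 hb (by decide) ▸ hy)).elim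
    · exact (certS_4_7 G hc hd hJ (norm_eq y (d11d ^ 4) pS_4_7 hk' h0 1 7 h1 hb (by decide) ▸ hy)).elim
    · exact Or.inr (Or.inr (Or.inr (Or.inr (Or.inr (Or.inl (norm_eq y (d11d ^ 4) d11g48 hk' h0 1 8 h1 hb (by decide)))))))
    · exact absurd (norm_inj y (d11d ^ 4) hk' h0 1 9 h1 hb) (by decide)
    · exact Or.inr (Or.inr (Or.inr (Or.inr (Or.inr (Or.inr (norm_eq y (d11d ^ 4) d11g4a hk' h0 1 10 h1 hb (by decide)))))))

theorem tableZ_aux (G : Subgroup (Perm (Fin 11))) (hc : d11c ∈ G) (hd : d11d ∈ G)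
    (hJ : NoSmallCycle G) (y : Perm (Fin 11)) (hy : y ∈ G) (k : ℕ)
    (hk : y * d11d = d11d ^ k * y) (h1 : y 1 = 2) :
    y = d11z := by
  obtain ⟨j, hj, hk', h0⟩ := norm_red y k hk
  generalize hb : y 2 = b
  rcases hj with rfl | rfl | rfl | rfl
  · fin_cases b
    · exact absurd (norm_inj y (d11d ^ 1) hk' h0 2 0 h1 hb) (by decide)
    · exact (certZ_1_1 G hc hd hJ (norm_eq y (d11d ^ 1) pZ_1_1 hk' h0 2 1 h1 hb (by decide) ▸ hy)).elim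
    · exact absurd (norm_inj y (d11d ^ 1) hk' h0 2 2 h1 hb) (by decide)
    · exact (certZ_1_3 G hc hd hJ (norm_eq y (d11d ^ 1) pZ_1_3 hk' h0 2 3 h1 hb (by decide) ▸ hy)).elim
    · exact norm_eq y (d11d ^ 1) d11z hk' h0 2 4 h1 hb (by decide)
    · exact (certZ_1_5 G hc hd hJ (norm_eq y (d11d ^ 1) pZ_1_5 hk' h0 2 5 h1 hb (by decide) ▸ hy)).elim
    · exact absurd (norm_inj y (d11d ^ 1) hk' h0 2 6 h1 hb) (by decide)
    · exact absurd (norm_inj y (d11d ^ 1) hk' h0 2 7 h1 hb) (by decide)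
    · exact absurd (norm_inj y (d11d ^ 1) hk' h0 2 8 h1 hb) (by decide)
    · exact (certZ_1_9 G hc hd hJ (norm_eq y (d11d ^ 1) pZ_1_9 hk' h0 2 9 h1 hb (by decide) ▸ hy)).elim
    · exact absurd (norm_inj y (d11d ^ 1) hk' h0 2 10 h1 hb) (by decide)
  · fin_cases b
    · exact absurd (norm_inj y (d11d ^ 2) hk' h0 2 0 h1 hb) (by decide)
    · exact (certZ_2_1 G hc hd hJ (norm_eq y (d11d ^ 2) pZ_2_1 hk' h0 2 1 h1 hb (by decide) ▸ hy)).elim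
    · exact absurd (norm_inj y (d11d ^ 2) hk' h0 2 2 h1 hb) (by decide)
    · exact (certZ_2_3 G hc hd hJ (norm_eq y (d11d ^ 2) pZ_2_3 hk' h0 2 3 h1 hb (by decide) ▸ hy)).elim
    · exact (certZ_2_4 G hc hd hJ (norm_eq y (d11d ^ 2) pZ_2_4 hk' h0 2 4 h1 hb (by decide) ▸ hy)).elim
    · exact (certZ_2_5 G hc hd hJ (norm_eq y (d11d ^ 2) pZ_2_5 hk' h0 2 5 h1 hb (by decide) ▸ hy)).elim
    · exact absurd (norm_inj y (d11d ^ 2) hk' h0 2 6 h1 hb) (by decide)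
    · exact absurd (norm_inj y (d11d ^ 2) hk' h0 2 7 h1 hb) (by decide)
    · exact absurd (norm_inj y (d11d ^ 2) hk' h0 2 8 h1 hb) (by decide)
    · exact (certZ_2_9 G hc hd hJ (norm_eq y (d11d ^ 2) pZ_2_9 hk' h0 2 9 h1 hb (by decide) ▸ hy)).elim
    · exact absurd (norm_inj y (d11d ^ 2) hk' h0 2 10 h1 hb) (by decide)
  · fin_cases b
    · exact absurd (norm_inj y (d11d ^ 3) hk' h0 2 0 h1 hb) (by decide)
    · exact (certZ_3_1 G hc hd hJ (norm_eq y (d11d ^ 3) pZ_3_1 hk' h0 2 1 h1 hb (by decide) ▸ hy)).elim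
    · exact absurd (norm_inj y (d11d ^ 3) hk' h0 2 2 h1 hb) (by decide)
    · exact (certZ_3_3 G hc hd hJ (norm_eq y (d11d ^ 3) pZ_3_3 hk' h0 2 3 h1 hb (by decide) ▸ hy)).elim
    · exact (certZ_3_4 G hc hd hJ (norm_eq y (d11d ^ 3) pZ_3_4 hk' h0 2 4 h1 hb (by decide) ▸ hy)).elim
    · exact (certZ_3_5 G hc hd hJ (norm_eq y (d11d ^ 3) pZ_3_5 hk' h0 2 5 h1 hb (by decide) ▸ hy)).elim
    · exact absurd (norm_inj y (d11d ^ 3) hk' h0 2 6 h1 hb) (by decide)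
    · exact absurd (norm_inj y (d11d ^ 3) hk' h0 2 7 h1 hb) (by decide)
    · exact absurd (norm_inj y (d11d ^ 3) hk' h0 2 8 h1 hb) (by decide)
    · exact (certZ_3_9 G hc hd hJ (norm_eq y (d11d ^ 3) pZ_3_9 hk' h0 2 9 h1 hb (by decide) ▸ hy)).elim
    · exact absurd (norm_inj y (d11d ^ 3) hk' h0 2 10 h1 hb) (by decide)
  · fin_cases b
    · exact absurd (norm_inj y (d11d ^ 4) hk' h0 2 0 h1 hb) (by decide)
    · exact (certZ_4_1 G hc hd hJ (norm_eq y (d11d ^ 4) pZ_4_1 hk' h0 2 1 h1 hb (by decide) ▸ hy)).elim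
    · exact absurd (norm_inj y (d11d ^ 4) hk' h0 2 2 h1 hb) (by decide)
    · exact (certZ_4_3 G hc hd hJ (norm_eq y (d11d ^ 4) pZ_4_3 hk' h0 2 3 h1 hb (by decide) ▸ hy)).elim
    · exact (certZ_4_4 G hc hd hJ (norm_eq y (d11d ^ 4) pZ_4_4 hk' h0 2 4 h1 hb (by decide) ▸ hy)).elim
    · exact (certZ_4_5 G hc hd hJ (norm_eq y (d11d ^ 4) pZ_4_5 hk' h0 2 5 h1 hb (by decide) ▸ hy)).elim
    · exact absurd (norm_inj y (d11d ^ 4) hk' h0 2 6 h1 hb) (by decide)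
    · exact absurd (norm_inj y (d11d ^ 4) hk' h0 2 7 h1 hb) (by decide)
    · exact absurd (norm_inj y (d11d ^ 4) hk' h0 2 8 h1 hb) (by decide)
    · exact (certZ_4_9 G hc hd hJ (norm_eq y (d11d ^ 4) pZ_4_9 hk' h0 2 9 h1 hb (by decide) ▸ hy)).elim
    · exact absurd (norm_inj y (d11d ^ 4) hk' h0 2 10 h1 hb) (by decide)

end Cfsg.Agent.Lib.Helper4.Deg11T

namespace Cfsg.Agent.Lib.Deg11

open Equiv

/-- TABLE S: a normalizing element of `G` fixing `1` is one of seven -/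
theorem d11_table_S (G : Subgroup (Perm (Fin 11))) (hc : d11c ∈ G) (hd : d11d ∈ G)
    (hJ : NoSmallCycle G) (y : Perm (Fin 11)) (hy : y ∈ G) (k : ℕ)
    (hk : y * d11d = d11d ^ k * y) (h1 : y 1 = 1) :
    y = 1 ∨ y = d11g26 ∨ y = d11g2a ∨ y = d11g36 ∨ y = d11g37 ∨ y = d11g48 ∨ y = d11g4a :=
  Cfsg.Agent.Lib.Helper4.Deg11T.tableS_aux G hc hd hJ y hy k hk h1

/-- TABLE Z: a normalizing element of `G` mapping `1` to `2` is `x ↦ 2 * x` -/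
theorem d11_table_Z (G : Subgroup (Perm (Fin 11))) (hc : d11c ∈ G) (hd : d11d ∈ G)
    (hJ : NoSmallCycle G) (y : Perm (Fin 11)) (hy : y ∈ G) (k : ℕ)
    (hk : y * d11d = d11d ^ k * y) (h1 : y 1 = 2) : y = d11z :=
  Cfsg.Agent.Lib.Helper4.Deg11T.tableZ_aux G hc hd hJ y hy k hk h1

end Cfsg.Agent.Lib.Deg11
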