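import Mathlib
import Cfsg.Agent.Lib.Helper4.Deg11_Defs
import Cfsg.Agent.Lib.Helper4.Deg11_Tables
import Cfsg.Agent.Lib.Helper4.Deg11_M11
import Cfsg.Agent.Lib.Helper4.Deg11_PSL
import Cfsg.Agent.Lib.Helper2.Deg11_P1
import Cfsg.Agent.Lib.Helper3.Deg11_P4
import Cfsg.Agent.Lib.Helper3.Deg11_P7
import Cfsg.Agent.Lib.Helper5.Deg11_P2
import Cfsg.Agent.Lib.Helper8.Deg11_P5

set_option autoImplicit false

/-!
# Degree eleven: assembly on `Fin 11` (S0679 swarm, package P9)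

A non-solvable subgroup of `Perm (Fin 11)` containing `x ↦ x + 1` and not containing the
alternating group is sharply 4-transitive or isomorphic to `PSL(2, 11)`.
-/

namespace Cfsg.Agent.Lib.Deg11

open Equiv MulAction

/-- Burnside's transfer argument at the prime 5 -/
theorem d11_burnside (G : Subgroup (Perm (Fin 11))) (hc : d11c ∈ G) (hsol : ¬ Group.IsSolvable G)
    (hA : ¬ alternatingGroup (Fin 11) ≤ G) (Q : Sylow 5 G) :
    ¬ (Subgroup.normalizer ((Q : Subgroup G) : Set G) ≤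
        Subgroup.centralizer ((Q : Subgroup G) : Set G)) :=
  Cfsg.Agent.Lib.Helper3.Deg11P4.burnside_of_frame
    (fun G hc hs hA => (d11_frame G hc hs hA).2.1) G hc hsol hA Q

/-- the theorem on `Fin 11` -/
theorem d11_fin (G : Subgroup (Perm (Fin 11))) (hc : d11c ∈ G) (hsol : ¬ Group.IsSolvable G)
    (hA : ¬ alternatingGroup (Fin 11) ≤ G) :
    (IsMultiplyPretransitive G (Fin 11) 4 ∧ ∀ x : Fin 4 ↪ Fin 11, stabilizer G x = ⊥) ∨
      Nonempty (G ≃* Matrix.ProjectiveSpecialLinearGroup (Fin 2) (ZMod 11)) := by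
  obtain ⟨hJ, hd, hfr⟩ := d11_frame G hc hsol hA
  obtain ⟨hdvd, h2, h3, h5, h7⟩ := d11_orders G hJ
  obtain ⟨hz, n5, s, hn5, hn5', hs2, hs7, hs3, hs4⟩ :=
    d11_local5 G hc hd hJ h5 (d11_burnside G hc hsol hA)
  obtain ⟨hsimp, hn11⟩ := hfr.resolve_left hz
  have : Fact (Nat.Prime 11) := ⟨by norm_num⟩
  have hn11' : Nat.card (Sylow 11 G) % 11 = 1 := card_sylow_modEq_one 11 G
  rcases d11_arith _ _ n5 s hdvd h2 h3 h5 h7 hn11 hn11' hn5 hn5' hs2 hs7 hs3 with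
    ⟨h660, -⟩ | ⟨h7920, hs⟩
  · exact Or.inr (d11_psl hsimp hn11 h660)
  · exact Or.inl (d11_m11 G hc hd (hs4 (by omega)) h7920)

end Cfsg.Agent.Lib.Deg11
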