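import Mathlib
import Cfsg.Agent.Lib.Helper4.FusionLift1
import Cfsg.Agent.Lib.Helper4.SmallFusion

set_option autoImplicit false

/-! Projection of an internal direct product `T × U` onto `U`. -/

namespace Cfsg.Agent.Lib.Helper4

variable {G : Type*} [Group G]

theorem exists_proj_hom (T U : Subgroup G) (hcomm : ∀ t ∈ T, ∀ u ∈ U, t * u = u * t)
    (hdisj : T ⊓ U = ⊥) :
    ∃ π : ↥(T ⊔ U) →* ↥U, ∀ v : ↥(T ⊔ U), ∃ t ∈ T, (v : G) = t * (π v : G) := by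
  have hUT : U ≤ Subgroup.normalizer (T : Set G) := by
    apply le_normalizer_of_conj_mem
    intro u hu t ht
    have : u * t * u⁻¹ = t := by rw [← hcomm t ht u hu]; group
    rw [this]; exact ht
  have hdec : ∀ v : ↥(T ⊔ U), ∃ u : ↥U, ∃ t ∈ T, (v : G) = t * (u : G) := by
    intro v
    obtain ⟨t, ht, u, hu, hv⟩ := exists_mul_of_mem_sup_normalizer hUT v.2
    exact ⟨⟨u, hu⟩, t, ht, hv⟩
  choose π hπ using hdec
  have huniq : ∀ (t t' : G) (u u' : ↥U), t ∈ T → t' ∈ T → t * (u : G) = t' * (u' : G) → u = u' := by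
    intro t t' u u' ht ht' h
    have h1 : t'⁻¹ * t = (u' : G) * (u : G)⁻¹ := by
      calc t'⁻¹ * t = t'⁻¹ * (t * (u : G)) * (u : G)⁻¹ := by group
        _ = t'⁻¹ * (t' * (u' : G)) * (u : G)⁻¹ := by rw [h]
        _ = (u' : G) * (u : G)⁻¹ := by group
    have h2 : (u' : G) * (u : G)⁻¹ ∈ T ⊓ U :=
      Subgroup.mem_inf.mpr ⟨by rw [← h1]; exact T.mul_mem (T.inv_mem ht') ht,
        U.mul_mem u'.2 (U.inv_mem u.2)⟩
    rw [hdisj, Subgroup.mem_bot] at h2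
    apply Subtype.ext
    have : (u : G) = ((u' : G) * (u : G)⁻¹)⁻¹ * (u' : G) := by group
    rw [this, h2]; group
  refine ⟨{ toFun := π, map_one' := ?_, map_mul' := ?_ }, hπ⟩
  · obtain ⟨t, ht, h⟩ := hπ 1
    apply huniq t 1 (π 1) 1 ht T.one_mem
    rw [← h]; simp
  · intro v w
    obtain ⟨t, ht, h⟩ := hπ (v * w)
    obtain ⟨t₁, ht₁, h₁⟩ := hπ v
    obtain ⟨t₂, ht₂, h₂⟩ := hπ w
    apply huniq t (t₁ * t₂) (π (v * w)) (π v * π w) ht (T.mul_mem ht₁ ht₂)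
    rw [← h, Subgroup.coe_mul, h₁, h₂, Subgroup.coe_mul]
    have := hcomm t₂ ht₂ (π v : G) (π v).2
    calc t₁ * (π v : G) * (t₂ * (π w : G)) = t₁ * ((π v : G) * t₂) * (π w : G) := by group
      _ = t₁ * (t₂ * (π v : G)) * (π w : G) := by rw [this]
      _ = t₁ * t₂ * ((π v : G) * (π w : G)) := by group

end Cfsg.Agent.Lib.Helper4
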