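import Mathlib
import Cfsg.Prelude.Def_Transfer
import Cfsg.Agent.Lib.Lead.CoprimeTools

set_option autoImplicit false

/-! Fixed points of elementary abelian 2-groups on elementary abelian 2-groups. -/

namespace Cfsg.Agent.Lib.Helper4.EConn

open Cfsg

variable {X : Type*} [Group X]

/-- `F` is abelian of exponent 2 -/
def EA (F : Subgroup X) : Prop := (∀ x ∈ F, ∀ y ∈ F, x * y = y * x) ∧ ∀ x ∈ F, x * x = 1

theorem ea_iff (F : Subgroup X) : Cfsg.IsElementaryAbelian 2 F ↔ EA F := by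
  constructor
  · rintro ⟨h1, h2⟩
    refine ⟨?_, ?_⟩
    · intro x hx y hy
      have := h1.is_comm.comm (⟨x, hx⟩ : F) ⟨y, hy⟩
      exact congrArg Subtype.val this
    · intro x hx
      rw [← pow_two]; exact h2 x hx
  · rintro ⟨h1, h2⟩
    refine ⟨⟨⟨fun a b => Subtype.ext (h1 a a.2 b b.2)⟩⟩, ?_⟩
    intro x hx
    rw [pow_two]; exact h2 x hx

theorem EA.mono {F K : Subgroup X} (h : EA F) (hK : K ≤ F) : EA K :=
  ⟨fun x hx y hy => h.1 x (hK hx) y (hK hy), fun x hx => h.2 x (hK hx)⟩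

theorem EA.inv_eq {F : Subgroup X} (h : EA F) {x : X} (hx : x ∈ F) : x⁻¹ = x :=
  inv_eq_of_mul_eq_one_right (h.2 x hx)

/-- the join of two commuting elementary abelian subgroups -/
theorem EA.sup {F K : Subgroup X} (hF : EA F) (hK : EA K)
    (hFK : ∀ x ∈ F, ∀ y ∈ K, x * y = y * x) : EA (F ⊔ K) := by
  have hKn : F ≤ Subgroup.normalizer (K : Set X) := by
    intro x hx
    rw [Subgroup.mem_normalizer_iff]
    intro y
    have : ∀ y ∈ K, x * y * x⁻¹ = y := by
      intro y hy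
      rw [hFK x hx y hy]; group
    constructor
    · intro hy; rw [this y hy]; exact hy
    · intro hy
      have h2 : x⁻¹ * (x * y * x⁻¹) * x = y := by group
      have h3 := this _ hy
      have h4 : x⁻¹ * (x * y * x⁻¹) * x = x * y * x⁻¹ := by
        calc x⁻¹ * (x * y * x⁻¹) * x = x⁻¹ * (x * (x * y * x⁻¹) * x⁻¹) * x := by rw [h3]
          _ = x * y * x⁻¹ := by group
      rw [← h2, h4]; exact hy
  have hdec : ∀ z ∈ F ⊔ K, ∃ x ∈ F, ∃ y ∈ K, z = x * y := by
    intro z hz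
    have : z ∈ ((F ⊔ K : Subgroup X) : Set X) := hz
    rw [Subgroup.coe_mul_of_left_le_normalizer_right F K hKn] at this
    obtain ⟨x, hx, y, hy, rfl⟩ := this
    exact ⟨x, hx, y, hy, rfl⟩
  refine ⟨?_, ?_⟩
  · intro z hz w hw
    obtain ⟨x, hx, y, hy, rfl⟩ := hdec z hz
    obtain ⟨x', hx', y', hy', rfl⟩ := hdec w hw
    calc x * y * (x' * y') = x * (y * x') * y' := by group
      _ = x * (x' * y) * y' := by rw [hFK x' hx' y hy]
      _ = (x * x') * (y * y') := by group
      _ = (x' * x) * (y' * y) := by rw [hF.1 x hx x' hx', hK.1 y hy y' hy']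
      _ = x' * (x * y') * y := by group
      _ = x' * (y' * x) * y := by rw [hFK x hx y' hy']
      _ = x' * y' * (x * y) := by group
  · intro z hz
    obtain ⟨x, hx, y, hy, rfl⟩ := hdec z hz
    calc x * y * (x * y) = x * (y * x) * y := by group
      _ = x * (x * y) * y := by rw [hFK x hx y hy]
      _ = (x * x) * (y * y) := by group
      _ = 1 := by rw [hF.2 x hx, hK.2 y hy, one_mul]

theorem ea_zpowers {e : X} (he : e * e = 1) : EA (Subgroup.zpowers e) := by
  refine ⟨?_, ?_⟩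
  · rintro _ ⟨i, rfl⟩ _ ⟨j, rfl⟩
    exact (Commute.zpow_zpow_self e i j).eq
  · rintro _ ⟨i, rfl⟩
    show e ^ i * e ^ i = 1
    rw [← zpow_add, ← two_mul, zpow_mul]
    have : e ^ (2 : ℤ) = 1 := by rw [zpow_two]; exact he
    rw [this, one_zpow]

theorem mem_zpowers_involution {e x : X} (he : e * e = 1) (hx : x ∈ Subgroup.zpowers e) :
    x = 1 ∨ x = e := by
  obtain ⟨i, rfl⟩ := hx
  rcases Int.even_or_odd i with ⟨k, hk⟩ | ⟨k, hk⟩
  · left
    show e ^ i = 1
    rw [hk, ← two_mul, zpow_mul, zpow_two, he, one_zpow]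
  · right
    show e ^ i = e
    rw [hk, zpow_add, zpow_mul, zpow_two, he, one_zpow, one_mul, zpow_one]

end Cfsg.Agent.Lib.Helper4.EConn
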