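import Mathlib
import Cfsg.Agent.Lib.Helper4.EConn1

set_option autoImplicit false

/-! Fixed points of elementary abelian 2-groups on elementary abelian 2-groups: counting. -/

namespace Cfsg.Agent.Lib.Helper4.EConn

open Cfsg Cfsg.Agent.Lib.Lead

variable {X : Type*} [Group X]

/-- an involution fixes at least `√|F|` points of an invariant elementary abelian 2-group `F` -/
theorem card_le_sq_fixed [Finite X] {F : Subgroup X} (hF : EA F) {a : X} (ha : a * a = 1)
    (haF : ∀ x ∈ F, a * x * a⁻¹ ∈ F) :
    Nat.card F ≤ Nat.card ↥(F ⊓ Subgroup.centralizer ({a} : Set X)) ^ 2 := by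
  have hainv : a⁻¹ = a := inv_eq_of_mul_eq_one_right ha
  let φ : ↥F →* ↥F :=
    { toFun := fun x => ⟨x * (a * x * a⁻¹), F.mul_mem x.2 (haF x x.2)⟩
      map_one' := by
        apply Subtype.ext
        simp
      map_mul' := by
        intro x y
        apply Subtype.ext
        show (x : X) * y * (a * ((x : X) * y) * a⁻¹) = x * (a * x * a⁻¹) * (y * (a * y * a⁻¹))
        have h1 := hF.1 y y.2 (a * x * a⁻¹) (haF x x.2)
        calc (x : X) * y * (a * ((x : X) * y) * a⁻¹)
            = x * (y * (a * x * a⁻¹)) * (a * y * a⁻¹) := by group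
          _ = x * ((a * x * a⁻¹) * y) * (a * y * a⁻¹) := by rw [h1]
          _ = x * (a * x * a⁻¹) * (y * (a * y * a⁻¹)) := by group }
  set C' := (Subgroup.centralizer ({a} : Set X)).subgroupOf F with hC'
  have hker : φ.ker ≤ C' := by
    intro x hx
    rw [MonoidHom.mem_ker] at hx
    have h1 : (x : X) * (a * x * a⁻¹) = 1 := congrArg Subtype.val hx
    rw [hC', Subgroup.mem_subgroupOf, Subgroup.mem_centralizer_iff]
    intro y hy
    rw [Set.mem_singleton_iff] at hy
    rw [hy]
    have h2 : a * x * a⁻¹ = (x : X)⁻¹ := (eq_inv_of_mul_eq_one_right h1)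
    rw [hF.inv_eq x.2] at h2
    calc a * (x : X) = (a * x * a⁻¹) * a := by group
      _ = x * a := by rw [h2]
  have hrange : φ.range ≤ C' := by
    rintro _ ⟨x, rfl⟩
    rw [hC', Subgroup.mem_subgroupOf, Subgroup.mem_centralizer_iff]
    intro y hy
    rw [Set.mem_singleton_iff] at hy
    rw [hy]
    show a * ((x : X) * (a * x * a⁻¹)) = (x : X) * (a * x * a⁻¹) * a
    have h1 := hF.1 x x.2 (a * x * a⁻¹) (haF x x.2)
    calc a * ((x : X) * (a * x * a⁻¹)) = (a * x * a⁻¹) * ((a * a) * x * a⁻¹) := by group
      _ = (a * x * a⁻¹) * (x * a) := by rw [ha, one_mul, hainv]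
      _ = ((a * x * a⁻¹) * x) * a := by group
      _ = (x * (a * x * a⁻¹)) * a := by rw [h1]
  have h1 : Nat.card φ.ker * Nat.card φ.range = Nat.card F := by
    rw [← Subgroup.index_ker]; exact Subgroup.card_mul_index _
  have h2 : Nat.card C' = Nat.card ↥(F ⊓ Subgroup.centralizer ({a} : Set X)) := by
    rw [hC', card_subgroupOf_eq, inf_comm]
  rw [← h1, ← h2, pow_two]
  exact Nat.mul_le_mul (Subgroup.card_le_of_le hker) (Subgroup.card_le_of_le hrange)

/-- iterated version -/
theorem card_le_pow_fixed [Finite X] (n : ℕ) : ∀ (F A A₀ : Subgroup X), EA F → EA A → A₀ ≤ A →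
    A ≤ Subgroup.normalizer (F : Set X) → A₀ ≤ Subgroup.centralizer (F : Set X) →
    Nat.card A ≤ 2 ^ n * Nat.card A₀ →
    Nat.card F ≤ Nat.card ↥(F ⊓ Subgroup.centralizer (A : Set X)) ^ (2 ^ n) := by
  induction n with
  | zero =>
    intro F A A₀ hF hA hA₀ hAF hA₀F hcard
    rw [pow_zero, one_mul] at hcard
    have h1 : A₀ = A := Subgroup.eq_of_le_of_card_ge hA₀ hcard
    rw [pow_zero, pow_one]
    apply Subgroup.card_le_of_le
    apply le_inf le_rfl
    rw [Subgroup.le_centralizer_iff, ← h1]
    exact hA₀F
  | succ n ih =>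
    intro F A A₀ hF hA hA₀ hAF hA₀F hcard
    by_cases hAA : A ≤ A₀
    · -- `A` centralizes `F`
      have h1 : F ⊓ Subgroup.centralizer (A : Set X) = F := by
        apply le_antisymm inf_le_left
        apply le_inf le_rfl
        rw [Subgroup.le_centralizer_iff]
        exact hAA.trans hA₀F
      rw [h1]
      calc Nat.card F = Nat.card F ^ 1 := (pow_one _).symm
        _ ≤ Nat.card F ^ (2 ^ (n + 1)) :=
          Nat.pow_le_pow_right Nat.card_pos (Nat.one_le_two_pow)
    · obtain ⟨a, haA, haA₀⟩ := SetLike.not_le_iff_exists.mp hAA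
      have haa : a * a = 1 := hA.2 a haA
      set A₁ := A₀ ⊔ Subgroup.zpowers a with hA₁
      have hA₁A : A₁ ≤ A := sup_le hA₀ (Subgroup.zpowers_le.mpr haA)
      set F₁ := F ⊓ Subgroup.centralizer ({a} : Set X) with hF₁
      have haF : ∀ x ∈ F, a * x * a⁻¹ ∈ F := by
        intro x hx
        exact (Subgroup.mem_normalizer_iff.mp (hAF haA) x).mp hx
      have hstep := card_le_sq_fixed hF haa haF
      -- `F₁` is `A`-invariant and centralized by `A₁`
      have hF₁ea : EA F₁ := hF.mono inf_le_left
      have hAF₁ : A ≤ Subgroup.normalizer (F₁ : Set X) := by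
        intro b hb
        have key : ∀ c ∈ A, ∀ x ∈ F₁, c * x * c⁻¹ ∈ F₁ := by
          intro c hc x hx
          refine Subgroup.mem_inf.mpr ⟨(Subgroup.mem_normalizer_iff.mp (hAF hc) x).mp hx.1, ?_⟩
          rw [Subgroup.mem_centralizer_iff]
          intro y hy
          rw [Set.mem_singleton_iff] at hy
          rw [hy]
          have h1 := Subgroup.mem_centralizer_iff.mp hx.2 a (Set.mem_singleton a)
          have h2 := hA.1 a haA c hc
          calc a * (c * x * c⁻¹) = (a * c) * x * c⁻¹ := by group
            _ = (c * a) * x * c⁻¹ := by rw [h2]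
            _ = c * (a * x) * c⁻¹ := by group
            _ = c * (x * a) * c⁻¹ := by rw [h1]
            _ = c * x * (a * c⁻¹) := by group
            _ = c * x * (c⁻¹ * a) := by
              congr 1
              have : c⁻¹ * a = a * c⁻¹ := by
                calc c⁻¹ * a = c⁻¹ * (a * c) * c⁻¹ := by group
                  _ = c⁻¹ * (c * a) * c⁻¹ := by rw [h2]
                  _ = a * c⁻¹ := by group
              exact this.symm
            _ = c * x * c⁻¹ * a := by group
        rw [Subgroup.mem_normalizer_iff]
        intro x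
        constructor
        · exact key b hb x
        · intro hx
          have := key b⁻¹ (A.inv_mem hb) _ hx
          simpa [mul_assoc] using this
      have hA₁F₁ : A₁ ≤ Subgroup.centralizer (F₁ : Set X) := by
        apply sup_le
        · exact hA₀F.trans (Subgroup.centralizer_le inf_le_left)
        · rw [Subgroup.zpowers_le, Subgroup.mem_centralizer_iff]
          intro x hx
          exact (Subgroup.mem_centralizer_iff.mp hx.2 a (Set.mem_singleton a)).symm
      have hcard₁ : Nat.card A ≤ 2 ^ n * Nat.card A₁ := by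
        have hnorm : A₀ ≤ Subgroup.normalizer ((Subgroup.zpowers a : Subgroup X) : Set X) := by
          intro c hc
          rw [Subgroup.mem_normalizer_iff]
          have h2 := hA.1 a haA c (hA₀ hc)
          have hconj : ∀ y ∈ Subgroup.zpowers a, c * y * c⁻¹ = y := by
            rintro _ ⟨i, rfl⟩
            show c * a ^ i * c⁻¹ = a ^ i
            have : Commute c a := h2.symm
            rw [(this.zpow_right i).eq]; group
          intro y
          constructor
          · intro hy; rw [hconj y hy]; exact hy
          · intro hy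
            have h3 := hconj _ hy
            have h4 : y = c⁻¹ * (c * y * c⁻¹) * c := by group
            rw [h4, ← h3]
            have : c⁻¹ * (c * (c * y * c⁻¹) * c⁻¹) * c = c * y * c⁻¹ := by group
            rw [this]; exact hy
        have hdisj : A₀ ⊓ Subgroup.zpowers a = ⊥ := by
          rw [Subgroup.eq_bot_iff_forall]
          intro x hx
          rcases mem_zpowers_involution haa hx.2 with h | h
          · exact h
          · exfalso; rw [h] at hx; exact haA₀ hx.1
        have hc1 := card_sup_of_disjoint A₀ (Subgroup.zpowers a) hnorm hdisj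
        have hc2 : Nat.card (Subgroup.zpowers a) = 2 := by
          rw [Nat.card_zpowers]
          apply orderOf_eq_prime
          · rw [pow_two]; exact haa
          · intro h1
            apply haA₀
            rw [h1]; exact A₀.one_mem
        rw [hA₁, hc1, hc2]
        calc Nat.card A ≤ 2 ^ (n + 1) * Nat.card A₀ := hcard
          _ = 2 ^ n * (Nat.card A₀ * 2) := by ring
      have h5 := ih F₁ A A₁ hF₁ea hA hA₁A hAF₁ hA₁F₁ hcard₁
      have h6 : F₁ ⊓ Subgroup.centralizer (A : Set X) = F ⊓ Subgroup.centralizer (A : Set X) := by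
        apply le_antisymm
        · exact inf_le_inf_right _ inf_le_left
        · apply le_inf _ inf_le_right
          apply le_inf inf_le_left
          refine inf_le_right.trans (Subgroup.centralizer_le ?_)
          intro y hy
          rw [Set.mem_singleton_iff] at hy
          rw [hy]; exact haA
      rw [h6] at h5
      calc Nat.card F ≤ Nat.card F₁ ^ 2 := hstep
        _ ≤ (Nat.card ↥(F ⊓ Subgroup.centralizer (A : Set X)) ^ (2 ^ n)) ^ 2 :=
          Nat.pow_le_pow_left h5 2
        _ = Nat.card ↥(F ⊓ Subgroup.centralizer (A : Set X)) ^ (2 ^ (n + 1)) := by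
          rw [← pow_mul, pow_succ]

end Cfsg.Agent.Lib.Helper4.EConn
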