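import Mathlib
import Cfsg.Agent.Lib.Helper4.EConn2

set_option autoImplicit false

/-! Connectivity of the `E₈`-subgroups of a 2-group with a normal `E₃₂`. -/

namespace Cfsg.Agent.Lib.Helper4.EConn

open Cfsg Cfsg.Agent.Lib.Lead

variable {X : Type*} [Group X]

theorem sup_zpowers_ea_card [Finite X] {A : Subgroup X} (hA : EA A) {e : X} (he : e * e = 1)
    (hec : e ∈ Subgroup.centralizer (A : Set X)) (heA : e ∉ A) :
    EA (A ⊔ Subgroup.zpowers e) ∧ Nat.card ↥(A ⊔ Subgroup.zpowers e) = 2 * Nat.card A := by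
  have hcomm : ∀ x ∈ A, ∀ y ∈ Subgroup.zpowers e, x * y = y * x := by
    intro x hx y hy
    rcases mem_zpowers_involution he hy with h | h
    · rw [h, mul_one, one_mul]
    · rw [h]; exact Subgroup.mem_centralizer_iff.mp hec x hx
  refine ⟨hA.sup (ea_zpowers he) hcomm, ?_⟩
  have hnorm : A ≤ Subgroup.normalizer ((Subgroup.zpowers e : Subgroup X) : Set X) := by
    intro c hc
    rw [Subgroup.mem_normalizer_iff]
    have hconj : ∀ y ∈ Subgroup.zpowers e, c * y * c⁻¹ = y := by
      intro y hy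
      rw [hcomm c hc y hy]; group
    intro y
    constructor
    · intro hy; rw [hconj y hy]; exact hy
    · intro hy
      have h3 := hconj _ hy
      have h4 : y = c⁻¹ * (c * y * c⁻¹) * c := by group
      rw [h4, ← h3]
      have : c⁻¹ * (c * (c * y * c⁻¹) * c⁻¹) * c = c * y * c⁻¹ := by group
      rw [this]; exact hy
  have hdisj : A ⊓ Subgroup.zpowers e = ⊥ := by
    rw [Subgroup.eq_bot_iff_forall]
    intro x hx
    rcases mem_zpowers_involution he hx.2 with h | h
    · exact h
    · exfalso; rw [h] at hx; exact heA hx.1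
  have hc2 : Nat.card (Subgroup.zpowers e) = 2 := by
    rw [Nat.card_zpowers]
    apply orderOf_eq_prime
    · rw [pow_two]; exact he
    · intro h1
      apply heA
      rw [h1]; exact A.one_mem
  rw [card_sup_of_disjoint A (Subgroup.zpowers e) hnorm hdisj, hc2, mul_comm]

section
variable [Finite X] (hX : IsPGroup 2 X) {E : Subgroup X} [hEn : E.Normal] (hE : EA E)
  (hE32 : 32 ≤ Nat.card E)
include hX hE hE32

/-- key lemma: an elementary abelian subgroup of order at most 8 is centralized by an element of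
`E` outside it -/
theorem exists_fixed_not_mem {A : Subgroup X} (hA : EA A) (hA8 : Nat.card A ≤ 8) :
    ∃ e ∈ E, e ∈ Subgroup.centralizer (A : Set X) ∧ e ∉ A := by
  have hFact : Fact (Nat.Prime 2) := ⟨Nat.prime_two⟩
  by_contra hcon
  push Not at hcon
  have hle : E ⊓ Subgroup.centralizer (A : Set X) ≤ A ⊓ E := by
    intro x hx
    exact Subgroup.mem_inf.mpr ⟨hcon x hx.1 hx.2, hx.1⟩
  obtain ⟨j, hj⟩ := IsPGroup.iff_card.mp (hX.to_subgroup A)
  obtain ⟨i, hi⟩ := IsPGroup.iff_card.mp (hX.to_subgroup (A ⊓ E))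
  have hij : i ≤ j := by
    have h1 : Nat.card ↥(A ⊓ E) ∣ Nat.card A := Subgroup.card_dvd_of_le inf_le_left
    rw [hi, hj] at h1
    exact (Nat.pow_dvd_pow_iff_le_right (by norm_num)).mp h1
  have hj3 : j ≤ 3 := by
    rw [hj] at hA8
    by_contra h
    push Not at h
    have : 2 ^ 4 ≤ 2 ^ j := Nat.pow_le_pow_right (by norm_num) h
    omega
  have hcard : Nat.card A ≤ 2 ^ (j - i) * Nat.card ↥(A ⊓ E) := by
    rw [hi, hj, ← pow_add, Nat.sub_add_cancel hij]
  have hAE : A ≤ Subgroup.normalizer (E : Set X) := by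
    rw [Subgroup.normalizer_eq_top_iff.mpr hEn]; exact le_top
  have hA₀ : A ⊓ E ≤ Subgroup.centralizer (E : Set X) := by
    intro x hx
    rw [Subgroup.mem_centralizer_iff]
    intro y hy
    exact hE.1 y hy x hx.2
  have h1 := card_le_pow_fixed (j - i) E A (A ⊓ E) hE hA inf_le_left hAE hA₀ hcard
  have h2 : Nat.card ↥(E ⊓ Subgroup.centralizer (A : Set X)) ≤ 2 ^ i := by
    rw [← hi]; exact Subgroup.card_le_of_le hle
  have h3 : 32 ≤ (2 ^ i) ^ (2 ^ (j - i)) :=
    hE32.trans (h1.trans (Nat.pow_le_pow_left h2 _))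
  interval_cases j <;> interval_cases i <;> norm_num at h3

/-- every four-group lies in an `E₈` -/
theorem exists_e8_ge {V : Subgroup X} (hV : EA V) (hV4 : Nat.card V = 4) :
    ∃ A : Subgroup X, V ≤ A ∧ EA A ∧ Nat.card A = 8 := by
  obtain ⟨e, heE, hec, heV⟩ := exists_fixed_not_mem hX hE hE32 hV (by omega)
  obtain ⟨h1, h2⟩ := sup_zpowers_ea_card hV (hE.2 e heE) hec heV
  exact ⟨V ⊔ Subgroup.zpowers e, le_sup_left, h1, by rw [h2, hV4]⟩

/-- adjacency of `E₈`-subgroups -/
def Adj (C D : Subgroup X) : Prop :=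
  Cfsg.IsElementaryAbelian 2 C ∧ Nat.card ↥C = 8 ∧ Cfsg.IsElementaryAbelian 2 D ∧
    Nat.card ↥D = 8 ∧ ⁅C, D⁆ = ⊥

omit [Finite X] hX hEn hE hE32 in
theorem adj_symm : Symmetric (Adj (X := X)) := by
  rintro C D ⟨h1, h2, h3, h4, h5⟩
  exact ⟨h3, h4, h1, h2, by rw [Subgroup.commutator_comm]; exact h5⟩

/-- every `E₈` is connected to an `E₈` inside `E` -/
theorem connected_to_E (d : ℕ) : ∀ A : Subgroup X, EA A → Nat.card A = 8 →
    8 - Nat.card ↥(A ⊓ E) ≤ d →
    ∃ A' : Subgroup X, EA A' ∧ Nat.card A' = 8 ∧ A' ≤ E ∧ Relation.ReflTransGen Adj A A' := by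
  have hFact : Fact (Nat.Prime 2) := ⟨Nat.prime_two⟩
  induction d with
  | zero =>
    intro A hA hA8 hd
    have h1 : Nat.card A ≤ Nat.card ↥(A ⊓ E) := by omega
    have h2 : A ⊓ E = A := Subgroup.eq_of_le_of_card_ge inf_le_left h1
    exact ⟨A, hA, hA8, by rw [← h2]; exact inf_le_right, Relation.ReflTransGen.refl⟩
  | succ d ih =>
    intro A hA hA8 hd
    by_cases hAE : A ≤ E
    · exact ⟨A, hA, hA8, hAE, Relation.ReflTransGen.refl⟩
    · obtain ⟨e, heE, hec, heA⟩ := exists_fixed_not_mem hX hE hE32 hA (by omega)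
      have hee : e * e = 1 := hE.2 e heE
      -- a subgroup of order 4 of `A` containing `A ∩ E`
      obtain ⟨i, hi⟩ := IsPGroup.iff_card.mp (hX.to_subgroup (A ⊓ E))
      have hlt : Nat.card ↥(A ⊓ E) < 8 := by
        by_contra h
        push Not at h
        apply hAE
        have h2 : A ⊓ E = A := Subgroup.eq_of_le_of_card_ge inf_le_left (by omega)
        rw [← h2]; exact inf_le_right
      have hi2 : i ≤ 2 := by
        rw [hi] at hlt
        by_contra h
        push Not at h
        have : 2 ^ 3 ≤ 2 ^ i := Nat.pow_le_pow_right (by norm_num) h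
        omega
      have hcH : Nat.card ((A ⊓ E).subgroupOf A) = 2 ^ i := by
        rw [card_subgroupOf_of_le inf_le_left, hi]
      have hdvd : 2 ^ 2 ∣ Nat.card ↥A := by rw [hA8]; norm_num
      obtain ⟨K, hK4, hHK⟩ := Sylow.exists_subgroup_card_pow_prime_le 2 hdvd _ hcH hi2
      set A'' := K.map A.subtype with hA''
      have hA''A : A'' ≤ A := Subgroup.map_subtype_le _
      have hA''4 : Nat.card A'' = 4 := by
        rw [hA'', Subgroup.card_map_of_injective A.subtype_injective, hK4]; norm_num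
      have hAEA'' : A ⊓ E ≤ A'' := by
        intro x hx
        exact ⟨⟨x, hx.1⟩, hHK (Subgroup.mem_subgroupOf.mpr hx), rfl⟩
      have hA''ea : EA A'' := hA.mono hA''A
      have hec'' : e ∈ Subgroup.centralizer (A'' : Set X) := Subgroup.centralizer_le hA''A hec
      have heA'' : e ∉ A'' := fun h => heA (hA''A h)
      obtain ⟨h1, h2⟩ := sup_zpowers_ea_card hA''ea hee hec'' heA''
      set A₁ := A'' ⊔ Subgroup.zpowers e with hA₁
      have hA₁8 : Nat.card A₁ = 8 := by rw [h2, hA''4]
      have hadj : Adj A A₁ := by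
        refine ⟨(ea_iff A).mpr hA, hA8, (ea_iff A₁).mpr h1, hA₁8, ?_⟩
        rw [Subgroup.commutator_eq_bot_iff_le_centralizer, Subgroup.le_centralizer_iff]
        apply sup_le
        · intro x hx
          rw [Subgroup.mem_centralizer_iff]
          intro y hy
          exact hA.1 y hy x (hA''A hx)
        · rw [Subgroup.zpowers_le]; exact hec
      -- the intersection with `E` grows
      have hec0 : e ∈ Subgroup.centralizer ((A ⊓ E : Subgroup X) : Set X) :=
        Subgroup.centralizer_le inf_le_left hec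
      have heA0 : e ∉ A ⊓ E := fun h => heA h.1
      obtain ⟨-, h3⟩ := sup_zpowers_ea_card (hA.mono inf_le_left) hee hec0 heA0
      have h4 : (A ⊓ E) ⊔ Subgroup.zpowers e ≤ A₁ ⊓ E := by
        apply sup_le
        · exact le_inf (hAEA''.trans le_sup_left) inf_le_right
        · rw [Subgroup.zpowers_le]
          exact Subgroup.mem_inf.mpr ⟨Subgroup.mem_sup_right (Subgroup.mem_zpowers e), heE⟩
      have h5 := Subgroup.card_le_of_le h4
      rw [h3] at h5
      have hpos : 0 < Nat.card ↥(A ⊓ E) := Nat.card_pos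
      obtain ⟨A', hA', hA'8, hA'E, hpath⟩ := ih A₁ h1 hA₁8 (by omega)
      exact ⟨A', hA', hA'8, hA'E, Relation.ReflTransGen.head hadj hpath⟩

/-- any two `E₈`-subgroups are connected -/
theorem connected {A B : Subgroup X} (hA : EA A) (hA8 : Nat.card A = 8) (hB : EA B)
    (hB8 : Nat.card B = 8) : Relation.ReflTransGen Adj A B := by
  obtain ⟨A', hA', hA'8, hA'E, hpA⟩ := connected_to_E hX hE hE32 8 A hA hA8 (by omega)
  obtain ⟨B', hB', hB'8, hB'E, hpB⟩ := connected_to_E hX hE hE32 8 B hB hB8 (by omega)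
  have hadj : Adj A' B' := by
    refine ⟨(ea_iff A').mpr hA', hA'8, (ea_iff B').mpr hB', hB'8, ?_⟩
    rw [Subgroup.commutator_eq_bot_iff_le_centralizer]
    intro x hx
    rw [Subgroup.mem_centralizer_iff]
    intro y hy
    exact hE.1 y (hB'E hy) x (hA'E hx)
  have hsymm : ∀ {P Q : Subgroup X}, Relation.ReflTransGen Adj P Q →
      Relation.ReflTransGen Adj Q P := by
    intro P Q h
    induction h with
    | refl => exact Relation.ReflTransGen.refl
    | tail _ hbc ih => exact Relation.ReflTransGen.head (adj_symm hbc) ih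
  have hpB' : Relation.ReflTransGen Adj B' B := hsymm hpB
  exact (hpA.tail hadj).trans hpB'

end

end Cfsg.Agent.Lib.Helper4.EConn
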