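import Mathlib
import Cfsg.Agent.Lib.Helper4.EqDec5

set_option autoImplicit false
set_option linter.unusedSectionVars false

/-! The Kummer case: `x ^ r = z` with `z` not an `r`-th power.  Such an `x` always permutes the
summands of a decomposition into `t` subspaces of dimension `a` (when `a t = dim V`). -/

namespace Cfsg.Agent.Lib.Helper4.EqDec

open Module Polynomial
open Cfsg.Agent.H9SemiInv Cfsg.Agent.Lib.Helper9.H9Elus

section
variable {F : Type*} [Field F] {V : Type*} [AddCommGroup V] [Module F V] [FiniteDimensional F V]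

theorem card_fst_fiber {κ μ : Type*} [Fintype κ] [Fintype μ] [DecidableEq κ] (j : κ) :
    Fintype.card {q : κ × μ // q.1 = j} = Fintype.card μ := by
  apply Fintype.card_congr
  exact
    { toFun := fun q => q.1.2
      invFun := fun m => ⟨(j, m), rfl⟩
      left_inv := fun q => Subtype.ext (Prod.ext q.2.symm rfl)
      right_inv := fun _ => rfl }

/-- Cyclic vectors of a family of minimal invariant subspaces spanning the space span the space. -/
theorem cyclic_span {κ' : Type*} (x : V →ₗ[F] V) (r : ℕ) (hr : 1 ≤ r) (z : F)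
    (hx : x ^ r = z • 1) (U : κ' → Submodule F V) (hUinv : ∀ i, Inv x (U i))
    (hUmin : ∀ i (W : Submodule F V), W ≤ U i → Inv x W → W ≠ ⊥ → W = U i)
    (u : κ' → V) (hu : ∀ i, u i ∈ U i) (hu0 : ∀ i, u i ≠ 0) :
    iSup U ≤ Submodule.span F (Set.range fun q : κ' × Fin r => (x ^ (q.2 : ℕ)) (u q.1)) := by
  refine iSup_le fun i => ?_
  rw [← span_iterates_eq x r hr z hx (U i) (hUmin i) (hUinv i) (u i) (hu i) (hu0 i)]
  apply Submodule.span_mono
  rintro _ ⟨k, rfl⟩
  exact ⟨(i, k), rfl⟩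

theorem injective_of_pow_eq_smul (x : V →ₗ[F] V) (r : ℕ) (z : F) (hz : z ≠ 0)
    (hx : x ^ r = z • 1) (hr : 1 ≤ r) : Function.Injective x := by
  rw [← LinearMap.ker_eq_bot, LinearMap.ker_eq_bot']
  intro v hv
  have h1 : (x ^ r) v = z • v := by rw [hx]; simp
  have h2 : (x ^ r) v = 0 := by
    obtain ⟨k, rfl⟩ : ∃ k, r = k + 1 := ⟨r - 1, by omega⟩
    rw [pow_succ, Module.End.mul_apply, hv, map_zero]
  rw [h2] at h1
  exact (smul_eq_zero.mp h1.symm).resolve_left hz

/-- Minimal invariant subspaces in the Kummer case. -/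
theorem kummer_family (r : ℕ) (hr : r.Prime) (z : F) (hz : ∀ b : F, b ^ r ≠ z)
    (x : V →ₗ[F] V) (hx : x ^ r = z • 1) (m : ℕ) (hfr : finrank F V = r * m) :
    ∃ Z : Fin m → Submodule F V, (∀ j, Inv x (Z j)) ∧
      (∀ j (W : Submodule F V), W ≤ Z j → Inv x W → W ≠ ⊥ → W = Z j) ∧
      (∀ j, Z j ≠ ⊥) ∧ iSup Z = ⊤ := by
  have hss := isSemisimple_of_pow_eq_smul r hr z hz x hx
  have htop : Inv x (⊤ : Submodule F V) := fun v _ => Submodule.mem_top
  obtain ⟨Z, hZ, -, hsup⟩ := peel_min x hss r hr.one_le ⊤ htop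
    (fun W _ hW hne => hmin_of_pow_eq_smul r hr z hz x hx W hW hne) m
    (by rw [finrank_top, hfr])
  refine ⟨Z, fun j => (hZ j).1, ?_, ?_, hsup⟩
  · intro j W hWZ hW hne
    obtain ⟨Z', hZ'W, -, hZ'd⟩ := hmin_of_pow_eq_smul r hr z hz x hx W hW hne
    apply Submodule.eq_of_le_of_finrank_le hWZ
    rw [(hZ j).2, ← hZ'd]
    exact Submodule.finrank_mono hZ'W
  · intro j h
    have := (hZ j).2
    rw [h, finrank_bot] at this
    have := hr.one_le
    omega

end

end Cfsg.Agent.Lib.Helper4.EqDec
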