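import Mathlib
import Cfsg.Agent.Lib.Helper4.EqDec6

set_option autoImplicit false
set_option linter.unusedSectionVars false

/-! The Kummer case, continued: construction of the decompositions. -/

namespace Cfsg.Agent.Lib.Helper4.EqDec

open Module Polynomial
open Cfsg.Agent.H9SemiInv Cfsg.Agent.Lib.Helper9.H9Elus

section
variable {F : Type*} [Field F] {V : Type*} [AddCommGroup V] [Module F V] [FiniteDimensional F V]

theorem kummer_ne_zero (r : ℕ) (hr : r.Prime) (z : F) (hz : ∀ b : F, b ^ r ≠ z) : z ≠ 0 := by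
  intro h
  exact hz 0 (by rw [zero_pow hr.ne_zero, h])

/-- Kummer case, `r ∣ a`: all summands invariant. -/
theorem kummer_decomp_dvd_a (r : ℕ) (hr : r.Prime) (z : F) (hz : ∀ b : F, b ^ r ≠ z)
    (x : V →ₗ[F] V) (hx : x ^ r = z • 1) (a' t : ℕ) (hfr : finrank F V = (r * a') * t) :
    ∃ D' : Fin t → Submodule F V, (∀ j, finrank F (D' j) = r * a') ∧ iSupIndep D' ∧ iSup D' = ⊤ ∧
      ∃ σ' : Equiv.Perm (Fin t), ∀ j, (D' j).map x = D' (σ' j) := by
  classical
  have hz0 := kummer_ne_zero r hr z hz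
  have hinj := injective_of_pow_eq_smul x r z hz0 hx hr.one_le
  obtain ⟨Z, hZinv, hZmin, hZne, hZtop⟩ := kummer_family r hr z hz x hx (t * a')
    (by rw [hfr]; ring)
  let e : Fin t × Fin a' ≃ Fin (t * a') := finProdFinEquiv
  set U : Fin t × Fin a' → Submodule F V := fun i => Z (e i) with hU
  choose u hu hu0 using fun i => Submodule.exists_mem_ne_zero_of_ne_bot (hZne (e i))
  set v : Fin t × (Fin a' × Fin r) → V := fun q => (x ^ (q.2.2 : ℕ)) (u (q.1, q.2.1)) with hv
  have hspan : Submodule.span F (Set.range v) = ⊤ := by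
    rw [eq_top_iff, ← hZtop]
    have h1 : iSup Z = iSup U := (e.iSup_comp (g := Z)).symm
    rw [h1]
    refine (cyclic_span x r hr.one_le z hx U (fun i => hZinv _) (fun i => hZmin _) u hu hu0).trans ?_
    apply Submodule.span_mono
    rintro _ ⟨q, rfl⟩
    exact ⟨(q.1.1, (q.1.2, q.2)), rfl⟩
  have hcard : Fintype.card (Fin t × (Fin a' × Fin r)) = finrank F V := by
    rw [hfr]
    simp only [Fintype.card_prod, Fintype.card_fin]
    ring
  refine blocks_fin v hspan hcard Prod.fst (r * a') t (by simp)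
    (fun j => by rw [card_fst_fiber]; simp only [Fintype.card_prod, Fintype.card_fin]; ring)
    x hinj (Equiv.refl _) ?_
  intro q
  simp only [Equiv.refl_apply]
  by_cases hk : (q.2.2 : ℕ) + 1 < r
  · apply Submodule.subset_span
    refine ⟨(q.1, (q.2.1, ⟨(q.2.2 : ℕ) + 1, hk⟩)), rfl, ?_⟩
    simp only [hv]
    rw [pow_succ', Module.End.mul_apply]
  · have hk' : (q.2.2 : ℕ) + 1 = r := by have := q.2.2.2; omega
    have h1 : x (v q) = z • u (q.1, q.2.1) := by
      simp only [hv]
      rw [← Module.End.mul_apply, ← pow_succ', hk', hx]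
      simp
    rw [h1]
    apply Submodule.smul_mem
    apply Submodule.subset_span
    refine ⟨(q.1, (q.2.1, ⟨0, hr.pos⟩)), rfl, ?_⟩
    simp [hv]

/-- Kummer case, `r ∣ t`: the summands are permuted in cycles of length `r`. -/
theorem kummer_decomp_dvd_t (r : ℕ) (hr : r.Prime) (z : F) (hz : ∀ b : F, b ^ r ≠ z)
    (x : V →ₗ[F] V) (hx : x ^ r = z • 1) (a t' : ℕ) (hfr : finrank F V = a * (t' * r)) :
    ∃ D' : Fin (t' * r) → Submodule F V, (∀ j, finrank F (D' j) = a) ∧ iSupIndep D' ∧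
      iSup D' = ⊤ ∧ ∃ σ' : Equiv.Perm (Fin (t' * r)), ∀ j, (D' j).map x = D' (σ' j) := by
  classical
  haveI : NeZero r := ⟨hr.ne_zero⟩
  have hz0 := kummer_ne_zero r hr z hz
  have hinj := injective_of_pow_eq_smul x r z hz0 hx hr.one_le
  obtain ⟨Z, hZinv, hZmin, hZne, hZtop⟩ := kummer_family r hr z hz x hx (t' * a)
    (by rw [hfr]; ring)
  let e : Fin t' × Fin a ≃ Fin (t' * a) := finProdFinEquiv
  set U : Fin t' × Fin a → Submodule F V := fun i => Z (e i) with hU
  choose u hu hu0 using fun i => Submodule.exists_mem_ne_zero_of_ne_bot (hZne (e i))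
  set v : (Fin t' × Fin r) × Fin a → V := fun q => (x ^ (q.1.2 : ℕ)) (u (q.1.1, q.2)) with hv
  have hspan : Submodule.span F (Set.range v) = ⊤ := by
    rw [eq_top_iff, ← hZtop]
    have h1 : iSup Z = iSup U := (e.iSup_comp (g := Z)).symm
    rw [h1]
    refine (cyclic_span x r hr.one_le z hx U (fun i => hZinv _) (fun i => hZmin _) u hu hu0).trans ?_
    apply Submodule.span_mono
    rintro _ ⟨q, rfl⟩
    exact ⟨((q.1.1, q.2), q.1.2), rfl⟩
  have hcard : Fintype.card ((Fin t' × Fin r) × Fin a) = finrank F V := by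
    rw [hfr]
    simp only [Fintype.card_prod, Fintype.card_fin]
    ring
  refine blocks_fin v hspan hcard Prod.fst a (t' * r) (by simp)
    (fun j => by rw [card_fst_fiber]; simp)
    x hinj (Equiv.prodCongr (Equiv.refl (Fin t')) (Equiv.addRight (1 : Fin r))) ?_
  intro q
  have hσ : (Equiv.prodCongr (Equiv.refl (Fin t')) (Equiv.addRight (1 : Fin r))) q.1
      = (q.1.1, q.1.2 + 1) := rfl
  rw [hσ]
  have h1r : ((1 : Fin r) : ℕ) = 1 := by
    rw [Fin.val_one']
    exact Nat.mod_eq_of_lt hr.one_lt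
  by_cases hk : (q.1.2 : ℕ) + 1 < r
  · have hval : ((q.1.2 + 1 : Fin r) : ℕ) = (q.1.2 : ℕ) + 1 := by
      rw [Fin.val_add, h1r, Nat.mod_eq_of_lt hk]
    apply Submodule.subset_span
    refine ⟨((q.1.1, q.1.2 + 1), q.2), rfl, ?_⟩
    simp only [hv]
    rw [hval, pow_succ', Module.End.mul_apply]
  · have hk' : (q.1.2 : ℕ) + 1 = r := by have := q.1.2.2; omega
    have hval : ((q.1.2 + 1 : Fin r) : ℕ) = 0 := by
      rw [Fin.val_add, h1r, hk', Nat.mod_self]
    have h1 : x (v q) = z • u (q.1.1, q.2) := by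
      simp only [hv]
      rw [← Module.End.mul_apply, ← pow_succ', hk', hx]
      simp
    rw [h1]
    apply Submodule.smul_mem
    apply Submodule.subset_span
    refine ⟨((q.1.1, q.1.2 + 1), q.2), rfl, ?_⟩
    simp only [hv]
    rw [hval, pow_zero, Module.End.one_apply]

end

end Cfsg.Agent.Lib.Helper4.EqDec
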