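import Mathlib
import Cfsg.Agent.Lib.Helper4.EqDec7

set_option autoImplicit false
set_option linter.unusedSectionVars false
set_option linter.style.haveILetI false

/-! Elements of order `r` with `ord_r(q) = r - 1`: a basis permuted by `y` (decomposition into
lines) when the fixed space is large enough. -/

namespace Cfsg.Agent.Lib.Helper4.EqDec

open Module Polynomial
open Cfsg.Agent.H9SemiInv Cfsg.Agent.Lib.Helper9.H9Elus

theorem lines_card_arith (r c m₀ m₁ : ℕ) (hr : r = c + 1) (hle : m₁ ≤ m₀) :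
    m₁ * r + (m₀ - m₁) = m₀ + c * m₁ := by
  subst hr
  obtain ⟨d, rfl⟩ := Nat.exists_eq_add_of_le hle
  rw [Nat.add_sub_cancel_left]
  ring

section
variable {F V : Type*} [Field F] [Fintype F] {p : ℕ} [Fact p.Prime] [CharP F p]
  [AddCommGroup V] [Module F V] [FiniteDimensional F V]

theorem pow_apply_of_mem_fixE (y : V →ₗ[F] V) (e : V) (he : e ∈ fixE y) (k : ℕ) :
    (y ^ k) e = e := by
  induction k with
  | zero => simp
  | succ k ih => rw [pow_succ, Module.End.mul_apply, (mem_fixE y e).mp he, ih]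

theorem sum_pow_apply_of_mem_cycK (r : ℕ) [Fact r.Prime] (y : V →ₗ[F] V) (z : V)
    (hz : z ∈ cycK r y) : ∑ k : Fin r, (y ^ (k : ℕ)) z = 0 := by
  have hr : r.Prime := Fact.out
  have h1 : aeval y (cyclotomic r F) z = 0 := LinearMap.mem_ker.mp hz
  rw [cyclotomic_prime, map_sum, LinearMap.sum_apply] at h1
  rw [Fin.sum_univ_eq_sum_range (fun k => (y ^ k) z) r]
  simpa [map_pow, aeval_X] using h1

theorem lines_decomp (r : ℕ) [Fact r.Prime] (hrp : r ≠ p) (y : V →ₗ[F] V) (hy : y ^ r = 1)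
    (hc : orderOf ((Fintype.card F : ℕ) : ZMod r) = r - 1)
    (m₁ : ℕ) (hcyc : finrank F ↥(cycK r y) = (r - 1) * m₁) (hle : m₁ ≤ finrank F ↥(fixE y)) :
    ∃ D' : Fin (finrank F V) → Submodule F V, (∀ j, finrank F (D' j) = 1) ∧ iSupIndep D' ∧
      iSup D' = ⊤ ∧ ∃ σ' : Equiv.Perm (Fin (finrank F V)), ∀ j, (D' j).map y = D' (σ' j) := by
  classical
  have hr : r.Prime := Fact.out
  haveI : NeZero r := ⟨hr.ne_zero⟩
  have hr2 := hr.two_le
  have hss := isSemisimple_of_pow_eq_one r hrp y hy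
  have hy1 : y ^ r = (1 : F) • 1 := by rw [hy, one_smul]
  have hinj := injective_of_pow_eq_smul y r 1 one_ne_zero hy1 hr.one_le
  have hcycinv : Inv y (cycK r y) := inv_ker_aeval y _
  have hmin : ∀ W : Submodule F V, W ≤ cycK r y → Inv y W → W ≠ ⊥ →
      ∃ Z : Submodule F V, Z ≤ W ∧ Inv y Z ∧ finrank F Z = r - 1 := by
    intro W hW hWinv hne
    have := hmin_cyclotomic r hrp y W hW hWinv hne
    rwa [hc] at this
  obtain ⟨Z, hZ, -, hZsup⟩ := peel_min y hss (r - 1) (by omega) (cycK r y) hcycinv hmin m₁ hcyc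
  have hZle : ∀ j, Z j ≤ cycK r y := fun j => by rw [← hZsup]; exact le_iSup Z j
  have hZmin : ∀ j (W : Submodule F V), W ≤ Z j → Inv y W → W ≠ ⊥ → W = Z j := by
    intro j W hWZ hW hne
    obtain ⟨Z', hZ'W, -, hZ'd⟩ := hmin W (hWZ.trans (hZle j)) hW hne
    apply Submodule.eq_of_le_of_finrank_le hWZ
    rw [(hZ j).2, ← hZ'd]
    exact Submodule.finrank_mono hZ'W
  have hZne : ∀ j, Z j ≠ ⊥ := by
    intro j h
    have := (hZ j).2
    rw [h, finrank_bot] at this
    omega
  choose zv hzv hzv0 using fun j => Submodule.exists_mem_ne_zero_of_ne_bot (hZne j)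
  set m₀ := finrank F ↥(fixE y) with hm₀
  let b : Basis (Fin m₀) F ↥(fixE y) := Module.finBasis F _
  set ev : Fin m₀ → V := fun j => ((b j : ↥(fixE y)) : V) with hev
  have hevmem : ∀ j, ev j ∈ fixE y := fun j => (b j).2
  have hevspan : Submodule.span F (Set.range ev) = fixE y := by
    have h1 : Set.range ev = (fixE y).subtype '' Set.range b := by
      rw [← Set.range_comp]
      rfl
    rw [h1, ← Submodule.map_span, b.span_eq, Submodule.map_subtype_top]
  set v : (Fin m₁ × Fin r) ⊕ Fin (m₀ - m₁) → V :=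
    Sum.elim (fun q => (y ^ (q.2 : ℕ)) (zv q.1 + ev (Fin.castLE hle q.1)))
      (fun j => ev ⟨m₁ + j, by have := j.2; omega⟩) with hv
  set S := Submodule.span F (Set.range v) with hS
  have hvS : ∀ i, v i ∈ S := fun i => Submodule.subset_span ⟨i, rfl⟩
  have hr0 : ((r : ℕ) : F) ≠ 0 := cast_ne_zero_of_ne r hrp
  have step1 : ∀ i : Fin m₁, ev (Fin.castLE hle i) ∈ S := by
    intro i
    have hsum : ∑ k : Fin r, v (Sum.inl (i, k)) ∈ S :=
      Submodule.sum_mem _ fun k _ => hvS _
    have h2 : ∑ k : Fin r, v (Sum.inl (i, k)) = ((r : ℕ) : F) • ev (Fin.castLE hle i) := by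
      simp only [hv, Sum.elim_inl, map_add]
      rw [Finset.sum_add_distrib, sum_pow_apply_of_mem_cycK r y (zv i) (hZle i (hzv i)), zero_add]
      simp only [pow_apply_of_mem_fixE y _ (hevmem _)]
      rw [Finset.sum_const, Finset.card_univ, Fintype.card_fin, Nat.cast_smul_eq_nsmul]
    rw [h2] at hsum
    have := S.smul_mem (((r : ℕ) : F)⁻¹) hsum
    rwa [smul_smul, inv_mul_cancel₀ hr0, one_smul] at this
  have step2 : ∀ j : Fin m₀, ev j ∈ S := by
    intro j
    by_cases hj : (j : ℕ) < m₁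
    · have := step1 ⟨j, hj⟩
      have h3 : Fin.castLE hle ⟨(j : ℕ), hj⟩ = j := Fin.ext rfl
      rwa [h3] at this
    · have hj' : (j : ℕ) - m₁ < m₀ - m₁ := by have := j.2; omega
      have := hvS (Sum.inr ⟨(j : ℕ) - m₁, hj'⟩)
      simp only [hv, Sum.elim_inr] at this
      have h3 : (⟨m₁ + ((j : ℕ) - m₁), by omega⟩ : Fin m₀) = j := Fin.ext (by simp; omega)
      rwa [h3] at this
  have hfixS : fixE y ≤ S := by
    rw [← hevspan, Submodule.span_le]
    rintro _ ⟨j, rfl⟩
    exact step2 j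
  have hZS : ∀ i, Z i ≤ S := by
    intro i
    rw [← span_iterates_eq y r hr.one_le 1 hy1 (Z i) (hZmin i) (hZ i).1 (zv i) (hzv i) (hzv0 i),
      Submodule.span_le]
    rintro _ ⟨k, rfl⟩
    have h1 := hvS (Sum.inl (i, k))
    simp only [hv, Sum.elim_inl, map_add] at h1
    rw [pow_apply_of_mem_fixE y _ (hevmem _)] at h1
    have h2 := S.sub_mem h1 (step1 i)
    rwa [add_sub_cancel_right] at h2
  have hspan : Submodule.span F (Set.range v) = ⊤ := by
    rw [eq_top_iff, ← (isCompl_ker r hrp y hy).sup_eq_top]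
    refine sup_le hfixS ?_
    change cycK r y ≤ S
    rw [← hZsup]
    exact iSup_le hZS
  have hcard : Fintype.card ((Fin m₁ × Fin r) ⊕ Fin (m₀ - m₁)) = finrank F V := by
    have h1 := Submodule.finrank_add_eq_of_isCompl (isCompl_ker r hrp y hy)
    change finrank F ↥(fixE y) + finrank F ↥(cycK r y) = finrank F V at h1
    rw [hcyc, ← hm₀] at h1
    rw [← h1]
    simp only [Fintype.card_sum, Fintype.card_prod, Fintype.card_fin]
    exact lines_card_arith r (r - 1) m₀ m₁ (by omega) hle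
  refine blocks_fin v hspan hcard id 1 (finrank F V) hcard (fun j => by simp) y hinj
    (Equiv.sumCongr (Equiv.prodCongr (Equiv.refl (Fin m₁)) (Equiv.addRight (1 : Fin r)))
      (Equiv.refl _)) ?_
  intro i
  have h1r : ((1 : Fin r) : ℕ) = 1 := by
    rw [Fin.val_one']
    exact Nat.mod_eq_of_lt hr.one_lt
  apply Submodule.subset_span
  refine ⟨_, rfl, ?_⟩
  rcases i with q | j
  · simp only [id, Equiv.sumCongr_apply, Sum.map_inl, Equiv.prodCongr_apply, Prod.map,
      Equiv.refl_apply, Equiv.coe_addRight, hv, Sum.elim_inl]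
    rw [Fin.val_add, h1r, pow_mod_of_pow_eq_one y r hy, pow_succ', Module.End.mul_apply]
  · simp only [id, Equiv.sumCongr_apply, Sum.map_inr, Equiv.refl_apply, hv, Sum.elim_inr]
    exact ((mem_fixE y _).mp (hevmem _)).symm

end

end Cfsg.Agent.Lib.Helper4.EqDec
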