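import Mathlib
import Cfsg.Agent.Lib.Helper4.EqDec8

set_option autoImplicit false
set_option linter.unusedSectionVars false
set_option linter.style.haveILetI false

/-! Necessary conditions: a decomposition into subspaces of equal dimension permuted by an element
`y` with `y ^ r = 1`; the norm map `1 + y + ⋯ + y ^ (r - 1)` and the bounds on the fixed space
and on the cyclotomic kernel coming from the cycles of the permutation. -/

namespace Cfsg.Agent.Lib.Helper4.EqDec

open Module Polynomial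
open Cfsg.Agent.H9SemiInv Cfsg.Agent.Lib.Helper9.H9Elus

section nrm
variable {F V : Type*} [Field F] [AddCommGroup V] [Module F V]

/-- The norm map `1 + y + ⋯ + y ^ (r - 1)`. -/
noncomputable def nrm (r : ℕ) (y : V →ₗ[F] V) : V →ₗ[F] V := ∑ k ∈ Finset.range r, y ^ k

theorem nrm_apply (r : ℕ) (y : V →ₗ[F] V) (v : V) :
    nrm r y v = ∑ k ∈ Finset.range r, (y ^ k) v := by
  unfold nrm
  rw [LinearMap.sum_apply]

theorem mul_nrm (r : ℕ) (y : V →ₗ[F] V) (hy : y ^ r = 1) : y * nrm r y = nrm r y := by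
  have h : (y - 1) * nrm r y = y ^ r - 1 := mul_geom_sum y r
  rw [hy, sub_self, sub_mul, one_mul, sub_eq_zero] at h
  exact h

theorem nrm_mul (r : ℕ) (y : V →ₗ[F] V) (hy : y ^ r = 1) : nrm r y * y = nrm r y := by
  have h : nrm r y * (y - 1) = y ^ r - 1 := geom_sum_mul y r
  rw [hy, sub_self, mul_sub, mul_one, sub_eq_zero] at h
  exact h

theorem nrm_mul_pow (r : ℕ) (y : V →ₗ[F] V) (hy : y ^ r = 1) (k : ℕ) :
    nrm r y * y ^ k = nrm r y := by
  induction k with
  | zero => rw [pow_zero, mul_one]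
  | succ k ih => rw [pow_succ, ← mul_assoc, ih, nrm_mul r y hy]

theorem nrm_pow_apply (r : ℕ) (y : V →ₗ[F] V) (hy : y ^ r = 1) (k : ℕ) (v : V) :
    nrm r y ((y ^ k) v) = nrm r y v := by
  rw [← Module.End.mul_apply, nrm_mul_pow r y hy k]

theorem apply_nrm (r : ℕ) (y : V →ₗ[F] V) (hy : y ^ r = 1) (v : V) :
    y (nrm r y v) = nrm r y v := by
  rw [← Module.End.mul_apply, mul_nrm r y hy]

end nrm

section perm
variable {F V : Type*} [Field F] [AddCommGroup V] [Module F V]
variable {ι : Type*} (y : V →ₗ[F] V) (D : ι → Submodule F V) (σ : Equiv.Perm ι)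

theorem map_pow_eq (hmap : ∀ j, (D j).map y = D (σ j)) (k : ℕ) (j : ι) :
    (D j).map (y ^ k) = D ((σ ^ k) j) := by
  induction k generalizing j with
  | zero =>
    rw [pow_zero, pow_zero, Module.End.one_eq_id, Submodule.map_id, Equiv.Perm.coe_one, id_eq]
  | succ k ih =>
    rw [pow_succ y k, pow_succ σ k, Module.End.mul_eq_comp, Submodule.map_comp, hmap, ih,
      Equiv.Perm.mul_apply]

theorem pow_apply_mem (hmap : ∀ j, (D j).map y = D (σ j)) (k : ℕ) (j : ι) (w : V)
    (hw : w ∈ D j) : (y ^ k) w ∈ D ((σ ^ k) j) := by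
  rw [← map_pow_eq y D σ hmap k j]
  exact Submodule.mem_map_of_mem hw

theorem perm_pow_apply (hmap : ∀ j, (D j).map y = D (σ j)) (hinj : Function.Injective D)
    (r : ℕ) (hy : y ^ r = 1) (j : ι) : (σ ^ r) j = j := by
  apply hinj
  rw [← map_pow_eq y D σ hmap r j, hy, Module.End.one_eq_id, Submodule.map_id]

theorem perm_pow_ne (r : ℕ) (hr : r.Prime) (hσ : ∀ j, (σ ^ r) j = j) {j : ι} (hj : σ j ≠ j)
    {k : ℕ} (hk0 : 0 < k) (hkr : k < r) : (σ ^ k) j ≠ j := by
  intro h
  have hg : Nat.gcd k r = 1 :=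
    Nat.Coprime.symm ((Nat.Prime.coprime_iff_not_dvd hr).mpr (Nat.not_dvd_of_pos_of_lt hk0 hkr))
  have h1 : Function.IsPeriodicPt σ k j := by
    show (⇑σ)^[k] j = j
    rw [Equiv.Perm.iterate_eq_pow]
    exact h
  have h2 : Function.IsPeriodicPt σ r j := by
    show (⇑σ)^[r] j = j
    rw [Equiv.Perm.iterate_eq_pow]
    exact hσ j
  have h3 := h1.gcd h2
  rw [hg] at h3
  apply hj
  have h4 : (⇑σ)^[1] j = j := h3
  rwa [Function.iterate_one] at h4

theorem inv_of_map_eq (j : ι) (h : (D j).map y = D j) : Inv y (D j) := by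
  intro v hv
  rw [← h]
  exact Submodule.mem_map_of_mem hv

theorem inv_biSup (hmap : ∀ j, (D j).map y = D (σ j)) (s : Finset ι) (hs : ∀ j ∈ s, σ j ∈ s) :
    Inv y (⨆ j ∈ s, D j) := by
  intro v hv
  have h1 : (⨆ j ∈ s, D j).map y ≤ ⨆ j ∈ s, D j := by
    rw [Submodule.map_iSup]
    apply iSup_le
    intro j
    rw [Submodule.map_iSup]
    apply iSup_le
    intro hj
    rw [hmap]
    exact le_iSup₂ (f := fun i (_ : i ∈ s) => D i) (σ j) (hs j hj)
  exact h1 (Submodule.mem_map_of_mem hv)

/-- The norm map is injective on a summand that is moved by the permutation. -/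
theorem nrm_inj_on (hind : iSupIndep D) (hmap : ∀ j, (D j).map y = D (σ j)) (r : ℕ)
    (hr1 : 1 ≤ r) (j : ι) (hne : ∀ k, 0 < k → k < r → (σ ^ k) j ≠ j) (w : V) (hw : w ∈ D j)
    (h0 : nrm r y w = 0) : w = 0 := by
  rw [nrm_apply] at h0
  obtain ⟨r', rfl⟩ : ∃ r', r = r' + 1 := ⟨r - 1, by omega⟩
  rw [Finset.sum_range_succ'] at h0
  simp only [pow_zero, Module.End.one_apply] at h0
  have h1 : w ∈ ⨆ (i) (_ : i ≠ j), D i := by
    have hwn : w = -∑ k ∈ Finset.range r', (y ^ (k + 1)) w := by
      rw [eq_neg_iff_add_eq_zero, add_comm]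
      exact h0
    rw [hwn]
    apply Submodule.neg_mem
    apply Submodule.sum_mem
    intro k hk
    have hk' := Finset.mem_range.mp hk
    have hne' := hne (k + 1) (by omega) (by omega)
    exact Submodule.mem_iSup_of_mem ((σ ^ (k + 1)) j)
      (Submodule.mem_iSup_of_mem hne' (pow_apply_mem y D σ hmap (k + 1) j w hw))
  exact (Submodule.disjoint_def.mp (hind j)) w hw h1

end perm

section bounds
variable {F V : Type*} [Field F] [Fintype F] {p : ℕ} [Fact p.Prime] [CharP F p]
  [AddCommGroup V] [Module F V] [FiniteDimensional F V]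
variable {ι : Type*} (y : V →ₗ[F] V) (D : ι → Submodule F V) (σ : Equiv.Perm ι)

theorem nrm_mem_fixE (r : ℕ) (hy : y ^ r = 1) (v : V) : nrm r y v ∈ fixE y :=
  (mem_fixE y _).mpr (apply_nrm r y hy v)

theorem nrm_of_mem_fixE (r : ℕ) (v : V) (hv : v ∈ fixE y) : nrm r y v = (r : F) • v := by
  rw [nrm_apply, Finset.sum_congr rfl (fun k _ => pow_apply_of_mem_fixE y v hv k),
    Finset.sum_const, Finset.card_range, Nat.cast_smul_eq_nsmul]

theorem mem_cycK_iff (r : ℕ) [Fact r.Prime] (z : V) : z ∈ cycK r y ↔ nrm r y z = 0 := by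
  have hr : r.Prime := Fact.out
  rw [cycK, LinearMap.mem_ker, cyclotomic_prime, map_sum, LinearMap.sum_apply, nrm_apply]
  simp only [map_pow, aeval_X]

/-- Lower bound for the fixed space from one moved summand. -/
theorem finrank_le_fixE_of_moved (hind : iSupIndep D) (hmap : ∀ j, (D j).map y = D (σ j))
    (r : ℕ) (hr1 : 1 ≤ r) (hy : y ^ r = 1) (j : ι)
    (hne : ∀ k, 0 < k → k < r → (σ ^ k) j ≠ j) :
    finrank F ↥(D j) ≤ finrank F ↥(fixE y) := by
  let g : ↥(D j) →ₗ[F] ↥(fixE y) :=
    LinearMap.codRestrict (fixE y) ((nrm r y).domRestrict (D j))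
      (fun w => nrm_mem_fixE y r hy (w : V))
  have hginj : Function.Injective g := by
    rw [← LinearMap.ker_eq_bot, LinearMap.ker_eq_bot']
    intro w hw
    have h1 : nrm r y (w : V) = 0 := congrArg Subtype.val hw
    exact Subtype.ext (nrm_inj_on y D σ hind hmap r hr1 j hne w.1 w.2 h1)
  exact LinearMap.finrank_le_finrank_of_injective hginj

theorem finrank_biSup_le {κ : Type*} (s : Finset κ) (W : κ → Submodule F V) :
    finrank F ↥(⨆ i ∈ s, W i) ≤ ∑ i ∈ s, finrank F ↥(W i) := by
  classical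
  induction s using Finset.induction_on with
  | empty => simp
  | insert i s hi ih =>
    rw [Finset.iSup_insert, Finset.sum_insert hi]
    exact (Submodule.finrank_add_le_finrank_add_finrank _ _).trans (Nat.add_le_add_left ih _)

theorem finrank_biSup_of_indep {κ : Type*} (W : κ → Submodule F V) (hW : iSupIndep W)
    (s : Finset κ) : finrank F ↥(⨆ i ∈ s, W i) = ∑ i ∈ s, finrank F ↥(W i) := by
  classical
  induction s using Finset.induction_on with
  | empty => simp
  | insert i s hi ih =>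
    rw [Finset.iSup_insert, Finset.sum_insert hi, ← ih]
    have hd : Disjoint (W i) (⨆ k ∈ s, W k) := by
      have := hW.disjoint_biSup (x := i) (y := (↑s : Set κ)) (by simpa using hi)
      simpa using this
    have h1 := Submodule.finrank_sup_add_finrank_inf_eq (W i) (⨆ k ∈ s, W k)
    rw [hd.eq_bot, finrank_bot, add_zero] at h1
    exact h1

/-- Upper bound for the fixed space from one moved summand. -/
theorem finrank_fixE_add_le_of_moved [Fintype ι] (htop : iSup D = ⊤) (a : ℕ)
    (hfin : ∀ i, finrank F ↥(D i) = a) (hmap : ∀ j, (D j).map y = D (σ j))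
    (r : ℕ) (hr1 : 1 ≤ r) (hrF : (r : F) ≠ 0) (hy : y ^ r = 1) (j : ι)
    (hne : ∀ k, 0 < k → k < r → (σ ^ k) j ≠ j) :
    finrank F ↥(fixE y) + (r - 1) * a ≤ Fintype.card ι * a := by
  classical
  set S : Finset ι := (Finset.range (r - 1)).image (fun k => (σ ^ (k + 1)) j) with hS
  have hScard : S.card = r - 1 := by
    rw [hS, Finset.card_image_of_injOn, Finset.card_range]
    intro k hk l hl hkl
    have hk' : k < r - 1 := Finset.mem_range.mp hk
    have hl' : l < r - 1 := Finset.mem_range.mp hl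
    have hkl' : (σ ^ (k + 1)) j = (σ ^ (l + 1)) j := hkl
    by_contra hne2
    rcases Nat.lt_or_gt_of_ne hne2 with h | h
    · -- k < l
      have h1 : (σ ^ (l - k)) j = j := by
        have h2 : (σ ^ (l + 1)) j = (σ ^ (k + 1)) ((σ ^ (l - k)) j) := by
          rw [← Equiv.Perm.mul_apply, ← pow_add]
          congr 2
          omega
        rw [h2] at hkl'
        exact ((σ ^ (k + 1)).injective hkl').symm
      exact hne (l - k) (by omega) (by omega) h1
    · have h1 : (σ ^ (k - l)) j = j := by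
        have h2 : (σ ^ (k + 1)) j = (σ ^ (l + 1)) ((σ ^ (k - l)) j) := by
          rw [← Equiv.Perm.mul_apply, ← pow_add]
          congr 2
          omega
        rw [h2] at hkl'
        exact (σ ^ (l + 1)).injective hkl'
      exact hne (k - l) (by omega) (by omega) h1
  have hjS : j ∉ S := by
    intro hj
    obtain ⟨k, hk, hkj⟩ := Finset.mem_image.mp hj
    have hk' : k < r - 1 := Finset.mem_range.mp hk
    exact hne (k + 1) (by omega) (by omega) hkj
  set T : Finset ι := Finset.univ \ S with hT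
  have hjT : j ∈ T := Finset.mem_sdiff.mpr ⟨Finset.mem_univ j, hjS⟩
  have hTcard : T.card + (r - 1) = Fintype.card ι := by
    rw [← hScard, hT, Finset.card_sdiff_add_card_eq_card (Finset.subset_univ S),
      Finset.card_univ]
  -- the fixed space is contained in the image of the norm map
  have hle1 : fixE y ≤ (⊤ : Submodule F V).map (nrm r y) := by
    intro v hv
    refine ⟨(r : F)⁻¹ • v, Submodule.mem_top, ?_⟩
    rw [map_smul, nrm_of_mem_fixE y r v hv, smul_smul, inv_mul_cancel₀ hrF, one_smul]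
  have hle2 : (⊤ : Submodule F V).map (nrm r y) ≤ ⨆ i ∈ T, (D i).map (nrm r y) := by
    rw [← htop, Submodule.map_iSup]
    apply iSup_le
    intro i
    by_cases hi : i ∈ S
    · obtain ⟨k, -, rfl⟩ := Finset.mem_image.mp hi
      have h1 : (D ((σ ^ (k + 1)) j)).map (nrm r y) = (D j).map (nrm r y) := by
        rw [← map_pow_eq y D σ hmap (k + 1) j, ← Submodule.map_comp, ← Module.End.mul_eq_comp,
          nrm_mul_pow r y hy]
      rw [h1]
      exact le_iSup₂ (f := fun i (_ : i ∈ T) => (D i).map (nrm r y)) j hjT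
    · exact le_iSup₂ (f := fun i (_ : i ∈ T) => (D i).map (nrm r y)) i
        (Finset.mem_sdiff.mpr ⟨Finset.mem_univ i, hi⟩)
  have h3 : finrank F ↥(fixE y) ≤ T.card * a := by
    calc finrank F ↥(fixE y) ≤ finrank F ↥(⨆ i ∈ T, (D i).map (nrm r y)) :=
          Submodule.finrank_mono (hle1.trans hle2)
      _ ≤ ∑ i ∈ T, finrank F ↥((D i).map (nrm r y)) := finrank_biSup_le T _
      _ ≤ ∑ _i ∈ T, a := Finset.sum_le_sum (fun i _ => by
          rw [← hfin i]; exact Submodule.finrank_map_le _ _)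
      _ = T.card * a := by rw [Finset.sum_const, smul_eq_mul]
  calc finrank F ↥(fixE y) + (r - 1) * a ≤ T.card * a + (r - 1) * a := Nat.add_le_add_right h3 _
    _ = (T.card + (r - 1)) * a := by ring
    _ = Fintype.card ι * a := by rw [hTcard]

end bounds

end Cfsg.Agent.Lib.Helper4.EqDec
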