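import Mathlib
import Cfsg.Agent.Lib.Helper4.EqDec9

set_option autoImplicit false
set_option linter.unusedSectionVars false
set_option linter.style.haveILetI false

/-! Necessary conditions, continued: removal of one orbit of the permutation at a time, and the
resulting inequalities between the number of summands, the fixed space and the cyclotomic
kernel. -/

namespace Cfsg.Agent.Lib.Helper4.EqDec

open Module Polynomial
open Cfsg.Agent.H9SemiInv Cfsg.Agent.Lib.Helper9.H9Elus

section orbit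
variable {ι : Type*} [DecidableEq ι] (σ : Equiv.Perm ι)

/-- The orbit of `j` as a finset (for a permutation with `σ ^ r` fixing `j`). -/
def orb (r : ℕ) (j : ι) : Finset ι := (Finset.range r).image (fun k => (σ ^ k) j)

theorem mem_orb_self (r : ℕ) (hr : 0 < r) (j : ι) : j ∈ orb σ r j :=
  Finset.mem_image.mpr ⟨0, Finset.mem_range.mpr hr, by simp⟩

theorem card_orb_le (r : ℕ) (j : ι) : (orb σ r j).card ≤ r :=
  Finset.card_image_le.trans (Finset.card_range r).le

theorem pow_mem_orb (r : ℕ) (j : ι) (k : ℕ) (hk : k < r) : (σ ^ k) j ∈ orb σ r j :=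
  Finset.mem_image.mpr ⟨k, Finset.mem_range.mpr hk, rfl⟩

theorem apply_mem_orb (r : ℕ) (hr : 0 < r) (j : ι) (hσ : (σ ^ r) j = j) (i : ι)
    (hi : i ∈ orb σ r j) : σ i ∈ orb σ r j := by
  obtain ⟨k, hk, rfl⟩ := Finset.mem_image.mp hi
  have hk' := Finset.mem_range.mp hk
  have h1 : σ ((σ ^ k) j) = (σ ^ (k + 1)) j := by
    rw [pow_succ', Equiv.Perm.mul_apply]
  rw [h1]
  by_cases hkr : k + 1 < r
  · exact pow_mem_orb σ r j (k + 1) hkr
  · have hk1 : k + 1 = r := by omega
    rw [hk1, hσ]
    exact mem_orb_self σ r hr j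

theorem apply_not_mem_orb (r : ℕ) (hr : 0 < r) (j : ι) (hσ : (σ ^ r) j = j) (i : ι)
    (hi : i ∉ orb σ r j) : σ i ∉ orb σ r j := by
  intro h
  apply hi
  obtain ⟨k, hk, hki⟩ := Finset.mem_image.mp h
  have hk' := Finset.mem_range.mp hk
  have hki' : (σ ^ k) j = σ i := hki
  rcases Nat.eq_zero_or_pos k with hk0 | hkpos
  · subst hk0
    have h1 : σ i = σ ((σ ^ (r - 1)) j) := by
      have h2 : σ ((σ ^ (r - 1)) j) = (σ ^ (r - 1 + 1)) j := by
        rw [pow_succ', Equiv.Perm.mul_apply]
      rw [h2, Nat.sub_add_cancel hr, hσ, ← hki', pow_zero, Equiv.Perm.coe_one, id_eq]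
    rw [σ.injective h1]
    exact pow_mem_orb σ r j (r - 1) (by omega)
  · have h1 : σ i = σ ((σ ^ (k - 1)) j) := by
      have h2 : σ ((σ ^ (k - 1)) j) = (σ ^ (k - 1 + 1)) j := by
        rw [pow_succ', Equiv.Perm.mul_apply]
      rw [h2, Nat.sub_add_cancel hkpos, hki']
    rw [σ.injective h1]
    exact pow_mem_orb σ r j (k - 1) (by omega)

end orbit

section orbitRemoval
variable {F V : Type*} [Field F] [Fintype F] {p : ℕ} [Fact p.Prime] [CharP F p]
  [AddCommGroup V] [Module F V] [FiniteDimensional F V]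
variable {ι : Type*} [DecidableEq ι] (y : V →ₗ[F] V) (D : ι → Submodule F V) (σ : Equiv.Perm ι)

/-- Removing one orbit at a time: every orbit of the permutation contributes at least `b` to the
dimension of the fixed space, and has at most `r` elements. -/
theorem card_mul_le_mul_finrank_fixE (hind : iSupIndep D)
    (hmap : ∀ j, (D j).map y = D (σ j)) (r : ℕ) (hr : r.Prime) (hy : y ^ r = 1)
    (hσ : ∀ j, (σ ^ r) j = j) (b : ℕ)
    (hfix : ∀ j, σ j = j → b ≤ finrank F ↥(D j ⊓ fixE y))
    (hmov : ∀ j, σ j ≠ j → b ≤ finrank F ↥(D j)) :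
    ∀ (m : ℕ) (s : Finset ι), s.card = m → (∀ j ∈ s, σ j ∈ s) →
      s.card * b ≤ r * finrank F ↥((⨆ j ∈ s, D j) ⊓ fixE y) := by
  intro m
  induction m using Nat.strong_induction_on with
  | _ m ih =>
    intro s hcard hs
    rcases s.eq_empty_or_nonempty with rfl | ⟨j, hj⟩
    · simp
    · have hrpos : 0 < r := hr.pos
      set O := orb σ r j with hO
      have hjO : j ∈ O := mem_orb_self σ r hrpos j
      have hpow_s : ∀ k, (σ ^ k) j ∈ s := by
        intro k
        induction k with
        | zero => simpa using hj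
        | succ k ihk =>
          rw [pow_succ', Equiv.Perm.mul_apply]
          exact hs _ ihk
      have hOs : O ⊆ s := by
        intro i hi
        obtain ⟨k, -, rfl⟩ := Finset.mem_image.mp hi
        exact hpow_s k
      have hOcl : ∀ i ∈ O, σ i ∈ O := apply_mem_orb σ r hrpos j (hσ j)
      have hs'cl : ∀ i ∈ s \ O, σ i ∈ s \ O := by
        intro i hi
        obtain ⟨hi1, hi2⟩ := Finset.mem_sdiff.mp hi
        exact Finset.mem_sdiff.mpr ⟨hs i hi1, apply_not_mem_orb σ r hrpos j (hσ j) i hi2⟩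
      have hcard2 : (s \ O).card + O.card = s.card := Finset.card_sdiff_add_card_eq_card hOs
      have hOpos : 0 < O.card := Finset.card_pos.mpr ⟨j, hjO⟩
      have hOle : O.card ≤ r := card_orb_le σ r j
      have ih' := ih (s \ O).card (by omega) (s \ O) rfl hs'cl
      have hU : (⨆ i ∈ s, D i) = (⨆ i ∈ O, D i) ⊔ (⨆ i ∈ s \ O, D i) := by
        rw [← Finset.iSup_union, Finset.union_sdiff_of_subset hOs]
      have hdisj : Disjoint (⨆ i ∈ O, D i) (⨆ i ∈ s \ O, D i) := by
        have := hind.disjoint_biSup_biSup (s := (↑O : Set ι)) (t := (↑(s \ O) : Set ι))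
          (by rw [Finset.disjoint_coe]; exact Finset.disjoint_sdiff)
        simpa using this
      have hinvO : Inv y (⨆ i ∈ O, D i) := inv_biSup y D σ hmap O hOcl
      have hinvS : Inv y (⨆ i ∈ s \ O, D i) := inv_biSup y D σ hmap (s \ O) hs'cl
      have hsplit : finrank F ↥(((⨆ i ∈ O, D i) ⊔ (⨆ i ∈ s \ O, D i)) ⊓ fixE y) =
          finrank F ↥((⨆ i ∈ O, D i) ⊓ fixE y) + finrank F ↥((⨆ i ∈ s \ O, D i) ⊓ fixE y) :=
        finrank_ker_inf_sup_of_disjoint (aeval y (X - 1 : F[X])) _ _
          (Inv.aeval hinvO _) (Inv.aeval hinvS _) hdisj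
      have hbO : b ≤ finrank F ↥((⨆ i ∈ O, D i) ⊓ fixE y) := by
        have hDj : D j ≤ ⨆ i ∈ O, D i := le_iSup₂ (f := fun i (_ : i ∈ O) => D i) j hjO
        by_cases hfj : σ j = j
        · exact (hfix j hfj).trans (Submodule.finrank_mono (inf_le_inf_right _ hDj))
        · have hne : ∀ k, 0 < k → k < r → (σ ^ k) j ≠ j := fun k hk0 hkr =>
            perm_pow_ne σ r hr hσ hfj hk0 hkr
          have hmemO : ∀ w : ↥(D j),
              ((nrm r y).domRestrict (D j)) w ∈ (⨆ i ∈ O, D i) ⊓ fixE y := by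
            intro w
            refine ⟨?_, nrm_mem_fixE y r hy _⟩
            show nrm r y (w : V) ∈ ⨆ i ∈ O, D i
            rw [nrm_apply]
            apply Submodule.sum_mem
            intro k hk
            have hk' := Finset.mem_range.mp hk
            exact (le_iSup₂ (f := fun i (_ : i ∈ O) => D i) ((σ ^ k) j)
              (pow_mem_orb σ r j k hk')) (pow_apply_mem y D σ hmap k j w.1 w.2)
          let g : ↥(D j) →ₗ[F] ↥((⨆ i ∈ O, D i) ⊓ fixE y) :=
            LinearMap.codRestrict _ ((nrm r y).domRestrict (D j)) hmemO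
          have hginj : Function.Injective g := by
            rw [← LinearMap.ker_eq_bot, LinearMap.ker_eq_bot']
            intro w hw
            have h1 : nrm r y (w : V) = 0 := congrArg Subtype.val hw
            exact Subtype.ext (nrm_inj_on y D σ hind hmap r hr.one_le j hne w.1 w.2 h1)
          exact (hmov j hfj).trans (LinearMap.finrank_le_finrank_of_injective hginj)
      rw [hU, hsplit, ← hcard2]
      calc ((s \ O).card + O.card) * b = (s \ O).card * b + O.card * b := by ring
        _ ≤ r * finrank F ↥((⨆ i ∈ s \ O, D i) ⊓ fixE y)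
            + r * finrank F ↥((⨆ i ∈ O, D i) ⊓ fixE y) :=
            Nat.add_le_add ih' (Nat.mul_le_mul hOle hbO)
        _ = r * (finrank F ↥((⨆ i ∈ O, D i) ⊓ fixE y)
            + finrank F ↥((⨆ i ∈ s \ O, D i) ⊓ fixE y)) := by ring

end orbitRemoval

section consequences
variable {F V : Type*} [Field F] [Fintype F] {p : ℕ} [Fact p.Prime] [CharP F p]
  [AddCommGroup V] [Module F V] [FiniteDimensional F V]

theorem mod_le_finrank_inf_fixE (r : ℕ) [Fact r.Prime] (hrp : r ≠ p) (y : V →ₗ[F] V)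
    (hy : y ^ r = 1) (W : Submodule F V) (hW : Inv y W) :
    finrank F ↥W % orderOf ((Fintype.card F : ℕ) : ZMod r) ≤ finrank F ↥(W ⊓ fixE y) := by
  have h1 := finrank_inv_split r hrp y hy W hW
  obtain ⟨k, hk⟩ := order_dvd_finrank_inf_cycK r hrp y hy W hW
  rw [hk] at h1
  rw [← h1, Nat.add_mul_mod_self_left]
  exact Nat.mod_le _ _

theorem le_fixE_of_finrank_lt (r : ℕ) [Fact r.Prime] (hrp : r ≠ p) (y : V →ₗ[F] V)
    (hy : y ^ r = 1) (W : Submodule F V) (hW : Inv y W)
    (hlt : finrank F ↥W < orderOf ((Fintype.card F : ℕ) : ZMod r)) : W ≤ fixE y := by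
  have h1 := finrank_inv_split r hrp y hy W hW
  obtain ⟨k, hk⟩ := order_dvd_finrank_inf_cycK r hrp y hy W hW
  set c := orderOf ((Fintype.card F : ℕ) : ZMod r) with hc
  have hk0 : k = 0 := by
    by_contra hne
    have h2 : c ≤ c * k := Nat.le_mul_of_pos_right _ (Nat.pos_of_ne_zero hne)
    omega
  rw [hk, hk0, mul_zero, add_zero] at h1
  have h2 : W ⊓ fixE y = W := Submodule.eq_of_le_of_finrank_eq inf_le_left h1
  rw [← h2]
  exact inf_le_right

variable {ι : Type*} [Fintype ι] (y : V →ₗ[F] V) (D : ι → Submodule F V) (σ : Equiv.Perm ι)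

/-- A decomposition with a moved summand: bounds on the fixed space. -/
theorem bounds_of_moved (r : ℕ) [Fact r.Prime] (hrp : r ≠ p) (hy : y ^ r = 1) (a : ℕ)
    (ha : 1 ≤ a) (hfin : ∀ i, finrank F ↥(D i) = a) (hind : iSupIndep D) (htop : iSup D = ⊤)
    (hmap : ∀ j, (D j).map y = D (σ j)) (j : ι) (hj : σ j ≠ j) :
    a ≤ finrank F ↥(fixE y) ∧ finrank F ↥(fixE y) + (r - 1) * a ≤ Fintype.card ι * a := by
  have hr : r.Prime := Fact.out
  have hinj : Function.Injective D := hind.injective (fun i h => by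
    have h1 := hfin i
    rw [h, finrank_bot] at h1
    omega)
  have hσ : ∀ j, (σ ^ r) j = j := perm_pow_apply y D σ hmap hinj r hy
  have hne : ∀ k, 0 < k → k < r → (σ ^ k) j ≠ j := fun k hk0 hkr =>
    perm_pow_ne σ r hr hσ hj hk0 hkr
  refine ⟨?_, ?_⟩
  · rw [← hfin j]
    exact finrank_le_fixE_of_moved y D σ hind hmap r hr.one_le hy j hne
  · exact finrank_fixE_add_le_of_moved y D σ htop a hfin hmap r hr.one_le
      (cast_ne_zero_of_ne r hrp) hy j hne

/-- A decomposition all of whose summands are invariant. -/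
theorem sum_le_of_fixed (hind : iSupIndep D) :
    ∑ j, finrank F ↥(D j ⊓ fixE y) ≤ finrank F ↥(fixE y) := by
  have hind' : iSupIndep (fun j => D j ⊓ fixE y) := hind.mono (fun j => inf_le_left)
  have h1 := finrank_biSup_of_indep (fun j => D j ⊓ fixE y) hind' Finset.univ
  rw [← h1]
  apply Submodule.finrank_mono
  apply iSup_le
  intro j
  apply iSup_le
  intro _
  exact inf_le_right

theorem mul_mod_le_of_fixed (r : ℕ) [Fact r.Prime] (hrp : r ≠ p) (hy : y ^ r = 1) (a : ℕ)
    (hfin : ∀ i, finrank F ↥(D i) = a) (hind : iSupIndep D)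
    (hmap : ∀ j, (D j).map y = D j) :
    Fintype.card ι * (a % orderOf ((Fintype.card F : ℕ) : ZMod r)) ≤ finrank F ↥(fixE y) := by
  refine le_trans ?_ (sum_le_of_fixed y D hind)
  have h1 : ∀ j ∈ (Finset.univ : Finset ι),
      a % orderOf ((Fintype.card F : ℕ) : ZMod r) ≤ finrank F ↥(D j ⊓ fixE y) := by
    intro j _
    have := mod_le_finrank_inf_fixE r hrp y hy (D j) (inv_of_map_eq y D j (hmap j))
    rwa [hfin j] at this
  have h2 := Finset.sum_le_sum h1
  rwa [Finset.sum_const, smul_eq_mul, Finset.card_univ] at h2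

theorem top_le_fixE_of_fixed (r : ℕ) [Fact r.Prime] (hrp : r ≠ p) (hy : y ^ r = 1) (a : ℕ)
    (hfin : ∀ i, finrank F ↥(D i) = a) (htop : iSup D = ⊤)
    (hmap : ∀ j, (D j).map y = D j)
    (hlt : a < orderOf ((Fintype.card F : ℕ) : ZMod r)) : (⊤ : Submodule F V) ≤ fixE y := by
  rw [← htop]
  apply iSup_le
  intro j
  exact le_fixE_of_finrank_lt r hrp y hy (D j) (inv_of_map_eq y D j (hmap j))
    (by rw [hfin j]; exact hlt)

/-- Lines permuted by `y`, when `ord_r(q) ≥ 2`: at most `r` lines per dimension of the fixed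
space. -/
theorem card_le_mul_finrank_fixE_of_lines (r : ℕ) [Fact r.Prime] (hrp : r ≠ p) (hy : y ^ r = 1)
    (hfin : ∀ i, finrank F ↥(D i) = 1) (hind : iSupIndep D)
    (hmap : ∀ j, (D j).map y = D (σ j))
    (hc : 2 ≤ orderOf ((Fintype.card F : ℕ) : ZMod r)) :
    Fintype.card ι ≤ r * finrank F ↥(fixE y) := by
  classical
  have hr : r.Prime := Fact.out
  have hinj : Function.Injective D := hind.injective (fun i h => by
    have h1 := hfin i
    rw [h, finrank_bot] at h1
    omega)
  have hσ : ∀ j, (σ ^ r) j = j := perm_pow_apply y D σ hmap hinj r hy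
  have hfix : ∀ j, σ j = j → 1 ≤ finrank F ↥(D j ⊓ fixE y) := by
    intro j hj
    have hm : (D j).map y = D j := by rw [hmap j, hj]
    have hle := le_fixE_of_finrank_lt r hrp y hy (D j) (inv_of_map_eq y D j hm)
      (by rw [hfin j]; omega)
    rw [inf_eq_left.mpr hle, hfin j]
  have hmov : ∀ j, σ j ≠ j → 1 ≤ finrank F ↥(D j) := fun j _ => by rw [hfin j]
  have h1 := card_mul_le_mul_finrank_fixE y D σ hind hmap r hr hy hσ 1 hfix hmov
    (Finset.univ : Finset ι).card Finset.univ rfl (fun j _ => Finset.mem_univ _)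
  rw [mul_one, Finset.card_univ] at h1
  refine h1.trans (Nat.mul_le_mul_left r (Submodule.finrank_mono inf_le_right))

end consequences

end Cfsg.Agent.Lib.Helper4.EqDec
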