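import Mathlib
import Cfsg.Prelude.Def_GeometricClasses
import Cfsg.Agent.Lib.Helper4.EqDecA

set_option autoImplicit false
set_option linter.unusedSectionVars false
set_option linter.style.haveILetI false

/-! Counting decompositions: the number of (ordered) decompositions of `F^n` into `t` subspaces of
dimension `a` divides `|GL_n(F)|` and is divisible by `t!`; consequence for a prime dividing the
number of unordered decompositions. -/

namespace Cfsg.Agent.Lib.Helper4.EqDec

open Module Polynomial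
open Cfsg.Agent.H9SemiInv Cfsg.Agent.Lib.Helper9.H9Elus

section free

theorem card_dvd_of_free {P X : Type*} [Group P] [Finite P] [MulAction P X] [Finite X]
    (hfree : ∀ (g : P) (x : X), g • x = x → g = 1) : Nat.card P ∣ Nat.card X := by
  classical
  haveI : Fintype (Quotient (MulAction.orbitRel P X)) := Fintype.ofFinite _
  have e := MulAction.selfEquivSigmaOrbitsQuotientStabilizer P X
  rw [Nat.card_congr e, Nat.card_sigma]
  apply Finset.dvd_sum
  intro ω _
  have hstab : MulAction.stabilizer P (Quotient.out ω) = ⊥ := by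
    rw [Subgroup.eq_bot_iff_forall]
    intro g hg
    exact hfree g _ (MulAction.mem_stabilizer_iff.mp hg)
  rw [hstab, ← Subgroup.index_eq_card, Subgroup.index_bot]

end free

section count
variable {F : Type*} [Field F] {n : ℕ}

theorem isMDec_map {t a : ℕ} (e : (Fin n → F) ≃ₗ[F] (Fin n → F))
    {D : Fin t → Submodule F (Fin n → F)} (hD : Cfsg.Geo.IsMDecomposition a D) :
    Cfsg.Geo.IsMDecomposition a
      (fun j => (D j).map (e : (Fin n → F) →ₗ[F] (Fin n → F))) where
  two_le := hD.two_le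
  pos := hD.pos
  finrank_eq i := by
    rw [LinearEquiv.finrank_map_eq e (D i)]
    exact hD.finrank_eq i
  indep := by
    intro i
    have h1 := hD.indep i
    have h2 : (⨆ (j) (_ : j ≠ i), (D j).map (e : (Fin n → F) →ₗ[F] (Fin n → F))) =
        (⨆ (j) (_ : j ≠ i), D j).map (e : (Fin n → F) →ₗ[F] (Fin n → F)) := by
      simp only [Submodule.map_iSup]
    show Disjoint ((D i).map (e : (Fin n → F) →ₗ[F] (Fin n → F)))
      (⨆ (j) (_ : j ≠ i), (D j).map (e : (Fin n → F) →ₗ[F] (Fin n → F)))
    rw [h2, disjoint_iff,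
      ← Submodule.map_inf (e : (Fin n → F) →ₗ[F] (Fin n → F)) e.injective, h1.eq_bot,
      Submodule.map_bot]
  iSup_eq_top := by
    show (⨆ j, (D j).map (e : (Fin n → F) →ₗ[F] (Fin n → F))) = ⊤
    rw [← Submodule.map_iSup, hD.iSup_eq_top, Submodule.map_top, LinearEquiv.range]

theorem exists_equiv_of_isMDec {t a : ℕ} {D D' : Fin t → Submodule F (Fin n → F)}
    (hD : Cfsg.Geo.IsMDecomposition a D) (hD' : Cfsg.Geo.IsMDecomposition a D') :
    ∃ e : (Fin n → F) ≃ₗ[F] (Fin n → F),
      ∀ j, (D j).map (e : (Fin n → F) →ₗ[F] (Fin n → F)) = D' j := by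
  classical
  have hInt := DirectSum.isInternal_submodule_of_iSupIndep_of_iSup_eq_top hD.indep hD.iSup_eq_top
  have hInt' :=
    DirectSum.isInternal_submodule_of_iSupIndep_of_iSup_eq_top hD'.indep hD'.iSup_eq_top
  let v : ∀ j, Basis (Fin a) F (D j) := fun j =>
    Module.finBasisOfFinrankEq F (D j) (hD.finrank_eq j)
  let v' : ∀ j, Basis (Fin a) F (D' j) := fun j =>
    Module.finBasisOfFinrankEq F (D' j) (hD'.finrank_eq j)
  let B := hInt.collectedBasis v
  let B' := hInt'.collectedBasis v'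
  let e : (Fin n → F) ≃ₗ[F] (Fin n → F) := B.equiv B' (Equiv.refl _)
  have hle : ∀ j, (D j).map (e : (Fin n → F) →ₗ[F] (Fin n → F)) ≤ D' j := by
    intro j
    have hspan : Submodule.span F (Set.range (fun k => ((v j k : D j) : Fin n → F))) = D j := by
      have h1 := (v j).span_eq
      have h2 := congrArg (Submodule.map (D j).subtype) h1
      rw [Submodule.map_span, Submodule.map_subtype_top, ← Set.range_comp] at h2
      exact h2
    rw [← hspan, Submodule.map_span, Submodule.span_le]
    rintro _ ⟨_, ⟨k, rfl⟩, rfl⟩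
    have h3 : ((v j k : D j) : Fin n → F) = B ⟨j, k⟩ := by
      show _ = hInt.collectedBasis v ⟨j, k⟩
      rw [hInt.collectedBasis_coe]
    show e ((v j k : D j) : Fin n → F) ∈ D' j
    rw [h3]
    have h4 : e (B ⟨j, k⟩) = B' ⟨j, k⟩ := by
      show (B.equiv B' (Equiv.refl _)) (B ⟨j, k⟩) = _
      rw [Basis.equiv_apply]
      rfl
    rw [h4]
    exact hInt'.collectedBasis_mem v' ⟨j, k⟩
  refine ⟨e, fun j => ?_⟩
  apply Submodule.eq_of_le_of_finrank_eq (hle j)
  rw [LinearEquiv.finrank_map_eq e (D j), hD.finrank_eq, hD'.finrank_eq]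

/-- The action of the linear automorphisms on the decompositions. -/
@[reducible] noncomputable def decAct (t a : ℕ) :
    MulAction ((Fin n → F) ≃ₗ[F] (Fin n → F))
      {D : Fin t → Submodule F (Fin n → F) // Cfsg.Geo.IsMDecomposition a D} where
  smul e D := ⟨fun j => (D.1 j).map (e : (Fin n → F) →ₗ[F] (Fin n → F)), isMDec_map e D.2⟩
  one_smul D := by
    apply Subtype.ext
    funext j
    show (D.1 j).map ((1 : (Fin n → F) ≃ₗ[F] (Fin n → F)) : (Fin n → F) →ₗ[F] (Fin n → F))
      = D.1 j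
    exact Submodule.map_id _
  mul_smul e e' D := by
    apply Subtype.ext
    funext j
    show (D.1 j).map ((e * e' : (Fin n → F) ≃ₗ[F] (Fin n → F)) : (Fin n → F) →ₗ[F] (Fin n → F))
      = ((D.1 j).map (e' : (Fin n → F) →ₗ[F] (Fin n → F))).map
          (e : (Fin n → F) →ₗ[F] (Fin n → F))
    rw [← Submodule.map_comp]
    rfl

theorem card_decomp_dvd (t a : ℕ)
    (x : {D : Fin t → Submodule F (Fin n → F) // Cfsg.Geo.IsMDecomposition a D}) :
    Nat.card {D : Fin t → Submodule F (Fin n → F) // Cfsg.Geo.IsMDecomposition a D} ∣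
      Nat.card ((Fin n → F) ≃ₗ[F] (Fin n → F)) := by
  classical
  letI := decAct (F := F) (n := n) t a
  haveI : MulAction.IsPretransitive ((Fin n → F) ≃ₗ[F] (Fin n → F))
      {D : Fin t → Submodule F (Fin n → F) // Cfsg.Geo.IsMDecomposition a D} :=
    ⟨fun D D' => by
      obtain ⟨e, he⟩ := exists_equiv_of_isMDec D.2 D'.2
      exact ⟨e, Subtype.ext (funext he)⟩⟩
  rw [← MulAction.index_stabilizer_of_transitive ((Fin n → F) ≃ₗ[F] (Fin n → F)) x]
  exact Subgroup.index_dvd_card _

theorem isMDec_comp {t a : ℕ} (π : Equiv.Perm (Fin t)) {D : Fin t → Submodule F (Fin n → F)}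
    (hD : Cfsg.Geo.IsMDecomposition a D) : Cfsg.Geo.IsMDecomposition a (fun j => D (π j)) where
  two_le := hD.two_le
  pos := hD.pos
  finrank_eq i := hD.finrank_eq (π i)
  indep := hD.indep.comp π.injective
  iSup_eq_top := by
    rw [← hD.iSup_eq_top]
    exact Equiv.iSup_comp (g := D) π

/-- The action of the symmetric group on the (ordered) decompositions. -/
@[reducible] noncomputable def permAct (t a : ℕ) :
    MulAction (Equiv.Perm (Fin t))
      {D : Fin t → Submodule F (Fin n → F) // Cfsg.Geo.IsMDecomposition a D} where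
  smul π D := ⟨fun j => D.1 (π⁻¹ j), isMDec_comp π⁻¹ D.2⟩
  one_smul D := by
    apply Subtype.ext
    funext j
    show D.1 ((1 : Equiv.Perm (Fin t))⁻¹ j) = D.1 j
    rw [inv_one, Equiv.Perm.coe_one, id_eq]
  mul_smul π π' D := by
    apply Subtype.ext
    funext j
    show D.1 ((π * π')⁻¹ j) = D.1 (π'⁻¹ (π⁻¹ j))
    rw [mul_inv_rev, Equiv.Perm.mul_apply]

theorem factorial_dvd_card_decomp (t a : ℕ) [Finite F] :
    Nat.factorial t ∣
      Nat.card {D : Fin t → Submodule F (Fin n → F) // Cfsg.Geo.IsMDecomposition a D} := by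
  classical
  letI := permAct (F := F) (n := n) t a
  have h1 : Nat.card (Equiv.Perm (Fin t)) = Nat.factorial t := by
    rw [Nat.card_perm, Nat.card_fin]
  rw [← h1]
  apply card_dvd_of_free
  intro π D hπ
  have hinj : Function.Injective D.1 := D.2.indep.injective (fun i h => by
    have h2 := D.2.finrank_eq i
    rw [h, finrank_bot] at h2
    have := D.2.pos
    omega)
  have h2 : ∀ j, D.1 (π⁻¹ j) = D.1 j := fun j => congrFun (congrArg Subtype.val hπ) j
  have h3 : π⁻¹ = 1 := by
    ext j
    rw [hinj (h2 j)]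
    rfl
  exact inv_eq_one.mp h3

theorem exists_isMDec (a t : ℕ) (hat : n = a * t) (ha : 1 ≤ a) (ht : 2 ≤ t) :
    ∃ D : Fin t → Submodule F (Fin n → F), Cfsg.Geo.IsMDecomposition a D := by
  classical
  let eq : Fin t × Fin a ≃ Fin n := finProdFinEquiv.trans (finCongr (by rw [hat, mul_comm]))
  let v : Fin t × Fin a → (Fin n → F) := fun i => Pi.basisFun F (Fin n) (eq i)
  have hv : LinearIndependent F v :=
    (Pi.basisFun F (Fin n)).linearIndependent.comp eq eq.injective
  have hspan : Submodule.span F (Set.range v) = ⊤ := by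
    have h1 : Set.range v = Set.range (Pi.basisFun F (Fin n)) := by
      show Set.range ((Pi.basisFun F (Fin n)) ∘ eq) = _
      rw [Set.range_comp, Equiv.range_eq_univ, Set.image_univ]
    rw [h1]
    exact (Pi.basisFun F (Fin n)).span_eq
  obtain ⟨D, hfin, hind, htop, -⟩ := basis_blocks v hv hspan Prod.fst a
    (fun j => by rw [card_fst_fiber, Fintype.card_fin])
    LinearMap.id Function.injective_id 1 (fun i => Submodule.subset_span ⟨i, rfl, rfl⟩)
  exact ⟨D, ⟨ht, ha, hfin, hind, htop⟩⟩

end count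

section final
variable {F : Type*} [Field F] [Fintype F] {p : ℕ} [Fact p.Prime] [CharP F p] {n : ℕ}

theorem order_dvd_pred (r : ℕ) [Fact r.Prime] (hrp : r ≠ p) :
    orderOf ((Fintype.card F : ℕ) : ZMod r) ∣ r - 1 := by
  have hr : r.Prime := Fact.out
  have hp : p.Prime := Fact.out
  obtain ⟨f, -, hf⟩ := FiniteField.card F p
  have hcop : (Fintype.card F).Coprime r := by
    rw [hf]
    apply Nat.Coprime.pow_left
    rw [Nat.coprime_primes hp hr]
    exact fun h => hrp h.symm
  have hu : IsUnit ((Fintype.card F : ℕ) : ZMod r) := (ZMod.isUnit_iff_coprime _ _).mpr hcop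
  apply orderOf_dvd_of_pow_eq_one
  exact ZMod.pow_card_sub_one_eq_one hu.ne_zero

theorem order_le_of_dvd_card_GL (r : ℕ) [Fact r.Prime] (hrp : r ≠ p)
    (h : r ∣ Nat.card (GL (Fin n) F)) : orderOf ((Fintype.card F : ℕ) : ZMod r) ≤ n := by
  have hr : r.Prime := Fact.out
  have hp : p.Prime := Fact.out
  obtain ⟨f, -, hf⟩ := FiniteField.card F p
  have hcop : (Fintype.card F).Coprime r := by
    rw [hf]
    apply Nat.Coprime.pow_left
    rw [Nat.coprime_primes hp hr]
    exact fun h => hrp h.symm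
  have hq1 : 1 ≤ Fintype.card F := Fintype.card_pos
  rw [Matrix.card_GL_field] at h
  obtain ⟨i, -, hi⟩ := (Nat.Prime.prime hr).exists_mem_finset_dvd h
  have hilt : (i : ℕ) < n := i.2
  have h1 : Fintype.card F ^ n - Fintype.card F ^ (i : ℕ) =
      Fintype.card F ^ (i : ℕ) * (Fintype.card F ^ (n - (i : ℕ)) - 1) := by
    rw [Nat.mul_sub, mul_one, ← pow_add, Nat.add_sub_cancel' hilt.le]
  rw [h1] at hi
  rcases (Nat.Prime.dvd_mul hr).mp hi with h2 | h2
  · exfalso
    have h3 := hr.dvd_of_dvd_pow h2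
    exact ((Nat.Prime.coprime_iff_not_dvd hr).mp hcop.symm) h3
  · have h3 := (orderOf_dvd_iff_dvd r (Fintype.card F) hq1 (n - (i : ℕ))).mpr h2
    have h4 := Nat.le_of_dvd (by omega) h3
    omega

theorem order_le_of_dvd_card_decomp (a t : ℕ) (hat : n = a * t) (ha : 1 ≤ a) (ht : 2 ≤ t)
    (r : ℕ) [Fact r.Prime] (hrp : r ≠ p)
    (h : r ∣ Nat.card {D : Fin t → Submodule F (Fin n → F) // Cfsg.Geo.IsMDecomposition a D}
      / Nat.factorial t) :
    orderOf ((Fintype.card F : ℕ) : ZMod r) ≤ n := by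
  obtain ⟨D, hD⟩ := exists_isMDec (F := F) a t hat ha ht
  have h1 := factorial_dvd_card_decomp (F := F) (n := n) t a
  have h2 := card_decomp_dvd (F := F) (n := n) t a ⟨D, hD⟩
  have h3 : r ∣ Nat.card ((Fin n → F) ≃ₗ[F] (Fin n → F)) :=
    (h.trans (Nat.div_dvd_of_dvd h1)).trans h2
  have h4 : Nat.card ((Fin n → F) ≃ₗ[F] (Fin n → F)) = Nat.card (GL (Fin n) F) :=
    (Nat.card_congr (Matrix.GeneralLinearGroup.toLin.trans
      (LinearMap.GeneralLinearGroup.generalLinearEquiv F (Fin n → F))).toEquiv).symm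
  rw [h4] at h3
  exact order_le_of_dvd_card_GL r hrp h3

end final

end Cfsg.Agent.Lib.Helper4.EqDec
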