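import Mathlib
import Cfsg.Agent.Lib.Helper9.Elus11
import Cfsg.Agent.Lib.Helper4.EqDecB

set_option autoImplicit false
set_option linter.unusedSectionVars false
set_option linter.style.haveILetI false

/-! A model element of order `r` in `SL_n(F)` with exactly one nontrivial (cyclotomic) block. -/

namespace Cfsg.Agent.Lib.Helper4.EqDec

open Module Polynomial
open Cfsg.Agent.H9SemiInv Cfsg.Agent.Lib.Helper9.H9Elus

section modelOne
variable {F : Type*} [Field F] [Fintype F] {p : ℕ} [Fact p.Prime] [CharP F p]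

theorem model_one_block (r : ℕ) [Fact r.Prime] (hrp : r ≠ p) (n : ℕ)
    (hi : 2 ≤ orderOf ((Fintype.card F : ℕ) : ZMod r))
    (hin : orderOf ((Fintype.card F : ℕ) : ZMod r) ≤ n) :
    ∃ x : Matrix.SpecialLinearGroup (Fin n) F,
      ((x ^ r : Matrix.SpecialLinearGroup (Fin n) F) : Matrix (Fin n) (Fin n) F) = 1 ∧
      (∀ c' : F, (x : Matrix (Fin n) (Fin n) F) ≠ c' • 1) ∧
      n - orderOf ((Fintype.card F : ℕ) : ZMod r) ≤
        finrank F (LinearMap.ker (aeval (Matrix.toLin' (x : Matrix (Fin n) (Fin n) F))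
          (X - 1 : F[X]))) := by
  classical
  have hr : r.Prime := Fact.out
  set i := orderOf ((Fintype.card F : ℕ) : ZMod r) with hidef
  have hnu : ¬ IsUnit (cyclotomic r F) := by
    intro hu
    have := natDegree_eq_zero_of_isUnit hu
    rw [natDegree_cyclotomic, Nat.totient_prime hr] at this
    have := hr.two_le
    omega
  obtain ⟨g, hg, hgd⟩ := WfDvdMonoid.exists_irreducible_factor hnu (cyclotomic_ne_zero r F)
  have hgdeg : g.natDegree = i := natDegree_of_dvd_cyclotomic r hrp g hg hgd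
  haveI : Fact (Irreducible g) := ⟨hg⟩
  have hg0 : g ≠ 0 := hg.ne_zero
  haveI : FiniteDimensional F (AdjoinRoot g) := (AdjoinRoot.powerBasis hg0).finite
  have hK : finrank F (AdjoinRoot g) = i := by
    rw [(AdjoinRoot.powerBasis hg0).finrank, AdjoinRoot.powerBasis_dim, hgdeg]
  have hV₀ : finrank F ((Fin (n - i) → F) × AdjoinRoot g) = n := by
    rw [Module.finrank_prod, Module.finrank_fin_fun, hK]
    omega
  have hroot : (AdjoinRoot.root g) ^ r = 1 := by
    have hdvd : g ∣ X ^ r - 1 := by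
      rw [← cyclotomic_prime_mul_X_sub_one F r]
      exact Dvd.dvd.mul_right hgd _
    obtain ⟨s, hs⟩ := hdvd
    have h := congrArg (eval₂ (AdjoinRoot.of g) (AdjoinRoot.root g)) hs
    rw [eval₂_mul, AdjoinRoot.eval₂_root, zero_mul, eval₂_sub, eval₂_pow, eval₂_X, eval₂_one,
      sub_eq_zero] at h
    exact h
  have hrootF : ∀ c' : F, AdjoinRoot.root g ≠ algebraMap F (AdjoinRoot g) c' := by
    intro c' h
    have h1 : AdjoinRoot.mk g X = AdjoinRoot.mk g (C c') := by
      rw [AdjoinRoot.mk_X, AdjoinRoot.mk_C, h, AdjoinRoot.algebraMap_eq]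
    rw [AdjoinRoot.mk_eq_mk] at h1
    have h2 := natDegree_le_of_dvd h1 (X_sub_C_ne_zero c')
    rw [natDegree_X_sub_C, hgdeg] at h2
    omega
  let L : AdjoinRoot g →ₗ[F] AdjoinRoot g :=
    Algebra.lsmul F F (AdjoinRoot g) (AdjoinRoot.root g)
  have hL : L ^ r = 1 := by
    show (Algebra.lsmul F F (AdjoinRoot g) (AdjoinRoot.root g)) ^ r = 1
    rw [← map_pow, hroot, map_one]
  let y₀ : ((Fin (n - i) → F) × AdjoinRoot g) →ₗ[F] ((Fin (n - i) → F) × AdjoinRoot g) :=
    LinearMap.prodMap (1 : (Fin (n - i) → F) →ₗ[F] (Fin (n - i) → F)) L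
  have hy₀ : y₀ ^ r = 1 := by
    show (LinearMap.prodMap (1 : (Fin (n - i) → F) →ₗ[F] (Fin (n - i) → F)) L) ^ r = 1
    rw [prodMap_pow', one_pow, hL, LinearMap.prodMap_one]
  have hy₀app : ∀ v, y₀ v = (v.1, AdjoinRoot.root g • v.2) := fun v => rfl
  have hnd : ¬ r ∣ Fintype.card F - 1 := by
    intro h
    have := (orderOf_eq_one_iff_dvd r (Fintype.card F) Fintype.card_pos).mpr h
    omega
  have hdet₀ : LinearMap.det y₀ = 1 := by
    have h1 : (LinearMap.det y₀) ^ r = 1 := by
      rw [← map_pow, hy₀, map_one]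
    have h0 : LinearMap.det y₀ ≠ 0 := by
      intro h
      rw [h, zero_pow hr.ne_zero] at h1
      exact zero_ne_one h1
    have h2 := FiniteField.pow_card_sub_one_eq_one _ h0
    have hcop : Nat.Coprime r (Fintype.card F - 1) := (Nat.Prime.coprime_iff_not_dvd hr).mpr hnd
    exact (pow_eq_one_iff_of_coprime hcop).mp ⟨h1, h2⟩
  obtain ⟨x, e, hint⟩ := exists_SL_of_det_eq_one n hV₀ y₀ hdet₀
  have hker : n - i ≤ finrank F (LinearMap.ker (aeval y₀ (X - 1 : F[X]))) := by
    have hmem : ∀ u : Fin (n - i) → F,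
        (LinearMap.inl F (Fin (n - i) → F) (AdjoinRoot g)) u ∈
          LinearMap.ker (aeval y₀ (X - 1 : F[X])) := by
      intro u
      rw [LinearMap.mem_ker, map_sub, aeval_X, map_one, LinearMap.sub_apply,
        Module.End.one_apply, sub_eq_zero, hy₀app]
      show ((u, (0 : AdjoinRoot g)).1, AdjoinRoot.root g • (u, (0 : AdjoinRoot g)).2) = (u, 0)
      rw [smul_zero]
    let ψ : (Fin (n - i) → F) →ₗ[F] LinearMap.ker (aeval y₀ (X - 1 : F[X])) :=
      LinearMap.codRestrict _ (LinearMap.inl F (Fin (n - i) → F) (AdjoinRoot g)) hmem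
    have hψ : Function.Injective ψ := by
      intro u u' huu
      have h1 : (LinearMap.inl F (Fin (n - i) → F) (AdjoinRoot g)) u =
          (LinearMap.inl F (Fin (n - i) → F) (AdjoinRoot g)) u' := congrArg Subtype.val huu
      exact LinearMap.inl_injective h1
    have := LinearMap.finrank_le_finrank_of_injective hψ
    rwa [Module.finrank_fin_fun] at this
  refine ⟨x, ?_, ?_, ?_⟩
  · rw [Matrix.SpecialLinearGroup.coe_pow]
    have := matrix_eq_smul_of_intertwine _ e (y₀ ^ r) (intertwine_pow _ e y₀ hint r) 1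
      (by rw [hy₀, one_smul])
    rw [this, one_smul]
  · intro c' hx
    have h1 := smul_of_matrix_eq_smul _ e y₀ hint c' hx
    have h2 := congrArg (fun f => f ((0 : Fin (n - i) → F), (1 : AdjoinRoot g))) h1
    simp only [hy₀app, LinearMap.smul_apply, Module.End.one_apply] at h2
    have h3 := congrArg Prod.snd h2
    simp only [Prod.smul_snd, smul_eq_mul, mul_one] at h3
    apply hrootF c'
    rw [h3, Algebra.algebraMap_eq_smul_one]
  · rw [finrank_ker_sub_one_intertwine _ e y₀ hint]
    exact hker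

end modelOne

end Cfsg.Agent.Lib.Helper4.EqDec
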