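import Mathlib
import Cfsg.Agent.Lib.Helper4.EqDecC

set_option autoImplicit false
set_option linter.unusedSectionVars false
set_option linter.style.haveILetI false

/-! Sufficiency: an element `x` with `x ^ r` scalar permutes the summands of a decomposition into
`t` subspaces of dimension `a`, under the numerical conditions of the statement. -/

namespace Cfsg.Agent.Lib.Helper4.EqDec

open Module Polynomial
open Cfsg.Agent.H9SemiInv Cfsg.Agent.Lib.Helper9.H9Elus

section suff
variable {F V : Type*} [Field F] [Fintype F] {p : ℕ} [Fact p.Prime] [CharP F p]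
  [AddCommGroup V] [Module F V] [FiniteDimensional F V]

theorem finrank_fixE_add_cycK (r : ℕ) [Fact r.Prime] (hrp : r ≠ p) (y : V →ₗ[F] V)
    (hy : y ^ r = 1) : finrank F ↥(fixE y) + finrank F ↥(cycK r y) = finrank F V := by
  have hinv : Inv y (⊤ : Submodule F V) := fun x _ => Submodule.mem_top
  have h := finrank_inv_split r hrp y hy ⊤ hinv
  rwa [top_inf_eq, top_inf_eq, finrank_top] at h

theorem order_dvd_finrank_cycK (r : ℕ) [Fact r.Prime] (hrp : r ≠ p) (y : V →ₗ[F] V)
    (hy : y ^ r = 1) : orderOf ((Fintype.card F : ℕ) : ZMod r) ∣ finrank F ↥(cycK r y) := by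
  have hinv : Inv y (⊤ : Submodule F V) := fun x _ => Submodule.mem_top
  have h := order_dvd_finrank_inf_cycK r hrp y hy ⊤ hinv
  rwa [top_inf_eq] at h

theorem map_eq_of_inv_of_pow_eq_one (y : V →ₗ[F] V) (r : ℕ) (hr : 1 ≤ r) (hy : y ^ r = 1)
    (W : Submodule F V) (hW : Inv y W) : W.map y = W := by
  have hy1 : y ^ r = (1 : F) • 1 := by rw [hy, one_smul]
  have hinj := injective_of_pow_eq_smul y r 1 one_ne_zero hy1 hr
  have hle : W.map y ≤ W := by
    rintro _ ⟨w, hw, rfl⟩
    exact hW w hw
  apply Submodule.eq_of_le_of_finrank_eq hle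
  rw [← (Submodule.equivMapOfInjective y hinj W).finrank_eq]

theorem suff_decomp (r : ℕ) [Fact r.Prime] (hrp : r ≠ p) (x : V →ₗ[F] V) (z : F) (hz0 : z ≠ 0)
    (hx : x ^ r = z • 1) (a t : ℕ) (hfr : finrank F V = a * t)
    (hcond : (a = 1 ∧ 1 < orderOf ((Fintype.card F : ℕ) : ZMod r) ∧
        orderOf ((Fintype.card F : ℕ) : ZMod r) = r - 1 ∧
        finrank F V ≤ (finrank F V % orderOf ((Fintype.card F : ℕ) : ZMod r)) * r) ∨
      (orderOf ((Fintype.card F : ℕ) : ZMod r) ≤ a ∧
        finrank F V % orderOf ((Fintype.card F : ℕ) : ZMod r) =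
          t * (a % orderOf ((Fintype.card F : ℕ) : ZMod r)))) :
    ∃ D : Fin t → Submodule F V, (∀ j, finrank F ↥(D j) = a) ∧ iSupIndep D ∧ iSup D = ⊤ ∧
      ∃ σ : Equiv.Perm (Fin t), ∀ j, (D j).map x = D (σ j) := by
  have hr : r.Prime := Fact.out
  by_cases hpow : ∃ b : F, b ^ r = z
  · obtain ⟨l, hl⟩ := hpow
    have hl0 : l ≠ 0 := by
      rintro rfl
      rw [zero_pow hr.ne_zero] at hl
      exact hz0 hl.symm
    set y : V →ₗ[F] V := l⁻¹ • x with hydef
    have hy : y ^ r = 1 := by
      rw [hydef, _root_.smul_pow, hx, smul_smul, ← hl, ← mul_pow, inv_mul_cancel₀ hl0, one_pow,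
        one_smul]
    have hmapxy : ∀ W : Submodule F V, W.map x = W.map y := by
      intro W
      rw [hydef, Submodule.map_smul x W l⁻¹ (inv_ne_zero hl0)]
    set c := orderOf ((Fintype.card F : ℕ) : ZMod r) with hcdef
    have hsplit := finrank_fixE_add_cycK r hrp y hy
    obtain ⟨B, hB⟩ := order_dvd_finrank_cycK r hrp y hy
    rw [← hcdef] at hB
    rw [hB] at hsplit
    have hmodle : finrank F V % c ≤ finrank F ↥(fixE y) := by
      rw [← hsplit, Nat.add_mul_mod_self_left]
      exact Nat.mod_le _ _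
    rcases hcond with ⟨ha1, hc1, hcr, hle⟩ | ⟨hca, hmod⟩
    · -- lines
      have hBle : B ≤ finrank F ↥(fixE y) := by
        have h1 : finrank F V ≤ finrank F ↥(fixE y) * r :=
          hle.trans (Nat.mul_le_mul_right r hmodle)
        have hr1 : r = c + 1 := by omega
        rw [hr1, ← hsplit] at h1
        have h2 : c * B ≤ c * finrank F ↥(fixE y) := by
          have h3 : finrank F ↥(fixE y) * (c + 1) = c * finrank F ↥(fixE y)
              + finrank F ↥(fixE y) := by ring
          omega
        exact Nat.le_of_mul_le_mul_left h2 (by omega)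
      have hcyc : finrank F ↥(cycK r y) = (r - 1) * B := by rw [hB, hcr]
      obtain ⟨D', hD'fin, hD'ind, hD'top, σ', hσ'⟩ := lines_decomp r hrp y hy hcr B hcyc hBle
      have hcard : Fintype.card (Fin (finrank F V)) = t := by
        rw [Fintype.card_fin, hfr, ha1, one_mul]
      obtain ⟨D, hDfin, hDind, hDtop, σ, hσ⟩ :=
        transport_fin t hcard y 1 D' hD'fin hD'ind hD'top σ' hσ'
      refine ⟨D, ?_, hDind, hDtop, σ, ?_⟩
      · intro j
        rw [hDfin j, ha1]
      · intro j
        rw [hmapxy, hσ j]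
    · -- invariant summands
      have hE : t * (a % c) ≤ finrank F ↥(fixE y) := by
        rw [← hmod]
        exact hmodle
      obtain ⟨D, hD, hDind, hDtop⟩ := exists_inv_decomp r hrp y hy a t hfr hE
      refine ⟨D, fun j => (hD j).2, hDind, hDtop, 1, ?_⟩
      intro j
      rw [hmapxy, map_eq_of_inv_of_pow_eq_one y r hr.one_le hy (D j) (hD j).1]
      rfl
  · -- the Kummer case
    have hz : ∀ b : F, b ^ r ≠ z := fun b hb => hpow ⟨b, hb⟩
    have hinv : Inv x (⊤ : Submodule F V) := fun v _ => Submodule.mem_top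
    have hdvd : r ∣ a * t := by
      have := dvd_finrank_of_inv r hr z hz x hx ⊤ hinv
      rwa [finrank_top, hfr] at this
    rcases (Nat.Prime.dvd_mul hr).mp hdvd with h | h
    · obtain ⟨a', rfl⟩ := h
      exact kummer_decomp_dvd_a r hr z hz x hx a' t hfr
    · obtain ⟨t', rfl⟩ := h
      have hfr' : finrank F V = a * (t' * r) := by rw [hfr, mul_comm t' r]
      obtain ⟨D', hD'fin, hD'ind, hD'top, σ', hσ'⟩ :=
        kummer_decomp_dvd_t r hr z hz x hx a t' hfr'
      have hcard : Fintype.card (Fin (t' * r)) = r * t' := by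
        rw [Fintype.card_fin, mul_comm]
      exact transport_fin (r * t') hcard x a D' hD'fin hD'ind hD'top σ' hσ'

end suff

end Cfsg.Agent.Lib.Helper4.EqDec
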