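import Mathlib

set_option autoImplicit false

/-! Groups of class two with centre of order two: centralizers are large. -/

namespace Cfsg.Agent.Lib.Helper4

open scoped commutatorElement

variable {P : Type*} [Group P]

/-- the commutator map `x ↦ [x, h]` is a homomorphism when commutators are central -/
def commHom (hcl : commutator P ≤ Subgroup.center P) (h : P) : P →* P where
  toFun x := ⁅x, h⁆
  map_one' := by simp [commutatorElement_def]
  map_mul' x y := by
    have hy : ⁅y, h⁆ ∈ Subgroup.center P := hcl (by
      rw [commutator_def]; exact Subgroup.commutator_mem_commutator (Subgroup.mem_top _) (Subgroup.mem_top _))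
    have hc := Subgroup.mem_center_iff.mp hy
    have e : ⁅x * y, h⁆ = x * ⁅y, h⁆ * x⁻¹ * ⁅x, h⁆ := by
      simp only [commutatorElement_def]; group
    rw [e, hc x, mul_inv_cancel_right]
    exact (hc _).symm

theorem commHom_apply (hcl : commutator P ≤ Subgroup.center P) (h x : P) :
    commHom hcl h x = ⁅x, h⁆ := rfl

theorem commHom_range_le (hcl : commutator P ≤ Subgroup.center P) (h : P) :
    (commHom hcl h).range ≤ Subgroup.center P := by
  rintro _ ⟨x, rfl⟩
  apply hcl
  rw [commutator_def, commHom_apply]
  exact Subgroup.commutator_mem_commutator (Subgroup.mem_top _) (Subgroup.mem_top _)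

theorem mem_commHom_ker (hcl : commutator P ≤ Subgroup.center P) (h x : P) :
    x ∈ (commHom hcl h).ker ↔ x * h = h * x := by
  rw [MonoidHom.mem_ker, commHom_apply, commutatorElement_eq_one_iff_mul_comm]

variable [Finite P]

/-- intersecting with a centralizer of an element at most halves a subgroup -/
theorem card_le_two_mul_card_inf_centralizer (hcl : commutator P ≤ Subgroup.center P)
    (hZ : Nat.card (Subgroup.center P) = 2) (A : Subgroup P) (h : P) :
    Nat.card A ≤ 2 * Nat.card ↥(A ⊓ Subgroup.centralizer ({h} : Set P)) := by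
  set f : A →* P := (commHom hcl h).comp A.subtype with hf
  have h1 : Nat.card f.ker * Nat.card f.range = Nat.card A := by
    rw [← Subgroup.index_ker]; exact Subgroup.card_mul_index _
  have h2 : Nat.card f.range ≤ 2 := by
    rw [← hZ]
    apply Subgroup.card_le_of_le
    rintro _ ⟨x, rfl⟩
    exact commHom_range_le hcl h ⟨x, rfl⟩
  have h3 : Nat.card f.ker ≤ Nat.card ↥(A ⊓ Subgroup.centralizer ({h} : Set P)) := by
    have hle : f.ker.map A.subtype ≤ A ⊓ Subgroup.centralizer ({h} : Set P) := by
      rintro _ ⟨x, hx, rfl⟩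
      refine Subgroup.mem_inf.mpr ⟨x.2, ?_⟩
      rw [Subgroup.mem_centralizer_iff]
      intro y hy
      rw [Set.mem_singleton_iff] at hy
      rw [hy]
      have : (x : P) ∈ (commHom hcl h).ker := hx
      exact ((mem_commHom_ker hcl h _).mp this).symm
    have := Subgroup.card_le_of_le hle
    rwa [Subgroup.card_map_of_injective A.subtype_injective] at this
  calc Nat.card A = Nat.card f.ker * Nat.card f.range := h1.symm
    _ ≤ Nat.card f.ker * 2 := Nat.mul_le_mul_left _ h2
    _ = 2 * Nat.card f.ker := Nat.mul_comm _ _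
    _ ≤ 2 * Nat.card ↥(A ⊓ Subgroup.centralizer ({h} : Set P)) := Nat.mul_le_mul_left _ h3

/-- in a group of class two with centre of order two, `|H| |C(H)| ≥ 2 |P|` for `H ≥ Z(P)` -/
theorem two_mul_card_le_card_mul_card_centralizer (hcl : commutator P ≤ Subgroup.center P)
    (hZ : Nat.card (Subgroup.center P) = 2) :
    ∀ (n : ℕ) (H : Subgroup P), Nat.card H = n → Subgroup.center P ≤ H →
      2 * Nat.card P ≤ Nat.card H * Nat.card (Subgroup.centralizer (H : Set P)) := by
  intro n
  induction n using Nat.strong_induction_on with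
  | _ n ih =>
  intro H hn hZH
  by_cases hHZ : H = Subgroup.center P
  · have : Subgroup.centralizer ((Subgroup.center P : Subgroup P) : Set P) = ⊤ := by
      rw [eq_top_iff]
      intro x _
      rw [Subgroup.mem_centralizer_iff]
      intro y hy
      exact (Subgroup.mem_center_iff.mp hy x).symm
    rw [hHZ, this, hZ, Subgroup.card_top]
  · have hlt : Subgroup.center P < H := lt_of_le_of_ne hZH (Ne.symm hHZ)
    have hne : {H' : Subgroup P | Subgroup.center P ≤ H' ∧ H' < H}.Nonempty :=
      ⟨Subgroup.center P, le_rfl, hlt⟩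
    obtain ⟨H', hH'⟩ := (Set.toFinite {H' : Subgroup P | Subgroup.center P ≤ H' ∧ H' < H}).exists_maximal hne
    obtain ⟨⟨hZH', hH'lt⟩, hmax⟩ := hH'
    obtain ⟨h, hhH, hhH'⟩ := SetLike.exists_of_lt hH'lt
    have hK : H' ⊔ Subgroup.zpowers h = H := by
      by_contra hKne
      have hKle : H' ⊔ Subgroup.zpowers h ≤ H := sup_le hH'lt.le (Subgroup.zpowers_le.mpr hhH)
      have hKlt : H' ⊔ Subgroup.zpowers h < H := lt_of_le_of_ne hKle hKne
      have := hmax ⟨hZH'.trans le_sup_left, hKlt⟩ le_sup_left
      exact hhH' (this (Subgroup.mem_sup_right (Subgroup.mem_zpowers h)))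
    have hcent : Subgroup.centralizer (H' : Set P) ⊓ Subgroup.centralizer ({h} : Set P) ≤
        Subgroup.centralizer (H : Set P) := by
      intro x hx
      obtain ⟨hx1, hx2⟩ := Subgroup.mem_inf.mp hx
      have hH'x : H' ≤ Subgroup.centralizer ({x} : Set P) := by
        intro y hy
        rw [Subgroup.mem_centralizer_iff]
        intro w hw
        rw [Set.mem_singleton_iff] at hw
        rw [hw]
        exact (Subgroup.mem_centralizer_iff.mp hx1 y hy).symm
      have hhx : Subgroup.zpowers h ≤ Subgroup.centralizer ({x} : Set P) := by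
        rw [Subgroup.zpowers_le, Subgroup.mem_centralizer_iff]
        intro w hw
        rw [Set.mem_singleton_iff] at hw
        rw [hw]
        exact (Subgroup.mem_centralizer_iff.mp hx2 h rfl).symm
      have hHx : H ≤ Subgroup.centralizer ({x} : Set P) := by
        rw [← hK]; exact sup_le hH'x hhx
      rw [Subgroup.mem_centralizer_iff]
      intro y hy
      exact (Subgroup.mem_centralizer_iff.mp (hHx hy) x rfl).symm
    have hcard1 : Nat.card H' < Nat.card H := by
      by_contra hcon
      push Not at hcon
      exact hH'lt.ne (Subgroup.eq_of_le_of_card_ge hH'lt.le hcon)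
    have hIH := ih (Nat.card H') (by rw [← hn]; exact hcard1) H' rfl hZH'
    have hhalf := card_le_two_mul_card_inf_centralizer hcl hZ (Subgroup.centralizer (H' : Set P)) h
    have hle2 := Subgroup.card_le_of_le hcent
    have hdvd : Nat.card H' ∣ Nat.card H := Subgroup.card_dvd_of_le hH'lt.le
    have h2H' : 2 * Nat.card H' ≤ Nat.card H := by
      obtain ⟨k, hk⟩ := hdvd
      have hpos : 0 < Nat.card H' := Nat.card_pos
      have hk2 : 2 ≤ k := by
        by_contra hk2
        push Not at hk2
        interval_cases k
        · rw [hk] at hcard1; omega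
        · rw [hk] at hcard1; omega
      rw [hk]
      calc 2 * Nat.card H' = Nat.card H' * 2 := Nat.mul_comm _ _
        _ ≤ Nat.card H' * k := Nat.mul_le_mul_left _ hk2
    calc 2 * Nat.card P ≤ Nat.card H' * Nat.card (Subgroup.centralizer (H' : Set P)) := hIH
      _ ≤ Nat.card H' * (2 * Nat.card ↥(Subgroup.centralizer (H' : Set P) ⊓ Subgroup.centralizer ({h} : Set P))) :=
        Nat.mul_le_mul_left _ hhalf
      _ ≤ Nat.card H' * (2 * Nat.card (Subgroup.centralizer (H : Set P))) :=
        Nat.mul_le_mul_left _ (Nat.mul_le_mul_left _ hle2)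
      _ = (2 * Nat.card H') * Nat.card (Subgroup.centralizer (H : Set P)) := by ring
      _ ≤ Nat.card H * Nat.card (Subgroup.centralizer (H : Set P)) := Nat.mul_le_mul_right _ h2H'

end Cfsg.Agent.Lib.Helper4
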