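import Mathlib
import Cfsg.Prelude.Def_Transfer
import Cfsg.Agent.Lib.Helper4.Extraspecial1

set_option autoImplicit false

/-! An involutory automorphism of an extraspecial 2-group centralizing a subgroup of index at most
two is inner. -/

namespace Cfsg.Agent.Lib.Helper4

open Cfsg
open scoped commutatorElement

variable {P : Type*} [Group P] [Finite P]

theorem inner_of_involutory_aut (hE : IsExtraspecial 2 P) (τ : P ≃* P) (hτ2 : ∀ x, τ (τ x) = x)
    (F : Subgroup P) (hFdef : ∀ x, x ∈ F ↔ τ x = x) (hF : F.index ≤ 2) :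
    ∃ v : P, ∀ x, τ x = v * x * v⁻¹ := by
  obtain ⟨⟨hP2, _, hcomm⟩, hZcard⟩ := hE
  have hcl : commutator P ≤ Subgroup.center P := hcomm.le
  have hidx0 : F.index ≠ 0 := Subgroup.index_ne_zero_of_finite
  have hcases : F.index = 1 ∨ F.index = 2 := by omega
  rcases hcases with h1 | h2
  · refine ⟨1, fun x => ?_⟩
    rw [Subgroup.index_eq_one] at h1
    have : x ∈ F := by rw [h1]; exact Subgroup.mem_top x
    rw [(hFdef x).mp this]; group
  -- the centre
  obtain ⟨⟨z, hzZ⟩, hzne, hzuniq⟩ := (Nat.card_eq_two_iff' (1 : Subgroup.center P)).mp hZcard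
  have hz1 : z ≠ 1 := fun h => hzne (Subtype.ext h)
  have hZtwo : ∀ w ∈ Subgroup.center P, w = 1 ∨ w = z := by
    intro w hw
    by_cases hw1 : w = 1
    · exact Or.inl hw1
    · right
      have := hzuniq ⟨w, hw⟩ (fun h => hw1 (congrArg Subtype.val h))
      exact congrArg Subtype.val this
  -- τ preserves the centre
  have hτZ : ∀ w ∈ Subgroup.center P, τ w ∈ Subgroup.center P := by
    intro w hw
    rw [Subgroup.mem_center_iff]
    intro g
    obtain ⟨g', rfl⟩ := τ.surjective g
    rw [← map_mul, ← map_mul, Subgroup.mem_center_iff.mp hw g']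
  have hτz : τ z = z := by
    rcases hZtwo _ (hτZ z hzZ) with h | h
    · exfalso
      apply hz1
      have h' : τ z = τ 1 := by rw [h, map_one]
      exact τ.injective h'
    · exact h
  have hZF : Subgroup.center P ≤ F := by
    intro w hw
    rcases hZtwo w hw with h | h
    · rw [h]; exact F.one_mem
    · rw [h, hFdef]; exact hτz
  have hFn : F.Normal := Subgroup.normal_of_index_eq_two h2
  -- an element outside F
  obtain ⟨q, hq⟩ : ∃ q : P, q ∉ F := by
    by_contra hcon
    push Not at hcon
    have : F = ⊤ := by rw [eq_top_iff]; exact fun x _ => hcon x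
    rw [this, Subgroup.index_top] at h2
    omega
  set c := τ q * q⁻¹ with hc
  have hτq : τ q = c * q := by rw [hc]; group
  have hc1 : c ≠ 1 := by
    intro h
    apply hq
    rw [hFdef, hτq, h, one_mul]
  -- c commutes with F
  have hcF : ∀ h ∈ F, c * h = h * c := by
    intro h' hh'
    have hh : q⁻¹ * h' * q ∈ F := by
      have := hFn.conj_mem h' hh' q⁻¹
      rwa [inv_inv] at this
    have e1 : τ (q * (q⁻¹ * h' * q) * q⁻¹) = q * (q⁻¹ * h' * q) * q⁻¹ := by
      rw [← hFdef]
      exact hFn.conj_mem _ hh q
    rw [map_mul, map_mul, map_inv, (hFdef _).mp hh, hτq] at e1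
    have e2 : c * q * (q⁻¹ * h' * q) * (c * q)⁻¹ = c * h' * c⁻¹ := by group
    have e3 : q * (q⁻¹ * h' * q) * q⁻¹ = h' := by group
    rw [e2, e3] at e1
    calc c * h' = (c * h' * c⁻¹) * c := by group
      _ = h' * c := by rw [e1]
  -- τ c = c⁻¹
  have hτc : τ c = c⁻¹ := by
    have e := hτ2 q
    rw [hτq, map_mul, hτq] at e
    have : τ c * c = 1 := by
      have e' : τ c * c * q = q := by rw [mul_assoc]; exact e
      calc τ c * c = (τ c * c * q) * q⁻¹ := by group
        _ = 1 := by rw [e']; group
    exact eq_inv_of_mul_eq_one_left this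
  -- every element is in F or in qF
  have hcoset : ∀ x : P, x ∉ F → q⁻¹ * x ∈ F := by
    intro x hx
    rw [Subgroup.mul_mem_iff_of_index_two h2]
    constructor
    · intro h; exact absurd (by simpa using F.inv_mem h) hq
    · intro h; exact absurd h hx
  -- c is central
  have hcZ : c ∈ Subgroup.center P := by
    by_cases hcFm : c ∈ F
    · have hcc : c = c⁻¹ := by rw [← hτc]; exact ((hFdef c).mp hcFm).symm
      have hq2 : q ^ 2 ∈ F := Subgroup.sq_mem_of_index_two h2 q
      have e := (hFdef _).mp hq2
      rw [map_pow, hτq] at e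
      have e' : c * q * (c * q) = q * q := by rw [← sq, ← sq]; exact e
      have hcq : c * q = q * c := by
        have e2 : q * c * q = c⁻¹ * (c * q * (c * q)) := by group
        rw [e', ← hcc] at e2
        -- q c q = c q q
        have e3 : q * c = (q * c * q) * q⁻¹ := by group
        rw [e3, e2]; group
      rw [Subgroup.mem_center_iff]
      intro x
      by_cases hx : x ∈ F
      · exact (hcF x hx).symm
      · have hh := hcoset x hx
        have hx' : x = q * (q⁻¹ * x) := by group
        rw [hx']
        calc q * (q⁻¹ * x) * c = q * ((q⁻¹ * x) * c) := by group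
          _ = q * (c * (q⁻¹ * x)) := by rw [hcF _ hh]
          _ = (q * c) * (q⁻¹ * x) := by group
          _ = (c * q) * (q⁻¹ * x) := by rw [hcq]
          _ = c * (q * (q⁻¹ * x)) := by group
    · exfalso
      have hh := hcoset c hcFm
      have e1 : τ c = τ q * (q⁻¹ * c) := by
        have : c = q * (q⁻¹ * c) := by group
        conv_lhs => rw [this]
        rw [map_mul, (hFdef _).mp hh]
      rw [hτc, hτq] at e1
      have e2 : c ^ 3 = 1 := by
        have : c⁻¹ = c * c := by
          calc c⁻¹ = c * q * (q⁻¹ * c) := e1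
            _ = c * c := by group
        calc c ^ 3 = c * (c * c) := by rw [pow_succ, pow_succ, pow_one, mul_assoc]
          _ = c * c⁻¹ := by rw [this]
          _ = 1 := by group
      obtain ⟨k, hk⟩ := hP2 c
      have h3 : orderOf c ∣ 3 := orderOf_dvd_of_pow_eq_one e2
      have h4 : orderOf c ∣ 2 ^ k := orderOf_dvd_of_pow_eq_one hk
      have h5 : orderOf c ∣ Nat.gcd 3 (2 ^ k) := Nat.dvd_gcd h3 h4
      have h6 : Nat.gcd 3 (2 ^ k) = 1 := Nat.Coprime.pow_right k (by norm_num)
      rw [h6, Nat.dvd_one, orderOf_eq_one_iff] at h5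
      exact hc1 h5
  have hcz : c = z := by
    rcases hZtwo c hcZ with h | h
    · exact absurd h hc1
    · exact h
  -- an element of C(F) outside the centre
  have hbound := two_mul_card_le_card_mul_card_centralizer hcl hZcard _ F rfl hZF
  have hFcard : Nat.card F * 2 = Nat.card P := by rw [← h2]; exact Subgroup.card_mul_index F
  have hC4 : 4 ≤ Nat.card (Subgroup.centralizer (F : Set P)) := by
    have hpos : 0 < Nat.card F := Nat.card_pos
    by_contra hcon
    push Not at hcon
    have : Nat.card F * Nat.card (Subgroup.centralizer (F : Set P)) ≤ Nat.card F * 3 :=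
      Nat.mul_le_mul_left _ (by omega)
    nlinarith
  obtain ⟨v, hvC, hvZ⟩ : ∃ v : P, v ∈ Subgroup.centralizer (F : Set P) ∧ v ∉ Subgroup.center P := by
    by_contra hcon
    push Not at hcon
    have hle : Subgroup.centralizer (F : Set P) ≤ Subgroup.center P := fun v hv => hcon v hv
    have := Subgroup.card_le_of_le hle
    omega
  have hvF : ∀ h ∈ F, v * h = h * v := fun h hh => (Subgroup.mem_centralizer_iff.mp hvC h hh).symm
  have hvq : v * q * v⁻¹ * q⁻¹ = z := by
    have hmem : ⁅v, q⁆ ∈ Subgroup.center P := hcl (by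
      rw [commutator_def]
      exact Subgroup.commutator_mem_commutator (Subgroup.mem_top _) (Subgroup.mem_top _))
    rw [commutatorElement_def] at hmem
    rcases hZtwo _ hmem with h | h
    · exfalso
      apply hvZ
      have hvqc : v * q = q * v := by
        calc v * q = (v * q * v⁻¹ * q⁻¹) * (q * v) := by group
          _ = q * v := by rw [h, one_mul]
      rw [Subgroup.mem_center_iff]
      intro x
      by_cases hx : x ∈ F
      · exact (hvF x hx).symm
      · have hh := hcoset x hx
        have hx' : x = q * (q⁻¹ * x) := by group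
        rw [hx']
        calc q * (q⁻¹ * x) * v = q * ((q⁻¹ * x) * v) := by group
          _ = q * (v * (q⁻¹ * x)) := by rw [hvF _ hh]
          _ = (q * v) * (q⁻¹ * x) := by group
          _ = (v * q) * (q⁻¹ * x) := by rw [hvqc]
          _ = v * (q * (q⁻¹ * x)) := by group
    · exact h
  refine ⟨v, fun x => ?_⟩
  by_cases hx : x ∈ F
  · rw [(hFdef x).mp hx, hvF x hx]; group
  · have hh := hcoset x hx
    have hx' : x = q * (q⁻¹ * x) := by group
    conv_lhs => rw [hx']
    rw [map_mul, (hFdef _).mp hh, hτq, hcz]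
    have e1 : v * x * v⁻¹ = (v * q * v⁻¹ * q⁻¹) * q * (v * (q⁻¹ * x) * v⁻¹) := by group
    rw [e1, hvq, hvF _ hh]; group

end Cfsg.Agent.Lib.Helper4
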