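import Mathlib
import Cfsg.Agent.Lib.Helper4.Extraspecial1

set_option autoImplicit false

/-! Groups of class two with centre of order two: duality of centralizers, and the commutator
subgroup of an involutory automorphism. -/

namespace Cfsg.Agent.Lib.Helper4

open scoped commutatorElement

variable {P : Type*} [Group P] [Finite P]

/-- `|H : C_H(K)| ≤ |K : C_K(H)|` in cross-multiplied form -/
theorem card_mul_card_inf_centralizer_le (hcl : commutator P ≤ Subgroup.center P)
    (hZ : Nat.card (Subgroup.center P) = 2) (H : Subgroup P) :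
    ∀ (n : ℕ) (K : Subgroup P), Nat.card K = n →
      Nat.card H * Nat.card ↥(K ⊓ Subgroup.centralizer (H : Set P)) ≤
        Nat.card K * Nat.card ↥(H ⊓ Subgroup.centralizer (K : Set P)) := by
  intro n
  induction n using Nat.strong_induction_on with
  | _ n ih =>
  intro K hn
  by_cases hKC : K ≤ Subgroup.centralizer (H : Set P)
  · have h1 : K ⊓ Subgroup.centralizer (H : Set P) = K := inf_eq_left.mpr hKC
    have h2 : H ⊓ Subgroup.centralizer (K : Set P) = H := by
      apply inf_eq_left.mpr
      intro x hx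
      rw [Subgroup.mem_centralizer_iff]
      intro k hk
      exact (Subgroup.mem_centralizer_iff.mp (hKC hk) x hx).symm
    rw [h1, h2, Nat.mul_comm]
  · set C₀ := K ⊓ Subgroup.centralizer (H : Set P) with hC₀
    have hlt : C₀ < K := lt_of_le_of_ne inf_le_left (fun h => hKC (by rw [← h]; exact inf_le_right))
    have hne : {K' : Subgroup P | C₀ ≤ K' ∧ K' < K}.Nonempty := ⟨C₀, le_rfl, hlt⟩
    obtain ⟨K', hK'⟩ := (Set.toFinite {K' : Subgroup P | C₀ ≤ K' ∧ K' < K}).exists_maximal hne
    obtain ⟨⟨hCK', hK'lt⟩, hmax⟩ := hK'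
    obtain ⟨h, hhK, hhK'⟩ := SetLike.exists_of_lt hK'lt
    have hsup : K' ⊔ Subgroup.zpowers h = K := by
      by_contra hKne
      have hKle : K' ⊔ Subgroup.zpowers h ≤ K := sup_le hK'lt.le (Subgroup.zpowers_le.mpr hhK)
      have hKlt : K' ⊔ Subgroup.zpowers h < K := lt_of_le_of_ne hKle hKne
      have := hmax ⟨hCK'.trans le_sup_left, hKlt⟩ le_sup_left
      exact hhK' (this (Subgroup.mem_sup_right (Subgroup.mem_zpowers h)))
    have hK'C : K' ⊓ Subgroup.centralizer (H : Set P) = C₀ := by
      apply le_antisymm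
      · exact inf_le_inf_right _ hK'lt.le
      · exact le_inf hCK' inf_le_right
    have hcent : (H ⊓ Subgroup.centralizer (K' : Set P)) ⊓ Subgroup.centralizer ({h} : Set P) ≤
        H ⊓ Subgroup.centralizer (K : Set P) := by
      intro x hx
      obtain ⟨hx1, hx2⟩ := Subgroup.mem_inf.mp hx
      obtain ⟨hxH, hxK'⟩ := Subgroup.mem_inf.mp hx1
      refine Subgroup.mem_inf.mpr ⟨hxH, ?_⟩
      have hK'x : K' ≤ Subgroup.centralizer ({x} : Set P) := by
        intro y hy
        rw [Subgroup.mem_centralizer_iff]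
        intro w hw
        rw [Set.mem_singleton_iff] at hw
        rw [hw]
        exact (Subgroup.mem_centralizer_iff.mp hxK' y hy).symm
      have hhx : Subgroup.zpowers h ≤ Subgroup.centralizer ({x} : Set P) := by
        rw [Subgroup.zpowers_le, Subgroup.mem_centralizer_iff]
        intro w hw
        rw [Set.mem_singleton_iff] at hw
        rw [hw]
        exact (Subgroup.mem_centralizer_iff.mp hx2 h rfl).symm
      have hKx : K ≤ Subgroup.centralizer ({x} : Set P) := by
        rw [← hsup]; exact sup_le hK'x hhx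
      rw [Subgroup.mem_centralizer_iff]
      intro y hy
      exact (Subgroup.mem_centralizer_iff.mp (hKx hy) x rfl).symm
    have hcard1 : Nat.card K' < Nat.card K := by
      by_contra hcon
      push Not at hcon
      exact hK'lt.ne (Subgroup.eq_of_le_of_card_ge hK'lt.le hcon)
    have hIH := ih (Nat.card K') (by rw [← hn]; exact hcard1) K' rfl
    rw [hK'C] at hIH
    have hhalf := card_le_two_mul_card_inf_centralizer hcl hZ (H ⊓ Subgroup.centralizer (K' : Set P)) h
    have hle2 := Subgroup.card_le_of_le hcent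
    have hdvd : Nat.card K' ∣ Nat.card K := Subgroup.card_dvd_of_le hK'lt.le
    have h2K' : 2 * Nat.card K' ≤ Nat.card K := by
      obtain ⟨k, hk⟩ := hdvd
      have hpos : 0 < Nat.card K' := Nat.card_pos
      have hk2 : 2 ≤ k := by
        by_contra hk2
        push Not at hk2
        interval_cases k
        · rw [hk] at hcard1; omega
        · rw [hk] at hcard1; omega
      rw [hk]
      calc 2 * Nat.card K' = Nat.card K' * 2 := Nat.mul_comm _ _
        _ ≤ Nat.card K' * k := Nat.mul_le_mul_left _ hk2
    calc Nat.card H * Nat.card C₀ ≤ Nat.card K' * Nat.card ↥(H ⊓ Subgroup.centralizer (K' : Set P)) := hIH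
      _ ≤ Nat.card K' * (2 * Nat.card ↥((H ⊓ Subgroup.centralizer (K' : Set P)) ⊓ Subgroup.centralizer ({h} : Set P))) :=
        Nat.mul_le_mul_left _ hhalf
      _ ≤ Nat.card K' * (2 * Nat.card ↥(H ⊓ Subgroup.centralizer (K : Set P))) :=
        Nat.mul_le_mul_left _ (Nat.mul_le_mul_left _ hle2)
      _ = (2 * Nat.card K') * Nat.card ↥(H ⊓ Subgroup.centralizer (K : Set P)) := by ring
      _ ≤ Nat.card K * Nat.card ↥(H ⊓ Subgroup.centralizer (K : Set P)) := Nat.mul_le_mul_right _ h2K'

/-- `|H : C_H(K)| = |K : C_K(H)|` in cross-multiplied form -/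
theorem card_mul_card_inf_centralizer_eq (hcl : commutator P ≤ Subgroup.center P)
    (hZ : Nat.card (Subgroup.center P) = 2) (H K : Subgroup P) :
    Nat.card H * Nat.card ↥(K ⊓ Subgroup.centralizer (H : Set P)) =
      Nat.card K * Nat.card ↥(H ⊓ Subgroup.centralizer (K : Set P)) :=
  le_antisymm (card_mul_card_inf_centralizer_le hcl hZ H _ K rfl)
    (card_mul_card_inf_centralizer_le hcl hZ K _ H rfl)

/-- `|H| |C(H)| = 2 |P|` for `H ≥ Z(P)` when `Z(P)` has order two and contains `P'` -/
theorem card_mul_card_centralizer_eq (hcl : commutator P ≤ Subgroup.center P)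
    (hZ : Nat.card (Subgroup.center P) = 2) (H : Subgroup P) (hZH : Subgroup.center P ≤ H) :
    Nat.card H * Nat.card (Subgroup.centralizer (H : Set P)) = 2 * Nat.card P := by
  have h := card_mul_card_inf_centralizer_eq hcl hZ H ⊤
  have h1 : (⊤ : Subgroup P) ⊓ Subgroup.centralizer (H : Set P) = Subgroup.centralizer (H : Set P) :=
    top_inf_eq _
  have h2 : H ⊓ Subgroup.centralizer (((⊤ : Subgroup P) : Subgroup P) : Set P) = Subgroup.center P := by
    rw [Subgroup.coe_top, Subgroup.centralizer_univ]
    exact inf_eq_right.mpr hZH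
  rw [h1, h2, hZ, Subgroup.card_top] at h
  rw [h, Nat.mul_comm]

end Cfsg.Agent.Lib.Helper4
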