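import Mathlib
import Cfsg.Agent.Lib.Helper4.Extraspecial3
import Cfsg.Agent.Lib.Lead.HallTools

set_option autoImplicit false

/-! The commutator subgroup `[P, τ]` of an involutory automorphism of a group of class two with
centre of order two is the centralizer of `{q | [τ, q] ∈ Z(P)}`. -/

namespace Cfsg.Agent.Lib.Helper4

open scoped commutatorElement
open Cfsg.Agent.Lib.Lead

variable {P : Type*} [Group P] [Finite P]

theorem commutatorElement_central_mul {G : Type*} [Group G] (a w h : G) (hw : ∀ g, g * w = w * g) :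
    ⁅a, w * h⁆ = ⁅a, h⁆ := by
  rw [commutatorElement_def, commutatorElement_def]
  calc a * (w * h) * a⁻¹ * (w * h)⁻¹ = (a * w) * (h * a⁻¹ * h⁻¹) * w⁻¹ := by group
    _ = (w * a) * (h * a⁻¹ * h⁻¹) * w⁻¹ := by rw [hw a]
    _ = w * (a * h * a⁻¹ * h⁻¹) * w⁻¹ := by group
    _ = (a * h * a⁻¹ * h⁻¹) * w * w⁻¹ := by rw [← hw]
    _ = a * h * a⁻¹ * h⁻¹ := by group

theorem commutatorElement_mul_left' {G : Type*} [Group G] (c q h : G) :
    ⁅c * q, h⁆ = c * ⁅q, h⁆ * c⁻¹ * ⁅c, h⁆ := by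
  simp only [commutatorElement_def]; group

theorem comm_mem_center (hcl : commutator P ≤ Subgroup.center P) (a b : P) :
    ⁅a, b⁆ ∈ Subgroup.center P := hcl (by
  rw [commutator_def]
  exact Subgroup.commutator_mem_commutator (Subgroup.mem_top _) (Subgroup.mem_top _))

theorem center_sq_eq_one (hZ : Nat.card (Subgroup.center P) = 2) {w : P} (hw : w ∈ Subgroup.center P) :
    w * w = 1 := by
  have h := pow_card_eq_one' (G := Subgroup.center P) (x := ⟨w, hw⟩)
  rw [hZ] at h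
  have h2 := congrArg Subtype.val h
  simpa [sq] using h2

theorem center_eq_of_ne_one (hZ : Nat.card (Subgroup.center P) = 2) {w z : P}
    (hw : w ∈ Subgroup.center P) (hz : z ∈ Subgroup.center P) (hw1 : w ≠ 1) (hz1 : z ≠ 1) : w = z := by
  obtain ⟨y, _, hy⟩ := (Nat.card_eq_two_iff' (1 : Subgroup.center P)).mp hZ
  have h1 := hy ⟨w, hw⟩ (fun h => hw1 (congrArg Subtype.val h))
  have h2 := hy ⟨z, hz⟩ (fun h => hz1 (congrArg Subtype.val h))
  exact congrArg Subtype.val (h1.trans h2.symm)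

theorem aut_fixes_center (hZ : Nat.card (Subgroup.center P) = 2) (τ : P ≃* P) {w : P}
    (hw : w ∈ Subgroup.center P) : τ w = w := by
  have hτw : τ w ∈ Subgroup.center P := by
    rw [Subgroup.mem_center_iff]
    intro g
    obtain ⟨g', rfl⟩ := τ.surjective g
    rw [← map_mul, ← map_mul, Subgroup.mem_center_iff.mp hw g']
  by_cases hw1 : w = 1
  · rw [hw1, map_one]
  · have : τ w ≠ 1 := by
      intro h
      apply hw1
      have h' : τ w = τ 1 := by rw [h, map_one]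
      exact τ.injective h'
    exact center_eq_of_ne_one hZ hτw hw this hw1

/-- the map `q ↦ [τ, q] Z(P)` -/
noncomputable def autCommHom (hcl : commutator P ≤ Subgroup.center P) (τ : P ≃* P) :
    P →* P ⧸ Subgroup.center P where
  toFun q := QuotientGroup.mk (τ q * q⁻¹)
  map_one' := by simp
  map_mul' a b := by
    rw [← QuotientGroup.mk_mul, QuotientGroup.eq]
    have h := comm_mem_center hcl a (τ b * b⁻¹)⁻¹
    have e : (τ (a * b) * (a * b)⁻¹)⁻¹ * (τ a * a⁻¹ * (τ b * b⁻¹)) = ⁅a, (τ b * b⁻¹)⁻¹⁆ := by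
      rw [commutatorElement_def, map_mul]; group
    rw [e]; exact h

theorem autCommHom_apply (hcl : commutator P ≤ Subgroup.center P) (τ : P ≃* P) (q : P) :
    autCommHom hcl τ q = QuotientGroup.mk (τ q * q⁻¹) := rfl

theorem closure_autComm_eq_centralizer (hcl : commutator P ≤ Subgroup.center P)
    (hZ : Nat.card (Subgroup.center P) = 2) (τ : P ≃* P) (hτ2 : ∀ x, τ (τ x) = x)
    (hτ : ∃ x, τ x ≠ x) (Q₀ : Subgroup P) (hQ₀ : ∀ q, q ∈ Q₀ ↔ τ q * q⁻¹ ∈ Subgroup.center P) :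
    Subgroup.closure {c : P | ∃ q, c = τ q * q⁻¹} = Subgroup.centralizer (Q₀ : Set P) ∧
      Subgroup.centralizer (Q₀ : Set P) ≤ Q₀ := by
  set D := Subgroup.closure {c : P | ∃ q, c = τ q * q⁻¹} with hD
  set ψ := autCommHom hcl τ with hψ
  have hgen : ∀ q, τ q * q⁻¹ ∈ D := fun q => Subgroup.subset_closure ⟨q, rfl⟩
  have hker : ψ.ker = Q₀ := by
    ext q
    rw [MonoidHom.mem_ker, hψ, autCommHom_apply, QuotientGroup.eq_one_iff, hQ₀]
  have hZQ₀ : Subgroup.center P ≤ Q₀ := by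
    intro w hw
    rw [hQ₀, aut_fixes_center hZ τ hw, mul_inv_cancel]
    exact Subgroup.one_mem _
  -- conjugates of generators
  have hconj : ∀ x q, x * (τ q * q⁻¹) * x⁻¹ ∈ D := by
    intro x q
    have e : x * (τ q * q⁻¹) * x⁻¹ = (τ x * x⁻¹)⁻¹ * (τ (x * q) * (x * q)⁻¹) := by
      rw [map_mul]; group
    rw [e]
    exact D.mul_mem (D.inv_mem (hgen x)) (hgen (x * q))
  -- the centre lies in D
  have hZD : Subgroup.center P ≤ D := by
    obtain ⟨q, hq⟩ := hτ
    set c := τ q * q⁻¹ with hc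
    have hc1 : c ≠ 1 := by
      intro h
      apply hq
      calc τ q = c * q := by rw [hc]; group
        _ = q := by rw [h, one_mul]
    have hex : ∃ w, w ∈ Subgroup.center P ∧ w ∈ D ∧ w ≠ 1 := by
      by_cases hcZ : c ∈ Subgroup.center P
      · exact ⟨c, hcZ, hgen q, hc1⟩
      · rw [Subgroup.mem_center_iff] at hcZ
        push Not at hcZ
        obtain ⟨y, hy⟩ := hcZ
        refine ⟨⁅y, c⁆, comm_mem_center hcl y c, ?_, ?_⟩
        · rw [commutatorElement_def]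
          exact D.mul_mem (hconj y q) (D.inv_mem (hgen q))
        · intro h
          exact hy (commutatorElement_eq_one_iff_mul_comm.mp h)
    obtain ⟨w, hwZ, hwD, hw1⟩ := hex
    intro u hu
    by_cases hu1 : u = 1
    · rw [hu1]; exact D.one_mem
    · rw [center_eq_of_ne_one hZ hu hwZ hu1 hw1]; exact hwD
  -- the image of D
  have hmap : D.map (QuotientGroup.mk' (Subgroup.center P)) = ψ.range := by
    apply le_antisymm
    · rw [Subgroup.map_le_iff_le_comap, hD, Subgroup.closure_le]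
      rintro _ ⟨q, rfl⟩
      exact ⟨q, rfl⟩
    · rintro _ ⟨q, rfl⟩
      exact ⟨τ q * q⁻¹, hgen q, rfl⟩
  have hcardD : Nat.card D * Nat.card Q₀ = 2 * Nat.card P := by
    have h1 := card_map_mk_of_le (Subgroup.center P) D hZD
    rw [hmap, hZ] at h1
    have h2 : Nat.card ψ.ker * Nat.card ψ.range = Nat.card P := by
      rw [← Subgroup.index_ker]; exact Subgroup.card_mul_index _
    rw [hker] at h2
    calc Nat.card D * Nat.card Q₀ = (Nat.card ψ.range * 2) * Nat.card Q₀ := by rw [h1]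
      _ = 2 * (Nat.card Q₀ * Nat.card ψ.range) := by ring
      _ = 2 * Nat.card P := by rw [h2]
  have hcardC := card_mul_card_centralizer_eq hcl hZ Q₀ hZQ₀
  -- D centralizes Q₀
  have hDC : D ≤ Subgroup.centralizer (Q₀ : Set P) := by
    rw [hD, Subgroup.closure_le]
    rintro _ ⟨q, rfl⟩
    rw [SetLike.mem_coe, Subgroup.mem_centralizer_iff]
    intro h hh
    set c := τ q * q⁻¹ with hc
    set w := τ h * h⁻¹ with hw
    have hwZ : w ∈ Subgroup.center P := (hQ₀ h).mp hh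
    have hτq : τ q = c * q := by rw [hc]; group
    have hτh : τ h = w * h := by rw [hw]; group
    have h1 : τ ⁅q, h⁆ = ⁅q, h⁆ := aut_fixes_center hZ τ (comm_mem_center hcl q h)
    rw [map_commutatorElement, hτq, hτh] at h1
    have hwc := Subgroup.mem_center_iff.mp hwZ
    have hqh := Subgroup.mem_center_iff.mp (comm_mem_center hcl q h)
    have e1 : ⁅c * q, w * h⁆ = c * ⁅q, h⁆ * c⁻¹ * ⁅c, h⁆ := by
      rw [commutatorElement_central_mul _ _ _ hwc]
      exact commutatorElement_mul_left' c q h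
    rw [e1, hqh c, mul_inv_cancel_right] at h1
    have h2 : ⁅c, h⁆ = 1 := by
      have : ⁅q, h⁆ * ⁅c, h⁆ = ⁅q, h⁆ * 1 := by rw [mul_one]; exact h1
      exact mul_left_cancel this
    exact (commutatorElement_eq_one_iff_mul_comm.mp h2).symm
  have hDeq : D = Subgroup.centralizer (Q₀ : Set P) := by
    apply Subgroup.eq_of_le_of_card_ge hDC
    have hpos : 0 < Nat.card Q₀ := Nat.card_pos
    have : Nat.card (Subgroup.centralizer (Q₀ : Set P)) * Nat.card Q₀ = Nat.card D * Nat.card Q₀ := by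
      rw [hcardD, Nat.mul_comm, hcardC]
    exact (Nat.eq_of_mul_eq_mul_right hpos this).le
  refine ⟨hDeq, ?_⟩
  rw [← hDeq, hD, Subgroup.closure_le]
  rintro _ ⟨q, rfl⟩
  rw [SetLike.mem_coe, hQ₀]
  set c := τ q * q⁻¹ with hc
  have hτc : τ c = c⁻¹ := by rw [hc, map_mul, map_inv, hτ2]; group
  rw [hτc]
  -- c⁻¹ * c⁻¹ is central
  rw [Subgroup.mem_center_iff]
  intro y
  have hcy := comm_mem_center hcl c⁻¹ y
  have hcyc := Subgroup.mem_center_iff.mp hcy
  have hsq := center_sq_eq_one hZ hcy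
  -- c⁻¹ y = ⁅c⁻¹,y⁆ y c⁻¹
  have e1 : c⁻¹ * y = ⁅c⁻¹, y⁆ * (y * c⁻¹) := by rw [commutatorElement_def]; group
  calc y * (c⁻¹ * c⁻¹) = (y * c⁻¹) * c⁻¹ := by group
    _ = (⁅c⁻¹, y⁆ * ⁅c⁻¹, y⁆) * (y * c⁻¹) * c⁻¹ := by rw [hsq, one_mul]
    _ = ⁅c⁻¹, y⁆ * (⁅c⁻¹, y⁆ * (y * c⁻¹)) * c⁻¹ := by group
    _ = ⁅c⁻¹, y⁆ * (c⁻¹ * y) * c⁻¹ := by rw [← e1]
    _ = (c⁻¹ * y) * ⁅c⁻¹, y⁆ * c⁻¹ := by rw [hcyc (c⁻¹ * y)]
    _ = c⁻¹ * (y * ⁅c⁻¹, y⁆) * c⁻¹ := by group
    _ = c⁻¹ * (⁅c⁻¹, y⁆ * y) * c⁻¹ := by rw [hcyc y]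
    _ = c⁻¹ * (⁅c⁻¹, y⁆ * (y * c⁻¹)) := by group
    _ = c⁻¹ * (c⁻¹ * y) := by rw [← e1]
    _ = c⁻¹ * c⁻¹ * y := by group

end Cfsg.Agent.Lib.Helper4
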