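import Mathlib
import Cfsg.Agent.Lib.Helper4.FM13
import Cfsg.Agent.S0042

set_option autoImplicit false

/-! A Frobenius group with one-dimensional fixed space of the complement: the kernel acts
commutatively. -/

namespace Cfsg.Agent.Lib.Helper4.FM

open scoped Pointwise commutatorElement

theorem frobenius_one_dim {X : Type*} [Group X] [Finite X] (G : Subgroup X) (V : Subgroup X) {ℓ : ℕ} (hℓ : ℓ.Prime) (hV : Cfsg.IsElementaryAbelian ℓ V) (hℓG : ¬ ℓ ∣ Nat.card G) (hGV : G ≤ Subgroup.normalizer (V : Set X)) (R : Subgroup ↥G) (hR : Cfsg.IsFrobeniusComplement R) (hCV : Nat.card ↥(V ⊓ Subgroup.centralizer ((R.map G.subtype : Subgroup X) : Set X)) = ℓ) : ⁅Subgroup.closure (Subtype.val '' Cfsg.frobeniusKernel R), Subgroup.closure (Subtype.val '' Cfsg.frobeniusKernel R)⁆ ≤ Subgroup.centralizer (V : Set X) := by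
  haveI : Fact ℓ.Prime := ⟨hℓ⟩
  obtain ⟨N, hNset, hNn, hNnil⟩ := Cfsg.Agent.S0042.result R hR
  have hGV' : ∀ g ∈ G, ∀ v ∈ V, g * v * g⁻¹ ∈ V :=
    fun g hg v hv => (Subgroup.mem_normalizer_iff.1 (hGV hg) v).1 hv
  letI := conjAct G V hGV'
  have hsmul : ∀ (g : G) (v : V), ((g • v : V) : X) = (g : X) * (v : X) * (g : X)⁻¹ :=
    fun g v => rfl
  -- fixed point freeness
  have hfpf : ∀ e ∈ R, e ≠ 1 → ∀ u ∈ N, e * u = u * e → u = 1 := by
    intro e he he1 u hu heu
    by_contra hu1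
    have hu' : u ∈ Cfsg.frobeniusKernel R := by
      rw [← hNset]
      exact hu
    rcases hu' with h | h
    · exact hu1 h
    · have huR : u ∉ R := by
        intro huR
        apply h 1
        rw [map_one, one_smul]
        exact huR
      have h1 := hR.2.2 u huR
      have h2 : e ∈ R ⊓ (MulAut.conj u • R) := by
        refine Subgroup.mem_inf.2 ⟨he, ?_⟩
        rw [Subgroup.mem_pointwise_smul_iff_inv_smul_mem]
        show (MulAut.conj u)⁻¹ e ∈ R
        rw [← map_inv, MulAut.conj_apply, inv_inv]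
        have h3 : u⁻¹ * e * u = e := by
          rw [mul_assoc, heu, ← mul_assoc, inv_mul_cancel, one_mul]
        rw [h3]
        exact he
      rw [h1] at h2
      exact he1 (Subgroup.mem_bot.1 h2)
  have hcomm : ∀ x y : ↥V, x * y = y * x := by
    haveI := hV.1
    intro x y
    exact mul_comm' x y
  have hexp : ∀ x : ↥V, x ^ ℓ = 1 := by
    intro x
    apply Subtype.ext
    rw [Subgroup.coe_pow]
    exact hV.2 _ x.2
  have hU : ¬ ℓ ∣ Nat.card N := fun h => hℓG (h.trans (Subgroup.card_subgroup_dvd_card _))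
  have hE : ¬ ℓ ∣ Nat.card R := fun h => hℓG (h.trans (Subgroup.card_subgroup_dvd_card _))
  have hone : Nat.card (fixS (V := ↥V) R) ≤ ℓ := by
    have h1 : (fixS (V := ↥V) R).map V.subtype =
        V ⊓ Subgroup.centralizer ((R.map G.subtype : Subgroup X) : Set X) := by
      ext x
      rw [Subgroup.mem_map]
      constructor
      · rintro ⟨v, hv, rfl⟩
        refine Subgroup.mem_inf.2 ⟨v.2, ?_⟩
        rw [Subgroup.mem_centralizer_iff]
        rintro _ ⟨r, hr, rfl⟩
        have h2 := congrArg Subtype.val (hv r hr)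
        rw [hsmul] at h2
        show (r : X) * (v : X) = (v : X) * (r : X)
        calc (r : X) * (v : X) = ((r : X) * (v : X) * (r : X)⁻¹) * (r : X) := by group
          _ = (v : X) * (r : X) := by rw [h2]
      · intro hx
        obtain ⟨hxV, hxC⟩ := Subgroup.mem_inf.1 hx
        refine ⟨⟨x, hxV⟩, ?_, rfl⟩
        intro r hr
        apply Subtype.ext
        rw [hsmul]
        have h2 := Subgroup.mem_centralizer_iff.1 hxC (r : X) ⟨r, hr, rfl⟩
        show (r : X) * x * (r : X)⁻¹ = x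
        rw [h2, mul_assoc, mul_inv_cancel, mul_one]
    rw [← Subgroup.card_map_of_injective (Subgroup.subtype_injective V), h1, hCV]
  have hab := fix_ab (A := ↥G) (V := ↥V) N R ℓ hNnil hfpf hcomm hexp hU hE hone
  -- the closure is the image of `N`
  have hC : Subgroup.closure (Subtype.val '' Cfsg.frobeniusKernel R) = N.map G.subtype := by
    rw [← hNset]
    have h1 : (Subtype.val '' (N : Set ↥G)) = ((N.map G.subtype : Subgroup X) : Set X) := by
      ext x
      simp
    rw [h1, Subgroup.closure_eq]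
  rw [hC, Subgroup.commutator_le]
  rintro _ ⟨a, ha, rfl⟩ _ ⟨b, hb, rfl⟩
  rw [Subgroup.mem_centralizer_iff]
  intro v hv
  have h1 : (⁅a, b⁆ : ↥G) • (⟨v, hv⟩ : V) = ⟨v, hv⟩ := by
    rw [commutatorElement_def, mul_smul, mul_smul, mul_smul, hab a ha b hb,
      smul_inv_smul, smul_inv_smul]
  have h2 := congrArg Subtype.val h1
  rw [hsmul] at h2
  have h3 : ((⁅a, b⁆ : ↥G) : X) = ⁅G.subtype a, G.subtype b⁆ := by
    rw [commutatorElement_def, commutatorElement_def]
    simp
  rw [← h3]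
  show v * ((⁅a, b⁆ : ↥G) : X) = ((⁅a, b⁆ : ↥G) : X) * v
  calc v * ((⁅a, b⁆ : ↥G) : X)
      = (((⁅a, b⁆ : ↥G) : X) * v * ((⁅a, b⁆ : ↥G) : X)⁻¹) * ((⁅a, b⁆ : ↥G) : X) := by
        rw [h2]
    _ = ((⁅a, b⁆ : ↥G) : X) * v := by group


end Cfsg.Agent.Lib.Helper4.FM
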