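import Mathlib
import Cfsg.Prelude.Def_Solvable
import Cfsg.Agent.Lib.Lead.Core

/-!
# A four-group normal in a Sylow 2-subgroup of a group of characteristic 2 with a central involution

If `C_H(O_2(H)) ≤ O_2(H)`, `u` is a central involution of `H`, `U ∋ u` has order 4 and is normalized
by a subgroup `S ≥ O_2(H)`, then `U ≤ O_2(H)`.
-/

set_option autoImplicit false

namespace Cfsg.Agent.Lib.Helper4.FourCent

open Cfsg Cfsg.Agent.Lib.Lead

variable {H : Type*} [Group H]

/-- an element of odd order that moves `q` only by a central element of exponent 2 fixes `q` -/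
theorem commute_of_odd_of_comm_mem {T : Subgroup H} (hTc : ∀ t ∈ T, ∀ h : H, h * t = t * h)
    (hT2 : ∀ t ∈ T, t ^ 2 = 1) {r q : H} {m : ℕ} (hm : Odd m) (hr : r ^ m = 1)
    (hrq : q⁻¹ * (r * q * r⁻¹) ∈ T) : r * q = q * r := by
  set t := q⁻¹ * (r * q * r⁻¹) with ht
  have h1 : r * q * r⁻¹ = q * t := by rw [ht]; group
  have key : ∀ j : ℕ, r ^ j * q * (r ^ j)⁻¹ = q * t ^ j := by
    intro j
    induction j with
    | zero => simp
    | succ j ih =>
      have h2 : r ^ (j + 1) * q * (r ^ (j + 1))⁻¹ = r * (r ^ j * q * (r ^ j)⁻¹) * r⁻¹ := by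
        rw [pow_succ']; group
      rw [h2, ih]
      have h3 : r * (q * t ^ j) * r⁻¹ = (r * q * r⁻¹) * (r * t ^ j * r⁻¹) := by group
      have h4 : r * t ^ j * r⁻¹ = t ^ j := by
        have := hTc (t ^ j) (T.pow_mem hrq j) r
        rw [this]; group
      rw [h3, h4, h1, mul_assoc, ← pow_succ']
  have h5 := key m
  rw [hr] at h5
  have h6 : t ^ m = 1 := by
    have : q = q * t ^ m := by simpa using h5
    exact (mul_eq_left.mp this.symm)
  have h7 : t = 1 := by
    obtain ⟨k, hk⟩ := hm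
    have h8 : t ^ m = t := by
      rw [hk, pow_succ, pow_mul, hT2 t hrq, one_pow, one_mul]
    rw [← h8, h6]
  rw [h7, mul_one] at h1
  calc r * q = (r * q * r⁻¹) * r := by group
    _ = q * r := by rw [h1]

variable [Finite H]

/-- a subgroup all of whose elements of odd order are trivial is a 2-group -/
theorem isPGroup_two_of_odd_trivial (R : Subgroup H)
    (h : ∀ r ∈ R, ∀ m : ℕ, Odd m → r ^ m = 1 → r = 1) : IsPGroup 2 R := by
  intro r
  have hpos : 0 < orderOf (r : H) := orderOf_pos _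
  obtain ⟨a, m, hm, hn⟩ := Nat.exists_eq_two_pow_mul_odd hpos.ne'
  refine ⟨a, ?_⟩
  have h1 : ((r : H) ^ 2 ^ a) ^ m = 1 := by
    rw [← pow_mul, ← hn, pow_orderOf_eq_one]
  have h2 := h _ (R.pow_mem r.2 (2 ^ a)) m hm h1
  exact Subtype.ext (by simpa using h2)

/-- the key lemma -/
theorem le_pCore_of_char_two
    (hchar : Subgroup.centralizer (pCore 2 H : Set H) ≤ pCore 2 H)
    {u : H} (hu2 : u ^ 2 = 1) (hu1 : u ≠ 1) (huZ : ∀ h : H, h * u = u * h)
    (U S : Subgroup H) (hU4 : Nat.card U = 4) (huU : u ∈ U)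
    (hQS : pCore 2 H ≤ S) (hSU : S ≤ Subgroup.normalizer (U : Set H)) :
    U ≤ pCore 2 H := by
  classical
  set Q := pCore 2 H with hQ
  have hQn : Q.Normal := pCore_normal 2
  have hQ2 : IsPGroup 2 Q := pCore_isPGroup 2
  set T := Subgroup.zpowers u with hT
  -- facts on `T`
  have hTmem : ∀ t ∈ T, t = 1 ∨ t = u := by
    intro t ht
    obtain ⟨k, rfl⟩ := Subgroup.mem_zpowers_iff.mp ht
    rcases Int.even_or_odd k with ⟨j, rfl⟩ | ⟨j, rfl⟩
    · left
      rw [← two_mul, zpow_mul, zpow_ofNat, hu2, one_zpow]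
    · right
      rw [zpow_add, zpow_mul, zpow_ofNat, hu2, one_zpow, one_mul, zpow_one]
  have hTc : ∀ t ∈ T, ∀ h : H, h * t = t * h := by
    intro t ht h
    rcases hTmem t ht with rfl | rfl
    · simp
    · exact huZ h
  have hT2 : ∀ t ∈ T, t ^ 2 = 1 := by
    intro t ht
    rcases hTmem t ht with rfl | rfl
    · simp
    · exact hu2
  have hTn : T.Normal := by
    constructor
    intro t ht g
    have := hTc t ht g
    rw [this]
    simpa using ht
  have hT2g : IsPGroup 2 T := by
    intro t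
    refine ⟨1, ?_⟩
    exact Subtype.ext (by simpa using hT2 t t.2)
  have hTQ : T ≤ Q := le_pCore hTn hT2g
  have huQ : u ∈ Q := hTQ (Subgroup.mem_zpowers u)
  -- the subgroup `R` of elements acting trivially on `Q / T`
  set R : Subgroup H :=
    (Subgroup.centralizer ((Q.map (QuotientGroup.mk' T) : Subgroup (H ⧸ T)) : Set (H ⧸ T))).comap
      (QuotientGroup.mk' T) with hR
  have hmapn : (Q.map (QuotientGroup.mk' T)).Normal :=
    Subgroup.Normal.map hQn _ (QuotientGroup.mk'_surjective T)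
  have hRn : R.Normal := Subgroup.Normal.comap inferInstance _
  have hRmem : ∀ r : H, r ∈ R ↔ ∀ q ∈ Q, q⁻¹ * (r * q * r⁻¹) ∈ T := by
    intro r
    rw [hR, Subgroup.mem_comap, Subgroup.mem_centralizer_iff]
    constructor
    · intro h q hq
      have h1 := h _ (Subgroup.mem_map_of_mem (QuotientGroup.mk' T) hq)
      have h2 : (QuotientGroup.mk' T) (q * r) = (QuotientGroup.mk' T) (r * q) := by
        rw [map_mul, map_mul]; exact h1
      have h3 := (QuotientGroup.eq).mp h2
      have h4 : q⁻¹ * (r * q * r⁻¹) = r * ((q * r)⁻¹ * (r * q)) * r⁻¹ := by group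
      rw [h4]
      exact hTn.conj_mem _ h3 r
    · rintro h y ⟨q, hq, rfl⟩
      have h1 := h q hq
      have h3 : (q * r)⁻¹ * (r * q) ∈ T := by
        have h4 : (q * r)⁻¹ * (r * q) = r⁻¹ * (q⁻¹ * (r * q * r⁻¹)) * r⁻¹⁻¹ := by group
        rw [h4]
        exact hTn.conj_mem _ h1 r⁻¹
      have h2 : (QuotientGroup.mk' T) (q * r) = (QuotientGroup.mk' T) (r * q) :=
        (QuotientGroup.eq).mpr h3
      rw [map_mul, map_mul] at h2
      exact h2
  have hR2 : IsPGroup 2 R := by
    apply isPGroup_two_of_odd_trivial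
    intro r hr m hm hrm
    have h1 : r ∈ Subgroup.centralizer (Q : Set H) := by
      rw [Subgroup.mem_centralizer_iff]
      intro q hq
      exact (commute_of_odd_of_comm_mem hTc hT2 hm hrm ((hRmem r).mp hr q hq)).symm
    have h2 : r ∈ Q := hchar h1
    obtain ⟨k, hk⟩ := hQ2 ⟨r, h2⟩
    have hk' : r ^ 2 ^ k = 1 := by simpa using congrArg Subtype.val hk
    have h4 : orderOf r ∣ m := orderOf_dvd_of_pow_eq_one hrm
    have h5 : orderOf r ∣ 2 ^ k := orderOf_dvd_of_pow_eq_one hk'
    have h6 : Nat.Coprime (2 ^ k) m := Nat.Coprime.pow_left k (Nat.coprime_two_left.mpr hm)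
    have h7 : orderOf r ∣ 1 := by
      have := Nat.dvd_gcd h5 h4
      rwa [h6.gcd_eq_one] at this
    exact orderOf_eq_one_iff.mp (Nat.dvd_one.mp h7)
  have hRQ : R ≤ Q := le_pCore hRn hR2
  -- `U ≤ Q` or `U ∩ Q = T`
  by_cases hUQ : U ≤ Q
  · exact hUQ
  · -- `U ∩ Q = T`
    have hcard : Nat.card (U ⊓ Q : Subgroup H) = 2 := by
      have hlt : (U ⊓ Q : Subgroup H) < U := by
        refine lt_of_le_of_ne inf_le_left ?_
        intro h
        exact hUQ (h ▸ inf_le_right)
      have hdvd : Nat.card (U ⊓ Q : Subgroup H) ∣ 4 := by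
        rw [← hU4]; exact Subgroup.card_dvd_of_le inf_le_left
      have hne4 : Nat.card (U ⊓ Q : Subgroup H) ≠ 4 := by
        intro h4
        have := Subgroup.eq_of_le_of_card_ge (inf_le_left : (U ⊓ Q : Subgroup H) ≤ U)
          (by rw [h4, hU4])
        exact hlt.ne this
      have hne1 : Nat.card (U ⊓ Q : Subgroup H) ≠ 1 := by
        intro h1
        have hbot := (Subgroup.card_eq_one).mp h1
        have : u ∈ (U ⊓ Q : Subgroup H) := ⟨huU, huQ⟩
        rw [hbot, Subgroup.mem_bot] at this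
        exact hu1 this
      have hle : Nat.card (U ⊓ Q : Subgroup H) ≤ 4 := Nat.le_of_dvd (by norm_num) hdvd
      interval_cases h : Nat.card (U ⊓ Q : Subgroup H)
      · exact absurd hdvd (by norm_num)
      · exact absurd rfl hne1
      · rfl
      · exact absurd hdvd (by norm_num)
      · exact absurd rfl hne4
    have hTle : T ≤ U ⊓ Q := le_inf (Subgroup.zpowers_le.mpr huU) hTQ
    have hTcard : Nat.card T = 2 := by
      rw [hT, Nat.card_zpowers]
      exact orderOf_eq_prime hu2 hu1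
    have hTeq : T = U ⊓ Q := Subgroup.eq_of_le_of_card_ge hTle (by rw [hcard, hTcard])
    have hUR : U ≤ R := by
      intro v hv
      rw [hRmem]
      intro q hq
      rw [hTeq]
      constructor
      · -- in `U`: `q` normalizes `U`
        have hqS : q ∈ S := hQS hq
        have h1 : q⁻¹ * v * q⁻¹⁻¹ ∈ U :=
          (Subgroup.mem_normalizer_iff.mp (Subgroup.inv_mem _ (hSU hqS)) v).mp hv
        have h2 : q⁻¹ * (v * q * v⁻¹) = (q⁻¹ * v * q⁻¹⁻¹) * v⁻¹ := by group
        rw [h2]
        exact U.mul_mem h1 (U.inv_mem hv)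
      · exact Q.mul_mem (Q.inv_mem hq) (hQn.conj_mem q hq v)
    exact hUR.trans hRQ

end Cfsg.Agent.Lib.Helper4.FourCent
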