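import Mathlib

/-!
# Involutions in the centre of a subgroup of index 2 of a 2-group with cyclic centre

If `P₀` has index 2 in `P`, the centre of `P` has only one involution `z`, and `u` is an involution of
`Z(P₀)` outside `Z(P)`, then the involutions of `Z(P₀)` are `z`, `u`, `zu`.
-/

set_option autoImplicit false

namespace Cfsg.Agent.Lib.Helper4.FourCent

variable {G : Type*} [Group G]

/-- `y` lies in the centre of `P₀` -/
def IsCen (P₀ : Subgroup G) (y : G) : Prop := y ∈ P₀ ∧ ∀ g ∈ P₀, g * y = y * g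

theorem IsCen.mul {P₀ : Subgroup G} {a b : G} (ha : IsCen P₀ a) (hb : IsCen P₀ b) :
    IsCen P₀ (a * b) := by
  refine ⟨P₀.mul_mem ha.1 hb.1, fun g hg => ?_⟩
  rw [← mul_assoc, ha.2 g hg, mul_assoc, hb.2 g hg, mul_assoc]

theorem IsCen.comm {P₀ : Subgroup G} {a b : G} (ha : IsCen P₀ a) (hb : IsCen P₀ b) :
    a * b = b * a := hb.2 a ha.1

theorem mem_four_of_central_inv {P P₀ : Subgroup G} (hP₀P : P₀ ≤ P)
    {t : G} (htP : t ∈ P) (htP₀ : t ∉ P₀) (hcos : ∀ g ∈ P, g ∉ P₀ → t⁻¹ * g ∈ P₀)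
    {z u : G} (hz2 : z ^ 2 = 1)
    (huniq : ∀ w ∈ P, (∀ g ∈ P, g * w = w * g) → w ^ 2 = 1 → w = 1 ∨ w = z)
    (hu : IsCen P₀ u) (hu2 : u ^ 2 = 1) (hut : t * u ≠ u * t)
    {x : G} (hx : IsCen P₀ x) (hx2 : x ^ 2 = 1) :
    x = 1 ∨ x = z ∨ x = u ∨ x = z * u := by
  -- index two facts
  have ht2 : t * t ∈ P₀ := by
    by_contra h
    have := hcos (t * t) (P.mul_mem htP htP) h
    rw [inv_mul_cancel_left] at this
    exact htP₀ this
  have hn1 : ∀ y ∈ P₀, t * y * t⁻¹ ∈ P₀ := by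
    intro y hy
    by_contra h
    have hP : t * y * t⁻¹ ∈ P := P.mul_mem (P.mul_mem htP (hP₀P hy)) (P.inv_mem htP)
    have h1 := hcos _ hP h
    have h2 : t⁻¹ * (t * y * t⁻¹) = y * t⁻¹ := by group
    rw [h2] at h1
    have h3 : t⁻¹ ∈ P₀ := by
      have := P₀.mul_mem (P₀.inv_mem hy) h1
      rwa [inv_mul_cancel_left] at this
    exact htP₀ (by simpa using P₀.inv_mem h3)
  have hn2 : ∀ y ∈ P₀, t⁻¹ * y * t ∈ P₀ := by
    intro y hy
    by_contra h
    have hP : t⁻¹ * y * t ∈ P := P.mul_mem (P.mul_mem (P.inv_mem htP) (hP₀P hy)) htP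
    have h1 := hcos _ hP h
    have h2 : t * t * (t⁻¹ * (t⁻¹ * y * t)) = y * t := by group
    have h3 : y * t ∈ P₀ := by
      rw [← h2]; exact P₀.mul_mem ht2 h1
    have h4 : t ∈ P₀ := by
      have := P₀.mul_mem (P₀.inv_mem hy) h3
      rwa [inv_mul_cancel_left] at this
    exact htP₀ h4
  -- conjugation by `t` preserves the centre of `P₀`
  have hconj : ∀ y : G, IsCen P₀ y → IsCen P₀ (t * y * t⁻¹) := by
    intro y hy
    refine ⟨hn1 y hy.1, fun g hg => ?_⟩
    have h1 := hy.2 _ (hn2 g hg)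
    calc g * (t * y * t⁻¹) = t * ((t⁻¹ * g * t) * y) * t⁻¹ := by group
      _ = t * (y * (t⁻¹ * g * t)) * t⁻¹ := by rw [h1]
      _ = t * y * t⁻¹ * g := by group
  -- the norm map
  have hphi : ∀ y : G, IsCen P₀ y → y ^ 2 = 1 →
      (y * (t * y * t⁻¹) = 1 ∨ y * (t * y * t⁻¹) = z) ∧
        (y * (t * y * t⁻¹) = 1 → ∀ g ∈ P, g * y = y * g) := by
    intro y hy hy2
    have hy' := hconj y hy
    have hφ : IsCen P₀ (y * (t * y * t⁻¹)) := hy.mul hy'
    have hyy' : y * (t * y * t⁻¹) = (t * y * t⁻¹) * y := hy.comm hy'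
    -- `t` commutes with `φ y`
    have htφ : t * (y * (t * y * t⁻¹)) = (y * (t * y * t⁻¹)) * t := by
      have h1 : (t * t) * y = y * (t * t) := hy.2 _ ht2
      have h2 : t * (y * (t * y * t⁻¹)) * t⁻¹ = (t * y * t⁻¹) * ((t * t) * y * (t * t)⁻¹) := by
        group
      have h3 : (t * t) * y * (t * t)⁻¹ = y := by rw [h1]; group
      have h4 : t * (y * (t * y * t⁻¹)) * t⁻¹ = y * (t * y * t⁻¹) := by
        rw [h2, h3, ← hyy']
      calc t * (y * (t * y * t⁻¹)) = (t * (y * (t * y * t⁻¹)) * t⁻¹) * t := by group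
        _ = (y * (t * y * t⁻¹)) * t := by rw [h4]
    have hall : ∀ g ∈ P, g * (y * (t * y * t⁻¹)) = (y * (t * y * t⁻¹)) * g := by
      intro g hg
      by_cases hg0 : g ∈ P₀
      · exact hφ.2 g hg0
      · have h1 := hφ.2 _ (hcos g hg hg0)
        calc g * (y * (t * y * t⁻¹)) = t * ((t⁻¹ * g) * (y * (t * y * t⁻¹))) := by group
          _ = t * ((y * (t * y * t⁻¹)) * (t⁻¹ * g)) := by rw [h1]
          _ = (t * (y * (t * y * t⁻¹))) * (t⁻¹ * g) := by group
          _ = ((y * (t * y * t⁻¹)) * t) * (t⁻¹ * g) := by rw [htφ]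
          _ = (y * (t * y * t⁻¹)) * g := by group
    have hsq : (y * (t * y * t⁻¹)) ^ 2 = 1 := by
      have hc : Commute y (t * y * t⁻¹) := hyy'
      rw [hc.mul_pow, hy2, one_mul]
      have : (t * y * t⁻¹) ^ 2 = t * y ^ 2 * t⁻¹ := by
        rw [pow_two, pow_two]; group
      rw [this, hy2]; group
    refine ⟨huniq _ (hP₀P hφ.1) hall hsq, ?_⟩
    intro h1 g hg
    -- `t y t⁻¹ = y⁻¹ = y`
    have hyinv : y⁻¹ = y := by
      have : y * y = 1 := by rw [← pow_two]; exact hy2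
      exact inv_eq_of_mul_eq_one_left this
    have h2 : t * y * t⁻¹ = y := by
      have := eq_inv_of_mul_eq_one_right h1
      rw [this, hyinv]
    have hty : t * y = y * t := by
      calc t * y = (t * y * t⁻¹) * t := by group
        _ = y * t := by rw [h2]
    by_cases hg0 : g ∈ P₀
    · exact hy.2 g hg0
    · have h3 := hy.2 _ (hcos g hg hg0)
      calc g * y = t * ((t⁻¹ * g) * y) := by group
        _ = t * (y * (t⁻¹ * g)) := by rw [h3]
        _ = (t * y) * (t⁻¹ * g) := by group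
        _ = (y * t) * (t⁻¹ * g) := by rw [hty]
        _ = y * g := by group
  -- `φ u = z`
  obtain ⟨hu_or, hu_imp⟩ := hphi u hu hu2
  have hφu : u * (t * u * t⁻¹) = z := by
    rcases hu_or with h | h
    · exact absurd (hu_imp h t htP) hut
    · exact h
  obtain ⟨hx_or, hx_imp⟩ := hphi x hx hx2
  rcases hx_or with h | h
  · -- `x` central in `P`
    have := huniq x (hP₀P hx.1) (hx_imp h) hx2
    rcases this with h1 | h1
    · exact Or.inl h1
    · exact Or.inr (Or.inl h1)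
  · -- `φ (x u) = 1`
    have hxu : IsCen P₀ (x * u) := hx.mul hu
    have hxu2 : (x * u) ^ 2 = 1 := by
      have hc : Commute x u := hx.comm hu
      rw [hc.mul_pow, hx2, hu2, one_mul]
    obtain ⟨hw_or, hw_imp⟩ := hphi (x * u) hxu hxu2
    have hx' := hconj x hx
    have hu' := hconj u hu
    have hφw : (x * u) * (t * (x * u) * t⁻¹) = 1 := by
      have h1 : t * (x * u) * t⁻¹ = (t * x * t⁻¹) * (t * u * t⁻¹) := by group
      have h2 : u * (t * x * t⁻¹) = (t * x * t⁻¹) * u := hu.comm hx'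
      have h3 : (x * u) * ((t * x * t⁻¹) * (t * u * t⁻¹)) =
          (x * (t * x * t⁻¹)) * (u * (t * u * t⁻¹)) := by
        calc (x * u) * ((t * x * t⁻¹) * (t * u * t⁻¹))
            = x * (u * (t * x * t⁻¹)) * (t * u * t⁻¹) := by group
          _ = x * ((t * x * t⁻¹) * u) * (t * u * t⁻¹) := by rw [h2]
          _ = (x * (t * x * t⁻¹)) * (u * (t * u * t⁻¹)) := by group
      rw [h1, h3, h, hφu, ← pow_two, hz2]
    have hwc := hw_imp hφw
    have := huniq (x * u) (hP₀P hxu.1) hwc hxu2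
    have huinv : u⁻¹ = u := by
      have : u * u = 1 := by rw [← pow_two]; exact hu2
      exact inv_eq_of_mul_eq_one_left this
    rcases this with h1 | h1
    · right; right; left
      have := eq_inv_of_mul_eq_one_left h1
      rw [this, huinv]
    · right; right; right
      have : x = z * u⁻¹ := eq_mul_inv_of_mul_eq h1
      rw [this, huinv]

end Cfsg.Agent.Lib.Helper4.FourCent
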