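import Mathlib
import Cfsg.Prelude.Def_Solvable
import Cfsg.Prelude.Def_CaseTheorems
import Cfsg.Agent.Lib.Lead.Core
import Cfsg.Agent.Lib.Helper6.PCore
import Cfsg.Agent.Lib.Helper4.FourCent1
import Cfsg.Agent.Lib.Helper4.FourCent2

/-!
# Four-groups in groups of characteristic 2 type: passing to the centralizer of an involution
-/

set_option autoImplicit false

namespace Cfsg.Agent.Lib.Helper4.FourCent

open Cfsg Cfsg.Agent.Lib.Lead

variable {G : Type*} [Group G]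

theorem mem_zpowers_of_sq {u t : G} (hu2 : u ^ 2 = 1) (ht : t ∈ Subgroup.zpowers u) :
    t = 1 ∨ t = u := by
  obtain ⟨k, rfl⟩ := Subgroup.mem_zpowers_iff.mp ht
  rcases Int.even_or_odd k with ⟨j, rfl⟩ | ⟨j, rfl⟩
  · left
    rw [← two_mul, zpow_mul, zpow_ofNat, hu2, one_zpow]
  · right
    rw [zpow_add, zpow_mul, zpow_ofNat, hu2, one_zpow, one_mul, zpow_one]

theorem commute_of_mem_normalizer_zpowers {u h : G} (hu2 : u ^ 2 = 1) (hu1 : u ≠ 1)
    (hh : h ∈ Subgroup.normalizer (Subgroup.zpowers u : Set G)) : h * u = u * h := by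
  have h1 : h * u * h⁻¹ ∈ Subgroup.zpowers u :=
    (Subgroup.mem_normalizer_iff.mp hh u).mp (Subgroup.mem_zpowers u)
  rcases mem_zpowers_of_sq hu2 h1 with h2 | h2
  · exfalso
    apply hu1
    have : u = h⁻¹ * (h * u * h⁻¹) * h := by group
    rw [this, h2]; group
  · calc h * u = (h * u * h⁻¹) * h := by group
      _ = u * h := by rw [h2]

theorem mem_normalizer_zpowers_of_commute {u g : G} (h : g * u = u * g) :
    g ∈ Subgroup.normalizer (Subgroup.zpowers u : Set G) := by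
  have hc : ∀ x ∈ Subgroup.zpowers u, g * x * g⁻¹ = x := by
    intro x hx
    obtain ⟨k, rfl⟩ := Subgroup.mem_zpowers_iff.mp hx
    have h1 : Commute g u := h
    have h2 : g * u ^ k = u ^ k * g := (h1.zpow_right k)
    rw [h2]; group
  rw [Subgroup.mem_normalizer_iff]
  intro x
  constructor
  · intro hx
    rw [hc x hx]; exact hx
  · intro hx
    have h1 := hc _ hx
    have h2 : g * x * g⁻¹ = x := by
      calc g * x * g⁻¹ = g⁻¹ * (g * (g * x * g⁻¹) * g⁻¹) * g := by group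
        _ = g⁻¹ * (g * x * g⁻¹) * g := by rw [h1]
        _ = x := by group
    rw [← h2]; exact hx

variable [Finite G]

/-- Lemma B: passing to `H = N_G(⟨u⟩)` -/
theorem le_pCoreOf_of_sylow
    (hc2 : ∀ T : Subgroup G, IsPGroup 2 T → T ≠ ⊥ →
      IsOfCharacteristicTwo ↥(Subgroup.normalizer (T : Set G)))
    {u : G} (hu2 : u ^ 2 = 1) (hu1 : u ≠ 1) (H : Subgroup G)
    (hH : H = Subgroup.normalizer (Subgroup.zpowers u : Set G))
    (U : Subgroup G) (hU4 : Nat.card U = 4) (huU : u ∈ U) (hUH : U ≤ H)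
    (S : Sylow 2 ↥H)
    (hSU : ∀ s : ↥H, s ∈ (S : Subgroup ↥H) → (s : G) ∈ Subgroup.normalizer (U : Set G)) :
    U ≤ (pCore 2 ↥H).map H.subtype := by
  have hT2 : IsPGroup 2 (Subgroup.zpowers u) := by
    intro t
    refine ⟨1, ?_⟩
    rcases mem_zpowers_of_sq hu2 t.2 with h | h
    · exact Subtype.ext (by simp [h])
    · exact Subtype.ext (by simp [h, hu2])
  have hTne : Subgroup.zpowers u ≠ ⊥ := by
    intro h
    exact hu1 (Subgroup.zpowers_eq_bot.mp h)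
  have hchar : Subgroup.centralizer (pCore 2 ↥H : Set ↥H) ≤ pCore 2 ↥H := by
    have := hc2 _ hT2 hTne
    rw [← hH] at this
    exact this
  have huH : u ∈ H := hUH huU
  have hcomm : ∀ h : ↥H, (h : G) * u = u * (h : G) := by
    intro h
    have h1 : (h : G) ∈ Subgroup.normalizer (Subgroup.zpowers u : Set G) := hH ▸ h.2
    exact commute_of_mem_normalizer_zpowers hu2 hu1 h1
  have key := le_pCore_of_char_two (H := ↥H) hchar (u := ⟨u, huH⟩)
    (Subtype.ext (by simpa using hu2)) (fun h => hu1 (congrArg Subtype.val h))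
    (fun h => Subtype.ext (by simpa using hcomm h))
    (U.subgroupOf H) (S : Subgroup ↥H)
    (by rw [← hU4]; exact Nat.card_congr (Subgroup.subgroupOfEquivOfLe hUH).toEquiv)
    (by rw [Subgroup.mem_subgroupOf]; exact huU)
    (Cfsg.Agent.Lib.Helper6.pCore_le_sylow S)
    (by
      intro s hs
      rw [Subgroup.mem_normalizer_iff]
      intro h
      rw [Subgroup.mem_subgroupOf, Subgroup.mem_subgroupOf]
      exact (Subgroup.mem_normalizer_iff.mp (hSU s hs)) (h : G))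
  intro v hv
  have : (⟨v, hUH hv⟩ : ↥H) ∈ U.subgroupOf H := by
    rw [Subgroup.mem_subgroupOf]; exact hv
  exact ⟨⟨v, hUH hv⟩, key this, rfl⟩

omit [Finite G] in
/-- Lemma C: `C_K(u)` centralizes `U` when `U ≤ O_2(N_G(⟨u⟩))` -/
theorem inf_centralizer_le_of_le_pCoreOf {u : G} (H : Subgroup G)
    (hH : H = Subgroup.normalizer (Subgroup.zpowers u : Set G)) (U K : Subgroup G)
    (hU : U ≤ (pCore 2 ↥H).map H.subtype)
    (hK : Odd (Nat.card K)) (hUK : U ≤ Subgroup.normalizer (K : Set G)) :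
    K ⊓ Subgroup.centralizer {u} ≤ Subgroup.centralizer (U : Set G) := by
  rintro y ⟨hyK, hyu⟩
  rw [Subgroup.mem_centralizer_iff]
  intro v hv
  obtain ⟨q, hq, rfl⟩ := hU hv
  have hyH : y ∈ H := by
    rw [hH]
    exact mem_normalizer_zpowers_of_commute (Subgroup.mem_centralizer_singleton_iff.mp hyu)
  have hQn : (pCore 2 ↥H).Normal := Cfsg.Agent.Lib.Lead.pCore_normal (G := ↥H) 2
  have hQ2 : IsPGroup 2 (pCore 2 ↥H) := Cfsg.Agent.Lib.Lead.pCore_isPGroup (G := ↥H) 2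
  have hc : (⟨y, hyH⟩ : ↥H) * q * (⟨y, hyH⟩ : ↥H)⁻¹ * q⁻¹ ∈ pCore 2 ↥H :=
    (pCore 2 ↥H).mul_mem (hQn.conj_mem q hq _) ((pCore 2 ↥H).inv_mem hq)
  obtain ⟨k, hk⟩ := hQ2 ⟨_, hc⟩
  have hk' : (y * (q : G) * y⁻¹ * (q : G)⁻¹) ^ 2 ^ k = 1 := by
    have := congrArg (fun x : ↥(pCore 2 ↥H) => ((x : ↥H) : G)) hk
    simpa using this
  have hcK : y * (q : G) * y⁻¹ * (q : G)⁻¹ ∈ K := by
    have h1 : (q : G) * y⁻¹ * (q : G)⁻¹ ∈ K :=
      (Subgroup.mem_normalizer_iff.mp (hUK hv) y⁻¹).mp (K.inv_mem hyK)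
    have h2 : y * (q : G) * y⁻¹ * (q : G)⁻¹ = y * ((q : G) * y⁻¹ * (q : G)⁻¹) := by group
    rw [h2]; exact K.mul_mem hyK h1
  have h1 : orderOf (y * (q : G) * y⁻¹ * (q : G)⁻¹) ∣ 2 ^ k := orderOf_dvd_of_pow_eq_one hk'
  have h2 : orderOf (y * (q : G) * y⁻¹ * (q : G)⁻¹) ∣ Nat.card K := by
    have := orderOf_dvd_natCard (⟨_, hcK⟩ : K)
    rwa [Subgroup.orderOf_mk] at this
  have h3 : Nat.Coprime (2 ^ k) (Nat.card K) :=
    Nat.Coprime.pow_left k (Nat.coprime_two_left.mpr hK)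
  have h4 : orderOf (y * (q : G) * y⁻¹ * (q : G)⁻¹) ∣ 1 := by
    have := Nat.dvd_gcd h1 h2
    rwa [h3.gcd_eq_one] at this
  have h5 : y * (q : G) * y⁻¹ * (q : G)⁻¹ = 1 := orderOf_eq_one_iff.mp (Nat.dvd_one.mp h4)
  show (q : G) * y = y * (q : G)
  have h6 : y * (q : G) = (y * (q : G) * y⁻¹ * (q : G)⁻¹) * ((q : G) * y) := by group
  rw [h5, one_mul] at h6
  exact h6.symm

end Cfsg.Agent.Lib.Helper4.FourCent
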