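import Mathlib
import Cfsg.Prelude.Def_Solvable
import Cfsg.Prelude.Def_CaseTheorems
import Cfsg.Prelude.Def_Transfer
import Cfsg.Agent.Lib.Lead.Nilpotent
import Cfsg.Agent.Lib.Helper4.FourCent3

/-!
# Four-groups in groups of characteristic 2 type: the Sylow 2-subgroup of the centralizer
-/

set_option autoImplicit false

namespace Cfsg.Agent.Lib.Helper4.FourCent

open Cfsg

variable {G : Type*} [Group G]

/-- conjugation preserving `P₀` preserves its centre -/
theorem IsCen.conj {P₀ : Subgroup G} {s y : G} (h1 : ∀ g ∈ P₀, s * g * s⁻¹ ∈ P₀)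
    (h2 : ∀ g ∈ P₀, s⁻¹ * g * s ∈ P₀) (hy : IsCen P₀ y) : IsCen P₀ (s * y * s⁻¹) := by
  refine ⟨h1 y hy.1, fun g hg => ?_⟩
  have h3 := hy.2 _ (h2 g hg)
  calc g * (s * y * s⁻¹) = s * ((s⁻¹ * g * s) * y) * s⁻¹ := by group
    _ = s * (y * (s⁻¹ * g * s)) * s⁻¹ := by rw [h3]
    _ = s * y * s⁻¹ * g := by group

section Four

variable {U : Subgroup G} [hU4 : IsKleinFour ↥U]

theorem four_mul_self {x : G} (hx : x ∈ U) : x * x = 1 := by
  have := IsKleinFour.mul_self (⟨x, hx⟩ : ↥U)
  exact congrArg Subtype.val this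

theorem four_sq {x : G} (hx : x ∈ U) : x ^ 2 = 1 := by
  rw [pow_two]; exact four_mul_self hx

theorem four_comm {x y : G} (hx : x ∈ U) (hy : y ∈ U) : x * y = y * x := by
  have h := (IsKleinFour.isMulCommutative (G := ↥U)).is_comm.comm ⟨x, hx⟩ ⟨y, hy⟩
  exact congrArg Subtype.val h

theorem four_cases {a b w : G} (ha : a ∈ U) (hb : b ∈ U) (hw : w ∈ U) (ha1 : a ≠ 1) (hb1 : b ≠ 1)
    (hab : a ≠ b) : w = 1 ∨ w = a ∨ w = b ∨ w = a * b := by
  by_cases h1 : w = 1
  · exact Or.inl h1
  by_cases h2 : w = a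
  · exact Or.inr (Or.inl h2)
  by_cases h3 : w = b
  · exact Or.inr (Or.inr (Or.inl h3))
  right; right; right
  have := IsKleinFour.eq_mul_of_ne_all (G := ↥U) (x := ⟨a, ha⟩) (y := ⟨b, hb⟩) (z := ⟨w, hw⟩)
    (fun h => ha1 (congrArg Subtype.val h)) (fun h => hb1 (congrArg Subtype.val h))
    (fun h => hab (congrArg Subtype.val h)) (fun h => h1 (congrArg Subtype.val h))
    (fun h => h2 (congrArg Subtype.val h)) (fun h => h3 (congrArg Subtype.val h))
  exact congrArg Subtype.val this

end Four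

/-- a cyclic group has at most one involution -/
theorem eq_of_sq_eq_one_of_isCyclic {C : Type*} [Group C] [Finite C] [IsCyclic C] {z w : C}
    (hz2 : z ^ 2 = 1) (hz1 : z ≠ 1) (hw2 : w ^ 2 = 1) : w = 1 ∨ w = z := by
  classical
  have : Fintype C := Fintype.ofFinite C
  by_contra h
  push Not at h
  have h1 := IsCyclic.card_pow_eq_one_le (α := C) (n := 2) (by norm_num)
  have h2 : ({1, z, w} : Finset C) ⊆ Finset.univ.filter (fun a : C => a ^ 2 = 1) := by
    intro x hx
    simp only [Finset.mem_insert, Finset.mem_singleton] at hx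
    rw [Finset.mem_filter]
    refine ⟨Finset.mem_univ _, ?_⟩
    rcases hx with rfl | rfl | rfl
    · simp
    · exact hz2
    · exact hw2
  have h3 : ({1, z, w} : Finset C).card = 3 := by
    rw [Finset.card_insert_of_notMem, Finset.card_insert_of_notMem, Finset.card_singleton]
    · simp only [Finset.mem_singleton]
      exact fun h' => h.2 h'.symm
    · simp only [Finset.mem_insert, Finset.mem_singleton, not_or]
      exact ⟨fun h' => hz1 h'.symm, fun h' => h.1 h'.symm⟩
  have h4 := Finset.card_le_card h2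
  omega

variable [Finite G]

/-- the case of a non-central involution of `U` -/
theorem exists_sylow_of_noncentral (P : Sylow 2 G) (U : Subgroup G) [IsKleinFour ↥U]
    (hUP : U ≤ (P : Subgroup G)) (hUn : (P : Subgroup G) ≤ Subgroup.normalizer (U : Set G))
    (hcyc : IsCyclic ↥((P : Subgroup G) ⊓ Subgroup.centralizer ((P : Subgroup G) : Set G)))
    {u t : G} (huU : u ∈ U) (hu1 : u ≠ 1) (htP : t ∈ (P : Subgroup G)) (hut : t * u ≠ u * t)
    (H : Subgroup G) (hH : H = Subgroup.normalizer (Subgroup.zpowers u : Set G)) :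
    ∃ S : Sylow 2 ↥H, ∀ s : ↥H, s ∈ (S : Subgroup ↥H) →
      (s : G) ∈ Subgroup.normalizer (U : Set G) := by
  classical
  have hu2 : u ^ 2 = 1 := four_sq huU
  have hP2 : IsPGroup 2 (P : Subgroup G) := P.isPGroup'
  -- a central involution `z` of `P` in `U`
  obtain ⟨z, hzU, hzc, hz1⟩ : ∃ z ∈ U, (∀ g ∈ (P : Subgroup G), g * z = z * g) ∧ z ≠ 1 := by
    have : Group.IsNilpotent ↥(P : Subgroup G) := hP2.isNilpotent
    have hN : (U.subgroupOf (P : Subgroup G)).Normal :=
      (Subgroup.normal_subgroupOf_iff_le_normalizer hUP).mpr hUn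
    have hne : U.subgroupOf (P : Subgroup G) ≠ ⊥ := by
      intro hb
      have : (⟨u, hUP huU⟩ : ↥(P : Subgroup G)) ∈ U.subgroupOf (P : Subgroup G) := by
        rw [Subgroup.mem_subgroupOf]; exact huU
      rw [hb, Subgroup.mem_bot] at this
      exact hu1 (congrArg Subtype.val this)
    have hcen := Cfsg.Agent.Lib.Lead.inf_center_ne_bot (U.subgroupOf (P : Subgroup G)) hne
    obtain ⟨⟨c, hcmem⟩, hc1⟩ := (Subgroup.ne_bot_iff_exists_ne_one).mp hcen
    rw [Subgroup.mem_inf] at hcmem
    refine ⟨(c : G), ?_, ?_, ?_⟩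
    · have := hcmem.1
      rwa [Subgroup.mem_subgroupOf] at this
    · intro g hg
      have := hcmem.2
      rw [Subgroup.mem_center_iff] at this
      exact congrArg Subtype.val (this ⟨g, hg⟩)
    · intro h
      apply hc1
      exact Subtype.ext (Subtype.ext h)
  have hzP : z ∈ (P : Subgroup G) := hUP hzU
  have hz2 : z ^ 2 = 1 := four_sq hzU
  have hzu : z ≠ u := by
    rintro rfl
    exact hut (hzc t htP)
  -- uniqueness of the central involution
  have huniq : ∀ w ∈ (P : Subgroup G), (∀ g ∈ (P : Subgroup G), g * w = w * g) → w ^ 2 = 1 →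
      w = 1 ∨ w = z := by
    intro w hwP hwc hw2
    have hmem : ∀ x : G, x ∈ (P : Subgroup G) → (∀ g ∈ (P : Subgroup G), g * x = x * g) →
        x ∈ (P : Subgroup G) ⊓ Subgroup.centralizer ((P : Subgroup G) : Set G) := by
      intro x hx hxc
      rw [Subgroup.mem_inf]
      refine ⟨hx, ?_⟩
      rw [Subgroup.mem_centralizer_iff]
      exact fun g hg => hxc g hg
    have := eq_of_sq_eq_one_of_isCyclic
      (C := ↥((P : Subgroup G) ⊓ Subgroup.centralizer ((P : Subgroup G) : Set G)))
      (z := ⟨z, hmem z hzP hzc⟩) (w := ⟨w, hmem w hwP hwc⟩)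
      (Subtype.ext (by simpa using hz2)) (fun h => hz1 (congrArg Subtype.val h))
      (Subtype.ext (by simpa using hw2))
    rcases this with h | h
    · exact Or.inl (congrArg Subtype.val h)
    · exact Or.inr (congrArg Subtype.val h)
  -- `P₀ = C_P(u)`
  set P₀ : Subgroup G := (P : Subgroup G) ⊓ Subgroup.centralizer {u} with hP₀
  have hP₀P : P₀ ≤ (P : Subgroup G) := inf_le_left
  have hmemP₀ : ∀ g : G, g ∈ P₀ ↔ g ∈ (P : Subgroup G) ∧ g * u = u * g := by
    intro g
    rw [hP₀, Subgroup.mem_inf, Subgroup.mem_centralizer_singleton_iff]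
  have htP₀ : t ∉ P₀ := fun h => hut ((hmemP₀ t).mp h).2
  -- conjugates of `u`
  have hconj : ∀ g ∈ (P : Subgroup G), g ∉ P₀ → g * u * g⁻¹ = z * u := by
    intro g hg hg0
    have h1 : g * u * g⁻¹ ∈ U := (Subgroup.mem_normalizer_iff.mp (hUn hg) u).mp huU
    rcases four_cases hzU huU h1 hz1 hu1 hzu with h | h | h | h
    · exfalso
      apply hu1
      have : u = g⁻¹ * (g * u * g⁻¹) * g := by group
      rw [this, h]; group
    · exfalso
      apply hzu
      have h2 : u = g⁻¹ * (g * u * g⁻¹) * g := by group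
      have h3 : g⁻¹ * z = z * g⁻¹ := hzc _ (Subgroup.inv_mem _ hg)
      rw [h2, h, h3]; group
    · exfalso
      apply hg0
      rw [hmemP₀]
      refine ⟨hg, ?_⟩
      calc g * u = (g * u * g⁻¹) * g := by group
        _ = u * g := by rw [h]
    · exact h
  have hcos : ∀ g ∈ (P : Subgroup G), g ∉ P₀ → t⁻¹ * g ∈ P₀ := by
    intro g hg hg0
    rw [hmemP₀]
    refine ⟨Subgroup.mul_mem _ (Subgroup.inv_mem _ htP) hg, ?_⟩
    have h1 := hconj g hg hg0
    have h2 := hconj t htP htP₀
    have h3 : g * u = t * u * t⁻¹ * g := by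
      calc g * u = (g * u * g⁻¹) * g := by group
        _ = t * u * t⁻¹ * g := by rw [h1, ← h2]
    calc t⁻¹ * g * u = t⁻¹ * (g * u) := by group
      _ = t⁻¹ * (t * u * t⁻¹ * g) := by rw [h3]
      _ = u * (t⁻¹ * g) := by group
  -- elements of `U` are central in `P₀`
  have hUcen : ∀ x ∈ U, IsCen P₀ x := by
    intro x hx
    refine ⟨(hmemP₀ x).mpr ⟨hUP hx, four_comm hx huU⟩, fun g hg => ?_⟩
    have hgP := ((hmemP₀ g).mp hg).1
    have hgu := ((hmemP₀ g).mp hg).2
    rcases four_cases hzU huU hx hz1 hu1 hzu with h | h | h | h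
    · rw [h]; simp
    · rw [h]; exact hzc g hgP
    · rw [h]; exact hgu
    · rw [h, ← mul_assoc, hzc g hgP, mul_assoc, hgu, mul_assoc]
  -- `P₀` has index two in `P`
  have hidx : (P₀.subgroupOf (P : Subgroup G)).index = 2 := by
    rw [Subgroup.index_eq_two_iff]
    refine ⟨⟨t, htP⟩, fun b => ?_⟩
    rw [Subgroup.mem_subgroupOf, Subgroup.mem_subgroupOf]
    by_cases hb : (b : G) ∈ P₀
    · refine Or.inr ⟨hb, ?_⟩
      intro h
      apply htP₀
      have := P₀.mul_mem (P₀.inv_mem hb) h
      simpa using this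
    · refine Or.inl ⟨?_, hb⟩
      have hb' : (b : G)⁻¹ ∉ P₀ := fun h => hb (by simpa using P₀.inv_mem h)
      have := hcos _ (Subgroup.inv_mem _ b.2) hb'
      have h2 := P₀.inv_mem this
      simpa using h2
  have hcardP : Nat.card (P : Subgroup G) = Nat.card P₀ * 2 := by
    have h1 := Subgroup.card_mul_index (P₀.subgroupOf (P : Subgroup G))
    rw [hidx] at h1
    rw [← h1]
    congr 1
    exact Nat.card_congr (Subgroup.subgroupOfEquivOfLe hP₀P).toEquiv
  -- a Sylow 2-subgroup of `H` containing `P₀`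
  have hP₀H : P₀ ≤ H := by
    intro g hg
    rw [hH]
    exact mem_normalizer_zpowers_of_commute ((hmemP₀ g).mp hg).2
  have hP₀2 : IsPGroup 2 (P₀.subgroupOf H) := (hP2.to_le hP₀P).comap_subtype
  obtain ⟨S, hS⟩ := hP₀2.exists_le_sylow
  refine ⟨S, ?_⟩
  have hScomm : ∀ s : ↥H, (s : G) * u = u * (s : G) := by
    intro s
    have h1 : (s : G) ∈ Subgroup.normalizer (Subgroup.zpowers u : Set G) := hH ▸ s.2
    exact commute_of_mem_normalizer_zpowers hu2 hu1 h1
  -- the image of `S` in `G`
  set S' : Subgroup G := (S : Subgroup ↥H).map H.subtype with hS'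
  have hS'mem : ∀ s : ↥H, s ∈ (S : Subgroup ↥H) → (s : G) ∈ S' := fun s hs => ⟨s, hs, rfl⟩
  have hP₀S' : P₀ ≤ S' := by
    intro g hg
    refine ⟨⟨g, hP₀H hg⟩, hS ?_, rfl⟩
    rw [Subgroup.mem_subgroupOf]; exact hg
  by_cases hcase : S' ≤ P₀
  · -- `S' = P₀` centralizes `U`
    intro s hs
    have hs0 : (s : G) ∈ P₀ := hcase (hS'mem s hs)
    have hc : ∀ x ∈ U, (s : G) * x * (s : G)⁻¹ = x := by
      intro x hx
      have := (hUcen x hx).2 _ hs0
      rw [this]; group
    rw [Subgroup.mem_normalizer_iff]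
    intro x
    constructor
    · intro hx; rw [hc x hx]; exact hx
    · intro hx
      have h1 := hc _ hx
      have h2 : (s : G) * x * (s : G)⁻¹ = x := by
        calc (s : G) * x * (s : G)⁻¹
            = (s : G)⁻¹ * ((s : G) * ((s : G) * x * (s : G)⁻¹) * (s : G)⁻¹) * (s : G) := by group
          _ = (s : G)⁻¹ * ((s : G) * x * (s : G)⁻¹) * (s : G) := by rw [h1]
          _ = x := by group
      rw [← h2]; exact hx
  · -- `|S'| = 2 |P₀|`, so `P₀` is normal in `S'`
    have hS'2 : IsPGroup 2 S' := S.isPGroup'.map H.subtype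
    obtain ⟨Q, hQ⟩ := hS'2.exists_le_sylow
    have hcardQ : Nat.card (Q : Subgroup G) = Nat.card (P : Subgroup G) := by
      rw [Sylow.card_eq_multiplicity, Sylow.card_eq_multiplicity]
    have hle : Nat.card S' ≤ Nat.card P₀ * 2 := by
      rw [← hcardP, ← hcardQ]
      exact Subgroup.card_le_of_le hQ
    have hdvd : Nat.card P₀ ∣ Nat.card S' := Subgroup.card_dvd_of_le hP₀S'
    have hne : Nat.card S' ≠ Nat.card P₀ := by
      intro h
      apply hcase
      have := Subgroup.eq_of_le_of_card_ge hP₀S' (le_of_eq h)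
      rw [this]
    have hcardS' : Nat.card S' = Nat.card P₀ * 2 := by
      obtain ⟨k, hk⟩ := hdvd
      have hpos : 0 < Nat.card P₀ := Nat.card_pos
      have hk1 : k ≠ 1 := by
        intro h1; rw [h1, mul_one] at hk; exact hne hk
      have hk0 : k ≠ 0 := by
        intro h0; rw [h0, mul_zero] at hk
        have : 0 < Nat.card S' := Nat.card_pos
        omega
      have hk2 : k ≤ 2 := by
        rw [hk] at hle
        exact Nat.le_of_mul_le_mul_left hle hpos
      have : k = 2 := by omega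
      rw [hk, this]
    have hidx' : (P₀.subgroupOf S').index = 2 := by
      have h1 := Subgroup.card_mul_index (P₀.subgroupOf S')
      have h2 : Nat.card (P₀.subgroupOf S') = Nat.card P₀ :=
        Nat.card_congr (Subgroup.subgroupOfEquivOfLe hP₀S').toEquiv
      rw [h2, hcardS'] at h1
      exact Nat.eq_of_mul_eq_mul_left Nat.card_pos h1
    have hnorm' : (P₀.subgroupOf S').Normal := Subgroup.normal_of_index_eq_two hidx'
    have hnorm : ∀ s ∈ S', ∀ y ∈ P₀, s * y * s⁻¹ ∈ P₀ := by
      intro s hs y hy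
      have := hnorm'.conj_mem ⟨y, hP₀S' hy⟩ (by rw [Subgroup.mem_subgroupOf]; exact hy) ⟨s, hs⟩
      rw [Subgroup.mem_subgroupOf] at this
      exact this
    have hstep : ∀ s ∈ S', ∀ x ∈ U, s * x * s⁻¹ ∈ U := by
      intro s hs x hx
      have hxc : IsCen P₀ (s * x * s⁻¹) := by
        apply IsCen.conj (hnorm s hs) _ (hUcen x hx)
        intro g hg
        have := hnorm s⁻¹ (S'.inv_mem hs) g hg
        simpa using this
      have hx2 : (s * x * s⁻¹) ^ 2 = 1 := by
        have : (s * x * s⁻¹) ^ 2 = s * x ^ 2 * s⁻¹ := by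
          rw [pow_two, pow_two]; group
        rw [this, four_sq hx]; group
      have := mem_four_of_central_inv hP₀P htP htP₀ hcos hz2 huniq (hUcen u huU) hu2 hut hxc hx2
      rcases this with h | h | h | h
      · rw [h]; exact U.one_mem
      · rw [h]; exact hzU
      · rw [h]; exact huU
      · rw [h]; exact U.mul_mem hzU huU
    intro s hs
    have hsS' := hS'mem s hs
    rw [Subgroup.mem_normalizer_iff]
    intro x
    constructor
    · exact hstep _ hsS' x
    · intro hx
      have := hstep _ (S'.inv_mem hsS') _ hx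
      have h2 : (s : G)⁻¹ * ((s : G) * x * (s : G)⁻¹) * (s : G)⁻¹⁻¹ = x := by group
      rw [h2] at this
      exact this

end Cfsg.Agent.Lib.Helper4.FourCent
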