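import Mathlib
import Cfsg.Prelude.Def_Solvable
import Cfsg.Prelude.Def_CaseTheorems
import Cfsg.Prelude.Def_Transfer
import Cfsg.Agent.Lib.Helper3.Gen3
import Cfsg.Agent.Lib.Helper4.FourCent4

/-!
# A normal four-subgroup of a Sylow 2-subgroup of a group of characteristic 2 type centralizes
every subgroup of odd order that it normalizes
-/

set_option autoImplicit false

namespace Cfsg.Agent.Lib.Helper4.FourCent

open Cfsg Cfsg.Agent.Lib.Helper3.Gen

variable {G : Type*} [Group G] [Finite G]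

theorem four_le_pCoreOf
    (hc2 : ∀ T : Subgroup G, IsPGroup 2 T → T ≠ ⊥ →
      IsOfCharacteristicTwo ↥(Subgroup.normalizer (T : Set G)))
    (P : Sylow 2 G) (U : Subgroup G) (hUP : U ≤ (P : Subgroup G))
    (hUn : (P : Subgroup G) ≤ Subgroup.normalizer (U : Set G)) [hU4 : IsKleinFour ↥U]
    (hUZ : ¬ IsCyclic ↥((P : Subgroup G) ⊓ Subgroup.centralizer ((P : Subgroup G) : Set G)) →
      U ≤ Subgroup.centralizer ((P : Subgroup G) : Set G))
    {u : G} (huU : u ∈ U) (hu1 : u ≠ 1) :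
    U ≤ (pCore 2 ↥(Subgroup.normalizer (Subgroup.zpowers u : Set G))).map
      (Subgroup.normalizer (Subgroup.zpowers u : Set G)).subtype := by
  have hu2 : u ^ 2 = 1 := four_sq huU
  have hUH : U ≤ Subgroup.normalizer (Subgroup.zpowers u : Set G) := by
    intro x hx
    exact mem_normalizer_zpowers_of_commute (four_comm hx huU)
  have hcard : Nat.card U = 4 := IsKleinFour.card_four
  by_cases hcen : ∀ g ∈ (P : Subgroup G), g * u = u * g
  · have hPH : (P : Subgroup G) ≤ Subgroup.normalizer (Subgroup.zpowers u : Set G) :=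
      fun g hg => mem_normalizer_zpowers_of_commute (hcen g hg)
    refine le_pCoreOf_of_sylow hc2 hu2 hu1 _ rfl U hcard huU hUH (P.subtype hPH) ?_
    intro s hs
    rw [Sylow.coe_subtype, Subgroup.mem_subgroupOf] at hs
    exact hUn hs
  · push Not at hcen
    obtain ⟨t, htP, hut⟩ := hcen
    have hcyc : IsCyclic ↥((P : Subgroup G) ⊓ Subgroup.centralizer ((P : Subgroup G) : Set G)) := by
      by_contra h
      have h1 := hUZ h huU
      rw [Subgroup.mem_centralizer_iff] at h1
      exact hut (h1 t htP)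
    obtain ⟨S, hS⟩ := exists_sylow_of_noncentral P U hUP hUn hcyc huU hu1 htP hut _ rfl
    exact le_pCoreOf_of_sylow hc2 hu2 hu1 _ rfl U hcard huU hUH S hS

theorem four_group_centralizes
    (hc2 : ∀ T : Subgroup G, IsPGroup 2 T → T ≠ ⊥ →
      IsOfCharacteristicTwo ↥(Subgroup.normalizer (T : Set G)))
    (P : Sylow 2 G) (U : Subgroup G) (hUP : U ≤ (P : Subgroup G))
    (hUn : (P : Subgroup G) ≤ Subgroup.normalizer (U : Set G)) (hU4 : IsKleinFour ↥U)
    (hUZ : ¬ IsCyclic ↥((P : Subgroup G) ⊓ Subgroup.centralizer ((P : Subgroup G) : Set G)) →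
      U ≤ Subgroup.centralizer ((P : Subgroup G) : Set G))
    (K : Subgroup G) (hK : Odd (Nat.card K)) (hUK : U ≤ Subgroup.normalizer (K : Set G)) :
    U ≤ Subgroup.centralizer (K : Set G) := by
  have : Fact (Nat.Prime 2) := ⟨Nat.prime_two⟩
  have hA : IsElementaryAbelian 2 U :=
    ⟨IsKleinFour.isMulCommutative, fun a ha => four_sq ha⟩
  have hcard : Nat.card U = 4 := IsKleinFour.card_four
  have hK2 : ¬ 2 ∣ Nat.card K := fun h => (Nat.not_even_iff_odd.mpr hK) (even_iff_two_dvd.mpr h)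
  have h1 := le_hypJoin hA 4 ⊥ K (by rw [hcard]; omega) bot_le
    (by rw [Subgroup.coe_bot, Subgroup.centralizer_eq_top_iff_subset.mpr (by simp)]; exact le_top)
    hK2 hUK
  rw [Subgroup.le_centralizer_iff]
  refine h1.trans (iSup_le ?_)
  rintro ⟨B, -, hBU, hidx⟩
  -- `B ≠ ⊥`
  have hB : B ≠ ⊥ := by
    rintro rfl
    rw [Subgroup.relIndex_bot_left, hcard] at hidx
    omega
  obtain ⟨b, hb1⟩ := Subgroup.ne_bot_iff_exists_ne_one.mp hB
  have hbU : (b : G) ∈ U := hBU b.2
  have hb1' : (b : G) ≠ 1 := fun h => hb1 (Subtype.ext h)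
  have hgood := four_le_pCoreOf hc2 P U hUP hUn hUZ hbU hb1'
  have h2 := inf_centralizer_le_of_le_pCoreOf _ rfl U K hgood hK hUK
  refine le_trans ?_ h2
  apply inf_le_inf le_rfl
  apply Subgroup.centralizer_le
  intro x hx
  rw [Set.mem_singleton_iff] at hx
  rw [hx]; exact b.2

end Cfsg.Agent.Lib.Helper4.FourCent
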