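import Mathlib

set_option autoImplicit false

/-! A step lemma: pushing commutators `[A, B]` down a chain using an element `x` centralizing `A`
and acting fixed-point-freely on `B`. -/

namespace Cfsg.Agent.Lib.Helper4

open scoped commutatorElement

variable {G : Type*} [Group G]

theorem fpf_comm_step [Finite G] (N N' A B : Subgroup G) (x : G)
    (h1 : ∀ a ∈ A, ∀ b ∈ B, ⁅a, b⁆ ∈ N)
    (hN'N : ∀ n ∈ N, ∀ n' ∈ N', n * n' * n⁻¹ ∈ N')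
    (hN'B : ∀ b ∈ B, ∀ n' ∈ N', b * n' * b⁻¹ ∈ N')
    (hxA : ∀ a ∈ A, x * a = a * x)
    (hxB : ∀ b ∈ B, x * b * x⁻¹ ∈ B)
    (hxN : ∀ n ∈ N, x * n * x⁻¹ * n⁻¹ ∈ N')
    (hfpf : ∀ b ∈ B, x * b * x⁻¹ = b → b = 1) :
    ∀ a ∈ A, ∀ b ∈ B, ⁅a, b⁆ ∈ N' := by
  intro a ha
  -- the map b ↦ b⁻¹ x b x⁻¹ on B
  let φ : B → B := fun b => ⟨(b : G)⁻¹ * (x * b * x⁻¹), B.mul_mem (B.inv_mem b.2) (hxB b b.2)⟩
  have hφinj : Function.Injective φ := by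
    intro b c hbc
    have h2 : (b : G)⁻¹ * (x * b * x⁻¹) = (c : G)⁻¹ * (x * c * x⁻¹) := congrArg Subtype.val hbc
    have h3 : x * ((c : G) * (b : G)⁻¹) * x⁻¹ = (c : G) * (b : G)⁻¹ := by
      have : x * ((c : G) * (b : G)⁻¹) * x⁻¹ = (c : G) * ((c : G)⁻¹ * (x * c * x⁻¹)) *
          ((b : G)⁻¹ * (x * b * x⁻¹))⁻¹ * (b : G)⁻¹ := by group
      rw [this, h2]; group
    have h4 := hfpf _ (B.mul_mem c.2 (B.inv_mem b.2)) h3
    apply Subtype.ext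
    have : (c : G) = ((c : G) * (b : G)⁻¹) * b := by group
    rw [this, h4, one_mul]
  have hφsurj : Function.Surjective φ := Finite.surjective_of_injective hφinj
  intro b hb
  obtain ⟨c, hc⟩ := hφsurj ⟨b, hb⟩
  have hbc : b = (c : G)⁻¹ * (x * c * x⁻¹) := (congrArg Subtype.val hc).symm
  obtain ⟨n, hndef⟩ : ∃ n : G, n = ⁅a, (c : G)⁆ := ⟨_, rfl⟩
  have hnN : n ∈ N := by rw [hndef]; exact h1 a ha c c.2
  have hxa : x * a * x⁻¹ = a := by rw [hxA a ha]; group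
  have h5 : ⁅a, x * (c : G) * x⁻¹⁆ = x * n * x⁻¹ := by
    rw [hndef]
    have : x * ⁅a, (c : G)⁆ * x⁻¹ = ⁅x * a * x⁻¹, x * (c : G) * x⁻¹⁆ := by
      simp only [commutatorElement_def]; group
    rw [this, hxa]
  have h6 : ⁅a, b⁆ = (c : G)⁻¹ * (n⁻¹ * (x * n * x⁻¹ * n⁻¹) * n) * (c : G)⁻¹⁻¹ := by
    rw [hbc]
    have : ⁅a, (c : G)⁻¹ * (x * c * x⁻¹)⁆ =
        (c : G)⁻¹ * (⁅a, (c : G)⁆⁻¹ * ⁅a, x * (c : G) * x⁻¹⁆) * (c : G) := by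
      simp only [commutatorElement_def]; group
    rw [this, h5, ← hndef]; group
  rw [h6]
  apply hN'B _ (B.inv_mem c.2)
  have := hN'N n⁻¹ (N.inv_mem hnN) _ (hxN n hnN)
  simpa using this

end Cfsg.Agent.Lib.Helper4
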