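import Mathlib
import Cfsg.Agent.Lib.Helper4.FusionLift1
import Cfsg.Agent.Lib.Helper4.AlperinTame3
import Cfsg.Agent.Lib.Helper4.SmallFusion

set_option autoImplicit false
open Pointwise

/-! Lifting control of strong fusion from a normal subgroup: the key step. -/

namespace Cfsg.Agent.Lib.Helper4

open Cfsg Cfsg.Agent.Lib.Helper7

variable {G : Type*} [Group G] {p : ℕ}

/-- `k ∈ C(A) H` -/
def InCH (H : Subgroup G) (A : Set G) (k : G) : Prop :=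
  ∃ c ∈ Subgroup.centralizer A, ∃ h ∈ H, k = c * h

theorem centralizer_conj_mem {U : Subgroup G} {h c : G} (hh : h ∈ Subgroup.normalizer (U : Set G))
    (hc : c ∈ Subgroup.centralizer (U : Set G)) : h * c * h⁻¹ ∈ Subgroup.centralizer (U : Set G) := by
  rw [Subgroup.mem_centralizer_iff] at hc ⊢
  intro u hu
  have h1 : h⁻¹ * u * h ∈ U := by
    have := (Subgroup.mem_normalizer_iff.mp (Subgroup.inv_mem _ hh) u).mp hu
    simpa using this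
  have h2 := hc _ h1
  calc u * (h * c * h⁻¹) = h * ((h⁻¹ * u * h) * c) * h⁻¹ := by group
    _ = h * (c * (h⁻¹ * u * h)) * h⁻¹ := by rw [h2]
    _ = h * c * h⁻¹ * u := by group

theorem Via.toCH [Finite G] {𝓕 : Set (Subgroup G)} {A : Set G} {k : G} (h : Via 𝓕 A k) (H : Subgroup G)
    (hstep : ∀ U ∈ 𝓕, A.ncard ≤ Nat.card U → ∀ x ∈ Subgroup.normalizer (U : Set G),
      InCH H (U : Set G) x) : InCH H A k := by
  induction h with
  | nil A => exact ⟨1, Subgroup.one_mem _, 1, H.one_mem, by simp⟩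
  | cons A T x g hT hx hA _ ih =>
    have h1 : A.ncard ≤ Nat.card T := Set.ncard_le_ncard hA (Set.toFinite _)
    obtain ⟨c₁, hc₁, h₁, hh₁, hx1⟩ := hstep T hT h1 x hx
    have hc₁A : c₁ ∈ Subgroup.centralizer A := Subgroup.centralizer_le hA hc₁
    obtain ⟨c₂, hc₂, h₂, hh₂, hg2⟩ := ih (by
      intro U hU hcard y hy
      rw [ncard_cs] at hcard
      exact hstep U hU hcard y hy)
    refine ⟨c₁ * (h₁ * c₂ * h₁⁻¹), Subgroup.mul_mem _ hc₁A ?_, h₁ * h₂, H.mul_mem hh₁ hh₂, ?_⟩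
    · rw [Subgroup.mem_centralizer_iff]
      intro a ha
      have h3 : x⁻¹ * a * x ∈ cs x A := ⟨a, ha, rfl⟩
      have h4 := Subgroup.mem_centralizer_iff.mp hc₂ _ h3
      have h5 : x⁻¹ * a * x = h₁⁻¹ * a * h₁ := by
        have h6 := Subgroup.mem_centralizer_iff.mp hc₁A a ha
        rw [hx1]
        calc (c₁ * h₁)⁻¹ * a * (c₁ * h₁) = h₁⁻¹ * (c₁⁻¹ * (a * c₁)) * h₁ := by group
          _ = h₁⁻¹ * (c₁⁻¹ * (c₁ * a)) * h₁ := by rw [h6]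
          _ = h₁⁻¹ * a * h₁ := by group
      rw [h5] at h4
      calc a * (h₁ * c₂ * h₁⁻¹) = h₁ * ((h₁⁻¹ * a * h₁) * c₂) * h₁⁻¹ := by group
        _ = h₁ * (c₂ * (h₁⁻¹ * a * h₁)) * h₁⁻¹ := by rw [h4]
        _ = h₁ * c₂ * h₁⁻¹ * a := by group
    · rw [hx1, hg2]; group

variable [Finite G] [Fact p.Prime]

/-- the key step: `N_G(U) ⊆ C_G(U) H` for a fully normalized subgroup `U` -/
theorem lift_step (N : Subgroup G) [hNn : N.Normal] (P : Sylow p G) (H : Subgroup G)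
    (hTH : Subgroup.normalizer (((P : Subgroup G) ⊓ N : Subgroup G) : Set G) ≤ H)
    (hctl : ∀ A : Subgroup G, A ≤ (P : Subgroup G) ⊓ N → ∀ n ∈ N, Helper7.cj n A ≤ (P : Subgroup G) ⊓ N →
      ∃ h ∈ N ⊓ H, ∃ c ∈ N ⊓ Subgroup.centralizer (A : Set G), n = h * c)
    (U : Subgroup G) (hUP : U ≤ (P : Subgroup G))
    (hfn : ¬ p ∣ ((P : Subgroup G) ⊓ Subgroup.normalizer (U : Set G)).relIndex
      (Subgroup.normalizer (U : Set G)))
    (IH : ∀ A' : Subgroup G, A' ≤ (P : Subgroup G) → Nat.card U < Nat.card A' → ∀ k : G,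
      cs k (A' : Set G) ⊆ (P : Subgroup G) → InCH H (A' : Set G) k) :
    ∀ x ∈ Subgroup.normalizer (U : Set G), InCH H (U : Set G) x := by
  classical
  have hPp : IsPGroup p (P : Subgroup G) := P.isPGroup'
  have hUp : IsPGroup p U := hPp.to_le hUP
  obtain ⟨T, hTdef⟩ : ∃ T : Subgroup G, T = (P : Subgroup G) ⊓ N := ⟨_, rfl⟩
  rw [← hTdef] at hTH hctl
  have hTP : T ≤ (P : Subgroup G) := by rw [hTdef]; exact inf_le_left
  have hTN : T ≤ N := by rw [hTdef]; exact inf_le_right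
  have hPT : (P : Subgroup G) ≤ Subgroup.normalizer (T : Set G) := by
    apply le_normalizer_of_conj_mem
    intro x hx y hy
    rw [hTdef] at hy ⊢
    exact Subgroup.mem_inf.mpr ⟨Subgroup.mul_mem _ (Subgroup.mul_mem _ hx hy.1) (Subgroup.inv_mem _ hx),
      hNn.conj_mem y hy.2 x⟩
  have hPH : (P : Subgroup G) ≤ H := hPT.trans hTH
  obtain ⟨𝒩, h𝒩def⟩ : ∃ X : Subgroup G, X = Subgroup.normalizer (U : Set G) := ⟨_, rfl⟩
  obtain ⟨CU, hCUdef⟩ : ∃ X : Subgroup G, X = Subgroup.centralizer (U : Set G) := ⟨_, rfl⟩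
  have h𝒩U : 𝒩 ≤ Subgroup.normalizer (U : Set G) := by rw [h𝒩def]
  have hU𝒩 : U ≤ 𝒩 := by rw [h𝒩def]; exact Subgroup.le_normalizer
  have hCU𝒩 : CU ≤ 𝒩 := by rw [hCUdef, h𝒩def]; exact Subgroup.centralizer_le_normalizer _
  have hconjCU : ∀ h ∈ 𝒩, ∀ c ∈ CU, h * c * h⁻¹ ∈ CU := by
    intro h hh c hc
    rw [hCUdef] at hc ⊢
    exact centralizer_conj_mem (h𝒩U hh) hc
  have hconjU : ∀ h ∈ 𝒩, ∀ u ∈ U, h * u * h⁻¹ ∈ U := by
    intro h hh u hu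
    exact (Subgroup.mem_normalizer_iff.mp (h𝒩U hh) u).mp hu
  -- the subgroup 𝒮
  let 𝒮 : Subgroup G :=
    { carrier := {m | m ∈ 𝒩 ∧ ∃ c ∈ CU, ∃ h ∈ H, m = c * h}
      one_mem' := ⟨𝒩.one_mem, 1, CU.one_mem, 1, H.one_mem, by simp⟩
      mul_mem' := by
        rintro a b ⟨ha𝒩, c₁, hc₁, h₁, hh₁, rfl⟩ ⟨hb𝒩, c₂, hc₂, h₂, hh₂, rfl⟩
        refine ⟨𝒩.mul_mem ha𝒩 hb𝒩, c₁ * (h₁ * c₂ * h₁⁻¹), CU.mul_mem hc₁ ?_, h₁ * h₂,
          H.mul_mem hh₁ hh₂, by group⟩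
        have hh₁𝒩 : h₁ ∈ 𝒩 := by
          have : h₁ = c₁⁻¹ * (c₁ * h₁) := by group
          rw [this]; exact 𝒩.mul_mem (𝒩.inv_mem (hCU𝒩 hc₁)) ha𝒩
        exact hconjCU h₁ hh₁𝒩 c₂ hc₂
      inv_mem' := by
        rintro a ⟨ha𝒩, c, hc, h, hh, rfl⟩
        have hh𝒩 : h ∈ 𝒩 := by
          have : h = c⁻¹ * (c * h) := by group
          rw [this]; exact 𝒩.mul_mem (𝒩.inv_mem (hCU𝒩 hc)) ha𝒩
        refine ⟨𝒩.inv_mem ha𝒩, h⁻¹ * c⁻¹ * h⁻¹⁻¹, hconjCU h⁻¹ (𝒩.inv_mem hh𝒩) c⁻¹ (CU.inv_mem hc),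
          h⁻¹, H.inv_mem hh, by group⟩ }
  have hmem𝒮 : ∀ m : G, m ∈ 𝒮 ↔ (m ∈ 𝒩 ∧ ∃ c ∈ CU, ∃ h ∈ H, m = c * h) := fun m => Iff.rfl
  have hH𝒮 : ∀ h ∈ H, h ∈ 𝒩 → h ∈ 𝒮 := fun h hh hh𝒩 =>
    (hmem𝒮 h).mpr ⟨hh𝒩, 1, CU.one_mem, h, hh, by simp⟩
  have hC𝒮 : ∀ c ∈ CU, c ∈ 𝒮 := fun c hc =>
    (hmem𝒮 c).mpr ⟨hCU𝒩 hc, c, hc, 1, H.one_mem, by simp⟩
  have hfinal : ∀ x : G, x ∈ 𝒮 → InCH H (U : Set G) x := by
    intro x hx
    obtain ⟨_, c, hc, h, hh, hxch⟩ := (hmem𝒮 x).mp hx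
    exact ⟨c, by rw [← hCUdef]; exact hc, h, hh, hxch⟩
  -- subgroups
  obtain ⟨Rp, hRpdef⟩ : ∃ X : Subgroup G, X = (P : Subgroup G) ⊓ 𝒩 := ⟨_, rfl⟩
  have hRp : SylIn p 𝒩 Rp := by
    refine ⟨by rw [hRpdef]; exact inf_le_right, hPp.to_le (by rw [hRpdef]; exact inf_le_left), ?_⟩
    rw [hRpdef, h𝒩def]; exact hfn
  have hRpP : Rp ≤ (P : Subgroup G) := by rw [hRpdef]; exact inf_le_left
  obtain ⟨L, hLdef⟩ : ∃ X : Subgroup G, X = N ⊓ 𝒩 := ⟨_, rfl⟩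
  have hL𝒩 : L ≤ 𝒩 := by rw [hLdef]; exact inf_le_right
  have hLN : L ≤ N := by rw [hLdef]; exact inf_le_left
  have h𝒩L : 𝒩 ≤ Subgroup.normalizer (L : Set G) := by
    apply le_normalizer_of_conj_mem
    intro x hx y hy
    rw [hLdef] at hy ⊢
    exact Subgroup.mem_inf.mpr ⟨hNn.conj_mem y hy.1 x, 𝒩.mul_mem (𝒩.mul_mem hx hy.2) (𝒩.inv_mem hx)⟩
  obtain ⟨R, hRdef⟩ : ∃ X : Subgroup G, X = Rp ⊓ L := ⟨_, rfl⟩
  have hR : SylIn p L R := by rw [hRdef]; exact sylIn_inf_normal hL𝒩 h𝒩L hRp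
  have hRRp : R ≤ Rp := by rw [hRdef]; exact inf_le_left
  have hRP : R ≤ (P : Subgroup G) := hRRp.trans hRpP
  obtain ⟨B, hBdef⟩ : ∃ X : Subgroup G, X = U ⊓ N := ⟨_, rfl⟩
  have hBU : B ≤ U := by rw [hBdef]; exact inf_le_left
  have hBN : B ≤ N := by rw [hBdef]; exact inf_le_right
  have hBT : B ≤ T := by rw [hTdef]; exact le_inf (hBU.trans hUP) hBN
  have hconjB : ∀ x ∈ 𝒩, ∀ y ∈ B, x * y * x⁻¹ ∈ B := by
    intro x hx y hy
    rw [hBdef] at hy ⊢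
    exact Subgroup.mem_inf.mpr ⟨hconjU x hx y hy.1, hNn.conj_mem y hy.2 x⟩
  have h𝒩B : 𝒩 ≤ Subgroup.normalizer (B : Set G) := le_normalizer_of_conj_mem _ _ hconjB
  obtain ⟨M, hMdef⟩ : ∃ X : Subgroup G, X = L ⊓ Subgroup.centralizer (B : Set G) := ⟨_, rfl⟩
  have hML : M ≤ L := by rw [hMdef]; exact inf_le_left
  have hM𝒩 : M ≤ 𝒩 := hML.trans hL𝒩
  have hMCB : M ≤ Subgroup.centralizer (B : Set G) := by rw [hMdef]; exact inf_le_right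
  have h𝒩M : 𝒩 ≤ Subgroup.normalizer (M : Set G) := by
    apply le_normalizer_of_conj_mem
    intro x hx y hy
    rw [hMdef] at hy ⊢
    refine Subgroup.mem_inf.mpr ⟨?_, centralizer_conj_mem (h𝒩B hx) hy.2⟩
    exact (Subgroup.mem_normalizer_iff.mp (h𝒩L hx) y).mp hy.1
  obtain ⟨K, hKdef⟩ : ∃ X : Subgroup G, X = N ⊓ CU := ⟨_, rfl⟩
  have hKCU : K ≤ CU := by rw [hKdef]; exact inf_le_right
  have hKM : K ≤ M := by
    intro k hk
    rw [hKdef] at hk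
    rw [hMdef, hLdef]
    refine Subgroup.mem_inf.mpr ⟨Subgroup.mem_inf.mpr ⟨hk.1, hCU𝒩 hk.2⟩, ?_⟩
    have h2 : k ∈ Subgroup.centralizer (U : Set G) := by rw [← hCUdef]; exact hk.2
    exact Subgroup.centralizer_le (show (B : Set G) ⊆ U from hBU) h2
  have hMK : M ≤ Subgroup.normalizer (K : Set G) := by
    apply le_normalizer_of_conj_mem
    intro x hx y hy
    rw [hKdef] at hy ⊢
    exact Subgroup.mem_inf.mpr ⟨hNn.conj_mem y hy.1 x, hconjCU x (hM𝒩 hx) y hy.2⟩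
  obtain ⟨R₀, hR₀def⟩ : ∃ X : Subgroup G, X = R ⊓ M := ⟨_, rfl⟩
  have hR₀ : SylIn p M R₀ := by
    rw [hR₀def]; exact sylIn_inf_normal hML (hL𝒩.trans h𝒩M) hR
  have hR₀R : R₀ ≤ R := by rw [hR₀def]; exact inf_le_left
  -- p'-elements of M lie in K
  have hp'M : ∀ v ∈ M, (orderOf v).Coprime p → v ∈ K := by
    intro v hv hcop
    have hvN : v ∈ N := hLN (hML hv)
    have hv𝒩 : v ∈ 𝒩 := hM𝒩 hv
    rw [hKdef, hCUdef]
    refine Subgroup.mem_inf.mpr ⟨hvN, ?_⟩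
    apply pPrime_stab_centralizes hUp hBU hcop (hMCB hv)
    intro u hu
    rw [hBdef]
    refine Subgroup.mem_inf.mpr ⟨U.mul_mem (hconjU v hv𝒩 u hu) (U.inv_mem hu), ?_⟩
    have : v * u * v⁻¹ * u⁻¹ = v * (u * v⁻¹ * u⁻¹) := by group
    rw [this]
    exact N.mul_mem hvN (hNn.conj_mem _ (N.inv_mem hvN) u)
  have hRp𝒮 : Rp ≤ 𝒮 := fun r hr => hH𝒮 r (hPH (hRpP hr)) (hRp.1 hr)
  have hM𝒮 : M ≤ 𝒮 := by
    intro m hm
    obtain ⟨k, hk, r, hr, hmkr⟩ := exists_mul_of_pPrime_le hKM hMK hR₀ hp'M hm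
    rw [hmkr]
    exact 𝒮.mul_mem (hC𝒮 k (hKCU hk)) (hRp𝒮 (hRRp (hR₀R hr)))
  -- handling an element normalizing a larger subgroup
  have hbig : ∀ (E : Subgroup G), E ≤ (P : Subgroup G) → E ≤ 𝒩 → ¬ E ≤ U →
      ∀ y ∈ 𝒩 ⊓ Subgroup.normalizer (E : Set G), y ∈ 𝒮 := by
    intro E hEP hE𝒩 hEU y hy
    have hU'P : U ⊔ E ≤ (P : Subgroup G) := sup_le hUP hEP
    have hlt : U < U ⊔ E := by
      refine lt_of_le_of_ne le_sup_left ?_
      intro heq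
      apply hEU
      rw [heq]; exact le_sup_right
    have hyU' : y ∈ Subgroup.normalizer ((U ⊔ E : Subgroup G) : Set G) := by
      rw [mem_normalizer_iff_cj, cj_sup, mem_normalizer_iff_cj.mp (h𝒩U hy.1),
        mem_normalizer_iff_cj.mp hy.2]
    have h1 : cs y ((U ⊔ E : Subgroup G) : Set G) ⊆ (P : Subgroup G) := by
      rw [cs_eq_self_of_mem_normalizer hyU']; exact_mod_cast hU'P
    obtain ⟨c, hc, h, hh, hych⟩ := IH (U ⊔ E) hU'P (card_lt_of_lt hlt) y h1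
    rw [hmem𝒮]
    refine ⟨hy.1, c, ?_, h, hh, hych⟩
    rw [hCUdef]
    exact Subgroup.centralizer_le (SetLike.coe_subset_coe.mpr (le_sup_left : U ≤ U ⊔ E)) hc
  by_cases hc1 : R₀ ≤ B
  swap
  · -- Case 1
    intro x hx
    have hx𝒩 : x ∈ 𝒩 := by rw [h𝒩def]; exact hx
    obtain ⟨m, hm, y, hy, hxy⟩ := frattini_rel hM𝒩 h𝒩M hR₀ hx𝒩
    have hR₀U : ¬ R₀ ≤ U := by
      intro hle
      apply hc1
      intro r hr
      rw [hBdef]
      exact Subgroup.mem_inf.mpr ⟨hle hr, hLN (hR.1 (hR₀R hr))⟩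
    have hy𝒮 := hbig R₀ (hR₀R.trans hRP) (hR₀.1.trans hM𝒩) hR₀U y hy
    apply hfinal
    rw [hxy]
    exact 𝒮.mul_mem (hM𝒮 hm) hy𝒮
  by_cases hc2 : R ≤ B
  · -- Case 2a
    have hUT : U ≤ Subgroup.normalizer (T : Set G) := hUP.trans hPT
    have hTU : T ≤ U := by
      by_contra hnot
      have hlt : U < T ⊔ U := by
        refine lt_of_le_of_ne le_sup_right ?_
        intro heq
        apply hnot
        rw [heq]; exact le_sup_left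
      have hpg : IsPGroup p (T ⊔ U : Subgroup G) := hPp.to_le (sup_le hTP hUP)
      have hgrow := Cfsg.Agent.Lib.Lead.pgroup_normalizer_grows p _ U hpg hlt
      obtain ⟨y, hy, hyU⟩ := SetLike.exists_of_lt hgrow
      obtain ⟨t, ht, u, hu, hytu⟩ := exists_mul_of_mem_sup_normalizer hUT hy.1
      apply hyU
      have hy𝒩 : y ∈ 𝒩 := by rw [h𝒩def]; exact hy.2
      have ht𝒩 : t ∈ 𝒩 := by
        have : t = y * u⁻¹ := by rw [hytu]; group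
        rw [this]; exact 𝒩.mul_mem hy𝒩 (𝒩.inv_mem (hU𝒩 hu))
      have htR : t ∈ R := by
        rw [hRdef, hRpdef, hLdef]
        exact Subgroup.mem_inf.mpr ⟨Subgroup.mem_inf.mpr ⟨hTP ht, ht𝒩⟩,
          Subgroup.mem_inf.mpr ⟨hTN ht, ht𝒩⟩⟩
      rw [hytu]
      exact U.mul_mem (hBU (hc2 htR)) hu
    have hBeq : B = T := le_antisymm hBT (by rw [hBdef]; exact le_inf hTU hTN)
    intro x hx
    have hx𝒩 : x ∈ 𝒩 := by rw [h𝒩def]; exact hx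
    have hxT : x ∈ Subgroup.normalizer (T : Set G) := by rw [← hBeq]; exact h𝒩B hx𝒩
    exact ⟨1, Subgroup.one_mem _, x, hTH hxT, by simp⟩
  · -- Case 2b
    have hRU : ¬ R ≤ U := by
      intro hle
      apply hc2
      intro r hr
      rw [hBdef]
      exact Subgroup.mem_inf.mpr ⟨hle hr, hLN (hR.1 hr)⟩
    obtain ⟨J, hJdef⟩ : ∃ X : Subgroup G, X = (N ⊓ H) ⊓ Subgroup.centralizer (B : Set G) := ⟨_, rfl⟩
    have hUH : U ≤ H := hUP.trans hPH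
    have hUJ : U ≤ Subgroup.normalizer (J : Set G) := by
      apply le_normalizer_of_conj_mem
      intro u hu y hy
      rw [hJdef] at hy ⊢
      refine Subgroup.mem_inf.mpr ⟨Subgroup.mem_inf.mpr ⟨hNn.conj_mem y hy.1.1 u,
        H.mul_mem (H.mul_mem (hUH hu) hy.1.2) (H.inv_mem (hUH hu))⟩, ?_⟩
      exact centralizer_conj_mem (h𝒩B (hU𝒩 hu)) hy.2
    have hUsyl : SylIn p (U ⊔ J) U := by
      obtain ⟨U₁, hUU₁, hU₁⟩ := exists_sylIn_ge (le_sup_left : U ≤ U ⊔ J) hUp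
      have heq : U₁ = U := by
        by_contra hne
        have hlt : U < U₁ := lt_of_le_of_ne hUU₁ (Ne.symm hne)
        have hgrow := Cfsg.Agent.Lib.Lead.pgroup_normalizer_grows p _ U hU₁.2.1 hlt
        obtain ⟨y, hy, hyU⟩ := SetLike.exists_of_lt hgrow
        have hyJU : y ∈ J ⊔ U := by rw [sup_comm]; exact hU₁.1 hy.1
        obtain ⟨j, hj, u, hu, hyju⟩ := exists_mul_of_mem_sup_normalizer hUJ hyJU
        apply hyU
        have hy𝒩 : y ∈ 𝒩 := by rw [h𝒩def]; exact hy.2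
        have hjeq : j = y * u⁻¹ := by rw [hyju]; group
        have hj𝒩 : j ∈ 𝒩 := by
          rw [hjeq]; exact 𝒩.mul_mem hy𝒩 (𝒩.inv_mem (hU𝒩 hu))
        have hjU₁ : j ∈ U₁ := by
          rw [hjeq]; exact U₁.mul_mem hy.1 (U₁.inv_mem (hUU₁ hu))
        have hjM : j ∈ M := by
          rw [hJdef] at hj
          rw [hMdef, hLdef]
          exact Subgroup.mem_inf.mpr ⟨Subgroup.mem_inf.mpr ⟨hj.1.1, hj𝒩⟩, hj.2⟩
        have hzp : IsPGroup p (Subgroup.zpowers j) :=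
          hU₁.2.1.to_le (Subgroup.zpowers_le.mpr hjU₁)
        obtain ⟨c, hc, hcj⟩ := hR₀.exists_conj_le (Subgroup.zpowers_le.mpr hjM) hzp
        have h1 : c * j * c⁻¹ ∈ B := by
          apply hc1
          apply hcj
          exact ⟨j, Subgroup.mem_zpowers j, rfl⟩
        have h2 := hconjB c⁻¹ (𝒩.inv_mem (hM𝒩 hc)) _ h1
        have h3 : c⁻¹ * (c * j * c⁻¹) * c⁻¹⁻¹ = j := by group
        rw [h3] at h2
        rw [hyju]
        exact U.mul_mem (hBU h2) hu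
      rw [heq] at hU₁; exact hU₁
    intro x hx
    have hx𝒩 : x ∈ 𝒩 := by rw [h𝒩def]; exact hx
    obtain ⟨l, hl, y, hy, hxy⟩ := frattini_rel hL𝒩 h𝒩L hR hx𝒩
    have hy𝒮 := hbig R hRP (hR.1.trans hL𝒩) hRU y hy
    have hl𝒩 : l ∈ 𝒩 := hL𝒩 hl
    have hlN : l ∈ N := hLN hl
    have hlB : Helper7.cj l B = B := mem_normalizer_iff_cj.mp (h𝒩B hl𝒩)
    obtain ⟨h, hh, c, hc, hlhc⟩ := hctl B hBT l hlN (by rw [hlB]; exact hBT)
    have hheq : h = l * c⁻¹ := by rw [hlhc]; group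
    have hcCB : c ∈ Subgroup.centralizer (B : Set G) := hc.2
    have hhB : h ∈ Subgroup.normalizer (B : Set G) := by
      rw [hheq]
      exact Subgroup.mul_mem _ (h𝒩B hl𝒩)
        (Subgroup.inv_mem _ (Subgroup.centralizer_le_normalizer _ hcCB))
    have hhU : Helper7.cj h U ≤ U ⊔ J := by
      rintro _ ⟨u, hu, rfl⟩
      show h * u * h⁻¹ ∈ U ⊔ J
      set c' : G := u⁻¹ * c⁻¹ * u * c with hc'
      have hc'N : c' ∈ N := by
        have : c' = (u⁻¹ * c⁻¹ * u⁻¹⁻¹) * c := by rw [hc']; group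
        rw [this]
        exact N.mul_mem (hNn.conj_mem _ (N.inv_mem hc.1) _) hc.1
      have hc'CB : c' ∈ Subgroup.centralizer (B : Set G) := by
        have : c' = (u⁻¹ * c⁻¹ * u⁻¹⁻¹) * c := by rw [hc']; group
        rw [this]
        exact Subgroup.mul_mem _ (centralizer_conj_mem (h𝒩B (𝒩.inv_mem (hU𝒩 hu)))
          (Subgroup.inv_mem _ hcCB)) hcCB
      have hu₁ : l * u * l⁻¹ ∈ U := hconjU l hl𝒩 u hu
      have hj₁N : l * c' * l⁻¹ ∈ N := hNn.conj_mem _ hc'N l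
      have hj₁CB : l * c' * l⁻¹ ∈ Subgroup.centralizer (B : Set G) :=
        centralizer_conj_mem (h𝒩B hl𝒩) hc'CB
      have hdecomp : h * u * h⁻¹ = (l * u * l⁻¹) * (l * c' * l⁻¹) := by
        rw [hheq, hc']; group
      have hj₁H : l * c' * l⁻¹ ∈ H := by
        have : l * c' * l⁻¹ = (l * u * l⁻¹)⁻¹ * (h * u * h⁻¹) := by rw [hdecomp]; group
        rw [this]
        exact H.mul_mem (H.inv_mem (hUH hu₁)) (H.mul_mem (H.mul_mem hh.2 (hUH hu)) (H.inv_mem hh.2))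
      rw [hdecomp]
      refine Subgroup.mul_mem _ (Subgroup.mem_sup_left hu₁) (Subgroup.mem_sup_right ?_)
      rw [hJdef]
      exact Subgroup.mem_inf.mpr ⟨Subgroup.mem_inf.mpr ⟨hj₁N, hj₁H⟩, hj₁CB⟩
    obtain ⟨y', hy', hy'U⟩ := hUsyl.exists_conj_le hhU (isPGroup_cj h hUp)
    have hy'inv : y'⁻¹ ∈ J ⊔ U := by rw [sup_comm]; exact Subgroup.inv_mem _ hy'
    obtain ⟨j₀, hj₀, u₀, hu₀, hy'ju⟩ := exists_mul_of_mem_sup_normalizer hUJ hy'inv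
    have hy'eq : y' = u₀⁻¹ * j₀⁻¹ := by
      have : y' = (y'⁻¹)⁻¹ := by group
      rw [this, hy'ju]; group
    have hcjU : Helper7.cj (y' * h) U = U := by
      apply cj_eq_of_le
      rw [cj_mul]; exact hy'U
    set g₀ : G := j₀⁻¹ * h with hg₀
    have hg₀U : Helper7.cj g₀ U = U := by
      have h1 : y' * h = u₀⁻¹ * g₀ := by rw [hy'eq, hg₀]; group
      rw [h1, cj_mul] at hcjU
      have h2 : Helper7.cj u₀ (Helper7.cj u₀⁻¹ (Helper7.cj g₀ U)) = Helper7.cj u₀ U := by rw [hcjU]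
      rw [cj_cj_inv, cj_eq_self_of_mem hu₀] at h2
      exact h2
    have hg₀𝒩 : g₀ ∈ 𝒩 := by rw [h𝒩def, mem_normalizer_iff_cj]; exact hg₀U
    have hj₀' : j₀ ∈ (N ⊓ H) ⊓ Subgroup.centralizer (B : Set G) := by rw [← hJdef]; exact hj₀
    have hg₀N : g₀ ∈ N := N.mul_mem (N.inv_mem hj₀'.1.1) hh.1
    have hg₀H : g₀ ∈ H := H.mul_mem (H.inv_mem hj₀'.1.2) hh.2
    have hg₀𝒮 : g₀ ∈ 𝒮 := hH𝒮 g₀ hg₀H hg₀𝒩
    have hmM : g₀⁻¹ * l ∈ M := by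
      rw [hMdef, hLdef]
      refine Subgroup.mem_inf.mpr ⟨Subgroup.mem_inf.mpr ⟨N.mul_mem (N.inv_mem hg₀N) hlN,
        𝒩.mul_mem (𝒩.inv_mem hg₀𝒩) hl𝒩⟩, ?_⟩
      have h1 : g₀⁻¹ * l = (h⁻¹ * j₀ * h⁻¹⁻¹) * c := by rw [hg₀, hlhc]; group
      rw [h1]
      exact Subgroup.mul_mem _ (centralizer_conj_mem (Subgroup.inv_mem _ hhB) hj₀'.2) hcCB
    have hl𝒮 : l ∈ 𝒮 := by
      have : l = g₀ * (g₀⁻¹ * l) := by group
      rw [this]
      exact 𝒮.mul_mem hg₀𝒮 (hM𝒮 hmM)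
    apply hfinal
    rw [hxy]
    exact 𝒮.mul_mem hl𝒮 hy𝒮

end Cfsg.Agent.Lib.Helper4
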