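import Mathlib
import Cfsg.Agent.Lib.Helper4.FusionLift2

set_option autoImplicit false
open Pointwise

/-! Lifting control of strong fusion from a normal subgroup. -/

namespace Cfsg.Agent.Lib.Helper4

open Cfsg Cfsg.Agent.Lib.Helper7

variable {G : Type*} [Group G] {p : ℕ} [Finite G] [Fact p.Prime]

/-- if `H ⊇ N_G(P ∩ N)` and `N ∩ H` controls strong fusion in `P ∩ N` w.r.t. `N`, then `H` controls
strong fusion in `P` w.r.t. `G` -/
theorem lift_control (N : Subgroup G) [hNn : N.Normal] (P : Sylow p G) (H : Subgroup G)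
    (hTH : Subgroup.normalizer (((P : Subgroup G) ⊓ N : Subgroup G) : Set G) ≤ H)
    (hctl : ∀ A : Subgroup G, A ≤ (P : Subgroup G) ⊓ N → ∀ n ∈ N, Helper7.cj n A ≤ (P : Subgroup G) ⊓ N →
      ∃ h ∈ N ⊓ H, ∃ c ∈ N ⊓ Subgroup.centralizer (A : Set G), n = h * c) :
    ∀ d : ℕ, ∀ U : Subgroup G, U ≤ (P : Subgroup G) →
    Nat.card (P : Subgroup G) - Nat.card U = d → ∀ g : G, cs g (U : Set G) ⊆ (P : Subgroup G) →
    InCH H (U : Set G) g := by
  intro d
  induction d using Nat.strong_induction_on with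
  | _ d ih =>
  intro U hUP hd g hg
  set 𝓕 : Set (Subgroup G) := {T | T ≤ (P : Subgroup G) ∧
    ¬ p ∣ ((P : Subgroup G) ⊓ Subgroup.normalizer (T : Set G)).relIndex (Subgroup.normalizer (T : Set G))}
    with h𝓕def
  have h𝓕 : ∀ T ∈ 𝓕, T ≤ (P : Subgroup G) := fun T hT => hT.1
  have hext : ∀ T : Subgroup G, T ≤ (P : Subgroup G) → ∃ U' ∈ 𝓕, (∃ g : G, Helper7.cj g T = U') ∧
      ¬ p ∣ ((P : Subgroup G) ⊓ Subgroup.normalizer ((U' : Subgroup G) : Set G)).relIndex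
        (Subgroup.normalizer ((U' : Subgroup G) : Set G)) := by
    intro T hT
    obtain ⟨c, hc⟩ := exists_wellPlaced_conj P (isConjugacyFunctor_id (G := G) (p := p)) T hT
    have h0 := hc.2 0
    exact ⟨Helper7.cj c T, ⟨hc.1, h0⟩, ⟨c, rfl⟩, h0⟩
  have hvia := alperin_subgroup P 𝓕 h𝓕 hext _ U hUP rfl g hg
  apply hvia.toCH H
  intro T hT hcard x hx
  have hcard' : Nat.card U ≤ Nat.card T := hcard
  apply lift_step N P H hTH hctl T hT.1 hT.2 ?_ x hx
  intro U' hU'P hlt g' hg'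
  have h1 : Nat.card U' ≤ Nat.card (P : Subgroup G) := Subgroup.card_le_of_le hU'P
  have h2 : Nat.card U ≤ Nat.card (P : Subgroup G) := Subgroup.card_le_of_le hUP
  apply ih (Nat.card (P : Subgroup G) - Nat.card U') ?_ U' hU'P rfl g' hg'
  omega

/-- the final form: `g = h c` with `h ∈ H`, `c ∈ C(A)` whenever `A, gAg⁻¹ ≤ P` -/
theorem lift_control' (N : Subgroup G) [hNn : N.Normal] (P : Sylow p G) (H : Subgroup G)
    (hTH : Subgroup.normalizer (((P : Subgroup G) ⊓ N : Subgroup G) : Set G) ≤ H)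
    (hctl : ∀ A : Subgroup G, A ≤ (P : Subgroup G) ⊓ N → ∀ n ∈ N, Helper7.cj n A ≤ (P : Subgroup G) ⊓ N →
      ∃ h ∈ N ⊓ H, ∃ c ∈ N ⊓ Subgroup.centralizer (A : Set G), n = h * c)
    (A : Subgroup G) (hAP : A ≤ (P : Subgroup G)) (g : G) (hg : Helper7.cj g A ≤ (P : Subgroup G)) :
    ∃ h ∈ H, ∃ c ∈ Subgroup.centralizer (A : Set G), g = h * c := by
  have h1 : cs g⁻¹ (A : Set G) ⊆ (P : Subgroup G) := by
    rw [cs_subgroup, inv_inv]; exact_mod_cast hg
  obtain ⟨c, hc, h, hh, hgch⟩ := lift_control N P H hTH hctl _ A hAP rfl g⁻¹ h1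
  refine ⟨h⁻¹, H.inv_mem hh, c⁻¹, Subgroup.inv_mem _ hc, ?_⟩
  have : g = (g⁻¹)⁻¹ := by group
  rw [this, hgch]; group

end Cfsg.Agent.Lib.Helper4
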