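import Mathlib
import Cfsg.Agent.Lib.Helper4.TD9

set_option autoImplicit false

/-! Isaacs, Lemma 12.17-type computation: if the character induced from the restriction of a class
function `χ` to `H` (with `[χ_H, χ_H] = 1`) has norm `|G : H|`, then `χ` vanishes on the elements
of `H` having a conjugate outside `H`. -/

namespace Cfsg.Agent.Lib.Helper4.TD

open Cfsg Cfsg.Agent.Lib.Helper1 Cfsg.Agent.Lib.Helper4
open scoped ComplexConjugate

universe u

section IndNorm

variable {G : Type u} [Group G] [Fintype G]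

theorem vanish_of_ind_norm (H : Subgroup G) [Fintype H] (χ : G → ℂ)
    (hχ : Cfsg.IsClassFunction G χ)
    (hres : Cfsg.classInner (fun h : H => χ h) (fun h : H => χ h) = 1)
    (hnorm : Cfsg.classInner (Cfsg.indFun H (fun h : H => χ h))
      (Cfsg.indFun H (fun h : H => χ h)) = (H.index : ℂ)) :
    ∀ x ∈ H, ∀ g : G, g * x * g⁻¹ ∉ H → χ x = 0 := by
  classical
  set N : ℕ := Nat.card G with hN
  set k : ℕ := Nat.card H with hk
  have hN0 : (N : ℂ) ≠ 0 := Nat.cast_ne_zero.2 Nat.card_pos.ne'
  have hk0 : (k : ℂ) ≠ 0 := Nat.cast_ne_zero.2 Nat.card_pos.ne'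
  have hNr : (N : ℝ) ≠ 0 := Nat.cast_ne_zero.2 Nat.card_pos.ne'
  have hkr : (k : ℝ) ≠ 0 := Nat.cast_ne_zero.2 Nat.card_pos.ne'
  have hidx : (H.index : ℂ) = (N : ℂ) / k := by
    rw [eq_div_iff hk0, hN, ← Subgroup.index_mul_card H]
    push_cast
    rfl
  let c : G → ℕ := fun x => (Finset.univ.filter (fun g : G => g⁻¹ * x * g ∈ H)).card
  let W : G → ℝ := fun x => Complex.normSq (χ x)
  have hW0 : ∀ x, 0 ≤ W x := fun x => Complex.normSq_nonneg _
  have hWc : ∀ x, χ x * conj (χ x) = ((W x : ℝ) : ℂ) := fun x => Complex.mul_conj (χ x)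
  have hcN : ∀ x, c x ≤ N := by
    intro x
    have := Finset.card_filter_le (Finset.univ : Finset G) (fun g : G => g⁻¹ * x * g ∈ H)
    rw [Finset.card_univ, ← Nat.card_eq_fintype_card] at this
    exact this
  -- the induced function
  have hΘ : ∀ x, Cfsg.indFun H (fun h : H => χ h) x = (k : ℂ)⁻¹ * ((c x : ℂ) * χ x) := by
    intro x
    unfold Cfsg.indFun
    congr 1
    have h1 : ∀ g : G, Cfsg.extendByZero H (fun h : H => χ h) (g⁻¹ * x * g)
        = if g⁻¹ * x * g ∈ H then χ x else 0 := by
      intro g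
      split_ifs with h
      · rw [extendByZero_of_mem H _ h]
        show χ (g⁻¹ * x * g) = χ x
        have := hχ x g⁻¹
        rw [inv_inv] at this
        exact this
      · exact extendByZero_of_notMem H _ h
    rw [Finset.sum_congr rfl (fun g _ => h1 g), Finset.sum_ite, Finset.sum_const_zero, add_zero,
      Finset.sum_const, nsmul_eq_mul]
  -- (α)
  have hα : ∑ h : H, W h = k := by
    rw [classInner_def] at hres
    have h1 : ∑ h : H, χ h * conj (χ h) = (k : ℂ) := by
      have : (k : ℂ)⁻¹ * ∑ h : H, χ h * conj (χ h) = 1 := hres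
      field_simp at this
      exact this
    have h2 : ((∑ h : H, W h : ℝ) : ℂ) = ((k : ℝ) : ℂ) := by
      push_cast
      rw [← h1]
      apply Finset.sum_congr rfl
      intro h _
      exact (hWc h).symm
    exact_mod_cast h2
  -- (β)
  have hβ : ∑ x : G, W x * c x = N * k := by
    have h1 : ∀ x : G, W x * c x = ∑ g : G, if g⁻¹ * x * g ∈ H then W x else 0 := by
      intro x
      rw [Finset.sum_ite, Finset.sum_const_zero, add_zero, Finset.sum_const, nsmul_eq_mul,
        mul_comm]
    rw [Finset.sum_congr rfl (fun x _ => h1 x), Finset.sum_comm]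
    have h2 : ∀ g : G, ∑ x : G, (if g⁻¹ * x * g ∈ H then W x else 0) = k := by
      intro g
      have h3 := Equiv.sum_comp (MulAut.conj g).toEquiv
        (fun x : G => if g⁻¹ * x * g ∈ H then W x else 0)
      rw [← h3]
      have h4 : ∀ y : G, (if g⁻¹ * ((MulAut.conj g).toEquiv y) * g ∈ H
          then W ((MulAut.conj g).toEquiv y) else 0) = if y ∈ H then W y else 0 := by
        intro y
        have h5 : (MulAut.conj g).toEquiv y = g * y * g⁻¹ := by
          simp [MulAut.conj_apply]
        rw [h5]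
        have h6 : g⁻¹ * (g * y * g⁻¹) * g = y := by group
        rw [h6]
        have h7 : W (g * y * g⁻¹) = W y := by
          show Complex.normSq (χ (g * y * g⁻¹)) = Complex.normSq (χ y)
          rw [hχ y g]
        rw [h7]
      rw [Finset.sum_congr rfl (fun y _ => h4 y), ← hα]
      rw [← Finset.sum_filter]
      exact Finset.sum_subtype (F := ‹Fintype ↥H›) (Finset.univ.filter (fun g => g ∈ H))
        (p := fun g => g ∈ H) (by simp) W
    rw [Finset.sum_congr rfl (fun g _ => h2 g), Finset.sum_const, Finset.card_univ,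
      ← Nat.card_eq_fintype_card, nsmul_eq_mul]
  -- (γ)
  have hγ : ∑ x : G, W x * (c x : ℝ) ^ 2 = (N : ℝ) ^ 2 * k := by
    rw [classInner_def, hidx] at hnorm
    have h1 : ∀ x : G, Cfsg.indFun H (fun h : H => χ h) x
        * conj (Cfsg.indFun H (fun h : H => χ h) x)
        = ((k : ℂ)⁻¹) ^ 2 * (((W x * (c x : ℝ) ^ 2 : ℝ)) : ℂ) := by
      intro x
      rw [hΘ x, map_mul, map_mul, map_inv₀, Complex.conj_natCast, Complex.conj_natCast]
      push_cast
      rw [← hWc x]
      ring
    rw [Finset.sum_congr rfl (fun x _ => h1 x), ← Finset.mul_sum] at hnorm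
    have h2 : ∑ x : G, (((W x * (c x : ℝ) ^ 2 : ℝ)) : ℂ) = (N : ℂ) ^ 2 * k := by
      field_simp at hnorm
      rw [hnorm, ← hN]
      ring
    have h3 : ((∑ x : G, W x * (c x : ℝ) ^ 2 : ℝ) : ℂ) = (((N : ℝ) ^ 2 * k : ℝ) : ℂ) := by
      push_cast
      push_cast at h2
      exact h2
    exact_mod_cast h3
  -- (δ)
  have hδ : ∑ x : G, W x * c x * ((N : ℝ) - c x) = 0 := by
    have h1 : ∀ x : G, W x * c x * ((N : ℝ) - c x)
        = (N : ℝ) * (W x * c x) - W x * (c x : ℝ) ^ 2 := by
      intro x; ring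
    rw [Finset.sum_congr rfl (fun x _ => h1 x), Finset.sum_sub_distrib, ← Finset.mul_sum, hβ, hγ]
    ring
  have hterm : ∀ x : G, W x * c x * ((N : ℝ) - c x) = 0 := by
    have h1 : ∀ x ∈ (Finset.univ : Finset G), 0 ≤ W x * c x * ((N : ℝ) - c x) := by
      intro x _
      have h2 : (0 : ℝ) ≤ (N : ℝ) - c x := by
        have : (c x : ℝ) ≤ N := by exact_mod_cast hcN x
        linarith
      exact mul_nonneg (mul_nonneg (hW0 x) (Nat.cast_nonneg _)) h2
    intro x
    exact (Finset.sum_eq_zero_iff_of_nonneg h1).1 hδ x (Finset.mem_univ x)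
  intro x hx g hg
  have hc1 : 1 ≤ c x := by
    apply Finset.card_pos.2
    refine ⟨1, ?_⟩
    rw [Finset.mem_filter]
    refine ⟨Finset.mem_univ _, ?_⟩
    simpa using hx
  have hc2 : c x < N := by
    have h1 : (Finset.univ.filter (fun g : G => g⁻¹ * x * g ∈ H)) ⊂ Finset.univ := by
      rw [Finset.ssubset_iff_of_subset (Finset.subset_univ _)]
      refine ⟨g⁻¹, Finset.mem_univ _, ?_⟩
      rw [Finset.mem_filter]
      intro h
      apply hg
      have := h.2
      rw [inv_inv] at this
      exact this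
    have := Finset.card_lt_card h1
    rw [Finset.card_univ, ← Nat.card_eq_fintype_card] at this
    exact this
  have h3 := hterm x
  have h4 : (c x : ℝ) ≠ 0 := Nat.cast_ne_zero.2 (by omega)
  have h5 : (N : ℝ) - c x ≠ 0 := by
    have : (c x : ℝ) < N := by exact_mod_cast hc2
    linarith
  have h6 : W x = 0 := by
    rcases mul_eq_zero.1 h3 with h | h
    · rcases mul_eq_zero.1 h with h' | h'
      · exact h'
      · exact absurd h' h4
    · exact absurd h h5
  exact Complex.normSq_eq_zero.1 h6

end IndNorm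

end Cfsg.Agent.Lib.Helper4.TD
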