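import Mathlib
import Cfsg.Agent.Lib.Helper4.TD14

set_option autoImplicit false

/-! Isaacs, Lemma 12.18-type dichotomy for a maximal subgroup supplementing the kernel of an
irreducible character. -/

namespace Cfsg.Agent.Lib.Helper4.TD

open Cfsg Cfsg.Agent.Lib.Helper1 Cfsg.Agent.Lib.Helper4
open scoped ComplexConjugate

universe u

section Dichotomy

variable {G : Type u} [Group G] [Finite G]

/-- The kernel of an irreducible character as a normal subgroup. -/
theorem exists_kernel {ψ : G → ℂ} (hψ : Cfsg.IsIrrCharacter G ψ) :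
    ∃ L : Subgroup G, L.Normal ∧ ∀ g : G, g ∈ L ↔ ψ g = ψ 1 := by
  obtain ⟨n, ρ, hirr, hρ⟩ := hψ
  refine ⟨MonoidHom.ker ρ, MonoidHom.normal_ker ρ, ?_⟩
  intro g
  rw [MonoidHom.mem_ker, ← hρ, Representation.char_one]
  exact (Cfsg.Agent.S0139.result ρ g).symm

/-- An irreducible character restricts irreducibly to a supplement of a normal subgroup contained
in its kernel. -/
theorem isIrrCharacter_restrict_of_sup_eq_top {ψ : G → ℂ} (hψ : Cfsg.IsIrrCharacter G ψ)
    (L : Subgroup G) [hLn : L.Normal] (hL : ∀ g ∈ L, ψ g = ψ 1) (H : Subgroup G)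
    (hLH : L ⊔ H = ⊤) : Cfsg.IsIrrCharacter H (fun h : H => ψ h) := by
  obtain ⟨ψ', hψ', heq⟩ := Cfsg.Agent.Lib.Helper8.exists_deflation L hψ hL
  let f : H →* G ⧸ L := (QuotientGroup.mk' L).comp H.subtype
  have hf : Function.Surjective f := by
    intro q
    obtain ⟨g, rfl⟩ := QuotientGroup.mk_surjective q
    have hg : g ∈ ((L ⊔ H : Subgroup G) : Set G) := by rw [hLH]; trivial
    rw [Subgroup.normal_mul L H] at hg
    obtain ⟨l, hl, h, hh, rfl⟩ := Set.mem_mul.1 hg
    refine ⟨⟨h, hh⟩, ?_⟩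
    show ((h : G) : G ⧸ L) = ((l * h : G) : G ⧸ L)
    rw [QuotientGroup.mk_mul, (QuotientGroup.eq_one_iff l).2 hl, one_mul]
  have h1 := Cfsg.Agent.Lib.Helper2.PiSection.isIrrCharacter_comp_surjective hψ' f hf
  have h2 : (fun h : H => ψ' (f h)) = fun h : H => ψ h := by
    funext h
    exact heq (h : G)
  rw [h2] at h1
  exact h1

theorem max_subgroup_dichotomy (χ : G → ℂ) (hχ : Cfsg.IsIrrCharacter G χ) (K : Subgroup G)
    [hKn : K.Normal] (hK : ∀ g, g ∈ K ↔ χ g = χ 1) (H : Subgroup G) (hmax : IsCoatom H)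
    (hKH : ¬ K ≤ H) :
    (∃ ψ : G → ℂ, Cfsg.IsIrrCharacter G ψ ∧ (∃ a b : ℕ, χ 1 = a ∧ ψ 1 = b ∧ a < b) ∧
      ∀ g, ψ g = ψ 1 → g ∈ K ⊓ H) ∨
    (∀ x ∈ H, ∀ g : G, g * x * g⁻¹ ∉ H → χ x = 0) := by
  classical
  haveI : Fintype G := Fintype.ofFinite G
  haveI : Fintype H := Fintype.ofFinite H
  have : Fintype (Cfsg.IrrCharacter G) := Fintype.ofFinite _
  have hsup : ∀ L : Subgroup G, ¬ L ≤ H → L ⊔ H = ⊤ := by
    intro L hL
    apply hmax.2
    apply lt_of_le_of_ne le_sup_right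
    intro h
    apply hL
    rw [h]
    exact le_sup_left
  set θ : H → ℂ := fun h : H => χ h with hθdef
  have hθ : Cfsg.IsIrrCharacter H θ :=
    isIrrCharacter_restrict_of_sup_eq_top hχ K (fun g hg => (hK g).1 hg) H (hsup K hKH)
  set Θ : G → ℂ := Cfsg.indFun H θ with hΘdef
  have hΘ : Cfsg.IsCharacter G Θ := Cfsg.Agent.S0148.result H θ (isCharacter_of_irr hθ)
  obtain ⟨a, ha, ha0, -⟩ := irr_degree hχ
  have hθ1 : θ 1 = a := by
    show χ ((1 : H) : G) = a
    rw [Subgroup.coe_one, ha]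
  -- Frobenius reciprocity
  have hfrob : ∀ ψ : G → ℂ, Cfsg.IsIrrCharacter G ψ →
      Cfsg.classInner Θ ψ = Cfsg.classInner θ (fun h : H => ψ h) := fun ψ hψ =>
    Cfsg.Agent.S0146.result H θ ψ (isClassFunction_irr hψ)
  have hresψ : ∀ ψ : G → ℂ, Cfsg.IsIrrCharacter G ψ → Cfsg.IsCharacter H (fun h : H => ψ h) :=
    fun ψ hψ => Cfsg.Agent.S0148.isCharacter_restrict H (isCharacter_of_irr hψ)
  have hcon : ∀ ψ : G → ℂ, Cfsg.IsIrrCharacter G ψ → Cfsg.classInner Θ ψ ≠ 0 →
      ∃ m : ℕ, 0 < m ∧ Cfsg.classInner (fun h : H => ψ h) θ = m := by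
    intro ψ hψ hne
    obtain ⟨m, hm⟩ := classInner_char_irr_nat (hresψ ψ hψ) hθ
    refine ⟨m, ?_, hm⟩
    rcases Nat.eq_zero_or_pos m with h | h
    · exfalso
      apply hne
      rw [hfrob ψ hψ, ← classInner_conj_symm, hm, h]
      simp
    · exact h
  by_cases hcase : ∃ ψ : G → ℂ, Cfsg.IsIrrCharacter G ψ ∧ Cfsg.classInner Θ ψ ≠ 0 ∧ ψ 1 ≠ χ 1
  · left
    obtain ⟨ψ, hψ, hne, hdeg⟩ := hcase
    obtain ⟨m, hm0, hm⟩ := hcon ψ hψ hne
    have hne' : Cfsg.classInner (fun h : H => ψ h) θ ≠ 0 := by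
      rw [hm]; exact Nat.cast_ne_zero.2 hm0.ne'
    refine ⟨ψ, hψ, ?_, ?_⟩
    · obtain ⟨b, hb, -, -⟩ := irr_degree hψ
      refine ⟨a, b, ha, hb, ?_⟩
      have hσ := isCharacter_sub_irr (hresψ ψ hψ) hθ hm0 hm
      obtain ⟨d, hd⟩ := isCharacter_apply_one hσ
      have h1 : (b : ℂ) = a + d := by
        rw [← hd, Pi.sub_apply, hθ1]
        show (b : ℂ) = a + (ψ ((1 : H) : G) - a)
        rw [Subgroup.coe_one, hb]
        ring
      have h2 : b = a + d := by exact_mod_cast h1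
      have h3 : d ≠ 0 := by
        intro h
        apply hdeg
        rw [hb, ha, h2, h, add_zero]
      omega
    · obtain ⟨L, hLn, hL⟩ := exists_kernel hψ
      haveI := hLn
      have hLH : L ≤ H := by
        by_contra hcon'
        have hirr := isIrrCharacter_restrict_of_sup_eq_top hψ L (fun g hg => (hL g).1 hg) H
          (hsup L hcon')
        have heq : (fun h : H => ψ h) = θ := by
          by_contra hne2
          exact hne' (classInner_irr_ne hirr hθ hne2)
        apply hdeg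
        have := congrFun heq 1
        simp only [hθdef, Subgroup.coe_one] at this
        exact this
      intro g hg
      have hgL : g ∈ L := (hL g).2 hg
      have hgH : g ∈ H := hLH hgL
      refine Subgroup.mem_inf.2 ⟨?_, hgH⟩
      rw [hK]
      have h1 := constituent_apply_eq (hresψ ψ hψ) hθ hm0 hm ⟨g, hgH⟩ (by
        show ψ g = ψ ((1 : H) : G)
        rw [Subgroup.coe_one, hg])
      have h2 : θ ⟨g, hgH⟩ = χ g := rfl
      rw [h2, hθ1, ← ha] at h1
      exact h1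
  · right
    push Not at hcase
    -- multiplicities are 0 or 1
    have hm1 : ∀ ψ : Cfsg.IrrCharacter G, Cfsg.classInner Θ ψ ≠ 0 → Cfsg.classInner Θ ψ = 1 := by
      intro ψ hne
      obtain ⟨m, hm0, hm⟩ := hcon ψ ψ.2 hne
      have hne' : Cfsg.classInner (fun h : H => (ψ : G → ℂ) h) θ ≠ 0 := by
        rw [hm]; exact Nat.cast_ne_zero.2 hm0.ne'
      have hdeg := hcase ψ ψ.2 hne
      have heq : (fun h : H => (ψ : G → ℂ) h) = θ :=
        eq_of_constituent_of_degree_eq (hresψ ψ ψ.2) hθ hne' (by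
          show (ψ : G → ℂ) ((1 : H) : G) = θ 1
          rw [Subgroup.coe_one, hdeg, hθ1, ha])
      rw [hfrob ψ ψ.2, heq]
      exact classInner_irr_self hθ
    have hcf := isClassFunction_of_isCharacter hΘ
    -- norm
    have hpars := classInner_eq_sum_mult Θ Θ hcf
    have hnorm1 : Cfsg.classInner Θ Θ = ∑ ψ : Cfsg.IrrCharacter G, Cfsg.classInner Θ ψ := by
      rw [hpars]
      apply Finset.sum_congr rfl
      intro ψ _
      by_cases h0 : Cfsg.classInner Θ ψ = 0
      · rw [h0, zero_mul]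
      · rw [← classInner_conj_symm Θ ψ, hm1 ψ h0]
        simp
    have hexp := congrFun (class_function_expansion Θ hcf) 1
    rw [Finset.sum_apply] at hexp
    simp only [Pi.smul_apply, smul_eq_mul] at hexp
    have hdeg1 : Θ 1 = (∑ ψ : Cfsg.IrrCharacter G, Cfsg.classInner Θ ψ) * a := by
      rw [Finset.sum_mul]
      conv_lhs => rw [hexp]
      apply Finset.sum_congr rfl
      intro ψ _
      by_cases h0 : Cfsg.classInner Θ ψ = 0
      · rw [h0, zero_mul, zero_mul]
      · rw [hcase ψ ψ.2 h0, ha]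
    have hdeg2 : Θ 1 = (H.index : ℂ) * a := by
      rw [hΘdef, Cfsg.Agent.S0170.indFun_one, ← Subgroup.index_mul_card H, hθ1]
      have hH0 : (Nat.card H : ℂ) ≠ 0 := Nat.cast_ne_zero.2 Nat.card_pos.ne'
      push_cast
      field_simp
    have ha0' : (a : ℂ) ≠ 0 := Nat.cast_ne_zero.2 ha0.ne'
    have hnorm : Cfsg.classInner Θ Θ = (H.index : ℂ) := by
      rw [hnorm1]
      rw [hdeg1] at hdeg2
      exact mul_right_cancel₀ ha0' hdeg2
    exact vanish_of_ind_norm H χ (isClassFunction_irr hχ) (classInner_irr_self hθ) hnorm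

end Dichotomy

end Cfsg.Agent.Lib.Helper4.TD
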