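import Mathlib
import Cfsg.Agent.Lib.Helper4.TE1
import Cfsg.Agent.Lib.Helper4.TD15
import Cfsg.Agent.S0179

set_option autoImplicit false

/-! Groups whose commutator subgroup is central of prime order: nonlinear characters are fully
ramified over the centre. -/

namespace Cfsg.Agent.Lib.Helper4.GC

open Cfsg Cfsg.Agent.Lib.Helper1 Cfsg.Agent.Lib.Helper4 Cfsg.Agent.Lib.Helper4.TD
  Cfsg.Agent.Lib.Helper4.TE
open scoped ComplexConjugate

universe u

section Ram

variable {G : Type u} [Group G] [Finite G]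

/-- The central character of an irreducible character. -/
theorem exists_centralHom {χ : G → ℂ} (hχ : Cfsg.IsIrrCharacter G χ) :
    ∃ f : Subgroup.center G →* ℂ, ∀ (z : Subgroup.center G) (g : G),
      χ ((z : G) * g) = f z * χ g := by
  obtain ⟨n, ρ, hirr, rfl⟩ := hχ
  haveI := hirr
  exact ⟨centralHom ρ, fun z g => Cfsg.Agent.S0179.char_central_mul ρ z g⟩

/-- If an irreducible character is trivial at a nontrivial element of a subgroup of prime order,
it is trivial on that subgroup. -/
theorem trivial_on_prime_subgroup (p : ℕ) (hp : p.Prime) (C : Subgroup G)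
    (hC : Nat.card C = p) {χ : G → ℂ} (hχ : Cfsg.IsIrrCharacter G χ) (c : G) (hcC : c ∈ C)
    (hc1 : c ≠ 1) (hc : χ c = χ 1) : ∀ c' ∈ C, χ c' = χ 1 := by
  obtain ⟨L, hLn, hL⟩ := exists_kernel hχ
  have h1 : Nat.card (L ⊓ C : Subgroup G) ∣ p := by
    rw [← hC]
    exact Subgroup.card_dvd_of_le inf_le_right
  have h2 : Nat.card (L ⊓ C : Subgroup G) ≠ 1 := by
    intro h
    rw [Subgroup.card_eq_one] at h
    have : c ∈ L ⊓ C := ⟨(hL c).2 hc, hcC⟩
    rw [h, Subgroup.mem_bot] at this
    exact hc1 this
  have h3 : Nat.card (L ⊓ C : Subgroup G) = p := by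
    rcases (Nat.dvd_prime hp).1 h1 with h | h
    · exact absurd h h2
    · exact h
  have h4 : L ⊓ C = C := by
    apply Subgroup.eq_of_le_of_card_ge inf_le_right
    rw [h3, hC]
  intro c' hc'
  have : c' ∈ L ⊓ C := by rw [h4]; exact hc'
  exact (hL c').1 this.1

variable (p : ℕ) (hp : p.Prime) (hcard : Nat.card (commutator G) = p)
  (hcen : commutator G ≤ Subgroup.center G)

include hp hcard hcen in
/-- The central character of a nonlinear character is nontrivial on the commutator subgroup. -/
theorem apply_commutator_ne {χ : G → ℂ} (hχ : Cfsg.IsIrrCharacter G χ) (hnl : χ 1 ≠ 1)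
    (c : G) (hcC : c ∈ commutator G) (hc1 : c ≠ 1) : χ c ≠ χ 1 := by
  intro hc
  apply hnl
  apply linear_of_trivial_on_commutator hχ
  exact trivial_on_prime_subgroup p hp (commutator G) hcard hχ c hcC hc1 hc

include hp hcard hcen in
/-- Nonlinear characters vanish off the centre. -/
theorem vanish_off_center {χ : G → ℂ} (hχ : Cfsg.IsIrrCharacter G χ) (hnl : χ 1 ≠ 1)
    (g : G) (hg : g ∉ Subgroup.center G) : χ g = 0 := by
  rw [Subgroup.mem_center_iff] at hg
  push Not at hg
  obtain ⟨x, hx⟩ := hg
  set c : G := x * g * x⁻¹ * g⁻¹ with hcdef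
  have hcC : c ∈ commutator G := by
    rw [commutator_def]
    have := Subgroup.commutator_mem_commutator (Subgroup.mem_top x) (Subgroup.mem_top g)
    rwa [commutatorElement_def] at this
  have hc1 : c ≠ 1 := by
    intro h
    apply hx
    have : x * g = c * (g * x) := by rw [hcdef]; group
    rw [this, h, one_mul]
  obtain ⟨f, hf⟩ := exists_centralHom hχ
  have h1 := hf ⟨c, hcen hcC⟩ g
  have h2 := hf ⟨c, hcen hcC⟩ 1
  simp only [mul_one] at h2
  have hne := apply_commutator_ne p hp hcard hcen hχ hnl c hcC hc1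
  have hf1 : f ⟨c, hcen hcC⟩ ≠ 1 := by
    intro h
    rw [h, one_mul] at h2
    exact hne h2
  have hconj : x * g * x⁻¹ = c * g := by rw [hcdef]; group
  have hcl := isClassFunction_of_isCharacter (isCharacter_of_irr hχ)
  have h3 : χ (x * g * x⁻¹) = χ g := hcl g x
  rw [hconj] at h3
  simp only at h1
  rw [h1] at h3
  have h4 : (f ⟨c, hcen hcC⟩ - 1) * χ g = 0 := by rw [sub_mul, h3, one_mul, sub_self]
  rcases mul_eq_zero.1 h4 with h | h
  · exact absurd (sub_eq_zero.1 h) hf1
  · exact h

include hp hcard hcen in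
/-- The order of the group in terms of the degree of a nonlinear character. -/
theorem card_eq_center_mul_sq {χ : G → ℂ} (hχ : Cfsg.IsIrrCharacter G χ) (hnl : χ 1 ≠ 1)
    (d : ℕ) (hd : χ 1 = d) :
    Nat.card G = d ^ 2 * Nat.card (Subgroup.center G) ∧ (Subgroup.center G).index = d ^ 2 := by
  apply index_of_ramified d (Subgroup.center G) χ hχ
  · intro g hg
    exact vanish_off_center p hp hcard hcen hχ hnl g hg
  · intro z hz
    have h1 : ‖χ z‖ = ‖χ 1‖ := by
      apply norm_eq_of_central_mod_ker hχ z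
      intro x
      have := (Subgroup.mem_center_iff.1 hz) x
      have h2 : z * x * z⁻¹ * x⁻¹ = 1 := by
        rw [← this]; group
      rw [h2]
    rw [h1, hd]
    simp

end Ram

end Cfsg.Agent.Lib.Helper4.GC
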