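import Mathlib
import Cfsg.Agent.Lib.Helper4.GC1

set_option autoImplicit false

/-! Same-degree characters Galois conjugate: the centre is cyclic when `|G'| = p`. -/

namespace Cfsg.Agent.Lib.Helper4.GC

open Cfsg Cfsg.Agent.Lib.Helper1 Cfsg.Agent.Lib.Helper4 Cfsg.Agent.Lib.Helper4.TD
  Cfsg.Agent.Lib.Helper4.TE
open scoped ComplexConjugate

universe u

/-- Any two nonlinear irreducible characters of the same degree are Galois conjugate. -/
def SameDegGalois (P : Type u) [Group P] : Prop :=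
  ∀ χ ψ : P → ℂ, Cfsg.IsIrrCharacter P χ → Cfsg.IsIrrCharacter P ψ → χ 1 ≠ 1 → ψ 1 = χ 1 →
    ∃ k : ℕ, Nat.Coprime k (Nat.card P) ∧ ∀ g : P, ψ g = χ (g ^ k)

section PartI

variable {G : Type u} [Group G] [Finite G]

theorem center_cyclic (p : ℕ) (hp : p.Prime) (hcard : Nat.card (commutator G) = p)
    (hcen : commutator G ≤ Subgroup.center G) (hH : SameDegGalois G)
    (hnab : ¬ ∀ a b : G, a * b = b * a) : IsCyclic (Subgroup.center G) := by
  classical
  haveI : Fintype G := Fintype.ofFinite G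
  obtain ⟨χ₀, hχ₀, hnl⟩ := exists_nonlinear hnab
  obtain ⟨f, hf⟩ := exists_centralHom hχ₀
  have hχ1 : χ₀ 1 ≠ 0 := irr_apply_one_ne_zero hχ₀
  have hfz : ∀ z : Subgroup.center G, χ₀ (z : G) = f z * χ₀ 1 := by
    intro z
    have := hf z 1
    rwa [mul_one] at this
  have hinj : Function.Injective f := by
    rw [injective_iff_map_eq_one]
    intro z hz
    have hz1 : χ₀ (z : G) = χ₀ 1 := by rw [hfz z, hz, one_mul]
    by_cases hzc : (z : G) ∈ commutator G
    · by_contra hne
      have hne' : (z : G) ≠ 1 := fun h => hne (Subtype.ext h)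
      exact apply_commutator_ne p hp hcard hcen hχ₀ hnl (z : G) hzc hne' hz1
    · exfalso
      obtain ⟨μ, hμ⟩ := exists_hom_ne_one (z : G) hzc
      have hirr := isIrrCharacter_hom_mul μ hχ₀
      obtain ⟨k, -, hk⟩ := hH χ₀ _ hχ₀ hirr hnl (by simp)
      have h1 : ((μ (z : G) : ℂˣ) : ℂ) * χ₀ (z : G) = χ₀ ((z : G) ^ k) := hk (z : G)
      have h2 : χ₀ ((z : G) ^ k) = χ₀ 1 := by
        have h3 := hfz (z ^ k)
        rw [map_pow, hz, one_pow, one_mul] at h3
        exact h3
      rw [h2, hz1] at h1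
      have h4 : (((μ (z : G) : ℂˣ) : ℂ) - 1) * χ₀ 1 = 0 := by
        rw [sub_mul, h1, one_mul, sub_self]
      rcases mul_eq_zero.1 h4 with h | h
      · apply hμ
        exact Units.ext (sub_eq_zero.1 h)
      · exact hχ1 h
  exact isCyclic_of_injective_ringHom f hinj

end PartI

end Cfsg.Agent.Lib.Helper4.GC
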