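import Mathlib
import Cfsg.Agent.Lib.Helper4.GC2

set_option autoImplicit false

/-! Same-degree characters Galois conjugate: quotients and the counting bound. -/

namespace Cfsg.Agent.Lib.Helper4.GC

open Cfsg Cfsg.Agent.Lib.Helper1 Cfsg.Agent.Lib.Helper4 Cfsg.Agent.Lib.Helper4.TD
  Cfsg.Agent.Lib.Helper4.TE
open scoped ComplexConjugate

universe u

section Quot

variable {G : Type u} [Group G] [Finite G]

theorem SameDegGalois.quotient (h : SameDegGalois G) (N : Subgroup G) [N.Normal] :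
    SameDegGalois (G ⧸ N) := by
  intro χ ψ hχ hψ hnl hdeg
  have hχ' := Cfsg.Agent.Lib.Helper8.isIrrCharacter_inflation N hχ
  have hψ' := Cfsg.Agent.Lib.Helper8.isIrrCharacter_inflation N hψ
  obtain ⟨k, hk, hkv⟩ := h _ _ hχ' hψ' hnl hdeg
  refine ⟨k, Nat.Coprime.coprime_dvd_right (Subgroup.card_quotient_dvd_card N) hk, ?_⟩
  intro q
  obtain ⟨g, rfl⟩ := QuotientGroup.mk_surjective q
  have h1 : ψ (QuotientGroup.mk g) = χ (QuotientGroup.mk (g ^ k)) := hkv g
  rw [h1, QuotientGroup.mk_pow]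

/-- Under the Galois hypothesis the number of irreducible characters of a given nonlinear degree
is at most `φ(E)`, for `E` a power of `p` killing the group. -/
theorem card_degree_le (h : SameDegGalois G) (p : ℕ) (hp : p.Prime) (hpG : p ∣ Nat.card G)
    (s : ℕ) (hs : s ≠ 0) (hE : ∀ g : G, g ^ (p ^ s) = 1) (d : ℂ) (hd : d ≠ 1) :
    Nat.card {χ : Cfsg.IrrCharacter G // (χ : G → ℂ) 1 = d} ≤ Nat.totient (p ^ s) := by
  classical
  by_cases hne : Nonempty {χ : Cfsg.IrrCharacter G // (χ : G → ℂ) 1 = d}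
  · obtain ⟨⟨⟨χ₀, hχ₀⟩, hχ₀d⟩⟩ := hne
    simp only at hχ₀d
    have hex : ∀ ψ : {χ : Cfsg.IrrCharacter G // (χ : G → ℂ) 1 = d},
        ∃ k : ℕ, Nat.Coprime k (Nat.card G) ∧ ∀ g : G, (ψ.1 : G → ℂ) g = χ₀ (g ^ k) := by
      intro ψ
      exact h χ₀ _ hχ₀ ψ.1.2 (by rw [hχ₀d]; exact hd) (by rw [ψ.2, hχ₀d])
    choose kf hkf1 hkf2 using hex
    set E := p ^ s with hEdef
    have hmem : ∀ ψ, kf ψ % E ∈ (Finset.range E).filter (fun a => E.Coprime a) := by
      intro ψ
      rw [Finset.mem_filter, Finset.mem_range]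
      refine ⟨Nat.mod_lt _ (pow_pos hp.pos s), ?_⟩
      have h1 : Nat.Coprime (kf ψ) p := Nat.Coprime.coprime_dvd_right hpG (hkf1 ψ)
      have h2 : Nat.Coprime E (kf ψ) := by
        rw [hEdef]
        exact Nat.Coprime.pow_left s h1.symm
      unfold Nat.Coprime at h2 ⊢
      rw [Nat.gcd_comm, ← Nat.gcd_rec]
      exact h2
    let F : {χ : Cfsg.IrrCharacter G // (χ : G → ℂ) 1 = d} →
        {a // a ∈ (Finset.range E).filter (fun a => E.Coprime a)} := fun ψ => ⟨kf ψ % E, hmem ψ⟩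
    have hFinj : Function.Injective F := by
      intro ψ ψ' hF
      have h1 : kf ψ % E = kf ψ' % E := congrArg Subtype.val hF
      apply Subtype.ext
      apply Subtype.ext
      funext g
      rw [hkf2 ψ g, hkf2 ψ' g, pow_eq_pow_mod (kf ψ) (hE g), pow_eq_pow_mod (kf ψ') (hE g), h1]
    have h3 := Nat.card_le_card_of_injective F hFinj
    rw [Nat.totient_eq_card_coprime]
    rw [Nat.card_eq_fintype_card (α := {a // a ∈ (Finset.range E).filter (fun a => E.Coprime a)}),
      Fintype.card_coe] at h3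
    exact h3
  · rw [not_nonempty_iff] at hne
    rw [Nat.card_of_isEmpty]
    exact Nat.zero_le _

end Quot

end Cfsg.Agent.Lib.Helper4.GC
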