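import Mathlib
import Cfsg.Agent.Lib.Helper4.GC1

set_option autoImplicit false

/-! Group-theoretic facts about a central extension of a group with central commutator subgroup
of prime order and cyclic centre. -/

namespace Cfsg.Agent.Lib.Helper4.GC

open Cfsg Cfsg.Agent.Lib.Helper1 Cfsg.Agent.Lib.Helper4 Cfsg.Agent.Lib.Helper4.TD
  Cfsg.Agent.Lib.Helper4.TE
open scoped ComplexConjugate

universe u

section Pow

variable {G : Type u} [Group G]

/-- If `g x = c x g` with `c` central then `g^n x = c^n x g^n`. -/
theorem pow_mul_of_central_commutator (g x c : G) (hc : ∀ y : G, y * c = c * y)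
    (h : g * x = c * x * g) : ∀ n : ℕ, g ^ n * x = c ^ n * x * g ^ n := by
  intro n
  induction n with
  | zero => simp
  | succ n ih =>
    have hcn : ∀ y : G, y * c ^ n = c ^ n * y := by
      intro y
      have : Commute y c := hc y
      exact (this.pow_right n)
    calc g ^ (n + 1) * x = g * (g ^ n * x) := by rw [pow_succ']; group
      _ = g * (c ^ n * x * g ^ n) := by rw [ih]
      _ = (g * c ^ n) * x * g ^ n := by group
      _ = c ^ n * (g * x) * g ^ n := by rw [hcn g]; group
      _ = c ^ n * (c * x * g) * g ^ n := by rw [h]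
      _ = c ^ (n + 1) * x * g ^ (n + 1) := by rw [pow_succ, pow_succ']; group

/-- If all commutators with `g` lie in a central subgroup of order `p`, then `g^p` is central. -/
theorem pow_mem_center_of_commutator_mem [Finite G] (p : ℕ) (N : Subgroup G)
    (hN : Nat.card N = p) (hNcen : N ≤ Subgroup.center G) (g : G)
    (hg : ∀ x : G, g * x * g⁻¹ * x⁻¹ ∈ N) : g ^ p ∈ Subgroup.center G := by
  rw [Subgroup.mem_center_iff]
  intro x
  set c : G := g * x * g⁻¹ * x⁻¹ with hc
  have hcN : c ∈ N := hg x
  have hccen : ∀ y : G, y * c = c * y := fun y => Subgroup.mem_center_iff.1 (hNcen hcN) y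
  have h1 : g * x = c * x * g := by rw [hc]; group
  have h2 := pow_mul_of_central_commutator g x c hccen h1 p
  have h3 : c ^ p = 1 := by
    have : (⟨c, hcN⟩ : N) ^ Nat.card N = 1 := pow_card_eq_one'
    rw [hN] at this
    exact congrArg Subtype.val this
  rw [h3, one_mul] at h2
  exact h2.symm

end Pow

section Ext

variable {G : Type u} [Group G] [Finite G]

/-- In a group with central commutator subgroup of order `p`, `p`-th powers are central. -/
theorem pow_mem_center (p : ℕ) (hcard : Nat.card (commutator G) = p)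
    (hcen : commutator G ≤ Subgroup.center G) (g : G) : g ^ p ∈ Subgroup.center G := by
  apply pow_mem_center_of_commutator_mem p (commutator G) hcard hcen g
  intro x
  rw [commutator_def]
  have := Subgroup.commutator_mem_commutator (Subgroup.mem_top g) (Subgroup.mem_top x)
  rwa [commutatorElement_def] at this

/-- The exponent bound. -/
theorem pow_eq_one_of_quotient (p : ℕ) (N : Subgroup G) [N.Normal] (hN : Nat.card N = p)
    (hcard : Nat.card (commutator (G ⧸ N)) = p)
    (hcen : commutator (G ⧸ N) ≤ Subgroup.center (G ⧸ N)) (g : G) :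
    g ^ (p * Nat.card (Subgroup.center (G ⧸ N)) * p) = 1 := by
  have h1 : (QuotientGroup.mk g : G ⧸ N) ^ p ∈ Subgroup.center (G ⧸ N) :=
    pow_mem_center p hcard hcen _
  have h2 : (⟨_, h1⟩ : Subgroup.center (G ⧸ N)) ^ Nat.card (Subgroup.center (G ⧸ N)) = 1 :=
    pow_card_eq_one'
  have h3 : ((QuotientGroup.mk g : G ⧸ N) ^ p) ^ Nat.card (Subgroup.center (G ⧸ N)) = 1 :=
    congrArg Subtype.val h2
  rw [← pow_mul, ← QuotientGroup.mk_pow, QuotientGroup.eq_one_iff] at h3
  have h4 : (⟨_, h3⟩ : N) ^ Nat.card N = 1 := pow_card_eq_one'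
  rw [hN] at h4
  have h5 := congrArg Subtype.val h4
  rw [pow_mul]
  exact h5

end Ext

end Cfsg.Agent.Lib.Helper4.GC
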