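import Mathlib
import Cfsg.Agent.Lib.Helper4.GC6

set_option autoImplicit false

/-! The centre of a central extension by a group of order `p` of a group with cyclic centre. -/

namespace Cfsg.Agent.Lib.Helper4.GC

open Cfsg Cfsg.Agent.Lib.Helper1 Cfsg.Agent.Lib.Helper4 Cfsg.Agent.Lib.Helper4.TD
  Cfsg.Agent.Lib.Helper4.TE
open scoped ComplexConjugate

universe u

section Ext

variable {G : Type u} [Group G] [Finite G]

theorem card_comap_center_le (p : ℕ) (hp : 0 < p) (N : Subgroup G) [N.Normal]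
    (hN : Nat.card N = p) (hNcen : N ≤ Subgroup.center G)
    (hcyc : IsCyclic (Subgroup.center (G ⧸ N))) :
    Nat.card ((Subgroup.center (G ⧸ N)).comap (QuotientGroup.mk' N)) ≤
      p * Nat.card (Subgroup.center G) := by
  classical
  obtain ⟨q₀, hq₀⟩ := IsCyclic.exists_generator (α := Subgroup.center (G ⧸ N))
  obtain ⟨t, ht⟩ := QuotientGroup.mk_surjective (q₀ : G ⧸ N)
  have htN : ∀ x : G, t * x * t⁻¹ * x⁻¹ ∈ N := by
    intro x
    rw [← QuotientGroup.eq_one_iff]
    simp only [QuotientGroup.mk_mul, QuotientGroup.mk_inv, ht]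
    have := (Subgroup.mem_center_iff.1 q₀.2) (QuotientGroup.mk x)
    rw [← this]
    group
  have htp : t ^ p ∈ Subgroup.center G :=
    pow_mem_center_of_commutator_mem p N hN hNcen t htN
  have key : ∀ z : ((Subgroup.center (G ⧸ N)).comap (QuotientGroup.mk' N)),
      ∃ i : Fin p, ∃ w : Subgroup.center G, (z : G) = t ^ (i : ℕ) * (w : G) := by
    rintro ⟨z, hz⟩
    have hz' : (QuotientGroup.mk z : G ⧸ N) ∈ Subgroup.center (G ⧸ N) := hz
    have h1 := hq₀ ⟨_, hz'⟩
    rw [Subgroup.mem_zpowers_iff] at h1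
    obtain ⟨j, hj⟩ := h1
    have h2 : ((q₀ : G ⧸ N)) ^ j = QuotientGroup.mk z := by
      have := congrArg Subtype.val hj
      simpa using this
    rw [← ht, ← QuotientGroup.mk_zpow] at h2
    have h3 : (t ^ j)⁻¹ * z ∈ N := QuotientGroup.eq.1 h2
    have hp' : (0 : ℤ) < (p : ℤ) := by exact_mod_cast hp
    have h4 : j = j % (p : ℤ) + (p : ℤ) * (j / (p : ℤ)) := (Int.emod_add_mul_ediv j p).symm
    have h5 : 0 ≤ j % (p : ℤ) := Int.emod_nonneg j hp'.ne'
    have h6 : j % (p : ℤ) < p := Int.emod_lt_of_pos j hp'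
    have h7 : ((j % (p : ℤ)).toNat : ℤ) = j % (p : ℤ) := Int.toNat_of_nonneg h5
    have h8 : (j % (p : ℤ)).toNat < p := by
      have : ((j % (p : ℤ)).toNat : ℤ) < p := by rw [h7]; exact h6
      exact_mod_cast this
    refine ⟨⟨(j % (p : ℤ)).toNat, h8⟩, ⟨(t ^ p) ^ (j / (p : ℤ)) * ((t ^ j)⁻¹ * z), ?_⟩, ?_⟩
    · exact Subgroup.mul_mem _ (Subgroup.zpow_mem _ htp _) (hNcen h3)
    · show z = t ^ (j % (p : ℤ)).toNat * ((t ^ p) ^ (j / (p : ℤ)) * ((t ^ j)⁻¹ * z))
      have h9 : t ^ (j % (p : ℤ)).toNat = t ^ (j % (p : ℤ)) := by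
        rw [← h7, zpow_natCast, h7]
      have h10 : (t ^ p) ^ (j / (p : ℤ)) = t ^ ((p : ℤ) * (j / (p : ℤ))) := by
        rw [zpow_mul, zpow_natCast]
      rw [h9, h10, ← mul_assoc, ← zpow_add, ← h4]
      group
  choose fi fw hfw using key
  let F : ((Subgroup.center (G ⧸ N)).comap (QuotientGroup.mk' N)) →
      Fin p × Subgroup.center G := fun z => (fi z, fw z)
  have hF : Function.Injective F := by
    intro z z' h
    have h1 : fi z = fi z' := congrArg Prod.fst h
    have h2 : fw z = fw z' := congrArg Prod.snd h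
    apply Subtype.ext
    rw [hfw z, hfw z', h1, h2]
  have h3 := Nat.card_le_card_of_injective F hF
  rw [Nat.card_prod, Nat.card_fin] at h3
  exact h3

/-- `|Z(G)| χ(1)² ≤ |G|`. -/
theorem card_center_mul_sq_le {χ : G → ℂ} (hχ : Cfsg.IsIrrCharacter G χ) (d : ℕ)
    (hd : χ 1 = d) : Nat.card (Subgroup.center G) * d ^ 2 ≤ Nat.card G := by
  classical
  haveI : Fintype G := Fintype.ofFinite G
  haveI : Fintype (Subgroup.center G) := Fintype.ofFinite _
  have h1 := sum_norm_sq_irr hχ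
  have hnorm : ∀ z ∈ Subgroup.center G, ‖χ z‖ = d := by
    intro z hz
    have h1 : ‖χ z‖ = ‖χ 1‖ := by
      apply norm_eq_of_central_mod_ker hχ z
      intro x
      have := (Subgroup.mem_center_iff.1 hz) x
      have h2 : z * x * z⁻¹ * x⁻¹ = 1 := by
        rw [← this]; group
      rw [h2]
    rw [h1, hd]
    simp
  have h2 : ∑ g : G, (if g ∈ Subgroup.center G then ((d : ℝ) ^ 2) else 0) ≤
      ∑ g : G, ‖χ g‖ ^ 2 := by
    apply Finset.sum_le_sum
    intro g _
    split_ifs with h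
    · rw [hnorm g h]
    · positivity
  rw [Finset.sum_ite, Finset.sum_const_zero, add_zero, Finset.sum_const, nsmul_eq_mul, h1] at h2
  have h3 : (Finset.univ.filter (fun g : G => g ∈ Subgroup.center G)).card =
      Nat.card (Subgroup.center G) := by
    rw [Nat.card_eq_fintype_card, Fintype.card_subtype]
  rw [h3] at h2
  exact_mod_cast h2

end Ext

end Cfsg.Agent.Lib.Helper4.GC
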