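import Mathlib

set_option autoImplicit false

/-! An abstract counting lemma for sums of squares of prime-power degrees. -/

namespace Cfsg.Agent.Lib.Helper4.GC

universe u

theorem sum_sq_le_of_counts {ι : Type u} [DecidableEq ι] (p r B : ℕ) (hp : 2 ≤ p)
    (deg : ι → ℕ) (T : Finset ι)
    (hdeg : ∀ i ∈ T, ∃ j, 1 ≤ j ∧ j < r ∧ deg i = p ^ j)
    (hB : ∀ j, 1 ≤ j → (T.filter (fun i => deg i = p ^ j)).card ≤ B) :
    ∑ i ∈ T, deg i ^ 2 ≤ B * ∑ j ∈ Finset.Ico 1 r, p ^ (2 * j) := by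
  have h1 : ∀ i ∈ T, deg i ^ 2 =
      ∑ j ∈ Finset.Ico 1 r, (if deg i = p ^ j then p ^ (2 * j) else 0) := by
    intro i hi
    obtain ⟨j₀, hj1, hjr, hj⟩ := hdeg i hi
    rw [Finset.sum_eq_single j₀]
    · rw [if_pos hj, hj, ← pow_mul, mul_comm]
    · intro j _ hne
      rw [if_neg]
      intro h
      rw [hj] at h
      exact hne (Nat.pow_right_injective hp h).symm
    · intro h
      exfalso
      apply h
      rw [Finset.mem_Ico]
      exact ⟨hj1, hjr⟩
  rw [Finset.sum_congr rfl h1, Finset.sum_comm, Finset.mul_sum]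
  apply Finset.sum_le_sum
  intro j hj
  rw [Finset.mem_Ico] at hj
  rw [← Finset.sum_filter, Finset.sum_const, smul_eq_mul]
  exact Nat.mul_le_mul_right _ (hB j hj.1)

theorem mul_geom_lt (p r : ℕ) (hp : 2 ≤ p) :
    p * ∑ j ∈ Finset.Ico 1 r, p ^ (2 * j) < p ^ (2 * r) := by
  have h1 : p * ∑ j ∈ Finset.Ico 1 r, p ^ (2 * j) =
      ∑ k ∈ Finset.image (fun j => 2 * j + 1) (Finset.Ico 1 r), p ^ k := by
    rw [Finset.sum_image]
    · rw [Finset.mul_sum]
      apply Finset.sum_congr rfl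
      intro j _
      rw [pow_succ, mul_comm]
    · intro a _ b _ h
      simp only at h
      omega
  rw [h1]
  apply Nat.geomSum_lt hp
  intro k hk
  rw [Finset.mem_image] at hk
  obtain ⟨j, hj, rfl⟩ := hk
  rw [Finset.mem_Ico] at hj
  omega

end Cfsg.Agent.Lib.Helper4.GC
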