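import Mathlib
import Cfsg.Agent.Lib.Helper4.TE1
import Cfsg.Agent.Lib.Helper2.ThompsonDeg
import Cfsg.Agent.Lib.Helper8.Sub17

set_option autoImplicit false

/-! A group with a unique nonlinear irreducible character: the counting identity. -/

namespace Cfsg.Agent.Lib.Helper4.TE

open Cfsg Cfsg.Agent.Lib.Helper1 Cfsg.Agent.Lib.Helper4 Cfsg.Agent.Lib.Helper4.TD
open scoped ComplexConjugate

universe u

section Count

variable {G : Type u} [Group G] [Finite G]

/-- If `χ₀` is the only nonlinear irreducible character, then `|G| = |G : G'| + χ₀(1)²`. -/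
theorem card_eq_of_unique_nonlinear {χ₀ : G → ℂ} (hχ₀ : Cfsg.IsIrrCharacter G χ₀)
    (hnl : χ₀ 1 ≠ 1)
    (huniq : ∀ ψ : G → ℂ, Cfsg.IsIrrCharacter G ψ → ψ 1 ≠ 1 → ψ = χ₀) :
    (Nat.card G : ℂ) = ((commutator G).index : ℂ) + χ₀ 1 * χ₀ 1 := by
  classical
  haveI : Fintype G := Fintype.ofFinite G
  haveI : Fintype (IrrCharacter G) := Fintype.ofFinite _
  have h1 := Cfsg.Agent.Lib.Helper2.ThompsonDeg.sum_degree_mul_apply (G := G) 1
  rw [if_pos rfl] at h1
  have h2 := Cfsg.Agent.Lib.Helper8.sum_sq_degree_of_trivial_on (commutator G)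
  rw [← h1, ← h2]
  have key : ∀ χ : IrrCharacter G, (χ : G → ℂ) 1 * (χ : G → ℂ) 1 =
      (if (∀ n ∈ commutator G, (χ : G → ℂ) n = (χ : G → ℂ) 1) then (1 : ℂ) else 0) *
        ((χ : G → ℂ) 1 * (χ : G → ℂ) 1) +
      (if χ = ⟨χ₀, hχ₀⟩ then χ₀ 1 * χ₀ 1 else 0) := by
    intro χ
    by_cases hχ : χ = ⟨χ₀, hχ₀⟩
    · have hnt : ¬ (∀ n ∈ commutator G, (χ : G → ℂ) n = (χ : G → ℂ) 1) := by
        intro h
        rw [hχ] at h
        exact hnl (linear_of_trivial_on_commutator hχ₀ h)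
      rw [if_neg hnt, if_pos hχ, hχ]
      simp
    · have hlin : (χ : G → ℂ) 1 = 1 := by
        by_contra h
        exact hχ (Subtype.ext (huniq _ χ.2 h))
      have ht : ∀ n ∈ commutator G, (χ : G → ℂ) n = (χ : G → ℂ) 1 := by
        intro n hn
        rw [linear_commutator χ.2 hlin n hn, hlin]
      rw [if_pos ht, if_neg hχ]
      simp
  rw [Finset.sum_congr rfl fun χ _ => key χ, Finset.sum_add_distrib]
  congr 1
  rw [Finset.sum_ite_eq' Finset.univ (⟨χ₀, hχ₀⟩ : IrrCharacter G)]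
  simp

end Count

end Cfsg.Agent.Lib.Helper4.TE
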