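import Mathlib
import Cfsg.Agent.Lib.Helper4.GC5
import Cfsg.Agent.Lib.Helper4.GC7
import Cfsg.Agent.Lib.Helper4.GC8
import Cfsg.Agent.Lib.Helper4.GC9
import Cfsg.Agent.Lib.Helper4.TE4

set_option autoImplicit false
set_option maxHeartbeats 1000000

/-! The counting contradiction: `|P'| = p²` is impossible under the Galois hypothesis. -/

namespace Cfsg.Agent.Lib.Helper4.GC

open Cfsg Cfsg.Agent.Lib.Helper1 Cfsg.Agent.Lib.Helper4 Cfsg.Agent.Lib.Helper4.TD
  Cfsg.Agent.Lib.Helper4.TE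
open scoped ComplexConjugate

universe u

section Main

variable {G : Type u} [Group G] [Finite G]

theorem false_of_setting (p : ℕ) [hp : Fact p.Prime] (hP : IsPGroup p G) (hH : SameDegGalois G)
    (N : Subgroup G) [hNn : N.Normal] (hN : Nat.card N = p) (hNcen : N ≤ Subgroup.center G)
    (hNcomm : N ≤ commutator G)
    (hQcard : Nat.card (commutator (G ⧸ N)) = p)
    (hQcyc : IsCyclic (Subgroup.center (G ⧸ N))) : False := by
  classical
  haveI : Fintype G := Fintype.ofFinite G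
  haveI : Fintype (IrrCharacter G) := Fintype.ofFinite _
  have hp2 : 2 ≤ p := hp.out.two_le
  -- facts about the quotient
  have hQp : IsPGroup p (G ⧸ N) := hP.to_quotient N
  have hQcen : commutator (G ⧸ N) ≤ Subgroup.center (G ⧸ N) :=
    le_center_of_card_prime p hQp (commutator (G ⧸ N)) hQcard
  have hQnab : ¬ ∀ a b : G ⧸ N, a * b = b * a := by
    intro hab
    have h0 : commutator (G ⧸ N) ≤ ⊥ := by
      rw [commutator_def, Subgroup.commutator_le]
      intro a _ b _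
      rw [Subgroup.mem_bot, commutatorElement_def, hab a b]
      group
    have h1 : commutator (G ⧸ N) = ⊥ := le_bot_iff.1 h0
    rw [h1] at hQcard
    simp at hQcard
    exact hp.out.one_lt.ne hQcard
  obtain ⟨ψ₀, hψ₀, hψ₀nl⟩ := exists_nonlinear hQnab
  obtain ⟨e, he, he0, -⟩ := irr_degree hψ₀
  obtain ⟨hQc, hQidx⟩ := card_eq_center_mul_sq p hp.out hQcard hQcen hψ₀ hψ₀nl e he
  set m := Nat.card (Subgroup.center (G ⧸ N)) with hm
  have hm0 : 0 < m := Nat.card_pos
  have hGcard : Nat.card G = e ^ 2 * m * p := by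
    rw [Subgroup.card_eq_card_quotient_mul_card_subgroup N, hQc, hN]
  obtain ⟨n, hn⟩ := (IsPGroup.iff_card (p := p) (G := G)).1 hP
  have hedvd : e ∣ p ^ n := by
    rw [← hn, hGcard]
    exact Dvd.dvd.mul_right (Dvd.dvd.mul_right (dvd_pow_self e two_ne_zero) _) _
  obtain ⟨r, -, hr⟩ := (Nat.dvd_prime_pow hp.out).1 hedvd
  have hmdvd : m ∣ p ^ n := by
    rw [← hn, hGcard]
    exact Dvd.dvd.mul_right (Dvd.intro_left _ rfl) _
  obtain ⟨s', -, hs'⟩ := (Nat.dvd_prime_pow hp.out).1 hmdvd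
  have hE : ∀ g : G, g ^ (p ^ (s' + 2)) = 1 := by
    intro g
    have h1 := pow_eq_one_of_quotient p N hN hQcard hQcen g
    rw [← hm, hs'] at h1
    have h2 : p * p ^ s' * p = p ^ (s' + 2) := by ring
    rw [← h2]
    exact h1
  have hpG : p ∣ Nat.card G := by
    rw [hGcard]
    exact Dvd.intro_left _ rfl
  have hψ₀' := Cfsg.Agent.Lib.Helper8.isIrrCharacter_inflation N hψ₀
  have hZ2 := card_comap_center_le p hp.out.pos N hN hNcen hQcyc
  set Z₂ : Subgroup G := (Subgroup.center (G ⧸ N)).comap (QuotientGroup.mk' N) with hZ₂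
  have hZ2idx : Z₂.index = e ^ 2 := by
    rw [hZ₂, Subgroup.index_comap_of_surjective _ (QuotientGroup.mk'_surjective N), hQidx]
  have hGle : Nat.card G ≤ p * Nat.card (Subgroup.center G) * e ^ 2 := by
    rw [← Subgroup.card_mul_index Z₂, hZ2idx]
    exact Nat.mul_le_mul_right _ hZ2
  set T : Finset (IrrCharacter G) :=
    Finset.univ.filter (fun χ => ¬ ∀ x ∈ N, (χ : G → ℂ) x = (χ : G → ℂ) 1) with hT
  have hdegT : ∀ χ ∈ T, ∃ j, 1 ≤ j ∧ j < r ∧ Cfsg.charDegree (χ : G → ℂ) = p ^ j := by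
    intro χ hχT
    rw [hT, Finset.mem_filter] at hχT
    have hnt := hχT.2
    obtain ⟨h1, -⟩ := Cfsg.Agent.Lib.Helper8.irr_apply_one_eq_charDegree χ.2
    set d := Cfsg.charDegree (χ : G → ℂ) with hd
    have hddvd : d ∣ p ^ n := by
      rw [← hn]
      exact Cfsg.Agent.Lib.Helper8.charDegree_dvd_card χ.2
    obtain ⟨j, -, hj⟩ := (Nat.dvd_prime_pow hp.out).1 hddvd
    have hnl : (χ : G → ℂ) 1 ≠ 1 := by
      intro hlin
      apply hnt
      intro x hx
      rw [linear_commutator χ.2 hlin x (hNcomm hx), hlin]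
    have hj1 : 1 ≤ j := by
      rcases Nat.eq_zero_or_pos j with rfl | h
      · exfalso
        apply hnl
        rw [h1, hj]
        simp
      · exact h
    have hde : d ≠ e := by
      intro hde
      have hψ1 : (fun g : G => ψ₀ (QuotientGroup.mk g)) 1 ≠ 1 := hψ₀nl
      have hdeg : (χ : G → ℂ) 1 = (fun g : G => ψ₀ (QuotientGroup.mk g)) 1 := by
        rw [h1, hde]
        exact he.symm
      obtain ⟨k, -, hk⟩ := hH _ _ hψ₀' χ.2 hψ1 hdeg
      apply hnt
      intro x hx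
      have h2 : (χ : G → ℂ) x = ψ₀ (QuotientGroup.mk (x ^ k)) := hk x
      have h3 : (χ : G → ℂ) 1 = ψ₀ (QuotientGroup.mk ((1 : G) ^ k)) := hk 1
      rw [h2, h3, one_pow, (QuotientGroup.eq_one_iff (x ^ k)).2 (Subgroup.pow_mem N hx k)]
      rfl
    have hd2 : d ^ 2 ≤ p * e ^ 2 := by
      have h3 := card_center_mul_sq_le χ.2 d h1
      have h4 : Nat.card (Subgroup.center G) * d ^ 2 ≤
          Nat.card (Subgroup.center G) * (p * e ^ 2) := by
        calc Nat.card (Subgroup.center G) * d ^ 2 ≤ Nat.card G := h3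
          _ ≤ p * Nat.card (Subgroup.center G) * e ^ 2 := hGle
          _ = Nat.card (Subgroup.center G) * (p * e ^ 2) := by ring
      exact Nat.le_of_mul_le_mul_left h4 Nat.card_pos
    refine ⟨j, hj1, ?_, hj⟩
    rw [hj, hr] at hd2
    have h5 : p ^ (2 * j) ≤ p ^ (2 * r + 1) := by
      calc p ^ (2 * j) = (p ^ j) ^ 2 := by rw [← pow_mul, mul_comm]
        _ ≤ p * (p ^ r) ^ 2 := hd2
        _ = p ^ (2 * r + 1) := by rw [← pow_mul, pow_succ, mul_comm r 2, mul_comm]
    have h6 : 2 * j ≤ 2 * r + 1 := (Nat.pow_le_pow_iff_right hp.out.one_lt).1 h5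
    have h7 : j ≠ r := by
      intro h
      apply hde
      rw [hj, hr, h]
    omega
  have hcount : ∀ j, 1 ≤ j →
      (T.filter (fun χ : IrrCharacter G => Cfsg.charDegree (χ : G → ℂ) = p ^ j)).card ≤
        Nat.totient (p ^ (s' + 2)) := by
    intro j hj
    have hne1 : ((p ^ j : ℕ) : ℂ) ≠ 1 := by
      intro h
      have h2 : p ^ j = 1 := by exact_mod_cast h
      have h3 : p ^ j = p ^ 0 := by rw [h2, pow_zero]
      have := Nat.pow_right_injective hp2 h3
      omega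
    have h1 := card_degree_le hH p hp.out hpG (s' + 2) (by omega) hE ((p ^ j : ℕ) : ℂ) hne1
    refine le_trans ?_ h1
    rw [Nat.card_eq_fintype_card, Fintype.card_subtype]
    apply Finset.card_le_card
    intro χ hχ
    rw [Finset.mem_filter] at hχ ⊢
    refine ⟨Finset.mem_univ _, ?_⟩
    rw [(Cfsg.Agent.Lib.Helper8.irr_apply_one_eq_charDegree χ.2).1, hχ.2]
  -- the sum of squares over T
  have hsum : ∑ χ ∈ T, Cfsg.charDegree (χ : G → ℂ) ^ 2 + N.index = Nat.card G := by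
    have h1 := Cfsg.Agent.Lib.Helper2.ThompsonDeg.sum_degree_mul_apply (G := G) 1
    rw [if_pos rfl] at h1
    have h2 := Cfsg.Agent.Lib.Helper8.sum_sq_degree_of_trivial_on N
    have key : ∀ χ : IrrCharacter G, (χ : G → ℂ) 1 * (χ : G → ℂ) 1 =
        (if (∀ n ∈ N, (χ : G → ℂ) n = (χ : G → ℂ) 1) then (1 : ℂ) else 0) *
          ((χ : G → ℂ) 1 * (χ : G → ℂ) 1) +
        (if ¬ (∀ n ∈ N, (χ : G → ℂ) n = (χ : G → ℂ) 1) then
          ((Cfsg.charDegree (χ : G → ℂ) ^ 2 : ℕ) : ℂ) else 0) := by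
      intro χ
      by_cases h : ∀ n ∈ N, (χ : G → ℂ) n = (χ : G → ℂ) 1
      · rw [if_pos h, if_neg (not_not.2 h)]
        ring
      · rw [if_neg h, if_pos h, (Cfsg.Agent.Lib.Helper8.irr_apply_one_eq_charDegree χ.2).1]
        push_cast
        ring
    have h3 : (Nat.card G : ℂ) = (N.index : ℂ) +
        ∑ χ ∈ T, ((Cfsg.charDegree (χ : G → ℂ) ^ 2 : ℕ) : ℂ) := by
      rw [← h1, ← h2, hT, Finset.sum_filter, ← Finset.sum_add_distrib]
      exact Finset.sum_congr rfl fun χ _ => key χ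
    have h4 : ((Nat.card G : ℕ) : ℂ) =
        ((∑ χ ∈ T, Cfsg.charDegree (χ : G → ℂ) ^ 2 + N.index : ℕ) : ℂ) := by
      rw [h3]
      push_cast
      ring
    exact_mod_cast h4.symm
  have hA := sum_sq_le_of_counts p r (Nat.totient (p ^ (s' + 2))) hp2
    (fun χ : IrrCharacter G => Cfsg.charDegree (χ : G → ℂ)) T hdegT hcount
  have hgeo := mul_geom_lt p r hp2
  have hφ : Nat.totient (p ^ (s' + 2)) = p ^ (s' + 1) * (p - 1) :=
    Nat.totient_prime_pow hp.out (by omega)
  have hNidx : N.index = e ^ 2 * m := by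
    rw [← hQc]
    exact Subgroup.index_eq_card N
  set A := ∑ χ ∈ T, Cfsg.charDegree (χ : G → ℂ) ^ 2 with hAdef
  set S := ∑ j ∈ Finset.Ico 1 r, p ^ (2 * j) with hSdef
  set q := p - 1 with hq
  have hpq : p = q + 1 := by omega
  have hq0 : 0 < q := by omega
  have hAeq : A = m * q * e ^ 2 := by
    have h1 : A + e ^ 2 * m = m * q * e ^ 2 + e ^ 2 * m := by
      rw [← hNidx, hsum, hGcard, hNidx]
      conv_lhs => rw [hpq]
      ring
    exact Nat.add_right_cancel h1
  have hA' : A ≤ m * q * (p * S) := by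
    calc A ≤ Nat.totient (p ^ (s' + 2)) * S := hA
      _ = p ^ (s' + 1) * q * S := by rw [hφ]
      _ = m * q * (p * S) := by rw [hs', pow_succ]; ring
  have he2 : e ^ 2 = p ^ (2 * r) := by rw [hr, ← pow_mul, mul_comm]
  have hlt : m * q * (p * S) < m * q * e ^ 2 := by
    rw [he2]
    exact Nat.mul_lt_mul_of_pos_left hgeo (Nat.mul_pos hm0 hq0)
  rw [← hAeq] at hlt
  exact absurd (lt_of_le_of_lt hA' hlt) (lt_irrefl _)

end Main

end Cfsg.Agent.Lib.Helper4.GC
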