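import Mathlib
import Cfsg.Agent.Lib.Helper4.GC2

set_option autoImplicit false

/-! Cyclic centre and `|G'| = p`: same-degree characters are Galois conjugate. -/

namespace Cfsg.Agent.Lib.Helper4.GC

open Cfsg Cfsg.Agent.Lib.Helper1 Cfsg.Agent.Lib.Helper4 Cfsg.Agent.Lib.Helper4.TD
  Cfsg.Agent.Lib.Helper4.TE
open scoped ComplexConjugate

universe u

/-- In a finite cyclic group a subgroup of prime order `p` contains all elements of order
dividing `p`. -/
theorem mem_of_pow_eq_one_of_cyclic {A : Type u} [Group A] [Finite A] [IsCyclic A] (p : ℕ)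
    (hp : p.Prime) (C : Subgroup A) (hC : Nat.card C = p) (w : A) (hw : w ^ p = 1) : w ∈ C := by
  classical
  haveI : Fintype A := Fintype.ofFinite A
  set S : Finset A := Finset.univ.filter (fun a : A => a ^ p = 1) with hS
  set T : Finset A := Finset.univ.filter (fun a : A => a ∈ C) with hT
  have hTS : T ⊆ S := by
    intro a ha
    rw [hT, Finset.mem_filter] at ha
    rw [hS, Finset.mem_filter]
    refine ⟨Finset.mem_univ _, ?_⟩
    have h1 : (⟨a, ha.2⟩ : C) ^ Nat.card C = 1 := pow_card_eq_one'
    rw [hC] at h1
    exact congrArg Subtype.val h1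
  have hTc : T.card = p := by
    rw [← hC, Nat.card_eq_fintype_card, Fintype.card_subtype]
  have hSc : S.card ≤ p := IsCyclic.card_pow_eq_one_le hp.pos
  have hST : T = S := Finset.eq_of_subset_of_card_le hTS (by rw [hTc]; exact hSc)
  have : w ∈ S := by
    rw [hS, Finset.mem_filter]
    exact ⟨Finset.mem_univ _, hw⟩
  rw [← hST, hT, Finset.mem_filter] at this
  exact this.2

section Conv

variable {G : Type u} [Group G] [Finite G]

/-- With cyclic centre the central character of a nonlinear character is faithful. -/
theorem centralHom_injective_of_cyclic (p : ℕ) [hp : Fact p.Prime] (hP : IsPGroup p G)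
    (hcard : Nat.card (commutator G) = p)
    (hcen : commutator G ≤ Subgroup.center G) (hcyc : IsCyclic (Subgroup.center G))
    {χ : G → ℂ} (hχ : Cfsg.IsIrrCharacter G χ) (hnl : χ 1 ≠ 1)
    (f : Subgroup.center G →* ℂ) (hf : ∀ (z : Subgroup.center G) (g : G),
      χ ((z : G) * g) = f z * χ g) : Function.Injective f := by
  classical
  rw [injective_iff_map_eq_one]
  intro z hz
  by_contra hz1
  -- the kernel of f is a nontrivial p-group
  set K : Subgroup (Subgroup.center G) := f.ker with hK
  have hzK : z ∈ K := hz
  have hKne : K ≠ ⊥ := by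
    intro h
    rw [h, Subgroup.mem_bot] at hzK
    exact hz1 hzK
  have hKp : IsPGroup p K := by
    have h1 : IsPGroup p (Subgroup.center G) := hP.to_subgroup _
    exact h1.to_subgroup K
  have hKcard : p ∣ Nat.card K := by
    obtain ⟨n, hn⟩ := (IsPGroup.iff_card (p := p) (G := K)).1 hKp
    rw [hn]
    rcases Nat.eq_zero_or_pos n with rfl | hn0
    · exfalso
      rw [pow_zero] at hn
      exact hKne ((Subgroup.card_eq_one).1 hn)
    · exact dvd_pow_self p hn0.ne'
  obtain ⟨w, hw⟩ := exists_prime_orderOf_dvd_card' p hKcard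
  have hwp : (w : Subgroup.center G) ^ p = 1 := by
    have : w ^ p = 1 := by rw [← hw]; exact pow_orderOf_eq_one w
    exact congrArg Subtype.val this
  have hw1 : (w : Subgroup.center G) ≠ 1 := by
    intro h
    have h2 : w = 1 := Subtype.ext h
    rw [h2, orderOf_one] at hw
    exact hp.out.one_lt.ne hw
  set C : Subgroup (Subgroup.center G) := (commutator G).subgroupOf (Subgroup.center G) with hC
  have hCcard : Nat.card C = p := by
    rw [← hcard]
    exact Nat.card_congr (Subgroup.subgroupOfEquivOfLe hcen).toEquiv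
  have hwC : (w : Subgroup.center G) ∈ C :=
    mem_of_pow_eq_one_of_cyclic p hp.out C hCcard _ hwp
  have hwG : ((w : Subgroup.center G) : G) ∈ commutator G := hwC
  have hwG1 : ((w : Subgroup.center G) : G) ≠ 1 := fun h => hw1 (Subtype.ext h)
  have hfw : f (w : Subgroup.center G) = 1 := w.2
  have h1 := hf (w : Subgroup.center G) 1
  rw [mul_one, hfw, one_mul] at h1
  exact apply_commutator_ne p hp.out hcard hcen hχ hnl _ hwG hwG1 h1

end Conv

end Cfsg.Agent.Lib.Helper4.GC
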