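import Mathlib
import Cfsg.Agent.Lib.Helper4.GC3

set_option autoImplicit false

/-! Cyclic centre and `|G'| = p`: same-degree characters are Galois conjugate. -/

namespace Cfsg.Agent.Lib.Helper4.GC

open Cfsg Cfsg.Agent.Lib.Helper1 Cfsg.Agent.Lib.Helper4 Cfsg.Agent.Lib.Helper4.TD
  Cfsg.Agent.Lib.Helper4.TE
open scoped ComplexConjugate

universe u

section Conv

variable {G : Type u} [Group G] [Finite G]

theorem sameDegGalois_of_cyclic (p : ℕ) [hp : Fact p.Prime] (hP : IsPGroup p G)
    (hcard : Nat.card (commutator G) = p)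
    (hcen : commutator G ≤ Subgroup.center G) (hcyc : IsCyclic (Subgroup.center G)) :
    SameDegGalois G := by
  classical
  intro χ ψ hχ hψ hnl hdeg
  have hψnl : ψ 1 ≠ 1 := by rw [hdeg]; exact hnl
  obtain ⟨f, hf⟩ := exists_centralHom hχ
  obtain ⟨f', hf'⟩ := exists_centralHom hψ
  have hinj := centralHom_injective_of_cyclic p hP hcard hcen hcyc hχ hnl f hf
  have hinj' := centralHom_injective_of_cyclic p hP hcard hcen hcyc hψ hψnl f' hf'
  obtain ⟨z₀, hz₀⟩ := IsCyclic.exists_generator (α := Subgroup.center G)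
  set M := orderOf z₀ with hM
  have hMpos : 0 < M := orderOf_pos z₀
  set a := f z₀ with ha
  set b := f' z₀ with hb
  have horda : orderOf a = M := orderOf_injective f hinj z₀
  have hordb : orderOf b = M := orderOf_injective f' hinj' z₀
  have hpa : IsPrimitiveRoot a M := by rw [← horda]; exact IsPrimitiveRoot.orderOf a
  have hpb : IsPrimitiveRoot b M := by rw [← hordb]; exact IsPrimitiveRoot.orderOf b
  haveI : NeZero M := ⟨hMpos.ne'⟩
  obtain ⟨i, -, hi⟩ := hpa.eq_pow_of_pow_eq_one hpb.pow_eq_one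
  have hcop : i.Coprime M := (hpa.pow_iff_coprime hMpos i).1 (by rw [hi]; exact hpb)
  -- M is a nontrivial power of p
  obtain ⟨n, hn⟩ := (IsPGroup.iff_card (p := p) (G := G)).1 hP
  have hMdvd : M ∣ p ^ n := by
    rw [← hn]
    exact (orderOf_dvd_natCard z₀).trans (Subgroup.card_subgroup_dvd_card _)
  obtain ⟨s, -, hs⟩ := (Nat.dvd_prime_pow hp.out).1 hMdvd
  have hs0 : s ≠ 0 := by
    rintro rfl
    rw [pow_zero] at hs
    -- then z₀ = 1 and the centre is trivial, but it contains the commutator subgroup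
    have hz1 : z₀ = 1 := orderOf_eq_one_iff.1 hs
    have hall : ∀ x : Subgroup.center G, x = 1 := by
      intro x
      have := hz₀ x
      rw [hz1, Subgroup.zpowers_one_eq_bot, Subgroup.mem_bot] at this
      exact this
    have hbot : commutator G = ⊥ := by
      rw [eq_bot_iff]
      intro c hc
      have := hall ⟨c, hcen hc⟩
      rw [Subgroup.mem_bot]
      exact congrArg Subtype.val this
    rw [hbot] at hcard
    simp at hcard
    exact hp.out.one_lt.ne hcard
  have hcop_p : i.Coprime p := by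
    rw [hs] at hcop
    exact Nat.Coprime.coprime_dvd_right (dvd_pow_self p hs0) hcop
  have hcopG : i.Coprime (Nat.card G) := by
    rw [hn]
    exact Nat.Coprime.pow_right n hcop_p
  refine ⟨i, hcopG, ?_⟩
  intro g
  have hfz : ∀ z : Subgroup.center G, χ (z : G) = f z * χ 1 := by
    intro z
    have := hf z 1
    rwa [mul_one] at this
  have hfz' : ∀ z : Subgroup.center G, ψ (z : G) = f' z * ψ 1 := by
    intro z
    have := hf' z 1
    rwa [mul_one] at this
  by_cases hg : g ∈ Subgroup.center G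
  · have hgz := hz₀ ⟨g, hg⟩
    rw [← mem_powers_iff_mem_zpowers, Submonoid.mem_powers_iff] at hgz
    obtain ⟨j, hj⟩ := hgz
    have h1 : ψ g = f' (⟨g, hg⟩ : Subgroup.center G) * ψ 1 := hfz' ⟨g, hg⟩
    have h2 : χ (g ^ i) = f ((⟨g, hg⟩ : Subgroup.center G) ^ i) * χ 1 := hfz (⟨g, hg⟩ ^ i)
    rw [h1, h2, ← hj, map_pow, map_pow, map_pow, ← hb, ← ha, ← hi, hdeg, ← pow_mul, ← pow_mul,
      mul_comm i j]
  · rw [vanish_off_center p hp.out hcard hcen hψ hψnl g hg]
    have hgi : g ^ i ∉ Subgroup.center G := by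
      intro h
      apply hg
      have hco : i.Coprime (orderOf g) :=
        Nat.Coprime.coprime_dvd_right (orderOf_dvd_natCard g) hcopG
      obtain ⟨m, hm⟩ := exists_pow_eq_self_of_coprime hco
      rw [← hm]
      exact Subgroup.pow_mem _ h m
    rw [vanish_off_center p hp.out hcard hcen hχ hnl _ hgi]

end Conv

end Cfsg.Agent.Lib.Helper4.GC
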