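import Mathlib
import Cfsg.Agent.Lib.Helper4.GC10
import Cfsg.Agent.Lib.Helper4.GC4
import Cfsg.Agent.Lib.Lead.Frattini

set_option autoImplicit false

/-! The Galois hypothesis forces `|P'| = p` and cyclic centre. -/

namespace Cfsg.Agent.Lib.Helper4.GC

open Cfsg Cfsg.Agent.Lib.Helper1 Cfsg.Agent.Lib.Helper4 Cfsg.Agent.Lib.Helper4.TD
  Cfsg.Agent.Lib.Helper4.TE
open scoped ComplexConjugate

universe u

theorem structure_of_sameDegGalois : ∀ n : ℕ, ∀ (P : Type u) [Group P] [Finite P],
    Nat.card P = n → ∀ (p : ℕ) [Fact p.Prime], IsPGroup p P → (¬ ∀ a b : P, a * b = b * a) →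
    SameDegGalois P → Nat.card (commutator P) = p ∧ IsCyclic (Subgroup.center P) := by
  intro n
  induction n using Nat.strong_induction_on with
  | _ n ih =>
    intro P _ _ hn p hp hP hnab hH
    have hcne : commutator P ≠ ⊥ := by
      intro h
      apply hnab
      intro a b
      have h1 : a * b * a⁻¹ * b⁻¹ ∈ commutator P := by
        rw [commutator_def]
        have := Subgroup.commutator_mem_commutator (Subgroup.mem_top a) (Subgroup.mem_top b)
        rwa [commutatorElement_def] at this
      rw [h, Subgroup.mem_bot] at h1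
      have : a * b = (a * b * a⁻¹ * b⁻¹) * (b * a) := by group
      rw [this, h1, one_mul]
    obtain ⟨N, hNn, hN, hNcen, hNcomm⟩ := exists_central_subgroup p hP (commutator P) hcne
    haveI := hNn
    by_cases hQ : ∀ a b : P ⧸ N, a * b = b * a
    · have h1 : commutator P ≤ N := Cfsg.Agent.Lib.Lead.commutator_le_of_quotient_comm N hQ
      have h2 : commutator P = N := le_antisymm h1 hNcomm
      have hcard : Nat.card (commutator P) = p := by rw [h2]; exact hN
      have hcen : commutator P ≤ Subgroup.center P := by rw [h2]; exact hNcen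
      exact ⟨hcard, center_cyclic p hp.out hcard hcen hH hnab⟩
    · exfalso
      have hlt : Nat.card (P ⧸ N) < n := by
        rw [← hn, Subgroup.card_eq_card_quotient_mul_card_subgroup N, hN]
        have h0 : 0 < Nat.card (P ⧸ N) := Nat.card_pos
        have := hp.out.one_lt
        nlinarith
      obtain ⟨hQcard, hQcyc⟩ := ih _ hlt (P ⧸ N) rfl p (hP.to_quotient N) hQ (hH.quotient N)
      exact false_of_setting p hP hH N hN hNcen hNcomm hQcard hQcyc

end Cfsg.Agent.Lib.Helper4.GC
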