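import Mathlib

/-!
# A transfer lemma for central involutions of a Sylow 2-subgroup (for S1906)

`G` without subgroups of index two, `X` a Sylow `2`-subgroup, `z ∈ Z(X)` with `z² = 1`,
`χ : X →* A` a homomorphism to an abelian group taking only the values `1, ε` on the
`G`-conjugates of `z` lying in `X`.  Then some `n ∈ N_G(X)` has `χ (n⁻¹ z n) = 1`.
-/

set_option autoImplicit false
set_option linter.unusedSectionVars false

namespace Cfsg.Agent.Lib.Helper4.GL3T

open MulAction Subgroup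

universe u v

variable {G : Type u} [Group G]

section
variable {P : Type*} [Group P]

/-- in a finite `p`-group every proper subgroup lies in a normal subgroup of index `p` -/
theorem gl3t_exists_normal_index_p_above [Finite P] {p : ℕ} [hp : Fact p.Prime] (hP : IsPGroup p P)
    (D : Subgroup P) (hD : D ≠ ⊤) : ∃ D' : Subgroup P, D'.Normal ∧ D ≤ D' ∧ D'.index = p := by
  obtain h | ⟨C, hC, hDC⟩ := IsCoatomic.eq_top_or_exists_le_coatom D
  · exact absurd h hD
  have : Group.IsNilpotent P := hP.isNilpotent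
  have hCn : C.Normal := Subgroup.NormalizerCondition.normal_of_coatom C Group.normalizerCondition_of_isNilpotent hC
  refine ⟨C, hCn, hDC, ?_⟩
  have hQp : IsPGroup p (P ⧸ C) := hP.to_quotient C
  have : Nontrivial (P ⧸ C) := by
    rw [← Finite.one_lt_card_iff_nontrivial]
    have h1 : C.index ≠ 1 := fun h => hC.1 (Subgroup.index_eq_one.mp h)
    have h2 : C.index ≠ 0 := Subgroup.index_ne_zero_of_finite
    rw [← Subgroup.index_eq_card]
    omega
  obtain ⟨n, hn0, hn⟩ : ∃ n : ℕ, n ≠ 0 ∧ Nat.card (P ⧸ C) = p ^ n := by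
    obtain ⟨n, hn⟩ := IsPGroup.iff_card.mp hQp
    refine ⟨n, ?_, hn⟩
    rintro rfl
    have := Finite.one_lt_card (α := P ⧸ C)
    rw [hn] at this; simp at this
  -- a subgroup of index p in the quotient
  obtain ⟨N, hN⟩ : ∃ N : Subgroup (P ⧸ C), N.index = p := by
    obtain ⟨m, rfl⟩ := Nat.exists_eq_succ_of_ne_zero hn0
    obtain ⟨N, hN⟩ := Sylow.exists_subgroup_card_pow_prime (G := P ⧸ C) p (n := m)
      (by rw [hn]; exact pow_dvd_pow p (Nat.le_succ m))
    refine ⟨N, ?_⟩
    have h1 := N.card_mul_index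
    rw [hN, hn, pow_succ] at h1
    exact Nat.eq_of_mul_eq_mul_left (pow_pos hp.out.pos m) h1
  have h1 : (N.comap (QuotientGroup.mk' C)).index = p := by
    rw [Subgroup.index_comap_of_surjective _ (QuotientGroup.mk'_surjective C), hN]
  have h2 : C ≤ N.comap (QuotientGroup.mk' C) := by
    intro c hc
    rw [Subgroup.mem_comap]
    have : QuotientGroup.mk' C c = 1 := (QuotientGroup.eq_one_iff c).mpr hc
    rw [this]; exact N.one_mem
  have h3 : N.comap (QuotientGroup.mk' C) ≠ ⊤ := by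
    intro h
    rw [h, Subgroup.index_top] at h1
    exact hp.out.one_lt.ne h1
  have h4 : C = N.comap (QuotientGroup.mk' C) := by
    by_contra hne
    exact h3 (hC.2 _ (lt_of_le_of_ne h2 hne))
  rw [h4]; exact h1

/-- the product over the cosets of a proper subgroup of a `p`-group of a function whose products over the
`⟨u⟩`-strings of length `p` are trivial, for `u` in a generating set -/
theorem gl3t_prod_quotient_eq_one [Finite P] {p : ℕ} [hp : Fact p.Prime] (hP : IsPGroup p P)
    (D : Subgroup P) (hD : D ≠ ⊤) {A : Type*} [CommGroup A] (h : P ⧸ D → A) (𝒰 : Set P)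
    (hgen : Subgroup.closure 𝒰 = ⊤)
    (hh : ∀ u ∈ 𝒰, ∀ q : P ⧸ D, ∏ j ∈ Finset.range p, h (u ^ j • q) = 1) [Fintype (P ⧸ D)] :
    ∏ q : P ⧸ D, h q = 1 := by
  classical
  obtain ⟨D', hD'n, hDD', hD'idx⟩ := gl3t_exists_normal_index_p_above hP D hD
  obtain ⟨u, hu𝒰, huD'⟩ : ∃ u ∈ 𝒰, u ∉ D' := by
    by_contra hcon
    push Not at hcon
    have h1 : Subgroup.closure 𝒰 ≤ D' := (Subgroup.closure_le _).mpr hcon
    rw [hgen, top_le_iff] at h1
    rw [h1, Subgroup.index_top] at hD'idx
    exact hp.out.one_lt.ne hD'idx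
  letI : Fintype (P ⧸ D') := Fintype.ofFinite _
  have hcard : Nat.card (P ⧸ D') = p := by rw [← Subgroup.index_eq_card]; exact hD'idx
  have hu1 : (QuotientGroup.mk' D' u) ≠ 1 := by
    intro h1
    exact huD' ((QuotientGroup.eq_one_iff u).mp h1)
  have hord : orderOf (QuotientGroup.mk' D' u) = p := by
    have h1 : orderOf (QuotientGroup.mk' D' u) ∣ p := by
      rw [← hcard]; exact orderOf_dvd_natCard _
    rcases (Nat.dvd_prime hp.out).mp h1 with h2 | h2
    · exact absurd (orderOf_eq_one_iff.mp h2) hu1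
    · exact h2
  let π : P ⧸ D → P ⧸ D' := Subgroup.quotientMapOfLE hDD'
  have hπ : ∀ (g : P) (q : P ⧸ D), π (g • q) = g • π q := by
    intro g q
    induction q using QuotientGroup.induction_on with
    | H t => rfl
  rw [← Finset.prod_fiberwise Finset.univ π h]
  -- the cosets of `D'` are the `u ^ j D'`
  have hinj : Set.InjOn (fun j : ℕ => ((u ^ j : P) : P ⧸ D')) (Finset.range p : Set ℕ) := by
    intro i hi j hj hij
    have h1 := pow_injOn_Iio_orderOf (x := QuotientGroup.mk' D' u)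
    rw [hord] at h1
    apply h1 (by simpa using hi) (by simpa using hj)
    show (QuotientGroup.mk' D' u) ^ i = (QuotientGroup.mk' D' u) ^ j
    rw [← map_pow, ← map_pow]
    exact hij
  have himg : (Finset.univ : Finset (P ⧸ D')) =
      (Finset.range p).image (fun j : ℕ => ((u ^ j : P) : P ⧸ D')) := by
    symm
    apply Finset.eq_univ_of_card
    rw [Finset.card_image_of_injOn hinj, Finset.card_range, ← Nat.card_eq_fintype_card, hcard]
  rw [himg, Finset.prod_image hinj]
  have hfib : ∀ j : ℕ, (Finset.univ.filter (fun q : P ⧸ D => π q = ((u ^ j : P) : P ⧸ D')))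
      = (Finset.univ.filter (fun q : P ⧸ D => π q = ((1 : P) : P ⧸ D'))).image (fun q => u ^ j • q) := by
    intro j
    ext q
    simp only [Finset.mem_filter, Finset.mem_univ, true_and, Finset.mem_image]
    constructor
    · intro hq
      refine ⟨(u ^ j)⁻¹ • q, ?_, by rw [smul_inv_smul]⟩
      rw [hπ, hq]
      show (((u ^ j)⁻¹ * u ^ j : P) : P ⧸ D') = _
      rw [inv_mul_cancel]
    · rintro ⟨q', hq', rfl⟩
      rw [hπ, hq']
      show (((u ^ j) * 1 : P) : P ⧸ D') = _
      rw [mul_one]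
  have hsm : ∀ j : ℕ, Set.InjOn (fun q : P ⧸ D => u ^ j • q)
      (Finset.univ.filter (fun q : P ⧸ D => π q = ((1 : P) : P ⧸ D')) : Set (P ⧸ D)) := by
    intro j a _ b _ hab
    exact MulAction.injective (u ^ j) hab
  have h2 : ∀ j ∈ Finset.range p, ∏ q ∈ Finset.univ.filter (fun q : P ⧸ D => π q = ((u ^ j : P) : P ⧸ D')), h q
      = ∏ q ∈ Finset.univ.filter (fun q : P ⧸ D => π q = ((1 : P) : P ⧸ D')), h (u ^ j • q) := by
    intro j _
    rw [hfib j, Finset.prod_image (hsm j)]
  rw [Finset.prod_congr rfl h2, Finset.prod_comm]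
  apply Finset.prod_eq_one
  intro q _
  exact hh u hu𝒰 q

/-- a `p`-group `P` generated by `𝒰` acts on a finite set; if `f` is trivial at the fixed points and has trivial
products over the `⟨u⟩`-strings of length `p`, `u ∈ 𝒰`, then the product of all values of `f` is trivial -/
theorem gl3t_prod_eq_one_of_pgroup_action [Finite P] {p : ℕ} [hp : Fact p.Prime] (hP : IsPGroup p P)
    {Ω : Type*} [MulAction P Ω] [Fintype Ω] {A : Type*} [CommGroup A] (f : Ω → A) (𝒰 : Set P)
    (hgen : Subgroup.closure 𝒰 = ⊤)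
    (hf : ∀ u ∈ 𝒰, ∀ ω : Ω, ∏ j ∈ Finset.range p, f (u ^ j • ω) = 1)
    (hfix : ∀ ω : Ω, (∀ u ∈ 𝒰, u • ω = ω) → f ω = 1) : ∏ ω : Ω, f ω = 1 := by
  classical
  have key : ∀ n : ℕ, ∀ Ω' : Finset Ω, Ω'.card = n → (∀ (g : P), ∀ ω ∈ Ω', g • ω ∈ Ω') →
      ∏ ω ∈ Ω', f ω = 1 := by
    intro n
    induction n using Nat.strong_induction_on with
    | _ n ih =>
    intro Ω' hn hst
    rcases Finset.eq_empty_or_nonempty Ω' with rfl | ⟨ω₀, hω₀⟩
    · simp
    obtain ⟨O, hOdef⟩ : ∃ O : Finset Ω, O = Finset.univ.filter (fun ω => ω ∈ MulAction.orbit P ω₀) :=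
      ⟨_, rfl⟩
    have hmemO : ∀ ω, ω ∈ O ↔ ω ∈ MulAction.orbit P ω₀ := by
      intro ω; rw [hOdef]; simp
    have hOsub : O ⊆ Ω' := by
      intro ω hω
      obtain ⟨g, rfl⟩ := (hmemO ω).mp hω
      exact hst g ω₀ hω₀
    have hω₀O : ω₀ ∈ O := (hmemO ω₀).mpr (MulAction.mem_orbit_self ω₀)
    rw [← Finset.prod_sdiff hOsub]
    have h1 : ∏ ω ∈ Ω' \ O, f ω = 1 := by
      apply ih (Ω' \ O).card _ _ rfl
      · intro g ω hω
        rw [Finset.mem_sdiff] at hω ⊢
        refine ⟨hst g ω hω.1, ?_⟩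
        intro hgO
        apply hω.2
        rw [hmemO] at hgO ⊢
        have : ω = g⁻¹ • (g • ω) := by rw [inv_smul_smul]
        rw [this]
        exact MulAction.mem_orbit_of_mem_orbit g⁻¹ hgO
      · rw [← hn]
        apply Finset.card_lt_card
        refine ⟨Finset.sdiff_subset, ?_⟩
        intro hsub
        have := hsub hω₀
        rw [Finset.mem_sdiff] at this
        exact this.2 hω₀O
    rw [h1, one_mul]
    rw [Finset.prod_subtype O hmemO f]
    letI : Fintype (P ⧸ MulAction.stabilizer P ω₀) := Fintype.ofFinite _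
    have h2 : ∏ x : ↥(MulAction.orbit P ω₀), f x
        = ∏ q : P ⧸ MulAction.stabilizer P ω₀, f (MulAction.ofQuotientStabilizer P ω₀ q) := by
      symm
      apply Fintype.prod_equiv (MulAction.orbitEquivQuotientStabilizer P ω₀).symm
      intro q
      induction q using QuotientGroup.induction_on with
      | H g =>
        rw [MulAction.orbitEquivQuotientStabilizer_symm_apply]
        rfl
    rw [h2]
    by_cases hD : MulAction.stabilizer P ω₀ = ⊤
    · apply Finset.prod_eq_one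
      intro q _
      induction q using QuotientGroup.induction_on with
      | H g =>
        have hg : ∀ g : P, g • ω₀ = ω₀ := by
          intro g
          have : g ∈ MulAction.stabilizer P ω₀ := by rw [hD]; exact Subgroup.mem_top g
          exact MulAction.mem_stabilizer_iff.mp this
        show f (g • ω₀) = 1
        rw [hg g]
        exact hfix ω₀ (fun u _ => hg u)
    · apply gl3t_prod_quotient_eq_one hP _ hD _ 𝒰 hgen
      intro u hu q
      have : ∀ j : ℕ, MulAction.ofQuotientStabilizer P ω₀ (u ^ j • q)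
          = u ^ j • MulAction.ofQuotientStabilizer P ω₀ q := fun j =>
        MulAction.ofQuotientStabilizer_smul P ω₀ (u ^ j) q
      simp only [this]
      exact hf u hu _
  have := key _ Finset.univ rfl (fun g ω _ => Finset.mem_univ _)
  exact this

end


/-- extension of a homomorphism on `H` by `1` outside `H` -/
noncomputable def ext1 {H : Subgroup G} {A : Type v} [CommGroup A] (φ : H →* A) (g : G) : A := by
  classical
  exact if h : g ∈ H then φ ⟨g, h⟩ else 1

theorem ext1_of_mem {H : Subgroup G} {A : Type v} [CommGroup A] (φ : H →* A) {g : G}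
    (h : g ∈ H) : ext1 φ g = φ ⟨g, h⟩ := by
  classical
  unfold ext1
  rw [dif_pos h]

theorem ext1_mul {H : Subgroup G} {A : Type v} [CommGroup A] (φ : H →* A) {a b : G}
    (ha : a ∈ H) (hb : b ∈ H) : ext1 φ (a * b) = ext1 φ a * ext1 φ b := by
  rw [ext1_of_mem φ ha, ext1_of_mem φ hb, ext1_of_mem φ (H.mul_mem ha hb), ← map_mul]
  rfl

theorem ext1_one {H : Subgroup G} {A : Type v} [CommGroup A] (φ : H →* A) :
    ext1 φ (1 : G) = 1 := by
  rw [ext1_of_mem φ H.one_mem]
  exact map_one φ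

theorem ext1_conj {H : Subgroup G} {A : Type v} [CommGroup A] (φ : H →* A) {a h : G}
    (ha : a ∈ H) (hh : h ∈ H) : ext1 φ (h⁻¹ * a * h) = ext1 φ a := by
  rw [ext1_mul φ (H.mul_mem (H.inv_mem hh) ha) hh, ext1_mul φ (H.inv_mem hh) ha]
  have : ext1 φ h⁻¹ * ext1 φ h = 1 := by
    rw [← ext1_mul φ (H.inv_mem hh) hh, inv_mul_cancel, ext1_one]
  calc ext1 φ h⁻¹ * ext1 φ a * ext1 φ h = ext1 φ a * (ext1 φ h⁻¹ * ext1 φ h) := by
        rw [mul_comm (ext1 φ h⁻¹), mul_assoc]
    _ = ext1 φ a := by rw [this, mul_one]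

/-- the coset bookkeeping: `q.out⁻¹ * z * (z⁻¹ • q).out ∈ H` -/
theorem out_mem_aux {H : Subgroup G} (z : G) (q : G ⧸ H) :
    q.out⁻¹ * z * (z⁻¹ • q).out ∈ H := by
  have hq : ((q.out : G) : G ⧸ H) = q := QuotientGroup.out_eq' q
  have hq' : (((z⁻¹ • q).out : G) : G ⧸ H) = z⁻¹ • q := QuotientGroup.out_eq' _
  have h1 : ((z * (z⁻¹ • q).out : G) : G ⧸ H) = ((q.out : G) : G ⧸ H) := by
    calc ((z * (z⁻¹ • q).out : G) : G ⧸ H) = z • (((z⁻¹ • q).out : G) : G ⧸ H) := rfl
      _ = z • (z⁻¹ • q) := by rw [hq']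
      _ = q := by rw [smul_inv_smul]
      _ = _ := hq.symm
  have h2 := QuotientGroup.eq.mp h1.symm
  have : q.out⁻¹ * z * (z⁻¹ • q).out = q.out⁻¹ * (z * (z⁻¹ • q).out) := by group
  rw [this]; exact h2

/-- the transfer in terms of the representatives `Quotient.out` -/
theorem transfer_eq_prod_out {H : Subgroup G} [H.FiniteIndex] {A : Type v} [CommGroup A]
    (φ : H →* A) (z : G) :
    letI := H.fintypeQuotientOfFiniteIndex
    MonoidHom.transfer φ z = ∏ q : G ⧸ H, ext1 φ (q.out⁻¹ * z * (z⁻¹ • q).out) := by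
  classical
  letI := H.fintypeQuotientOfFiniteIndex
  have hout : ∀ q : G ⧸ H, ((Quotient.out q : G) : G ⧸ H) = q := fun q => Quotient.out_eq' q
  let T₀ : H.LeftTransversal := ⟨Set.range Quotient.out, isComplement_range_left hout⟩
  have hT₀ : ∀ q : G ⧸ H, (T₀.2.leftQuotientEquiv q : G) = q.out :=
    fun q => IsComplement.leftQuotientEquiv_apply hout q
  rw [MonoidHom.transfer_def φ T₀ z]
  unfold leftTransversals.diff
  apply Finset.prod_congr rfl
  intro q _
  rw [ext1_of_mem φ (out_mem_aux z q)]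
  congr 1
  apply Subtype.ext
  show (T₀.2.leftQuotientEquiv q : G)⁻¹ * ((z • T₀).2.leftQuotientEquiv q : G)
    = q.out⁻¹ * z * (z⁻¹ • q).out
  rw [smul_apply_eq_smul_apply_inv_smul, hT₀ q, hT₀ (z⁻¹ • q), smul_eq_mul, mul_assoc]

/-- In a finite group, an element conjugating `M` into itself normalizes `M`. -/
theorem gl3t_mem_normalizer_of_conj_le [Finite G] (M : Subgroup G) (g : G)
    (h : ∀ m ∈ M, g * m * g⁻¹ ∈ M) : g ∈ Subgroup.normalizer (M : Set G) := by
  rw [Subgroup.mem_normalizer_iff]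
  intro x
  refine ⟨h x, fun hx => ?_⟩
  let f : M → M := fun m => ⟨g * m * g⁻¹, h m m.2⟩
  have hinj : Function.Injective f := by
    intro a b hab
    have h1 : g * (a : G) * g⁻¹ = g * (b : G) * g⁻¹ := congrArg Subtype.val hab
    exact Subtype.ext (mul_left_cancel (mul_right_cancel h1))
  have hsurj := Finite.surjective_of_injective hinj
  obtain ⟨m, hm⟩ := hsurj ⟨g * x * g⁻¹, hx⟩
  have h1 : g * (m : G) * g⁻¹ = g * x * g⁻¹ := congrArg Subtype.val hm
  have h2 : (m : G) = x := mul_left_cancel (mul_right_cancel h1)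
  rw [← h2]; exact m.2

/-- `z • q = q` gives `q.out⁻¹ * z * q.out ∈ H`. -/
theorem conj_out_mem {H : Subgroup G} (z : G) (q : G ⧸ H) (h : z • q = q) :
    q.out⁻¹ * z * q.out ∈ H := by
  have hq : ((q.out : G) : G ⧸ H) = q := QuotientGroup.out_eq' q
  have h1 : ((z * q.out : G) : G ⧸ H) = ((q.out : G) : G ⧸ H) := by
    calc ((z * q.out : G) : G ⧸ H) = z • ((q.out : G) : G ⧸ H) := rfl
      _ = z • q := by rw [hq]
      _ = q := h
      _ = _ := hq.symm
  have h2 := QuotientGroup.eq.mp h1.symm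
  have : q.out⁻¹ * z * q.out = q.out⁻¹ * (z * q.out) := by group
  rw [this]; exact h2

/-- the representative of `x • q` -/
theorem out_smul_eq {H : Subgroup G} (x : G) (q : G ⧸ H) :
    ∃ h ∈ H, (x • q).out = x * q.out * h := by
  have hq : ((q.out : G) : G ⧸ H) = q := QuotientGroup.out_eq' q
  have hq' : (((x • q).out : G) : G ⧸ H) = x • q := QuotientGroup.out_eq' _
  have h1 : ((x * q.out : G) : G ⧸ H) = (((x • q).out : G) : G ⧸ H) := by
    calc ((x * q.out : G) : G ⧸ H) = x • ((q.out : G) : G ⧸ H) := rfl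
      _ = x • q := by rw [hq]
      _ = _ := hq'.symm
  have h2 := QuotientGroup.eq.mp h1
  exact ⟨(x * q.out)⁻¹ * (x • q).out, h2, by group⟩

/-- **Evaluation.**  For `z` of order at most two, central in the `2`-group `X`, the transfer
`G → A` of `φ : X →* A` at `z` is the product of `φ (n⁻¹ z n)` over the cosets `nX` fixed by `X`. -/
theorem transfer_central_involution [Finite G] (H : Subgroup G) (hH2 : IsPGroup 2 H)
    {A : Type v} [CommGroup A]
    (φ : ↥H →* A) (z : G) (hzX : z ∈ H) (hz2 : z * z = 1)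
    (hzc : ∀ x ∈ H, x * z = z * x) :
    letI := H.fintypeQuotientOfFiniteIndex
    ∀ [DecidablePred fun q : G ⧸ H => q ∈ fixedPoints ↥H (G ⧸ H)],
    MonoidHom.transfer φ z =
      ∏ q ∈ Finset.univ.filter (fun q : G ⧸ H => q ∈ fixedPoints ↥H (G ⧸ H)),
        ext1 φ (q.out⁻¹ * z * q.out) := by
  classical
  letI := H.fintypeQuotientOfFiniteIndex
  intro _inst
  have hzinv : z⁻¹ = z := inv_eq_of_mul_eq_one_left hz2
  rw [transfer_eq_prod_out φ z]
  simp only [hzinv]
  set g : G ⧸ H → A := fun q => ext1 φ (q.out⁻¹ * z * (z • q).out) with hg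
  set b : G ⧸ H → A := fun q => ext1 φ (q.out⁻¹ * z * q.out) with hb
  have hzz : ∀ q : G ⧸ H, z • z • q = q := by
    intro q; rw [smul_smul, hz2, one_smul]
  have hmem : ∀ q : G ⧸ H, q.out⁻¹ * z * (z • q).out ∈ H := by
    intro q
    have := out_mem_aux (H := H) z q
    rwa [hzinv] at this
  -- the non-fixed cosets cancel in pairs
  have hsplit := Finset.prod_filter_mul_prod_filter_not (Finset.univ : Finset (G ⧸ H))
    (fun q => z • q = q) g
  have hnon : ∏ q ∈ Finset.univ.filter (fun q : G ⧸ H => ¬ z • q = q), g q = 1 := by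
    apply Finset.prod_involution (fun q _ => z • q)
    · intro q _
      show ext1 φ (q.out⁻¹ * z * (z • q).out) * ext1 φ ((z • q).out⁻¹ * z * (z • z • q).out) = 1
      have h2 : (z • q).out⁻¹ * z * (z • z • q).out ∈ H := hmem (z • q)
      rw [← ext1_mul φ (hmem q) h2]
      have : q.out⁻¹ * z * (z • q).out * ((z • q).out⁻¹ * z * (z • z • q).out)
          = q.out⁻¹ * (z * z) * (z • z • q).out := by group
      rw [this, hz2, hzz q]
      have : q.out⁻¹ * 1 * q.out = 1 := by group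
      rw [this, ext1_one]
    · intro q hq _
      exact (Finset.mem_filter.mp hq).2
    · intro q _
      exact hzz q
    · intro q hq
      rw [Finset.mem_filter] at hq ⊢
      refine ⟨Finset.mem_univ _, ?_⟩
      intro h
      apply hq.2
      have := congrArg (fun t => z • t) h
      simp only [hzz q] at this
      exact this
  have hfixg : ∀ q : G ⧸ H, z • q = q → g q = b q := by
    intro q hq
    show ext1 φ (q.out⁻¹ * z * (z • q).out) = ext1 φ (q.out⁻¹ * z * q.out)
    rw [hq]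
  have hV : ∏ q : G ⧸ H, g q = ∏ q ∈ Finset.univ.filter (fun q : G ⧸ H => z • q = q), b q := by
    rw [← hsplit, hnon, mul_one]
    apply Finset.prod_congr rfl
    intro q hq
    exact hfixg q (Finset.mem_filter.mp hq).2
  rw [hV]
  -- `X`-invariance
  have hbmem : ∀ q : G ⧸ H, z • q = q → q.out⁻¹ * z * q.out ∈ H := fun q hq => conj_out_mem z q hq
  have hzfix_smul : ∀ (x : ↥H) (q : G ⧸ H), z • q = q → z • (x • q) = x • q := by
    intro x q hq
    have h1 : z • (x • q) = ((z * (x : G)) : G) • q := by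
      rw [mul_smul]; rfl
    have h2 : (x : G) • (z • q) = (((x : G) * z : G)) • q := by rw [mul_smul]
    rw [h1, ← hzc x x.2, ← h2, hq]; rfl
  have hbinv : ∀ (x : ↥H) (q : G ⧸ H), z • q = q → b (x • q) = b q := by
    intro x q hq
    obtain ⟨h, hh, hout⟩ := out_smul_eq (H := H) (x : G) q
    show ext1 φ ((x • q).out⁻¹ * z * (x • q).out) = ext1 φ (q.out⁻¹ * z * q.out)
    have h0 : (x • q : G ⧸ H) = (x : G) • q := rfl
    rw [h0, hout]
    have : ((x : G) * q.out * h)⁻¹ * z * ((x : G) * q.out * h)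
        = h⁻¹ * (q.out⁻¹ * ((x : G)⁻¹ * z * (x : G)) * q.out) * h := by group
    rw [this]
    have hxz : (x : G)⁻¹ * z * (x : G) = z := by
      rw [mul_assoc, ← hzc x x.2, ← mul_assoc, inv_mul_cancel, one_mul]
    rw [hxz]
    exact ext1_conj φ (hbmem q hq) hh
  have hbsq : ∀ q : G ⧸ H, z • q = q → b q * b q = 1 := by
    intro q hq
    show ext1 φ (q.out⁻¹ * z * q.out) * ext1 φ (q.out⁻¹ * z * q.out) = 1
    rw [← ext1_mul φ (hbmem q hq) (hbmem q hq)]
    have : q.out⁻¹ * z * q.out * (q.out⁻¹ * z * q.out) = q.out⁻¹ * (z * z) * q.out := by group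
    rw [this, hz2]
    have : q.out⁻¹ * 1 * q.out = 1 := by group
    rw [this, ext1_one]
  -- fixed points of `X` are fixed by `z`
  have hfixsub : ∀ q : G ⧸ H, q ∈ fixedPoints ↥H (G ⧸ H) → z • q = q := by
    intro q hq
    exact hq ⟨z, hzX⟩
  have hfp_smul : ∀ (x : ↥H) (q : G ⧸ H), q ∈ fixedPoints ↥H (G ⧸ H) ↔
      x • q ∈ fixedPoints ↥H (G ⧸ H) := by
    intro x q
    constructor
    · intro hq
      rw [hq x]; exact hq
    · intro hq y
      have h1 := hq (x * y * x⁻¹)
      rw [smul_smul] at h1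
      have h2 : x * y * x⁻¹ * x = x * y := by group
      rw [h2, mul_smul] at h1
      exact smul_left_cancel x h1
  -- the function to which the `2`-group lemma applies
  set F : G ⧸ H → A := fun q =>
    if (z • q = q ∧ q ∉ fixedPoints ↥H (G ⧸ H)) then b q else 1 with hF
  have hFprod : ∏ q : G ⧸ H, F q = 1 := by
    apply gl3t_prod_eq_one_of_pgroup_action (p := 2) hH2 F Set.univ
      Subgroup.closure_univ
    · intro u _ ω
      rw [Finset.prod_range_succ, Finset.prod_range_one, pow_zero, one_smul, pow_one]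
      by_cases hc : z • ω = ω ∧ ω ∉ fixedPoints ↥H (G ⧸ H)
      · have hc' : z • (u • ω) = u • ω ∧ u • ω ∉ fixedPoints ↥H (G ⧸ H) :=
          ⟨hzfix_smul u ω hc.1, fun h => hc.2 ((hfp_smul u ω).mpr h)⟩
        show (if (z • ω = ω ∧ ω ∉ fixedPoints ↥H (G ⧸ H)) then b ω else 1)
          * (if (z • (u • ω) = u • ω ∧ u • ω ∉ fixedPoints ↥H (G ⧸ H)) then b (u • ω) else 1) = 1
        rw [if_pos hc, if_pos hc', hbinv u ω hc.1]
        exact hbsq ω hc.1
      · have hc' : ¬ (z • (u • ω) = u • ω ∧ u • ω ∉ fixedPoints ↥H (G ⧸ H)) := by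
          rintro ⟨h1, h2⟩
          apply hc
          refine ⟨?_, fun h => h2 ((hfp_smul u ω).mp h)⟩
          have h3 := hzfix_smul u⁻¹ (u • ω) h1
          rwa [inv_smul_smul] at h3
        show (if (z • ω = ω ∧ ω ∉ fixedPoints ↥H (G ⧸ H)) then b ω else 1)
          * (if (z • (u • ω) = u • ω ∧ u • ω ∉ fixedPoints ↥H (G ⧸ H)) then b (u • ω) else 1) = 1
        rw [if_neg hc, if_neg hc', one_mul]
    · intro ω hω
      have hfp : ω ∈ fixedPoints ↥H (G ⧸ H) := fun u => hω u (Set.mem_univ _)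
      show (if (z • ω = ω ∧ ω ∉ fixedPoints ↥H (G ⧸ H)) then b ω else 1) = 1
      rw [if_neg (fun h => h.2 hfp)]
  -- split the fixed cosets of `z`
  have hsplit2 := Finset.prod_filter_mul_prod_filter_not
    (Finset.univ.filter (fun q : G ⧸ H => z • q = q))
    (fun q => q ∈ fixedPoints ↥H (G ⧸ H)) b
  have hA : ∏ q ∈ (Finset.univ.filter (fun q : G ⧸ H => z • q = q)).filter
      (fun q => ¬ q ∈ fixedPoints ↥H (G ⧸ H)), b q = 1 := by
    rw [← hFprod, Finset.filter_filter]
    rw [Finset.prod_filter]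
  have hB : (Finset.univ.filter (fun q : G ⧸ H => z • q = q)).filter
      (fun q => q ∈ fixedPoints ↥H (G ⧸ H))
      = Finset.univ.filter (fun q : G ⧸ H => q ∈ fixedPoints ↥H (G ⧸ H)) := by
    ext q
    simp only [Finset.mem_filter, Finset.mem_univ, true_and]
    exact ⟨fun h => h.2, fun h => ⟨hfixsub q h, h⟩⟩
  rw [← hsplit2, hA, mul_one, hB]

/-- **P1 for S1906.**  `X` a Sylow `2`-subgroup, `z ∈ Z(X)` with `z² = 1`, `χ : X →* Kˣ`; if no
`N_G(X)`-conjugate of `z` is in the kernel of `χ`, then `G` has a subgroup of index two. -/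
theorem exists_index_two_of_central_involution {G : Type*} [Group G] [Finite G] (X : Sylow 2 G)
    {K : Type*} [Field K] (χ : ↥(X : Subgroup G) →* Kˣ) (z : G) (hzX : z ∈ (X : Subgroup G))
    (hz2 : z * z = 1) (hzc : ∀ x ∈ (X : Subgroup G), x * z = z * x)
    (hχ : ∀ n : G, n ∈ Subgroup.normalizer ((X : Subgroup G) : Set G) →
      ∀ h : n⁻¹ * z * n ∈ (X : Subgroup G), χ ⟨n⁻¹ * z * n, h⟩ ≠ 1) :
    ∃ H : Subgroup G, H.index = 2 := by
  classical
  letI := (X : Subgroup G).fintypeQuotientOfFiniteIndex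
  let φ : ↥(X : Subgroup G) →* ↥χ.range := χ.rangeRestrict
  have hφs : Function.Surjective φ := χ.rangeRestrict_surjective
  haveI : Finite ↥χ.range := Finite.of_surjective φ hφs
  let V : G →* ↥χ.range := MonoidHom.transfer φ
  -- values of `φ` on conjugates of `z` by elements of the normalizer
  have hval : ∀ n : G, n ∈ Subgroup.normalizer ((X : Subgroup G) : Set G) →
      ∀ h : n⁻¹ * z * n ∈ (X : Subgroup G), ((φ ⟨n⁻¹ * z * n, h⟩ : ↥χ.range) : Kˣ) = -1 := by
    intro n hn h
    have h1 : χ ⟨n⁻¹ * z * n, h⟩ ≠ 1 := hχ n hn h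
    have h2 : χ ⟨n⁻¹ * z * n, h⟩ * χ ⟨n⁻¹ * z * n, h⟩ = 1 := by
      rw [← map_mul]
      have : (⟨n⁻¹ * z * n, h⟩ : ↥(X : Subgroup G)) * ⟨n⁻¹ * z * n, h⟩ = 1 := by
        apply Subtype.ext
        show n⁻¹ * z * n * (n⁻¹ * z * n) = 1
        have : n⁻¹ * z * n * (n⁻¹ * z * n) = n⁻¹ * (z * z) * n := by group
        rw [this, hz2]; group
      rw [this, map_one]
    have h3 : ((χ ⟨n⁻¹ * z * n, h⟩ : Kˣ) : K) * ((χ ⟨n⁻¹ * z * n, h⟩ : Kˣ) : K) = 1 := by
      rw [← Units.val_mul, h2, Units.val_one]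
    rcases mul_self_eq_one_iff.mp h3 with h4 | h4
    · exact absurd (Units.ext h4) h1
    · show χ ⟨n⁻¹ * z * n, h⟩ = -1
      exact Units.ext h4
  -- the common value `c`
  have h1N : (1 : G) ∈ Subgroup.normalizer ((X : Subgroup G) : Set G) := Subgroup.one_mem _
  have h1mem : (1 : G)⁻¹ * z * 1 ∈ (X : Subgroup G) := by simpa using hzX
  obtain ⟨c, hc⟩ : ∃ c : ↥χ.range, c = φ ⟨(1 : G)⁻¹ * z * 1, h1mem⟩ := ⟨_, rfl⟩
  have hcval : (c : Kˣ) = -1 := by rw [hc]; exact hval 1 h1N h1mem
  have hneg : (-1 : Kˣ) ≠ 1 := by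
    intro h
    exact hχ 1 h1N h1mem (by
      have := hval 1 h1N h1mem
      rw [h] at this
      exact this)
  have hc1 : c ≠ 1 := by
    intro h
    apply hneg
    rw [← hcval, h]; rfl
  have hcc : c * c = 1 := by
    apply Subtype.ext
    show (c : Kˣ) * (c : Kˣ) = 1
    rw [hcval]; simp
  -- evaluation of the transfer
  have hV : V z = ∏ q ∈ Finset.univ.filter
      (fun q : G ⧸ (X : Subgroup G) =>
        q ∈ fixedPoints ↥(X : Subgroup G) (G ⧸ (X : Subgroup G))),
      ext1 φ (q.out⁻¹ * z * q.out) :=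
    transfer_central_involution (X : Subgroup G) X.isPGroup' φ z hzX hz2 hzc
  have hterm : ∀ q ∈ Finset.univ.filter
      (fun q : G ⧸ (X : Subgroup G) =>
        q ∈ fixedPoints ↥(X : Subgroup G) (G ⧸ (X : Subgroup G))),
      ext1 φ (q.out⁻¹ * z * q.out) = c := by
    intro q hq
    have hqf : q ∈ fixedPoints ↥(X : Subgroup G) (G ⧸ (X : Subgroup G)) :=
      (Finset.mem_filter.mp hq).2
    have hq' : ((q.out : G) : G ⧸ (X : Subgroup G)) = q := QuotientGroup.out_eq' q
    have hn : q.out ∈ Subgroup.normalizer ((X : Subgroup G) : Set G) := by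
      rw [← Sylow.mem_fixedPoints_mul_left_cosets_iff_mem_normalizer, hq']
      exact hqf
    have hzq : z • q = q := hqf ⟨z, hzX⟩
    have hm : q.out⁻¹ * z * q.out ∈ (X : Subgroup G) := conj_out_mem z q hzq
    rw [ext1_of_mem φ hm]
    apply Subtype.ext
    rw [hval q.out hn hm, hcval]
  have hVz : V z = c ^ (Finset.univ.filter
      (fun q : G ⧸ (X : Subgroup G) =>
        q ∈ fixedPoints ↥(X : Subgroup G) (G ⧸ (X : Subgroup G)))).card := by
    rw [hV, Finset.prod_congr rfl hterm, Finset.prod_const]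
  -- the number of fixed cosets is odd
  have hodd : (Finset.univ.filter
      (fun q : G ⧸ (X : Subgroup G) =>
        q ∈ fixedPoints ↥(X : Subgroup G) (G ⧸ (X : Subgroup G)))).card % 2 = 1 := by
    have h1 := IsPGroup.card_modEq_card_fixedPoints X.isPGroup' (G ⧸ (X : Subgroup G))
    have h2 : Nat.card (G ⧸ (X : Subgroup G)) = (X : Subgroup G).index :=
      (Subgroup.index_eq_card _).symm
    have h3 : ¬ 2 ∣ (X : Subgroup G).index := X.not_dvd_index
    have h4 : Nat.card ↥(fixedPoints ↥(X : Subgroup G) (G ⧸ (X : Subgroup G)))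
        = (Finset.univ.filter
      (fun q : G ⧸ (X : Subgroup G) =>
        q ∈ fixedPoints ↥(X : Subgroup G) (G ⧸ (X : Subgroup G)))).card := by
      rw [Nat.card_eq_fintype_card]
      exact Fintype.card_subtype _
    rw [← h4]
    have h5 : (X : Subgroup G).index % 2 = 1 := by omega
    rw [h2] at h1
    have h6 : (X : Subgroup G).index % 2
        = Nat.card ↥(fixedPoints ↥(X : Subgroup G) (G ⧸ (X : Subgroup G))) % 2 := h1
    omega
  have hVz1 : V z ≠ 1 := by
    rw [hVz]
    obtain ⟨k, hk⟩ : ∃ k, (Finset.univ.filter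
      (fun q : G ⧸ (X : Subgroup G) =>
        q ∈ fixedPoints ↥(X : Subgroup G) (G ⧸ (X : Subgroup G)))).card = 2 * k + 1 :=
      ⟨_, (Nat.div_add_mod _ 2).symm.trans (by rw [hodd])⟩
    rw [hk, pow_succ, pow_mul, pow_two, hcc, one_pow, one_mul]
    exact hc1
  -- a subgroup of index two
  have h2 : IsPGroup 2 ↥χ.range := IsPGroup.of_surjective X.isPGroup' φ hφs
  have h2V : IsPGroup 2 ↥V.range := h2.to_subgroup V.range
  have hne : (⊥ : Subgroup ↥V.range) ≠ ⊤ := by
    intro h
    apply hVz1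
    have h3 : (⟨V z, ⟨z, rfl⟩⟩ : ↥V.range) ∈ (⊤ : Subgroup ↥V.range) := Subgroup.mem_top _
    rw [← h, Subgroup.mem_bot] at h3
    exact congrArg Subtype.val h3
  obtain ⟨D, -, -, hDi⟩ := gl3t_exists_normal_index_p_above h2V ⊥ hne
  refine ⟨D.comap V.rangeRestrict, ?_⟩
  rw [Subgroup.index_comap_of_surjective _ V.rangeRestrict_surjective]
  exact hDi

end Cfsg.Agent.Lib.Helper4.GL3T
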