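import Mathlib
import Cfsg.Agent.Lib.Helper4.HH4

set_option autoImplicit false
set_option linter.unusedVariables false
set_option linter.unusedSectionVars false
set_option linter.style.haveILetI false

/-! S3795 (Gross, `p = 2`), the COMM part of package PW-C, at the level of a representation on a
type: if `y` has no fixed vector and every non-zero `Q⟨y⟩`-stable subspace carries all non-trivial
`r`-th roots of unity as eigenvalues of `y`, then `End_Q(Y)` commutes with `y`. -/

namespace Cfsg.Agent.Lib.Helper4.GR2PWC2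

open Module Cfsg.Agent.Lib.Helper4.FM Cfsg.Agent.Lib.Helper4.HH

variable {K : Type*} [Field K] [IsAlgClosed K] {G : Type*} [Group G] {Y : Type*} [AddCommGroup Y]
  [Module K Y] [FiniteDimensional K Y] (ρ : Representation K G Y) (Q : Subgroup G)
  [hQn : Q.Normal]

/-- a `μ`-eigenvector `T` of conjugation by `y` on `End_Q(Y)` with `μ ≠ 1` vanishes. -/
theorem eig_eq_zero (y : G) (r : ℕ) (hrK : (r : K) ≠ 0) (hy : y ^ r = 1)
    (H4 : ∀ v : Y, ρ y v = v → v = 0)
    (hE : ∀ U : Submodule K Y, U ≠ ⊥ → (∀ m ∈ Q, U ≤ U.comap (ρ m)) → U ≤ U.comap (ρ y) →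
      ∀ μ : K, μ ^ r = 1 → μ ≠ 1 → ∃ v ∈ U, v ≠ 0 ∧ ρ y v = μ • v)
    (T : Module.End K Y) (hTQ : ∀ m ∈ Q, ρ m * T = T * ρ m) (μ : K) (hμ1 : μ ≠ 1)
    (hT : ρ y * T * ρ y⁻¹ = μ • T) : T = 0 := by
  by_contra hT0
  have hr0 : r ≠ 0 := by
    rintro rfl
    exact hrK (by simp)
  -- `ρ y * T = μ • (T * ρ y)`
  have h1 : ρ y * T = μ • (T * ρ y) := by
    calc ρ y * T = (ρ y * T * ρ y⁻¹) * ρ y := by
          rw [mul_assoc, mul_assoc, rho_inv_mul, mul_one]
      _ = μ • (T * ρ y) := by rw [hT, smul_mul_assoc]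
  have h1i : ∀ i : ℕ, ρ (y ^ i) * T = μ ^ i • (T * ρ (y ^ i)) := by
    intro i
    induction i with
    | zero => simp
    | succ i ih =>
      rw [pow_succ, map_mul, mul_assoc, h1, mul_smul_comm, ← mul_assoc, ih, smul_mul_assoc,
        smul_smul, mul_assoc, pow_succ, mul_comm (μ ^ i) μ]
  have hμr : μ ^ r = 1 := by
    have := h1i r
    rw [hy, map_one, one_mul, mul_one] at this
    by_contra hne
    apply hT0
    have h2 : (1 - μ ^ r) • T = 0 := by
      rw [sub_smul, one_smul, ← this, sub_self]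
    rcases smul_eq_zero.1 h2 with h | h
    · exact absurd (sub_eq_zero.1 h).symm hne
    · exact h
  have hμ0 : μ ≠ 0 := by
    rintro rfl
    rw [zero_pow hr0] at hμr
    exact zero_ne_one hμr
  -- the range of `T`
  set U : Submodule K Y := LinearMap.range T with hU
  have hU0 : U ≠ ⊥ := by
    intro h
    apply hT0
    exact LinearMap.range_eq_bot.1 h
  have hUQ : ∀ m ∈ Q, U ≤ U.comap (ρ m) := by
    rintro m hm _ ⟨v, rfl⟩
    rw [Submodule.mem_comap]
    refine ⟨ρ m v, ?_⟩
    have := LinearMap.congr_fun (hTQ m hm) v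
    simp only [Module.End.mul_apply] at this
    exact this.symm
  have hUy : U ≤ U.comap (ρ y) := by
    rintro _ ⟨v, rfl⟩
    rw [Submodule.mem_comap]
    refine ⟨μ • ρ y v, ?_⟩
    have := LinearMap.congr_fun h1 v
    simp only [Module.End.mul_apply, LinearMap.smul_apply] at this
    rw [map_smul]
    exact this.symm
  obtain ⟨w, hwU, hw0, hw⟩ := hE U hU0 hUQ hUy μ hμr hμ1
  obtain ⟨v, rfl⟩ := hwU
  -- the `y`-average of `v` vanishes
  set v' : Y := ∑ i ∈ Finset.range r, ρ (y ^ i) v with hv'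
  have hfix : ρ y v' = v' := by
    rw [hv', map_sum]
    have e1 : ∀ i ∈ Finset.range r, ρ y (ρ (y ^ i) v) = ρ (y ^ (i + 1)) v := by
      intro i _
      rw [pow_succ', map_mul, Module.End.mul_apply]
    rw [Finset.sum_congr rfl e1]
    have key : ∑ i ∈ Finset.range r, (ρ (y ^ (i + 1)) v - ρ (y ^ i) v) = 0 := by
      rw [Finset.sum_range_sub (fun i => ρ (y ^ i) v) r, hy, pow_zero, sub_self]
    rw [Finset.sum_sub_distrib] at key
    exact sub_eq_zero.1 key
  have hv'0 : v' = 0 := H4 v' hfix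
  have hpw : ∀ i : ℕ, ρ (y ^ i) (T v) = μ ^ i • T v := by
    intro i
    induction i with
    | zero => simp
    | succ i ih =>
      rw [pow_succ, map_mul, Module.End.mul_apply, hw, map_smul, ih, smul_smul, pow_succ,
        mul_comm]
  have hTi : ∀ i : ℕ, T (ρ (y ^ i) v) = T v := by
    intro i
    have h2 := LinearMap.congr_fun (h1i i) v
    simp only [Module.End.mul_apply, LinearMap.smul_apply] at h2
    rw [hpw i] at h2
    exact (smul_right_injective Y (pow_ne_zero i hμ0) h2).symm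
  have hTv' : T v' = (r : K) • T v := by
    rw [hv', map_sum, Finset.sum_congr rfl (fun i _ => hTi i), Finset.sum_const,
      Finset.card_range, Nat.cast_smul_eq_nsmul]
  rw [hv'0, map_zero] at hTv'
  rcases smul_eq_zero.1 hTv'.symm with h | h
  · exact hrK h
  · exact hw0 h

/-- **COMM**: every endomorphism commuting with `Q` commutes with `y`. -/
theorem comm_core (y : G) (r : ℕ) (hrK : (r : K) ≠ 0) (hy : y ^ r = 1)
    (H4 : ∀ v : Y, ρ y v = v → v = 0)
    (hE : ∀ U : Submodule K Y, U ≠ ⊥ → (∀ m ∈ Q, U ≤ U.comap (ρ m)) → U ≤ U.comap (ρ y) →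
      ∀ μ : K, μ ^ r = 1 → μ ≠ 1 → ∃ v ∈ U, v ≠ 0 ∧ ρ y v = μ • v)
    (T : Module.End K Y) (hTQ : ∀ m ∈ Q, ρ m * T = T * ρ m) : ρ y * T = T * ρ y := by
  set E : Submodule K (Module.End K Y) := inv (ad ρ) Q with hEdef
  have hEinv : ∀ g, E ≤ E.comap (ad ρ g) := inv_invariant (ad ρ) Q
  set ρ' : Representation K G E := (ad ρ).subrepresentation E hEinv with hρ'
  have hρ'val : ∀ (g : G) (S : E), ((ρ' g S : E) : Module.End K Y) = ad ρ g (S : Module.End K Y) :=
    fun g S => rfl
  have hspan := iSup_eigenspace_eq_top ρ' y r hrK hy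
  have hbot : ∀ μ : K, μ ≠ 1 → Module.End.eigenspace (ρ' y) μ = ⊥ := by
    intro μ hμ1
    rw [Submodule.eq_bot_iff]
    intro S hS
    rw [Module.End.mem_eigenspace_iff] at hS
    have h1 := congrArg Subtype.val hS
    rw [hρ'val, ad_apply] at h1
    apply Subtype.ext
    exact eig_eq_zero ρ Q y r hrK hy H4 hE (S : Module.End K Y)
      ((mem_inv_ad ρ Q _).1 S.2) μ hμ1 h1
  have htop : Module.End.eigenspace (ρ' y) 1 = ⊤ := by
    rw [eq_top_iff, ← hspan]
    apply iSup_le
    intro μ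
    by_cases hμ : μ = 1
    · rw [hμ]
    · rw [hbot μ hμ]
      exact bot_le
  have hTE : T ∈ E := (mem_inv_ad ρ Q T).2 hTQ
  have hmem : (⟨T, hTE⟩ : E) ∈ Module.End.eigenspace (ρ' y) 1 := by
    rw [htop]
    exact Submodule.mem_top
  rw [Module.End.mem_eigenspace_iff, one_smul] at hmem
  have h1 := congrArg Subtype.val hmem
  rw [hρ'val] at h1
  exact (ad_eq_iff ρ y T).1 h1

end Cfsg.Agent.Lib.Helper4.GR2PWC2
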