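import Mathlib
import Cfsg.Agent.Lib.Helper4.FamilyFusion

set_option autoImplicit false
open Pointwise

/-! Chains of conjugations with steps in an arbitrary set (closed under inverses). -/

namespace Cfsg.Agent.Lib.Helper4

open Cfsg Cfsg.Agent.Lib.Helper7

variable {G : Type*} [Group G]

/-- `GChain St T A c`: `c` is a product of elements of `St`, all partial products conjugating `A` into `T` -/
inductive GChain (St : Set G) (T : Subgroup G) : Set G → G → Prop
  | nil (A : Set G) : A ⊆ T → GChain St T A 1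
  | step (A : Set G) (c y : G) : GChain St T A c → y ∈ St → lc (y * c) A ⊆ T → GChain St T A (y * c)

variable {St : Set G} {T : Subgroup G}

theorem GChain.subset {A : Set G} {c : G} (h : GChain St T A c) : A ⊆ T := by
  induction h with
  | nil hA => exact hA
  | step c y _ _ _ ih => exact ih

theorem GChain.lc_subset {A : Set G} {c : G} (h : GChain St T A c) : lc c A ⊆ T := by
  cases h with
  | nil hA => rw [lc_one]; exact hA
  | step c y _ _ h3 => exact h3

theorem GChain.mono {A B : Set G} {c : G} (h : GChain St T A c) (hBA : B ⊆ A) : GChain St T B c := by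
  induction h with
  | nil hA => exact GChain.nil B (hBA.trans hA)
  | step c y _ h2 h3 ih => exact GChain.step B c y ih h2 ((lc_mono _ hBA).trans h3)

theorem GChain.mono_steps {St' : Set G} {T' : Subgroup G} {A : Set G} {c : G} (h : GChain St T A c)
    (hSt : St ⊆ St') (hT : T ≤ T') : GChain St' T' A c := by
  induction h with
  | nil hA => exact GChain.nil A (hA.trans (by exact_mod_cast hT))
  | step c y _ h2 h3 ih => exact GChain.step A c y ih (hSt h2) (h3.trans (by exact_mod_cast hT))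

theorem GChain.trans {A : Set G} {c₁ c₂ : G} (h1 : GChain St T A c₁) (h2 : GChain St T (lc c₁ A) c₂) :
    GChain St T A (c₂ * c₁) := by
  induction h2 with
  | nil hB' => rw [one_mul]; exact h1
  | step c y _ h3 h4 ih =>
    rw [mul_assoc]
    apply GChain.step A (c * c₁) y ih h3
    rw [← mul_assoc, lc_mul]; exact h4

theorem GChain.single {A : Set G} {y : G} (hA : A ⊆ T) (hy : y ∈ St) (hyA : lc y A ⊆ T) :
    GChain St T A y := by
  have := GChain.step A 1 y (GChain.nil A hA) hy (by rw [mul_one]; exact hyA)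
  rwa [mul_one] at this

theorem GChain.symm (hinv : ∀ y ∈ St, y⁻¹ ∈ St) {A : Set G} {c : G} (h : GChain St T A c) :
    GChain St T (lc c A) c⁻¹ := by
  induction h with
  | nil hA => rw [inv_one, lc_one]; exact GChain.nil A hA
  | step c y h1 h2 h3 ih =>
    rw [mul_inv_rev]
    apply GChain.trans (c₁ := y⁻¹) (c₂ := c⁻¹)
    · apply GChain.single h3 (hinv y h2)
      rw [lc_mul, lc_inv_lc]; exact h1.lc_subset
    · rw [lc_mul, lc_inv_lc]; exact ih

/-- conjugating a chain by an arbitrary element -/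
theorem GChain.conj {A : Set G} {c : G} (h : GChain St T A c) (y : G) :
    GChain (lc y St) (cj y T) (lc y A) (y * c * y⁻¹) := by
  induction h with
  | nil hA =>
    have : y * 1 * y⁻¹ = 1 := by group
    rw [this]
    apply GChain.nil
    rw [← lc_subgroup]; exact lc_mono y hA
  | step c z _ h2 h3 ih =>
    have e : y * (z * c) * y⁻¹ = (y * z * y⁻¹) * (y * c * y⁻¹) := by group
    rw [e]
    apply GChain.step _ _ _ ih (mem_lc_of_mem h2)
    rw [← e, ← lc_mul]
    have e2 : y * (z * c) * y⁻¹ * y = y * (z * c) := by group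
    rw [e2, lc_mul, ← lc_subgroup]
    exact lc_mono y h3

/-- `GReach St T A h`: conjugation by `h` on `A` is induced by a chain -/
def GReach (St : Set G) (T : Subgroup G) (A : Set G) (h : G) : Prop :=
  ∃ c : G, GChain St T A c ∧ ∀ a ∈ A, c * a * c⁻¹ = h * a * h⁻¹

theorem GReach.mono {A B : Set G} {h : G} (hr : GReach St T A h) (hBA : B ⊆ A) : GReach St T B h := by
  obtain ⟨c, hc, hceq⟩ := hr
  exact ⟨c, hc.mono hBA, fun a ha => hceq a (hBA ha)⟩

theorem GReach.mono_steps {St' : Set G} {T' : Subgroup G} {A : Set G} {h : G} (hr : GReach St T A h)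
    (hSt : St ⊆ St') (hT : T ≤ T') : GReach St' T' A h := by
  obtain ⟨c, hc, hceq⟩ := hr
  exact ⟨c, hc.mono_steps hSt hT, hceq⟩

theorem GReach.subset {A : Set G} {h : G} (hr : GReach St T A h) : A ⊆ T := by
  obtain ⟨c, hc, _⟩ := hr
  exact hc.subset

theorem GReach.lc_subset {A : Set G} {h : G} (hr : GReach St T A h) : lc h A ⊆ T := by
  obtain ⟨c, hc, hceq⟩ := hr
  rw [← lc_congr hceq]
  exact hc.lc_subset

theorem GReach.trans {A : Set G} {h₁ h₂ : G} (hr1 : GReach St T A h₁) (hr2 : GReach St T (lc h₁ A) h₂) :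
    GReach St T A (h₂ * h₁) := by
  obtain ⟨c₁, hc₁, hc₁eq⟩ := hr1
  obtain ⟨c₂, hc₂, hc₂eq⟩ := hr2
  have hlc : lc c₁ A = lc h₁ A := lc_congr hc₁eq
  refine ⟨c₂ * c₁, GChain.trans hc₁ (by rw [hlc]; exact hc₂), ?_⟩
  intro a ha
  have h1 := hc₁eq a ha
  have h2 := hc₂eq (h₁ * a * h₁⁻¹) (mem_lc_of_mem ha)
  calc c₂ * c₁ * a * (c₂ * c₁)⁻¹ = c₂ * (c₁ * a * c₁⁻¹) * c₂⁻¹ := by group
    _ = c₂ * (h₁ * a * h₁⁻¹) * c₂⁻¹ := by rw [h1]
    _ = h₂ * (h₁ * a * h₁⁻¹) * h₂⁻¹ := h2
    _ = h₂ * h₁ * a * (h₂ * h₁)⁻¹ := by group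

theorem GReach.symm (hinv : ∀ y ∈ St, y⁻¹ ∈ St) {A : Set G} {h : G} (hr : GReach St T A h) :
    GReach St T (lc h A) h⁻¹ := by
  obtain ⟨c, hc, hceq⟩ := hr
  have hlc : lc c A = lc h A := lc_congr hceq
  refine ⟨c⁻¹, by rw [← hlc]; exact hc.symm hinv, ?_⟩
  rintro _ ⟨a, ha, rfl⟩
  have h1 := hceq a ha
  calc c⁻¹ * (h * a * h⁻¹) * c⁻¹⁻¹ = c⁻¹ * (c * a * c⁻¹) * c⁻¹⁻¹ := by rw [h1]
    _ = a := by group
    _ = h⁻¹ * (h * a * h⁻¹) * h⁻¹⁻¹ := by group

theorem GReach.single {A : Set G} {y : G} (hA : A ⊆ T) (hy : y ∈ St) (hyA : lc y A ⊆ T) :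
    GReach St T A y := ⟨y, GChain.single hA hy hyA, fun _ _ => rfl⟩

theorem GReach.congr {A : Set G} {h h' : G} (hr : GReach St T A h)
    (hh : ∀ a ∈ A, h * a * h⁻¹ = h' * a * h'⁻¹) : GReach St T A h' := by
  obtain ⟨c, hc, hceq⟩ := hr
  exact ⟨c, hc, fun a ha => (hceq a ha).trans (hh a ha)⟩

theorem GReach.of_subset_one {A : Set G} (hA : A ⊆ ({1} : Set G)) (h : G) : GReach St T A h := by
  refine ⟨1, GChain.nil A ?_, ?_⟩
  · intro a ha
    rw [Set.mem_singleton_iff.mp (hA ha)]; exact T.one_mem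
  · intro a ha
    rw [Set.mem_singleton_iff.mp (hA ha)]; simp

theorem GReach.refl {A : Set G} (hA : A ⊆ T) : GReach St T A 1 :=
  ⟨1, GChain.nil A hA, fun _ _ => rfl⟩

/-- conjugating a reach statement by an arbitrary element -/
theorem GReach.conj {A : Set G} {h : G} (hr : GReach St T A h) (y : G) :
    GReach (lc y St) (cj y T) (lc y A) (y * h * y⁻¹) := by
  obtain ⟨c, hc, hceq⟩ := hr
  refine ⟨y * c * y⁻¹, hc.conj y, ?_⟩
  rintro _ ⟨a, ha, rfl⟩
  have h1 := hceq a ha
  calc y * c * y⁻¹ * (y * a * y⁻¹) * (y * c * y⁻¹)⁻¹ = y * (c * a * c⁻¹) * y⁻¹ := by group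
    _ = y * (h * a * h⁻¹) * y⁻¹ := by rw [h1]
    _ = y * h * y⁻¹ * (y * a * y⁻¹) * (y * h * y⁻¹)⁻¹ := by group

/-- replacing the steps of a chain by reach statements for a larger system -/
theorem greach_of_gchain {St' : Set G} {S R : Subgroup G} (hRS : R ≤ S)
    (hb : ∀ y ∈ St, ∀ B : Set G, B ⊆ R → lc y B ⊆ R → GReach St' S B y) {B : Set G} {c : G}
    (hch : GChain St R B c) : GReach St' S B c := by
  induction hch with
  | nil hB => exact GReach.refl (hB.trans (by exact_mod_cast hRS))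
  | step c y h1 h2 h3 ih =>
    have hstep := hb y h2 (lc c B) h1.lc_subset (by rw [← lc_mul]; exact h3)
    exact GReach.trans ih hstep

theorem greach_of_greach {St' : Set G} {S R : Subgroup G} (hRS : R ≤ S)
    (hb : ∀ y ∈ St, ∀ B : Set G, B ⊆ R → lc y B ⊆ R → GReach St' S B y) {B : Set G} {h : G}
    (hr : GReach St R B h) : GReach St' S B h := by
  obtain ⟨c, hc, hceq⟩ := hr
  exact (greach_of_gchain hRS hb hc).congr hceq

end Cfsg.Agent.Lib.Helper4
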