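import Mathlib
import Cfsg.Agent.Lib.Helper4.HH15

set_option autoImplicit false

/-! The extraspecial configuration: `C_Q(x) = Z(Q)` of prime order. -/

namespace Cfsg.Agent.Lib.Helper4.HH

open Module Cfsg.Agent.Lib.Helper4.FM

open scoped commutatorElement

universe u

section closed

variable {K : Type*} [Field K] [IsAlgClosed K] {G : Type u} [Group G] [Finite G] {W : Type*}
  [AddCommGroup W] [Module K W] [FiniteDimensional K W]

theorem hh_extra_closed (σ : Representation K G W) (hσ : ∀ m : G, σ m = 1 → m = 1)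
    (Q : Subgroup G) [hQn : Q.Normal] (x : G) (q r : ℕ) (hq : q.Prime) (hr : r.Prime)
    (hqr : q ≠ r) (hQ : IsPGroup q Q) (hx : x ^ r = 1) (hx1 : x ≠ 1)
    (hgen : ∀ S : Subgroup G, Q ≤ S → x ∈ S → S = ⊤)
    (hqK : (q : K) ≠ 0) (hrK : (r : K) ≠ 0)
    (Z : Subgroup G) (z1 : Z ≤ Q) (z2 : ∀ z ∈ Z, x * z = z * x)
    (z3 : ∀ z ∈ Z, ∀ m ∈ Q, z * m = m * z) (z4 : ∀ u ∈ Q, ∀ v ∈ Q, ⁅u, v⁆ ∈ Z)
    (z5 : Nat.card Z = q) (z6 : ∀ m ∈ Q, m ^ q ∈ Z)
    (z7 : ∀ v ∈ Q, (∀ u ∈ Q, u * v = v * u) → v ∈ Z)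
    (z8 : ∀ m ∈ Q, x * m = m * x → m ∈ Z) (z9 : Z ≠ Q)
    (H4σ : inv σ (Subgroup.zpowers x) = ⊥) :
    q = 2 ∧ ∃ j : ℕ, r = 2 ^ j + 1 ∧ (Z.subgroupOf Q).index = 2 ^ (2 * j) := by
  classical
  haveI : Fact q.Prime := ⟨hq⟩
  have hcen : ∀ z ∈ Z, ∀ g : G, g * z = z * g := by
    intro z hz g
    have htop : Subgroup.centralizer {z} = ⊤ := by
      apply hgen
      · intro m hm
        rw [Subgroup.mem_centralizer_singleton_iff]
        exact (z3 z hz m hm).symm
      · rw [Subgroup.mem_centralizer_singleton_iff]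
        exact z2 z hz
    have hg : g ∈ Subgroup.centralizer {z} := by
      rw [htop]
      exact Subgroup.mem_top g
    exact (Subgroup.mem_centralizer_singleton_iff).1 hg
  obtain ⟨n, hn⟩ := IsPGroup.iff_card.1 hQ
  have hQK : (Nat.card Q : K) ≠ 0 := by
    rw [hn, Nat.cast_pow]
    exact pow_ne_zero n hqK
  have hZK : (Nat.card Z : K) ≠ 0 := cast_card_ne_zero_of_le z1 hQK
  have hcommZ : ∀ a b : Z, Commute (σ (a : G)) (σ (b : G)) := by
    intro a b
    show σ (a : G) * σ (b : G) = σ (b : G) * σ (a : G)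
    rw [← map_mul, ← map_mul, hcen b b.2 a]
  have hspan := iSup_wt_eq_top σ Z hcommZ hZK
  have hYinv : ∀ (χ : Z → K) (g : G), wt σ Z χ ≤ (wt σ Z χ).comap (σ g) :=
    fun χ g => wt_central_stable _ Z hcen χ g
  -- a nontrivial element of `Z`
  have hZbot : Z ≠ ⊥ := by
    intro h
    rw [h, Subgroup.card_bot] at z5
    exact hq.one_lt.ne z5
  obtain ⟨z₀, hz₀⟩ := (Subgroup.ne_bot_iff_exists_ne_one).1 hZbot
  have hz₀G : (z₀ : G) ≠ 1 := fun h => hz₀ (Subtype.ext h)
  -- a weight that is nontrivial on `z₀`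
  have hexχ : ∃ χ : Z → K, wt σ Z χ ≠ ⊥ ∧ χ z₀ ≠ 1 := by
    by_contra hcon
    push Not at hcon
    apply hz₀G
    apply hσ
    apply LinearMap.ext
    intro w
    have hw : w ∈ ⨆ χ : Z → K, wt σ Z χ := by
      rw [hspan]
      exact Submodule.mem_top
    induction hw using Submodule.iSup_induction' with
    | mem χ y hy =>
      by_cases hb : wt σ Z χ = ⊥
      · rw [hb, Submodule.mem_bot] at hy
        rw [hy, map_zero, map_zero]
      · rw [(mem_wt σ Z χ y).1 hy z₀, hcon χ hb, one_smul, Module.End.one_apply]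
    | zero => simp
    | add a b _ _ ha hb =>
      rw [map_add, map_add, ha, hb]
  obtain ⟨χ, hY, hχz₀⟩ := hexχ
  haveI : Nontrivial ↥(wt σ Z χ) := (Submodule.nontrivial_iff_ne_bot).2 hY
  -- the kernel of the action of `Z` on the weight space is trivial
  have hker : ∀ z ∈ Z, σ.subrepresentation _ (hYinv χ) z = 1 → z = 1 := by
    intro z hz hτ
    let Kz : Subgroup G := Z ⊓ MonoidHom.ker (σ.subrepresentation _ (hYinv χ))
    have hKzZ : Kz ≤ Z := inf_le_left
    have hdvd : Nat.card Kz ∣ q := by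
      rw [← z5]
      exact Subgroup.card_dvd_of_le hKzZ
    rcases (Nat.dvd_prime hq).1 hdvd with h1 | hq'
    · have hzK : z ∈ Kz := ⟨hz, MonoidHom.mem_ker.2 hτ⟩
      have := Subgroup.eq_bot_of_card_eq _ h1
      rw [this] at hzK
      exact Subgroup.mem_bot.1 hzK
    · exfalso
      have hKz : Kz = Z := Subgroup.eq_of_le_of_card_ge hKzZ (by rw [hq', z5])
      have hz₀K : (z₀ : G) ∈ Kz := by
        rw [hKz]
        exact z₀.2
      have h2 : σ.subrepresentation _ (hYinv χ) (z₀ : G) = 1 := MonoidHom.mem_ker.1 hz₀K.2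
      rw [sub_scalar σ Z χ (hYinv χ) _ z₀.2] at h2
      obtain ⟨y, hy⟩ := exists_ne (0 : ↥(wt σ Z χ))
      have h3 := LinearMap.congr_fun h2 y
      rw [LinearMap.smul_apply, Module.End.one_apply] at h3
      have h4 : (χ z₀ - 1) • y = 0 := by rw [sub_smul, one_smul, h3, sub_self]
      rcases smul_eq_zero.1 h4 with h | h
      · exact hχz₀ (sub_eq_zero.1 h)
      · exact hy h
  have hTZ : zker (σ.subrepresentation _ (hYinv χ)) Q ≤ Z := by
    intro v hv
    apply z7 v hv.1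
    intro u hu
    have hc : Commute (σ.subrepresentation _ (hYinv χ) v) (σ.subrepresentation _ (hYinv χ) u) :=
      hv.2 u hu
    have h1 : σ.subrepresentation _ (hYinv χ) ⁅u, v⁆ = 1 := by
      have e : u * v * u⁻¹ * v⁻¹ = (u * v) * (v * u)⁻¹ := by group
      rw [commutatorElement_def, e, map_mul, map_mul _ u v, ← hc.eq, ← map_mul _ v u, ← map_mul,
        mul_inv_cancel, map_one]
    have h2 := hker _ (z4 u hu v hv.1) h1
    rw [commutatorElement_def] at h2
    calc u * v = (u * v * u⁻¹ * v⁻¹) * (v * u) := by group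
      _ = v * u := by rw [h2, one_mul]
  have hXQ : Subgroup.zpowers x ≤ Subgroup.normalizer (Q : Set G) := min_normalizes Q x
  have hcop := min_coprime Q x q r hq hr hqr hQ hx hx1
  have hsolv := min_solvable Q q hq hQ
  have Hgen := gen_of_coprime Q x hXQ hcop hsolv Z (by
    intro m hm
    exact z8 m hm.1 ((mem_centralizer_zpowers_iff m x).1 hm.2))
  have hb := wt_bound σ Q hQK Z z1 z4 x r hr hx hrK Hgen H4σ χ (hYinv χ) hY hTZ
  obtain ⟨j, hj⟩ := wt_sq σ Q Z hcen z4 q hq z6 χ (hYinv χ) hY hTZ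
  have hZC : Q ⊓ Subgroup.centralizer ((Subgroup.zpowers x : Subgroup G) : Set G) = Z := by
    apply le_antisymm
    · intro m hm
      exact z8 m hm.1 ((mem_centralizer_zpowers_iff m x).1 hm.2)
    · intro m hm
      exact Subgroup.mem_inf.2 ⟨z1 hm, (mem_centralizer_zpowers_iff m x).2 (z2 m hm)⟩
  have hcardQ : Nat.card Z * (Z.subgroupOf Q).index = Nat.card Q := by
    rw [← card_subgroupOf_of_le z1]
    exact Subgroup.card_mul_index _
  have hmod : (Z.subgroupOf Q).index ≡ 1 [MOD r] := by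
    have h1 := card_modEq_fixed Q x r hr hx (fun f _ m hm => hQn.conj_mem m hm f)
    rw [hZC, ← hcardQ] at h1
    have hcop' : Nat.gcd r (Nat.card Z) = 1 := by
      rw [z5]
      exact (Nat.coprime_primes hr hq).2 hqr.symm
    apply Nat.ModEq.cancel_left_of_coprime hcop'
    rw [mul_one]
    exact h1
  have hM1 : (Z.subgroupOf Q).index ≠ 1 := by
    intro h
    rw [Subgroup.index_eq_one, Subgroup.subgroupOf_eq_top] at h
    exact z9 (le_antisymm z1 h)
  obtain ⟨hq2, hrj⟩ := fermat_arith q r j _ hq hr hj hb hM1 hmod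
  refine ⟨hq2, j, hrj, ?_⟩
  rw [hj, hq2]

end closed

end Cfsg.Agent.Lib.Helper4.HH
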