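import Mathlib
import Cfsg.Agent.Lib.Helper4.HH16

set_option autoImplicit false

/-! The extraspecial configuration over an arbitrary field and for actions on elementary abelian
groups. -/

namespace Cfsg.Agent.Lib.Helper4.HH

open Module Cfsg.Agent.Lib.Helper4.FM Cfsg.Agent.Lib.Lead

open scoped commutatorElement

universe u v

section field

variable {k : Type*} [Field k] {G : Type u} [Group G] [Finite G] {V : Type*} [AddCommGroup V]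
  [Module k V] [FiniteDimensional k V]

theorem hh_extra (ρ : Representation k G V) (hρ : Function.Injective ρ)
    (Q : Subgroup G) [hQn : Q.Normal] (x : G) (q r : ℕ) (hq : q.Prime) (hr : r.Prime)
    (hqr : q ≠ r) (hQ : IsPGroup q Q) (hx : x ^ r = 1) (hx1 : x ≠ 1)
    (hgen : ∀ S : Subgroup G, Q ≤ S → x ∈ S → S = ⊤)
    (hqk : (q : k) ≠ 0) (hrk : (r : k) ≠ 0)
    (Z : Subgroup G) (z1 : Z ≤ Q) (z2 : ∀ z ∈ Z, x * z = z * x)
    (z3 : ∀ z ∈ Z, ∀ m ∈ Q, z * m = m * z) (z4 : ∀ u ∈ Q, ∀ v ∈ Q, ⁅u, v⁆ ∈ Z)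
    (z5 : Nat.card Z = q) (z6 : ∀ m ∈ Q, m ^ q ∈ Z)
    (z7 : ∀ v ∈ Q, (∀ u ∈ Q, u * v = v * u) → v ∈ Z)
    (z8 : ∀ m ∈ Q, x * m = m * x → m ∈ Z) (z9 : Z ≠ Q)
    (H4 : inv ρ (Subgroup.zpowers x) = ⊥) :
    q = 2 ∧ ∃ j : ℕ, r = 2 ^ j + 1 ∧ (Z.subgroupOf Q).index = 2 ^ (2 * j) := by
  have hqK : ((q : ℕ) : AlgebraicClosure k) ≠ 0 := cast_card_ne_zero_bc (AlgebraicClosure k) q hqk
  have hrK : ((r : ℕ) : AlgebraicClosure k) ≠ 0 := cast_card_ne_zero_bc (AlgebraicClosure k) r hrk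
  have hXk : (Nat.card (Subgroup.zpowers x) : k) ≠ 0 := by
    rw [card_zpowers_of_prime x r hr hx hx1]
    exact hrk
  have H4σ : inv (bc (AlgebraicClosure k) ρ) (Subgroup.zpowers x) = ⊥ := by
    rw [inv_bc (AlgebraicClosure k) ρ _ hXk, H4, Submodule.baseChange_bot]
  have hσ : ∀ m : G, bc (AlgebraicClosure k) ρ m = 1 → m = 1 := by
    intro m hm
    have h1 : ρ m = 1 := by
      have h2 : (ρ m).baseChange (AlgebraicClosure k) =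
          (1 : V →ₗ[k] V).baseChange (AlgebraicClosure k) :=
        hm.trans (LinearMap.baseChange_one k V).symm
      exact LinearMap.baseChangeHom_injective k V (AlgebraicClosure k) h2
    exact hρ (by rw [h1, map_one])
  exact hh_extra_closed (bc (AlgebraicClosure k) ρ) hσ Q x q r hq hr hqr hQ hx hx1 hgen hqK hrK
    Z z1 z2 z3 z4 z5 z6 z7 z8 z9 H4σ

end field

section actaux

variable {A : Type u} [Group A] [Finite A] {V : Type v} [CommGroup V] [Finite V]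
  [MulDistribMulAction A V] (ℓ : ℕ) [hℓ : Fact ℓ.Prime] [Module (ZMod ℓ) (Additive V)]

theorem hh_extra_act_aux (hfaith : ∀ a : A, (∀ v : V, a • v = v) → a = 1)
    (Q : Subgroup A) [hQn : Q.Normal] (x : A) (q r : ℕ) (hq : q.Prime) (hr : r.Prime)
    (hqr : q ≠ r) (hqℓ : q ≠ ℓ) (hrℓ : r ≠ ℓ) (hQ : IsPGroup q Q) (hx : x ^ r = 1) (hx1 : x ≠ 1)
    (hgen : ∀ S : Subgroup A, Q ≤ S → x ∈ S → S = ⊤)
    (Z : Subgroup A) (z1 : Z ≤ Q) (z2 : ∀ z ∈ Z, x * z = z * x)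
    (z3 : ∀ z ∈ Z, ∀ m ∈ Q, z * m = m * z) (z4 : ∀ u ∈ Q, ∀ v ∈ Q, ⁅u, v⁆ ∈ Z)
    (z5 : Nat.card Z = q) (z6 : ∀ m ∈ Q, m ^ q ∈ Z)
    (z7 : ∀ v ∈ Q, (∀ u ∈ Q, u * v = v * u) → v ∈ Z)
    (z8 : ∀ m ∈ Q, x * m = m * x → m ∈ Z) (z9 : Z ≠ Q)
    (H4 : ∀ v : V, x • v = v → v = 1) :
    q = 2 ∧ ∃ j : ℕ, r = 2 ^ j + 1 ∧ (Z.subgroupOf Q).index = 2 ^ (2 * j) := by
  have hqd : ¬ ℓ ∣ q := fun h => hqℓ ((Nat.prime_dvd_prime_iff_eq hℓ.out hq).1 h).symm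
  have hrd : ¬ ℓ ∣ r := fun h => hrℓ ((Nat.prime_dvd_prime_iff_eq hℓ.out hr).1 h).symm
  have hρ : Function.Injective (ExtAct.addRep (A := A) (V := V) ℓ) := by
    rw [injective_iff_map_eq_one]
    intro a ha
    apply hfaith
    intro v
    have h1 := LinearMap.congr_fun ha (Additive.ofMul v)
    rw [ExtAct.addRep_apply, Module.End.one_apply] at h1
    exact congrArg Additive.toMul h1
  apply hh_extra (ExtAct.addRep (A := A) (V := V) ℓ) hρ Q x q r hq hr hqr hQ hx hx1 hgen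
    (cast_ne_zero_of_not_dvd ℓ q hqd) (cast_ne_zero_of_not_dvd ℓ r hrd)
    Z z1 z2 z3 z4 z5 z6 z7 z8 z9
  rw [Submodule.eq_bot_iff]
  intro v hv
  have h1 := hv x (Subgroup.mem_zpowers x)
  rw [ExtAct.addRep_apply] at h1
  have h2 := H4 (Additive.toMul v) (congrArg Additive.toMul h1)
  exact congrArg Additive.ofMul h2

end actaux

section act

variable {A : Type u} [Group A] [Finite A] {V : Type v} [Group V] [Finite V]
  [MulDistribMulAction A V] (ℓ : ℕ) [hℓ : Fact ℓ.Prime]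

theorem hh_extra_act (hcomm : ∀ a b : V, a * b = b * a) (hexp : ∀ a : V, a ^ ℓ = 1)
    (hfaith : ∀ a : A, (∀ v : V, a • v = v) → a = 1)
    (Q : Subgroup A) [hQn : Q.Normal] (x : A) (q r : ℕ) (hq : q.Prime) (hr : r.Prime)
    (hqr : q ≠ r) (hqℓ : q ≠ ℓ) (hrℓ : r ≠ ℓ) (hQ : IsPGroup q Q) (hx : x ^ r = 1) (hx1 : x ≠ 1)
    (hgen : ∀ S : Subgroup A, Q ≤ S → x ∈ S → S = ⊤)
    (Z : Subgroup A) (z1 : Z ≤ Q) (z2 : ∀ z ∈ Z, x * z = z * x)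
    (z3 : ∀ z ∈ Z, ∀ m ∈ Q, z * m = m * z) (z4 : ∀ u ∈ Q, ∀ v ∈ Q, ⁅u, v⁆ ∈ Z)
    (z5 : Nat.card Z = q) (z6 : ∀ m ∈ Q, m ^ q ∈ Z)
    (z7 : ∀ v ∈ Q, (∀ u ∈ Q, u * v = v * u) → v ∈ Z)
    (z8 : ∀ m ∈ Q, x * m = m * x → m ∈ Z) (z9 : Z ≠ Q)
    (H4 : ∀ v : V, x • v = v → v = 1) :
    q = 2 ∧ ∃ j : ℕ, r = 2 ^ j + 1 ∧ (Z.subgroupOf Q).index = 2 ^ (2 * j) := by
  let iC : CommGroup V := { (inferInstance : Group V) with mul_comm := hcomm }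
  let iM : Module (ZMod ℓ) (Additive V) := @AddCommGroup.zmodModule ℓ (Additive V) _ (by
    intro x
    show Additive.ofMul (Additive.toMul x ^ ℓ) = 0
    rw [hexp]; rfl)
  exact @hh_extra_act_aux A _ _ V iC _ _ ℓ hℓ iM hfaith Q hQn x q r hq hr hqr hqℓ hrℓ hQ hx hx1
    hgen Z z1 z2 z3 z4 z5 z6 z7 z8 z9 H4

end act

end Cfsg.Agent.Lib.Helper4.HH
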