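import Mathlib
import Cfsg.Prelude.Def_Transfer
import Cfsg.Agent.Lib.Helper4.HH17
import Cfsg.Agent.Lib.Lead.Frattini

set_option autoImplicit false

/-! The statement on a prime order action on an extraspecial group with fixed point free module. -/

namespace Cfsg.Agent.Lib.Helper4.HH

open scoped commutatorElement

theorem extraspecial_main {G : Type*} [Group G] [Finite G] {p q r : ℕ} (hp : p.Prime) (hq : q.Prime) (hr : r.Prime) (hpq : p ≠ q) (hpr : p ≠ r) (hqr : q ≠ r) (X Q V : Subgroup G) (hX : Nat.card X = r) (hQ : Cfsg.IsExtraspecial q ↥Q) (hXQ : X ≤ Subgroup.normalizer (Q : Set G)) (hCQ : Q ⊓ Subgroup.centralizer (X : Set G) = (Subgroup.center ↥Q).map Q.subtype) (hV : Cfsg.IsElementaryAbelian p V) (hXV : X ≤ Subgroup.normalizer (V : Set G)) (hQV : Q ≤ Subgroup.normalizer (V : Set G)) (hfaith : (X ⊔ Q) ⊓ Subgroup.centralizer (V : Set G) = ⊥) (hCV : V ⊓ Subgroup.centralizer (X : Set G) = ⊥) : q = 2 ∧ ∃ n : ℕ, r = 2 ^ n + 1 ∧ Nat.card Q = 2 ^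 (2 * n + 1) := by
  classical
  haveI : Fact q.Prime := ⟨hq⟩
  haveI : Fact p.Prime := ⟨hp⟩
  obtain ⟨x, hxX, hx1, hxr, hzx⟩ := Cfsg.Agent.Lib.Helper4.HH.exists_gen_of_prime_card X r hr hX
  obtain ⟨⟨hQp, hfrat, hcommQ⟩, hcardZ⟩ := hQ
  obtain ⟨Zc, hZc⟩ : ∃ Zc : Subgroup G, Zc = (Subgroup.center ↥Q).map Q.subtype := ⟨_, rfl⟩
  rw [← hZc] at hCQ
  have hZcQ : Zc ≤ Q := by
    rw [hZc]
    exact Subgroup.map_subtype_le _
  have hZc_comm : ∀ z ∈ Zc, ∀ m ∈ Q, z * m = m * z := by
    rw [hZc]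
    rintro _ ⟨c, hc, rfl⟩ m hm
    have h1 := Subgroup.mem_center_iff.1 hc ⟨m, hm⟩
    exact (congrArg Subtype.val h1).symm
  have hZc_of_comm : ∀ v ∈ Q, (∀ u ∈ Q, u * v = v * u) → v ∈ Zc := by
    intro v hv h
    rw [hZc]
    refine ⟨⟨v, hv⟩, ?_, rfl⟩
    apply Subgroup.mem_center_iff.2
    intro u
    exact Subtype.ext (h u u.2)
  have hZc_x : ∀ z ∈ Zc, x * z = z * x := by
    intro z hz
    rw [← hCQ] at hz
    have h1 := Subgroup.mem_centralizer_iff.1 hz.2 x hxX
    exact h1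
  have hZc_of_x : ∀ m ∈ Q, x * m = m * x → m ∈ Zc := by
    intro m hm hxm
    rw [← hCQ]
    refine Subgroup.mem_inf.2 ⟨hm, ?_⟩
    rw [← hzx, Cfsg.Agent.Lib.Helper4.HH.mem_centralizer_zpowers_iff]
    exact hxm
  have hZc_der : ∀ u ∈ Q, ∀ v ∈ Q, ⁅u, v⁆ ∈ Zc := by
    intro u hu v hv
    have h1 : ⁅(⟨u, hu⟩ : Q), (⟨v, hv⟩ : Q)⁆ ∈ commutator ↥Q := by
      rw [commutator_def]
      exact Subgroup.commutator_mem_commutator (Subgroup.mem_top _) (Subgroup.mem_top _)
    rw [hcommQ] at h1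
    rw [hZc]
    exact ⟨_, h1, rfl⟩
  have hZc_pow : ∀ m ∈ Q, m ^ q ∈ Zc := by
    intro m hm
    have h1 := Cfsg.Agent.Lib.Lead.pow_mem_frattini_of_isPGroup hQp (⟨m, hm⟩ : Q)
    rw [hfrat] at h1
    rw [hZc]
    exact ⟨_, h1, rfl⟩
  have hZc_card : Nat.card Zc = q := by
    rw [hZc, Subgroup.card_map_of_injective (Subgroup.subtype_injective Q), hcardZ]
  have hZc_ne : Zc ≠ Q := by
    intro h
    have hab : ∀ u ∈ Q, ∀ v ∈ Q, ⁅u, v⁆ = 1 := by
      intro u hu v hv
      have hv' : v ∈ Zc := by rw [h]; exact hv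
      rw [commutatorElement_def, ← hZc_comm v hv' u hu]
      group
    have hbot : commutator ↥Q = ⊥ := by
      rw [commutator_def, Subgroup.commutator_eq_bot_iff_le_centralizer]
      intro a _
      rw [Subgroup.mem_centralizer_iff]
      intro b _
      have h1 := hab a a.2 b b.2
      rw [commutatorElement_def] at h1
      apply Subtype.ext
      show (b : G) * (a : G) = (a : G) * (b : G)
      calc (b : G) * (a : G) = ((a : G) * (b : G) * (a : G)⁻¹ * (b : G)⁻¹)⁻¹ * ((a : G) * b) := by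
            group
        _ = (a : G) * b := by rw [h1, inv_one, one_mul]
    rw [hcommQ] at hbot
    rw [hbot, Subgroup.card_bot] at hcardZ
    exact hq.one_lt.ne hcardZ
  -- the group generated by `Q` and `x`
  set L : Subgroup G := Q ⊔ Subgroup.zpowers x with hL
  have hxL : x ∈ L := Subgroup.mem_sup_right (Subgroup.mem_zpowers x)
  have hQL : Q ≤ L := le_sup_left
  have hXL : X ⊔ Q = L := by rw [hL, hzx, sup_comm]
  have hLN : L ≤ Subgroup.normalizer (V : Set G) := by
    rw [← hXL]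
    exact sup_le hXV hQV
  have hLV : ∀ g ∈ L, ∀ v ∈ V, g * v * g⁻¹ ∈ V :=
    fun g hg v hv => (Subgroup.mem_normalizer_iff.1 (hLN hg) v).1 hv
  letI := Cfsg.Agent.Lib.Helper4.FM.conjAct L V hLV
  have hsmul : ∀ (g : L) (v : V), ((g • v : V) : G) = (g : G) * (v : G) * (g : G)⁻¹ :=
    fun g v => rfl
  have hzn : ∀ e ∈ Subgroup.zpowers x, ∀ m ∈ Q, e * m * e⁻¹ ∈ Q := by
    intro e he m hm
    rw [hzx] at he
    exact (Subgroup.mem_normalizer_iff.1 (hXQ he) m).1 hm
  haveI hQn : (Q.subgroupOf L).Normal :=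
    Cfsg.Agent.Lib.Helper4.FM.normal_subgroupOf_sup Q (Subgroup.zpowers x) hzn
  have hcomm : ∀ a b : ↥V, a * b = b * a := by
    haveI := hV.1
    intro a b
    exact mul_comm' a b
  have hexp : ∀ a : ↥V, a ^ p = 1 := by
    intro a
    apply Subtype.ext
    rw [Subgroup.coe_pow]
    exact hV.2 _ a.2
  have hres := Cfsg.Agent.Lib.Helper4.HH.hh_extra_act (A := ↥L) (V := ↥V) p hcomm hexp
    (by
      intro a ha
      have haC : (a : G) ∈ (X ⊔ Q) ⊓ Subgroup.centralizer (V : Set G) := by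
        refine Subgroup.mem_inf.2 ⟨by rw [hXL]; exact a.2, ?_⟩
        rw [Subgroup.mem_centralizer_iff]
        intro v hv
        have h1 := congrArg Subtype.val (ha ⟨v, hv⟩)
        rw [hsmul] at h1
        have h2 : (a : G) * v * (a : G)⁻¹ = v := h1
        calc v * (a : G) = ((a : G) * v * (a : G)⁻¹) * (a : G) := by rw [h2]
          _ = (a : G) * v := by group
      rw [hfaith, Subgroup.mem_bot] at haC
      exact Subtype.ext haC)
    (Q.subgroupOf L) ⟨x, hxL⟩ q r hq hr hqr hpq.symm hpr.symm hQp.comap_subtype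
    (by apply Subtype.ext; rw [Subgroup.coe_pow]; exact hxr)
    (by intro h; exact hx1 (congrArg Subtype.val h))
    (by
      intro S hQS hxS
      rw [eq_top_iff]
      intro g _
      have hle : L ≤ S.map L.subtype := by
        apply sup_le
        · intro m hm
          exact ⟨⟨m, hQL hm⟩, hQS (Subgroup.mem_subgroupOf.2 hm), rfl⟩
        · rw [Subgroup.zpowers_le]
          exact ⟨⟨x, hxL⟩, hxS, rfl⟩
      obtain ⟨g', hg', hgg'⟩ := hle g.2
      have : g' = g := Subtype.ext hgg'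
      rwa [this] at hg')
    (Zc.subgroupOf L)
    (by
      intro z hz
      rw [Subgroup.mem_subgroupOf] at hz ⊢
      exact hZcQ hz)
    (by
      intro z hz
      apply Subtype.ext
      exact hZc_x _ (Subgroup.mem_subgroupOf.1 hz))
    (by
      intro z hz m hm
      apply Subtype.ext
      exact hZc_comm _ (Subgroup.mem_subgroupOf.1 hz) _ (Subgroup.mem_subgroupOf.1 hm))
    (by
      intro u hu v hv
      rw [Subgroup.mem_subgroupOf]
      have h1 := hZc_der _ (Subgroup.mem_subgroupOf.1 hu) _ (Subgroup.mem_subgroupOf.1 hv)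
      have h2 : ((⁅u, v⁆ : ↥L) : G) = ⁅(u : G), (v : G)⁆ := by
        rw [commutatorElement_def, commutatorElement_def]
        simp
      rw [h2]
      exact h1)
    (by rw [Cfsg.Agent.Lib.Helper4.FM.card_subgroupOf_of_le (hZcQ.trans hQL), hZc_card])
    (by
      intro m hm
      rw [Subgroup.mem_subgroupOf, Subgroup.coe_pow]
      exact hZc_pow _ (Subgroup.mem_subgroupOf.1 hm))
    (by
      intro v hv h
      rw [Subgroup.mem_subgroupOf]
      apply hZc_of_comm _ (Subgroup.mem_subgroupOf.1 hv)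
      intro u hu
      have h1 := h ⟨u, hQL hu⟩ (Subgroup.mem_subgroupOf.2 hu)
      exact congrArg Subtype.val h1)
    (by
      intro m hm hxm
      rw [Subgroup.mem_subgroupOf]
      exact hZc_of_x _ (Subgroup.mem_subgroupOf.1 hm) (congrArg Subtype.val hxm))
    (by
      intro h
      apply hZc_ne
      apply le_antisymm hZcQ
      intro m hm
      have h1 : (⟨m, hQL hm⟩ : L) ∈ Q.subgroupOf L := Subgroup.mem_subgroupOf.2 hm
      rw [← h] at h1
      exact Subgroup.mem_subgroupOf.1 h1)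
    (by
      intro v hv
      have h1 := congrArg Subtype.val hv
      rw [hsmul] at h1
      have h2 : x * (v : G) * x⁻¹ = (v : G) := h1
      have hvC : (v : G) ∈ Subgroup.centralizer (X : Set G) := by
        rw [← hzx, Cfsg.Agent.Lib.Helper4.HH.mem_centralizer_zpowers_iff]
        calc x * (v : G) = (x * (v : G) * x⁻¹) * x := by group
          _ = (v : G) * x := by rw [h2]
      have : (v : G) ∈ V ⊓ Subgroup.centralizer (X : Set G) := Subgroup.mem_inf.2 ⟨v.2, hvC⟩
      rw [hCV, Subgroup.mem_bot] at this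
      exact Subtype.ext this)
  obtain ⟨hq2, j, hrj, hidx⟩ := hres
  refine ⟨hq2, j, hrj, ?_⟩
  have h1 : Zc.relIndex Q = 2 ^ (2 * j) := by
    rw [← Subgroup.relIndex_subgroupOf hQL]
    exact hidx
  have h2 := Subgroup.card_mul_index (Zc.subgroupOf Q)
  rw [Cfsg.Agent.Lib.Helper4.FM.card_subgroupOf_of_le hZcQ, hZc_card] at h2
  have h3 : (Zc.subgroupOf Q).index = 2 ^ (2 * j) := h1
  rw [← h2, h3, hq2, pow_succ, mul_comm]


end Cfsg.Agent.Lib.Helper4.HH
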