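import Mathlib
import Cfsg.Agent.Lib.Helper1.Jordan2

set_option autoImplicit false

/-!
# M. Hall's theorem on 4-transitive groups whose 4-point stabilizers have odd order: basics

`H4 a b c d`: the pointwise stabilizer of four points.  Involutions `s`, `t` with `s * t` of odd order
are conjugate by a power of `s * t` (`invol_conj`); consequently two involutions which agree on four
points that they permute are conjugate by an element fixing the four points (`transport4`).
-/

namespace Cfsg.Agent.Lib.Helper4.Hall4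

open MulAction Cfsg.Agent.Lib.Helper1.SharpTrans

section basic

variable {G α : Type*} [Group G] [MulAction G α]

/-- pointwise stabilizer of four points -/
def H4 (a b c d : α) : Subgroup G :=
  stabilizer G a ⊓ stabilizer G b ⊓ stabilizer G c ⊓ stabilizer G d

theorem mem_H4 {a b c d : α} {g : G} :
    g ∈ H4 (G := G) a b c d ↔ g • a = a ∧ g • b = b ∧ g • c = c ∧ g • d = d := by
  simp only [H4, Subgroup.mem_inf, mem_stabilizer_iff]
  tauto

theorem H4_eq_stabilizer {a b c d : α} (h : D4 a b c d) :
    H4 (G := G) a b c d = stabilizer G (emb4 h) := by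
  ext g
  rw [mem_H4, mem_stabilizer_iff]
  constructor
  · rintro ⟨ha, hb, hc, hd⟩
    ext i
    rw [Function.Embedding.smul_apply]
    fin_cases i
    · exact ha
    · exact hb
    · exact hc
    · exact hd
  · intro hg
    refine ⟨?_, ?_, ?_, ?_⟩
    · exact congrArg (fun e : Fin 4 ↪ α => e 0) hg
    · exact congrArg (fun e : Fin 4 ↪ α => e 1) hg
    · exact congrArg (fun e : Fin 4 ↪ α => e 2) hg
    · exact congrArg (fun e : Fin 4 ↪ α => e 3) hg

theorem pow_smul_fixed {g : G} {x : α} (h : g • x = x) (n : ℕ) : g ^ n • x = x := by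
  induction n with
  | zero => rw [pow_zero, one_smul]
  | succ n ih => rw [pow_succ, mul_smul, h, ih]

theorem inv_eq_self_of_sq {t : G} (ht : t * t = 1) : t⁻¹ = t :=
  inv_eq_of_mul_eq_one_left ht

theorem invol_smul_smul {t : G} (ht : t * t = 1) (x : α) : t • t • x = x := by
  rw [← mul_smul, ht, one_smul]

theorem invol_smul_eq_iff {t : G} (ht : t * t = 1) {x y : α} : t • x = y ↔ x = t • y := by
  constructor
  · intro h; rw [← h, invol_smul_smul ht]
  · intro h; rw [h, invol_smul_smul ht]

/-- two involutions whose product has odd order are conjugate by a power of the product -/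
theorem invol_conj {s t : G} (hs : s * s = 1) (ht : t * t = 1) (hodd : Odd (orderOf (s * t))) :
    ∃ x ∈ Subgroup.zpowers (s * t), x * t * x⁻¹ = s := by
  obtain ⟨r, hr⟩ := hodd
  have hkpow : (s * t) ^ (2 * r + 1) = 1 := by rw [← hr]; exact pow_orderOf_eq_one _
  have hsi : s⁻¹ = s := inv_eq_self_of_sq hs
  have hti : t⁻¹ = t := inv_eq_self_of_sq ht
  have hkinv : (s * t)⁻¹ = t * s := by rw [mul_inv_rev, hsi, hti]
  have htkt : t * (s * t) * t⁻¹ = (s * t)⁻¹ := by
    rw [hkinv, hti, mul_assoc, mul_assoc, ht, mul_one]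
  refine ⟨(s * t) ^ (r + 1), Subgroup.pow_mem _ (Subgroup.mem_zpowers _) _, ?_⟩
  set k := s * t with hk
  set x := k ^ (r + 1) with hx
  have hxx : x * x = k := by
    rw [hx, ← pow_add]
    have : r + 1 + (r + 1) = (2 * r + 1) + 1 := by ring
    rw [this, pow_succ, hkpow, one_mul]
  have htx : t * x * t⁻¹ = x⁻¹ := by
    rw [hx, ← conj_pow, htkt, inv_pow]
  have htx' : t * x = x⁻¹ * t := by
    have := congrArg (fun y => y * t) htx
    simpa [mul_assoc] using this
  have hks : k * t = s := by rw [hk, mul_assoc, ht, mul_one]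
  -- x t x⁻¹ = s  ⟺  x t = s x
  have h1 : s * x = x * t := by
    rw [← hks, mul_assoc, htx', ← mul_assoc, ← hxx, mul_assoc x x, mul_inv_cancel, mul_one]
  rw [← h1, mul_assoc, mul_inv_cancel, mul_one]

end basic

section odd

variable {G α : Type*} [Group G] [MulAction G α]

variable (hodd : ∀ e : Fin 4 ↪ α, Odd (Nat.card (stabilizer G e)))
include hodd

theorem odd_card_H4 {a b c d : α} (h : D4 a b c d) : Odd (Nat.card (H4 (G := G) a b c d)) := by
  rw [H4_eq_stabilizer h]
  exact hodd _

theorem odd_orderOf_of_mem_H4 {a b c d : α} (h : D4 a b c d) {g : G}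
    (hg : g ∈ H4 (G := G) a b c d) : Odd (orderOf g) := by
  have h1 : orderOf g ∣ Nat.card (H4 (G := G) a b c d) := Subgroup.orderOf_dvd_natCard _ hg
  exact Odd.of_dvd_nat (odd_card_H4 hodd h) h1

/-- two involutions which agree on four points which they permute are conjugate under the
stabilizer of the four points -/
theorem transport4 {a b c d : α} (h : D4 a b c d) {s t : G} (hs : s * s = 1) (ht : t * t = 1)
    (hst : s * t ∈ H4 (G := G) a b c d) : ∃ x ∈ H4 (G := G) a b c d, x * t * x⁻¹ = s := by
  obtain ⟨x, hx, hx2⟩ := invol_conj hs ht (odd_orderOf_of_mem_H4 hodd h hst)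
  refine ⟨x, ?_, hx2⟩
  have : Subgroup.zpowers (s * t) ≤ H4 (G := G) a b c d := by
    rw [Subgroup.zpowers_le]; exact hst
  exact this hx

/-- a nontrivial involution does not fix four points -/
theorem invol_not_mem_H4 {a b c d : α} (h : D4 a b c d) {t : G} (ht : t * t = 1) (ht1 : t ≠ 1) :
    t ∉ H4 (G := G) a b c d := by
  intro hmem
  have h1 := odd_orderOf_of_mem_H4 hodd h hmem
  have h2 : orderOf t = 2 := by
    apply orderOf_eq_prime
    · rw [pow_two]; exact ht
    · exact ht1
  rw [h2] at h1
  exact absurd h1 (by decide)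

end odd

end Cfsg.Agent.Lib.Helper4.Hall4
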