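import Mathlib
import Cfsg.Agent.Lib.Helper4.Hall4A

set_option autoImplicit false

/-!
# M. Hall's theorem, part B: the commuting involutions `a = (p1)(p2)(p3 p4)…`, `b = (p1 p2)(p3)(p4)…`,
conjugacy of involutions, fixed points of involutions.
-/

namespace Cfsg.Agent.Lib.Helper4.Hall4

open MulAction Cfsg.Agent.Lib.Helper1.SharpTrans

section

variable {G α : Type*} [Group G] [MulAction G α]

variable (hodd : ∀ e : Fin 4 ↪ α, Odd (Nat.card (stabilizer G e)))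
include hodd

theorem exists_invol_of_sq_mem {p1 p2 p3 p4 : α} (h : D4 p1 p2 p3 p4) {g : G}
    (hgg : g * g ∈ H4 (G := G) p1 p2 p3 p4) :
    ∃ r : ℕ, (g ^ (2 * r + 1)) * (g ^ (2 * r + 1)) = 1 ∧
      ∀ x y : α, g • x = y → g • y = x → g ^ (2 * r + 1) • x = y := by
  obtain ⟨r, hr⟩ := odd_orderOf_of_mem_H4 hodd h hgg
  have hpow : (g * g) ^ (2 * r + 1) = 1 := by rw [← hr]; exact pow_orderOf_eq_one _
  refine ⟨r, ?_, ?_⟩
  · rw [← pow_add, ← two_mul, pow_mul, pow_two]; exact hpow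
  · intro x y hxy hyx
    rw [pow_succ, mul_smul, hxy, pow_mul, pow_two]
    exact pow_smul_fixed (by rw [mul_smul, hyx, hxy]) r

variable [IsMultiplyPretransitive G α 4]

theorem exists_invol_swap {p1 p2 p3 p4 : α} (h : D4 p1 p2 p3 p4) :
    ∃ a : G, a * a = 1 ∧ a • p1 = p1 ∧ a • p2 = p2 ∧ a • p3 = p4 ∧ a • p4 = p3 := by
  have h' : D4 p1 p2 p4 p3 := ⟨h.ab, h.ad, h.ac, h.bd, h.bc, h.cd.symm⟩
  obtain ⟨g, g1, g2, g3, g4⟩ := exists_map4 (G := G) h h'
  have hgg : g * g ∈ H4 (G := G) p1 p2 p3 p4 := by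
    rw [mem_H4]
    refine ⟨?_, ?_, ?_, ?_⟩ <;> rw [mul_smul]
    · rw [g1, g1]
    · rw [g2, g2]
    · rw [g3, g4]
    · rw [g4, g3]
  obtain ⟨r, hr1, hr2⟩ := exists_invol_of_sq_mem hodd h hgg
  exact ⟨g ^ (2 * r + 1), hr1, hr2 _ _ g1 g1, hr2 _ _ g2 g2, hr2 _ _ g3 g4, hr2 _ _ g4 g3⟩

theorem exists_commuting_invol {p1 p2 p3 p4 : α} (h : D4 p1 p2 p3 p4) {a : G} (ha : a * a = 1)
    (a1 : a • p1 = p1) (a2 : a • p2 = p2) (a3 : a • p3 = p4) (a4 : a • p4 = p3) :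
    ∃ b : G, b * b = 1 ∧ a * b = b * a ∧ b • p1 = p2 ∧ b • p2 = p1 ∧ b • p3 = p3 ∧ b • p4 = p4 := by
  have h' : D4 p2 p1 p3 p4 := ⟨h.ab.symm, h.bc, h.bd, h.ac, h.ad, h.cd⟩
  obtain ⟨g, g1, g2, g3, g4⟩ := exists_map4 (G := G) h h'
  have gi1 : g⁻¹ • p1 = p2 := by rw [inv_smul_eq_iff, g2]
  have gi2 : g⁻¹ • p2 = p1 := by rw [inv_smul_eq_iff, g1]
  have gi3 : g⁻¹ • p3 = p3 := by rw [inv_smul_eq_iff, g3]
  have gi4 : g⁻¹ • p4 = p4 := by rw [inv_smul_eq_iff, g4]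
  set s := g * a * g⁻¹ with hs
  have hss : s * s = 1 := by
    rw [hs]
    calc g * a * g⁻¹ * (g * a * g⁻¹) = g * (a * a) * g⁻¹ := by group
      _ = 1 := by rw [ha]; group
  have hsa : s * a ∈ H4 (G := G) p1 p2 p3 p4 := by
    rw [mem_H4]
    refine ⟨?_, ?_, ?_, ?_⟩
    · rw [mul_smul, a1, hs, mul_smul, mul_smul, gi1, a2, g2]
    · rw [mul_smul, a2, hs, mul_smul, mul_smul, gi2, a1, g1]
    · rw [mul_smul, a3, hs, mul_smul, mul_smul, gi4, a4, g3]
    · rw [mul_smul, a4, hs, mul_smul, mul_smul, gi3, a3, g4]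
  obtain ⟨x, hx, hxs⟩ := transport4 hodd h hss ha hsa
  rw [mem_H4] at hx
  obtain ⟨x1, x2, x3, x4⟩ := hx
  have xi1 : x⁻¹ • p1 = p1 := by rw [inv_smul_eq_iff, x1]
  have xi2 : x⁻¹ • p2 = p2 := by rw [inv_smul_eq_iff, x2]
  have xi3 : x⁻¹ • p3 = p3 := by rw [inv_smul_eq_iff, x3]
  have xi4 : x⁻¹ • p4 = p4 := by rw [inv_smul_eq_iff, x4]
  set g' := x⁻¹ * g with hg'
  have hcomm : g' * a = a * g' := by
    have h1 : x * a * x⁻¹ = g * a * g⁻¹ := hxs
    have h2 : a = x⁻¹ * (g * a * g⁻¹) * x := by rw [← h1]; group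
    rw [hg']
    calc x⁻¹ * g * a = x⁻¹ * (g * a * g⁻¹) * x * (x⁻¹ * g) := by group
      _ = a * (x⁻¹ * g) := by rw [← h2]
  have k1 : g' • p1 = p2 := by rw [hg', mul_smul, g1, xi2]
  have k2 : g' • p2 = p1 := by rw [hg', mul_smul, g2, xi1]
  have k3 : g' • p3 = p3 := by rw [hg', mul_smul, g3, xi3]
  have k4 : g' • p4 = p4 := by rw [hg', mul_smul, g4, xi4]
  have hgg : g' * g' ∈ H4 (G := G) p1 p2 p3 p4 := by
    rw [mem_H4]
    refine ⟨?_, ?_, ?_, ?_⟩ <;> rw [mul_smul]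
    · rw [k1, k2]
    · rw [k2, k1]
    · rw [k3, k3]
    · rw [k4, k4]
  obtain ⟨r, hr1, hr2⟩ := exists_invol_of_sq_mem hodd h hgg
  refine ⟨g' ^ (2 * r + 1), hr1, ?_, hr2 _ _ k1 k2, hr2 _ _ k2 k1, hr2 _ _ k3 k3, hr2 _ _ k4 k4⟩
  have hc : Commute a g' := hcomm.symm
  exact (hc.pow_right _).eq

/-- involutions with two 2-cycles each are conjugate -/
theorem invol_conj_of_two_cycles {s t : G} (hs : s * s = 1) (ht : t * t = 1) {x y x' y' : α}
    (h : D4 x (s • x) y (s • y)) (h' : D4 x' (t • x') y' (t • y')) : ∃ g : G, g * t * g⁻¹ = s := by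
  obtain ⟨g, g1, g2, g3, g4⟩ := exists_map4 (G := G) h' h
  have gi1 : g⁻¹ • x = x' := by rw [inv_smul_eq_iff, g1]
  have gi2 : g⁻¹ • (s • x) = t • x' := by rw [inv_smul_eq_iff, g2]
  have gi3 : g⁻¹ • y = y' := by rw [inv_smul_eq_iff, g3]
  have gi4 : g⁻¹ • (s • y) = t • y' := by rw [inv_smul_eq_iff, g4]
  set s' := g * t * g⁻¹ with hs'
  have hss : s' * s' = 1 := by
    rw [hs']
    calc g * t * g⁻¹ * (g * t * g⁻¹) = g * (t * t) * g⁻¹ := by group
      _ = 1 := by rw [ht]; group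
  have hmem : s' * s ∈ H4 (G := G) x (s • x) y (s • y) := by
    rw [mem_H4]
    refine ⟨?_, ?_, ?_, ?_⟩
    · rw [mul_smul, hs', mul_smul, mul_smul, gi2, invol_smul_smul ht, g1]
    · rw [mul_smul, invol_smul_smul hs, hs', mul_smul, mul_smul, gi1, g2]
    · rw [mul_smul, hs', mul_smul, mul_smul, gi4, invol_smul_smul ht, g3]
    · rw [mul_smul, invol_smul_smul hs, hs', mul_smul, mul_smul, gi3, g4]
  obtain ⟨u, -, hu⟩ := transport4 hodd h hss hs hmem
  refine ⟨u⁻¹ * g, ?_⟩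
  have h1 : u * s * u⁻¹ = g * t * g⁻¹ := hu
  calc u⁻¹ * g * t * (u⁻¹ * g)⁻¹ = u⁻¹ * (g * t * g⁻¹) * u := by group
    _ = u⁻¹ * (u * s * u⁻¹) * u := by rw [h1]
    _ = s := by group

end

section fin

variable {G α : Type*} [Group G] [MulAction G α] [Fintype α] [DecidableEq α]

variable (α) in
/-- the fixed points of `g` -/
def fixF (g : G) : Finset α := Finset.univ.filter (fun x : α => g • x = x)

theorem mem_fixF (g : G) (x : α) : x ∈ fixF α g ↔ g • x = x := by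
  simp [fixF]

theorem card_fixF_add_card_moved (g : G) : (fixF α g).card + (moved α g).card = Fintype.card α := by
  unfold fixF moved
  rw [Finset.card_filter_add_card_filter_not, Finset.card_univ]

variable (hodd : ∀ e : Fin 4 ↪ α, Odd (Nat.card (stabilizer G e)))
include hodd

theorem card_fixF_le_three {t : G} (ht : t * t = 1) (ht1 : t ≠ 1) : (fixF α t).card ≤ 3 := by
  by_contra hcon
  push Not at hcon
  have h4 : Fintype.card (Fin 4) ≤ Fintype.card ↥(fixF α t) := by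
    rw [Fintype.card_coe, Fintype.card_fin]
    exact hcon
  obtain ⟨e⟩ := Function.Embedding.nonempty_of_card_le h4
  let e' : Fin 4 ↪ α := e.trans (Function.Embedding.subtype _)
  have hD := D4_of_emb e'
  have hmem : t ∈ H4 (G := G) (e' 0) (e' 1) (e' 2) (e' 3) := by
    rw [mem_H4]
    refine ⟨?_, ?_, ?_, ?_⟩
    · exact (mem_fixF t _).mp (e 0).2
    · exact (mem_fixF t _).mp (e 1).2
    · exact (mem_fixF t _).mp (e 2).2
    · exact (mem_fixF t _).mp (e 3).2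
  exact invol_not_mem_H4 hodd hD ht ht1 hmem

theorem three_le_card_moved (hn : 8 ≤ Fintype.card α) {t : G} (ht : t * t = 1) (ht1 : t ≠ 1) :
    5 ≤ (moved α t).card := by
  have h1 := card_fixF_le_three hodd ht ht1
  have h2 := card_fixF_add_card_moved (α := α) t
  omega

variable [IsMultiplyPretransitive G α 4]

theorem invol_conj_all (hn : 8 ≤ Fintype.card α) {s t : G} (hs : s * s = 1) (hs1 : s ≠ 1)
    (ht : t * t = 1) (ht1 : t ≠ 1) : ∃ g : G, g * t * g⁻¹ = s := by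
  have hs5 := three_le_card_moved hodd hn hs hs1
  have ht5 := three_le_card_moved hodd hn ht ht1
  have hps : (pairsOf α s).Nonempty := by
    rw [← Finset.card_pos, card_pairsOf s hs]
    exact Nat.mul_pos (by omega) (by omega)
  have hpt : (pairsOf α t).Nonempty := by
    rw [← Finset.card_pos, card_pairsOf t ht]
    exact Nat.mul_pos (by omega) (by omega)
  obtain ⟨⟨x, y⟩, hxy⟩ := hps
  obtain ⟨⟨x', y'⟩, hxy'⟩ := hpt
  exact invol_conj_of_two_cycles hodd hs ht (D4_of_pair s hs hxy) (D4_of_pair t ht hxy')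

end fin

end Cfsg.Agent.Lib.Helper4.Hall4
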