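import Mathlib
import Cfsg.Agent.Lib.Helper4.Hall4B

set_option autoImplicit false

/-!
# M. Hall's theorem, part C: orders of centralizers of involutions
-/

namespace Cfsg.Agent.Lib.Helper4.Hall4

open MulAction Cfsg.Agent.Lib.Helper1.SharpTrans

section orbit

variable {G X : Type*} [Group G] [MulAction G X]

/-- the stabilizer of a point in a subgroup, as a subgroup of the big group -/
noncomputable def stabEquiv (C : Subgroup G) (x : X) :
    ↥(stabilizer ↥C x) ≃ ↥(C ⊓ stabilizer G x : Subgroup G) where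
  toFun c := ⟨(c.1 : G), Subgroup.mem_inf.mpr ⟨c.1.2, by
    have h := mem_stabilizer_iff.mp c.2
    exact mem_stabilizer_iff.mpr h⟩⟩
  invFun c := ⟨⟨c.1, (Subgroup.mem_inf.mp c.2).1⟩, by
    have h := mem_stabilizer_iff.mp (Subgroup.mem_inf.mp c.2).2
    exact mem_stabilizer_iff.mpr h⟩
  left_inv c := by ext; rfl
  right_inv c := by ext; rfl

/-- orbit–stabilizer for a subgroup -/
theorem card_eq_orbit_mul_inf (C : Subgroup G) (x : X) :
    Nat.card C = (orbit ↥C x).ncard * Nat.card (C ⊓ stabilizer G x : Subgroup G) := by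
  rw [← Subgroup.card_mul_index (stabilizer ↥C x), index_stabilizer, mul_comm,
    Nat.card_congr (stabEquiv C x)]

end orbit

section pairs

variable {G α : Type*} [Group G] [MulAction G α] [Fintype α] [DecidableEq α]

variable (α) in
/-- pairs of moved points in different cycles, as a subset of `α × α` -/
def pairsP (t : G) : Finset (α × α) :=
  (pairsOf α t).map (Equiv.sigmaEquivProd α α).toEmbedding

theorem mem_pairsP (t : G) (x y : α) :
    (x, y) ∈ pairsP α t ↔ (⟨x, y⟩ : Σ _ : α, α) ∈ pairsOf α t := by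
  unfold pairsP
  rw [Finset.mem_map]
  constructor
  · rintro ⟨⟨x', y'⟩, h, he⟩
    have h1 : x' = x := congrArg Prod.fst he
    have h2 : y' = y := congrArg Prod.snd he
    subst h1; subst h2
    exact h
  · intro h
    exact ⟨⟨x, y⟩, h, rfl⟩

theorem card_pairsP {t : G} (ht : t * t = 1) :
    (pairsP α t).card = (moved α t).card * ((moved α t).card - 2) := by
  unfold pairsP
  rw [Finset.card_map, card_pairsOf t ht]

end pairs

section cent

variable {G α : Type*} [Group G] [MulAction G α]

theorem smul_comm_of_mem_centralizer {t c : G} (hc : c ∈ Subgroup.centralizer ({t} : Set G)) (x : α) :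
    c • t • x = t • c • x := by
  have := Subgroup.mem_centralizer_singleton_iff.mp hc
  rw [← mul_smul, ← mul_smul, this]

variable (hodd : ∀ e : Fin 4 ↪ α, Odd (Nat.card (stabilizer G e))) [IsMultiplyPretransitive G α 4]
include hodd

/-- an element mapping a 4-tuple permuted by the involution `t` to another one, compatibly with `t`,
can be corrected to an element of the centralizer of `t` -/
theorem exists_centralizing {t : G} (ht : t * t = 1) {a b c d a' b' c' d' : α}
    (h : D4 a b c d) (h' : D4 a' b' c' d')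
    (hperm : ∀ g : G, g • a = a' → g • b = b' → g • c = c' → g • d = d' →
        (t • a' = g • t • a ∧ t • b' = g • t • b ∧ t • c' = g • t • c ∧ t • d' = g • t • d)) :
    ∃ k : G, k ∈ Subgroup.centralizer ({t} : Set G) ∧ k • a = a' ∧ k • b = b' ∧ k • c = c' ∧
      k • d = d' := by
  obtain ⟨g, g1, g2, g3, g4⟩ := exists_map4 (G := G) h h'
  obtain ⟨r1, r2, r3, r4⟩ := hperm g g1 g2 g3 g4
  have gi1 : g⁻¹ • a' = a := by rw [inv_smul_eq_iff, g1]
  have gi2 : g⁻¹ • b' = b := by rw [inv_smul_eq_iff, g2]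
  have gi3 : g⁻¹ • c' = c := by rw [inv_smul_eq_iff, g3]
  have gi4 : g⁻¹ • d' = d := by rw [inv_smul_eq_iff, g4]
  set s := g * t * g⁻¹ with hs
  have hss : s * s = 1 := by
    rw [hs]
    calc g * t * g⁻¹ * (g * t * g⁻¹) = g * (t * t) * g⁻¹ := by group
      _ = 1 := by rw [ht]; group
  have hmem : s * t ∈ H4 (G := G) a' b' c' d' := by
    rw [mem_H4]
    have key : ∀ x' x : α, g⁻¹ • x' = x → t • x' = g • t • x → (s * t) • x' = x' := by
      intro x' x hx hx'
      have h1 : s • (g • t • x) = g • x := by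
        rw [hs, mul_smul, mul_smul, inv_smul_smul, invol_smul_smul ht]
      rw [mul_smul, hx', h1, ← hx, smul_inv_smul]
    exact ⟨key a' a gi1 r1, key b' b gi2 r2, key c' c gi3 r3, key d' d gi4 r4⟩
  obtain ⟨u, hu, hus⟩ := transport4 hodd h' hss ht hmem
  rw [mem_H4] at hu
  obtain ⟨u1, u2, u3, u4⟩ := hu
  refine ⟨u⁻¹ * g, ?_, ?_, ?_, ?_, ?_⟩
  · rw [Subgroup.mem_centralizer_singleton_iff]
    have h1 : u * t * u⁻¹ = g * t * g⁻¹ := hus
    have h2 : t = u⁻¹ * (g * t * g⁻¹) * u := by rw [← h1]; group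
    calc u⁻¹ * g * t = u⁻¹ * (g * t * g⁻¹) * u * (u⁻¹ * g) := by group
      _ = t * (u⁻¹ * g) := by rw [← h2]
  · rw [mul_smul, g1, inv_smul_eq_iff, u1]
  · rw [mul_smul, g2, inv_smul_eq_iff, u2]
  · rw [mul_smul, g3, inv_smul_eq_iff, u3]
  · rw [mul_smul, g4, inv_smul_eq_iff, u4]

end cent

end Cfsg.Agent.Lib.Helper4.Hall4
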