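import Mathlib
import Cfsg.Agent.Lib.Helper4.Hall4C

set_option autoImplicit false

/-!
# M. Hall's theorem, part D: the two formulas for the order of the centralizer of an involution
-/

namespace Cfsg.Agent.Lib.Helper4.Hall4

open MulAction Cfsg.Agent.Lib.Helper1.SharpTrans

section

variable {G α : Type*} [Group G] [MulAction G α] [Fintype α] [DecidableEq α]

theorem mem_stabilizer_pair {g : G} {x y : α} : g ∈ stabilizer G (x, y) ↔ g • x = x ∧ g • y = y := by
  rw [mem_stabilizer_iff, Prod.smul_mk, Prod.mk.injEq]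

theorem moved_of_moved {t : G} (ht : t * t = 1) {y : α} (hy : t • y ≠ y) : t • t • y ≠ t • y := by
  rw [invol_smul_smul ht]; exact fun h => hy h.symm

variable (hodd : ∀ e : Fin 4 ↪ α, Odd (Nat.card (stabilizer G e))) [IsMultiplyPretransitive G α 4]
include hodd

/-- `|C(t)| = M (M - 2) |C(t) ∩ G_{x, tx, y, ty}|`, `M` the number of points moved by `t` -/
theorem card_centralizer_two_cycles {t : G} (ht : t * t = 1) {x y : α} (hxy : (x, y) ∈ pairsP α t) :
    Nat.card (Subgroup.centralizer ({t} : Set G)) =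
      (moved α t).card * ((moved α t).card - 2) *
        Nat.card (Subgroup.centralizer ({t} : Set G) ⊓ H4 (G := G) x (t • x) y (t • y) : Subgroup G) := by
  set C := Subgroup.centralizer ({t} : Set G) with hC
  have hD0 : D4 x (t • x) y (t • y) := D4_of_pair t ht ((mem_pairsP t x y).mp hxy)
  have horb : orbit ↥C (x, y) = ↑(pairsP α t) := by
    ext ⟨x', y'⟩
    rw [mem_orbit_iff, Finset.mem_coe]
    constructor
    · rintro ⟨c, hc⟩
      have hc1 : (c : G) • x = x' := congrArg Prod.fst hc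
      have hc2 : (c : G) • y = y' := congrArg Prod.snd hc
      rw [mem_pairsP, mem_pairsOf] at hxy ⊢
      obtain ⟨h1, h2, h3, h4⟩ := hxy
      rw [← hc1, ← hc2]
      refine ⟨?_, ?_, ?_, ?_⟩
      · rw [← smul_comm_of_mem_centralizer c.2]
        exact fun h => h1 (smul_left_cancel _ h)
      · rw [← smul_comm_of_mem_centralizer c.2]
        exact fun h => h2 (smul_left_cancel _ h)
      · exact fun h => h3 (smul_left_cancel _ h)
      · rw [← smul_comm_of_mem_centralizer c.2]
        exact fun h => h4 (smul_left_cancel _ h)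
    · intro h
      have hD := D4_of_pair t ht ((mem_pairsP t x' y').mp h)
      obtain ⟨k, hk, k1, -, k3, -⟩ := exists_centralizing hodd ht hD0 hD (by
        intro g g1 g2 g3 g4
        refine ⟨g2.symm, ?_, g4.symm, ?_⟩
        · rw [invol_smul_smul ht, invol_smul_smul ht, g1]
        · rw [invol_smul_smul ht, invol_smul_smul ht, g3])
      refine ⟨⟨k, hk⟩, ?_⟩
      show ((k • x, k • y) : α × α) = (x', y')
      rw [k1, k3]
  have hstab : C ⊓ stabilizer G (x, y) = C ⊓ H4 (G := G) x (t • x) y (t • y) := by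
    ext g
    rw [Subgroup.mem_inf, Subgroup.mem_inf, mem_stabilizer_pair, mem_H4]
    constructor
    · rintro ⟨hg, g1, g2⟩
      refine ⟨hg, g1, ?_, g2, ?_⟩
      · rw [smul_comm_of_mem_centralizer hg, g1]
      · rw [smul_comm_of_mem_centralizer hg, g2]
    · rintro ⟨hg, g1, -, g2, -⟩
      exact ⟨hg, g1, g2⟩
  rw [card_eq_orbit_mul_inf C (x, y), horb, Set.ncard_coe_finset, card_pairsP ht, hstab]

/-- `|C(t)| = ω M |C(t) ∩ G_{q1, q2, y, ty}|` for fixed points `q1 ≠ q2` of `t`, with `ω ≤ f (f - 1)` -/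
theorem card_centralizer_fixed_pair {t : G} (ht : t * t = 1) {q1 q2 y : α} (hq1 : t • q1 = q1)
    (hq2 : t • q2 = q2) (hq : q1 ≠ q2) (hy : t • y ≠ y) :
    ∃ ω : ℕ, 1 ≤ ω ∧ ω ≤ (fixF α t).card * ((fixF α t).card - 1) ∧
      Nat.card (Subgroup.centralizer ({t} : Set G)) =
        ω * ((moved α t).card *
          Nat.card (Subgroup.centralizer ({t} : Set G) ⊓ H4 (G := G) q1 q2 y (t • y) : Subgroup G)) := by
  set C := Subgroup.centralizer ({t} : Set G) with hC
  set A := C ⊓ stabilizer G (q1, q2) with hA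
  have hsub : orbit ↥C (q1, q2) ⊆ ↑((fixF α t).offDiag) := by
    rintro ⟨u, v⟩ huv
    rw [mem_orbit_iff] at huv
    obtain ⟨c, hc⟩ := huv
    have hc1 : (c : G) • q1 = u := congrArg Prod.fst hc
    have hc2 : (c : G) • q2 = v := congrArg Prod.snd hc
    rw [Finset.mem_coe, Finset.mem_offDiag, mem_fixF, mem_fixF, ← hc1, ← hc2]
    refine ⟨?_, ?_, ?_⟩
    · rw [← smul_comm_of_mem_centralizer c.2, hq1]
    · rw [← smul_comm_of_mem_centralizer c.2, hq2]
    · exact fun h => hq (smul_left_cancel _ h)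
  have hω1 : 1 ≤ (orbit ↥C (q1, q2)).ncard := by
    rw [Nat.one_le_iff_ne_zero]
    intro h0
    rw [Set.ncard_eq_zero ((Finset.finite_toSet _).subset hsub)] at h0
    exact (nonempty_orbit (M := ↥C) (q1, q2)).ne_empty h0
  have hω2 : (orbit ↥C (q1, q2)).ncard ≤ (fixF α t).card * ((fixF α t).card - 1) := by
    have h1 := Set.ncard_le_ncard hsub (Finset.finite_toSet _)
    rw [Set.ncard_coe_finset, Finset.offDiag_card] at h1
    rwa [Nat.mul_sub_one]
  refine ⟨(orbit ↥C (q1, q2)).ncard, hω1, hω2, ?_⟩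
  have hD0 : D4 q1 q2 y (t • y) := by
    refine ⟨hq, ?_, ?_, ?_, ?_, fun h => hy h.symm⟩
    · intro h; apply hy; rw [← h, hq1]
    · intro h; apply moved_of_moved ht hy; rw [← h, hq1]
    · intro h; apply hy; rw [← h, hq2]
    · intro h; apply moved_of_moved ht hy; rw [← h, hq2]
  have horb : orbit ↥A y = ↑(moved α t) := by
    ext y'
    rw [mem_orbit_iff, Finset.mem_coe, mem_moved]
    constructor
    · rintro ⟨c, hc⟩
      have hc' : (c : G) • y = y' := hc
      have hcC : (c : G) ∈ C := (Subgroup.mem_inf.mp c.2).1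
      rw [← hc', ← smul_comm_of_mem_centralizer hcC]
      exact fun h => hy (smul_left_cancel _ h)
    · intro hy'
      have hD : D4 q1 q2 y' (t • y') := by
        refine ⟨hq, ?_, ?_, ?_, ?_, fun h => hy' h.symm⟩
        · intro h; apply hy'; rw [← h, hq1]
        · intro h; apply moved_of_moved ht hy'; rw [← h, hq1]
        · intro h; apply hy'; rw [← h, hq2]
        · intro h; apply moved_of_moved ht hy'; rw [← h, hq2]
      obtain ⟨k, hk, k1, k2, k3, -⟩ := exists_centralizing hodd ht hD0 hD (by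
        intro g g1 g2 g3 g4
        refine ⟨?_, ?_, g4.symm, ?_⟩
        · rw [hq1, g1]
        · rw [hq2, g2]
        · rw [invol_smul_smul ht, invol_smul_smul ht, g3])
      exact ⟨⟨k, Subgroup.mem_inf.mpr ⟨hk, mem_stabilizer_pair.mpr ⟨k1, k2⟩⟩⟩, k3⟩
  have hstab : A ⊓ stabilizer G y = C ⊓ H4 (G := G) q1 q2 y (t • y) := by
    ext g
    rw [hA, Subgroup.mem_inf, Subgroup.mem_inf, Subgroup.mem_inf, mem_stabilizer_pair,
      mem_stabilizer_iff, mem_H4]
    constructor
    · rintro ⟨⟨hg, g1, g2⟩, g3⟩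
      refine ⟨hg, g1, g2, g3, ?_⟩
      rw [smul_comm_of_mem_centralizer hg, g3]
    · rintro ⟨hg, g1, g2, g3, -⟩
      exact ⟨⟨hg, g1, g2⟩, g3⟩
  rw [card_eq_orbit_mul_inf C (q1, q2), ← hA, card_eq_orbit_mul_inf A y, horb, Set.ncard_coe_finset,
    hstab]

end

end Cfsg.Agent.Lib.Helper4.Hall4
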