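import Mathlib
import Cfsg.Agent.Lib.Helper4.Hall4D

set_option autoImplicit false

/-!
# M. Hall's theorem, part E: the four-group `V = {1, a, b, ab}` and its fixed points
-/

namespace Cfsg.Agent.Lib.Helper4.Hall4

open MulAction Cfsg.Agent.Lib.Helper1.SharpTrans

/-- the configuration: commuting involutions `a = (p1)(p2)(p3 p4)…` and `b = (p1 p2)(p3)(p4)…` -/
structure Conf {G α : Type*} [Group G] [MulAction G α] (p1 p2 p3 p4 : α) (a b : G) : Prop where
  hD : D4 p1 p2 p3 p4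
  ha : a * a = 1
  hb : b * b = 1
  hab : a * b = b * a
  a1 : a • p1 = p1
  a2 : a • p2 = p2
  a3 : a • p3 = p4
  a4 : a • p4 = p3
  b1 : b • p1 = p2
  b2 : b • p2 = p1
  b3 : b • p3 = p3
  b4 : b • p4 = p4

namespace Conf

section

variable {G α : Type*} [Group G] [MulAction G α] {p1 p2 p3 p4 : α} {a b : G}

theorem symm (c : Conf p1 p2 p3 p4 a b) : Conf p3 p4 p1 p2 b a :=
  ⟨⟨c.hD.cd, c.hD.ac.symm, c.hD.bc.symm, c.hD.ad.symm, c.hD.bd.symm, c.hD.ab⟩, c.hb, c.ha, c.hab.symm,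
    c.b3, c.b4, c.b1, c.b2, c.a3, c.a4, c.a1, c.a2⟩

theorem hz (c : Conf p1 p2 p3 p4 a b) : (a * b) * (a * b) = 1 := by
  calc a * b * (a * b) = a * (b * a) * b := by group
    _ = a * (a * b) * b := by rw [c.hab]
    _ = (a * a) * (b * b) := by group
    _ = 1 := by rw [c.ha, c.hb, one_mul]

theorem z1 (c : Conf p1 p2 p3 p4 a b) : (a * b) • p1 = p2 := by rw [mul_smul, c.b1, c.a2]
theorem z2 (c : Conf p1 p2 p3 p4 a b) : (a * b) • p2 = p1 := by rw [mul_smul, c.b2, c.a1]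
theorem z3 (c : Conf p1 p2 p3 p4 a b) : (a * b) • p3 = p4 := by rw [mul_smul, c.b3, c.a3]
theorem z4 (c : Conf p1 p2 p3 p4 a b) : (a * b) • p4 = p3 := by rw [mul_smul, c.b4, c.a4]

theorem a_ne_one (c : Conf p1 p2 p3 p4 a b) : a ≠ 1 := by
  intro h
  have := c.a3
  rw [h, one_smul] at this
  exact c.hD.cd this

theorem b_ne_one (c : Conf p1 p2 p3 p4 a b) : b ≠ 1 := c.symm.a_ne_one

theorem z_ne_one (c : Conf p1 p2 p3 p4 a b) : a * b ≠ 1 := by
  intro h
  have := c.z1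
  rw [h, one_smul] at this
  exact c.hD.ab this

theorem a_ne_b (c : Conf p1 p2 p3 p4 a b) : a ≠ b := by
  intro h
  have := c.a1
  rw [h, c.b1] at this
  exact c.hD.ab this.symm

theorem z_ne_a (c : Conf p1 p2 p3 p4 a b) : a * b ≠ a := by
  intro h
  exact c.b_ne_one (mul_left_cancel (h.trans (mul_one a).symm))

theorem z_ne_b (c : Conf p1 p2 p3 p4 a b) : a * b ≠ b := by
  intro h
  exact c.a_ne_one (mul_right_cancel (h.trans (one_mul b).symm))

theorem smul_ab (c : Conf p1 p2 p3 p4 a b) (x : α) : a • b • x = b • a • x := by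
  rw [← mul_smul, ← mul_smul, c.hab]

theorem b_mem_centralizer_a (c : Conf p1 p2 p3 p4 a b) : b ∈ Subgroup.centralizer ({a} : Set G) :=
  Subgroup.mem_centralizer_singleton_iff.mpr c.hab.symm

theorem a_mem_centralizer_b (c : Conf p1 p2 p3 p4 a b) : a ∈ Subgroup.centralizer ({b} : Set G) :=
  Subgroup.mem_centralizer_singleton_iff.mpr c.hab

theorem z_comm_a (c : Conf p1 p2 p3 p4 a b) : a * b * a = a * (a * b) := by
  rw [mul_assoc, c.hab.symm]

theorem z_comm_b (c : Conf p1 p2 p3 p4 a b) : a * b * b = b * (a * b) := by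
  rw [← mul_assoc b a b, ← c.hab]

end

section fin

variable {G α : Type*} [Group G] [MulAction G α] [Fintype α] [DecidableEq α]
  {p1 p2 p3 p4 : α} {a b : G}

variable (hodd : ∀ e : Fin 4 ↪ α, Odd (Nat.card (stabilizer G e)))
include hodd

/-- the fixed points of `a` not fixed by `b` are `p1`, `p2` -/
theorem fixF_sdiff (c : Conf p1 p2 p3 p4 a b) : fixF α a \ fixF α b = {p1, p2} := by
  ext q
  rw [Finset.mem_sdiff, mem_fixF, mem_fixF, Finset.mem_insert, Finset.mem_singleton]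
  constructor
  · rintro ⟨hqa, hqb⟩
    by_contra hcon
    push Not at hcon
    obtain ⟨hq1, hq2⟩ := hcon
    have hD : D4 p1 p2 q (b • q) := by
      refine ⟨c.hD.ab, fun h => hq1 h.symm, ?_, fun h => hq2 h.symm, ?_, fun h => hqb h.symm⟩
      · intro h
        apply hq2
        rw [← c.b1, h, invol_smul_smul c.hb]
      · intro h
        apply hq1
        rw [← c.b2, h, invol_smul_smul c.hb]
    apply invol_not_mem_H4 hodd hD c.ha c.a_ne_one
    rw [mem_H4]
    exact ⟨c.a1, c.a2, hqa, by rw [c.smul_ab, hqa]⟩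
  · rintro (rfl | rfl)
    · exact ⟨c.a1, by rw [c.b1]; exact c.hD.ab.symm⟩
    · exact ⟨c.a2, by rw [c.b2]; exact c.hD.ab⟩

omit hodd in
theorem fixF_inter_z (c : Conf p1 p2 p3 p4 a b) : fixF α (a * b) ∩ fixF α a = fixF α a ∩ fixF α b := by
  ext q
  rw [Finset.mem_inter, Finset.mem_inter, mem_fixF, mem_fixF, mem_fixF, mul_smul]
  constructor
  · rintro ⟨hz, hqa⟩
    refine ⟨hqa, ?_⟩
    have := congrArg (fun x => a • x) hz
    simp only [invol_smul_smul c.ha] at this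
    rw [this, hqa]
  · rintro ⟨hqa, hqb⟩
    exact ⟨by rw [hqb, hqa], hqa⟩

omit hodd in
theorem fixF_inter_z' (_c : Conf p1 p2 p3 p4 a b) : fixF α (a * b) ∩ fixF α b = fixF α a ∩ fixF α b := by
  ext q
  rw [Finset.mem_inter, Finset.mem_inter, mem_fixF, mem_fixF, mem_fixF, mul_smul]
  constructor
  · rintro ⟨hz, hqb⟩
    refine ⟨?_, hqb⟩
    rw [hqb] at hz
    exact hz
  · rintro ⟨hqa, hqb⟩
    exact ⟨by rw [hqb, hqa], hqb⟩

/-- `|fix a| = 2 + |fix a ∩ fix b|` -/
theorem card_fixF_a (c : Conf p1 p2 p3 p4 a b) :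
    (fixF α a).card = 2 + (fixF α a ∩ fixF α b).card := by
  have h1 := Finset.card_sdiff_add_card_inter (fixF α a) (fixF α b)
  rw [c.fixF_sdiff hodd, Finset.card_pair c.hD.ab] at h1
  exact h1.symm

end fin

end Conf

end Cfsg.Agent.Lib.Helper4.Hall4
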