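import Mathlib
import Cfsg.Agent.Lib.Helper4.Hall4E

set_option autoImplicit false

/-!
# M. Hall's theorem, part F: conjugation invariance, the regular points of `V`, the centralizer of `V`
-/

namespace Cfsg.Agent.Lib.Helper4.Hall4

open MulAction Cfsg.Agent.Lib.Helper1.SharpTrans

section conj

variable {G α : Type*} [Group G] [MulAction G α] [Fintype α] [DecidableEq α]

theorem card_fixF_conj (g t : G) : (fixF α (g * t * g⁻¹)).card = (fixF α t).card := by
  have h : fixF α (g * t * g⁻¹) = (fixF α t).image (fun x => g • x) := by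
    ext q
    rw [mem_fixF, Finset.mem_image]
    constructor
    · intro hq
      refine ⟨g⁻¹ • q, ?_, smul_inv_smul g q⟩
      rw [mem_fixF]
      have : g⁻¹ • ((g * t * g⁻¹) • q) = g⁻¹ • q := by rw [hq]
      rw [mul_smul, mul_smul, inv_smul_smul] at this
      exact this
    · rintro ⟨x, hx, rfl⟩
      rw [mem_fixF] at hx
      rw [mul_smul, mul_smul, inv_smul_smul, hx]
  rw [h, Finset.card_image_of_injective _ (MulAction.injective g)]

theorem card_moved_conj (g t : G) : (moved α (g * t * g⁻¹)).card = (moved α t).card := by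
  have h1 := card_fixF_add_card_moved (α := α) (g * t * g⁻¹)
  have h2 := card_fixF_add_card_moved (α := α) t
  rw [card_fixF_conj] at h1
  omega

omit [MulAction G α] [Fintype α] [DecidableEq α] in
theorem card_centralizer_conj (g t : G) :
    Nat.card (Subgroup.centralizer ({g * t * g⁻¹} : Set G)) =
      Nat.card (Subgroup.centralizer ({t} : Set G)) := by
  apply Nat.card_congr
  refine ⟨fun c => ⟨g⁻¹ * c.1 * g, ?_⟩, fun c => ⟨g * c.1 * g⁻¹, ?_⟩, ?_, ?_⟩
  · have := Subgroup.mem_centralizer_singleton_iff.mp c.2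
    rw [Subgroup.mem_centralizer_singleton_iff]
    calc g⁻¹ * c.1 * g * t = g⁻¹ * (c.1 * (g * t * g⁻¹)) * g := by group
      _ = g⁻¹ * (g * t * g⁻¹ * c.1) * g := by rw [this]
      _ = t * (g⁻¹ * c.1 * g) := by group
  · have := Subgroup.mem_centralizer_singleton_iff.mp c.2
    rw [Subgroup.mem_centralizer_singleton_iff]
    calc g * c.1 * g⁻¹ * (g * t * g⁻¹) = g * (c.1 * t) * g⁻¹ := by group
      _ = g * (t * c.1) * g⁻¹ := by rw [this]
      _ = g * t * g⁻¹ * (g * c.1 * g⁻¹) := by group
  · intro c; ext; simp only; group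
  · intro c; ext; simp only; group

end conj

namespace Conf

section fin

variable {G α : Type*} [Group G] [MulAction G α] [Fintype α] [DecidableEq α]
  {p1 p2 p3 p4 : α} {a b : G}

variable (α) in
/-- the points on which `V = ⟨a, b⟩` acts freely -/
def regF (a b : G) : Finset α :=
  Finset.univ.filter (fun u : α => a • u ≠ u ∧ b • u ≠ u ∧ (a * b) • u ≠ u)

theorem mem_regF {a b : G} {u : α} :
    u ∈ regF α a b ↔ a • u ≠ u ∧ b • u ≠ u ∧ (a * b) • u ≠ u := by
  simp [regF]

theorem D4_of_regF (c : Conf p1 p2 p3 p4 a b) {u : α} (hu : u ∈ regF α a b) :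
    D4 u (a • u) (b • u) ((a * b) • u) := by
  rw [mem_regF] at hu
  obtain ⟨h1, h2, h3⟩ := hu
  refine ⟨fun h => h1 h.symm, fun h => h2 h.symm, fun h => h3 h.symm, ?_, ?_, ?_⟩
  · intro h
    apply h3
    rw [mul_smul, ← h, invol_smul_smul c.ha]
  · intro h
    rw [mul_smul] at h
    exact h2 (smul_left_cancel _ h).symm
  · intro h
    rw [mul_smul, c.smul_ab] at h
    exact h1 (smul_left_cancel _ h).symm

variable (hodd : ∀ e : Fin 4 ↪ α, Odd (Nat.card (stabilizer G e)))
include hodd

/-- the points moved by `a`: `p3`, `p4`, the fixed points of `ab` not fixed by `a`, the regular points -/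
theorem moved_a_eq (c : Conf p1 p2 p3 p4 a b) :
    moved α a = ({p3, p4} ∪ (fixF α (a * b) \ fixF α a)) ∪ regF α a b := by
  ext q
  rw [mem_moved, Finset.mem_union, Finset.mem_union, ← c.symm.fixF_sdiff hodd, Finset.mem_sdiff,
    Finset.mem_sdiff, mem_fixF, mem_fixF, mem_fixF, mem_regF]
  constructor
  · intro hqa
    by_cases hqb : b • q = q
    · exact Or.inl (Or.inl ⟨hqb, hqa⟩)
    · by_cases hqz : (a * b) • q = q
      · exact Or.inl (Or.inr ⟨hqz, hqa⟩)
      · exact Or.inr ⟨hqa, hqb, hqz⟩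
  · rintro ((⟨-, h⟩ | ⟨-, h⟩) | ⟨h, -, -⟩) <;> exact h

theorem card_moved_a (c : Conf p1 p2 p3 p4 a b) (hfz : (fixF α (a * b)).card = (fixF α a).card) :
    (moved α a).card = 4 + (regF α a b).card := by
  rw [c.moved_a_eq hodd]
  have hz2 : (fixF α (a * b) \ fixF α a).card = 2 := by
    have h1 := Finset.card_sdiff_add_card_inter (fixF α (a * b)) (fixF α a)
    rw [c.fixF_inter_z, hfz, c.card_fixF_a hodd] at h1
    omega
  have hd1 : Disjoint ({p3, p4} : Finset α) (fixF α (a * b) \ fixF α a) := by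
    rw [Finset.disjoint_left]
    intro q hq hq'
    rw [Finset.mem_sdiff, mem_fixF] at hq'
    rw [Finset.mem_insert, Finset.mem_singleton] at hq
    rcases hq with rfl | rfl
    · rw [c.z3] at hq'; exact c.hD.cd hq'.1.symm
    · rw [c.z4] at hq'; exact c.hD.cd hq'.1
  have hd2 : Disjoint (({p3, p4} : Finset α) ∪ (fixF α (a * b) \ fixF α a)) (regF α a b) := by
    rw [Finset.disjoint_left]
    intro q hq hq'
    rw [mem_regF] at hq'
    rw [Finset.mem_union, Finset.mem_insert, Finset.mem_singleton, Finset.mem_sdiff, mem_fixF] at hq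
    rcases hq with (rfl | rfl) | ⟨h, -⟩
    · exact hq'.2.1 c.b3
    · exact hq'.2.1 c.b4
    · exact hq'.2.2 h
  rw [Finset.card_union_of_disjoint hd2, Finset.card_union_of_disjoint hd1, Finset.card_pair c.hD.cd, hz2]

end fin

end Conf

end Cfsg.Agent.Lib.Helper4.Hall4
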