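import Mathlib
import Cfsg.Agent.Lib.Helper4.Hall4F

set_option autoImplicit false

/-!
# M. Hall's theorem, part G: the order of the centralizer of `V = ⟨a, b⟩`
-/

namespace Cfsg.Agent.Lib.Helper4.Hall4

open MulAction Cfsg.Agent.Lib.Helper1.SharpTrans

/-- the centralizer of `a` and `b` -/
def CV {G : Type*} [Group G] (a b : G) : Subgroup G :=
  Subgroup.centralizer ({a} : Set G) ⊓ Subgroup.centralizer ({b} : Set G)

theorem mem_CV {G : Type*} [Group G] {a b g : G} : g ∈ CV a b ↔ g * a = a * g ∧ g * b = b * g := by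
  rw [CV, Subgroup.mem_inf, Subgroup.mem_centralizer_singleton_iff, Subgroup.mem_centralizer_singleton_iff]

namespace Conf

section

variable {G α : Type*} [Group G] [MulAction G α] {p1 p2 p3 p4 : α} {a b : G}

theorem CV_smul_a {g : G} (hg : g ∈ CV a b) (x : α) : g • a • x = a • g • x := by
  rw [← mul_smul, ← mul_smul, (mem_CV.mp hg).1]

theorem CV_smul_b {g : G} (hg : g ∈ CV a b) (x : α) : g • b • x = b • g • x := by
  rw [← mul_smul, ← mul_smul, (mem_CV.mp hg).2]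

theorem CV_smul_z {g : G} (hg : g ∈ CV a b) (x : α) : g • (a * b) • x = (a * b) • g • x := by
  rw [mul_smul, mul_smul, CV_smul_a hg, CV_smul_b hg]

theorem a_mem_CV (c : Conf p1 p2 p3 p4 a b) : a ∈ CV a b := mem_CV.mpr ⟨rfl, c.hab⟩

theorem b_mem_CV (c : Conf p1 p2 p3 p4 a b) : b ∈ CV a b := mem_CV.mpr ⟨c.hab.symm, rfl⟩

end

section fin

variable {G α : Type*} [Group G] [MulAction G α] [Fintype α] [DecidableEq α]
  {p1 p2 p3 p4 : α} {a b : G}

variable (hodd : ∀ e : Fin 4 ↪ α, Odd (Nat.card (stabilizer G e)))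
include hodd

/-- `|C(V)| = 4 |C(V) ∩ G_{p1 p2 p3 p4}|` -/
theorem card_CV (c : Conf p1 p2 p3 p4 a b) :
    Nat.card (CV a b) = 4 * Nat.card (CV a b ⊓ H4 (G := G) p1 p2 p3 p4 : Subgroup G) := by
  have horb1 : orbit ↥(CV a b) p1 = ↑({p1, p2} : Finset α) := by
    ext q
    rw [mem_orbit_iff, Finset.mem_coe, ← c.fixF_sdiff hodd, Finset.mem_sdiff, mem_fixF, mem_fixF]
    constructor
    · rintro ⟨g, hg⟩
      have hg' : (g : G) • p1 = q := hg
      rw [← hg', ← CV_smul_a g.2, ← CV_smul_b g.2, c.a1, c.b1]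
      exact ⟨rfl, fun h => c.hD.ab (smul_left_cancel _ h).symm⟩
    · intro hq
      have hq' : q ∈ ({p1, p2} : Finset α) := by
        rw [← c.fixF_sdiff hodd, Finset.mem_sdiff, mem_fixF, mem_fixF]; exact hq
      rw [Finset.mem_insert, Finset.mem_singleton] at hq'
      rcases hq' with rfl | rfl
      · exact ⟨1, one_smul _ _⟩
      · exact ⟨⟨b, c.b_mem_CV⟩, c.b1⟩
  set C1 := CV a b ⊓ stabilizer G p1 with hC1
  have horb2 : orbit ↥C1 p3 = ↑({p3, p4} : Finset α) := by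
    ext q
    rw [mem_orbit_iff, Finset.mem_coe, ← c.symm.fixF_sdiff hodd, Finset.mem_sdiff, mem_fixF, mem_fixF]
    constructor
    · rintro ⟨g, hg⟩
      have hg' : (g : G) • p3 = q := hg
      have hgC : (g : G) ∈ CV a b := (Subgroup.mem_inf.mp g.2).1
      rw [← hg', ← CV_smul_a hgC, ← CV_smul_b hgC, c.a3, c.b3]
      exact ⟨rfl, fun h => c.hD.cd (smul_left_cancel _ h).symm⟩
    · intro hq
      have hq' : q ∈ ({p3, p4} : Finset α) := by
        rw [← c.symm.fixF_sdiff hodd, Finset.mem_sdiff, mem_fixF, mem_fixF]; exact hq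
      rw [Finset.mem_insert, Finset.mem_singleton] at hq'
      rcases hq' with rfl | rfl
      · exact ⟨1, one_smul _ _⟩
      · exact ⟨⟨a, Subgroup.mem_inf.mpr ⟨c.a_mem_CV, mem_stabilizer_iff.mpr c.a1⟩⟩, c.a3⟩
  have hstab : C1 ⊓ stabilizer G p3 = CV a b ⊓ H4 (G := G) p1 p2 p3 p4 := by
    ext g
    rw [hC1, Subgroup.mem_inf, Subgroup.mem_inf, Subgroup.mem_inf, mem_stabilizer_iff,
      mem_stabilizer_iff, mem_H4]
    constructor
    · rintro ⟨⟨hg, g1⟩, g3⟩
      refine ⟨hg, g1, ?_, g3, ?_⟩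
      · rw [← c.b1, CV_smul_b hg, g1]
      · rw [← c.a3, CV_smul_a hg, g3]
    · rintro ⟨hg, g1, -, g3, -⟩
      exact ⟨⟨hg, g1⟩, g3⟩
  rw [card_eq_orbit_mul_inf (CV a b) p1, horb1, Set.ncard_coe_finset, Finset.card_pair c.hD.ab,
    ← hC1, card_eq_orbit_mul_inf C1 p3, horb2, Set.ncard_coe_finset, Finset.card_pair c.hD.cd, hstab]
  ring

variable [IsMultiplyPretransitive G α 4]

/-- `C(V)` is transitive on the regular points of `V` -/
theorem exists_CV_map (c : Conf p1 p2 p3 p4 a b) {u u' : α} (hu : u ∈ regF α a b)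
    (hu' : u' ∈ regF α a b) : ∃ k ∈ CV a b, k • u = u' := by
  have hD := c.D4_of_regF hu
  have hD' := c.D4_of_regF hu'
  -- first step: centralize `a`
  obtain ⟨k1, hk1, k11, k12, k13, k14⟩ := exists_centralizing hodd c.ha hD hD' (by
    intro g g1 g2 g3 g4
    refine ⟨g2.symm, ?_, ?_, ?_⟩
    · rw [invol_smul_smul c.ha, invol_smul_smul c.ha, g1]
    · rw [← mul_smul a b u', ← mul_smul a b u, g4]
    · rw [mul_smul a b u', mul_smul a b u, invol_smul_smul c.ha, invol_smul_smul c.ha, g3])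
  have hk1a : k1 * a = a * k1 := Subgroup.mem_centralizer_singleton_iff.mp hk1
  -- second step: centralize `b` by an element commuting with `a`
  have ki1 : k1⁻¹ • u' = u := by rw [inv_smul_eq_iff, k11]
  have ki2 : k1⁻¹ • (a • u') = a • u := by rw [inv_smul_eq_iff, k12]
  have ki3 : k1⁻¹ • (b • u') = b • u := by rw [inv_smul_eq_iff, k13]
  have ki4 : k1⁻¹ • ((a * b) • u') = (a * b) • u := by rw [inv_smul_eq_iff, k14]
  set s := k1 * b * k1⁻¹ with hs
  have hss : s * s = 1 := by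
    rw [hs]
    calc k1 * b * k1⁻¹ * (k1 * b * k1⁻¹) = k1 * (b * b) * k1⁻¹ := by group
      _ = 1 := by rw [c.hb]; group
  have hsa : s * a = a * s := by
    rw [hs]
    calc k1 * b * k1⁻¹ * a = k1 * b * (k1⁻¹ * a * k1) * k1⁻¹ := by group
      _ = k1 * b * (k1⁻¹ * (a * k1)) * k1⁻¹ := by group
      _ = k1 * b * (k1⁻¹ * (k1 * a)) * k1⁻¹ := by rw [hk1a]
      _ = k1 * (b * a) * k1⁻¹ := by group
      _ = k1 * (a * b) * k1⁻¹ := by rw [c.hab]
      _ = (k1 * a) * b * k1⁻¹ := by group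
      _ = (a * k1) * b * k1⁻¹ := by rw [hk1a]
      _ = a * (k1 * b * k1⁻¹) := by group
  have hmem : s * b ∈ H4 (G := G) u' (a • u') (b • u') ((a * b) • u') := by
    rw [mem_H4]
    have e1 : b • (a * b) • u' = a • u' := by
      rw [mul_smul, ← c.smul_ab, invol_smul_smul c.hb]
    have e2 : b • (a * b) • u = a • u := by
      rw [mul_smul, ← c.smul_ab, invol_smul_smul c.hb]
    refine ⟨?_, ?_, ?_, ?_⟩
    · rw [mul_smul, hs, mul_smul, mul_smul, ki3, invol_smul_smul c.hb, k11]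
    · rw [mul_smul, ← c.smul_ab, ← mul_smul a b u', hs, mul_smul, mul_smul, ki4, e2, k12]
    · rw [mul_smul, invol_smul_smul c.hb, hs, mul_smul, mul_smul, ki1, k13]
    · rw [mul_smul, e1, hs, mul_smul, mul_smul, ki2, ← c.smul_ab u, ← mul_smul a b u, k14]
  obtain ⟨x, hxz, hxs⟩ := invol_conj hss c.hb (odd_orderOf_of_mem_H4 hodd hD' hmem)
  have hxH : x ∈ H4 (G := G) u' (a • u') (b • u') ((a * b) • u') := by
    have : Subgroup.zpowers (s * b) ≤ H4 (G := G) u' (a • u') (b • u') ((a * b) • u') := by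
      rw [Subgroup.zpowers_le]; exact hmem
    exact this hxz
  have hxa : x * a = a * x := by
    have hsba : (s * b) * a = a * (s * b) := by
      rw [mul_assoc, ← c.hab, ← mul_assoc, hsa, mul_assoc]
    have : Subgroup.zpowers (s * b) ≤ Subgroup.centralizer ({a} : Set G) := by
      rw [Subgroup.zpowers_le, Subgroup.mem_centralizer_singleton_iff]; exact hsba
    exact Subgroup.mem_centralizer_singleton_iff.mp (this hxz)
  refine ⟨x⁻¹ * k1, mem_CV.mpr ⟨?_, ?_⟩, ?_⟩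
  · calc x⁻¹ * k1 * a = x⁻¹ * (k1 * a) := by group
      _ = x⁻¹ * (a * k1) := by rw [hk1a]
      _ = x⁻¹ * (a * x) * x⁻¹ * k1 := by group
      _ = x⁻¹ * (x * a) * x⁻¹ * k1 := by rw [hxa]
      _ = a * (x⁻¹ * k1) := by group
  · have h1 : x * b * x⁻¹ = k1 * b * k1⁻¹ := hxs
    have h2 : b = x⁻¹ * (k1 * b * k1⁻¹) * x := by rw [← h1]; group
    calc x⁻¹ * k1 * b = x⁻¹ * (k1 * b * k1⁻¹) * x * (x⁻¹ * k1) := by group
      _ = b * (x⁻¹ * k1) := by rw [← h2]
  · rw [mul_smul, k11, inv_smul_eq_iff]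
    exact ((mem_H4.mp hxH).1).symm

/-- `|C(V)| = r |C(V) ∩ G_{u, au, bu, abu}|` for a regular point `u`, `r` the number of regular points -/
theorem card_CV_reg (c : Conf p1 p2 p3 p4 a b) {u : α} (hu : u ∈ regF α a b) :
    Nat.card (CV a b) = (regF α a b).card *
      Nat.card (CV a b ⊓ H4 (G := G) u (a • u) (b • u) ((a * b) • u) : Subgroup G) := by
  have horb : orbit ↥(CV a b) u = ↑(regF α a b) := by
    ext q
    rw [mem_orbit_iff, Finset.mem_coe]
    constructor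
    · rintro ⟨g, hg⟩
      have hg' : (g : G) • u = q := hg
      rw [mem_regF] at hu ⊢
      rw [← hg', ← CV_smul_a g.2, ← CV_smul_b g.2, ← CV_smul_z g.2]
      exact ⟨fun h => hu.1 (smul_left_cancel _ h), fun h => hu.2.1 (smul_left_cancel _ h),
        fun h => hu.2.2 (smul_left_cancel _ h)⟩
    · intro hq
      obtain ⟨k, hk, hku⟩ := c.exists_CV_map hodd hu hq
      exact ⟨⟨k, hk⟩, hku⟩
  have hstab : CV a b ⊓ stabilizer G u = CV a b ⊓ H4 (G := G) u (a • u) (b • u) ((a * b) • u) := by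
    ext g
    rw [Subgroup.mem_inf, Subgroup.mem_inf, mem_stabilizer_iff, mem_H4]
    constructor
    · rintro ⟨hg, g1⟩
      refine ⟨hg, g1, ?_, ?_, ?_⟩
      · rw [CV_smul_a hg, g1]
      · rw [CV_smul_b hg, g1]
      · rw [CV_smul_z hg, g1]
    · rintro ⟨hg, g1, -, -, -⟩
      exact ⟨hg, g1⟩
  rw [card_eq_orbit_mul_inf (CV a b) u, horb, Set.ncard_coe_finset, hstab]

end fin

end Conf

end Cfsg.Agent.Lib.Helper4.Hall4
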