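import Mathlib
import Cfsg.Agent.Lib.Helper4.Hall4G
import Cfsg.Agent.Lib.Helper3.BW3

set_option autoImplicit false

/-!
# M. Hall's theorem, part H: the Brauer–Wielandt formula for the four-group `V`
-/

namespace Cfsg.Agent.Lib.Helper4.Hall4

open MulAction Cfsg.Agent.Lib.Helper1.SharpTrans Cfsg.Agent.Lib.Helper3.BW Cfsg.Agent.Lib.Helper3.Gen

section four

variable {G : Type*} [Group G]

/-- the four-group `{1, a, b, ab}` -/
def V4 (a b : G) (ha : a * a = 1) (hb : b * b = 1) (hab : a * b = b * a) : Subgroup G where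
  carrier := {1, a, b, a * b}
  one_mem' := Or.inl rfl
  mul_mem' := by
    have e1 : a * (a * b) = b := by rw [← mul_assoc, ha, one_mul]
    have e2 : b * a = a * b := hab.symm
    have e3 : b * (a * b) = a := by rw [← mul_assoc, e2, mul_assoc, hb, mul_one]
    have e4 : a * b * a = b := by rw [mul_assoc, e2, e1]
    have e5 : a * b * b = a := by rw [mul_assoc, hb, mul_one]
    have e6 : a * b * (a * b) = 1 := by rw [mul_assoc, e3, ha]
    rintro x y (rfl | rfl | rfl | rfl) (rfl | rfl | rfl | rfl) <;>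
      simp only [one_mul, mul_one, ha, hb, e1, e2, e3, e4, e5, e6, Set.mem_insert_iff,
        Set.mem_singleton_iff, true_or, or_true]
  inv_mem' := by
    have e6 : a * b * (a * b) = 1 := by
      rw [mul_assoc, ← mul_assoc b a b, hab.symm, mul_assoc a b b, hb, mul_one, ha]
    rintro x (rfl | rfl | rfl | rfl)
    · simp
    · rw [inv_eq_self_of_sq ha]; simp
    · rw [inv_eq_self_of_sq hb]; simp
    · rw [inv_eq_self_of_sq e6]; simp

variable {a b : G} {ha : a * a = 1} {hb : b * b = 1} {hab : a * b = b * a}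

theorem mem_V4 {x : G} : x ∈ V4 a b ha hb hab ↔ x = 1 ∨ x = a ∨ x = b ∨ x = a * b := Iff.rfl

theorem V4_le {K : Subgroup G} (h1 : a ∈ K) (h2 : b ∈ K) : V4 a b ha hb hab ≤ K := by
  rintro x (rfl | rfl | rfl | rfl)
  · exact K.one_mem
  · exact h1
  · exact h2
  · exact K.mul_mem h1 h2

theorem centralizer_V4 :
    Subgroup.centralizer ((V4 a b ha hb hab : Subgroup G) : Set G) = CV a b := by
  apply le_antisymm
  · intro g hg
    rw [Subgroup.mem_centralizer_iff] at hg
    rw [mem_CV]
    exact ⟨(hg a (Or.inr (Or.inl rfl))).symm, (hg b (Or.inr (Or.inr (Or.inl rfl)))).symm⟩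
  · intro g hg
    have h1 : V4 a b ha hb hab ≤ Subgroup.centralizer ({g} : Set G) := by
      apply V4_le
      · rw [Subgroup.mem_centralizer_singleton_iff]; exact ((mem_CV.mp hg).1).symm
      · rw [Subgroup.mem_centralizer_singleton_iff]; exact ((mem_CV.mp hg).2).symm
    rw [Subgroup.mem_centralizer_iff]
    intro x hx
    exact Subgroup.mem_centralizer_singleton_iff.mp (h1 hx)

theorem V4_elementary : Cfsg.IsElementaryAbelian 2 (V4 a b ha hb hab) := by
  have e6 : a * b * (a * b) = 1 := by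
    rw [mul_assoc, ← mul_assoc b a b, hab.symm, mul_assoc a b b, hb, mul_one, ha]
  constructor
  · refine ⟨⟨?_⟩⟩
    rintro ⟨x, hx⟩ ⟨y, hy⟩
    apply Subtype.ext
    show x * y = y * x
    have hc : V4 a b ha hb hab ≤ Subgroup.centralizer ((V4 a b ha hb hab : Subgroup G) : Set G) := by
      rw [centralizer_V4]
      apply V4_le
      · exact mem_CV.mpr ⟨rfl, hab⟩
      · exact mem_CV.mpr ⟨hab.symm, rfl⟩
    exact ((Subgroup.mem_centralizer_iff.mp (hc hy)) x hx)
  · rintro x (rfl | rfl | rfl | rfl)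
    · simp
    · rw [pow_two, ha]
    · rw [pow_two, hb]
    · rw [pow_two, e6]

variable [Finite G]

theorem elems_V4 [DecidableEq G] : elems (V4 a b ha hb hab) = {1, a, b, a * b} := by
  ext x
  rw [mem_elems, mem_V4]
  simp only [Finset.mem_insert, Finset.mem_singleton]

omit [Finite G] in
theorem notMem_four [DecidableEq G] (h1 : a ≠ 1) (h2 : b ≠ 1) (h3 : a ≠ b) (h4 : a * b ≠ 1)
    (h5 : a * b ≠ a) (h6 : a * b ≠ b) :
    (1 : G) ∉ ({a, b, a * b} : Finset G) ∧ a ∉ ({b, a * b} : Finset G) ∧ b ∉ ({a * b} : Finset G) := by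
  refine ⟨?_, ?_, ?_⟩
  · simp only [Finset.mem_insert, Finset.mem_singleton]
    rintro (h | h | h)
    · exact h1 h.symm
    · exact h2 h.symm
    · exact h4 h.symm
  · simp only [Finset.mem_insert, Finset.mem_singleton]
    rintro (h | h)
    · exact h3 h
    · exact h5 h.symm
  · simp only [Finset.mem_singleton]
    exact fun h => h6 h.symm

theorem card_V4 (h1 : a ≠ 1) (h2 : b ≠ 1) (h3 : a ≠ b) (h4 : a * b ≠ 1) (h5 : a * b ≠ a)
    (h6 : a * b ≠ b) : Nat.card (V4 a b ha hb hab) = 2 ^ 2 := by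
  classical
  obtain ⟨n1, n2, n3⟩ := notMem_four h1 h2 h3 h4 h5 h6
  rw [← card_elems, elems_V4, Finset.card_insert_of_notMem n1, Finset.card_insert_of_notMem n2,
    Finset.card_insert_of_notMem n3, Finset.card_singleton]
  norm_num

/-- the Brauer–Wielandt formula for the four-group -/
theorem bw_four (h1 : a ≠ 1) (h2 : b ≠ 1) (h3 : a ≠ b) (h4 : a * b ≠ 1) (h5 : a * b ≠ a)
    (h6 : a * b ≠ b) (K : Subgroup G) (hVK : V4 a b ha hb hab ≤ Subgroup.normalizer (K : Set G))
    (hK : Odd (Nat.card K)) :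
    Nat.card (K ⊓ Subgroup.centralizer ({a} : Set G) : Subgroup G) *
      Nat.card (K ⊓ Subgroup.centralizer ({b} : Set G) : Subgroup G) *
      Nat.card (K ⊓ Subgroup.centralizer ({a * b} : Set G) : Subgroup G) =
    Nat.card K * Nat.card (K ⊓ CV a b : Subgroup G) ^ 2 := by
  classical
  have : Fact (Nat.Prime 2) := ⟨Nat.prime_two⟩
  have hK2 : ¬ 2 ∣ Nat.card K := by
    rw [← Nat.not_even_iff_odd] at hK
    exact fun h => hK (even_iff_two_dvd.mpr h)
  have hbw := bw (p := 2) (V4_elementary (ha := ha) (hb := hb) (hab := hab))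
    (card_V4 h1 h2 h3 h4 h5 h6) K hVK hK2
  unfold fE gE at hbw
  obtain ⟨n1, n2, n3⟩ := notMem_four h1 h2 h3 h4 h5 h6
  rw [elems_V4, centralizer_V4, Finset.prod_insert n1, Finset.prod_insert n2, Finset.prod_insert n3,
    Finset.prod_singleton] at hbw
  have h0 : K ⊓ Subgroup.centralizer ({1} : Set G) = K := by
    apply inf_eq_left.mpr
    intro g _
    rw [Subgroup.mem_centralizer_singleton_iff, one_mul, mul_one]
  rw [h0] at hbw
  have hpos : 0 < Nat.card K := Nat.card_pos
  have : Nat.card K * (Nat.card (K ⊓ Subgroup.centralizer ({a} : Set G) : Subgroup G) *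
      Nat.card (K ⊓ Subgroup.centralizer ({b} : Set G) : Subgroup G) *
      Nat.card (K ⊓ Subgroup.centralizer ({a * b} : Set G) : Subgroup G)) =
      Nat.card K * (Nat.card K * Nat.card (K ⊓ CV a b : Subgroup G) ^ 2) := by
    rw [← mul_assoc (Nat.card K) (Nat.card K), ← pow_two]
    calc _ = _ := by ring
      _ = _ := hbw
      _ = _ := by norm_num
  exact Nat.eq_of_mul_eq_mul_left hpos this

end four

section norm

variable {G α : Type*} [Group G] [MulAction G α]

/-- an involution permuting four points normalizes their pointwise stabilizer -/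
theorem invol_mem_normalizer_H4 {t : G} (ht : t * t = 1) {w x y z : α}
    (hperm : ∀ q : α, (q = w ∨ q = x ∨ q = y ∨ q = z) → (t • q = w ∨ t • q = x ∨ t • q = y ∨ t • q = z)) :
    t ∈ Subgroup.normalizer ((H4 (G := G) w x y z : Subgroup G) : Set G) := by
  have hti : t⁻¹ = t := inv_eq_self_of_sq ht
  have key : ∀ h : G, h ∈ H4 (G := G) w x y z → t * h * t⁻¹ ∈ H4 (G := G) w x y z := by
    intro h hh
    rw [mem_H4] at hh ⊢
    obtain ⟨hw, hx, hy, hz⟩ := hh
    have hfix : ∀ q : α, (q = w ∨ q = x ∨ q = y ∨ q = z) → h • q = q := by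
      rintro q (rfl | rfl | rfl | rfl) <;> assumption
    have aux : ∀ q : α, (q = w ∨ q = x ∨ q = y ∨ q = z) → (t * h * t⁻¹) • q = q := by
      intro q hq
      rw [hti, mul_smul, mul_smul, hfix _ (hperm q hq), invol_smul_smul ht]
    exact ⟨aux w (Or.inl rfl), aux x (Or.inr (Or.inl rfl)), aux y (Or.inr (Or.inr (Or.inl rfl))),
      aux z (Or.inr (Or.inr (Or.inr rfl)))⟩
  rw [Subgroup.mem_normalizer_iff]
  intro h
  constructor
  · exact key h
  · intro hh
    have := key _ hh
    have e : t * (t * h * t⁻¹) * t⁻¹ = h := by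
      rw [hti]
      calc t * (t * h * t) * t = (t * t) * h * (t * t) := by group
        _ = h := by rw [ht, one_mul, mul_one]
    rwa [e] at this

end norm

end Cfsg.Agent.Lib.Helper4.Hall4
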