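import Mathlib
import Cfsg.Agent.Lib.Helper4.Hall4H

set_option autoImplicit false

/-!
# M. Hall's theorem, part I: the main count
-/

namespace Cfsg.Agent.Lib.Helper4.Hall4

open MulAction Cfsg.Agent.Lib.Helper1.SharpTrans

theorem hall_arith (N M r f h e ea eb d du ωa ωb : ℕ)
    (hM : M = 4 + r) (hr : 1 ≤ r) (hf : f ≤ 3)
    (hN1 : N = M * (M - 2) * e)
    (hNa : N = ωa * (M * ea)) (hNb : N = ωb * (M * eb))
    (hωa : ωa ≤ f * (f - 1)) (hωb : ωb ≤ f * (f - 1))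
    (hbw : ea * eb * e = h * d ^ 2)
    (hbwu : e * e * e = h * du ^ 2)
    (hCV : 4 * d = r * du)
    (hd : Odd d) (he : 0 < e) :
    r = 4 ∧ f = 3 ∧ d = du := by
  have hM2 : M - 2 = r + 2 := by omega
  have hMpos : 0 < M := by omega
  rw [hM2] at hN1
  have h1 : M * M * (ωa * ωb * (ea * eb)) = M * M * ((r + 2) * (r + 2) * (e * e)) := by
    calc M * M * (ωa * ωb * (ea * eb)) = (ωa * (M * ea)) * (ωb * (M * eb)) := by ring
      _ = N * N := by rw [← hNa, ← hNb]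
      _ = (M * (r + 2) * e) * (M * (r + 2) * e) := by rw [← hN1]
      _ = M * M * ((r + 2) * (r + 2) * (e * e)) := by ring
  have h2 : ωa * ωb * (ea * eb) = (r + 2) * (r + 2) * (e * e) :=
    Nat.eq_of_mul_eq_mul_left (Nat.mul_pos hMpos hMpos) h1
  have h3 : e * (16 * (ea * eb)) = e * (r * r * (e * e)) := by
    calc e * (16 * (ea * eb)) = 16 * (ea * eb * e) := by ring
      _ = 16 * (h * d ^ 2) := by rw [hbw]
      _ = h * ((4 * d) * (4 * d)) := by ring
      _ = h * ((r * du) * (r * du)) := by rw [hCV]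
      _ = r * r * (h * du ^ 2) := by ring
      _ = r * r * (e * e * e) := by rw [hbwu]
      _ = e * (r * r * (e * e)) := by ring
  have h4 : 16 * (ea * eb) = r * r * (e * e) := Nat.eq_of_mul_eq_mul_left he h3
  have h5 : (e * e) * (16 * ((r + 2) * (r + 2))) = (e * e) * (ωa * ωb * (r * r)) := by
    calc (e * e) * (16 * ((r + 2) * (r + 2))) = 16 * ((r + 2) * (r + 2) * (e * e)) := by ring
      _ = 16 * (ωa * ωb * (ea * eb)) := by rw [h2]
      _ = ωa * ωb * (16 * (ea * eb)) := by ring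
      _ = ωa * ωb * (r * r * (e * e)) := by rw [h4]
      _ = (e * e) * (ωa * ωb * (r * r)) := by ring
  have h6 : 16 * ((r + 2) * (r + 2)) = ωa * ωb * (r * r) :=
    Nat.eq_of_mul_eq_mul_left (Nat.mul_pos he he) h5
  have hf6 : f * (f - 1) ≤ 6 := by interval_cases f <;> simp
  have hωa6 : ωa ≤ 6 := hωa.trans hf6
  have hωb6 : ωb ≤ 6 := hωb.trans hf6
  have hr8 : r ∣ 8 := by
    have hsq : r ^ 2 ∣ (4 * (r + 2)) ^ 2 := by
      refine ⟨ωa * ωb, ?_⟩
      calc (4 * (r + 2)) ^ 2 = 16 * ((r + 2) * (r + 2)) := by ring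
        _ = ωa * ωb * (r * r) := h6
        _ = r ^ 2 * (ωa * ωb) := by ring
    have h7 : r ∣ 4 * (r + 2) := (Nat.pow_dvd_pow_iff (by norm_num)).mp hsq
    have h8 : r ∣ 4 * r + 8 := by
      have : 4 * (r + 2) = 4 * r + 8 := by ring
      rwa [this] at h7
    exact (Nat.dvd_add_right (Dvd.intro_left 4 rfl)).mp h8
  have hr8' : r ≤ 8 := Nat.le_of_dvd (by norm_num) hr8
  have hW : ωa * ωb ≤ 36 := Nat.mul_le_mul hωa6 hωb6
  obtain ⟨kd, hkd⟩ := hd
  interval_cases r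
  · exfalso; omega
  · exfalso; omega
  · exfalso; omega
  · have hW36 : ωa * ωb = 36 := by omega
    have hωa' : ωa = 6 := by
      by_contra hne
      have : ωa ≤ 5 := by omega
      have : ωa * ωb ≤ 5 * 6 := Nat.mul_le_mul this hωb6
      omega
    refine ⟨rfl, ?_, by omega⟩
    rw [hωa'] at hωa
    interval_cases f <;> simp_all
  · exfalso; omega
  · exfalso; omega
  · exfalso; omega
  · exfalso; omega

section perm

variable {G α : Type*} [Group G] [MulAction G α]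

theorem H4_swap23 (w x y z : α) : H4 (G := G) w x y z = H4 (G := G) w y x z := by
  ext g; rw [mem_H4, mem_H4]; tauto

theorem H4_rot (w x y z : α) : H4 (G := G) w x y z = H4 (G := G) y z w x := by
  ext g; rw [mem_H4, mem_H4]; tauto

theorem H4_perm2 (w x y z : α) : H4 (G := G) w x y z = H4 (G := G) w z x y := by
  ext g; rw [mem_H4, mem_H4]; tauto

theorem card_H4_eq [IsMultiplyPretransitive G α 4] {a b c d a' b' c' d' : α} (h : D4 a b c d)
    (h' : D4 a' b' c' d') :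
    Nat.card (H4 (G := G) a b c d) = Nat.card (H4 (G := G) a' b' c' d') := by
  obtain ⟨g, g1, g2, g3, g4⟩ := exists_map4 (G := G) h h'
  have gi1 : g⁻¹ • a' = a := by rw [inv_smul_eq_iff, g1]
  have gi2 : g⁻¹ • b' = b := by rw [inv_smul_eq_iff, g2]
  have gi3 : g⁻¹ • c' = c := by rw [inv_smul_eq_iff, g3]
  have gi4 : g⁻¹ • d' = d := by rw [inv_smul_eq_iff, g4]
  apply Nat.card_congr
  refine ⟨fun x => ⟨g * x.1 * g⁻¹, ?_⟩, fun x => ⟨g⁻¹ * x.1 * g, ?_⟩, ?_, ?_⟩
  · obtain ⟨x1, x2, x3, x4⟩ := mem_H4.mp x.2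
    rw [mem_H4]
    refine ⟨?_, ?_, ?_, ?_⟩ <;> rw [mul_smul, mul_smul]
    · rw [gi1, x1, g1]
    · rw [gi2, x2, g2]
    · rw [gi3, x3, g3]
    · rw [gi4, x4, g4]
  · obtain ⟨x1, x2, x3, x4⟩ := mem_H4.mp x.2
    rw [mem_H4]
    refine ⟨?_, ?_, ?_, ?_⟩ <;> rw [mul_smul, mul_smul]
    · rw [g1, x1, gi1]
    · rw [g2, x2, gi2]
    · rw [g3, x3, gi3]
    · rw [g4, x4, gi4]
  · intro x; ext; simp only; group
  · intro x; ext; simp only; group

end perm

end Cfsg.Agent.Lib.Helper4.Hall4
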