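import Mathlib
import Cfsg.Agent.Lib.Helper4.Hall4I

set_option autoImplicit false

/-!
# M. Hall's theorem, part J: degree at least 8 forces degree 11
-/

namespace Cfsg.Agent.Lib.Helper4.Hall4

open MulAction Cfsg.Agent.Lib.Helper1.SharpTrans

namespace Conf

section

variable {G α : Type*} [Group G] [MulAction G α] {p1 p2 p3 p4 : α} {a b : G}

theorem z_smul_a (c : Conf p1 p2 p3 p4 a b) (x : α) : (a * b) • a • x = b • x := by
  rw [mul_smul, ← c.smul_ab, invol_smul_smul c.ha]

theorem V4_le_normalizer_H (c : Conf p1 p2 p3 p4 a b) :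
    V4 a b c.ha c.hb c.hab ≤
      Subgroup.normalizer ((H4 (G := G) p1 p2 p3 p4 : Subgroup G) : Set G) := by
  apply V4_le
  · apply invol_mem_normalizer_H4 c.ha
    rintro q (rfl | rfl | rfl | rfl)
    · exact Or.inl c.a1
    · exact Or.inr (Or.inl c.a2)
    · exact Or.inr (Or.inr (Or.inr c.a3))
    · exact Or.inr (Or.inr (Or.inl c.a4))
  · apply invol_mem_normalizer_H4 c.hb
    rintro q (rfl | rfl | rfl | rfl)
    · exact Or.inr (Or.inl c.b1)
    · exact Or.inl c.b2
    · exact Or.inr (Or.inr (Or.inl c.b3))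
    · exact Or.inr (Or.inr (Or.inr c.b4))

theorem V4_le_normalizer_Hu (c : Conf p1 p2 p3 p4 a b) (u : α) :
    V4 a b c.ha c.hb c.hab ≤
      Subgroup.normalizer ((H4 (G := G) u (a • u) (b • u) ((a * b) • u) : Subgroup G) : Set G) := by
  apply V4_le
  · apply invol_mem_normalizer_H4 c.ha
    rintro q (rfl | rfl | rfl | rfl)
    · exact Or.inr (Or.inl rfl)
    · exact Or.inl (invol_smul_smul c.ha _)
    · exact Or.inr (Or.inr (Or.inr (mul_smul a b _).symm))
    · exact Or.inr (Or.inr (Or.inl (by rw [mul_smul, invol_smul_smul c.ha])))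
  · apply invol_mem_normalizer_H4 c.hb
    rintro q (rfl | rfl | rfl | rfl)
    · exact Or.inr (Or.inr (Or.inl rfl))
    · exact Or.inr (Or.inr (Or.inr (by rw [← c.smul_ab, mul_smul])))
    · exact Or.inl (invol_smul_smul c.hb _)
    · exact Or.inr (Or.inl (by rw [mul_smul, ← c.smul_ab, invol_smul_smul c.hb]))

end

section fin

variable {G α : Type*} [Group G] [Finite G] [MulAction G α] [Fintype α] [DecidableEq α]
  {p1 p2 p3 p4 : α} {a b : G}

variable (hodd : ∀ e : Fin 4 ↪ α, Odd (Nat.card (stabilizer G e))) [IsMultiplyPretransitive G α 4]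
include hodd

/-- `|C(t)| = M (M - 2) e` for `t = ab` -/
theorem card_centralizer_z (c : Conf p1 p2 p3 p4 a b) :
    Nat.card (Subgroup.centralizer ({a * b} : Set G)) =
      (moved α (a * b)).card * ((moved α (a * b)).card - 2) *
        Nat.card (Subgroup.centralizer ({a * b} : Set G) ⊓ H4 (G := G) p1 p2 p3 p4 : Subgroup G) := by
  have hp13 : (p1, p3) ∈ pairsP α (a * b) := by
    rw [mem_pairsP, mem_pairsOf, c.z1, c.z3]
    exact ⟨c.hD.ab.symm, c.hD.cd.symm, c.hD.ac.symm, c.hD.bc.symm⟩
  have E1 := card_centralizer_two_cycles hodd c.hz hp13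
  rw [c.z1, c.z3] at E1
  exact E1

/-- the three centralizer orders in the stabilizer of a regular orbit -/
theorem card_centralizer_reg (c : Conf p1 p2 p3 p4 a b) {u : α} (hu : u ∈ regF α a b) :
    Nat.card (Subgroup.centralizer ({a} : Set G)) =
      (moved α a).card * ((moved α a).card - 2) *
        Nat.card (Subgroup.centralizer ({a} : Set G) ⊓
          H4 (G := G) u (a • u) (b • u) ((a * b) • u) : Subgroup G) ∧
    Nat.card (Subgroup.centralizer ({b} : Set G)) =
      (moved α b).card * ((moved α b).card - 2) *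
        Nat.card (Subgroup.centralizer ({b} : Set G) ⊓
          H4 (G := G) u (a • u) (b • u) ((a * b) • u) : Subgroup G) ∧
    Nat.card (Subgroup.centralizer ({a * b} : Set G)) =
      (moved α (a * b)).card * ((moved α (a * b)).card - 2) *
        Nat.card (Subgroup.centralizer ({a * b} : Set G) ⊓
          H4 (G := G) u (a • u) (b • u) ((a * b) • u) : Subgroup G) := by
  have hDu := c.D4_of_regF hu
  have hu' := mem_regF.mp hu
  refine ⟨?_, ?_, ?_⟩
  · have hpa : (u, b • u) ∈ pairsP α a := by
      rw [mem_pairsP, mem_pairsOf]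
      refine ⟨hu'.1, ?_, hDu.ac.symm, hDu.bc.symm⟩
      rw [c.smul_ab]
      exact fun h => hu'.1 (smul_left_cancel _ h)
    have E := card_centralizer_two_cycles hodd c.ha hpa
    rw [← mul_smul a b u] at E
    exact E
  · have hpb : (u, a • u) ∈ pairsP α b := by
      rw [mem_pairsP, mem_pairsOf]
      refine ⟨hu'.2.1, ?_, hDu.ab.symm, hDu.bc⟩
      rw [← c.smul_ab]
      exact fun h => hu'.2.1 (smul_left_cancel _ h)
    have E := card_centralizer_two_cycles hodd c.hb hpb
    rw [← c.smul_ab u, ← mul_smul a b u, H4_swap23] at E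
    exact E
  · have hpz : (u, a • u) ∈ pairsP α (a * b) := by
      rw [mem_pairsP, mem_pairsOf]
      refine ⟨hu'.2.2, ?_, hDu.ab.symm, hDu.bd⟩
      rw [c.z_smul_a]
      exact hDu.bc.symm
    have E := card_centralizer_two_cycles hodd c.hz hpz
    rw [c.z_smul_a, ← H4_perm2 u (a • u) (b • u) ((a * b) • u)] at E
    exact E

end fin

end Conf

end Cfsg.Agent.Lib.Helper4.Hall4
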