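import Mathlib
import Cfsg.Agent.Lib.Helper4.Hall4I
import Cfsg.Agent.Lib.Helper4.Hall4J

set_option autoImplicit false

/-!
# M. Hall's theorem: the main count

For degree at least 8 the three involutions of the four-group are conjugate; comparing the orders of
their centralizers and the two Brauer–Wielandt formulas gives `r = 4`, `f = 3`, hence degree 11.
-/

namespace Cfsg.Agent.Lib.Helper4.Hall4

open MulAction Cfsg.Agent.Lib.Helper1.SharpTrans

namespace Conf

section fin

variable {G α : Type*} [Group G] [Finite G] [MulAction G α] [Fintype α] [DecidableEq α]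
  {p1 p2 p3 p4 : α} {a b : G}

variable (hodd : ∀ e : Fin 4 ↪ α, Odd (Nat.card (stabilizer G e))) [IsMultiplyPretransitive G α 4]
include hodd

omit [Finite G] in
/-- for degree at least 8 the three involutions have the same numerical data -/
theorem conj_data (hn : 8 ≤ Fintype.card α) (c : Conf p1 p2 p3 p4 a b) :
    (fixF α a).card = (fixF α (a * b)).card ∧ (fixF α b).card = (fixF α (a * b)).card ∧
    (moved α a).card = (moved α (a * b)).card ∧ (moved α b).card = (moved α (a * b)).card ∧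
    Nat.card (Subgroup.centralizer ({a} : Set G)) =
      Nat.card (Subgroup.centralizer ({a * b} : Set G)) ∧
    Nat.card (Subgroup.centralizer ({b} : Set G)) =
      Nat.card (Subgroup.centralizer ({a * b} : Set G)) := by
  obtain ⟨g, hg⟩ := invol_conj_all hodd hn c.ha c.a_ne_one c.hz c.z_ne_one
  obtain ⟨k, hk⟩ := invol_conj_all hodd hn c.hb c.b_ne_one c.hz c.z_ne_one
  have h1 := card_fixF_conj (α := α) g (a * b)
  have h2 := card_fixF_conj (α := α) k (a * b)
  have h3 := card_moved_conj (α := α) g (a * b)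
  have h4 := card_moved_conj (α := α) k (a * b)
  have h5 := card_centralizer_conj g (a * b)
  have h6 := card_centralizer_conj k (a * b)
  rw [hg] at h1 h3 h5
  rw [hk] at h2 h4 h6
  exact ⟨h1, h2, h3, h4, h5, h6⟩

/-- the Brauer–Wielandt formula in the stabilizer of a regular orbit: `e ^ 3 = h * d_u ^ 2` -/
theorem cube_eq (hn : 8 ≤ Fintype.card α) (c : Conf p1 p2 p3 p4 a b) {u : α}
    (hu : u ∈ regF α a b) :
    Nat.card (Subgroup.centralizer ({a * b} : Set G) ⊓ H4 (G := G) p1 p2 p3 p4 : Subgroup G) *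
      Nat.card (Subgroup.centralizer ({a * b} : Set G) ⊓ H4 (G := G) p1 p2 p3 p4 : Subgroup G) *
      Nat.card (Subgroup.centralizer ({a * b} : Set G) ⊓ H4 (G := G) p1 p2 p3 p4 : Subgroup G) =
    Nat.card (H4 (G := G) p1 p2 p3 p4) *
      Nat.card (CV a b ⊓ H4 (G := G) u (a • u) (b • u) ((a * b) • u) : Subgroup G) ^ 2 := by
  obtain ⟨-, -, hMa, hMb, hNa, hNb⟩ := c.conj_data hodd hn
  have E1 := c.card_centralizer_z hodd
  obtain ⟨Ea, Eb, Ez⟩ := c.card_centralizer_reg hodd hu
  rw [hMa, hNa] at Ea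
  rw [hMb, hNb] at Eb
  have hM5 := three_le_card_moved hodd hn c.hz c.z_ne_one
  have hpos : 0 < (moved α (a * b)).card * ((moved α (a * b)).card - 2) :=
    Nat.mul_pos (by omega) (by omega)
  have ea := Nat.eq_of_mul_eq_mul_left hpos (Ea.symm.trans E1)
  have eb := Nat.eq_of_mul_eq_mul_left hpos (Eb.symm.trans E1)
  have ez := Nat.eq_of_mul_eq_mul_left hpos (Ez.symm.trans E1)
  have hbw := bw_four (ha := c.ha) (hb := c.hb) (hab := c.hab) c.a_ne_one c.b_ne_one c.a_ne_b
    c.z_ne_one c.z_ne_a c.z_ne_b (H4 (G := G) u (a • u) (b • u) ((a * b) • u))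
    (c.V4_le_normalizer_Hu u) (odd_card_H4 hodd (c.D4_of_regF hu))
  rw [inf_comm _ (Subgroup.centralizer ({a} : Set G)),
    inf_comm _ (Subgroup.centralizer ({b} : Set G)),
    inf_comm _ (Subgroup.centralizer ({a * b} : Set G)), inf_comm _ (CV a b), ea, eb, ez,
    card_H4_eq (c.D4_of_regF hu) c.hD] at hbw
  exact hbw

/-- the main count, relative to a regular point `u` -/
theorem main_count_u (hn : 8 ≤ Fintype.card α) (c : Conf p1 p2 p3 p4 a b) {u : α}
    (hu : u ∈ regF α a b) :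
    (regF α a b).card = 4 ∧ (fixF α (a * b)).card = 3 ∧
    Nat.card (CV a b ⊓ H4 (G := G) p1 p2 p3 p4 : Subgroup G) =
      Nat.card (CV a b ⊓ H4 (G := G) u (a • u) (b • u) ((a * b) • u) : Subgroup G) := by
  obtain ⟨hfa, hfb, hMa, hMb, hNa, hNb⟩ := c.conj_data hodd hn
  have E1 := c.card_centralizer_z hodd
  have hM5 := three_le_card_moved hodd hn c.hz c.z_ne_one
  have hM : (moved α (a * b)).card = 4 + (regF α a b).card := by
    rw [← hMa]; exact c.card_moved_a hodd hfa.symm
  have hr : 1 ≤ (regF α a b).card := by omega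
  have hf := card_fixF_le_three hodd c.hz c.z_ne_one
  obtain ⟨ωa, -, hωa, Fa⟩ := card_centralizer_fixed_pair hodd c.ha c.a1 c.a2 c.hD.ab
    (y := p3) (by rw [c.a3]; exact c.hD.cd.symm)
  rw [c.a3, hMa, hNa] at Fa
  rw [hfa] at hωa
  obtain ⟨ωb, -, hωb, Fb⟩ := card_centralizer_fixed_pair hodd c.hb c.b3 c.b4 c.hD.cd
    (y := p1) (by rw [c.b1]; exact c.hD.ab.symm)
  rw [c.b1, hMb, hNb, H4_rot p3 p4 p1 p2] at Fb
  rw [hfb] at hωb
  have hbw := bw_four (ha := c.ha) (hb := c.hb) (hab := c.hab) c.a_ne_one c.b_ne_one c.a_ne_b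
    c.z_ne_one c.z_ne_a c.z_ne_b (H4 (G := G) p1 p2 p3 p4)
    c.V4_le_normalizer_H (odd_card_H4 hodd c.hD)
  rw [inf_comm _ (Subgroup.centralizer ({a} : Set G)),
    inf_comm _ (Subgroup.centralizer ({b} : Set G)),
    inf_comm _ (Subgroup.centralizer ({a * b} : Set G)), inf_comm _ (CV a b)] at hbw
  have hcube := c.cube_eq hodd hn hu
  have hCV : 4 * Nat.card (CV a b ⊓ H4 (G := G) p1 p2 p3 p4 : Subgroup G) =
      (regF α a b).card *
        Nat.card (CV a b ⊓ H4 (G := G) u (a • u) (b • u) ((a * b) • u) : Subgroup G) := by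
    rw [← c.card_CV hodd, ← c.card_CV_reg hodd hu]
  have hd : Odd (Nat.card (CV a b ⊓ H4 (G := G) p1 p2 p3 p4 : Subgroup G)) :=
    Odd.of_dvd_nat (odd_card_H4 hodd c.hD) (Subgroup.card_dvd_of_le inf_le_right)
  have he : 0 < Nat.card (Subgroup.centralizer ({a * b} : Set G) ⊓
      H4 (G := G) p1 p2 p3 p4 : Subgroup G) := Nat.card_pos
  exact hall_arith _ _ _ _ _ _ _ _ _ _ ωa ωb hM hr hf E1 Fa Fb hωa hωb hbw hcube hCV hd he

end fin

end Conf

end Cfsg.Agent.Lib.Helper4.Hall4
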