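import Mathlib
import Cfsg.Agent.Lib.Helper4.Hall4K

set_option autoImplicit false

/-!
# M. Hall's theorem: the stabilizer of a regular orbit in the centralizer of the four-group

When `a`, `b`, `a * b` have three fixed points each and there are exactly four regular points, an
element of odd order centralizing `a` and `b` and fixing the regular points fixes every point.
-/

namespace Cfsg.Agent.Lib.Helper4.Hall4

open MulAction Cfsg.Agent.Lib.Helper1.SharpTrans

section gen

variable {G α : Type*} [Group G] [MulAction G α] [DecidableEq α]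

/-- an element of odd order preserving a set of at most two points fixes each of them -/
theorem odd_fix_of_card_le_two {y : G} (hy : Odd (orderOf y)) (S : Finset α) (hS : S.card ≤ 2)
    (hpres : ∀ x ∈ S, y • x ∈ S) : ∀ x ∈ S, y • x = x := by
  intro x hx
  by_contra hne
  have hsub : ({x, y • x} : Finset α) ⊆ S := by
    intro q hq
    rw [Finset.mem_insert, Finset.mem_singleton] at hq
    rcases hq with rfl | rfl
    · exact hx
    · exact hpres _ hx
  have hcard : ({x, y • x} : Finset α).card = 2 := Finset.card_pair (fun h => hne h.symm)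
  have heq : ({x, y • x} : Finset α) = S :=
    Finset.eq_of_subset_of_card_le hsub (by rw [hcard]; exact hS)
  have h2 : y • y • x ∈ ({x, y • x} : Finset α) := by
    rw [heq]; exact hpres _ (hpres _ hx)
  rw [Finset.mem_insert, Finset.mem_singleton] at h2
  rcases h2 with h2 | h2
  · obtain ⟨k, hk⟩ := hy
    have hpow : y ^ (2 * k + 1) = 1 := by rw [← hk]; exact pow_orderOf_eq_one y
    have h3 : (y ^ 2) ^ k • x = x :=
      pow_smul_fixed (by rw [pow_two, mul_smul]; exact h2) k
    have : y • x = x := by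
      calc y • x = y • ((y ^ 2) ^ k • x) := by rw [h3]
        _ = (y ^ (2 * k + 1)) • x := by rw [pow_succ' y (2 * k), mul_smul, pow_mul]
        _ = x := by rw [hpow, one_smul]
    exact hne this
  · exact hne (smul_left_cancel _ h2)

theorem card_four_of_D4 {w x y z : α} (h : D4 w x y z) : ({w, x, y, z} : Finset α).card = 4 := by
  rw [Finset.card_insert_of_notMem, Finset.card_insert_of_notMem, Finset.card_insert_of_notMem,
    Finset.card_singleton]
  · rw [Finset.mem_singleton]; exact h.cd
  · rw [Finset.mem_insert, Finset.mem_singleton]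
    rintro (h' | h')
    · exact h.bc h'
    · exact h.bd h'
  · rw [Finset.mem_insert, Finset.mem_insert, Finset.mem_singleton]
    rintro (h' | h' | h')
    · exact h.ab h'
    · exact h.ac h'
    · exact h.ad h'

end gen

namespace Conf

section fin

variable {G α : Type*} [Group G] [MulAction G α] [Fintype α] [DecidableEq α]
  {p1 p2 p3 p4 : α} {a b : G}

omit [Fintype α] [DecidableEq α] in
theorem CV_fix_a {y : G} (hy : y ∈ CV a b) (x : α) : a • y • x = y • x ↔ a • x = x := by
  rw [← CV_smul_a hy]
  exact ⟨fun h => smul_left_cancel _ h, fun h => by rw [h]⟩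

omit [Fintype α] [DecidableEq α] in
theorem CV_fix_b {y : G} (hy : y ∈ CV a b) (x : α) : b • y • x = y • x ↔ b • x = x := by
  rw [← CV_smul_b hy]
  exact ⟨fun h => smul_left_cancel _ h, fun h => by rw [h]⟩

omit [Fintype α] [DecidableEq α] in
theorem CV_fix_z {y : G} (hy : y ∈ CV a b) (x : α) :
    (a * b) • y • x = y • x ↔ (a * b) • x = x := by
  rw [← CV_smul_z hy]
  exact ⟨fun h => smul_left_cancel _ h, fun h => by rw [h]⟩

theorem CV_smul_mem_regF {y : G} (hy : y ∈ CV a b) {x : α} (hx : x ∈ regF α a b) :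
    y • x ∈ regF α a b := by
  rw [mem_regF] at hx ⊢
  rw [Ne, Ne, Ne, CV_fix_a hy, CV_fix_b hy, CV_fix_z hy]
  exact hx

omit [Fintype α] [DecidableEq α] in
theorem z_mem_CV (c : Conf p1 p2 p3 p4 a b) : a * b ∈ CV a b :=
  (CV a b).mul_mem c.a_mem_CV c.b_mem_CV

variable (hodd : ∀ e : Fin 4 ↪ α, Odd (Nat.card (stabilizer G e)))
include hodd

/-- in the degree 11 configuration, `C(V)` meets the stabilizer of the regular orbit trivially -/
theorem CV_inf_Hu_eq_bot [FaithfulSMul G α] (c : Conf p1 p2 p3 p4 a b)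
    (hfa : (fixF α a).card = 3) (hfz : (fixF α (a * b)).card = 3)
    (hr : (regF α a b).card = 4) {u : α} (hu : u ∈ regF α a b) :
    CV a b ⊓ H4 (G := G) u (a • u) (b • u) ((a * b) • u) = ⊥ := by
  rw [eq_bot_iff]
  intro y hy
  obtain ⟨hyC, hyH⟩ := Subgroup.mem_inf.mp hy
  rw [Subgroup.mem_bot]
  have hDu := c.D4_of_regF hu
  have hyodd : Odd (orderOf y) := odd_orderOf_of_mem_H4 hodd hDu hyH
  obtain ⟨y1, y2, y3, y4⟩ := mem_H4.mp hyH
  -- the regular points
  have hreg : ({u, a • u, b • u, (a * b) • u} : Finset α) = regF α a b := by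
    apply Finset.eq_of_subset_of_card_le
    · intro q hq
      rw [Finset.mem_insert, Finset.mem_insert, Finset.mem_insert, Finset.mem_singleton] at hq
      rcases hq with rfl | rfl | rfl | rfl
      · exact hu
      · exact CV_smul_mem_regF c.a_mem_CV hu
      · exact CV_smul_mem_regF c.b_mem_CV hu
      · exact CV_smul_mem_regF c.z_mem_CV hu
    · rw [card_four_of_D4 hDu, hr]
  -- the four small invariant sets
  have hT0 : (fixF α a ∩ fixF α b).card ≤ 2 := by
    have := c.card_fixF_a hodd
    omega
  have hT1 : (fixF α a \ fixF α b).card ≤ 2 := by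
    rw [c.fixF_sdiff hodd, Finset.card_pair c.hD.ab]
  have hT2 : (fixF α b \ fixF α a).card ≤ 2 := by
    rw [c.symm.fixF_sdiff hodd, Finset.card_pair c.hD.cd]
  have hT3 : (fixF α (a * b) \ fixF α a).card ≤ 2 := by
    have h1 := Finset.card_sdiff_add_card_inter (fixF α (a * b)) (fixF α a)
    rw [c.fixF_inter_z, hfz] at h1
    have := c.card_fixF_a hodd
    omega
  have hP0 := odd_fix_of_card_le_two hyodd _ hT0 (by
    intro x hx
    rw [Finset.mem_inter, mem_fixF, mem_fixF] at hx ⊢
    rw [CV_fix_a hyC, CV_fix_b hyC]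
    exact hx)
  have hP1 := odd_fix_of_card_le_two hyodd _ hT1 (by
    intro x hx
    rw [Finset.mem_sdiff, mem_fixF, mem_fixF] at hx ⊢
    rw [CV_fix_a hyC, CV_fix_b hyC]
    exact hx)
  have hP2 := odd_fix_of_card_le_two hyodd _ hT2 (by
    intro x hx
    rw [Finset.mem_sdiff, mem_fixF, mem_fixF] at hx ⊢
    rw [CV_fix_a hyC, CV_fix_b hyC]
    exact hx)
  have hP3 := odd_fix_of_card_le_two hyodd _ hT3 (by
    intro x hx
    rw [Finset.mem_sdiff, mem_fixF, mem_fixF] at hx ⊢
    rw [CV_fix_a hyC, CV_fix_z hyC]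
    exact hx)
  apply FaithfulSMul.eq_of_smul_eq_smul (α := α)
  intro q
  rw [one_smul]
  by_cases hqa : a • q = q
  · by_cases hqb : b • q = q
    · exact hP0 q (by rw [Finset.mem_inter, mem_fixF, mem_fixF]; exact ⟨hqa, hqb⟩)
    · exact hP1 q (by rw [Finset.mem_sdiff, mem_fixF, mem_fixF]; exact ⟨hqa, hqb⟩)
  · by_cases hqb : b • q = q
    · exact hP2 q (by rw [Finset.mem_sdiff, mem_fixF, mem_fixF]; exact ⟨hqb, hqa⟩)
    · by_cases hqz : (a * b) • q = q
      · exact hP3 q (by rw [Finset.mem_sdiff, mem_fixF, mem_fixF]; exact ⟨hqz, hqa⟩)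
      · have hq : q ∈ ({u, a • u, b • u, (a * b) • u} : Finset α) := by
          rw [hreg, mem_regF]; exact ⟨hqa, hqb, hqz⟩
        rw [Finset.mem_insert, Finset.mem_insert, Finset.mem_insert, Finset.mem_singleton] at hq
        rcases hq with rfl | rfl | rfl | rfl
        · exact y1
        · exact y2
        · exact y3
        · exact y4

end fin

end Conf

end Cfsg.Agent.Lib.Helper4.Hall4
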