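import Mathlib
import Cfsg.Agent.Lib.Helper4.Hall4L

set_option autoImplicit false

/-!
# M. Hall's theorem: degree at least 8

A 4-transitive group of degree at least 8 whose 4-point stabilizers have odd order has degree 11 and
order 7920.
-/

namespace Cfsg.Agent.Lib.Helper4.Hall4

open MulAction Cfsg.Agent.Lib.Helper1.SharpTrans

theorem cube_dvd_5040 (e : ℕ) (ho : Odd e) (hd : e * e * e ∣ 5040) : e = 1 := by
  have hle : e * e * e ≤ 5040 := Nat.le_of_dvd (by norm_num) hd
  have he : e ≤ 17 := by
    by_contra hcon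
    push Not at hcon
    have : 18 * 18 * 18 ≤ e * e * e := by
      have h1 : 18 * 18 ≤ e * e := Nat.mul_le_mul hcon hcon
      exact Nat.mul_le_mul h1 hcon
    omega
  interval_cases e <;>
    first
    | rfl
    | (exfalso; revert ho; decide)
    | (exfalso; revert hd; decide)

section count

variable {G α : Type*} [Group G] [MulAction G α] [Fintype α] [DecidableEq α]
  [IsMultiplyPretransitive G α 4]

omit [DecidableEq α] in
theorem card_eq_descFactorial_mul (e : Fin 4 ↪ α) :
    Nat.card G = (Fintype.card α).descFactorial 4 * Nat.card (stabilizer G e) := by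
  have h1 := Subgroup.card_mul_index (stabilizer G e)
  rw [index_stabilizer_of_transitive, Nat.card_eq_fintype_card (α := Fin 4 ↪ α),
    Fintype.card_embedding_eq,
    Fintype.card_fin] at h1
  rw [← h1, mul_comm]

omit [DecidableEq α] in
theorem card_stabilizer_eq (x e : Fin 4 ↪ α) :
    Nat.card (stabilizer G e) = Nat.card (stabilizer G x) := by
  have h1 := card_eq_descFactorial_mul (G := G) x
  have h2 := card_eq_descFactorial_mul (G := G) e
  have h4 : 4 ≤ Fintype.card α := by
    have := Fintype.card_le_of_embedding x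
    rwa [Fintype.card_fin] at this
  have hpos : 0 < (Fintype.card α).descFactorial 4 := by
    apply Nat.pos_of_ne_zero
    rw [Ne, Nat.descFactorial_eq_zero_iff_lt]
    omega
  exact Nat.eq_of_mul_eq_mul_left hpos (h2.symm.trans h1)

omit [DecidableEq α] in
theorem odd_all {x : Fin 4 ↪ α} (hx : Odd (Nat.card (stabilizer G x))) (e : Fin 4 ↪ α) :
    Odd (Nat.card (stabilizer G e)) := by
  rw [card_stabilizer_eq x e]
  exact hx

end count

/-- M. Hall's theorem in degree at least 8 -/
theorem hall_large {G α : Type*} [Group G] [Finite G] [MulAction G α] [FaithfulSMul G α]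
    [Fintype α] [DecidableEq α] [IsMultiplyPretransitive G α 4]
    (hodd : ∀ e : Fin 4 ↪ α, Odd (Nat.card (stabilizer G e)))
    (hn : 8 ≤ Fintype.card α) : Fintype.card α = 11 ∧ Nat.card G = 7920 := by
  obtain ⟨e0⟩ : Nonempty (Fin 4 ↪ α) :=
    Function.Embedding.nonempty_of_card_le (by rw [Fintype.card_fin]; omega)
  have hD := D4_of_emb e0
  obtain ⟨a, ha, a1, a2, a3, a4⟩ := exists_invol_swap hodd hD
  obtain ⟨b, hb, hab, b1, b2, b3, b4⟩ := exists_commuting_invol hodd hD ha a1 a2 a3 a4
  have c : Conf (e0 0) (e0 1) (e0 2) (e0 3) a b :=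
    ⟨hD, ha, hb, hab, a1, a2, a3, a4, b1, b2, b3, b4⟩
  obtain ⟨hfa, hfb, hMa, hMb, hNa, hNb⟩ := c.conj_data hodd hn
  have hM5 := three_le_card_moved hodd hn c.hz c.z_ne_one
  have hM : (moved α (a * b)).card = 4 + (Conf.regF α a b).card := by
    rw [← hMa]; exact c.card_moved_a hodd hfa.symm
  have hne : (Conf.regF α a b).Nonempty := by
    rw [← Finset.card_pos]; omega
  obtain ⟨u, hu⟩ := hne
  obtain ⟨hr, hfz, hd⟩ := c.main_count_u hodd hn hu
  have hcard : Fintype.card α = 11 := by
    have := card_fixF_add_card_moved (α := α) (a * b)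
    omega
  refine ⟨hcard, ?_⟩
  have hbot := c.CV_inf_Hu_eq_bot hodd (hfa.trans hfz) hfz hr hu
  have hcube := c.cube_eq hodd hn hu
  rw [hbot, Subgroup.card_bot, one_pow, mul_one] at hcube
  have heodd : Odd (Nat.card (Subgroup.centralizer ({a * b} : Set G) ⊓
      H4 (G := G) (e0 0) (e0 1) (e0 2) (e0 3) : Subgroup G)) :=
    Odd.of_dvd_nat (odd_card_H4 hodd c.hD) (Subgroup.card_dvd_of_le inf_le_right)
  have hG := card_eq_descFactorial_mul (G := G) (emb4 hD)
  rw [← H4_eq_stabilizer hD, hcard] at hG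
  have hdvd : Nat.card G ∣ Nat.card (Equiv.Perm α) :=
    Subgroup.card_dvd_of_injective (MulAction.toPermHom G α) MulAction.toPerm_injective
  rw [Nat.card_eq_fintype_card (α := Equiv.Perm α), Fintype.card_perm, hcard, hG, ← hcube] at hdvd
  have h1 : Nat.descFactorial 11 4 = 7920 := by decide
  have h2 : Nat.factorial 11 = 7920 * 5040 := by decide
  rw [h1, h2] at hdvd
  have h3 := Nat.dvd_of_mul_dvd_mul_left (by norm_num : 0 < 7920) hdvd
  have he1 := cube_dvd_5040 _ heodd h3
  rw [he1] at hcube
  rw [hG, ← hcube, h1]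

end Cfsg.Agent.Lib.Helper4.Hall4
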