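import Mathlib
import Cfsg.Agent.Lib.Lead.Hx3Defs
import Cfsg.Agent.Lib.Lead.Hx3Calc
import Cfsg.Agent.Lib.Lead.Hx3A2
import Cfsg.Agent.Lib.Helper9.Hx3A0
import Cfsg.Agent.Lib.Helper9.Hx3A1
import Cfsg.Agent.Lib.Helper7.Hx3A3

set_option autoImplicit false

/-!
# Package A4: Theorem A by strong induction on the order
-/

namespace Cfsg.Agent.Lib.Lead.Hx3

open Cfsg.Agent.Lib.Helper3.S64
open scoped commutatorElement

universe u

/-- the base case `T = V` of Theorem A -/
theorem a4_base {T : Type*} [Group T] [Finite T] {ρ t : MulAut T} {V : Subgroup T}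
    (h : HH ρ t V) (hV : V = ⊤) : Concl ρ := by
  left
  have hcen : ∀ g : T, g ∈ Subgroup.center T := fun g => h.Vcen (hV ▸ Subgroup.mem_top g)
  refine ⟨fun a b => (Subgroup.mem_center_iff.mp (hcen b)) a, ?_⟩
  have h4 : Nat.card T = 4 := by
    have := h.Vcard
    rw [hV, Subgroup.card_top] at this
    exact this
  obtain ⟨x, hx⟩ : ∃ x : T, x ≠ 1 := by
    have : Nontrivial T := by
      rw [← Finite.one_lt_card_iff_nontrivial, h4]; norm_num
    exact exists_ne 1
  refine ⟨x, ?_⟩
  set A := Subgroup.closure ({x, ρ x} : Set T) with hA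
  have hxA : x ∈ A := Subgroup.subset_closure (by simp)
  have hρxA : ρ x ∈ A := Subgroup.subset_closure (by simp)
  have hAinv : ∀ n ∈ A, ρ n ∈ A := by
    intro n hn
    have hmap : A.map (ρ : T →* T) ≤ A := by
      rw [hA, MonoidHom.map_closure, Subgroup.closure_le]
      rintro _ ⟨y, hy, rfl⟩
      rcases hy with rfl | hy
      · exact hρxA
      · rw [Set.mem_singleton_iff] at hy
        subst hy
        show ρ (ρ x) ∈ A
        rw [h.fpf.rho_sq_eq]
        exact Subgroup.inv_mem _ (Subgroup.mul_mem _ hxA hρxA)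
    exact hmap ⟨n, hn, rfl⟩
  have hmod := h.fpf.card_mod A hAinv
  have hdvd : Nat.card A ∣ 4 := h4 ▸ Subgroup.card_subgroup_dvd_card A
  have hne1 : Nat.card A ≠ 1 := by
    intro h1
    have hbot : A = ⊥ := Subgroup.card_eq_one.mp h1
    rw [hbot, Subgroup.mem_bot] at hxA
    exact hx hxA
  have hle : Nat.card A ≤ 4 := Nat.le_of_dvd (by norm_num) hdvd
  have hA4 : Nat.card A = 4 := by
    interval_cases (Nat.card A) <;> omega
  exact Subgroup.eq_top_of_card_eq A (by rw [hA4, h4])

/-- Theorem A, in the form used for the induction -/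
theorem a4_ind (n : ℕ) : ∀ (T : Type u) [Group T] [Finite T] (ρ t : MulAut T) (V : Subgroup T),
    HH ρ t V → Nat.card T = n → Concl ρ := by
  induction n using Nat.strong_induction_on with
  | _ n ih =>
    intro T _ _ ρ t V h hn
    by_cases hV : V = ⊤
    · exact a4_base h hV
    have : V.Normal := h.Vnormal
    have hH' := a0_quot h hV
    have hlt : Nat.card (T ⧸ V) < n := by
      have h1 := Subgroup.card_eq_card_quotient_mul_card_subgroup V
      rw [h.Vcard, hn] at h1
      have hpos : 0 < Nat.card (T ⧸ V) := Nat.card_pos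
      omega
    rcases ih _ hlt (T ⧸ V) _ _ _ hH' rfl with ⟨hab, x, hx⟩ | ⟨hcard, hsq⟩ | ⟨hcard, hna⟩
    · exact a1_case h hV hab x hx
    · exact a2_case h hcard hsq
    · exact (a3_case h hcard hna).elim

/-- A4: Theorem A by strong induction on the order. -/
theorem a_main {T : Type*} [Group T] [Finite T] {ρ t : MulAut T} {V : Subgroup T}
    (h : HH ρ t V) : Concl ρ :=
  a4_ind (Nat.card T) T ρ t V h rfl

end Cfsg.Agent.Lib.Lead.Hx3
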