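import Mathlib
import Cfsg.Agent.Lib.Helper4.AlperinTame
import Cfsg.Agent.Lib.Helper1.InvPair
import Cfsg.Agent.Lib.Helper3.Isolated
import Cfsg.Agent.Lib.Helper9.Involutions

set_option autoImplicit false

/-! A subgroup `M` containing the centralizers of its involutions, with core of odd order. -/

namespace Cfsg.Agent.Lib.Helper4.InvCent

open Cfsg Cfsg.Agent.Lib.Helper7 Cfsg.Agent.Lib.Helper4

variable {S : Type*} [Group S]

theorem mem_centralizer_singleton {a b : S} (h : a * b = b * a) :
    b ∈ Subgroup.centralizer ({a} : Set S) := by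
  rw [Subgroup.mem_centralizer_iff]
  intro x hx
  rw [Set.mem_singleton_iff] at hx
  rw [hx]; exact h

theorem orderOf_conj_two {g y : S} (hy : orderOf y = 2) : orderOf (g * y * g⁻¹) = 2 := by
  rw [← hy]
  exact Cfsg.Agent.Lib.Helper9.orderOf_conj_eq g y

section
variable [Finite S] {M : Subgroup S}
  (hC : ∀ i ∈ M, orderOf i = 2 → Subgroup.centralizer ({i} : Set S) ≤ M)
include hC

/-- an involution not conjugate to an involution of `M` lies in `M` -/
theorem mem_of_not_isConj {i y : S} (hi : i ∈ M) (hi2 : orderOf i = 2) (hy2 : orderOf y = 2)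
    (hn : ¬ IsConj i y) : y ∈ M := by
  have hii := Cfsg.Agent.Lib.Helper1.mul_self_of_orderOf_two hi2
  have hyy := Cfsg.Agent.Lib.Helper1.mul_self_of_orderOf_two hy2
  rcases Nat.even_or_odd (orderOf (i * y)) with ⟨m, hm⟩ | ⟨j, hj⟩
  · have hmpos : 0 < m := by
      have := orderOf_pos (i * y)
      omega
    obtain ⟨hz2, hzi, hzy⟩ := Cfsg.Agent.Lib.Helper1.invpair_half_pow hii hyy m hm hmpos
    have hzM : (i * y) ^ m ∈ M := hC i hi hi2 (mem_centralizer_singleton hzi.eq.symm)
    exact hC _ hzM hz2 (mem_centralizer_singleton hzy.eq)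
  · exfalso
    apply hn
    have hpow : (i * y) ^ (2 * j + 1) = 1 := by rw [← hj]; exact pow_orderOf_eq_one _
    exact isConj_iff.mpr ⟨_, Cfsg.Agent.Lib.Helper9.conj_of_pow_odd hii hyy hpow⟩

/-- an involution outside `M` is conjugate, by an involution, to any involution of `M` -/
theorem exists_involution_conj {u t : S} (hu2 : orderOf u = 2) (hu : u ∉ M) (ht : t ∈ M)
    (ht2 : orderOf t = 2) : ∃ v : S, v * v = 1 ∧ v * u * v⁻¹ = t := by
  have huu := Cfsg.Agent.Lib.Helper1.mul_self_of_orderOf_two hu2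
  have htt := Cfsg.Agent.Lib.Helper1.mul_self_of_orderOf_two ht2
  rcases Nat.even_or_odd (orderOf (u * t)) with ⟨m, hm⟩ | ⟨j, hj⟩
  · exfalso
    have hmpos : 0 < m := by
      have := orderOf_pos (u * t)
      omega
    obtain ⟨hz2, hzu, hzt⟩ := Cfsg.Agent.Lib.Helper1.invpair_half_pow huu htt m hm hmpos
    have hzM : (u * t) ^ m ∈ M := hC t ht ht2 (mem_centralizer_singleton hzt.eq.symm)
    exact hu (hC _ hzM hz2 (mem_centralizer_singleton hzu.eq))
  · have hpow : (u * t) ^ (2 * j + 1) = 1 := by rw [← hj]; exact pow_orderOf_eq_one _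
    obtain ⟨h1, h2⟩ := Cfsg.Agent.Lib.Helper3.dihedral_odd_conj u t huu htt j hpow
    generalize (u * t) ^ j = w at h1 h2
    have huinv : u⁻¹ = u := inv_eq_of_mul_eq_one_right huu
    refine ⟨w * u, ?_, ?_⟩
    · have h3 : u * w = w⁻¹ * u := by
        rw [huinv] at h2
        calc u * w = (u * w * u) * u := by rw [mul_assoc (u * w), huu, mul_one]
          _ = w⁻¹ * u := by rw [h2]
      calc (w * u) * (w * u) = w * (u * w) * u := by group
        _ = w * (w⁻¹ * u) * u := by rw [h3]
        _ = u * u := by group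
        _ = 1 := huu
    · calc (w * u) * u * (w * u)⁻¹ = w * u * w⁻¹ := by group
        _ = t := h1

end

/-- an involution has a conjugate outside a subgroup whose core has odd order -/
theorem exists_conj_not_mem [Finite S] {M : Subgroup S} (hcore : Odd (Nat.card M.normalCore))
    {y : S} (hy2 : orderOf y = 2) : ∃ g : S, g * y * g⁻¹ ∉ M := by
  by_contra hcon
  push Not at hcon
  have hy : y ∈ M.normalCore := hcon
  have h1 : orderOf (⟨y, hy⟩ : M.normalCore) = 2 := by
    rw [← hy2, Subgroup.orderOf_mk]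
  have h2 : 2 ∣ Nat.card M.normalCore := by
    rw [← h1]; exact orderOf_dvd_natCard _
  exact (Nat.not_even_iff_odd.mpr hcore) (even_iff_two_dvd.mpr h2)

theorem exists_involution_mem [Finite S] {M : Subgroup S} (hM : Even (Nat.card M)) :
    ∃ i ∈ M, orderOf i = 2 := by
  obtain ⟨m, hm⟩ := exists_prime_orderOf_dvd_card' (G := ↥M) 2 (even_iff_two_dvd.mp hM)
  exact ⟨m, m.2, by rw [Subgroup.orderOf_coe]; exact hm⟩

/-- all involutions are conjugate -/
theorem isConj_of_involutions [Finite S] {M : Subgroup S}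
    (hC : ∀ i ∈ M, orderOf i = 2 → Subgroup.centralizer ({i} : Set S) ≤ M)
    (hM : Even (Nat.card M)) (hcore : Odd (Nat.card M.normalCore))
    {x y : S} (hx : orderOf x = 2) (hy : orderOf y = 2) : IsConj x y := by
  obtain ⟨i, hi, hi2⟩ := exists_involution_mem hM
  have key : ∀ y : S, orderOf y = 2 → IsConj i y := by
    intro y hy2
    by_contra hn
    obtain ⟨g, hg⟩ := exists_conj_not_mem hcore hy2
    apply hg
    apply mem_of_not_isConj hC hi hi2 (orderOf_conj_two hy2)
    intro h
    apply hn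
    exact h.trans (isConj_iff.mpr ⟨g⁻¹, by group⟩)
  exact (key x hx).symm.trans (key y hy)

/-- there is an involution outside `M` -/
theorem exists_involution_not_mem [Finite S] {M : Subgroup S}
    (hM : Even (Nat.card M)) (hcore : Odd (Nat.card M.normalCore)) :
    ∃ u : S, orderOf u = 2 ∧ u ∉ M := by
  obtain ⟨i, hi, hi2⟩ := exists_involution_mem hM
  obtain ⟨g, hg⟩ := exists_conj_not_mem hcore hi2
  exact ⟨g * i * g⁻¹, orderOf_conj_two hi2, hg⟩

end Cfsg.Agent.Lib.Helper4.InvCent
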