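import Mathlib
import Cfsg.Agent.Lib.Helper4.InvCent1

set_option autoImplicit false

/-! Control of fusion of involutions and the factorization `M = M₀ C_M(I)`. -/

namespace Cfsg.Agent.Lib.Helper4.InvCent

open Cfsg Cfsg.Agent.Lib.Helper7 Cfsg.Agent.Lib.Helper4

variable {S : Type*} [Group S] [Finite S] {M : Subgroup S}

theorem sylIn_map (X : Sylow 2 ↥M) : SylIn 2 M ((X : Subgroup M).map M.subtype) := by
  refine ⟨Subgroup.map_subtype_le _, X.2.map _, ?_⟩
  have h2 : ((X : Subgroup M).map M.subtype).relIndex M = (X : Subgroup M).index := by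
    unfold Subgroup.relIndex Subgroup.subgroupOf
    rw [Subgroup.comap_map_eq_self_of_injective M.subtype_injective]
  rw [h2]
  exact X.not_dvd_index

theorem map_le_centralizer (X : Sylow 2 ↥M) (I : ↥M)
    (hI : I ∈ (Subgroup.center ↥(X : Subgroup ↥M)).map (X : Subgroup ↥M).subtype) :
    (X : Subgroup M).map M.subtype ≤ Subgroup.centralizer ({(I : S)} : Set S) := by
  rintro _ ⟨x, hx, rfl⟩
  apply mem_centralizer_singleton
  obtain ⟨c, hc, rfl⟩ := hI
  have := Subgroup.mem_center_iff.mp hc ⟨x, hx⟩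
  have h2 := congrArg (fun y : ↥(X : Subgroup ↥M) => ((y : ↥M) : S)) this
  simp only [Subgroup.coe_mul] at h2
  exact h2.symm

section
variable (hC : ∀ i ∈ M, orderOf i = 2 → Subgroup.centralizer ({i} : Set S) ≤ M)
  (X : Sylow 2 ↥M) (I : ↥M)
  (hI : I ∈ (Subgroup.center ↥(X : Subgroup ↥M)).map (X : Subgroup ↥M).subtype)
  (hI2 : orderOf I = 2)
  (hN : Subgroup.normalizer (((X : Subgroup M).map M.subtype : Subgroup S) : Set S) ≤ M)
include hC hI hI2 hN

/-- control of fusion -/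
theorem mem_of_conj_mem {g : S} (hg : g * (I : S) * g⁻¹ ∈ M) : g ∈ M := by
  have hFact : Fact (Nat.Prime 2) := ⟨Nat.prime_two⟩
  set X' := (X : Subgroup M).map M.subtype with hX'
  have hSyl : SylIn 2 M X' := sylIn_map X
  have hI2' : orderOf (I : S) = 2 := by rw [Subgroup.orderOf_coe]; exact hI2
  have hj2 : orderOf (g * (I : S) * g⁻¹) = 2 := orderOf_conj_two hI2'
  have hY : cj g X' ≤ M := by
    refine le_trans ?_ (hC _ hg hj2)
    rintro _ ⟨y, hy, rfl⟩
    apply mem_centralizer_singleton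
    have h1 := map_le_centralizer X I hI hy
    rw [Subgroup.mem_centralizer_iff] at h1
    have h2 := h1 (I : S) (Set.mem_singleton _)
    show g * (I : S) * g⁻¹ * (g * y * g⁻¹) = g * y * g⁻¹ * (g * (I : S) * g⁻¹)
    calc g * (I : S) * g⁻¹ * (g * y * g⁻¹) = g * ((I : S) * y) * g⁻¹ := by group
      _ = g * (y * (I : S)) * g⁻¹ := by rw [h2]
      _ = g * y * g⁻¹ * (g * (I : S) * g⁻¹) := by group
  obtain ⟨c, hc, hle⟩ := hSyl.exists_conj_le hY (hSyl.2.1.map _)
  have heq : cj c (cj g X') = X' := by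
    apply Subgroup.eq_of_le_of_card_ge hle
    rw [Cfsg.Agent.Lib.Helper7.card_cj, Cfsg.Agent.Lib.Helper7.card_cj]
  rw [← cj_mul, ← mem_normalizer_iff_cj] at heq
  have h3 : c * g ∈ M := hN heq
  have : g = c⁻¹ * (c * g) := by group
  rw [this]
  exact M.mul_mem (M.inv_mem hc) h3

/-- every involution of `M` is `M`-conjugate to `I` -/
theorem exists_conj_eq (hM : Even (Nat.card M)) (hcore : Odd (Nat.card M.normalCore))
    {x : ↥M} (hx : orderOf x = 2) : ∃ a : ↥M, a * I * a⁻¹ = x := by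
  have hI2' : orderOf (I : S) = 2 := by rw [Subgroup.orderOf_coe]; exact hI2
  have hx' : orderOf (x : S) = 2 := by rw [Subgroup.orderOf_coe]; exact hx
  obtain ⟨g, hg⟩ := isConj_iff.mp (isConj_of_involutions hC hM hcore hI2' hx')
  have hgM : g ∈ M := mem_of_conj_mem hC X I hI hI2 hN (by rw [hg]; exact x.2)
  refine ⟨⟨g, hgM⟩, ?_⟩
  apply Subtype.ext
  simpa using hg

/-- `M = M₀ C_M(I)` with `M₀` of odd order -/
theorem exists_odd_factor (hM : Even (Nat.card M)) (hcore : Odd (Nat.card M.normalCore)) :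
    ∃ M₀ : Subgroup M, Odd (Nat.card M₀) ∧
      ∀ m : M, ∃ a ∈ M₀, ∃ c ∈ Subgroup.centralizer ({I} : Set M), m = a * c := by
  have hI2' : orderOf (I : S) = 2 := by rw [Subgroup.orderOf_coe]; exact hI2
  obtain ⟨u, hu2, hu⟩ := exists_involution_not_mem hM hcore
  obtain ⟨v, hvv, hvu⟩ := exists_involution_conj hC hu2 hu I.2 hI2'
  have hvinv : v⁻¹ = v := inv_eq_of_mul_eq_one_right hvv
  have hvI : v * (I : S) * v⁻¹ = u := by
    rw [← hvu]
    calc v * (v * u * v⁻¹) * v⁻¹ = (v * v) * u * (v * v)⁻¹ := by group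
      _ = u := by rw [hvv]; group
  have hvM : v ∉ M := by
    intro hv
    apply hu
    rw [← hvI]
    exact M.mul_mem (M.mul_mem hv I.2) (M.inv_mem hv)
  have FC := fun {g : S} (hg : g * (I : S) * g⁻¹ ∈ M) => mem_of_conj_mem hC X I hI hI2 hN hg
  refine ⟨(M ⊓ cj v M).subgroupOf M, ?_, ?_⟩
  · rw [Nat.card_congr (Subgroup.subgroupOfEquivOfLe (inf_le_left : M ⊓ cj v M ≤ M)).toEquiv]
    by_contra hodd
    rw [Nat.not_odd_iff_even] at hodd
    obtain ⟨j, hj, hj2⟩ := exists_involution_mem hodd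
    obtain ⟨hjM, hjv⟩ := Subgroup.mem_inf.mp hj
    rw [mem_cj] at hjv
    have hj'2 : orderOf (⟨v⁻¹ * j * v, hjv⟩ : ↥M) = 2 := by
      rw [Subgroup.orderOf_mk]
      have := orderOf_conj_two (g := v⁻¹) hj2
      rwa [inv_inv] at this
    obtain ⟨a, ha⟩ := exists_conj_eq hC X I hI hI2 hN hM hcore hj'2
    have ha' : (a : S) * (I : S) * (a : S)⁻¹ = v⁻¹ * j * v := by
      have := congrArg (Subtype.val) ha
      simpa using this
    have h1 : (v * a) * (I : S) * (v * a)⁻¹ ∈ M := by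
      have : (v * a) * (I : S) * (v * a)⁻¹ = j := by
        calc (v * a) * (I : S) * (v * a)⁻¹ = v * ((a : S) * (I : S) * (a : S)⁻¹) * v⁻¹ := by group
          _ = v * (v⁻¹ * j * v) * v⁻¹ := by rw [ha']
          _ = j := by group
      rw [this]; exact hjM
    have h2 : v * a ∈ M := FC h1
    apply hvM
    have : v = (v * a) * (a : S)⁻¹ := by group
    rw [this]
    exact M.mul_mem h2 (M.inv_mem a.2)
  · intro m
    have ht2 : orderOf (m * I * m⁻¹) = 2 := by
      rw [← hI2]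
      exact Cfsg.Agent.Lib.Helper9.orderOf_conj_eq m I
    have ht2' : orderOf ((m * I * m⁻¹ : ↥M) : S) = 2 := by
      rw [Subgroup.orderOf_coe]; exact ht2
    obtain ⟨w, hww, hwu⟩ := exists_involution_conj hC hu2 hu (m * I * m⁻¹).2 ht2'
    have hwinv : w⁻¹ = w := inv_eq_of_mul_eq_one_right hww
    have hx1 : (w * v) * (I : S) * (w * v)⁻¹ = ((m * I * m⁻¹ : ↥M) : S) := by
      calc (w * v) * (I : S) * (w * v)⁻¹ = w * (v * (I : S) * v⁻¹) * w⁻¹ := by group
        _ = w * u * w⁻¹ := by rw [hvI]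
        _ = _ := hwu
    have hxM : w * v ∈ M := FC (by rw [hx1]; exact (m * I * m⁻¹).2)
    have hxv : w * v ∈ cj v M := by
      rw [mem_cj]
      have : v⁻¹ * (w * v) * v = (w * v)⁻¹ := by
        calc v⁻¹ * (w * v) * v = v⁻¹ * w * (v * v) := by group
          _ = v⁻¹ * w⁻¹ := by rw [hvv, mul_one, hwinv]
          _ = (w * v)⁻¹ := by group
      rw [this]
      exact M.inv_mem hxM
    refine ⟨⟨w * v, hxM⟩, ?_, (⟨w * v, hxM⟩ : ↥M)⁻¹ * m, ?_, by group⟩
    · rw [Subgroup.mem_subgroupOf]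
      exact Subgroup.mem_inf.mpr ⟨hxM, hxv⟩
    · apply mem_centralizer_singleton
      have hx1' : (⟨w * v, hxM⟩ : ↥M) * I * (⟨w * v, hxM⟩ : ↥M)⁻¹ = m * I * m⁻¹ := by
        apply Subtype.ext
        simpa using hx1
      set a : ↥M := ⟨w * v, hxM⟩ with ha
      have h5 : a⁻¹ * m * I = I * (a⁻¹ * m) := by
        calc a⁻¹ * m * I = a⁻¹ * (m * I * m⁻¹) * m := by group
          _ = a⁻¹ * (a * I * a⁻¹) * m := by rw [hx1']
          _ = I * (a⁻¹ * m) := by group
      exact h5.symm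

end

end Cfsg.Agent.Lib.Helper4.InvCent
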