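import Mathlib
import Cfsg.Agent.Lib.Helper7.PLen1

set_option autoImplicit false

/-! Averaging operators over subgroups for a representation, and the factorisation of a group by two
subgroups of coprime index. Used for S4176. -/

namespace Cfsg.Agent.Lib.Helper4.OS

section fact

variable {G : Type*} [Group G] [Finite G]

/-- subgroups of coprime index factorise the group. -/
theorem exists_mul_of_coprime_index (X Y : Subgroup G) (h : X.index.Coprime Y.index) (g : G) :
    ∃ y ∈ Y, ∃ x ∈ X, g = y * x := by
  have hinf : (X ⊓ Y).index = X.index * Y.index := by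
    apply le_antisymm Subgroup.index_inf_le
    apply Nat.le_of_dvd (Nat.pos_of_ne_zero Subgroup.index_ne_zero_of_finite)
    exact Nat.Coprime.mul_dvd_of_dvd_of_dvd h (Subgroup.index_dvd_of_le inf_le_left)
      (Subgroup.index_dvd_of_le inf_le_right)
  have h1 : X.relIndex Y * Y.index = (X ⊓ Y).index := by
    rw [← Subgroup.inf_relIndex_right, Subgroup.relIndex_mul_index inf_le_right]
  have h2 : X.relIndex Y = X.index := by
    rw [hinf] at h1
    exact Nat.eq_of_mul_eq_mul_right (Nat.pos_of_ne_zero Subgroup.index_ne_zero_of_finite) h1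
  let emb := Subgroup.quotientSubgroupOfEmbeddingOfLE X (le_top : Y ≤ ⊤)
  have hcard : Nat.card (↥(⊤ : Subgroup G) ⧸ X.subgroupOf ⊤) ≤ Nat.card (↥Y ⧸ X.subgroupOf Y) := by
    have e1 : Nat.card (↥(⊤ : Subgroup G) ⧸ X.subgroupOf ⊤) = X.relIndex ⊤ := rfl
    have e2 : Nat.card (↥Y ⧸ X.subgroupOf Y) = X.relIndex Y := rfl
    rw [e1, e2, Subgroup.relIndex_top_right, h2]
  have hbij := Function.Injective.bijective_of_nat_card_le emb.injective hcard
  obtain ⟨q, hq⟩ := hbij.2 (QuotientGroup.mk (⟨g, Subgroup.mem_top g⟩ : ↥(⊤ : Subgroup G)))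
  induction q using QuotientGroup.induction_on with
  | H y =>
    have hq' : emb (QuotientGroup.mk y) = QuotientGroup.mk (Subgroup.inclusion le_top y) :=
      Subgroup.quotientSubgroupOfEmbeddingOfLE_apply_mk X le_top y
    rw [hq'] at hq
    have h3 := QuotientGroup.eq.1 hq
    rw [Subgroup.mem_subgroupOf] at h3
    refine ⟨(y : G), y.2, (y : G)⁻¹ * g, ?_, by group⟩
    simpa using h3

end fact

section rep

variable {k V H : Type*} [Field k] [AddCommGroup V] [Module k V] [Group H]
  (ρ : Representation k H V)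

/-- the stabiliser of a vector. -/
def stab (v : V) : Subgroup H where
  carrier := {h | ρ h v = v}
  mul_mem' := by
    intro x y hx hy
    simp only [Set.mem_setOf_eq] at hx hy ⊢
    rw [map_mul, Module.End.mul_apply, hy, hx]
  one_mem' := by simp
  inv_mem' := by
    intro x hx
    simp only [Set.mem_setOf_eq] at hx ⊢
    have : ρ x⁻¹ (ρ x v) = v := by
      rw [← Module.End.mul_apply, ← map_mul, inv_mul_cancel, map_one, Module.End.one_apply]
    rw [hx] at this
    exact this

theorem mem_stab (v : V) (h : H) : h ∈ stab ρ v ↔ ρ h v = v := Iff.rfl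

theorem card_orbit [Finite H] (v : V) :
    Nat.card {u : V | ∃ h : H, ρ h v = u} = (stab ρ v).index := by
  letI : MulAction H V :=
    { smul := fun h v => ρ h v
      one_smul := fun v => by change ρ 1 v = v; simp
      mul_smul := fun x y v => by change ρ (x * y) v = ρ x (ρ y v); rw [map_mul, Module.End.mul_apply] }
  have h1 : MulAction.stabilizer H v = stab ρ v := by
    ext h
    rw [MulAction.mem_stabilizer_iff, mem_stab]
    rfl
  have h2 : {u : V | ∃ h : H, ρ h v = u} = MulAction.orbit H v := rfl
  rw [h2, ← h1, MulAction.index_stabilizer, Nat.card_coe_set_eq]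

/-- the sum of the operators of a subgroup. -/
noncomputable def T (K : Subgroup H) [Fintype K] : V →ₗ[k] V := ∑ κ : K, ρ (κ : H)

variable (K : Subgroup H) [Fintype K]

theorem T_apply (v : V) : T ρ K v = ∑ κ : K, ρ (κ : H) v := by
  unfold T
  rw [LinearMap.sum_apply]

theorem T_rho (g : H) (hg : g ∈ K) (v : V) : T ρ K (ρ g v) = T ρ K v := by
  rw [T_apply, T_apply]
  refine Fintype.sum_equiv (Equiv.mulRight (⟨g, hg⟩ : K)) _ _ ?_
  intro κ
  simp only [Equiv.coe_mulRight, Subgroup.coe_mul]
  rw [map_mul, Module.End.mul_apply]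

theorem T_of_fixed (v : V) (hv : ∀ g ∈ K, ρ g v = v) : T ρ K v = (Nat.card K : k) • v := by
  rw [T_apply]
  have h1 : ∀ κ ∈ (Finset.univ : Finset K), ρ (κ : H) v = v := fun κ _ => hv (κ : H) κ.2
  rw [Finset.sum_congr rfl h1]
  rw [Finset.sum_const, Finset.card_univ, Nat.card_eq_fintype_card, Nat.cast_smul_eq_nsmul]

end rep

end Cfsg.Agent.Lib.Helper4.OS
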