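import Mathlib
import Cfsg.Prelude
import Cfsg.Agent.Lib.Helper6.IsoMin0
import Cfsg.Agent.Lib.Helper3.Components12
import Cfsg.Agent.Lib.Lead.CoprimeSylow3
import Cfsg.Agent.Lib.Helper4.OS1

/-!
# Isolated p-minimal subgroups: the abstract coprime case (package B of the S3044/S3045 swarm)

In the abstract situation `AbsIso p N T A Λ D` with `|N|` prime to `p`:
`N = D`, `N` has class at most two and `N` is a `t`-group for a prime `t ≠ p`.
This file: the first half (`N = [N, A]`, `N` is a `t`-group).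
-/

set_option autoImplicit false

namespace Cfsg.Agent.Lib.Helper4.IsoMinB

open Cfsg.Agent.Lib.Helper6.IsoMin
open scoped commutatorElement

variable {X : Type*} [Group X]

theorem conj_mem_of_le_normalizer {H K : Subgroup X} (h : H ≤ Subgroup.normalizer (K : Set X))
    {a b : X} (ha : a ∈ H) (hb : b ∈ K) : a * b * a⁻¹ ∈ K :=
  (Subgroup.mem_normalizer_iff.mp (h ha) b).mp hb

theorem comm_le_right {H K : Subgroup X} (h : H ≤ Subgroup.normalizer (K : Set X)) :
    ⁅H, K⁆ ≤ K := by
  rw [Subgroup.commutator_le]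
  intro a ha b hb
  rw [commutatorElement_def]
  exact K.mul_mem (conj_mem_of_le_normalizer h ha hb) (K.inv_mem hb)

theorem comm_le_left {H K : Subgroup X} (h : K ≤ Subgroup.normalizer (H : Set X)) :
    ⁅H, K⁆ ≤ H := by
  rw [Subgroup.commutator_comm]; exact comm_le_right h

variable [Finite X] {p : ℕ} [hp : Fact p.Prime] {N T A Λ D : Subgroup X}

theorem inf_T_eq_bot (h : AbsIso p N T A Λ D) (hcop : (Nat.card N).Coprime p) : N ⊓ T = ⊥ := by
  apply Disjoint.eq_bot
  apply Subgroup.disjoint_of_coprime_natCard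
  obtain ⟨k, hk⟩ := IsPGroup.iff_card.mp h.hT
  rw [hk]
  exact hcop.pow_right k

/-- (i) a `T`-invariant subgroup of `N` is centralized by `A` or contains `D` -/
theorem comm_eq_bot_or (h : AbsIso p N T A Λ D) (hcop : (Nat.card N).Coprime p) {U : Subgroup X}
    (hUN : U ≤ N) (hTU : T ≤ Subgroup.normalizer (U : Set X)) : ⁅U, A⁆ = ⊥ ∨ D ≤ U := by
  rcases h.hss U hUN hTU with h1 | h1
  · left
    have h2 : ⁅U, A⁆ ≤ N ⊓ T :=
      le_inf ((comm_le_left (h.hAT.trans hTU)).trans hUN) ((comm_le_right h1).trans h.hAT)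
    rw [inf_T_eq_bot h hcop] at h2
    exact le_bot_iff.mp h2
  · right; exact h1

theorem T_le_normalizer_N (h : AbsIso p N T A Λ D) : T ≤ Subgroup.normalizer (N : Set X) := by
  haveI := h.nN
  rw [Subgroup.normalizer_eq_top_iff.mpr h.nN]; exact le_top

theorem T_le_normalizer_A (h : AbsIso p N T A Λ D) : T ≤ Subgroup.normalizer (A : Set X) :=
  h.hTΛ.trans h.hΛA

/-- (ii) `[N, A]` is normal -/
theorem comm_normal (h : AbsIso p N T A Λ D) : (⁅N, A⁆ : Subgroup X).Normal := by
  rw [← Subgroup.normalizer_eq_top_iff, eq_top_iff, ← h.hNΛ]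
  apply sup_le
  · exact Cfsg.Agent.Lib.Helper3.le_normalizer_commutator_left N A
  · refine le_trans (le_inf ?_ h.hΛA)
      (Cfsg.Agent.Lib.Helper3.normalizer_inf_le_normalizer_commutator N A)
    rw [Subgroup.normalizer_eq_top_iff.mpr h.nN]; exact le_top

theorem comm_le_N (h : AbsIso p N T A Λ D) : ⁅N, A⁆ ≤ N := by
  haveI := h.nN
  exact Subgroup.commutator_le_left N A

/-- (iii) `N = [N, A]` -/
theorem N_eq_comm (h : AbsIso p N T A Λ D) (hcop : (Nat.card N).Coprime p) : ⁅N, A⁆ = N := by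
  apply le_antisymm (comm_le_N h)
  haveI := comm_normal h
  have hD : D ≤ ⁅N, A⁆ := by
    intro d hd
    have h1 : d ∈ ⁅N, A⁆ ⊔ A :=
      (sup_le_sup_right (Subgroup.commutator_mono h.hDN le_rfl) A) (h.hDA hd)
    have h1' : d ∈ ((⁅N, A⁆ ⊔ A : Subgroup X) : Set X) := h1
    rw [Subgroup.normal_mul] at h1'
    obtain ⟨w, hw, a, ha, hwa⟩ := h1'
    have hwa' : w * a = d := hwa
    subst hwa'
    have h2 : a ∈ N ⊓ T := by
      refine ⟨?_, h.hAT ha⟩
      have : a = w⁻¹ * (w * a) := by group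
      rw [this]
      exact N.mul_mem (N.inv_mem (comm_le_N h hw)) (h.hDN hd)
    rw [inf_T_eq_bot h hcop, Subgroup.mem_bot] at h2
    rw [h2, mul_one]; exact hw
  have h3 : Subgroup.normalClosure (D : Set X) ≤ ⁅N, A⁆ := Subgroup.normalClosure_le_normal hD
  rw [← h.hcl] at h3
  exact h3


/-- (iv) `T`-invariant Sylow subgroups of `N` -/
theorem exists_inv_sylow (h : AbsIso p N T A Λ D) (hcop : (Nat.card N).Coprime p) (r : ℕ)
    [Fact r.Prime] :
    ∃ P : Sylow r N, T ≤ Subgroup.normalizer (((P : Subgroup N).map N.subtype : Subgroup X) : Set X) := by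
  have hnil : Group.IsNilpotent ↥T := h.hT.isNilpotent
  have hsolv : Group.IsSolvable ↥T := inferInstance
  have hc : (Nat.card T).Coprime (Nat.card N) := by
    obtain ⟨k, hk⟩ := IsPGroup.iff_card.mp h.hT
    rw [hk]
    exact (hcop.pow_right k).symm
  exact Cfsg.Agent.Lib.Lead.coprime_invariant_sylow_exists T N (T_le_normalizer_N h) hc
    (Or.inl hsolv) r

theorem sylow_map_le (r : ℕ) [Fact r.Prime] (P : Sylow r N) :
    (P : Subgroup N).map N.subtype ≤ N := by
  rintro _ ⟨y, -, rfl⟩; exact y.2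

theorem not_dvd_index_of_sylow_le {r : ℕ} [Fact r.Prime] (P : Sylow r N) {C : Subgroup X}
    (hPC : (P : Subgroup N).map N.subtype ≤ C) : ¬ r ∣ (C.subgroupOf N).index := by
  have h1 : (P : Subgroup N) ≤ C.subgroupOf N := by
    intro y hy
    rw [Subgroup.mem_subgroupOf]
    exact hPC ⟨y, hy, rfl⟩
  intro hdvd
  exact P.not_dvd_index (hdvd.trans (Subgroup.index_dvd_of_le h1))

theorem D_ne_bot (h : AbsIso p N T A Λ D) : D ≠ ⊥ := by
  intro hD
  apply h.hDp
  rw [hD]
  exact IsPGroup.of_bot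

theorem N_ne_bot (h : AbsIso p N T A Λ D) : N ≠ ⊥ := by
  intro hN
  apply D_ne_bot h
  have := h.hDN
  rw [hN] at this
  exact le_bot_iff.mp this

/-- (v) some `T`-invariant Sylow subgroup of `N` contains `D` -/
theorem exists_sylow_ge (h : AbsIso p N T A Λ D) (hcop : (Nat.card N).Coprime p) :
    ∃ (t : ℕ) (_ : Fact t.Prime) (P : Sylow t N),
      T ≤ Subgroup.normalizer (((P : Subgroup N).map N.subtype : Subgroup X) : Set X) ∧
        D ≤ (P : Subgroup N).map N.subtype := by
  by_contra hcon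
  push Not at hcon
  set C : Subgroup X := N ⊓ Subgroup.centralizer (A : Set X) with hC
  have hidx : (C.subgroupOf N).index = 1 := by
    rw [Nat.eq_one_iff_not_exists_prime_dvd]
    intro r hr
    haveI : Fact r.Prime := ⟨hr⟩
    obtain ⟨P, hP⟩ := exists_inv_sylow h hcop r
    have h1 := hcon r ⟨hr⟩ P hP
    have h2 : ⁅(P : Subgroup N).map N.subtype, A⁆ = ⊥ := by
      rcases comm_eq_bot_or h hcop (sylow_map_le r P) hP with h3 | h3
      · exact h3
      · exact absurd h3 h1
    apply not_dvd_index_of_sylow_le P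
    rw [hC]
    exact le_inf (sylow_map_le r P) (Subgroup.commutator_eq_bot_iff_le_centralizer.mp h2)
  have hNC : N ≤ C := by
    rw [Subgroup.index_eq_one, Subgroup.subgroupOf_eq_top] at hidx
    exact hidx
  have h3 : ⁅N, A⁆ = ⊥ :=
    Subgroup.commutator_eq_bot_iff_le_centralizer.mpr (hNC.trans inf_le_right)
  rw [N_eq_comm h hcop] at h3
  exact N_ne_bot h h3

/-- (vi) `N` is a `t`-group -/
theorem exists_prime_isPGroup (h : AbsIso p N T A Λ D) (hcop : (Nat.card N).Coprime p) :
    ∃ t : ℕ, t.Prime ∧ t ≠ p ∧ IsPGroup t N := by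
  obtain ⟨t, ht, P, hTP, hDP⟩ := exists_sylow_ge h hcop
  set Q : Subgroup X := (P : Subgroup N).map N.subtype with hQ
  have hQN : Q ≤ N := sylow_map_le t P
  set C : Subgroup X := N ⊓ Subgroup.centralizer (A : Set X) with hC
  -- the index of `C` in `N` is prime to the index of `P`
  have hcopi : (P : Subgroup N).index.Coprime (C.subgroupOf N).index := by
    apply Nat.Coprime.symm
    apply Nat.coprime_of_dvd
    intro r hr hrC hrP
    haveI : Fact r.Prime := ⟨hr⟩
    by_cases hrt : r = t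
    · subst hrt
      exact P.not_dvd_index hrP
    · obtain ⟨R, hR⟩ := exists_inv_sylow h hcop r
      have h2 : ⁅(R : Subgroup N).map N.subtype, A⁆ = ⊥ := by
        rcases comm_eq_bot_or h hcop (sylow_map_le r R) hR with h3 | h3
        · exact h3
        · exfalso
          -- `D ≤ R ⊓ Q = ⊥`
          have h4 : D ≤ (R : Subgroup N).map N.subtype ⊓ Q := le_inf h3 hDP
          have h5 : (R : Subgroup N).map N.subtype ⊓ Q = ⊥ := by
            apply Disjoint.eq_bot
            apply Subgroup.disjoint_of_coprime_natCard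
            have e1 : Nat.card ((R : Subgroup N).map N.subtype) = Nat.card (R : Subgroup N) :=
              Subgroup.card_map_of_injective N.subtype_injective
            have e2 : Nat.card Q = Nat.card (P : Subgroup N) :=
              Subgroup.card_map_of_injective N.subtype_injective
            obtain ⟨k1, hk1⟩ := IsPGroup.iff_card.mp R.isPGroup'
            obtain ⟨k2, hk2⟩ := IsPGroup.iff_card.mp P.isPGroup'
            rw [e1, e2, hk1, hk2]
            apply Nat.Coprime.pow
            exact (Nat.coprime_primes hr ht.out).mpr hrt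
          rw [h5] at h4
          exact D_ne_bot h (le_bot_iff.mp h4)
      apply not_dvd_index_of_sylow_le R _ hrC
      rw [hC]
      exact le_inf (sylow_map_le r R) (Subgroup.commutator_eq_bot_iff_le_centralizer.mp h2)
  -- `[N, A] ≤ Q`
  have hcomm : ⁅N, A⁆ ≤ Q := by
    rw [Subgroup.commutator_le]
    intro n hn a ha
    obtain ⟨c, hc, u, hu, hnu⟩ := Cfsg.Agent.Lib.Helper4.OS.exists_mul_of_coprime_index
      (P : Subgroup N) (C.subgroupOf N) hcopi (⟨n, hn⟩ : N)⁻¹
    -- `n = u⁻¹ c⁻¹`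
    have hn' : n = (u : X)⁻¹ * (c : X)⁻¹ := by
      have := congrArg (fun z : N => ((z⁻¹ : N) : X)) hnu
      simpa using this
    have hcC : (c : X) ∈ Subgroup.centralizer (A : Set X) := by
      rw [Subgroup.mem_subgroupOf, hC] at hc
      exact hc.2
    have hca : a * (c : X) = (c : X) * a := Subgroup.mem_centralizer_iff.mp hcC a ha
    have huQ : (u : X) ∈ Q := ⟨u, hu, rfl⟩
    have e : ⁅n, a⁆ = ⁅(u : X)⁻¹, a⁆ := by
      rw [hn', commutatorElement_def, commutatorElement_def]
      have hca' : (c : X)⁻¹ * a * (c : X) = a := by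
        rw [mul_assoc, hca, ← mul_assoc, inv_mul_cancel, one_mul]
      calc (u : X)⁻¹ * (c : X)⁻¹ * a * ((u : X)⁻¹ * (c : X)⁻¹)⁻¹ * a⁻¹
          = (u : X)⁻¹ * ((c : X)⁻¹ * a * (c : X)) * ((u : X)⁻¹)⁻¹ * a⁻¹ := by group
        _ = (u : X)⁻¹ * a * ((u : X)⁻¹)⁻¹ * a⁻¹ := by rw [hca']
    rw [e]
    exact comm_le_left (h.hAT.trans hTP)
      (Subgroup.commutator_mem_commutator (Q.inv_mem huQ) ha)
  have hNQ : N ≤ Q := by
    rw [← N_eq_comm h hcop]; exact hcomm
  have hNt : IsPGroup t N := by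
    intro g
    obtain ⟨y, hy, hyg⟩ := hNQ g.2
    have : y = g := Subtype.ext hyg
    subst this
    obtain ⟨k, hk⟩ := P.isPGroup' ⟨y, hy⟩
    refine ⟨k, ?_⟩
    have := congrArg (fun z : (P : Subgroup N) => (z : N)) hk
    simpa using this
  refine ⟨t, ht.out, ?_, hNt⟩
  intro htp
  subst htp
  apply N_ne_bot h
  obtain ⟨k, hk⟩ := IsPGroup.iff_card.mp hNt
  rw [hk] at hcop
  have hk0 : k = 0 := by
    by_contra hk0
    have h0 : t ∣ t ^ k := dvd_pow_self t hk0
    have h1 : t ∣ Nat.gcd (t ^ k) t := Nat.dvd_gcd h0 dvd_rfl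
    rw [Nat.Coprime.gcd_eq_one hcop] at h1
    exact ht.out.one_lt.ne' (Nat.dvd_one.mp h1)
  rw [hk0, pow_zero] at hk
  exact (Subgroup.card_eq_one).mp hk

end Cfsg.Agent.Lib.Helper4.IsoMinB
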