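import Mathlib
import Cfsg.Agent.Lib.Helper3.Sig6
import Cfsg.Agent.Lib.Helper4.LB7

set_option autoImplicit false

/-!
Subgroups of elementary abelian groups: intermediate subgroups of given order, complements.
-/

namespace Cfsg.Agent.Lib.Helper4.KB

open Cfsg.Agent.Lib.Helper3.Sig Cfsg.Agent.Lib.Helper3.Gen Cfsg.Agent.Lib.Lead

variable {G : Type*} [Group G] [Finite G] {p : ℕ} [hp : Fact p.Prime]

theorem exists_not_mem_of_card_lt {E F : Subgroup G} (h : Nat.card E < Nat.card F) :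
    ∃ g ∈ F, g ∉ E := by
  by_contra hcon
  push Not at hcon
  have : F ≤ E := hcon
  have := Subgroup.card_le_of_le this
  omega

/-- between `E'` and `F` there is a subgroup of every intermediate order `p ^ k` -/
theorem exists_between_card {A : Subgroup G} (hA : Cfsg.IsElementaryAbelian p A) {F : Subgroup G}
    (hFA : F ≤ A) (k : ℕ) (hkF : p ^ k ≤ Nat.card F) :
    ∀ (m i : ℕ) (E' : Subgroup G), i + m = k → E' ≤ F → Nat.card E' = p ^ i →
      ∃ D : Subgroup G, E' ≤ D ∧ D ≤ F ∧ Nat.card D = p ^ k := by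
  intro m
  induction m with
  | zero =>
    intro i E' hik hE'F hE'
    have : i = k := by omega
    subst this
    exact ⟨E', le_rfl, hE'F, hE'⟩
  | succ m ih =>
    intro i E' hik hE'F hE'
    have hlt : Nat.card E' < Nat.card F := by
      rw [hE']
      exact lt_of_lt_of_le (Nat.pow_lt_pow_right hp.out.one_lt (by omega)) hkF
    obtain ⟨g, hgF, hgE⟩ := exists_not_mem_of_card_lt hlt
    have hgA : g ∈ A := hFA hgF
    obtain ⟨-, hcard⟩ := sup_zpowers_facts hA.1 (hE'F.trans hFA) hgA (hA.2 g hgA) hgE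
    obtain ⟨D, hD1, hD2, hD3⟩ := ih (i + 1) (E' ⊔ Subgroup.zpowers g) (by omega)
      (sup_le hE'F (Subgroup.zpowers_le.mpr hgF)) (by rw [hcard, hE', pow_succ])
    exact ⟨D, le_sup_left.trans hD1, hD2, hD3⟩

/-- complements in an elementary abelian group -/
theorem exists_complement {A : Subgroup G} (hA : Cfsg.IsElementaryAbelian p A) {E : Subgroup G}
    (hEA : E ≤ A) : ∃ A' : Subgroup G, A' ≤ A ∧ E ⊓ A' = ⊥ ∧ E ⊔ A' = A := by
  classical
  -- a subgroup of maximal order among those meeting `E` trivially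
  have hne : ∃ n : ℕ, ∃ A' : Subgroup G, A' ≤ A ∧ E ⊓ A' = ⊥ ∧ Nat.card A' = n :=
    ⟨1, ⊥, bot_le, inf_bot_eq E, Subgroup.card_bot⟩
  have hbd : ∀ n : ℕ, (∃ A' : Subgroup G, A' ≤ A ∧ E ⊓ A' = ⊥ ∧ Nat.card A' = n) →
      n ≤ Nat.card A := by
    rintro n ⟨A', hA'A, -, rfl⟩
    exact Subgroup.card_le_of_le hA'A
  obtain ⟨A', hA'A, hdisj, hcard⟩ := Nat.findGreatest_spec (P := fun n =>
    ∃ A' : Subgroup G, A' ≤ A ∧ E ⊓ A' = ⊥ ∧ Nat.card A' = n) (hbd _ (Nat.find_spec hne))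
    (Nat.find_spec hne)
  have hmax : ∀ A'' : Subgroup G, A'' ≤ A → E ⊓ A'' = ⊥ → Nat.card A'' ≤ Nat.card A' := by
    intro A'' hA''A hd
    rw [hcard]
    exact Nat.le_findGreatest (hbd _ ⟨A'', hA''A, hd, rfl⟩) ⟨A'', hA''A, hd, rfl⟩
  refine ⟨A', hA'A, hdisj, ?_⟩
  by_contra hne'
  have hle : E ⊔ A' ≤ A := sup_le hEA hA'A
  have hlt : Nat.card (E ⊔ A' : Subgroup G) < Nat.card A := by
    by_contra hcon
    push Not at hcon
    exact hne' (Subgroup.eq_of_le_of_card_ge hle hcon)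
  obtain ⟨g, hgA, hgK⟩ := exists_not_mem_of_card_lt hlt
  have hgp := hA.2 g hgA
  obtain ⟨-, hc1⟩ := sup_zpowers_facts hA.1 hle hgA hgp hgK
  have hgA' : g ∉ A' := fun h => hgK (Subgroup.mem_sup_right h)
  obtain ⟨-, hc2⟩ := sup_zpowers_facts hA.1 hA'A hgA hgp hgA'
  have hA''A : A' ⊔ Subgroup.zpowers g ≤ A := sup_le hA'A (Subgroup.zpowers_le.mpr hgA)
  have hc3 : Nat.card (E ⊔ A' : Subgroup G) = Nat.card E * Nat.card A' :=
    card_sup_of_disjoint E A' (le_normalizer_of_isMulCommutative hA.1 hEA hA'A) hdisj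
  have hc4 := card_sup_mul_card_inf E (A' ⊔ Subgroup.zpowers g)
    (le_normalizer_of_isMulCommutative hA.1 hEA hA''A)
  rw [← sup_assoc, hc1, hc3, hc2] at hc4
  have hpos : 0 < Nat.card E * Nat.card A' * p := by
    have := Nat.card_pos (α := E)
    have := Nat.card_pos (α := A')
    have := hp.out.pos
    positivity
  have h1 : Nat.card (E ⊓ (A' ⊔ Subgroup.zpowers g) : Subgroup G) = 1 := by
    have : Nat.card E * Nat.card A' * p * Nat.card (E ⊓ (A' ⊔ Subgroup.zpowers g) : Subgroup G) =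
        Nat.card E * Nat.card A' * p * 1 := by rw [hc4]; ring
    exact Nat.eq_of_mul_eq_mul_left hpos this
  have h2 := hmax _ hA''A (Subgroup.card_eq_one.mp h1)
  rw [hc2] at h2
  have := Nat.card_pos (α := A')
  have := hp.out.two_le
  nlinarith

theorem card_eq_mul_of_complement {A : Subgroup G} (hA : Cfsg.IsElementaryAbelian p A)
    {E A' : Subgroup G} (hEA : E ≤ A) (hA'A : A' ≤ A) (hd : E ⊓ A' = ⊥) (hs : E ⊔ A' = A) :
    Nat.card A = Nat.card E * Nat.card A' := by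
  rw [← hs]
  exact card_sup_of_disjoint E A' (le_normalizer_of_isMulCommutative hA.1 hEA hA'A) hd

end Cfsg.Agent.Lib.Helper4.KB
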