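import Mathlib
import Cfsg.Prelude
import Cfsg.Agent.Lib.Helper4.IsoMinB
import Cfsg.Agent.Lib.Helper4.KB1
import Cfsg.Agent.Lib.Helper4.FStarQuot2
import Cfsg.Agent.Lib.Helper2.Maschke
import Cfsg.Agent.Lib.Helper6.Comm
import Cfsg.Agent.Lib.Lead.Frattini

/-!
# Isolated p-minimal subgroups: the abstract coprime case (package B), second half

Maschke modulo the Frattini subgroup, `N = D`, and the final statement `absIso_coprime`.
-/

set_option autoImplicit false

namespace Cfsg.Agent.Lib.Helper4.IsoMinB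

open Cfsg.Agent.Lib.Helper6.IsoMin
open scoped commutatorElement

variable {X : Type*} [Group X]

theorem le_normalizer_sup' {T D E : Subgroup X} (hD : T ≤ Subgroup.normalizer (D : Set X))
    (hE : T ≤ Subgroup.normalizer (E : Set X)) :
    T ≤ Subgroup.normalizer ((D ⊔ E : Subgroup X) : Set X) := by
  intro g hg
  have h1 := hD hg
  have h2 := hE hg
  rw [Subgroup.mem_normalizer_iff_map_conj_eq] at h1 h2 ⊢
  rw [Subgroup.map_sup, h1, h2]

/-- a subgroup between `[N, N]` and `N` is normalized by `N` -/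
theorem le_normalizer_of_comm_le {N M : Subgroup X} (hNN : ⁅N, N⁆ ≤ M) (hMN : M ≤ N) :
    N ≤ Subgroup.normalizer (M : Set X) := by
  have key : ∀ n ∈ N, ∀ m ∈ M, n * m * n⁻¹ ∈ M := by
    intro n hn m hm
    have h1 : ⁅n, m⁆ ∈ M := hNN (Subgroup.commutator_mem_commutator hn (hMN hm))
    have e : n * m * n⁻¹ = ⁅n, m⁆ * m := by rw [commutatorElement_def]; group
    rw [e]; exact M.mul_mem h1 hm
  intro n hn
  rw [Subgroup.mem_normalizer_iff]
  intro m
  constructor
  · exact key n hn m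
  · intro hm
    have h2 := key n⁻¹ (N.inv_mem hn) _ hm
    have e : n⁻¹ * (n * m * n⁻¹) * n⁻¹⁻¹ = m := by group
    rwa [e] at h2

variable [Finite X]

/-- Maschke modulo the Frattini subgroup of a normal `t`-subgroup. -/
theorem exists_inv_complement_mod_frattini {t : ℕ} [ht : Fact t.Prime] {N T M : Subgroup X}
    [hN : N.Normal] (hNt : IsPGroup t N) (hcopT : (Nat.card T).Coprime t)
    (hMN : M ≤ N) (hΦM : (frattini ↥N).map N.subtype ≤ M)
    (hTM : T ≤ Subgroup.normalizer (M : Set X)) :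
    ∃ U : Subgroup X, U ≤ N ∧ (frattini ↥N).map N.subtype ≤ U ∧
      T ≤ Subgroup.normalizer (U : Set X) ∧ U ⊓ M ≤ (frattini ↥N).map N.subtype ∧
        U ⊔ M = N := by
  set Φ : Subgroup X := (frattini ↥N).map N.subtype with hΦ
  haveI hΦn : Φ.Normal := Cfsg.Agent.Lib.Helper4.FStarQuot.frattini_map_subtype_normal N
  have hΦN : Φ ≤ N := by
    rintro _ ⟨y, -, rfl⟩; exact y.2
  set π : X →* X ⧸ Φ := QuotientGroup.mk' Φ with hπ
  have hsurj : Function.Surjective π := QuotientGroup.mk'_surjective Φ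
  have hker : π.ker = Φ := QuotientGroup.ker_mk' Φ
  have hnil : Group.IsNilpotent ↥N := hNt.isNilpotent
  have hNN : ⁅N, N⁆ ≤ Φ :=
    Cfsg.Agent.Lib.Helper4.FStarQuot.commutator_le_frattini_map_subtype N hnil
  have hpow : ∀ x ∈ N, x ^ t ∈ Φ := by
    intro x hx
    have h1 := Cfsg.Agent.Lib.Lead.pow_mem_frattini_of_isPGroup hNt (⟨x, hx⟩ : N)
    exact ⟨_, h1, by simp⟩
  have hπ1 : ∀ x : X, π x = 1 ↔ x ∈ Φ := by
    intro x
    exact QuotientGroup.eq_one_iff x
  -- `V = N / Φ` is elementary abelian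
  have hV : Cfsg.IsElementaryAbelian t (N.map π) := by
    constructor
    · refine ⟨⟨fun a b => ?_⟩⟩
      obtain ⟨a, ⟨x, hx, rfl⟩⟩ := a
      obtain ⟨b, ⟨y, hy, rfl⟩⟩ := b
      apply Subtype.ext
      show π x * π y = π y * π x
      have h1 : ⁅x, y⁆ ∈ Φ := hNN (Subgroup.commutator_mem_commutator hx hy)
      have h2 : π ⁅x, y⁆ = 1 := (hπ1 _).mpr h1
      rw [commutatorElement_def, map_mul, map_mul, map_mul, map_inv, map_inv] at h2
      have h3 : π x * π y = (π x * π y * (π x)⁻¹ * (π y)⁻¹) * (π y * π x) := by group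
      rw [h3, h2, one_mul]
    · rintro _ ⟨x, hx, rfl⟩
      rw [← map_pow]
      exact (hπ1 _).mpr (hpow x hx)
  have hMV : M.map π ≤ N.map π := Subgroup.map_mono hMN
  obtain ⟨W₀, hW₀V, hW₀1, hW₀2⟩ := Cfsg.Agent.Lib.Helper4.KB.exists_complement hV hMV
  -- coprimality
  have hcop : (Nat.card (T.map π)).Coprime (Nat.card (N.map π)) := by
    have h1 : Nat.card (T.map π) ∣ Nat.card T :=
      Subgroup.card_dvd_of_surjective (π.subgroupMap T) (MonoidHom.subgroupMap_surjective π T)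
    have h2 : Nat.card (N.map π) ∣ Nat.card N :=
      Subgroup.card_dvd_of_surjective (π.subgroupMap N) (MonoidHom.subgroupMap_surjective π N)
    obtain ⟨k, hk⟩ := IsPGroup.iff_card.mp hNt
    rw [hk] at h2
    exact Nat.Coprime.coprime_dvd_left h1 (Nat.Coprime.coprime_dvd_right h2 (hcopT.pow_right k))
  have hTV : T.map π ≤ Subgroup.normalizer ((N.map π : Subgroup (X ⧸ Φ)) : Set (X ⧸ Φ)) := by
    refine le_trans (Subgroup.map_mono ?_) (Subgroup.le_normalizer_map π)
    rw [Subgroup.normalizer_eq_top_iff.mpr hN]; exact le_top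
  have hTMbar : T.map π ≤ Subgroup.normalizer ((M.map π : Subgroup (X ⧸ Φ)) : Set (X ⧸ Φ)) :=
    le_trans (Subgroup.map_mono hTM) (Subgroup.le_normalizer_map π)
  obtain ⟨W, hWV, hTW, hW1, hW2⟩ :=
    Cfsg.Agent.Lib.Helper2.Maschke.exists_invariant_complement (N.map π) (T.map π) (M.map π)
      hV.1 hTV hcop hMV hTMbar W₀ hW₀V hW₀1 hW₀2
  have hcomapM : (M.map π).comap π = M := by
    rw [Subgroup.comap_map_eq, hker]
    exact sup_eq_left.mpr hΦM
  have hcomapN : (N.map π).comap π = N := by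
    rw [Subgroup.comap_map_eq, hker]
    exact sup_eq_left.mpr hΦN
  refine ⟨W.comap π, ?_, ?_, ?_, ?_, ?_⟩
  · rw [← hcomapN]; exact Subgroup.comap_mono hWV
  · intro x hx
    rw [Subgroup.mem_comap, (hπ1 x).mpr hx]
    exact W.one_mem
  · intro g hg
    have h1 : π g ∈ Subgroup.normalizer ((W : Subgroup (X ⧸ Φ)) : Set (X ⧸ Φ)) :=
      hTW (Subgroup.mem_map_of_mem π hg)
    exact Subgroup.le_normalizer_comap π h1
  · intro x hx
    have h1 : π x ∈ M.map π ⊓ W :=
      ⟨Subgroup.mem_map_of_mem π hx.2, hx.1⟩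
    rw [hW1, Subgroup.mem_bot] at h1
    exact (hπ1 x).mp h1
  · have h1 : (M.map π ⊔ W).comap π = M ⊔ W.comap π := by
      rw [← Subgroup.comap_sup_eq π _ _ hsurj, hcomapM]
    rw [hW2, hcomapN] at h1
    rw [sup_comm]; exact h1.symm

theorem frattini_map_ne (N : Subgroup X) (hN : N ≠ ⊥) : (frattini ↥N).map N.subtype ≠ N := by
  intro h
  have h1 : frattini ↥N = ⊤ := by
    apply Subgroup.map_injective N.subtype_injective
    rw [h, ← MonoidHom.range_eq_map, Subgroup.range_subtype]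
  have h2 : (⊥ : Subgroup ↥N) ⊔ frattini ↥N = ⊤ := by rw [h1, bot_sup_eq]
  have h3 := frattini_nongenerating h2
  apply hN
  rw [eq_bot_iff]
  intro x hx
  have : (⟨x, hx⟩ : N) ∈ (⊥ : Subgroup ↥N) := by rw [h3]; exact Subgroup.mem_top _
  rw [Subgroup.mem_bot] at this
  rw [Subgroup.mem_bot]
  exact congrArg Subtype.val this

variable {p : ℕ} [hp : Fact p.Prime] {N T A Λ D : Subgroup X}

/-- (vii) `N = D` -/
theorem N_eq_D (h : AbsIso p N T A Λ D) (hcop : (Nat.card N).Coprime p) : N = D := by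
  obtain ⟨t, ht, htp, hNt⟩ := exists_prime_isPGroup h hcop
  haveI : Fact t.Prime := ⟨ht⟩
  haveI hNn : N.Normal := h.nN
  set Φ : Subgroup X := (frattini ↥N).map N.subtype with hΦ
  haveI hΦn : Φ.Normal := Cfsg.Agent.Lib.Helper4.FStarQuot.frattini_map_subtype_normal N
  have hΦN : Φ ≤ N := by
    rintro _ ⟨y, -, rfl⟩; exact y.2
  have hnil : Group.IsNilpotent ↥N := hNt.isNilpotent
  have hNN : ⁅N, N⁆ ≤ Φ :=
    Cfsg.Agent.Lib.Helper4.FStarQuot.commutator_le_frattini_map_subtype N hnil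
  have hDΦ : ¬ D ≤ Φ := by
    intro hD
    have h3 : Subgroup.normalClosure (D : Set X) ≤ Φ := Subgroup.normalClosure_le_normal hD
    rw [← h.hcl] at h3
    exact frattini_map_ne N (N_ne_bot h) (le_antisymm hΦN h3)
  set M : Subgroup X := D ⊔ Φ with hM
  have hMN : M ≤ N := sup_le h.hDN hΦN
  have hTM : T ≤ Subgroup.normalizer (M : Set X) := by
    apply le_normalizer_sup' h.hTD
    rw [Subgroup.normalizer_eq_top_iff.mpr hΦn]; exact le_top
  have hcopT : (Nat.card T).Coprime t := by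
    obtain ⟨k, hk⟩ := IsPGroup.iff_card.mp h.hT
    rw [hk]
    apply Nat.Coprime.pow_left
    exact (Nat.coprime_primes hp.out ht).mpr (Ne.symm htp)
  have hMeq : M = N := by
    by_contra hne
    obtain ⟨U, hUN, hΦU, hTU, hUM, hsup⟩ :=
      exists_inv_complement_mod_frattini hNt hcopT hMN le_sup_right hTM
    rcases comm_eq_bot_or h hcop hUN hTU with h1 | h1
    · -- `[N, A] ≤ M`
      have h2 : ⁅U ⊔ M, A⁆ ≤ M := by
        apply Cfsg.Agent.Lib.Helper6.commutator_sup_left_le A U M M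
        · rw [h1]; exact bot_le
        · exact comm_le_left (h.hAT.trans hTM)
        · exact hUN.trans (le_normalizer_of_comm_le (hNN.trans le_sup_right) hMN)
        · exact Subgroup.le_normalizer
      rw [hsup, N_eq_comm h hcop] at h2
      exact hne (le_antisymm hMN h2)
    · exact hDΦ ((le_inf h1 le_sup_left).trans hUM)
  -- Frattini argument inside `N`
  have h3 : D.subgroupOf N ⊔ frattini ↥N = ⊤ := by
    apply Subgroup.map_injective N.subtype_injective
    rw [Subgroup.map_sup, Subgroup.subgroupOf_map_subtype, ← MonoidHom.range_eq_map,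
      Subgroup.range_subtype, inf_eq_left.mpr h.hDN]
    exact hMeq
  have h4 := frattini_nongenerating h3
  rw [Subgroup.subgroupOf_eq_top] at h4
  exact le_antisymm h4 h.hDN

/-- (viii) `N` has class at most two -/
theorem class_two (h : AbsIso p N T A Λ D) (hcop : (Nat.card N).Coprime p) :
    ⁅⁅N, N⁆, N⁆ = ⊥ := by
  obtain ⟨t, ht, htp, hNt⟩ := exists_prime_isPGroup h hcop
  haveI : Fact t.Prime := ⟨ht⟩
  haveI hNn : N.Normal := h.nN
  have hnil : Group.IsNilpotent ↥N := hNt.isNilpotent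
  have hNN : ⁅N, N⁆ ≤ (frattini ↥N).map N.subtype :=
    Cfsg.Agent.Lib.Helper4.FStarQuot.commutator_le_frattini_map_subtype N hnil
  have hΦN : (frattini ↥N).map N.subtype ≤ N := by
    rintro _ ⟨y, -, rfl⟩; exact y.2
  apply h.hF5 ⁅N, N⁆ (Subgroup.commutator_normal N N)
  refine lt_of_le_of_ne (hNN.trans hΦN) ?_
  intro heq
  apply frattini_map_ne N (N_ne_bot h)
  exact le_antisymm hΦN (le_of_eq_of_le heq.symm hNN)

/-- **Package B**: the abstract isolated situation with `|N|` prime to `p`. -/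
theorem absIso_coprime {X : Type*} [Group X] [Finite X] {p : ℕ} [Fact p.Prime]
    {N T A Λ D : Subgroup X} (h : AbsIso p N T A Λ D) (hcop : (Nat.card N).Coprime p) :
    N = D ∧ ⁅⁅N, N⁆, N⁆ = ⊥ ∧ ∃ t : ℕ, t.Prime ∧ t ≠ p ∧ IsPGroup t N :=
  ⟨N_eq_D h hcop, class_two h hcop, exists_prime_isPGroup h hcop⟩

end Cfsg.Agent.Lib.Helper4.IsoMinB
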