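import Mathlib
import Cfsg.Agent.Lib.Helper7.Conj

set_option autoImplicit false

/-! Involutions fixing a unique point of `G/H`: basic lemmas and the odd-order product lemma. -/

namespace Cfsg.Agent.Lib.Helper4

open Cfsg.Agent.Lib.Helper7

variable {G : Type*} [Group G]

/-- `u` lies in `g H g⁻¹` exactly when `g ∈ H`: `u` fixes exactly the point `H` of `G/H` -/
def IsoPt (H : Subgroup G) (u : G) : Prop := ∀ g : G, u ∈ cj g H ↔ g ∈ H

theorem IsoPt.conj {H : Subgroup G} {u : G} (h : IsoPt H u) (k g : G) :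
    k * u * k⁻¹ ∈ cj g H ↔ k⁻¹ * g ∈ H := by
  rw [← h (k⁻¹ * g), mem_cj, mem_cj]
  have : g⁻¹ * (k * u * k⁻¹) * g = (k⁻¹ * g)⁻¹ * u * (k⁻¹ * g) := by group
  rw [this]

theorem IsoPt.mem {H : Subgroup G} {u : G} (h : IsoPt H u) : u ∈ H := by
  have := (h 1).mpr H.one_mem
  rwa [cj_one] at this

theorem IsoPt.conj_mem_iff {H : Subgroup G} {u : G} (h : IsoPt H u) (k : G) :
    k * u * k⁻¹ ∈ H ↔ k ∈ H := by
  have := h.conj k 1
  rw [cj_one, mul_one] at this
  rw [this]
  exact ⟨fun h1 => by simpa using H.inv_mem h1, fun h1 => H.inv_mem h1⟩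

theorem IsoPt.comm_mem {H : Subgroup G} {u : G} (h : IsoPt H u) {c : G} (hc : c * u = u * c) :
    c ∈ H := by
  rw [← h.conj_mem_iff c]
  have : c * u * c⁻¹ = u := by rw [hc]; group
  rw [this]; exact h.mem

/-- an element commuting with `k u k⁻¹` lies in `k H k⁻¹` -/
theorem IsoPt.comm_mem_conj {H : Subgroup G} {u : G} (h : IsoPt H u) (k : G) {c : G}
    (hc : c * (k * u * k⁻¹) = (k * u * k⁻¹) * c) : c ∈ cj k H := by
  rw [mem_cj]
  apply h.comm_mem
  calc k⁻¹ * c * k * u = k⁻¹ * (c * (k * u * k⁻¹)) * k := by group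
    _ = k⁻¹ * ((k * u * k⁻¹) * c) * k := by rw [hc]
    _ = u * (k⁻¹ * c * k) := by group

theorem eq_of_sq_eq_of_odd {r r' : G} (hr : Odd (orderOf r)) (hr' : Odd (orderOf r'))
    (h : r ^ 2 = r' ^ 2) : r = r' := by
  have hcop : (orderOf r).Coprime 2 := Nat.Coprime.symm (Nat.coprime_two_left.mpr hr)
  have hcop' : (orderOf r').Coprime 2 := Nat.Coprime.symm (Nat.coprime_two_left.mpr hr')
  have h1 : orderOf (r ^ 2) = orderOf r := hcop.orderOf_pow
  have h2 : orderOf (r' ^ 2) = orderOf r' := hcop'.orderOf_pow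
  have h3 : orderOf r = orderOf r' := by rw [← h1, ← h2, h]
  obtain ⟨j, hj⟩ := hr
  have h4 : r = (r ^ 2) ^ (j + 1) := by
    rw [← pow_mul]
    have : 2 * (j + 1) = orderOf r + 1 := by omega
    rw [this, pow_succ, pow_orderOf_eq_one, one_mul]
  have h5 : r' = (r' ^ 2) ^ (j + 1) := by
    rw [← pow_mul]
    have : 2 * (j + 1) = orderOf r' + 1 := by omega
    rw [this, pow_succ, pow_orderOf_eq_one, one_mul]
  rw [h4, h5, h]

/-- dihedral relations: `a` inverts `a b` -/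
theorem inv_conj_pow {a b : G} (ha : a * a = 1) (hb : b * b = 1) (n : ℕ) :
    a * (a * b) ^ n * a = (b * a) ^ n := by
  induction n with
  | zero => simp [ha]
  | succ n ih =>
    rw [pow_succ, pow_succ, ← ih]
    calc a * ((a * b) ^ n * (a * b)) * a = (a * (a * b) ^ n * a) * (a * a) * (b * a) := by
          rw [ha]; group
      _ = a * (a * b) ^ n * a * (b * a) := by rw [ha, mul_one]

theorem ba_pow_eq_inv {a b : G} (ha : a * a = 1) (hb : b * b = 1) (n : ℕ) :
    (b * a) ^ n = ((a * b) ^ n)⁻¹ := by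
  have h1 : b * a = (a * b)⁻¹ := by
    rw [mul_inv_rev]
    have hai : a⁻¹ = a := inv_eq_of_mul_eq_one_left ha
    have hbi : b⁻¹ = b := inv_eq_of_mul_eq_one_left hb
    rw [hai, hbi]
  rw [h1, inv_pow]

end Cfsg.Agent.Lib.Helper4
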