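import Mathlib
import Cfsg.Agent.Lib.Helper4.IsolatedInv1

set_option autoImplicit false

/-! Involutions fixing a unique point of `G/H`: the odd-order product lemma. -/

namespace Cfsg.Agent.Lib.Helper4

open Cfsg.Agent.Lib.Helper7

variable {G : Type*} [Group G]

theorem sq_eq_one_of_orderOf_two {z : G} (hz : orderOf z = 2) : z * z = 1 := by
  rw [← pow_two, ← hz]; exact pow_orderOf_eq_one z

theorem conj_sq_eq_one {z : G} (hz : z * z = 1) (k : G) : (k * z * k⁻¹) * (k * z * k⁻¹) = 1 := by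
  calc (k * z * k⁻¹) * (k * z * k⁻¹) = k * (z * z) * k⁻¹ := by group
    _ = 1 := by rw [hz]; group

/-- the conjugated form of the hypothesis on commuting conjugates -/
theorem isoPt_mul_conj {H : Subgroup G} {z : G}
    (h1 : ∀ t : G, IsConj z t → t ≠ z → t * z = z * t → IsoPt H (z * t))
    (k t' : G) (ht' : IsConj z t') (hne : t' ≠ k * z * k⁻¹)
    (hcomm : t' * (k * z * k⁻¹) = (k * z * k⁻¹) * t') (g : G) :
    (k * z * k⁻¹) * t' ∈ cj g H ↔ k⁻¹ * g ∈ H := by
  obtain ⟨t, htdef⟩ : ∃ t : G, t = k⁻¹ * t' * k := ⟨_, rfl⟩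
  have ht'eq : t' = k * t * k⁻¹ := by rw [htdef]; group
  have htconj : IsConj z t := by
    obtain ⟨c, hc⟩ := isConj_iff.mp ht'
    rw [isConj_iff]
    refine ⟨k⁻¹ * c, ?_⟩
    rw [htdef, ← hc]; group
  have htne : t ≠ z := by
    intro h
    apply hne
    rw [ht'eq, h]
  have htcomm : t * z = z * t := by
    have h2 : k⁻¹ * (t' * (k * z * k⁻¹)) * k = k⁻¹ * ((k * z * k⁻¹) * t') * k := by rw [hcomm]
    calc t * z = k⁻¹ * (t' * (k * z * k⁻¹)) * k := by rw [htdef]; group
      _ = k⁻¹ * ((k * z * k⁻¹) * t') * k := h2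
      _ = z * t := by rw [htdef]; group
  have hiso := h1 t htconj htne htcomm
  have : (k * z * k⁻¹) * t' = k * (z * t) * k⁻¹ := by rw [ht'eq]; group
  rw [this]
  exact hiso.conj k g

/-- two conjugates of `z` with distinct fixed points have product of odd order -/
theorem odd_orderOf_mul_of_isoPt [Finite G] {H : Subgroup G} {z : G} (hz : orderOf z = 2)
    (h0 : IsoPt H z)
    (h1 : ∀ t : G, IsConj z t → t ≠ z → t * z = z * t → IsoPt H (z * t))
    (k l : G) (hkl : k⁻¹ * l ∉ H) : Odd (orderOf ((k * z * k⁻¹) * (l * z * l⁻¹))) := by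
  have hzz : z * z = 1 := sq_eq_one_of_orderOf_two hz
  obtain ⟨a, hadef⟩ : ∃ a : G, a = k * z * k⁻¹ := ⟨_, rfl⟩
  obtain ⟨b, hbdef⟩ : ∃ b : G, b = l * z * l⁻¹ := ⟨_, rfl⟩
  rw [← hadef, ← hbdef]
  have haa : a * a = 1 := by rw [hadef]; exact conj_sq_eq_one hzz k
  have hbb : b * b = 1 := by rw [hbdef]; exact conj_sq_eq_one hzz l
  have hai : a⁻¹ = a := inv_eq_of_mul_eq_one_left haa
  have hbi : b⁻¹ = b := inv_eq_of_mul_eq_one_left hbb
  by_contra hodd
  rw [Nat.not_odd_iff_even] at hodd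
  obtain ⟨n, hn⟩ := hodd
  have hpos : 0 < orderOf (a * b) := orderOf_pos _
  have hn0 : n ≠ 0 := by omega
  obtain ⟨w, hwdef⟩ : ∃ w : G, w = (a * b) ^ n := ⟨_, rfl⟩
  have hw1 : w ≠ 1 := by
    rw [hwdef]
    exact pow_ne_one_of_lt_orderOf hn0 (by omega)
  have hww : w * w = 1 := by
    rw [hwdef, ← pow_add, ← hn]; exact pow_orderOf_eq_one _
  have hwi : w⁻¹ = w := inv_eq_of_mul_eq_one_left hww
  have hawa : a * w * a = w := by
    rw [hwdef, inv_conj_pow haa hbb, ba_pow_eq_inv haa hbb, ← hwdef, hwi]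
  have hbwb : b * w * b = w := by
    have h2 : (a * b) ^ n = ((b * a) ^ n)⁻¹ := ba_pow_eq_inv hbb haa n
    have h3 : b * (b * a) ^ n * b = (a * b) ^ n := inv_conj_pow hbb haa n
    have h4 : b * w * b = (b * (b * a) ^ n * b)⁻¹ := by
      rw [hwdef, h2]
      simp only [mul_inv_rev, hbi]
      group
    rw [h4, h3, ← hwdef, hwi]
  have haw : a * w = w * a := by
    calc a * w = (a * w * a) * a⁻¹ := by group
      _ = w * a := by rw [hawa, hai]
  have hbw : b * w = w * b := by
    calc b * w = (b * w * b) * b⁻¹ := by group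
      _ = w * b := by rw [hbwb, hbi]
  -- the element a w is a conjugate of z
  have hconj : IsConj z (a * w) := by
    have hba : ∀ j : ℕ, (b * a) ^ j * a = a * (a * b) ^ j := by
      intro j
      have h2 := inv_conj_pow haa hbb j
      calc (b * a) ^ j * a = (a * (a * b) ^ j * a) * a := by rw [h2]
        _ = a * (a * b) ^ j * (a * a) := by group
        _ = a * (a * b) ^ j := by rw [haa, mul_one]
    have hinv : ∀ j : ℕ, ((b * a) ^ j)⁻¹ = (a * b) ^ j := by
      intro j
      rw [ba_pow_eq_inv haa hbb, inv_inv]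
    rcases Nat.even_or_odd' n with ⟨j, hj | hj⟩
    · -- n = 2 j
      rw [isConj_iff]
      refine ⟨(b * a) ^ j * k, ?_⟩
      have h2 : (b * a) ^ j * k * z * ((b * a) ^ j * k)⁻¹ = (b * a) ^ j * a * ((b * a) ^ j)⁻¹ := by
        rw [hadef]; group
      rw [h2, hba, hinv, hwdef, hj, mul_assoc, ← pow_add]
      congr 2
      omega
    · -- n = 2 j + 1
      rw [isConj_iff]
      refine ⟨(b * a) ^ j * l, ?_⟩
      have h2 : (b * a) ^ j * l * z * ((b * a) ^ j * l)⁻¹ = (b * a) ^ j * b * ((b * a) ^ j)⁻¹ := by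
        rw [hbdef]; group
      rw [h2, hinv, hwdef, hj]
      have h3 : (b * a) ^ j * b = (b * a) ^ j * a * (a * b) := by
        calc (b * a) ^ j * b = (b * a) ^ j * ((a * a) * b) := by rw [haa, one_mul]
          _ = (b * a) ^ j * a * (a * b) := by group
      rw [h3, hba, mul_assoc, mul_assoc, ← pow_succ', ← pow_add]
      congr 2
      omega
  have hne : a * w ≠ k * z * k⁻¹ := by
    rw [← hadef]
    intro h
    apply hw1
    have : w = a⁻¹ * (a * w) := by group
    rw [this, h]; group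
  have hcomm : (a * w) * (k * z * k⁻¹) = (k * z * k⁻¹) * (a * w) := by
    rw [← hadef]
    calc a * w * a = w := hawa
      _ = (a * a) * w := by rw [haa, one_mul]
      _ = a * (a * w) := by group
  have hkey := isoPt_mul_conj h1 k (a * w) hconj hne hcomm l
  rw [← hadef] at hkey
  have h5 : a * (a * w) = w := by
    calc a * (a * w) = (a * a) * w := by group
      _ = w := by rw [haa, one_mul]
  rw [h5] at hkey
  apply hkl
  rw [← hkey]
  apply h0.comm_mem_conj l
  rw [← hbdef]
  exact hbw.symm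

end Cfsg.Agent.Lib.Helper4
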