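import Mathlib
import Cfsg.Agent.Lib.Helper4.IsolatedInv2

set_option autoImplicit false

/-! Involutions fixing a unique point of `G/H`: the class of `z` meets `H` in an odd number of elements. -/

namespace Cfsg.Agent.Lib.Helper4

open Cfsg.Agent.Lib.Helper7

variable {G : Type*} [Group G]

/-- `b` inverts the powers of `a b` -/
theorem conj_pow_inv {a b : G} (ha : a * a = 1) (hb : b * b = 1) (n : ℕ) :
    b * (a * b) ^ n * b = ((a * b) ^ n)⁻¹ := by
  have hbi : b⁻¹ = b := inv_eq_of_mul_eq_one_left hb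
  have h2 : (a * b) ^ n = ((b * a) ^ n)⁻¹ := ba_pow_eq_inv hb ha n
  have h3 : b * (b * a) ^ n * b = (a * b) ^ n := inv_conj_pow hb ha n
  have h4 : b * (a * b) ^ n * b = (b * (b * a) ^ n * b)⁻¹ := by
    rw [h2]
    simp only [mul_inv_rev, hbi]
    group
  rw [h4, h3]

open Classical in
theorem card_class_inter_odd [Fintype G] {H : Subgroup G} {z : G} (hz : orderOf z = 2)
    (hH : H ≠ ⊤) (h0 : IsoPt H z)
    (h1 : ∀ t : G, IsConj z t → t ≠ z → t * z = z * t → IsoPt H (z * t)) :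
    Odd ((Finset.univ.filter (fun d : G => IsConj z d ∧ d ∈ H)).card) := by
  have hzz : z * z = 1 := sq_eq_one_of_orderOf_two hz
  have hzH : z ∈ H := h0.mem
  obtain ⟨g, hg⟩ := SetLike.exists_not_mem_of_ne_top H hH
  obtain ⟨c₀, hc₀def⟩ : ∃ c₀ : G, c₀ = g * z * g⁻¹ := ⟨_, rfl⟩
  have hc₀H : c₀ ∉ H := by
    rw [hc₀def, h0.conj_mem_iff g]; exact hg
  have hc₀c₀ : c₀ * c₀ = 1 := by rw [hc₀def]; exact conj_sq_eq_one hzz g
  have hc₀i : c₀⁻¹ = c₀ := inv_eq_of_mul_eq_one_left hc₀c₀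
  have hc₀conj : IsConj z c₀ := isConj_iff.mpr ⟨g, hc₀def.symm⟩
  obtain ⟨b, hbdef⟩ : ∃ b : G, b = c₀ * z * c₀⁻¹ := ⟨_, rfl⟩
  have hbb : b * b = 1 := by rw [hbdef]; exact conj_sq_eq_one hzz c₀
  have hbi : b⁻¹ = b := inv_eq_of_mul_eq_one_left hbb
  -- general facts about conjugates
  have hsq : ∀ d : G, IsConj z d → d * d = 1 := by
    intro d hd
    obtain ⟨k, rfl⟩ := isConj_iff.mp hd
    exact conj_sq_eq_one hzz k
  obtain ⟨A, hAdef⟩ : ∃ A : Finset G, A = Finset.univ.filter (fun d : G => IsConj z d ∧ d ∈ H) :=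
    ⟨_, rfl⟩
  obtain ⟨𝒮, h𝒮def⟩ : ∃ 𝒮 : Finset G, 𝒮 = Finset.univ.filter (fun c : G => IsConj z c ∧ c₀⁻¹ * c ∈ H) :=
    ⟨_, rfl⟩
  rw [← hAdef]
  have hA_mem : ∀ d, d ∈ A ↔ (IsConj z d ∧ d ∈ H) := by intro d; rw [hAdef]; simp
  have h𝒮_mem : ∀ c, c ∈ 𝒮 ↔ (IsConj z c ∧ c₀⁻¹ * c ∈ H) := by intro c; rw [h𝒮def]; simp
  have hcc₀ : ∀ c ∈ 𝒮, c * c₀ ∈ H := by
    intro c hc
    obtain ⟨hcconj, hcH⟩ := (h𝒮_mem c).mp hc
    have hci : c⁻¹ = c := inv_eq_of_mul_eq_one_left (hsq c hcconj)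
    have : c * c₀ = (c₀⁻¹ * c)⁻¹ := by rw [mul_inv_rev, inv_inv, hci]
    rw [this]; exact H.inv_mem hcH
  -- odd order of c b for c ∈ 𝒮
  have hodd𝒮 : ∀ c ∈ 𝒮, Odd (orderOf (c * b)) := by
    intro c hc
    obtain ⟨hcconj, hcH⟩ := (h𝒮_mem c).mp hc
    obtain ⟨k, hk⟩ := isConj_iff.mp hcconj
    rw [← hk, hbdef]
    apply odd_orderOf_mul_of_isoPt hz h0 h1 k c₀
    intro hkc
    have h2 := hcc₀ c hc
    rw [← hk] at h2
    have h3 : k * z * (k⁻¹ * c₀) ∈ H := by
      have : k * z * (k⁻¹ * c₀) = k * z * k⁻¹ * c₀ := by group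
      rw [this]; exact h2
    have hkH : k ∈ H := by
      have : k = (k * z * (k⁻¹ * c₀)) * (k⁻¹ * c₀)⁻¹ * z⁻¹ := by group
      rw [this]
      exact H.mul_mem (H.mul_mem h3 (H.inv_mem hkc)) (H.inv_mem hzH)
    apply hc₀H
    have : c₀ = k * (k⁻¹ * c₀) := by group
    rw [this]; exact H.mul_mem hkH hkc
  -- the bijection
  have hcard : 𝒮.card = A.card := by
    apply Finset.card_bij (fun c _ => c * b * c⁻¹)
    · intro c hc
      obtain ⟨hcconj, hcH⟩ := (h𝒮_mem c).mp hc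
      rw [hA_mem]
      have h2 : c * b * c⁻¹ = (c * c₀) * z * (c * c₀)⁻¹ := by rw [hbdef]; group
      refine ⟨isConj_iff.mpr ⟨c * c₀, h2.symm⟩, ?_⟩
      rw [h2, h0.conj_mem_iff]
      exact hcc₀ c hc
    · intro c hc c' hc' heq
      have hci : c⁻¹ = c := inv_eq_of_mul_eq_one_left (hsq c ((h𝒮_mem c).mp hc).1)
      have hc'i : c'⁻¹ = c' := inv_eq_of_mul_eq_one_left (hsq c' ((h𝒮_mem c').mp hc').1)
      have h2 : (c * b) ^ 2 = (c' * b) ^ 2 := by
        rw [pow_two, pow_two]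
        calc c * b * (c * b) = (c * b * c⁻¹) * b := by rw [hci]; group
          _ = (c' * b * c'⁻¹) * b := by rw [heq]
          _ = c' * b * (c' * b) := by rw [hc'i]; group
      have h3 := eq_of_sq_eq_of_odd (hodd𝒮 c hc) (hodd𝒮 c' hc') h2
      exact mul_right_cancel h3
    · intro a' ha'
      obtain ⟨ha'conj, ha'H⟩ := (hA_mem a').mp ha'
      obtain ⟨k, hk⟩ := isConj_iff.mp ha'conj
      have hkH : k ∈ H := by rw [← hk, h0.conj_mem_iff] at ha'H; exact ha'H
      have ha'a' : a' * a' = 1 := hsq a' ha'conj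
      have hoddab : Odd (orderOf (a' * b)) := by
        rw [← hk, hbdef]
        apply odd_orderOf_mul_of_isoPt hz h0 h1 k c₀
        intro hkc
        apply hc₀H
        have : c₀ = k * (k⁻¹ * c₀) := by group
        rw [this]; exact H.mul_mem hkH hkc
      obtain ⟨j, hj⟩ := hoddab
      obtain ⟨ρ, hρdef⟩ : ∃ ρ : G, ρ = a' * b := ⟨_, rfl⟩
      rw [← hρdef] at hj
      have hρpow : ρ ^ (2 * j + 1) = 1 := by rw [← hj]; exact pow_orderOf_eq_one ρ
      have hinvρ : ∀ n : ℕ, b * ρ ^ n * b = (ρ ^ n)⁻¹ := by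
        intro n; rw [hρdef]; exact conj_pow_inv ha'a' hbb n
      obtain ⟨s, hsdef⟩ : ∃ s : G, s = ρ ^ (j + 1) := ⟨_, rfl⟩
      have hss : s * s = ρ := by
        rw [hsdef, ← pow_add]
        have : j + 1 + (j + 1) = (2 * j + 1) + 1 := by omega
        rw [this, pow_succ, hρpow, one_mul]
      have hbsb : b * s * b = s⁻¹ := by rw [hsdef]; exact hinvρ (j + 1)
      obtain ⟨t, htdef⟩ : ∃ t : G, t = ρ ^ ((j + 1) * (j + 1)) := ⟨_, rfl⟩
      have htt : t * t = s := by
        rw [htdef, hsdef, ← pow_add]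
        have h5 : (j + 1) * (j + 1) + (j + 1) * (j + 1) = (2 * j + 1) * (j + 1) + (j + 1) := by ring
        rw [h5, pow_add, pow_mul, hρpow, one_pow, one_mul]
      have hbtb : b * t * b = t⁻¹ := by rw [htdef]; exact hinvρ _
      obtain ⟨c, hcdef⟩ : ∃ c : G, c = s * b := ⟨_, rfl⟩
      have hcc : c * c = 1 := by
        calc c * c = s * (b * s * b) := by rw [hcdef]; group
          _ = 1 := by rw [hbsb]; group
      have hci : c⁻¹ = c := inv_eq_of_mul_eq_one_left hcc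
      have hcconj : IsConj z c := by
        rw [isConj_iff]
        refine ⟨t * c₀, ?_⟩
        have h5 : t * c₀ * z * (t * c₀)⁻¹ = t * b * t⁻¹ := by rw [hbdef]; group
        rw [h5]
        calc t * b * t⁻¹ = t * b * (b * t * b) := by rw [hbtb]
          _ = t * (b * b) * t * b := by group
          _ = t * t * b := by rw [hbb]; group
          _ = c := by rw [htt, hcdef]
      have hcbc : c * b * c⁻¹ = a' := by
        have h5 : b * s⁻¹ * b = s := by
          have : b * s⁻¹ * b = (b * s * b)⁻¹ := by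
            simp only [mul_inv_rev, hbi]; group
          rw [this, hbsb, inv_inv]
        calc c * b * c⁻¹ = s * b * s⁻¹ := by rw [hcdef]; group
          _ = s * (b * s⁻¹ * b) * b⁻¹ := by group
          _ = s * s * b := by rw [h5, hbi]
          _ = a' := by
              rw [hss, hρdef]
              calc a' * b * b = a' * (b * b) := by group
                _ = a' := by rw [hbb, mul_one]
      refine ⟨c, ?_, hcbc⟩
      rw [h𝒮_mem]
      refine ⟨hcconj, ?_⟩
      have h6 : c * b * c⁻¹ = (c * c₀) * z * (c * c₀)⁻¹ := by rw [hbdef]; group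
      have h7 : (c * c₀) * z * (c * c₀)⁻¹ ∈ H := by rw [← h6, hcbc]; exact ha'H
      rw [h0.conj_mem_iff] at h7
      have : c₀⁻¹ * c = (c * c₀)⁻¹ := by rw [mul_inv_rev, hci]
      rw [this]; exact H.inv_mem h7
  -- parity of 𝒮
  rw [← hcard]
  have hc₀𝒮 : c₀ ∈ 𝒮 := by
    rw [h𝒮_mem]
    refine ⟨hc₀conj, ?_⟩
    rw [inv_mul_cancel]; exact H.one_mem
  have heven : Even (𝒮.erase c₀).card := by
    have hsum : ∑ x ∈ 𝒮.erase c₀, (1 : ZMod 2) = 0 := by
      apply Finset.sum_involution (fun c _ => c₀ * c * c₀⁻¹)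
      · intro c _
        decide
      · intro c hc _
        have hc' := Finset.mem_erase.mp hc
        obtain ⟨hcconj, hcH⟩ := (h𝒮_mem c).mp hc'.2
        intro hfix
        -- c commutes with c₀
        have hcomm : c * c₀ = c₀ * c := by
          calc c * c₀ = (c₀ * c * c₀⁻¹) * c₀ := by rw [hfix]
            _ = c₀ * c := by group
        have hkey := isoPt_mul_conj h1 g c hcconj (by rw [← hc₀def]; exact hc'.1)
          (by rw [← hc₀def]; exact hcomm) 1
        rw [← hc₀def, cj_one, mul_one] at hkey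
        have h5 : c₀ * c ∈ H := by rw [← hcomm]; exact hcc₀ c hc'.2
        have h6 := hkey.mp h5
        apply hg
        have : g = (g⁻¹)⁻¹ := by group
        rw [this]; exact H.inv_mem h6
      · intro c hc
        have hc' := Finset.mem_erase.mp hc
        obtain ⟨hcconj, hcH⟩ := (h𝒮_mem c).mp hc'.2
        rw [Finset.mem_erase]
        refine ⟨?_, ?_⟩
        · intro h
          apply hc'.1
          have : c = c₀⁻¹ * (c₀ * c * c₀⁻¹) * c₀ := by group
          rw [this, h]; group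
        · rw [h𝒮_mem]
          refine ⟨?_, ?_⟩
          · obtain ⟨k, hk⟩ := isConj_iff.mp hcconj
            rw [isConj_iff]
            refine ⟨c₀ * k, ?_⟩
            rw [← hk]; group
          · have : c₀⁻¹ * (c₀ * c * c₀⁻¹) = c * c₀ := by
              calc c₀⁻¹ * (c₀ * c * c₀⁻¹) = c * c₀⁻¹ := by group
                _ = c * c₀ := by rw [hc₀i]
            rw [this]; exact hcc₀ c hc'.2
      · intro c _
        show c₀ * (c₀ * c * c₀⁻¹) * c₀⁻¹ = c
        rw [hc₀i]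
        calc c₀ * (c₀ * c * c₀) * c₀ = (c₀ * c₀) * c * (c₀ * c₀) := by group
          _ = c := by rw [hc₀c₀, one_mul, mul_one]
    have h2 : ((𝒮.erase c₀).card : ZMod 2) = 0 := by
      rw [← hsum]; simp
    rw [ZMod.natCast_eq_zero_iff] at h2
    exact even_iff_two_dvd.mpr h2
  have h3 : 𝒮.card = (𝒮.erase c₀).card + 1 := by
    rw [Finset.card_erase_of_mem hc₀𝒮]
    have : 0 < 𝒮.card := Finset.card_pos.mpr ⟨c₀, hc₀𝒮⟩
    omega
  rw [h3]
  exact heven.add_one

end Cfsg.Agent.Lib.Helper4
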