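import Mathlib
import Cfsg.Agent.Lib.Helper4.SF3

set_option autoImplicit false

/-!
A solvable signalizer functor whose closure is a solvable `p'`-group is complete: the induction.
-/

namespace Cfsg.Agent.Lib.Helper4.SF

open Cfsg.Agent.Lib.Helper3.Sig Cfsg.Agent.Lib.Helper3.Gen

universe u

variable {G : Type u} [Group G]

theorem le_normalizer_closure {p : ℕ} {A : Subgroup G} {θ : G → Subgroup G}
    (hθ : Cfsg.IsSignalizerFunctor p A θ) :
    A ≤ Subgroup.normalizer ((Cfsg.signalizerClosure A θ : Subgroup G) : Set G) := by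
  apply Cfsg.Agent.Lib.Helper3.Sig.le_normalizer_of_conj_mem
  intro b hb
  unfold Cfsg.signalizerClosure
  apply conj_mem_iSup_of_forall
  rintro ⟨a, ha, ha1⟩ z hz
  exact theta_le_closure θ ha ha1 (hθ.2.2.1 a ha ha1 b hb z hz)

theorem caseA [Finite G] {p : ℕ} [Fact p.Prime] {A : Subgroup G} {θ : G → Subgroup G}
    {W : Subgroup G} (hA : Cfsg.IsElementaryAbelian p A) (hA3 : p ^ 3 ≤ Nat.card A)
    (hθ : Cfsg.IsSolvableSignalizerFunctor p A θ) (hW : Cfsg.signalizerClosure A θ = W)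
    (hWs : Group.IsSolvable W) (hWp : ¬ p ∣ Nat.card W) (hWA : W ⊔ A = ⊤)
    {M : Subgroup G} (hMW : M ≤ W) (hMn : M.Normal) (hM1 : M ≠ ⊥)
    (hMmin : ∀ K : Subgroup G, K.Normal → K ≤ M → K = ⊥ ∨ K = M)
    (hex : ∃ a ∈ A, a ≠ 1 ∧ θ a ⊓ M ≠ ⊥) :
    ∀ b ∈ A, b ≠ 1 → M ⊓ Subgroup.centralizer {b} ≤ θ b := by
  have hMs : Group.IsSolvable M :=
    Group.isSolvable_of_isSolvable_injective (f := Subgroup.inclusion hMW) (Subgroup.inclusion_injective hMW)
  obtain ⟨q, hq, hqM⟩ := isPGroup_of_minNormal_solvable hM1 hMmin hMs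
  have hMp : ¬ p ∣ Nat.card M := fun h => hWp (h.trans (Subgroup.card_dvd_of_le hMW))
  have hAM : A ≤ Subgroup.normalizer (M : Set G) := le_normalizer_of_normal A M
  have hWM : Cfsg.signalizerClosure A θ ≤ Subgroup.normalizer (M : Set G) :=
    le_normalizer_of_normal _ M
  have hZn : (⨆ a : {a : G // a ∈ A ∧ a ≠ 1}, θ (a : G) ⊓ M).Normal :=
    normal_of_sup_le_normalizer hWA (by
      have := le_normalizer_iSup_inf hA hA3 hθ hMp hWM hAM
      rwa [hW] at this)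
  have hZM : (⨆ a : {a : G // a ∈ A ∧ a ≠ 1}, θ (a : G) ⊓ M) ≤ M := iSup_le fun _ => inf_le_right
  have hZ1 : (⨆ a : {a : G // a ∈ A ∧ a ≠ 1}, θ (a : G) ⊓ M) ≠ ⊥ := by
    obtain ⟨a, ha, ha1, hne⟩ := hex
    intro h
    apply hne
    rw [eq_bot_iff, ← h]
    exact le_iSup (fun a : {a : G // a ∈ A ∧ a ≠ 1} => θ (a : G) ⊓ M) ⟨a, ha, ha1⟩
  have hZeq := (hMmin _ hZn hZM).resolve_left hZ1
  have hc := inf_complete hA hA3 hθ hAM hq (fun a _ _ => hqM.to_le inf_le_right)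
  intro b hb hb1
  have h := hc b hb hb1
  rw [hZeq] at h
  rw [h]
  exact inf_le_left

theorem caseB [Finite G] {p : ℕ} [Fact p.Prime] {A : Subgroup G} {θ : G → Subgroup G}
    {W : Subgroup G} (hA : Cfsg.IsElementaryAbelian p A) (hA3 : p ^ 3 ≤ Nat.card A)
    (hθ : Cfsg.IsSolvableSignalizerFunctor p A θ) (hW : Cfsg.signalizerClosure A θ = W)
    (hWs : Group.IsSolvable W) (hWp : ¬ p ∣ Nat.card W) (hWA : W ⊔ A = ⊤) (hW1 : W ≠ ⊥)
    (hQL : ∀ (N : Subgroup G) [N.Normal], N ≤ W → N ≠ ⊥ → ∀ a ∈ A, a ≠ 1 → ∀ w ∈ W,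
      w ∈ Subgroup.centralizer {a} → ∃ x ∈ θ a, ∃ m ∈ N ⊓ Subgroup.centralizer {a}, w = x * m)
    (hnone : ∀ M : Subgroup G, M ≤ W → M.Normal → M ≠ ⊥ →
      (∀ K : Subgroup G, K.Normal → K ≤ M → K = ⊥ ∨ K = M) → ∀ a ∈ A, a ≠ 1 → θ a ⊓ M = ⊥) :
    False := by
  have hAW : A ≤ Subgroup.normalizer (W : Set G) := by
    rw [← hW]; exact le_normalizer_closure hθ.1
  have hWn : W.Normal :=
    normal_of_sup_le_normalizer hWA (sup_le Subgroup.le_normalizer hAW)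
  obtain ⟨M, hMW, hMn, hM1, hMmin⟩ := Cfsg.Agent.Lib.Helper2.exists_minNormal_le W hW1
  have hθM := hnone M hMW hMn hM1 hMmin
  -- some θ a is nontrivial
  have hexa : ∃ a ∈ A, a ≠ 1 ∧ θ a ≠ ⊥ := by
    by_contra hcon
    push Not at hcon
    apply hW1
    rw [← hW, eq_bot_iff]
    apply iSup_le
    rintro ⟨a, ha, ha1⟩
    rw [hcon a ha ha1]
  have hMne : M ≠ W := by
    intro h
    obtain ⟨a, ha, ha1, hne⟩ := hexa
    apply hne
    have h1 := hθM a ha ha1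
    rw [h, inf_eq_left.mpr (hW ▸ theta_le_closure θ ha ha1)] at h1
    exact h1
  have hWbn : (W.map (QuotientGroup.mk' M)).Normal :=
    hWn.map (QuotientGroup.mk' M) (QuotientGroup.mk'_surjective M)
  have hWb1 : W.map (QuotientGroup.mk' M) ≠ ⊥ := by
    intro h
    rw [Subgroup.map_eq_bot_iff, QuotientGroup.ker_mk'] at h
    exact hMne (le_antisymm hMW h)
  obtain ⟨Lb, hLbW, hLbn, hLb1, hLbmin⟩ :=
    Cfsg.Agent.Lib.Helper2.exists_minNormal_le (W.map (QuotientGroup.mk' M)) hWb1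
  have hWbs : Group.IsSolvable (W.map (QuotientGroup.mk' M)) :=
    Group.isSolvable_of_surjective ((QuotientGroup.mk' M).subgroupMap_surjective W)
  have hLbs : Group.IsSolvable Lb :=
    Group.isSolvable_of_isSolvable_injective (f := Subgroup.inclusion hLbW)
      (Subgroup.inclusion_injective hLbW)
  obtain ⟨r, hr, hrL⟩ := isPGroup_of_minNormal_solvable hLb1 hLbmin hLbs
  have hLn : (Lb.comap (QuotientGroup.mk' M)).Normal := hLbn.comap _
  have hML : M ≤ Lb.comap (QuotientGroup.mk' M) := by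
    intro m hm
    rw [Subgroup.mem_comap]
    have : (QuotientGroup.mk' M) m = 1 := by
      rw [QuotientGroup.mk'_apply, QuotientGroup.eq_one_iff]; exact hm
    rw [this]; exact one_mem _
  have hLW : Lb.comap (QuotientGroup.mk' M) ≤ W := by
    intro x hx
    rw [Subgroup.mem_comap] at hx
    obtain ⟨w, hw, hwe⟩ := hLbW hx
    have h1 : w⁻¹ * x ∈ M := by
      rw [← QuotientGroup.eq]; exact hwe
    have : x = w * (w⁻¹ * x) := by group
    rw [this]
    exact W.mul_mem hw (hMW h1)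
  have hLM : Lb.comap (QuotientGroup.mk' M) ≠ M := by
    intro h
    apply hLb1
    rw [eq_bot_iff]
    intro y hy
    obtain ⟨x, rfl⟩ := QuotientGroup.mk'_surjective M y
    have hx : x ∈ Lb.comap (QuotientGroup.mk' M) := hy
    rw [h] at hx
    rw [Subgroup.mem_bot, QuotientGroup.mk'_apply, QuotientGroup.eq_one_iff]
    exact hx
  have hLp : ¬ p ∣ Nat.card (Lb.comap (QuotientGroup.mk' M) : Subgroup G) :=
    fun h => hWp (h.trans (Subgroup.card_dvd_of_le hLW))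
  have hrθ : ∀ a ∈ A, a ≠ 1 → IsPGroup r (θ a ⊓ Lb.comap (QuotientGroup.mk' M) : Subgroup G) := by
    intro a ha ha1
    have h0 := hθM a ha ha1
    have hmem : ∀ x : (θ a ⊓ Lb.comap (QuotientGroup.mk' M) : Subgroup G),
        ((QuotientGroup.mk' M).comp (Subgroup.subtype _)) x ∈ Lb := fun x =>
      (Subgroup.mem_inf.mp x.2).2
    apply hrL.of_injective (((QuotientGroup.mk' M).comp (Subgroup.subtype _)).codRestrict Lb hmem)
    intro x y hxy
    have h1 : (QuotientGroup.mk' M) x.1 = (QuotientGroup.mk' M) y.1 := congrArg Subtype.val hxy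
    have h2 : x.1⁻¹ * y.1 ∈ M := by
      rw [← QuotientGroup.eq]; exact h1
    have h3 : x.1⁻¹ * y.1 ∈ θ a ⊓ M :=
      Subgroup.mem_inf.2 ⟨Subgroup.mul_mem _ (Subgroup.inv_mem _ (Subgroup.mem_inf.mp x.2).1)
        (Subgroup.mem_inf.mp y.2).1, h2⟩
    rw [h0, Subgroup.mem_bot] at h3
    apply Subtype.ext
    exact inv_mul_eq_one.mp h3
  have hAL : A ≤ Subgroup.normalizer ((Lb.comap (QuotientGroup.mk' M) : Subgroup G) : Set G) :=
    le_normalizer_of_normal A _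
  have hc := inf_complete hA hA3 hθ hAL hr hrθ
  have hZn : (⨆ b : {b : G // b ∈ A ∧ b ≠ 1}, θ (b : G) ⊓ Lb.comap (QuotientGroup.mk' M)).Normal :=
    normal_of_sup_le_normalizer hWA (by
      have := le_normalizer_iSup_inf hA hA3 hθ hLp (le_normalizer_of_normal _ _) hAL
      rwa [hW] at this)
  have hZL : (⨆ b : {b : G // b ∈ A ∧ b ≠ 1}, θ (b : G) ⊓ Lb.comap (QuotientGroup.mk' M)) ≤
      Lb.comap (QuotientGroup.mk' M) := iSup_le fun _ => inf_le_right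
  by_cases hZ1 : (⨆ b : {b : G // b ∈ A ∧ b ≠ 1}, θ (b : G) ⊓ Lb.comap (QuotientGroup.mk' M)) = ⊥
  · have hθL : ∀ a ∈ A, a ≠ 1 → θ a ⊓ Lb.comap (QuotientGroup.mk' M) = ⊥ := by
      intro a ha ha1
      rw [eq_bot_iff, ← hZ1]
      exact le_iSup (fun b : {b : G // b ∈ A ∧ b ≠ 1} =>
        θ (b : G) ⊓ Lb.comap (QuotientGroup.mk' M)) ⟨a, ha, ha1⟩
    have hle : Lb.comap (QuotientGroup.mk' M) ≤ M := by
      refine (le_iSup_inf_centralizer hA hA3 hLp hAL).trans (iSup_le ?_)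
      rintro ⟨d, hd, hd1⟩ w hw
      obtain ⟨hwL, hwd⟩ := Subgroup.mem_inf.mp hw
      obtain ⟨x, hx, m, hm, rfl⟩ := hQL M hMW hM1 d hd hd1 w (hLW hwL) hwd
      have hmM := (Subgroup.mem_inf.mp hm).1
      have hxL : x ∈ Lb.comap (QuotientGroup.mk' M) := by
        have : x = (x * m) * m⁻¹ := by group
        rw [this]
        exact Subgroup.mul_mem _ hwL (Subgroup.inv_mem _ (hML hmM))
      have h1 : x ∈ θ d ⊓ Lb.comap (QuotientGroup.mk' M) := Subgroup.mem_inf.2 ⟨hx, hxL⟩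
      rw [hθL d hd hd1, Subgroup.mem_bot] at h1
      rw [h1, one_mul]
      exact hmM
    exact hLM (le_antisymm hle hML)
  · obtain ⟨M', hM'Z, hM'n, hM'1, hM'min⟩ := Cfsg.Agent.Lib.Helper2.exists_minNormal_le _ hZ1
    have hM'W : M' ≤ W := hM'Z.trans (hZL.trans hLW)
    have hθM' := hnone M' hM'W hM'n hM'1 hM'min
    apply hM'1
    rw [eq_bot_iff]
    refine (le_iSup_inf_centralizer hA hA3
      (fun h => hWp (h.trans (Subgroup.card_dvd_of_le hM'W)))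
      (le_normalizer_of_normal A M')).trans (iSup_le ?_)
    rintro ⟨d, hd, hd1⟩ x hx
    obtain ⟨hxM', hxd⟩ := Subgroup.mem_inf.mp hx
    have h1 : x ∈ (⨆ b : {b : G // b ∈ A ∧ b ≠ 1}, θ (b : G) ⊓ Lb.comap (QuotientGroup.mk' M)) ⊓
        Subgroup.centralizer {d} := Subgroup.mem_inf.2 ⟨hM'Z hxM', hxd⟩
    rw [hc d hd hd1] at h1
    have h2 : x ∈ θ d ⊓ M' := Subgroup.mem_inf.2 ⟨(Subgroup.mem_inf.mp h1).1, hxM'⟩
    rw [hθM' d hd hd1] at h2
    exact h2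

theorem closedComplete (p : ℕ) [Fact p.Prime] : ∀ n : ℕ, ClosedComplete.{u} p n := by
  intro n
  induction n with
  | zero =>
    intro G _ _ A θ W hA hA3 hθ hW hn
    exfalso
    have := Nat.card_pos (α := W)
    omega
  | succ n ih =>
    intro G _ _ A θ W hA hA3 hθ hW hn hWs hWp hWA a₀ ha₀ ha₀1
    by_cases hW1 : W = ⊥
    · rw [hW1]
      intro x hx
      have := (Subgroup.mem_inf.mp hx).1
      rw [Subgroup.mem_bot] at this
      rw [this]; exact one_mem _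
    have hQL : ∀ (N : Subgroup G) [N.Normal], N ≤ W → N ≠ ⊥ → ∀ a ∈ A, a ≠ 1 → ∀ w ∈ W,
        w ∈ Subgroup.centralizer {a} → ∃ x ∈ θ a, ∃ m ∈ N ⊓ Subgroup.centralizer {a}, w = x * m :=
      fun N _ hNW hN1 a ha ha1 w hw hwa =>
        quot_step ih hA hA3 hθ hW hn hWs hWp hWA N hNW hN1 ha ha1 hw hwa
    by_cases hcase : ∃ M : Subgroup G, M ≤ W ∧ M.Normal ∧ M ≠ ⊥ ∧
        (∀ K : Subgroup G, K.Normal → K ≤ M → K = ⊥ ∨ K = M) ∧ ∃ a ∈ A, a ≠ 1 ∧ θ a ⊓ M ≠ ⊥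
    · obtain ⟨M, hMW, hMn, hM1, hMmin, hex⟩ := hcase
      have h1 := caseA hA hA3 hθ hW hWs hWp hWA hMW hMn hM1 hMmin hex a₀ ha₀ ha₀1
      intro w hw
      obtain ⟨hwW, hwa⟩ := Subgroup.mem_inf.mp hw
      obtain ⟨x, hx, m, hm, rfl⟩ := hQL M hMW hM1 a₀ ha₀ ha₀1 w hwW hwa
      exact Subgroup.mul_mem _ hx (h1 hm)
    · exfalso
      push Not at hcase
      exact caseB hA hA3 hθ hW hWs hWp hWA hW1 hQL
        (fun M hMW hMn hM1 hMmin a ha ha1 => hcase M hMW hMn hM1 hMmin a ha ha1)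

end Cfsg.Agent.Lib.Helper4.SF
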