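import Mathlib
import Cfsg.Agent.Lib.Helper4.SF4

set_option autoImplicit false

/-!
A solvable signalizer functor whose closure is a solvable `p'`-group is complete.
-/

namespace Cfsg.Agent.Lib.Helper4.SF

open Cfsg.Agent.Lib.Helper3.Sig Cfsg.Agent.Lib.Helper3.Gen

universe u

variable {G : Type u} [Group G]

/-- restriction of a functor to a subgroup -/
def resFunctor (θ : G → Subgroup G) (H : Subgroup G) : H → Subgroup H :=
  fun x => (θ (x : G)).subgroupOf H

theorem res_isSolvableSignalizerFunctor {p : ℕ} {A : Subgroup G} {θ : G → Subgroup G}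
    (hθ : Cfsg.IsSolvableSignalizerFunctor p A θ) {H : Subgroup G}
    (hθH : ∀ a ∈ A, a ≠ 1 → θ a ≤ H) :
    Cfsg.IsSolvableSignalizerFunctor p (A.subgroupOf H) (resFunctor θ H) := by
  obtain ⟨⟨hcent, hpp, hinv, hbal⟩, hsolv⟩ := hθ
  have hne : ∀ x : H, x ≠ 1 → (x : G) ≠ 1 := fun x hx h => hx (Subtype.ext h)
  refine ⟨⟨?_, ?_, ?_, ?_⟩, ?_⟩
  · intro x hx hx1 y hy
    have h1 := hcent x.1 hx (hne x hx1) (Subgroup.mem_subgroupOf.mp hy)
    rw [Subgroup.mem_centralizer_singleton_iff] at h1 ⊢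
    exact Subtype.ext h1
  · intro x hx hx1
    have e := (Subgroup.subgroupOfEquivOfLe (hθH x.1 hx (hne x hx1))).toEquiv
    unfold resFunctor
    rw [Nat.card_congr e]
    exact hpp x.1 hx (hne x hx1)
  · intro x hx hx1 b hb y hy
    exact Subgroup.mem_subgroupOf.mpr
      (hinv x.1 hx (hne x hx1) b.1 hb y.1 (Subgroup.mem_subgroupOf.mp hy))
  · intro x hx hx1 b hb hb1 y hy
    obtain ⟨hy1, hy2⟩ := Subgroup.mem_inf.mp hy
    apply Subgroup.mem_subgroupOf.mpr
    apply hbal x.1 hx (hne x hx1) b.1 hb (hne b hb1)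
    refine Subgroup.mem_inf.2 ⟨Subgroup.mem_subgroupOf.mp hy1, ?_⟩
    rw [Subgroup.mem_centralizer_singleton_iff] at hy2 ⊢
    exact congrArg Subtype.val hy2
  · intro x hx hx1
    have := hsolv x.1 hx (hne x hx1)
    exact Group.isSolvable_of_isSolvable_injective
      (f := (Subgroup.subgroupOfEquivOfLe (hθH x.1 hx (hne x hx1))).toMonoidHom)
      (Subgroup.subgroupOfEquivOfLe (hθH x.1 hx (hne x hx1))).injective

theorem res_signalizerClosure {A : Subgroup G} {θ : G → Subgroup G} {H : Subgroup G}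
    (hAH : A ≤ H) (hθH : ∀ a ∈ A, a ≠ 1 → θ a ≤ H) :
    Cfsg.signalizerClosure (A.subgroupOf H) (resFunctor θ H) =
      (Cfsg.signalizerClosure A θ).subgroupOf H := by
  apply le_antisymm
  · apply iSup_le
    rintro ⟨x, hx, hx1⟩ y hy
    have hx1' : (x : G) ≠ 1 := fun h => hx1 (Subtype.ext h)
    exact Subgroup.mem_subgroupOf.mpr
      (theta_le_closure θ hx hx1' (Subgroup.mem_subgroupOf.mp hy))
  · have h1 : Cfsg.signalizerClosure A θ ≤
        (Cfsg.signalizerClosure (A.subgroupOf H) (resFunctor θ H)).map H.subtype := by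
      apply iSup_le
      rintro ⟨a, ha, ha1⟩
      have h2 : θ a = (resFunctor θ H ⟨a, hAH ha⟩).map H.subtype := by
        unfold resFunctor
        rw [Subgroup.map_subgroupOf_eq_of_le (hθH a ha ha1)]
      rw [h2]
      apply Subgroup.map_mono
      exact le_iSup (fun x : {x : H // x ∈ A.subgroupOf H ∧ x ≠ 1} => resFunctor θ H (x : H))
        ⟨⟨a, hAH ha⟩, Subgroup.mem_subgroupOf.mpr ha, fun h => ha1 (congrArg Subtype.val h)⟩
    intro y hy
    obtain ⟨y', hy', hye⟩ := h1 (Subgroup.mem_subgroupOf.mp hy)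
    have : y' = y := Subtype.ext hye
    rw [← this]; exact hy'

/-- a solvable signalizer functor (rank at least 3) whose closure is a solvable `p'`-group is complete -/
theorem closed_complete [Finite G] {p : ℕ} [Fact p.Prime] {A : Subgroup G} {θ : G → Subgroup G}
    (hA : Cfsg.IsElementaryAbelian p A) (hA3 : p ^ 3 ≤ Nat.card A)
    (hθ : Cfsg.IsSolvableSignalizerFunctor p A θ)
    (hWs : Group.IsSolvable (Cfsg.signalizerClosure A θ))
    (hWp : ¬ p ∣ Nat.card (Cfsg.signalizerClosure A θ)) :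
    ∀ a ∈ A, a ≠ 1 → Cfsg.signalizerClosure A θ ⊓ Subgroup.centralizer {a} ≤ θ a := by
  intro a ha ha1
  have hAH : A ≤ Cfsg.signalizerClosure A θ ⊔ A := le_sup_right
  have hWH : Cfsg.signalizerClosure A θ ≤ Cfsg.signalizerClosure A θ ⊔ A := le_sup_left
  have hθH : ∀ a ∈ A, a ≠ 1 → θ a ≤ Cfsg.signalizerClosure A θ ⊔ A :=
    fun a ha ha1 => (theta_le_closure θ ha ha1).trans hWH
  have hA₁ : Cfsg.IsElementaryAbelian p (A.subgroupOf (Cfsg.signalizerClosure A θ ⊔ A)) := by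
    refine ⟨⟨⟨fun x y => ?_⟩⟩, fun x hx => ?_⟩
    · have h1 : (⟨x.1.1, x.2⟩ : A) * ⟨y.1.1, y.2⟩ = ⟨y.1.1, y.2⟩ * ⟨x.1.1, x.2⟩ :=
        hA.1.is_comm.comm _ _
      have h2 : x.1.1 * y.1.1 = y.1.1 * x.1.1 := congrArg Subtype.val h1
      exact Subtype.ext (Subtype.ext h2)
    · apply Subtype.ext
      simpa using hA.2 x.1 hx
  have hcardA : Nat.card (A.subgroupOf (Cfsg.signalizerClosure A θ ⊔ A)) = Nat.card A :=
    Nat.card_congr (Subgroup.subgroupOfEquivOfLe hAH).toEquiv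
  have eW := Subgroup.subgroupOfEquivOfLe hWH
  have h := closedComplete.{u} p (Nat.card (Cfsg.signalizerClosure A θ))
    (↥(Cfsg.signalizerClosure A θ ⊔ A)) (A.subgroupOf _) (resFunctor θ _)
    ((Cfsg.signalizerClosure A θ).subgroupOf _) hA₁ (by rw [hcardA]; exact hA3)
    (res_isSolvableSignalizerFunctor hθ hθH) (res_signalizerClosure hAH hθH)
    (by rw [Nat.card_congr eW.toEquiv])
    (Group.isSolvable_of_isSolvable_injective (f := eW.toMonoidHom) eW.injective)
    (by rw [Nat.card_congr eW.toEquiv]; exact hWp)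
    (by rw [← Subgroup.subgroupOf_sup hWH hAH, Subgroup.subgroupOf_self])
    ⟨a, hAH ha⟩ (Subgroup.mem_subgroupOf.mpr ha) (fun h => ha1 (congrArg Subtype.val h))
  intro w hw
  obtain ⟨hwW, hwa⟩ := Subgroup.mem_inf.mp hw
  have h1 : (⟨w, hWH hwW⟩ : ↥(Cfsg.signalizerClosure A θ ⊔ A)) ∈
      (Cfsg.signalizerClosure A θ).subgroupOf _ ⊓ Subgroup.centralizer {⟨a, hAH ha⟩} := by
    refine Subgroup.mem_inf.2 ⟨Subgroup.mem_subgroupOf.mpr hwW, ?_⟩
    rw [Subgroup.mem_centralizer_singleton_iff] at hwa ⊢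
    exact Subtype.ext hwa
  exact Subgroup.mem_subgroupOf.mp (h h1)

end Cfsg.Agent.Lib.Helper4.SF
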