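import Mathlib
import Cfsg.Agent.Lib.Helper4.KB1
import Cfsg.Agent.Lib.Helper4.SF5
import Cfsg.Agent.Lib.Helper4.Balance1
import Cfsg.Agent.Lib.Helper4.LB3

set_option autoImplicit false

/-!
The `k`-balanced functor: the subgroups `T_E` lie in the family of `a ↦ O_{p'}(C(a))`.
-/

namespace Cfsg.Agent.Lib.Helper4.KB

open Cfsg.Agent.Lib.Helper3.Sig Cfsg.Agent.Lib.Helper3.Gen Cfsg.Agent.Lib.Lead
open Cfsg.Agent.Lib.Helper4.Balance Cfsg.Agent.Lib.Helper4.SF

variable {G : Type*} [Group G]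

/-- the join of the `Δ_G(D)` over the subgroups `D` of order `p ^ k` between `E` and `A` -/
def tJoin (p k : ℕ) (A E : Subgroup G) : Subgroup G :=
  ⨆ D : {D : Subgroup G // E ≤ D ∧ D ≤ A ∧ Nat.card D = p ^ k},
    Cfsg.signalizerDelta p (D : Subgroup G)

/-- membership in the family of `a ↦ O_{p'}(C(a))` (solvability left out) -/
def InFam (p : ℕ) (A X : Subgroup G) : Prop :=
  A ≤ Subgroup.normalizer (X : Set G) ∧ ¬ p ∣ Nat.card X ∧
    ∀ y ∈ A, y ≠ 1 → X ⊓ Subgroup.centralizer {y} ≤ Cfsg.centralizerPPrimeCore p y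

theorem InFam.of_le [Finite G] {p : ℕ} {A X Y : Subgroup G} (hY : InFam p A Y) (hXY : X ≤ Y)
    (hAX : A ≤ Subgroup.normalizer (X : Set G)) : InFam p A X :=
  ⟨hAX, fun h => hY.2.1 (h.trans (Subgroup.card_dvd_of_le hXY)),
    fun y hy hy1 => (inf_le_inf_right _ hXY).trans (hY.2.2 y hy hy1)⟩

theorem tJoin_le_delta (p k : ℕ) (A E : Subgroup G) :
    tJoin p k A E ≤ Cfsg.signalizerDelta p E := by
  apply iSup_le
  rintro ⟨D, hED, -, -⟩
  exact delta_antitone p hED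

theorem tJoin_mono (p k : ℕ) (A : Subgroup G) {E E' : Subgroup G} (h : E ≤ E') :
    tJoin p k A E' ≤ tJoin p k A E := by
  apply iSup_le
  rintro ⟨D, hED, hDA, hDc⟩
  exact le_iSup (fun D : {D : Subgroup G // E ≤ D ∧ D ≤ A ∧ Nat.card D = p ^ k} =>
    Cfsg.signalizerDelta p (D : Subgroup G)) ⟨D, h.trans hED, hDA, hDc⟩

theorem delta_le_tJoin (p k : ℕ) {A E D : Subgroup G} (hED : E ≤ D) (hDA : D ≤ A)
    (hDc : Nat.card D = p ^ k) : Cfsg.signalizerDelta p D ≤ tJoin p k A E :=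
  le_iSup (fun D : {D : Subgroup G // E ≤ D ∧ D ≤ A ∧ Nat.card D = p ^ k} =>
    Cfsg.signalizerDelta p (D : Subgroup G)) ⟨D, hED, hDA, hDc⟩

theorem le_normalizer_tJoin (p k : ℕ) {A : Subgroup G} (hA : IsMulCommutative A) (E : Subgroup G) :
    A ≤ Subgroup.normalizer ((tJoin p k A E : Subgroup G) : Set G) := by
  apply Cfsg.Agent.Lib.Helper3.Sig.le_normalizer_of_conj_mem
  intro b hb
  unfold tJoin
  apply conj_mem_iSup_of_forall
  rintro ⟨D, hED, hDA, hDc⟩ z hz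
  apply delta_le_tJoin p k hED hDA hDc
  exact (Subgroup.mem_normalizer_iff.mp (le_normalizer_delta p hA hDA hb) z).mp hz

theorem delta_le_centralizer (p : ℕ) (E : Subgroup G) :
    Cfsg.signalizerDelta p E ≤ Subgroup.centralizer (E : Set G) := by
  intro t ht
  rw [Subgroup.mem_centralizer_iff]
  intro e he
  by_cases he1 : e = 1
  · rw [he1]; simp
  · have h1 := centralizerPPrimeCore_le_centralizer p e (delta_le_centralizerPPrimeCore p he he1 ht)
    rw [Subgroup.mem_centralizer_singleton_iff] at h1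
    exact h1.symm

theorem card_coprime_of_le_core [Finite G] {p : ℕ} [Fact p.Prime] {X : Subgroup G} {e : G}
    (h : X ≤ Cfsg.centralizerPPrimeCore p e) : ¬ p ∣ Nat.card X := by
  intro hdvd
  have h1 := hdvd.trans (Subgroup.card_dvd_of_le h)
  have h2 := card_centralizerPPrimeCore_coprime p e
  exact (Nat.Prime.coprime_iff_not_dvd Fact.out).mp h2.symm h1

theorem exists_ne_one_of_card [Finite G] {p j : ℕ} [hp : Fact p.Prime] {E : Subgroup G}
    (hE : Nat.card E = p ^ j) (hj : 1 ≤ j) : ∃ e ∈ E, e ≠ 1 := by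
  have h1 : 1 < Nat.card E := by
    rw [hE]; exact Nat.one_lt_pow (by omega) hp.out.one_lt
  have : Nontrivial E := Finite.one_lt_card_iff_nontrivial.mp h1
  obtain ⟨e, he⟩ := exists_ne (1 : E)
  exact ⟨e.1, e.2, fun h => he (Subtype.ext h)⟩

section

variable [Finite G] {p k : ℕ} [hp : Fact p.Prime] {A : Subgroup G}

theorem delta_inFam (hA : Cfsg.IsElementaryAbelian p A) (hk : 1 ≤ k)
    (hbal : Cfsg.IsKBalanced p k G) {D : Subgroup G} (hDA : D ≤ A) (hD : p ^ k ≤ Nat.card D) :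
    InFam p A (Cfsg.signalizerDelta p D) := by
  have hDea := ea_of_le hA hDA
  obtain ⟨D₀, hD₀D, hD₀c⟩ := Cfsg.Agent.Lib.Helper4.LB.exists_le_card_eq (ea_isPGroup hDea) hD
  obtain ⟨d, hd, hd1⟩ := exists_ne_one_of_card hD₀c hk
  refine ⟨le_normalizer_delta p hA.1 hDA,
    card_coprime_of_le_core (delta_le_centralizerPPrimeCore p (hD₀D hd) hd1), ?_⟩
  intro y hy hy1
  have hy_ord : orderOf y = p := orderOf_eq_prime (hA.2 y hy) hy1
  refine (inf_le_inf_right _ (delta_antitone p hD₀D)).trans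
    (hbal D₀ (ea_of_le hDea hD₀D) hD₀c y hy_ord ?_)
  intro a ha
  have h1 : (⟨a, hDA (hD₀D ha)⟩ : A) * ⟨y, hy⟩ = ⟨y, hy⟩ * ⟨a, hDA (hD₀D ha)⟩ :=
    hA.1.is_comm.comm _ _
  exact congrArg Subtype.val h1

omit [Finite G] hp in
theorem inFam_inf_centralizer_le_delta {X : Subgroup G} (hX : InFam p A X) {E : Subgroup G}
    (hEA : E ≤ A) : X ⊓ Subgroup.centralizer (E : Set G) ≤ Cfsg.signalizerDelta p E := by
  unfold Cfsg.signalizerDelta
  apply le_iInf
  rintro ⟨e, he, he1⟩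
  refine le_trans (inf_le_inf_left _ ?_) (hX.2.2 e (hEA he) he1)
  exact Subgroup.centralizer_le (Set.singleton_subset_iff.mpr he)

theorem inFam_inf_centralizer_le_tJoin (hA : Cfsg.IsElementaryAbelian p A) {X : Subgroup G}
    (hX : InFam p A X) {E' B : Subgroup G} (hE'B : E' ≤ B) (hBA : B ≤ A) {i : ℕ}
    (hE' : Nat.card E' = p ^ i) (hik : i ≤ k) (hB : p ^ k ≤ Nat.card B) :
    X ⊓ Subgroup.centralizer (B : Set G) ≤ tJoin p k A E' := by
  obtain ⟨D, hE'D, hDB, hDc⟩ := exists_between_card hA hBA k hB (k - i) i E' (by omega) hE'B hE'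
  exact (inFam_inf_centralizer_le_delta hX hBA).trans
    ((delta_antitone p hDB).trans (delta_le_tJoin p k hE'D (hDB.trans hBA) hDc))

theorem le_tJoin_of_centralizes (hA : Cfsg.IsElementaryAbelian p A)
    (hAk : p ^ (k + 1) ≤ Nat.card A) {X : Subgroup G} (hX : InFam p A X) {K : Subgroup G}
    (hKA : K ≤ A) {i : ℕ} (hK : Nat.card K = p ^ i) (hik : i ≤ k)
    (hXK : X ≤ Subgroup.centralizer (K : Set G)) : X ≤ tJoin p k A K := by
  refine (le_hypJoin hA (Nat.card A - Nat.card K) K X le_rfl hKA hXK hX.2.1 hX.1).trans ?_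
  apply iSup_le
  rintro ⟨B, hKB, hBA, hidx⟩
  apply inFam_inf_centralizer_le_tJoin hA hX hKB hBA hK hik
  have h1 := card_mul_relIndex hBA
  have hppos : 0 < p := hp.out.pos
  have h2 : p ^ k * p ≤ Nat.card B * p := by
    calc p ^ k * p = p ^ (k + 1) := by ring
      _ ≤ Nat.card A := hAk
      _ = Nat.card B * B.relIndex A := h1.symm
      _ ≤ Nat.card B * p := Nat.mul_le_mul_left _ hidx
  exact Nat.le_of_mul_le_mul_right h2 hppos

end

end Cfsg.Agent.Lib.Helper4.KB
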