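import Mathlib
import Cfsg.Agent.Lib.Helper4.KB2

set_option autoImplicit false

/-!
The `k`-balanced functor: the induction showing that the subgroups `T_E` lie in the family.
-/

namespace Cfsg.Agent.Lib.Helper4.KB

open Cfsg.Agent.Lib.Helper3.Sig Cfsg.Agent.Lib.Helper3.Gen Cfsg.Agent.Lib.Lead
open Cfsg.Agent.Lib.Helper4.Balance Cfsg.Agent.Lib.Helper4.SF

variable {G : Type*} [Group G]

theorem centralizer_singleton_le_zpowers (t : G) :
    Subgroup.centralizer ({t} : Set G) ≤ Subgroup.centralizer (Subgroup.zpowers t : Set G) := by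
  intro x hx
  have h1 : Subgroup.zpowers t ≤ Subgroup.centralizer ({x} : Set G) := by
    rw [Subgroup.zpowers_le, Subgroup.mem_centralizer_singleton_iff]
    rw [Subgroup.mem_centralizer_singleton_iff] at hx
    exact hx.symm
  rw [Subgroup.mem_centralizer_iff]
  intro z hz
  have h2 := h1 hz
  rw [Subgroup.mem_centralizer_singleton_iff] at h2
  exact h2

theorem isSolvable_of_le {X Y : Subgroup G} (h : X ≤ Y) (hY : Group.IsSolvable Y) :
    Group.IsSolvable X :=
  Group.isSolvable_of_isSolvable_injective (f := Subgroup.inclusion h) (Subgroup.inclusion_injective h)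

variable [Finite G] {p k : ℕ} [hp : Fact p.Prime] {A : Subgroup G}

theorem tJoin_inFam_step (hA : Cfsg.IsElementaryAbelian p A)
    (hAk : p ^ (k + 2) ≤ Nat.card A)
    (hsolv : ∀ a ∈ A, a ≠ 1 → Group.IsSolvable (Cfsg.centralizerPPrimeCore p a))
    {j : ℕ} (hj : 1 ≤ j) (hjk : j + 1 ≤ k)
    (ih : ∀ E₁ : Subgroup G, E₁ ≤ A → Nat.card E₁ = p ^ (j + 1) → InFam p A (tJoin p k A E₁))
    {E : Subgroup G} (hEA : E ≤ A) (hE : Nat.card E = p ^ j) : InFam p A (tJoin p k A E) := by
  obtain ⟨e₀, he₀, he₀1⟩ := exists_ne_one_of_card hE hj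
  have hTQ : ∀ e ∈ E, e ≠ 1 → tJoin p k A E ≤ Cfsg.centralizerPPrimeCore p e := fun e he he1 =>
    (tJoin_le_delta p k A E).trans (delta_le_centralizerPPrimeCore p he he1)
  refine ⟨le_normalizer_tJoin p k hA.1 E, card_coprime_of_le_core (hTQ e₀ he₀ he₀1), ?_⟩
  intro y hy hy1
  by_cases hyE : y ∈ E
  · exact inf_le_left.trans (hTQ y hyE hy1)
  obtain ⟨A', hA'A, hdisj, hsup⟩ := exists_complement hA hEA
  have hcardA := card_eq_mul_of_complement hA hEA hA'A hdisj hsup
  have hppos : 0 < p := hp.out.pos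
  have hA'3 : p ^ 3 ≤ Nat.card A' := by
    have h1 : p ^ (k + 2) ≤ p ^ j * Nat.card A' := by rw [← hE, ← hcardA]; exact hAk
    have h2 : p ^ j * p ^ 3 ≤ p ^ j * Nat.card A' := by
      calc p ^ j * p ^ 3 = p ^ (j + 3) := by ring
        _ ≤ p ^ (k + 2) := Nat.pow_le_pow_right hppos (by omega)
        _ ≤ _ := h1
    exact Nat.le_of_mul_le_mul_left h2 (pow_pos hppos j)
  have hA'ea := ea_of_le hA hA'A
  have hx : ∀ x ∈ A', x ≠ 1 → x ∉ E ∧ E ⊔ Subgroup.zpowers x ≤ A ∧
      Nat.card (E ⊔ Subgroup.zpowers x : Subgroup G) = p ^ (j + 1) := by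
    intro x hxA' hx1
    have hxE : x ∉ E := fun h => hx1 (by
      have : x ∈ E ⊓ A' := Subgroup.mem_inf.2 ⟨h, hxA'⟩
      rwa [hdisj, Subgroup.mem_bot] at this)
    have hxA := hA'A hxA'
    obtain ⟨-, hc⟩ := sup_zpowers_facts hA.1 hEA hxA (hA.2 x hxA) hxE
    exact ⟨hxE, sup_le hEA (Subgroup.zpowers_le.mpr hxA), by rw [hc, hE, pow_succ]⟩
  have hSfam : ∀ x ∈ A', x ≠ 1 → InFam p A (tJoin p k A (E ⊔ Subgroup.zpowers x)) :=
    fun x hxA' hx1 => ih _ (hx x hxA' hx1).2.1 (hx x hxA' hx1).2.2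
  have hSQ : ∀ x : G, ∀ z ∈ E ⊔ Subgroup.zpowers x, z ≠ 1 →
      tJoin p k A (E ⊔ Subgroup.zpowers x) ≤ Cfsg.centralizerPPrimeCore p z := fun x z hz hz1 =>
    (tJoin_le_delta p k A _).trans (delta_le_centralizerPPrimeCore p hz hz1)
  have hxmem : ∀ x : G, x ∈ E ⊔ Subgroup.zpowers x := fun x =>
    Subgroup.mem_sup_right (Subgroup.mem_zpowers x)
  have hS : Cfsg.IsSolvableSignalizerFunctor p A'
      (fun x => tJoin p k A (E ⊔ Subgroup.zpowers x)) := by
    refine ⟨⟨?_, ?_, ?_, ?_⟩, ?_⟩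
    · intro x hxA' hx1
      exact (hSQ x x (hxmem x) hx1).trans (centralizerPPrimeCore_le_centralizer p x)
    · intro x hxA' hx1
      exact (hSfam x hxA' hx1).2.1
    · intro x hxA' hx1 b hb z hz
      exact (Subgroup.mem_normalizer_iff.mp ((hSfam x hxA' hx1).1 (hA'A hb)) z).mp hz
    · intro x hxA' hx1 y' hy'A' hy'1
      have hy'A := hA'A hy'A'
      have hX₀ : InFam p A (tJoin p k A (E ⊔ Subgroup.zpowers x) ⊓ Subgroup.centralizer {y'}) :=
        (hSfam x hxA' hx1).of_le inf_le_left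
          (le_normalizer_inf (hSfam x hxA' hx1).1 (le_normalizer_centralizer_singleton hA.1 hy'A))
      apply le_tJoin_of_centralizes hA
        (le_trans (Nat.pow_le_pow_right hppos (by omega)) hAk) hX₀
        (hx y' hy'A' hy'1).2.1 (hx y' hy'A' hy'1).2.2 hjk
      rw [Subgroup.le_centralizer_iff]
      apply sup_le
      · rw [← Subgroup.le_centralizer_iff]
        exact inf_le_left.trans ((tJoin_le_delta p k A _).trans
          ((delta_antitone p le_sup_left).trans (delta_le_centralizer p E)))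
      · rw [← Subgroup.le_centralizer_iff]
        exact inf_le_right.trans (centralizer_singleton_le_zpowers y')
    · intro x hxA' hx1
      exact isSolvable_of_le (hSQ x x (hxmem x) hx1) (hsolv x (hA'A hxA') hx1)
  -- the closure
  have hcl : Cfsg.signalizerClosure A' (fun x => tJoin p k A (E ⊔ Subgroup.zpowers x)) =
      tJoin p k A E := by
    apply le_antisymm
    · apply iSup_le
      rintro ⟨x, hxA', hx1⟩
      exact tJoin_mono p k A le_sup_left
    · apply iSup_le
      rintro ⟨D, hED, hDA, hDc⟩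
      have hlt : Nat.card E < Nat.card D := by
        rw [hE, hDc]; exact Nat.pow_lt_pow_right hp.out.one_lt (by omega)
      obtain ⟨d, hdD, hdE⟩ := exists_not_mem_of_card_lt hlt
      have hdA : d ∈ E ⊔ A' := by rw [hsup]; exact hDA hdD
      obtain ⟨e, he, x, hxA', rfl⟩ := Cfsg.Agent.Lib.Helper4.LB.exists_mul_of_mem_sup
        (le_normalizer_of_isMulCommutative hA.1 hA'A hEA) hdA
      have hx1 : x ≠ 1 := by
        intro h; apply hdE; rw [h, mul_one]; exact he
      have hxD : x ∈ D := by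
        have : x = e⁻¹ * (e * x) := by group
        rw [this]; exact D.mul_mem (D.inv_mem (hED he)) hdD
      refine (delta_le_tJoin p k (sup_le hED (Subgroup.zpowers_le.mpr hxD)) hDA hDc).trans ?_
      exact le_iSup (fun x : {x : G // x ∈ A' ∧ x ≠ 1} => tJoin p k A (E ⊔ Subgroup.zpowers (x : G)))
        ⟨x, hxA', hx1⟩
  have hcc := closed_complete hA'ea hA'3 hS
    (by rw [hcl]; exact isSolvable_of_le (hTQ e₀ he₀ he₀1) (hsolv e₀ (hEA he₀) he₀1))
    (by rw [hcl]; exact card_coprime_of_le_core (hTQ e₀ he₀ he₀1))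
  rw [hcl] at hcc
  -- decompose y
  have hyA : y ∈ E ⊔ A' := by rw [hsup]; exact hy
  obtain ⟨e, he, x, hxA', rfl⟩ := Cfsg.Agent.Lib.Helper4.LB.exists_mul_of_mem_sup
    (le_normalizer_of_isMulCommutative hA.1 hA'A hEA) hyA
  have hx1 : x ≠ 1 := by
    intro h; apply hyE; rw [h, mul_one]; exact he
  intro t ht
  obtain ⟨htT, hty⟩ := Subgroup.mem_inf.mp ht
  have hte : e * t = t * e := by
    have h1 := delta_le_centralizer p E (tJoin_le_delta p k A E htT)
    rw [Subgroup.mem_centralizer_iff] at h1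
    exact h1 e he
  have htx : t ∈ Subgroup.centralizer {x} := by
    rw [Subgroup.mem_centralizer_singleton_iff] at hty ⊢
    -- hty : e * x * t = t * (e * x)
    have h2 : e * (t * x) = e * (x * t) := by
      calc e * (t * x) = (e * t) * x := by group
        _ = (t * e) * x := by rw [hte]
        _ = t * (e * x) := by group
        _ = e * x * t := hty
        _ = e * (x * t) := by group
    exact mul_left_cancel h2
  have h3 := hcc x hxA' hx1 (Subgroup.mem_inf.2 ⟨htT, htx⟩)
  exact hSQ x (e * x) (Subgroup.mul_mem _ (Subgroup.mem_sup_left he) (hxmem x)) hy1 h3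

theorem tJoin_inFam (hA : Cfsg.IsElementaryAbelian p A) (hk : 1 ≤ k)
    (hbal : Cfsg.IsKBalanced p k G) (hAk : p ^ (k + 2) ≤ Nat.card A)
    (hsolv : ∀ a ∈ A, a ≠ 1 → Group.IsSolvable (Cfsg.centralizerPPrimeCore p a)) :
    ∀ (i j : ℕ), i + j = k → 1 ≤ j → ∀ E : Subgroup G, E ≤ A → Nat.card E = p ^ j →
      InFam p A (tJoin p k A E) := by
  intro i
  induction i with
  | zero =>
    intro j hij hj E hEA hE
    have hjk : j = k := by omega
    subst hjk
    exact (delta_inFam hA hk hbal hEA (by rw [hE])).of_le (tJoin_le_delta p j A E)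
      (le_normalizer_tJoin p j hA.1 E)
  | succ i ih =>
    intro j hij hj E hEA hE
    exact tJoin_inFam_step hA hAk hsolv hj (by omega)
      (fun E₁ hE₁A hE₁ => ih (j + 1) (by omega) (by omega) E₁ hE₁A hE₁) hEA hE

end Cfsg.Agent.Lib.Helper4.KB
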