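import Mathlib
import Cfsg.Prelude.Def_ConjugacyFunctors
import Cfsg.Agent.Lib.Helper4.KInf
import Cfsg.Agent.Lib.Lead.Nilpotent

set_option autoImplicit false

namespace Cfsg.Agent.Lib.Helper4

open Cfsg
open scoped commutatorElement

variable {P : Type*} [Group P]

/-- In a finite `p`-group, if `C_P(B) ≰ B` there is `c ∈ C_P(B) \ B` with `⁅c, N_P(B)⁆ ⊆ B`. -/
theorem exists_extension_elt [Finite P] {p : ℕ} [Fact p.Prime] (hP : IsPGroup p P) (B : Subgroup P)
    (hCB : ¬ Subgroup.centralizer (B : Set P) ≤ B) :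
    ∃ c, c ∈ Subgroup.centralizer (B : Set P) ∧ c ∉ B ∧
      ∀ g ∈ Subgroup.normalizer (B : Set P), ⁅c, g⁆ ∈ B := by
  set N := Subgroup.normalizer (B : Set P) with hN
  set C := Subgroup.centralizer (B : Set P) with hC
  have hCN : C ≤ N := Subgroup.centralizer_le_normalizer _
  have hBN : B ≤ N := Subgroup.le_normalizer
  haveI hNp : IsPGroup p N := hP.to_subgroup N
  haveI hnil : Group.IsNilpotent N := hNp.isNilpotent
  haveI hBn : (B.subgroupOf N).Normal := Subgroup.normal_in_normalizer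
  have hCn : (C.subgroupOf N).Normal := by
    constructor
    intro x hx g
    rw [Subgroup.mem_subgroupOf] at hx ⊢
    rw [hC, Subgroup.mem_centralizer_iff] at hx ⊢
    intro b hb
    have hg : (g : P) ∈ N := g.2
    have hb' : (g : P)⁻¹ * b * (g : P) ∈ B := by
      have := (Subgroup.mem_normalizer_iff.mp (Subgroup.inv_mem _ hg) b).mp hb
      simpa using this
    have h2 := hx _ hb'
    push_cast
    calc b * ((g : P) * (x : P) * (g : P)⁻¹)
        = (g : P) * (((g : P)⁻¹ * b * (g : P)) * (x : P)) * (g : P)⁻¹ := by group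
      _ = (g : P) * ((x : P) * ((g : P)⁻¹ * b * (g : P))) * (g : P)⁻¹ := by rw [h2]
      _ = (g : P) * (x : P) * (g : P)⁻¹ * b := by group
  have hsurj := QuotientGroup.mk'_surjective (B.subgroupOf N)
  have hCbarN : ((C.subgroupOf N).map (QuotientGroup.mk' (B.subgroupOf N))).Normal :=
    hCn.map _ hsurj
  have hCbar : (C.subgroupOf N).map (QuotientGroup.mk' (B.subgroupOf N)) ≠ ⊥ := by
    intro h
    rw [Subgroup.map_eq_bot_iff, QuotientGroup.ker_mk'] at h
    apply hCB
    intro x hx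
    have : (⟨x, hCN hx⟩ : N) ∈ C.subgroupOf N := by
      rw [Subgroup.mem_subgroupOf]; exact hx
    have := h this
    rw [Subgroup.mem_subgroupOf] at this
    exact this
  obtain ⟨⟨xbar, hx⟩, hx1⟩ :=
    (Subgroup.ne_bot_iff_exists_ne_one).mp (Cfsg.Agent.Lib.Lead.inf_center_ne_bot _ hCbar)
  obtain ⟨x, hxC, hxx⟩ := hx.1
  have hxc : (QuotientGroup.mk' (B.subgroupOf N) x) ∈ Subgroup.center (N ⧸ B.subgroupOf N) :=
    hxx ▸ hx.2
  refine ⟨(x : P), ?_, ?_, ?_⟩
  · have hxC' : x ∈ C.subgroupOf N := hxC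
    rw [Subgroup.mem_subgroupOf] at hxC'; exact hxC'
  · intro h
    apply hx1
    apply Subtype.ext
    show xbar = 1
    rw [← hxx]
    apply (QuotientGroup.eq_one_iff x).mpr
    rw [Subgroup.mem_subgroupOf]; exact h
  · intro g hg
    rw [Subgroup.mem_center_iff] at hxc
    have h1 := hxc (QuotientGroup.mk' (B.subgroupOf N) ⟨g, hg⟩)
    -- mk (⁅x, g⁆) = 1
    have h2 : QuotientGroup.mk' (B.subgroupOf N) ⁅x, (⟨g, hg⟩ : N)⁆ = 1 := by
      rw [commutatorElement_def, map_mul, map_mul, map_mul, map_inv, map_inv]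
      rw [← h1]
      group
    have h3 := (QuotientGroup.eq_one_iff _).mp h2
    rw [Subgroup.mem_subgroupOf] at h3
    simpa [commutatorElement_def] using h3

end Cfsg.Agent.Lib.Helper4
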