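import Mathlib
import Cfsg.Agent.Lib.Helper4.PStab3b

set_option autoImplicit false
open scoped commutatorElement

/-! The members of the lower-star families relative to subgroups containing a critical subgroup of `O_p(G)` lie in `O_p(G)`, when all
quotients of the `p`-constrained group `G` are `p`-stable. -/

namespace Cfsg.Agent.Lib.Helper4

open Cfsg

section

variable {G : Type*} [Group G]

/-- a minimal normal subgroup with a property, together with a maximal normal subgroup below it -/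
theorem exists_chief_min' [Finite G] (Pr : Subgroup G → Prop) (N : Subgroup G) [hNn : N.Normal] (hN : Pr N)
    (hbot : ¬ Pr ⊥) :
    ∃ N₁ N₀ : Subgroup G, IsChiefFactor N₁ N₀ ∧ N₁ ≤ N ∧ Pr N₁ ∧
      ∀ M : Subgroup G, M.Normal → M < N₁ → ¬ Pr M := by
  classical
  let 𝒮 := {M : Subgroup G // M.Normal ∧ M ≤ N ∧ Pr M}
  haveI : Nonempty 𝒮 := ⟨⟨N, hNn, le_rfl, hN⟩⟩
  obtain ⟨⟨X₁, hX₁n, hX₁Q, hX₁T⟩, hmin⟩ := Finite.exists_min (fun M : 𝒮 => Nat.card M.1)
  have hX₁ne : X₁ ≠ ⊥ := by
    rintro rfl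
    exact hbot hX₁T
  let 𝒴 := {M : Subgroup G // M.Normal ∧ M < X₁}
  haveI : Nonempty 𝒴 := ⟨⟨⊥, Subgroup.normal_bot, bot_lt_iff_ne_bot.mpr hX₁ne⟩⟩
  obtain ⟨⟨Y₁, hY₁n, hY₁X⟩, hmax⟩ := Finite.exists_max (fun M : 𝒴 => Nat.card M.1)
  have hcardlt : ∀ {A B : Subgroup G}, A < B → Nat.card A < Nat.card B := by
    intro A B hAB
    by_contra hle
    push Not at hle
    have h1 := Subgroup.card_le_of_le hAB.le
    have h2 : Nat.card A = Nat.card B := le_antisymm h1 hle
    exact hAB.ne (Subgroup.eq_of_le_of_card_ge hAB.le h2.ge)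
  refine ⟨X₁, Y₁, ⟨hY₁X, hX₁n, hY₁n, ?_⟩, hX₁Q, hX₁T, ?_⟩
  · intro M hMn hYM hMX
    by_cases hMX' : M = X₁
    · exact Or.inr hMX'
    · left
      have hlt : M < X₁ := lt_of_le_of_ne hMX hMX'
      have h1 := hmax ⟨M, hMn, hlt⟩
      simp only at h1
      exact (Subgroup.eq_of_le_of_card_ge hYM h1).symm
  · intro M hMn hMX hMT
    have h1 := hmin ⟨M, hMn, hMX.le.trans hX₁Q, hMT⟩
    simp only at h1
    exact absurd (hcardlt hMX) (not_lt.mpr h1)

end

section Main

variable {G : Type*} [Group G] [Finite G] {p : ℕ} [hp : Fact p.Prime]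

/-- **lower-star members lie in `O_p(G)`** -/
theorem le_pCore_of_lower
    (hps : ∀ (N : Subgroup G) (hN : N.Normal), IsNormalizerPStable p (G ⧸ N))
    (hc : Subgroup.centralizer ((pCore p G : Subgroup G) : Set G) ≤ pCore p G)
    (A : Subgroup G) [hAn : A.Normal] (hAT : A ≤ pCore p G)
    (hA2 : ⁅A, A⁆ ≤ Subgroup.centralizer (A : Set G))
    (hTA : ⁅pCore p G, A⁆ ≤ zOf A) (hCA : pCore p G ⊓ Subgroup.centralizer (A : Set G) ≤ zOf A)
    (O B : Subgroup G) (hAO : A ≤ O) (hB : B ∈ kLowerStarFamily O) : B ≤ pCore p G := by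
  classical
  obtain ⟨hB2, hOB, hBt⟩ := hB
  have hTp : IsPGroup p (pCore p G) := Cfsg.Agent.Lib.Helper6.pCore_isPGroup p
  have hAB : A ≤ Subgroup.normalizer (B : Set G) := hAO.trans hOB
  -- step 1 : the centre of `B` lies in `O_p(G)`
  have hZT : zOf B ≤ pCore p G := by
    apply le_pCore_of_quadratic hps hc A hAT hTA hCA
    have h1 : ⁅A, zOf B⁆ ≤ zOf B :=
      commutator_le_of_le_normalizer (hAB.trans (normalizer_le_normalizer_zOf B))
    rw [eq_bot_iff, ← zOf_comm_eq_bot B]
    exact Subgroup.commutator_mono h1 le_rfl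
  have hZX : ∀ X : Subgroup G, X ≤ A → ⁅⁅zOf B, X⁆, X⁆ = ⊥ := by
    intro X hXA
    rw [eq_bot_iff, ← zOf_commutator_eq_bot A]
    exact Subgroup.commutator_mono ((Subgroup.commutator_mono hZT hXA).trans hTA) hXA
  -- step 2 : the lower-star condition applied to normal subgroups of `A`
  have hQX : ∀ X : Subgroup G, X.Normal → X ≤ A → ⁅B, ⁅X, X⁆⁆ = ⊥ → ⁅⁅X, B⁆, B⁆ = ⊥ := by
    intro X hXn hXA hBX
    have hX2 : X ∈ classTwoSubgroups G := by
      show ⁅X, X⁆ ≤ Subgroup.centralizer (X : Set G)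
      exact (Subgroup.commutator_mono hXA hXA).trans (hA2.trans (Subgroup.centralizer_le hXA))
    have key := hBt X hX2 (hXA.trans hAO)
      (by rw [Subgroup.normalizer_eq_top_iff.mpr hXn]; exact le_top) hBX (hZX X hXA)
    change ⁅B, X⁆ ≤ zOf B at key
    rw [eq_bot_iff, ← zOf_commutator_eq_bot B]
    apply Subgroup.commutator_mono _ le_rfl
    rw [Subgroup.commutator_comm]
    exact key
  by_contra hBT
  obtain ⟨R, hRdef⟩ : ∃ R, R = Subgroup.normalClosure (B : Set G) := ⟨_, rfl⟩
  haveI hRn : R.Normal := by rw [hRdef]; exact Subgroup.normalClosure_normal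
  have hBR : B ≤ R := by rw [hRdef]; exact Subgroup.subset_normalClosure
  -- step 3 : `R` does not act unipotently on `A`
  have hA_not : ¬ ∃ k : ℕ, iterCommutator A R k = ⊥ := by
    rintro ⟨k, hk⟩
    apply hBT
    apply le_pCore_of_quadratic_chief hps hc A hAT hTA hCA B
    intro U V hch hUA
    haveI hVn : V.Normal := hch.2.2.1
    have h1 : ⁅U, R⁆ ≤ V := by
      apply chief_comm_le_of_unip hch k
      refine le_trans ?_ (bot_le : (⊥ : Subgroup G) ≤ V)
      rw [← hk]
      exact iterCommutator_mono hUA le_rfl k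
    exact (Subgroup.commutator_mono ((Subgroup.commutator_mono le_rfl hBR).trans h1) le_rfl).trans
      (Subgroup.commutator_le_left V B)
  -- step 4 : a minimal normal subgroup on which `R` does not act unipotently
  obtain ⟨X, Y, hch, hXA, hX_not, hXmin⟩ := exists_chief_min'
    (fun M : Subgroup G => ¬ ∃ k : ℕ, iterCommutator M R k = ⊥) A hA_not
    (by
      intro h; exact h ⟨0, rfl⟩)
  haveI hXn : X.Normal := hch.2.1
  haveI hYn : Y.Normal := hch.2.2.1
  have hYX : Y < X := hch.1
  have hunip : ∀ M : Subgroup G, M.Normal → M < X → ∃ k : ℕ, iterCommutator M R k = ⊥ := by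
    intro M hMn hMX
    by_contra h
    exact hXmin M hMn hMX h
  obtain ⟨k, hk⟩ := hunip Y hYn hYX
  have hleY : ∀ M : Subgroup G, M.Normal → M < X → M ≤ Y := by
    intro M hMn hMX
    haveI := hMn
    rcases hch.2.2.2 (M ⊔ Y) inferInstance le_sup_right (sup_le hMX.le hYX.le) with h | h
    · rw [← h]; exact le_sup_left
    · exfalso
      obtain ⟨k₁, hk₁⟩ := hunip M hMn hMX
      apply hX_not
      refine ⟨k₁ + k, ?_⟩
      rw [← h]
      exact unip_sup hk₁ hk
  -- step 5
  have hXR : ⁅X, R⁆ = X := by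
    by_contra hne
    have hlt : ⁅X, R⁆ < X := lt_of_le_of_ne (Subgroup.commutator_le_left X R) hne
    have hle := hleY _ inferInstance hlt
    apply hX_not
    refine ⟨1 + k, ?_⟩
    rw [iterCommutator_add, eq_bot_iff, ← hk]
    exact iterCommutator_mono hle le_rfl k
  have hXY : ⁅X, Y⁆ = ⊥ := comm_eq_bot_of_unip X Y R hXR k hk
  have hXp : IsPGroup p X := hTp.to_le (hXA.trans hAT)
  -- step 6
  have hcontra : ⁅⁅X, B⁆, B⁆ ≤ Y → False := by
    intro hq
    have h1 : R ≤ centSection X Y := by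
      rw [hRdef]
      apply Subgroup.normalClosure_le_normal
      intro b hb
      rw [SetLike.mem_coe, mem_centSection_iff_comm]
      intro x hx
      have hz : Subgroup.zpowers b ≤ B := Subgroup.zpowers_le.mpr hb
      have := ps_chief hch hXp hps b
        ((Subgroup.commutator_mono (Subgroup.commutator_mono le_rfl hz) hz).trans hq)
      exact this (Subgroup.commutator_mem_commutator hx (Subgroup.mem_zpowers b))
    have h2 : ⁅X, R⁆ ≤ Y := by
      rw [Subgroup.commutator_le]
      intro x hx r hr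
      exact (mem_centSection_iff_comm.mp (h1 hr)) x hx
    rw [hXR] at h2
    exact (not_le_of_gt hYX) h2
  have hX2 : ⁅X, X⁆ ≤ Subgroup.centralizer (X : Set G) :=
    (Subgroup.commutator_mono hXA hXA).trans (hA2.trans (Subgroup.centralizer_le hXA))
  have hZne : zOf X ≠ X := by
    intro h
    have h1 : ⁅X, X⁆ = ⊥ := by
      rw [Subgroup.commutator_eq_bot_iff_le_centralizer]
      rw [← h]; exact inf_le_right.trans (Subgroup.centralizer_le (by rw [h]))
    apply hcontra
    rw [hQX X hXn hXA (by rw [h1]; exact Subgroup.commutator_bot_right B)]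
    exact bot_le
  have hYZ : Y = zOf X := by
    apply le_antisymm
    · refine le_inf hYX.le ?_
      rw [← Subgroup.commutator_eq_bot_iff_le_centralizer, Subgroup.commutator_comm]
      exact hXY
    · exact hleY (zOf X) inferInstance (lt_of_le_of_ne (zOf_le X) hZne)
  -- step 7
  have h7 := derived_centralized_of_min X Y R B hch hYZ hX2 hXp (hps Y hYn) hRdef hB2
    (hXA.trans hAB) k hk
  apply hcontra
  rw [hQX X hXn hXA (by
    rw [eq_bot_iff, ← h7, Subgroup.commutator_comm]
    exact Subgroup.commutator_mono le_rfl hBR)]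
  exact bot_le

end Main

end Cfsg.Agent.Lib.Helper4
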