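import Mathlib
import Cfsg.Agent.Lib.Helper4.PStab3c

set_option autoImplicit false
open scoped commutatorElement

/-! The derived subgroup of a minimal normal subgroup on which a lower-star member acts nontrivially is centralized by the
normal closure of that member: the case of an odd prime, without any stability hypothesis. -/

namespace Cfsg.Agent.Lib.Helper4

open Cfsg Cfsg.Agent.Lib.Helper7

section Calc

variable {G : Type*} [Group G]

/-- commutators with a fixed element modulo a normal subgroup: from the generator to the cyclic group -/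
theorem commutator_zpowers_le_of_forall (M Y : Subgroup G) [hY : Y.Normal] (b : G)
    (h : ∀ u ∈ M, ⁅u, b⁆ ∈ Y) : ⁅M, Subgroup.zpowers b⁆ ≤ Y := by
  have key : ⁅M.map (QuotientGroup.mk' Y), Subgroup.zpowers ((QuotientGroup.mk' Y) b)⁆ = ⊥ := by
    rw [Subgroup.commutator_comm, Subgroup.commutator_eq_bot_iff_le_centralizer, Subgroup.zpowers_le,
      Subgroup.mem_centralizer_iff]
    rintro _ ⟨u, hu, rfl⟩
    have h1 : (QuotientGroup.mk' Y) ⁅u, b⁆ = 1 := (QuotientGroup.eq_one_iff _).mpr (h u hu)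
    rw [map_commutatorElement, commutatorElement_eq_one_iff_mul_comm] at h1
    exact h1
  rw [← MonoidHom.map_zpowers, ← Subgroup.map_commutator, Subgroup.map_eq_bot_iff,
    QuotientGroup.ker_mk'] at key
  exact key

/-- a word identity for commuting elements -/
theorem comm_word_calc {A P Q : G} (hAP : A * P = P * A) (hAQ : A * Q = Q * A) :
    A * P⁻¹ * A * Q⁻¹ * A * Q * P * A⁻¹ = A * A := by
  have e1 : Q⁻¹ * A * Q = A := by rw [mul_assoc, hAQ, ← mul_assoc, inv_mul_cancel, one_mul]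
  have e0 : (A * A) * P = P * (A * A) := by rw [mul_assoc, hAP, ← mul_assoc, hAP, mul_assoc]
  have e2 : P⁻¹ * (A * A) * P = A * A := by rw [mul_assoc, e0, ← mul_assoc, inv_mul_cancel, one_mul]
  calc A * P⁻¹ * A * Q⁻¹ * A * Q * P * A⁻¹ = A * P⁻¹ * A * (Q⁻¹ * A * Q) * P * A⁻¹ := by group
    _ = A * P⁻¹ * A * A * P * A⁻¹ := by rw [e1]
    _ = A * (P⁻¹ * (A * A) * P) * A⁻¹ := by group
    _ = A * (A * A) * A⁻¹ := by rw [e2]
    _ = A * A := by group

/-- the abstract form of the computation with a pair of quadratic sections -/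
theorem quad_pair_calc (b z A P Q : G)
    (hz : b * z * b⁻¹ = A * P⁻¹ * Q⁻¹ * z) (hP : b * P * b⁻¹ = A⁻¹ * P) (hQ : b * Q * b⁻¹ = A⁻¹ * Q)
    (hA : b * A * b⁻¹ = A) (hAP : A * P = P * A) (hAQ : A * Q = Q * A) :
    ⁅P, b⁆ = A ∧ ⁅b, ⁅b, z⁆⁆ = A * A := by
  constructor
  · calc ⁅P, b⁆ = P * (b * P * b⁻¹)⁻¹ := by rw [commutatorElement_def]; group
      _ = P * (A⁻¹ * P)⁻¹ := by rw [hP]
      _ = A := by group
  · have hm : ⁅b, z⁆ = A * P⁻¹ * Q⁻¹ := by
      calc ⁅b, z⁆ = (b * z * b⁻¹) * z⁻¹ := by rw [commutatorElement_def]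
        _ = A * P⁻¹ * Q⁻¹ * z * z⁻¹ := by rw [hz]
        _ = A * P⁻¹ * Q⁻¹ := by group
    have hbm : b * (A * P⁻¹ * Q⁻¹) * b⁻¹ = A * P⁻¹ * A * Q⁻¹ * A := by
      calc b * (A * P⁻¹ * Q⁻¹) * b⁻¹ = (b * A * b⁻¹) * (b * P * b⁻¹)⁻¹ * (b * Q * b⁻¹)⁻¹ := by group
        _ = A * (A⁻¹ * P)⁻¹ * (A⁻¹ * Q)⁻¹ := by rw [hA, hP, hQ]
        _ = A * P⁻¹ * A * Q⁻¹ * A := by group
    rw [hm]
    calc ⁅b, A * P⁻¹ * Q⁻¹⁆ = (b * (A * P⁻¹ * Q⁻¹) * b⁻¹) * (A * P⁻¹ * Q⁻¹)⁻¹ := by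
          rw [commutatorElement_def]
      _ = A * P⁻¹ * A * Q⁻¹ * A * (A * P⁻¹ * Q⁻¹)⁻¹ := by rw [hbm]
      _ = A * P⁻¹ * A * Q⁻¹ * A * Q * P * A⁻¹ := by group
      _ = A * A := comm_word_calc hAP hAQ

/-- square roots in a group of odd prime power exponent -/
theorem mem_of_sq_mem {p : ℕ} [hp : Fact p.Prime] (hp2 : p ≠ 2) (W : Subgroup G) (a : G)
    (ha : ∃ k : ℕ, a ^ p ^ k = 1) (h : a * a ∈ W) : a ∈ W := by
  obtain ⟨k, hk⟩ := ha
  have hodd : Odd (p ^ k) := (hp.out.odd_of_ne_two hp2).pow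
  obtain ⟨m, hm⟩ := hodd
  have e : (a * a) ^ (m + 1) = a := by
    rw [← pow_two, ← pow_mul]
    have e2 : 2 * (m + 1) = p ^ k + 1 := by omega
    rw [e2, pow_succ, hk, one_mul]
  rw [← e]
  exact W.pow_mem h _

end Calc

section Main

variable {G : Type*} [Group G] [Finite G] {p : ℕ} [hp : Fact p.Prime]

/-- **the derived subgroup is centralized**, for an odd prime -/
theorem derived_centralized_of_min_odd (hp2 : p ≠ 2)
    (X Y R B : Subgroup G) [hXn : X.Normal] [hYn : Y.Normal] [hRn : R.Normal]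
    (hch : IsChiefFactor X Y) (hYZ : Y = zOf X)
    (hX2 : ⁅X, X⁆ ≤ Subgroup.centralizer (X : Set G))
    (hXp : IsPGroup p X)
    (hR : R = Subgroup.normalClosure (B : Set G))
    (hB2 : ⁅B, B⁆ ≤ Subgroup.centralizer (B : Set G))
    (hXB : X ≤ Subgroup.normalizer (B : Set G))
    (k : ℕ) (hk : iterCommutator Y R k = ⊥) :
    ⁅⁅X, X⁆, R⁆ = ⊥ := by
  classical
  obtain ⟨X', hX'def⟩ : ∃ X', X' = ⁅X, X⁆ := ⟨_, rfl⟩
  rw [← hX'def]
  have hX'n : X'.Normal := by rw [hX'def]; infer_instance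
  have hX'X : X' ≤ X := by rw [hX'def]; exact Subgroup.commutator_le_left X X
  have hX'Y : X' ≤ Y := by
    rw [hYZ, hX'def]
    exact le_inf (Subgroup.commutator_le_left X X) hX2
  have hYX : Y ≤ X := hch.1.le
  have hBR : B ≤ R := by rw [hR]; exact Subgroup.subset_normalClosure
  -- central elements
  have hcen : ∀ x ∈ X, ∀ c ∈ X', x * c = c * x := by
    intro x hx c hc
    rw [hX'def] at hc
    exact ((Subgroup.mem_centralizer_iff.mp (hX2 hc)) x hx)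
  have hYcen : ∀ z ∈ Y, ∀ x ∈ X, x * z = z * x := by
    intro z hz x hx
    rw [hYZ] at hz
    exact (Subgroup.mem_centralizer_iff.mp hz.2) x hx
  have hcommX' : ∀ x ∈ X, ∀ y ∈ X, ⁅x, y⁆ ∈ X' := by
    intro x hx y hy
    rw [hX'def]; exact Subgroup.commutator_mem_commutator hx hy
  by_contra hW1
  obtain ⟨W₁, hW₁def⟩ : ∃ W₁, W₁ = ⁅X', R⁆ := ⟨_, rfl⟩
  obtain ⟨W₂, hW₂def⟩ : ∃ W₂, W₂ = ⁅W₁, R⁆ := ⟨_, rfl⟩
  rw [← hW₁def] at hW1
  have hW₁n : W₁.Normal := by rw [hW₁def]; infer_instance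
  haveI hW₂n : W₂.Normal := by rw [hW₂def]; infer_instance
  have hW₁Y : W₁ ≤ Y := by
    rw [hW₁def]; exact (Subgroup.commutator_le_left X' R).trans hX'Y
  have hW21 : ¬ W₁ ≤ W₂ := by
    intro hle
    apply hW1
    have h4 : ∀ m : ℕ, W₁ ≤ iterCommutator W₁ R m := by
      intro m
      induction m with
      | zero => exact le_rfl
      | succ m ihm =>
        refine hle.trans ?_
        rw [hW₂def]
        exact Subgroup.commutator_mono ihm le_rfl
    rw [eq_bot_iff, ← hk]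
    exact (h4 k).trans (iterCommutator_mono hW₁Y le_rfl k)
  -- the element `b`
  obtain ⟨b, hbB, c₀, hc₀, hc₀b⟩ : ∃ b ∈ B, ∃ c ∈ X', ⁅c, b⁆ ∉ W₂ := by
    by_contra hno
    push Not at hno
    apply hW21
    have h1 : R ≤ centSection X' W₂ := by
      rw [hR]
      apply Subgroup.normalClosure_le_normal
      intro b hb
      rw [SetLike.mem_coe, mem_centSection_iff_comm]
      intro c hc
      exact hno b hb c hc
    rw [hW₁def, Subgroup.commutator_le]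
    intro c hc r hr
    exact (mem_centSection_iff_comm.mp (h1 hr)) c hc
  have hbR : b ∈ R := hBR hbB
  obtain ⟨Cb, hCbdef⟩ : ∃ Cb, Cb = commCentralizer W₂ b := ⟨_, rfl⟩
  have hmemCb : ∀ x : G, x ∈ Cb ↔ ⁅x, b⁆ ∈ W₂ := by
    intro x; rw [hCbdef]; exact mem_commCentralizer
  have hW₁Cb : W₁ ≤ Cb := by
    intro x hx
    rw [hmemCb, hW₂def]
    exact Subgroup.commutator_mem_commutator hx hbR
  -- the subgroup `ρ`
  let ρ : Subgroup G :=
    { carrier := {x | x ∈ X ∧ ∀ y ∈ X, ⁅x, y⁆ ∈ Cb}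
      one_mem' := by
        refine ⟨X.one_mem, ?_⟩
        intro y _
        rw [commutatorElement_one_left]; exact Cb.one_mem
      mul_mem' := by
        rintro x₁ x₂ ⟨hx₁, h₁⟩ ⟨hx₂, h₂⟩
        refine ⟨X.mul_mem hx₁ hx₂, ?_⟩
        intro y hy
        rw [comm_mul_left]
        have e : x₁ * ⁅x₂, y⁆ * x₁⁻¹ = ⁅x₂, y⁆ := by
          rw [hcen x₁ hx₁ _ (hcommX' x₂ hx₂ y hy)]; group
        rw [e]
        exact Cb.mul_mem (h₂ y hy) (h₁ y hy)
      inv_mem' := by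
        rintro x ⟨hx, h⟩
        refine ⟨X.inv_mem hx, ?_⟩
        intro y hy
        rw [comm_inv_left]
        have hc : ⁅x, y⁆⁻¹ ∈ X' := X'.inv_mem (hcommX' x hx y hy)
        have e : x⁻¹ * ⁅x, y⁆⁻¹ * x⁻¹⁻¹ = ⁅x, y⁆⁻¹ := by
          rw [hcen x⁻¹ (X.inv_mem hx) _ hc]; group
        rw [e]
        exact Cb.inv_mem (h y hy) }
  have hmemρ : ∀ x : G, x ∈ ρ ↔ x ∈ X ∧ ∀ y ∈ X, ⁅x, y⁆ ∈ Cb := fun x => Iff.rfl
  have hρX : ρ ≤ X := fun x hx => hx.1
  have hYρ : Y ≤ ρ := by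
    intro z hz
    rw [hmemρ]
    refine ⟨hYX hz, ?_⟩
    intro y hy
    have : ⁅z, y⁆ = 1 := by
      rw [commutatorElement_eq_one_iff_mul_comm]
      exact (hYcen z hz y hy).symm
    rw [this]; exact Cb.one_mem
  have hρne : ρ ≠ X := by
    intro he
    apply hc₀b
    rw [← hmemCb]
    have h1 : X' ≤ Cb := by
      rw [hX'def, Subgroup.commutator_le]
      intro x hx y hy
      have hx' : x ∈ ρ := by rw [he]; exact hx
      exact hx'.2 y hy
    exact h1 hc₀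
  have hRρ : R ≤ Subgroup.normalizer ((ρ : Subgroup G) : Set G) := by
    rw [le_normalizer_iff_forall]
    intro r hr x hx
    rw [hmemρ] at hx ⊢
    refine ⟨hXn.conj_mem x hx.1 r, ?_⟩
    intro y hy
    have hy' : r⁻¹ * y * r⁻¹⁻¹ ∈ X := hXn.conj_mem y hy r⁻¹
    have e : ⁅r * x * r⁻¹, y⁆ = r * ⁅x, r⁻¹ * y * r⁻¹⁻¹⁆ * r⁻¹ := by
      rw [conj_comm]; congr 1; group
    rw [e]
    obtain ⟨c, hcdef⟩ : ∃ c, c = ⁅x, r⁻¹ * y * r⁻¹⁻¹⁆ := ⟨_, rfl⟩
    rw [← hcdef]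
    have hcCb : c ∈ Cb := by rw [hcdef]; exact hx.2 _ hy'
    have hcX' : c ∈ X' := by rw [hcdef]; exact hcommX' x hx.1 _ hy'
    have e2 : r * c * r⁻¹ = ⁅r, c⁆ * c := by simp only [commutatorElement_def]; group
    rw [e2]
    apply Cb.mul_mem _ hcCb
    apply hW₁Cb
    rw [hW₁def, Subgroup.commutator_comm]
    exact Subgroup.commutator_mem_commutator hr hcX'
  -- `[X, b, b]` lies in `ρ`
  have hbbρ : ⁅⁅X, Subgroup.zpowers b⁆, Subgroup.zpowers b⁆ ≤ ρ := by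
    have hzB : Subgroup.zpowers b ≤ B := Subgroup.zpowers_le.mpr hbB
    have h1 : ⁅X, Subgroup.zpowers b⁆ ≤ X ⊓ B :=
      le_inf (Subgroup.commutator_le_left X _)
        ((Subgroup.commutator_mono le_rfl hzB).trans (commutator_le_of_le_normalizer hXB))
    rw [Subgroup.commutator_le]
    intro m hm z hz
    have hmX : m ∈ X := (h1 hm).1
    have hmB : m ∈ B := (h1 hm).2
    have hzB' : z ∈ B := hzB hz
    obtain ⟨u, hudef⟩ : ∃ u, u = ⁅m, z⁆ := ⟨_, rfl⟩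
    rw [← hudef]
    have huX : u ∈ X := by
      rw [hudef, commutatorElement_def]
      have : m * z * m⁻¹ * z⁻¹ = m * (z * m⁻¹ * z⁻¹) := by group
      rw [this]
      exact X.mul_mem hmX (hXn.conj_mem _ (X.inv_mem hmX) _)
    have huZB : ∀ a ∈ B, a * u = u * a := by
      intro a ha
      have : u ∈ ⁅B, B⁆ := by rw [hudef]; exact Subgroup.commutator_mem_commutator hmB hzB'
      exact (Subgroup.mem_centralizer_iff.mp (hB2 this)) a ha
    rw [hmemρ]
    refine ⟨huX, ?_⟩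
    intro y hy
    rw [hmemCb]
    have hbyB : ⁅b, y⁆ ∈ B := by
      have h2 : ⁅y, b⁆ ∈ B :=
        (commutator_le_of_le_normalizer hXB) (Subgroup.commutator_mem_commutator hy hbB)
      rw [comm_swap]; exact B.inv_mem h2
    have hbyX : ⁅b, y⁆ ∈ X := by
      rw [commutatorElement_def]
      have : b * y * b⁻¹ * y⁻¹ = (b * y * b⁻¹) * y⁻¹ := by group
      rw [this]
      exact X.mul_mem (hXn.conj_mem y hy b) (X.inv_mem hy)
    have hbub : b * u * b⁻¹ = u := by rw [huZB b hbB]; group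
    have hbyb : b * y * b⁻¹ = ⁅b, y⁆ * y := by simp only [commutatorElement_def]; group
    have h3 : b * ⁅u, y⁆ * b⁻¹ = ⁅u, y⁆ := by
      rw [conj_comm, hbub, hbyb, comm_mul_right]
      have h4 : ⁅u, ⁅b, y⁆⁆ = 1 := by
        rw [commutatorElement_eq_one_iff_mul_comm]
        exact (huZB _ hbyB).symm
      have h5 : ⁅b, y⁆ * ⁅u, y⁆ * ⁅b, y⁆⁻¹ = ⁅u, y⁆ := by
        rw [hcen _ hbyX _ (hcommX' u huX y hy)]; group
      rw [h4, h5, one_mul]
    have h6 : ⁅⁅u, y⁆, b⁆ = 1 := by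
      rw [commutatorElement_eq_one_iff_mul_comm]
      calc ⁅u, y⁆ * b = (b * ⁅u, y⁆ * b⁻¹) * b := by rw [h3]
        _ = b * ⁅u, y⁆ := by group
    rw [h6]; exact W₂.one_mem
  -- minimal `R`-invariant subgroups
  let 𝓜 := {M : Subgroup G // Y ≤ M ∧ M ≤ X ∧ M ≠ Y ∧ R ≤ Subgroup.normalizer (M : Set G)}
  haveI : Nonempty 𝓜 := ⟨⟨X, hYX, le_rfl, hch.1.ne', by
    rw [Subgroup.normalizer_eq_top_iff.mpr hXn]; exact le_top⟩⟩
  obtain ⟨⟨M₀, hYM₀, hM₀X, hM₀ne, hRM₀⟩, hmin₀⟩ := Finite.exists_min (fun M : 𝓜 => Nat.card M.1)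
  have hM₀min : ∀ M' : Subgroup G, Y ≤ M' → M' ≤ M₀ → R ≤ Subgroup.normalizer (M' : Set G) →
      M' = Y ∨ M' = M₀ := by
    intro M' hYM' hM'M hRM'
    by_cases he : M' = Y
    · exact Or.inl he
    · right
      have h1 := hmin₀ ⟨M', hYM', hM'M.trans hM₀X, he, hRM'⟩
      exact Subgroup.eq_of_le_of_card_ge hM'M h1
  -- the conjugates of `M₀`
  have hconjY : ∀ g : G, cj g Y = Y := fun g =>
    mem_normalizer_iff_cj.mp (by rw [Subgroup.normalizer_eq_top_iff.mpr hYn]; exact Subgroup.mem_top g)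
  have hconjX : ∀ g : G, cj g X = X := fun g =>
    mem_normalizer_iff_cj.mp (by rw [Subgroup.normalizer_eq_top_iff.mpr hXn]; exact Subgroup.mem_top g)
  have hconjR : ∀ (g : G) (M : Subgroup G), R ≤ Subgroup.normalizer (M : Set G) →
      R ≤ Subgroup.normalizer ((cj g M : Subgroup G) : Set G) := by
    intro g M hRM r hr
    rw [mem_normalizer_iff_cj, ← cj_mul]
    have h1 : g⁻¹ * r * g ∈ R := by
      have := hRn.conj_mem r hr g⁻¹
      simpa using this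
    have h2 : cj (g⁻¹ * r * g) M = M := mem_normalizer_iff_cj.mp (hRM h1)
    have e : r * g = g * (g⁻¹ * r * g) := by group
    rw [e, cj_mul, h2]
  have hMg : ∀ g : G, Y ≤ cj g M₀ ∧ cj g M₀ ≤ X ∧ R ≤ Subgroup.normalizer ((cj g M₀ : Subgroup G) : Set G) ∧
      ∀ M' : Subgroup G, Y ≤ M' → M' ≤ cj g M₀ → R ≤ Subgroup.normalizer (M' : Set G) →
        M' = Y ∨ M' = cj g M₀ := by
    intro g
    refine ⟨?_, ?_, hconjR g M₀ hRM₀, ?_⟩
    · rw [← hconjY g]; exact cj_mono g hYM₀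
    · rw [← hconjX g]; exact cj_mono g hM₀X
    · intro M' hYM' hM'M hRM'
      have h1 : Y ≤ cj g⁻¹ M' := by rw [← hconjY g⁻¹]; exact cj_mono g⁻¹ hYM'
      have h2 : cj g⁻¹ M' ≤ M₀ := by
        have := cj_mono g⁻¹ hM'M
        rwa [cj_inv_cj] at this
      rcases hM₀min _ h1 h2 (hconjR g⁻¹ M' hRM') with h3 | h3
      · left
        have := congrArg (cj g) h3
        rwa [cj_cj_inv, hconjY] at this
      · right
        have := congrArg (cj g) h3
        rwa [cj_cj_inv] at this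
  -- the join of the conjugates is `X`
  have hJ : (⨆ g : G, cj g M₀) = X := by
    obtain ⟨J, hJdef⟩ : ∃ J, J = ⨆ g : G, cj g M₀ := ⟨_, rfl⟩
    rw [← hJdef]
    have hJn : J.Normal := by
      rw [← Subgroup.normalizer_eq_top_iff, eq_top_iff]
      intro h _
      rw [mem_normalizer_iff_cj]
      apply cj_eq_of_le
      rw [hJdef]
      show (⨆ g : G, cj g M₀).map (MulAut.conj h).toMonoidHom ≤ _
      rw [Subgroup.map_iSup]
      apply iSup_le
      intro g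
      have : (cj g M₀).map (MulAut.conj h).toMonoidHom = cj (h * g) M₀ := (cj_mul h g M₀).symm
      rw [this]
      exact le_iSup (fun g : G => cj g M₀) (h * g)
    have hM₀J : M₀ ≤ J := by
      rw [hJdef]
      have := le_iSup (fun g : G => cj g M₀) 1
      rwa [cj_one] at this
    have hJX : J ≤ X := by
      rw [hJdef]; exact iSup_le (fun g => (hMg g).2.1)
    rcases hch.2.2.2 J hJn (hYM₀.trans hM₀J) hJX with h | h
    · exfalso
      apply hM₀ne
      exact le_antisymm (by rw [← h]; exact hM₀J) hYM₀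
    · exact h
  -- bilinearity of the commutator on `X`
  have hX'comm : ∀ c₁ ∈ X', ∀ c₂ ∈ X', c₁ * c₂ = c₂ * c₁ := fun c₁ hc₁ c₂ hc₂ =>
    hcen c₁ (hX'X hc₁) c₂ hc₂
  have bil_left : ∀ x₁ ∈ X, ∀ x₂ ∈ X, ∀ w ∈ X, ⁅x₁ * x₂, w⁆ = ⁅x₁, w⁆ * ⁅x₂, w⁆ := by
    intro x₁ hx₁ x₂ hx₂ w hw
    rw [comm_mul_left]
    have h1 : x₁ * ⁅x₂, w⁆ * x₁⁻¹ = ⁅x₂, w⁆ := by
      rw [hcen x₁ hx₁ _ (hcommX' x₂ hx₂ w hw)]; group
    rw [h1]
    exact hX'comm _ (hcommX' x₂ hx₂ w hw) _ (hcommX' x₁ hx₁ w hw)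
  have bil_right : ∀ x ∈ X, ∀ w₁ ∈ X, ∀ w₂ ∈ X, ⁅x, w₁ * w₂⁆ = ⁅x, w₁⁆ * ⁅x, w₂⁆ := by
    intro x hx w₁ hw₁ w₂ hw₂
    rw [comm_mul_right]
    have h1 : w₁ * ⁅x, w₂⁆ * w₁⁻¹ = ⁅x, w₂⁆ := by
      rw [hcen w₁ hw₁ _ (hcommX' x hx w₂ hw₂)]; group
    rw [h1]
  have inv_left : ∀ x ∈ X, ∀ w ∈ X, ⁅x⁻¹, w⁆ = ⁅x, w⁆⁻¹ := by
    intro x hx w hw
    rw [comm_inv_left]
    have hc : ⁅x, w⁆⁻¹ ∈ X' := X'.inv_mem (hcommX' x hx w hw)
    rw [hcen x⁻¹ (X.inv_mem hx) _ hc]; group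
  have inv_right : ∀ x ∈ X, ∀ w ∈ X, ⁅x, w⁻¹⁆ = ⁅x, w⁆⁻¹ := by
    intro x hx w hw
    rw [comm_inv_right]
    have hc : ⁅x, w⁆⁻¹ ∈ X' := X'.inv_mem (hcommX' x hx w hw)
    rw [hcen w⁻¹ (X.inv_mem hw) _ hc]; group
  have cen_left : ∀ z ∈ Y, ∀ x ∈ X, ∀ w ∈ X, ⁅z * x, w⁆ = ⁅x, w⁆ := by
    intro z hz x hx w hw
    rw [bil_left z (hYX hz) x hx w hw]
    have : ⁅z, w⁆ = 1 := by
      rw [commutatorElement_eq_one_iff_mul_comm]
      exact (hYcen z hz w hw).symm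
    rw [this, one_mul]
  have cen_right : ∀ z ∈ Y, ∀ x ∈ X, ∀ w ∈ X, ⁅x, z * w⁆ = ⁅x, w⁆ := by
    intro z hz x hx w hw
    rw [bil_right x hx z (hYX hz) w hw]
    have : ⁅x, z⁆ = 1 := by
      rw [commutatorElement_eq_one_iff_mul_comm]
      exact hYcen z hz x hx
    rw [this, one_mul]
  have hcX : ∀ x ∈ X, ⁅x, b⁆ ∈ X := by
    intro x hx
    rw [commutatorElement_def]
    have : x * b * x⁻¹ * b⁻¹ = x * (b * x⁻¹ * b⁻¹) := by group
    rw [this]
    exact X.mul_mem hx (hXn.conj_mem _ (X.inv_mem hx) _)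
  have hcB : ∀ x ∈ X, ⁅x, b⁆ ∈ B := fun x hx =>
    (commutator_le_of_le_normalizer hXB) (Subgroup.commutator_mem_commutator hx hbB)
  have hconjb : ∀ x : G, b * x * b⁻¹ = ⁅x, b⁆⁻¹ * x := by
    intro x; simp only [commutatorElement_def]; group
  have hXpow : ∀ x ∈ X, ∃ k : ℕ, x ^ p ^ k = 1 := by
    intro x hx
    obtain ⟨k, hk⟩ := hXp ⟨x, hx⟩
    exact ⟨k, congrArg Subtype.val hk⟩
  -- the weak dichotomy
  have hweak : ∀ g : G, cj g M₀ ≤ ρ ∨
      (⁅⁅cj g M₀, Subgroup.zpowers b⁆, Subgroup.zpowers b⁆ ≤ Y ∧ cj g M₀ ⊓ ρ = Y ∧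
        ⁅cj g M₀, Subgroup.zpowers b⁆ ≤ cj g M₀) := by
    intro g
    obtain ⟨hYM, hMX, hRM, hMmin⟩ := hMg g
    obtain ⟨M, hMdef⟩ : ∃ M, M = cj g M₀ := ⟨_, rfl⟩
    rw [← hMdef] at hYM hMX hRM hMmin ⊢
    by_cases hMρ : M ≤ ρ
    · exact Or.inl hMρ
    · right
      have hinf : M ⊓ ρ = Y := by
        rcases hMmin (M ⊓ ρ) (le_inf hYM hYρ) inf_le_left
          ((le_inf hRM hRρ).trans Subgroup.inf_normalizer_le_normalizer_inf) with h | h
        · exact h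
        · exfalso; apply hMρ; rw [← h]; exact inf_le_right
      have hzR : Subgroup.zpowers b ≤ R := Subgroup.zpowers_le.mpr hbR
      have hMb : ⁅M, Subgroup.zpowers b⁆ ≤ M :=
        (Subgroup.commutator_mono le_rfl hzR).trans (commutator_le_of_le_normalizer' hRM)
      have hq : ⁅⁅M, Subgroup.zpowers b⁆, Subgroup.zpowers b⁆ ≤ Y := by
        rw [← hinf]
        refine le_inf ((Subgroup.commutator_mono hMb le_rfl).trans hMb) ?_
        exact (Subgroup.commutator_mono (Subgroup.commutator_mono hMX le_rfl) le_rfl).trans hbbρ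
      exact ⟨hq, hinf, hMb⟩
  -- the second alternative forces `b` to centralize the section
  have hstrong : ∀ g : G, ⁅⁅cj g M₀, Subgroup.zpowers b⁆, Subgroup.zpowers b⁆ ≤ Y →
      ∀ u ∈ cj g M₀, ⁅u, b⁆ ∈ ρ := by
    intro g hq u hu
    have huX : u ∈ X := (hMg g).2.1 hu
    obtain ⟨c, hcdef⟩ : ∃ c, c = ⁅u, b⁆ := ⟨_, rfl⟩
    rw [← hcdef]
    have hcXm : c ∈ X := by rw [hcdef]; exact hcX u huX
    have hcBm : c ∈ B := by rw [hcdef]; exact hcB u huX
    have hcbY : ⁅c, b⁆ ∈ Y := by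
      apply hq
      rw [hcdef]
      exact Subgroup.commutator_mem_commutator
        (Subgroup.commutator_mem_commutator hu (Subgroup.mem_zpowers b)) (Subgroup.mem_zpowers b)
    rw [hmemρ]
    refine ⟨hcXm, ?_⟩
    have key : ∀ y ∈ (⨆ g : G, cj g M₀), y ∈ X ∧ ⁅c, y⁆ ∈ Cb := by
      intro y hy
      induction hy using Subgroup.iSup_induction' with
      | hp g' y hy =>
        have hyX : y ∈ X := (hMg g').2.1 hy
        refine ⟨hyX, ?_⟩
        rcases hweak g' with h' | ⟨hq', -, -⟩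
        · have := (h' hy).2 c hcXm
          rw [comm_swap]; exact Cb.inv_mem this
        · obtain ⟨d, hddef⟩ : ∃ d, d = ⁅y, b⁆ := ⟨_, rfl⟩
          have hdXm : d ∈ X := by rw [hddef]; exact hcX y hyX
          have hdBm : d ∈ B := by rw [hddef]; exact hcB y hyX
          have hdbY : ⁅d, b⁆ ∈ Y := by
            apply hq'
            rw [hddef]
            exact Subgroup.commutator_mem_commutator
              (Subgroup.commutator_mem_commutator hy (Subgroup.mem_zpowers b)) (Subgroup.mem_zpowers b)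
          have hbu : b * u * b⁻¹ = c⁻¹ * u := by rw [hcdef]; exact hconjb u
          have hby : b * y * b⁻¹ = d⁻¹ * y := by rw [hddef]; exact hconjb y
          have hbc : b * c * b⁻¹ = ⁅c, b⁆⁻¹ * c := hconjb c
          have hbd : b * d * b⁻¹ = ⁅d, b⁆⁻¹ * d := hconjb d
          have hz₁ : ⁅c, b⁆⁻¹ ∈ Y := Y.inv_mem hcbY
          have hz₂ : ⁅d, b⁆⁻¹ ∈ Y := Y.inv_mem hdbY
          have hc' : c⁻¹ ∈ X := X.inv_mem hcXm
          have hd' : d⁻¹ ∈ X := X.inv_mem hdXm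
          -- the four conjugation formulas
          have F1 : b * ⁅c, y⁆ * b⁻¹ = ⁅c, d⁆⁻¹ * ⁅c, y⁆ := by
            rw [conj_comm, hbc, hby, cen_left _ hz₁ c hcXm _ (X.mul_mem hd' hyX),
              bil_right c hcXm _ hd' y hyX, inv_right c hcXm d hdXm]
          have F2 : b * ⁅u, d⁆ * b⁻¹ = ⁅c, d⁆⁻¹ * ⁅u, d⁆ := by
            rw [conj_comm, hbu, hbd, cen_right _ hz₂ _ (X.mul_mem hc' huX) d hdXm,
              bil_left _ hc' u huX d hdXm, inv_left c hcXm d hdXm]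
          have F3 : b * ⁅u, y⁆ * b⁻¹ = ⁅c, d⁆ * ⁅c, y⁆⁻¹ * ⁅u, d⁆⁻¹ * ⁅u, y⁆ := by
            rw [conj_comm, hbu, hby, bil_left _ hc' u huX _ (X.mul_mem hd' hyX),
              bil_right _ hc' _ hd' y hyX, bil_right u huX _ hd' y hyX,
              inv_left c hcXm _ hd', inv_right c hcXm d hdXm, inv_inv,
              inv_left c hcXm y hyX, inv_right u huX d hdXm]
            simp only [mul_assoc]
          have hAZ : ⁅c, d⁆ ∈ ⁅B, B⁆ := Subgroup.commutator_mem_commutator hcBm hdBm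
          have F4 : b * ⁅c, d⁆ * b⁻¹ = ⁅c, d⁆ := by
            have := (Subgroup.mem_centralizer_iff.mp (hB2 hAZ)) b hbB
            rw [this]; group
          have hA' : ⁅c, d⁆ ∈ X' := hcommX' c hcXm d hdXm
          obtain ⟨h1, h2⟩ := quad_pair_calc b ⁅u, y⁆ ⁅c, d⁆ ⁅c, y⁆ ⁅u, d⁆ F3 F1 F2 F4
            (hX'comm _ hA' _ (hcommX' c hcXm y hyX)) (hX'comm _ hA' _ (hcommX' u huX d hdXm))
          -- `⁅c, d⁆ ^ 2 ∈ W₂`
          have h3 : ⁅c, d⁆ * ⁅c, d⁆ ∈ W₂ := by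
            rw [← h2]
            have hbz : ⁅b, ⁅u, y⁆⁆ ∈ W₁ := by
              rw [hW₁def, Subgroup.commutator_comm]
              exact Subgroup.commutator_mem_commutator hbR (hcommX' u huX y hyX)
            rw [hW₂def, Subgroup.commutator_comm]
            exact Subgroup.commutator_mem_commutator hbR hbz
          have h4 : ⁅c, d⁆ ∈ W₂ := mem_of_sq_mem hp2 W₂ _ (hXpow _ (hX'X hA')) h3
          rw [hmemCb, h1]
          exact h4
      | h1 =>
        refine ⟨X.one_mem, ?_⟩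
        rw [commutatorElement_one_right]; exact Cb.one_mem
      | hmul y₁ y₂ _ _ ih₁ ih₂ =>
        refine ⟨X.mul_mem ih₁.1 ih₂.1, ?_⟩
        rw [comm_mul_right]
        have e : y₁ * ⁅c, y₂⁆ * y₁⁻¹ = ⁅c, y₂⁆ := by
          rw [hcen y₁ ih₁.1 _ (hcommX' c hcXm y₂ ih₂.1)]; group
        rw [e]
        exact Cb.mul_mem ih₁.2 ih₂.2
    intro y hy
    rw [← hJ] at hy
    exact (key y hy).2
  -- each conjugate lies in `ρ` or is centralized by `b` modulo `Y`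
  have hdich : ∀ g : G, cj g M₀ ≤ ρ ∨ ⁅cj g M₀, Subgroup.zpowers b⁆ ≤ Y := by
    intro g
    rcases hweak g with h | ⟨hq, hinf, hMb⟩
    · exact Or.inl h
    · right
      apply commutator_zpowers_le_of_forall
      intro u hu
      rw [← hinf]
      refine Subgroup.mem_inf.mpr ⟨?_, hstrong g hq u hu⟩
      exact hMb (Subgroup.commutator_mem_commutator hu (Subgroup.mem_zpowers b))
  -- every conjugate lies in `ρ`
  have hall : ∀ g : G, cj g M₀ ≤ ρ := by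
    intro g
    rcases hdich g with h | h
    · exact h
    · intro v hv
      have hvX : v ∈ X := (hMg g).2.1 hv
      have hvb : ⁅v, b⁆ ∈ Y := h (Subgroup.commutator_mem_commutator hv (Subgroup.mem_zpowers b))
      rw [hmemρ]
      refine ⟨hvX, ?_⟩
      have key : ∀ y ∈ (⨆ g : G, cj g M₀), y ∈ X ∧ ⁅v, y⁆ ∈ Cb := by
        intro y hy
        induction hy using Subgroup.iSup_induction' with
        | hp g' y hy =>
          have hyX : y ∈ X := (hMg g').2.1 hy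
          refine ⟨hyX, ?_⟩
          rcases hdich g' with h' | h'
          · have := (h' hy).2 v hvX
            rw [comm_swap]; exact Cb.inv_mem this
          · have hyb : ⁅y, b⁆ ∈ Y := h' (Subgroup.commutator_mem_commutator hy (Subgroup.mem_zpowers b))
            rw [hmemCb]
            have hbv : b * v * b⁻¹ = ⁅v, b⁆⁻¹ * v := by simp only [commutatorElement_def]; group
            have hby : b * y * b⁻¹ = ⁅y, b⁆⁻¹ * y := by simp only [commutatorElement_def]; group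
            obtain ⟨z₁, hz₁def⟩ : ∃ z₁, z₁ = ⁅v, b⁆⁻¹ := ⟨_, rfl⟩
            obtain ⟨z₂, hz₂def⟩ : ∃ z₂, z₂ = ⁅y, b⁆⁻¹ := ⟨_, rfl⟩
            have hz₁ : z₁ ∈ Y := by rw [hz₁def]; exact Y.inv_mem hvb
            have hz₂ : z₂ ∈ Y := by rw [hz₂def]; exact Y.inv_mem hyb
            have h3 : b * ⁅v, y⁆ * b⁻¹ = ⁅v, y⁆ := by
              rw [conj_comm, hbv, hby, ← hz₁def, ← hz₂def]
              simp only [commutatorElement_def]
              have e1 := hYcen z₁ hz₁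
              have e2 := hYcen z₂ hz₂
              have a1 : v * z₂ = z₂ * v := e2 v hvX
              have a2 : y * z₁ = z₁ * y := e1 y hyX
              have a3 : v * z₁ = z₁ * v := e1 v hvX
              have a4 : y * z₂ = z₂ * y := e2 y hyX
              have a5 : z₁ * z₂ = z₂ * z₁ := by
                have := e2 z₁ (hYX hz₁)
                exact this
              calc z₁ * v * (z₂ * y) * (z₁ * v)⁻¹ * (z₂ * y)⁻¹
                  = z₁ * (v * z₂) * y * v⁻¹ * z₁⁻¹ * y⁻¹ * z₂⁻¹ := by group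
                _ = z₁ * (z₂ * v) * y * v⁻¹ * z₁⁻¹ * y⁻¹ * z₂⁻¹ := by rw [a1]
                _ = z₁ * z₂ * (v * y * v⁻¹) * z₁⁻¹ * y⁻¹ * z₂⁻¹ := by group
                _ = v * y * v⁻¹ * y⁻¹ := by
                  have b1 : (v * y * v⁻¹) * z₁⁻¹ = z₁⁻¹ * (v * y * v⁻¹) := by
                    have hw : v * y * v⁻¹ ∈ X := hXn.conj_mem y hyX v
                    have := e1 _ hw
                    calc (v * y * v⁻¹) * z₁⁻¹ = z₁⁻¹ * (z₁ * (v * y * v⁻¹)) * z₁⁻¹ := by group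
                      _ = z₁⁻¹ * ((v * y * v⁻¹) * z₁) * z₁⁻¹ := by rw [this]
                      _ = z₁⁻¹ * (v * y * v⁻¹) := by group
                  have b2 : y⁻¹ * z₂⁻¹ = z₂⁻¹ * y⁻¹ := by
                    calc y⁻¹ * z₂⁻¹ = (z₂ * y)⁻¹ := by group
                      _ = (y * z₂)⁻¹ := by rw [a4]
                      _ = z₂⁻¹ * y⁻¹ := by group
                  have b3 : (v * y * v⁻¹) * z₂⁻¹ = z₂⁻¹ * (v * y * v⁻¹) := by
                    have hw : v * y * v⁻¹ ∈ X := hXn.conj_mem y hyX v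
                    have := e2 _ hw
                    calc (v * y * v⁻¹) * z₂⁻¹ = z₂⁻¹ * (z₂ * (v * y * v⁻¹)) * z₂⁻¹ := by group
                      _ = z₂⁻¹ * ((v * y * v⁻¹) * z₂) * z₂⁻¹ := by rw [this]
                      _ = z₂⁻¹ * (v * y * v⁻¹) := by group
                  calc z₁ * z₂ * (v * y * v⁻¹) * z₁⁻¹ * y⁻¹ * z₂⁻¹
                      = z₁ * z₂ * ((v * y * v⁻¹) * z₁⁻¹) * (y⁻¹ * z₂⁻¹) := by group
                    _ = z₁ * z₂ * (z₁⁻¹ * (v * y * v⁻¹)) * (z₂⁻¹ * y⁻¹) := by rw [b1, b2]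
                    _ = z₁ * z₂ * z₁⁻¹ * ((v * y * v⁻¹) * z₂⁻¹) * y⁻¹ := by group
                    _ = z₁ * z₂ * z₁⁻¹ * (z₂⁻¹ * (v * y * v⁻¹)) * y⁻¹ := by rw [b3]
                    _ = (z₁ * z₂) * z₁⁻¹ * z₂⁻¹ * (v * y * v⁻¹ * y⁻¹) := by group
                    _ = (z₂ * z₁) * z₁⁻¹ * z₂⁻¹ * (v * y * v⁻¹ * y⁻¹) := by rw [a5]
                    _ = v * y * v⁻¹ * y⁻¹ := by group
            have h6 : ⁅⁅v, y⁆, b⁆ = 1 := by
              rw [commutatorElement_eq_one_iff_mul_comm]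
              calc ⁅v, y⁆ * b = (b * ⁅v, y⁆ * b⁻¹) * b := by rw [h3]
                _ = b * ⁅v, y⁆ := by group
            rw [h6]; exact W₂.one_mem
        | h1 =>
          refine ⟨X.one_mem, ?_⟩
          rw [commutatorElement_one_right]; exact Cb.one_mem
        | hmul y₁ y₂ _ _ ih₁ ih₂ =>
          refine ⟨X.mul_mem ih₁.1 ih₂.1, ?_⟩
          rw [comm_mul_right]
          have e : y₁ * ⁅v, y₂⁆ * y₁⁻¹ = ⁅v, y₂⁆ := by
            rw [hcen y₁ ih₁.1 _ (hcommX' v hvX y₂ ih₂.1)]; group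
          rw [e]
          exact Cb.mul_mem ih₁.2 ih₂.2
      intro y hy
      rw [← hJ] at hy
      exact (key y hy).2
  apply hρne
  apply le_antisymm hρX
  rw [← hJ]
  exact iSup_le hall


end Main

end Cfsg.Agent.Lib.Helper4
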