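import Mathlib
import Cfsg.Agent.Lib.Helper4.PStab3c

set_option autoImplicit false
open scoped commutatorElement

/-! **The K-infinity subgroups of a Sylow `p`-subgroup are normal** in a `p`-constrained group with `O_{p'} = 1` all of whose
quotients are `p`-stable. -/

namespace Cfsg.Agent.Lib.Helper4

open Cfsg

section PLevel

variable {P : Type*} [Group P] {T A : Subgroup P}

/-- the K-sequence stays inside `T`, from three abstract tests -/
theorem kSeq_le_of_tests [hAn : A.Normal] (hA2 : A ∈ classTwoSubgroups P) (hTA : ⁅T, A⁆ ≤ zOf A)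
    (h1 : ∀ A₁ : Subgroup P, A ≤ Subgroup.normalizer (A₁ : Set P) → ⁅A, ⁅A₁, A₁⁆⁆ = ⊥ →
      ⁅⁅zOf A, A₁⁆, A₁⁆ = ⊥ → A₁ ≤ T)
    (h2 : ∀ B : Subgroup P, ⁅⁅A, B⁆, B⁆ = ⊥ → B ≤ T)
    (h3 : ∀ O B : Subgroup P, A ≤ O → B ∈ kLowerStarFamily O → B ≤ T) (n : ℕ) :
    A ≤ kSeqOdd P n ∧ kSeqEven P n ≤ T ∧ kSeqOdd P (n + 1) ≤ T := by
  have hmem : ∀ R : Subgroup P, A ∈ kLowerStarFamily R := by
    intro R
    refine ⟨hA2, ?_, ?_⟩
    · rw [Subgroup.normalizer_eq_top]; exact le_top
    · intro A₁ _ _ hAA₁ h1' h2'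
      have hA₁T : A₁ ≤ T := h1 A₁ hAA₁ h1' h2'
      change ⁅A, A₁⁆ ≤ zOf A
      rw [Subgroup.commutator_comm]
      exact (Subgroup.commutator_mono hA₁T le_rfl).trans hTA
  have hupper : ∀ E B : Subgroup P, A ≤ E → B ∈ kUpperStarFamily E → B ≤ T := by
    intro E B hAE hB
    obtain ⟨_, hBE⟩ := hB
    have e1 : ⁅A, B⁆ ≤ zOf B := by
      rw [Subgroup.commutator_comm]
      exact (Subgroup.commutator_mono le_rfl hAE).trans hBE
    apply h2
    rw [eq_bot_iff, ← zOf_commutator_eq_bot B]
    exact Subgroup.commutator_mono e1 le_rfl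
  have hE : ∀ n, A ≤ kSeqEven P n := fun n => le_sSup (hmem _)
  have step : ∀ n, A ≤ kSeqOdd P n → kSeqEven P n ≤ T ∧ kSeqOdd P (n + 1) ≤ T := by
    intro n hAn'
    refine ⟨sSup_le fun B hB => h3 _ B hAn' hB, sSup_le fun B hB => ?_⟩
    exact hupper _ B (hE n) hB
  induction n with
  | zero => exact ⟨le_top, step 0 le_top⟩
  | succ n ih =>
    have hA' : A ≤ kSeqOdd P (n + 1) := by
      apply le_sSup
      refine ⟨hA2, ?_⟩
      change ⁅A, kSeqEven P n⁆ ≤ zOf A
      rw [Subgroup.commutator_comm]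
      exact (Subgroup.commutator_mono ih.2.1 le_rfl).trans hTA
    exact ⟨hA', step (n + 1) hA'⟩

end PLevel

section GLevel

universe u

variable {G : Type u} [Group G] [Finite G] {p : ℕ} [hp : Fact p.Prime]

/-- the K-infinity subgroups of `S` are those of `O_p(G)` -/
theorem kInf_eq_of_pstable
    (hps : ∀ (N : Subgroup G) (hN : N.Normal), IsNormalizerPStable p (G ⧸ N))
    (hc : Subgroup.centralizer ((pCore p G : Subgroup G) : Set G) ≤ pCore p G) (S : Sylow p G) :
    inducedFunctor kInfLower (S : Subgroup G) = inducedFunctor kInfLower (pCore p G) ∧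
      inducedFunctor kInfUpper (S : Subgroup G) = inducedFunctor kInfUpper (pCore p G) := by
  obtain ⟨A, hAT, hAn, hA2, hTA, hCA⟩ := exists_critical_pCore G p
  haveI := hAn
  have hTS : pCore p G ≤ (S : Subgroup G) := Cfsg.Agent.Lib.Helper6.pCore_le_sylow S
  have hA_S : A ≤ (S : Subgroup G) := hAT.trans hTS
  apply inducedFunctor_kInf_eq_of_kSeq_le _ _ hTS
  obtain ⟨ι, hι⟩ : ∃ ι : ↥(S : Subgroup G) →* G, ι = (S : Subgroup G).subtype := ⟨_, rfl⟩
  have hinj : Function.Injective ι := by rw [hι]; exact Subgroup.subtype_injective _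
  have hmapA : (A.subgroupOf (S : Subgroup G)).map ι = A := by
    rw [hι]; exact Subgroup.map_subgroupOf_eq_of_le hA_S
  have hmapT : ((pCore p G).subgroupOf (S : Subgroup G)).map ι = pCore p G := by
    rw [hι]; exact Subgroup.map_subgroupOf_eq_of_le hTS
  have hleT : ∀ B : Subgroup ↥(S : Subgroup G), B.map ι ≤ pCore p G →
      B ≤ (pCore p G).subgroupOf (S : Subgroup G) := by
    intro B hB
    rw [← Subgroup.map_le_map_iff_of_injective hinj, hmapT]
    exact hB
  haveI hAn' : (A.subgroupOf (S : Subgroup G)).Normal := by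
    rw [← Subgroup.normalizer_eq_top_iff, eq_top_iff]
    rw [← map_le_normalizer_map_iff ι hinj, hmapA]
    rw [Subgroup.normalizer_eq_top]; exact le_top
  have hA2' : A.subgroupOf (S : Subgroup G) ∈ classTwoSubgroups ↥(S : Subgroup G) := by
    rw [← map_mem_classTwo_iff ι hinj, hmapA]
    exact hA2
  have hTA' : ⁅(pCore p G).subgroupOf (S : Subgroup G), A.subgroupOf (S : Subgroup G)⁆ ≤
      zOf (A.subgroupOf (S : Subgroup G)) := by
    rw [← map_le_zOf_map_iff ι hinj, Subgroup.map_commutator, hmapA, hmapT]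
    exact hTA
  intro n
  refine (kSeq_le_of_tests hA2' hTA' ?_ ?_ ?_ n).2
  · intro A₁ hAA₁ h1 h2
    apply hleT
    apply le_pCore_of_lower_test hps hc A hAT hTA hCA (A₁.map ι)
    · have := (map_le_normalizer_map_iff ι hinj _ A₁).mpr hAA₁
      rw [hmapA] at this
      exact this
    · have := congrArg (Subgroup.map ι) h1
      rw [Subgroup.map_commutator, Subgroup.map_commutator, hmapA, Subgroup.map_bot] at this
      exact this
    · have := congrArg (Subgroup.map ι) h2
      rw [Subgroup.map_commutator, Subgroup.map_commutator, map_zOf ι hinj, hmapA, Subgroup.map_bot] at this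
      exact this
  · intro B hq
    apply hleT
    apply le_pCore_of_quadratic hps hc A hAT hTA hCA (B.map ι)
    have := congrArg (Subgroup.map ι) hq
    rw [Subgroup.map_commutator, Subgroup.map_commutator, hmapA, Subgroup.map_bot] at this
    exact this
  · intro O B hAO hB
    apply hleT
    apply le_pCore_of_lower hps hc A hAT hA2 hTA hCA (O.map ι) (B.map ι)
    · rw [← hmapA]; exact Subgroup.map_mono hAO
    · exact (map_mem_lower_iff ι hinj O B).mpr hB

/-- **the K-infinity subgroups are normal** -/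
theorem kInf_normal_of_pstable
    (hps : ∀ (N : Subgroup G) (hN : N.Normal), IsNormalizerPStable p (G ⧸ N))
    (hc : Subgroup.centralizer ((pCore p G : Subgroup G) : Set G) ≤ pCore p G) (S : Sylow p G) :
    (inducedFunctor kInfLower (S : Subgroup G)).Normal ∧
      (inducedFunctor kInfUpper (S : Subgroup G)).Normal := by
  obtain ⟨e1, e2⟩ := kInf_eq_of_pstable hps hc S
  rw [e1, e2]
  exact ⟨inducedFunctor_pCore_normal (isCharPFunctor_kInfLower p),
    inducedFunctor_pCore_normal (isCharPFunctor_kInfUpper p)⟩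

end GLevel

end Cfsg.Agent.Lib.Helper4
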