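import Mathlib
import Cfsg.Agent.Lib.Helper4.KQ1
import Cfsg.Agent.Lib.Helper4.PStab4

set_option autoImplicit false
open scoped commutatorElement

/-! Subgroups of the Sylow subgroup `S` acting quadratically on the chief factors inside a critical subgroup of `O_p(G)` lie in
`O_p(G)`, when no element of `S - O_p(G)` acts quadratically but nontrivially on such a chief factor (and cubically on
the critical subgroup). -/

namespace Cfsg.Agent.Lib.Helper4

open Cfsg

variable {G : Type*} [Group G]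

/-- no element of `S - O_p(G)` acts cubically on `A`, quadratically on `Z(A)`, and quadratically but nontrivially on a
chief factor inside `A` -/
def NoQuadChief (p : ℕ) (S A : Subgroup G) : Prop :=
  ∀ g ∈ S, g ∉ pCore p G →
    iterCommutator A (Subgroup.zpowers g) 3 ≤ zOf A →
    ⁅⁅zOf A, Subgroup.zpowers g⁆, Subgroup.zpowers g⁆ = ⊥ →
    ∀ U V : Subgroup G, IsChiefFactor U V → U ≤ A →
      ⁅⁅U, Subgroup.zpowers g⁆, Subgroup.zpowers g⁆ ≤ V → ⁅U, Subgroup.zpowers g⁆ ≤ V

variable [Finite G] {p : ℕ} [hp : Fact p.Prime]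

/-- an element of `S`, cubic on `A`, acting quadratically on all chief factors inside the critical subgroup `A`, lies in
`O_p(G)` -/
theorem mem_pCore_of_quadratic_chief_nq {S : Subgroup G}
    (hc : Subgroup.centralizer ((pCore p G : Subgroup G) : Set G) ≤ pCore p G)
    (A : Subgroup G) [hAn : A.Normal] (hAT : A ≤ pCore p G)
    (hTA : ⁅pCore p G, A⁆ ≤ zOf A) (hCA : pCore p G ⊓ Subgroup.centralizer (A : Set G) ≤ zOf A)
    (hnq : NoQuadChief p S A)
    (g : G) (hgS : g ∈ S)
    (h1 : iterCommutator A (Subgroup.zpowers g) 3 ≤ zOf A)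
    (h2 : ⁅⁅zOf A, Subgroup.zpowers g⁆, Subgroup.zpowers g⁆ = ⊥)
    (hq : ∀ U V : Subgroup G, IsChiefFactor U V → U ≤ A →
      ⁅⁅U, Subgroup.zpowers g⁆, Subgroup.zpowers g⁆ ≤ V) : g ∈ pCore p G := by
  by_contra hgT
  have hTp : IsPGroup p (pCore p G) := Cfsg.Agent.Lib.Helper6.pCore_isPGroup p
  have h1' : ∀ U V : Subgroup G, IsChiefFactor U V → U ≤ A →
      iterCommutator U (Subgroup.zpowers g) 1 ≤ V := fun U V hch hUA =>
    hnq g hgS hgT h1 h2 U V hch hUA (hq U V hch hUA)
  have h2' := chief_engel_of_critical (pCore p G) hTp A hAT hTA hCA g 1 1 le_rfl h1'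
    (fun U V hch hUZ => h1' U V hch (hUZ.trans (zOf_le A)))
  exact hgT (mem_pCore_of_central_chief hc g (fun U V hch hUT => h2' U V hch hUT))

/-- the same for subgroups -/
theorem le_pCore_of_quadratic_chief_nq {S : Subgroup G}
    (hc : Subgroup.centralizer ((pCore p G : Subgroup G) : Set G) ≤ pCore p G)
    (A : Subgroup G) [hAn : A.Normal] (hAT : A ≤ pCore p G)
    (hTA : ⁅pCore p G, A⁆ ≤ zOf A) (hCA : pCore p G ⊓ Subgroup.centralizer (A : Set G) ≤ zOf A)
    (hnq : NoQuadChief p S A)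
    (B : Subgroup G) (hBS : B ≤ S)
    (h1 : ⁅⁅⁅A, B⁆, B⁆, B⁆ ≤ zOf A) (h2 : ⁅⁅zOf A, B⁆, B⁆ = ⊥)
    (hq : ∀ U V : Subgroup G, IsChiefFactor U V → U ≤ A → ⁅⁅U, B⁆, B⁆ ≤ V) :
    B ≤ pCore p G := by
  intro b hb
  have hz : Subgroup.zpowers b ≤ B := Subgroup.zpowers_le.mpr hb
  apply mem_pCore_of_quadratic_chief_nq hc A hAT hTA hCA hnq b (hBS hb)
  · exact (iterCommutator_mono le_rfl hz 3).trans h1
  · rw [eq_bot_iff, ← h2]
    exact Subgroup.commutator_mono (Subgroup.commutator_mono le_rfl hz) hz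
  · intro U V hch hUA
    exact (Subgroup.commutator_mono (Subgroup.commutator_mono le_rfl hz) hz).trans (hq U V hch hUA)

/-- subgroups acting quadratically on `A / Z(A)` and on `Z(A)` -/
theorem le_pCore_of_quadratic_two_step_nq {S : Subgroup G}
    (hc : Subgroup.centralizer ((pCore p G : Subgroup G) : Set G) ≤ pCore p G)
    (A : Subgroup G) [hAn : A.Normal] (hAT : A ≤ pCore p G)
    (hTA : ⁅pCore p G, A⁆ ≤ zOf A) (hCA : pCore p G ⊓ Subgroup.centralizer (A : Set G) ≤ zOf A)
    (hnq : NoQuadChief p S A)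
    (B : Subgroup G) (hBS : B ≤ S)
    (h1 : ⁅⁅A, B⁆, B⁆ ≤ zOf A) (h2 : ⁅⁅zOf A, B⁆, B⁆ = ⊥) : B ≤ pCore p G := by
  apply le_pCore_of_quadratic_chief_nq hc A hAT hTA hCA hnq B hBS ?_ h2
  · exact chief_engel_of_global A (zOf A) B 2 2 le_rfl h1 h2
  · exact (Subgroup.commutator_mono h1 le_rfl).trans (Subgroup.commutator_le_left (zOf A) B)

/-- subgroups acting quadratically on `A` -/
theorem le_pCore_of_quadratic_nq {S : Subgroup G}
    (hc : Subgroup.centralizer ((pCore p G : Subgroup G) : Set G) ≤ pCore p G)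
    (A : Subgroup G) [hAn : A.Normal] (hAT : A ≤ pCore p G)
    (hTA : ⁅pCore p G, A⁆ ≤ zOf A) (hCA : pCore p G ⊓ Subgroup.centralizer (A : Set G) ≤ zOf A)
    (hnq : NoQuadChief p S A)
    (B : Subgroup G) (hBS : B ≤ S) (hq : ⁅⁅A, B⁆, B⁆ = ⊥) : B ≤ pCore p G := by
  apply le_pCore_of_quadratic_two_step_nq hc A hAT hTA hCA hnq B hBS
  · rw [hq]; exact bot_le
  · rw [eq_bot_iff, ← hq]
    exact Subgroup.commutator_mono (Subgroup.commutator_mono (zOf_le A) le_rfl) le_rfl

/-- the test subgroups of the lower-star condition for `A` lie in `O_p(G)` -/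
theorem le_pCore_of_lower_test_nq {S : Subgroup G}
    (hc : Subgroup.centralizer ((pCore p G : Subgroup G) : Set G) ≤ pCore p G)
    (A : Subgroup G) [hAn : A.Normal] (hAT : A ≤ pCore p G)
    (hTA : ⁅pCore p G, A⁆ ≤ zOf A) (hCA : pCore p G ⊓ Subgroup.centralizer (A : Set G) ≤ zOf A)
    (hnq : NoQuadChief p S A)
    (A₁ : Subgroup G) (hA₁S : A₁ ≤ S) (hAA₁ : A ≤ Subgroup.normalizer (A₁ : Set G))
    (h1 : ⁅A, ⁅A₁, A₁⁆⁆ = ⊥) (h2 : ⁅⁅zOf A, A₁⁆, A₁⁆ = ⊥) : A₁ ≤ pCore p G := by
  apply le_pCore_of_quadratic_two_step_nq hc A hAT hTA hCA hnq A₁ hA₁S ?_ h2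
  have e1 : ⁅A, A₁⁆ ≤ A ⊓ A₁ :=
    le_inf (Subgroup.commutator_le_left A A₁) (commutator_le_of_le_normalizer hAA₁)
  have e2 : ⁅A ⊓ A₁, A₁⁆ ≤ A ⊓ ⁅A₁, A₁⁆ :=
    le_inf ((Subgroup.commutator_mono inf_le_left le_rfl).trans (Subgroup.commutator_le_left A A₁))
      (Subgroup.commutator_mono inf_le_right le_rfl)
  refine (Subgroup.commutator_mono e1 le_rfl).trans (e2.trans ?_)
  refine le_inf inf_le_left (inf_le_right.trans ?_)
  rw [Subgroup.commutator_comm, Subgroup.commutator_eq_bot_iff_le_centralizer] at h1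
  exact h1

/-- **lower-star members lie in `O_p(G)`**, for an odd prime -/
theorem le_pCore_of_lower_nq {S : Subgroup G} (hp2 : p ≠ 2)
    (hc : Subgroup.centralizer ((pCore p G : Subgroup G) : Set G) ≤ pCore p G)
    (A : Subgroup G) [hAn : A.Normal] (hAT : A ≤ pCore p G)
    (hA2 : ⁅A, A⁆ ≤ Subgroup.centralizer (A : Set G))
    (hTA : ⁅pCore p G, A⁆ ≤ zOf A) (hCA : pCore p G ⊓ Subgroup.centralizer (A : Set G) ≤ zOf A)
    (hnq : NoQuadChief p S A)
    (O B : Subgroup G) (hBS : B ≤ S) (hAO : A ≤ O) (hB : B ∈ kLowerStarFamily O) : B ≤ pCore p G := by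
  classical
  obtain ⟨hB2, hOB, hBt⟩ := hB
  have hTp : IsPGroup p (pCore p G) := Cfsg.Agent.Lib.Helper6.pCore_isPGroup p
  have hAB : A ≤ Subgroup.normalizer (B : Set G) := hAO.trans hOB
  -- the cubic conditions
  have hABB : ⁅A, B⁆ ≤ B := commutator_le_of_le_normalizer hAB
  have hcub1 : ⁅⁅⁅A, B⁆, B⁆, B⁆ ≤ zOf A := by
    have e2 : ⁅⁅⁅A, B⁆, B⁆, B⁆ ≤ ⁅⁅B, B⁆, B⁆ :=
      Subgroup.commutator_mono (Subgroup.commutator_mono hABB le_rfl) le_rfl
    rw [(mem_classTwo_iff B).mp hB2] at e2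
    exact e2.trans bot_le
  have hcub2 : ⁅⁅zOf A, B⁆, B⁆ = ⊥ := by
    have key := hBt (zOf A) (abelian_mem_classTwo _ (zOf_isMulCommutative A)) ((zOf_le A).trans hAO)
      (by rw [Subgroup.normalizer_eq_top]; exact le_top)
      (by rw [zOf_comm_eq_bot]; exact Subgroup.commutator_bot_right B)
      (by
        have e1 : ⁅B ⊓ Subgroup.centralizer (B : Set G), zOf A⁆ ≤ zOf A := Subgroup.commutator_le_right _ _
        rw [eq_bot_iff, ← zOf_comm_eq_bot A]
        exact Subgroup.commutator_mono e1 le_rfl)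
    change ⁅B, zOf A⁆ ≤ zOf B at key
    rw [eq_bot_iff, ← zOf_commutator_eq_bot B]
    apply Subgroup.commutator_mono _ le_rfl
    rw [Subgroup.commutator_comm]
    exact key
  -- step 1 : the centre of `B` lies in `O_p(G)`
  have hZT : zOf B ≤ pCore p G := by
    apply le_pCore_of_quadratic_nq hc A hAT hTA hCA hnq (zOf B) ((zOf_le B).trans hBS)
    have h1 : ⁅A, zOf B⁆ ≤ zOf B :=
      commutator_le_of_le_normalizer (hAB.trans (normalizer_le_normalizer_zOf B))
    rw [eq_bot_iff, ← zOf_comm_eq_bot B]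
    exact Subgroup.commutator_mono h1 le_rfl
  have hZX : ∀ X : Subgroup G, X ≤ A → ⁅⁅zOf B, X⁆, X⁆ = ⊥ := by
    intro X hXA
    rw [eq_bot_iff, ← zOf_commutator_eq_bot A]
    exact Subgroup.commutator_mono ((Subgroup.commutator_mono hZT hXA).trans hTA) hXA
  -- step 2 : the lower-star condition applied to normal subgroups of `A`
  have hQX : ∀ X : Subgroup G, X.Normal → X ≤ A → ⁅B, ⁅X, X⁆⁆ = ⊥ → ⁅⁅X, B⁆, B⁆ = ⊥ := by
    intro X hXn hXA hBX
    have hX2 : X ∈ classTwoSubgroups G := by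
      show ⁅X, X⁆ ≤ Subgroup.centralizer (X : Set G)
      exact (Subgroup.commutator_mono hXA hXA).trans (hA2.trans (Subgroup.centralizer_le hXA))
    have key := hBt X hX2 (hXA.trans hAO)
      (by rw [Subgroup.normalizer_eq_top_iff.mpr hXn]; exact le_top) hBX (hZX X hXA)
    change ⁅B, X⁆ ≤ zOf B at key
    rw [eq_bot_iff, ← zOf_commutator_eq_bot B]
    apply Subgroup.commutator_mono _ le_rfl
    rw [Subgroup.commutator_comm]
    exact key
  by_contra hBT
  obtain ⟨R, hRdef⟩ : ∃ R, R = Subgroup.normalClosure (B : Set G) := ⟨_, rfl⟩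
  haveI hRn : R.Normal := by rw [hRdef]; exact Subgroup.normalClosure_normal
  have hBR : B ≤ R := by rw [hRdef]; exact Subgroup.subset_normalClosure
  -- step 3 : `R` does not act unipotently on `A`
  have hA_not : ¬ ∃ k : ℕ, iterCommutator A R k = ⊥ := by
    rintro ⟨k, hk⟩
    apply hBT
    apply le_pCore_of_quadratic_chief_nq hc A hAT hTA hCA hnq B hBS hcub1 hcub2
    intro U V hch hUA
    haveI hVn : V.Normal := hch.2.2.1
    have h1 : ⁅U, R⁆ ≤ V := by
      apply chief_comm_le_of_unip hch k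
      refine le_trans ?_ (bot_le : (⊥ : Subgroup G) ≤ V)
      rw [← hk]
      exact iterCommutator_mono hUA le_rfl k
    exact (Subgroup.commutator_mono ((Subgroup.commutator_mono le_rfl hBR).trans h1) le_rfl).trans
      (Subgroup.commutator_le_left V B)
  -- step 4 : a minimal normal subgroup on which `R` does not act unipotently
  obtain ⟨X, Y, hch, hXA, hX_not, hXmin⟩ := exists_chief_min'
    (fun M : Subgroup G => ¬ ∃ k : ℕ, iterCommutator M R k = ⊥) A hA_not
    (by
      intro h; exact h ⟨0, rfl⟩)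
  haveI hXn : X.Normal := hch.2.1
  haveI hYn : Y.Normal := hch.2.2.1
  have hYX : Y < X := hch.1
  have hunip : ∀ M : Subgroup G, M.Normal → M < X → ∃ k : ℕ, iterCommutator M R k = ⊥ := by
    intro M hMn hMX
    by_contra h
    exact hXmin M hMn hMX h
  obtain ⟨k, hk⟩ := hunip Y hYn hYX
  have hleY : ∀ M : Subgroup G, M.Normal → M < X → M ≤ Y := by
    intro M hMn hMX
    haveI := hMn
    rcases hch.2.2.2 (M ⊔ Y) inferInstance le_sup_right (sup_le hMX.le hYX.le) with h | h
    · rw [← h]; exact le_sup_left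
    · exfalso
      obtain ⟨k₁, hk₁⟩ := hunip M hMn hMX
      apply hX_not
      refine ⟨k₁ + k, ?_⟩
      rw [← h]
      exact unip_sup hk₁ hk
  -- step 5
  have hXR : ⁅X, R⁆ = X := by
    by_contra hne
    have hlt : ⁅X, R⁆ < X := lt_of_le_of_ne (Subgroup.commutator_le_left X R) hne
    have hle := hleY _ inferInstance hlt
    apply hX_not
    refine ⟨1 + k, ?_⟩
    rw [iterCommutator_add, eq_bot_iff, ← hk]
    exact iterCommutator_mono hle le_rfl k
  have hXY : ⁅X, Y⁆ = ⊥ := comm_eq_bot_of_unip X Y R hXR k hk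
  have hXp : IsPGroup p X := hTp.to_le (hXA.trans hAT)
  -- step 6
  have hcontra : ⁅⁅X, B⁆, B⁆ ≤ Y → False := by
    intro hq
    have h1 : R ≤ centSection X Y := by
      rw [hRdef]
      apply Subgroup.normalClosure_le_normal
      intro b hb
      rw [SetLike.mem_coe, mem_centSection_iff_comm]
      intro x hx
      have hz : Subgroup.zpowers b ≤ B := Subgroup.zpowers_le.mpr hb
      have hXb : ⁅X, Subgroup.zpowers b⁆ ≤ Y := by
        by_cases hbT : b ∈ pCore p G
        · exact (Subgroup.commutator_mono le_rfl (Subgroup.zpowers_le.mpr hbT)).trans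
            (chief_commutator_le_of_isPGroup hch (pCore p G) hTp (hXA.trans hAT))
        · apply hnq b (hBS hb) hbT ((iterCommutator_mono le_rfl hz 3).trans hcub1) ?_ X Y hch hXA
            ((Subgroup.commutator_mono (Subgroup.commutator_mono le_rfl hz) hz).trans hq)
          rw [eq_bot_iff, ← hcub2]
          exact Subgroup.commutator_mono (Subgroup.commutator_mono le_rfl hz) hz
      exact hXb (Subgroup.commutator_mem_commutator hx (Subgroup.mem_zpowers b))
    have h2 : ⁅X, R⁆ ≤ Y := by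
      rw [Subgroup.commutator_le]
      intro x hx r hr
      exact (mem_centSection_iff_comm.mp (h1 hr)) x hx
    rw [hXR] at h2
    exact (not_le_of_gt hYX) h2
  have hX2 : ⁅X, X⁆ ≤ Subgroup.centralizer (X : Set G) :=
    (Subgroup.commutator_mono hXA hXA).trans (hA2.trans (Subgroup.centralizer_le hXA))
  have hZne : zOf X ≠ X := by
    intro h
    have h1 : ⁅X, X⁆ = ⊥ := by
      rw [Subgroup.commutator_eq_bot_iff_le_centralizer]
      rw [← h]; exact inf_le_right.trans (Subgroup.centralizer_le (by rw [h]))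
    apply hcontra
    rw [hQX X hXn hXA (by rw [h1]; exact Subgroup.commutator_bot_right B)]
    exact bot_le
  have hYZ : Y = zOf X := by
    apply le_antisymm
    · refine le_inf hYX.le ?_
      rw [← Subgroup.commutator_eq_bot_iff_le_centralizer, Subgroup.commutator_comm]
      exact hXY
    · exact hleY (zOf X) inferInstance (lt_of_le_of_ne (zOf_le X) hZne)
  -- step 7
  have h7 := derived_centralized_of_min_odd hp2 X Y R B hch hYZ hX2 hXp hRdef hB2
    (hXA.trans hAB) k hk
  apply hcontra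
  rw [hQX X hXn hXA (by
    rw [eq_bot_iff, ← h7, Subgroup.commutator_comm]
    exact Subgroup.commutator_mono le_rfl hBR)]
  exact bot_le

end Cfsg.Agent.Lib.Helper4
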