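import Mathlib
import Cfsg.Agent.Lib.Helper4.KQ2
import Cfsg.Agent.Lib.Helper4.PL1

set_option autoImplicit false
open scoped commutatorElement

/-! When a K-infinity subgroup of the Sylow subgroup `S` is not normal in the `p`-constrained group `G`, some element of
`S - O_p(G)` acts cubically on a critical subgroup `A` of `O_p(G)` and quadratically but nontrivially on a chief factor of `G`
inside `A`. -/

namespace Cfsg.Agent.Lib.Helper4

open Cfsg

universe u

section Two

variable {Q : Type*} [Group Q]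

/-- in a normal elementary abelian `2`-subgroup centralized by `γ ^ 2`, the element `γ` acts quadratically -/
theorem quadratic_of_sq_centralizes (Ub : Subgroup Q) [hUn : Ub.Normal] (γ : Q)
    (hexp : ∀ a ∈ Ub, a * a = 1) (hcomm : ∀ a ∈ Ub, ∀ b ∈ Ub, a * b = b * a)
    (hsq : ∀ a ∈ Ub, γ * (γ * a * γ⁻¹) * γ⁻¹ = a) :
    ⁅⁅Ub, Subgroup.zpowers γ⁆, Subgroup.zpowers γ⁆ = ⊥ := by
  rw [Subgroup.commutator_eq_bot_iff_le_centralizer, Subgroup.commutator_le]
  intro a ha z hz
  -- `⁅a, z⁆` commutes with `γ`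
  have hzγ : γ * z * γ⁻¹ = z := by
    obtain ⟨j, rfl⟩ := Subgroup.mem_zpowers_iff.mp hz
    have : Commute γ (γ ^ j) := (Commute.refl γ).zpow_right j
    rw [this.eq]; group
  obtain ⟨a₁, ha₁def⟩ : ∃ a₁, a₁ = γ * a * γ⁻¹ := ⟨_, rfl⟩
  have ha₁ : a₁ ∈ Ub := by rw [ha₁def]; exact hUn.conj_mem a ha γ
  obtain ⟨w, hwdef⟩ : ∃ w, w = a * a₁ := ⟨_, rfl⟩
  have hwγ : γ * w * γ⁻¹ = w := by
    rw [hwdef]
    have e : γ * (a * a₁) * γ⁻¹ = (γ * a * γ⁻¹) * (γ * a₁ * γ⁻¹) := by group
    rw [e, ← ha₁def]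
    have e2 : γ * a₁ * γ⁻¹ = a := by rw [ha₁def]; exact hsq a ha
    rw [e2]
    exact hcomm a₁ ha₁ a ha
  have hwz : z * w = w * z := by
    obtain ⟨j, rfl⟩ := Subgroup.mem_zpowers_iff.mp hz
    have h1 : Commute γ w := by
      show γ * w = w * γ
      calc γ * w = (γ * w * γ⁻¹) * γ := by group
        _ = w * γ := by rw [hwγ]
    exact (h1.zpow_left j).eq
  have hainv : a⁻¹ = a := by
    rw [inv_eq_iff_mul_eq_one]; exact hexp a ha
  have ha₁eq : a₁ = a⁻¹ * w := by rw [hwdef]; group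
  have hkey : γ * ⁅a, z⁆ * γ⁻¹ = ⁅a, z⁆ := by
    rw [conj_comm, ← ha₁def, hzγ]
    calc ⁅a₁, z⁆ = a₁ * z * a₁⁻¹ * z⁻¹ := commutatorElement_def _ _
      _ = a⁻¹ * (w * z) * w⁻¹ * a * z⁻¹ := by rw [ha₁eq]; group
      _ = a⁻¹ * (z * w) * w⁻¹ * a * z⁻¹ := by rw [hwz]
      _ = a⁻¹ * z * a * z⁻¹ := by group
      _ = a * z * a * z⁻¹ := by rw [hainv]
      _ = a * z * a⁻¹ * z⁻¹ := by rw [hainv]
      _ = ⁅a, z⁆ := (commutatorElement_def _ _).symm
  rw [Subgroup.mem_centralizer_iff]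
  intro h hh
  obtain ⟨j, rfl⟩ := Subgroup.mem_zpowers_iff.mp hh
  have h1 : Commute γ ⁅a, z⁆ := by
    show γ * ⁅a, z⁆ = ⁅a, z⁆ * γ
    calc γ * ⁅a, z⁆ = (γ * ⁅a, z⁆ * γ⁻¹) * γ := by group
      _ = ⁅a, z⁆ * γ := by rw [hkey]
  exact (h1.zpow_left j).eq

end Two

section Main

variable {G : Type u} [Group G] [Finite G] {p : ℕ} [hp : Fact p.Prime]

/-- for `p = 2`: an element whose square centralizes a chief factor acts quadratically on it -/
theorem quadratic_chief_of_sq_two (hp2 : p = 2) {U V : Subgroup G} (hch : IsChiefFactor U V)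
    (hU : IsPGroup p U) (g : G) (hsq : ⁅U, Subgroup.zpowers (g ^ 2)⁆ ≤ V) :
    ⁅⁅U, Subgroup.zpowers g⁆, Subgroup.zpowers g⁆ ≤ V := by
  haveI hUn : U.Normal := hch.2.1
  haveI hVn : V.Normal := hch.2.2.1
  obtain ⟨π, hπdef⟩ : ∃ π : G →* G ⧸ V, π = QuotientGroup.mk' V := ⟨_, rfl⟩
  have hπs : Function.Surjective π := by rw [hπdef]; exact QuotientGroup.mk'_surjective V
  have hker : π.ker = V := by rw [hπdef]; exact QuotientGroup.ker_mk' V
  have hπ1 : ∀ x : G, π x = 1 ↔ x ∈ V := by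
    intro x; rw [hπdef]; exact QuotientGroup.eq_one_iff x
  haveI hUbn : (U.map π).Normal := hUn.map π hπs
  have hUU : ⁅U, U⁆ ≤ V := chief_commutator_le_of_isPGroup hch U hU le_rfl
  have hpow := PL.chief_pow_mem hch hU
  have key : ⁅⁅U.map π, Subgroup.zpowers (π g)⁆, Subgroup.zpowers (π g)⁆ = ⊥ := by
    apply quadratic_of_sq_centralizes
    · rintro _ ⟨u, hu, rfl⟩
      rw [← map_mul, hπ1, ← pow_two]
      have := hpow u hu
      rwa [hp2] at this
    · rintro _ ⟨u, hu, rfl⟩ _ ⟨v, hv, rfl⟩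
      have h1 : π ⁅u, v⁆ = 1 := (hπ1 _).mpr (hUU (Subgroup.commutator_mem_commutator hu hv))
      rw [map_commutatorElement, commutatorElement_eq_one_iff_mul_comm] at h1
      exact h1
    · rintro _ ⟨u, hu, rfl⟩
      have h1 : π ⁅u, g ^ 2⁆ = 1 :=
        (hπ1 _).mpr (hsq (Subgroup.commutator_mem_commutator hu (Subgroup.mem_zpowers _)))
      rw [map_commutatorElement, commutatorElement_eq_one_iff_mul_comm, map_pow, pow_two] at h1
      calc π g * (π g * π u * (π g)⁻¹) * (π g)⁻¹ = ((π g * π g) * π u) * (π g * π g)⁻¹ := by group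
        _ = (π u * (π g * π g)) * (π g * π g)⁻¹ := by rw [h1]
        _ = π u := by group
  rw [← MonoidHom.map_zpowers, ← Subgroup.map_commutator, ← Subgroup.map_commutator,
    Subgroup.map_eq_bot_iff, hker] at key
  exact key

/-- for `p = 2` the hypothesis forces all cubic elements of `S` into `O_p(G)` -/
theorem noCubic_of_noQuadChief_two (hp2 : p = 2) (S : Sylow p G)
    (hc : Subgroup.centralizer ((pCore p G : Subgroup G) : Set G) ≤ pCore p G)
    (A : Subgroup G) [hAn : A.Normal] (hAT : A ≤ pCore p G)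
    (hTA : ⁅pCore p G, A⁆ ≤ zOf A) (hCA : pCore p G ⊓ Subgroup.centralizer (A : Set G) ≤ zOf A)
    (hnq : NoQuadChief p (S : Subgroup G) A) :
    ∀ g ∈ (S : Subgroup G), iterCommutator A (Subgroup.zpowers g) 3 ≤ zOf A →
      ⁅⁅zOf A, Subgroup.zpowers g⁆, Subgroup.zpowers g⁆ = ⊥ → g ∈ pCore p G := by
  have hTp : IsPGroup p (pCore p G) := Cfsg.Agent.Lib.Helper6.pCore_isPGroup p
  have key : ∀ n : ℕ, ∀ g ∈ (S : Subgroup G), iterCommutator A (Subgroup.zpowers g) 3 ≤ zOf A →
      ⁅⁅zOf A, Subgroup.zpowers g⁆, Subgroup.zpowers g⁆ = ⊥ → g ^ 2 ^ n ∈ pCore p G →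
      g ∈ pCore p G := by
    intro n
    induction n with
    | zero =>
      intro g _ _ _ h
      simpa using h
    | succ n ih =>
      intro g hgS h1 h2 h
      have hz : Subgroup.zpowers (g ^ 2) ≤ Subgroup.zpowers g :=
        Subgroup.zpowers_le.mpr (Subgroup.pow_mem _ (Subgroup.mem_zpowers g) 2)
      have hsqT : g ^ 2 ∈ pCore p G := by
        apply ih (g ^ 2) (Subgroup.pow_mem _ hgS 2)
        · exact (iterCommutator_mono le_rfl hz 3).trans h1
        · rw [eq_bot_iff, ← h2]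
          exact Subgroup.commutator_mono (Subgroup.commutator_mono le_rfl hz) hz
        · rw [← pow_mul, ← pow_succ']; exact h
      apply mem_pCore_of_quadratic_chief_nq hc A hAT hTA hCA hnq g hgS h1 h2
      intro U V hch hUA
      apply quadratic_chief_of_sq_two hp2 hch (hTp.to_le (hUA.trans hAT))
      exact (Subgroup.commutator_mono le_rfl (Subgroup.zpowers_le.mpr hsqT)).trans
        (chief_commutator_le_of_isPGroup hch (pCore p G) hTp (hUA.trans hAT))
  intro g hgS h1 h2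
  obtain ⟨n, hn⟩ := S.isPGroup' ⟨g, hgS⟩
  have hn' : g ^ p ^ n = 1 := congrArg Subtype.val hn
  apply key n g hgS h1 h2
  rw [← hp2, hn']
  exact Subgroup.one_mem _

/-- for odd `p`, the K-infinity subgroups of `S` are those of `O_p(G)` -/
theorem kInf_eq_of_noQuadChief_odd (hp2 : p ≠ 2)
    (hc : Subgroup.centralizer ((pCore p G : Subgroup G) : Set G) ≤ pCore p G) (S : Sylow p G)
    (A : Subgroup G) [hAn : A.Normal] (hAT : A ≤ pCore p G)
    (hA2 : ⁅A, A⁆ ≤ Subgroup.centralizer (A : Set G))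
    (hTA : ⁅pCore p G, A⁆ ≤ zOf A) (hCA : pCore p G ⊓ Subgroup.centralizer (A : Set G) ≤ zOf A)
    (hnq : NoQuadChief p (S : Subgroup G) A) :
    inducedFunctor kInfLower (S : Subgroup G) = inducedFunctor kInfLower (pCore p G) ∧
      inducedFunctor kInfUpper (S : Subgroup G) = inducedFunctor kInfUpper (pCore p G) := by
  have hTS : pCore p G ≤ (S : Subgroup G) := Cfsg.Agent.Lib.Helper6.pCore_le_sylow S
  have hA_S : A ≤ (S : Subgroup G) := hAT.trans hTS
  apply inducedFunctor_kInf_eq_of_kSeq_le _ _ hTS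
  obtain ⟨ι, hι⟩ : ∃ ι : ↥(S : Subgroup G) →* G, ι = (S : Subgroup G).subtype := ⟨_, rfl⟩
  have hinj : Function.Injective ι := by rw [hι]; exact Subgroup.subtype_injective _
  have hmapS : ∀ B : Subgroup ↥(S : Subgroup G), B.map ι ≤ (S : Subgroup G) := by
    intro B; rw [hι]; exact Subgroup.map_subtype_le B
  have hmapA : (A.subgroupOf (S : Subgroup G)).map ι = A := by
    rw [hι]; exact Subgroup.map_subgroupOf_eq_of_le hA_S
  have hmapT : ((pCore p G).subgroupOf (S : Subgroup G)).map ι = pCore p G := by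
    rw [hι]; exact Subgroup.map_subgroupOf_eq_of_le hTS
  have hleT : ∀ B : Subgroup ↥(S : Subgroup G), B.map ι ≤ pCore p G →
      B ≤ (pCore p G).subgroupOf (S : Subgroup G) := by
    intro B hB
    rw [← Subgroup.map_le_map_iff_of_injective hinj, hmapT]
    exact hB
  haveI hAn' : (A.subgroupOf (S : Subgroup G)).Normal := by
    rw [← Subgroup.normalizer_eq_top_iff, eq_top_iff]
    rw [← map_le_normalizer_map_iff ι hinj, hmapA]
    rw [Subgroup.normalizer_eq_top]; exact le_top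
  have hA2' : A.subgroupOf (S : Subgroup G) ∈ classTwoSubgroups ↥(S : Subgroup G) := by
    rw [← map_mem_classTwo_iff ι hinj, hmapA]
    exact hA2
  have hTA' : ⁅(pCore p G).subgroupOf (S : Subgroup G), A.subgroupOf (S : Subgroup G)⁆ ≤
      zOf (A.subgroupOf (S : Subgroup G)) := by
    rw [← map_le_zOf_map_iff ι hinj, Subgroup.map_commutator, hmapA, hmapT]
    exact hTA
  intro n
  refine (kSeq_le_of_tests hA2' hTA' ?_ ?_ ?_ n).2
  · intro A₁ hAA₁ h1 h2
    apply hleT
    apply le_pCore_of_lower_test_nq hc A hAT hTA hCA hnq (A₁.map ι) (hmapS A₁)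
    · have := (map_le_normalizer_map_iff ι hinj _ A₁).mpr hAA₁
      rw [hmapA] at this
      exact this
    · have := congrArg (Subgroup.map ι) h1
      rw [Subgroup.map_commutator, Subgroup.map_commutator, hmapA, Subgroup.map_bot] at this
      exact this
    · have := congrArg (Subgroup.map ι) h2
      rw [Subgroup.map_commutator, Subgroup.map_commutator, map_zOf ι hinj, hmapA, Subgroup.map_bot] at this
      exact this
  · intro B hq
    apply hleT
    apply le_pCore_of_quadratic_nq hc A hAT hTA hCA hnq (B.map ι) (hmapS B)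
    have := congrArg (Subgroup.map ι) hq
    rw [Subgroup.map_commutator, Subgroup.map_commutator, hmapA, Subgroup.map_bot] at this
    exact this
  · intro O B hAO hB
    apply hleT
    apply le_pCore_of_lower_nq hp2 hc A hAT hA2 hTA hCA hnq (O.map ι) (B.map ι) (hmapS B)
    · rw [← hmapA]; exact Subgroup.map_mono hAO
    · exact (map_mem_lower_iff ι hinj O B).mpr hB

/-- **the quadratic chief factor** -/
theorem exists_quadratic_chief (S : Sylow p G) (A : Subgroup G) [hAn : A.Normal] (hAT : A ≤ pCore p G)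
    (hA2 : ⁅A, A⁆ ≤ Subgroup.centralizer (A : Set G))
    (hTA : ⁅pCore p G, A⁆ ≤ zOf A) (hCA : pCore p G ⊓ Subgroup.centralizer (A : Set G) ≤ zOf A)
    (hK : ¬ (inducedFunctor kInfLower (S : Subgroup G)).Normal ∨
      ¬ (inducedFunctor kInfUpper (S : Subgroup G)).Normal) :
    ∃ g : G, g ∈ (S : Subgroup G) ∧ g ∉ pCore p G ∧
      iterCommutator A (Subgroup.zpowers g) 3 ≤ zOf A ∧
      ⁅⁅zOf A, Subgroup.zpowers g⁆, Subgroup.zpowers g⁆ = ⊥ ∧
      (Subgroup.centralizer ((pCore p G : Subgroup G) : Set G) ≤ pCore p G →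
        ∃ U V : Subgroup G, IsChiefFactor U V ∧ U ≤ A ∧
          ⁅⁅U, Subgroup.zpowers g⁆, Subgroup.zpowers g⁆ ≤ V ∧ ¬ ⁅U, Subgroup.zpowers g⁆ ≤ V) := by
  have hAS : (S : Subgroup G) ≤ Subgroup.normalizer (A : Set G) := by
    rw [Subgroup.normalizer_eq_top]; exact le_top
  by_cases hc : Subgroup.centralizer ((pCore p G : Subgroup G) : Set G) ≤ pCore p G
  · by_contra hno
    push Not at hno
    have hnq : NoQuadChief p (S : Subgroup G) A := by
      intro g hgS hgT h1 h2 U V hch hUA hq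
      by_contra hne
      exact hne ((hno g hgS hgT h1 h2).2 U V hch hUA hq)
    have hnormal : (inducedFunctor kInfLower (S : Subgroup G)).Normal ∧
        (inducedFunctor kInfUpper (S : Subgroup G)).Normal := by
      by_cases hp2 : p = 2
      · obtain ⟨e1, e2⟩ := kInf_eq_of_noCubic S A hAT hAS hA2 hTA
          (noCubic_of_noQuadChief_two hp2 S hc A hAT hTA hCA hnq)
        rw [e1, e2]
        exact ⟨inducedFunctor_pCore_normal (isCharPFunctor_kInfLower p),
          inducedFunctor_pCore_normal (isCharPFunctor_kInfUpper p)⟩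
      · obtain ⟨e1, e2⟩ := kInf_eq_of_noQuadChief_odd hp2 hc S A hAT hA2 hTA hCA hnq
        rw [e1, e2]
        exact ⟨inducedFunctor_pCore_normal (isCharPFunctor_kInfLower p),
          inducedFunctor_pCore_normal (isCharPFunctor_kInfUpper p)⟩
    rcases hK with hK | hK
    · exact hK hnormal.1
    · exact hK hnormal.2
  · obtain ⟨g, hgS, hgT, h1, h2⟩ := exists_cubic_of_not_normal S A hAT hAS hA2 hTA hK
    exact ⟨g, hgS, hgT, h1, h2, fun h => absurd h hc⟩

end Main

end Cfsg.Agent.Lib.Helper4
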