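import Mathlib
import Cfsg.Agent.Lib.Helper4.TransferCore2

set_option autoImplicit false
open Pointwise
open scoped commutatorElement

/-! The structure of a minimal failure of transfer control, second part: no element of `S` outside `O_p(X)`
satisfies the Engel condition `[U, u; p - 1] ≤ V` on all the chief factors `U / V` below `O_p(X)`. -/

namespace Cfsg.Agent.Lib.Helper4

open Cfsg Cfsg.Agent.Lib.Helper7 Cfsg.Agent.Lib.Lead

universe u

section
variable {𝓦 : Set (∀ (Q : Type u) [Group Q], Subgroup Q)}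
variable {X : Type u} [Group X] [Finite X] {p : ℕ} [hp : Fact p.Prime]

namespace MinFail

variable {S : Sylow p X} (h : MinFail 𝓦 S)
include h

theorem exists_chief_not_engel (u : X) (huS : u ∈ (S : Subgroup X)) (huQ : u ∉ pCore p X) :
    ∃ U V : Subgroup X, IsChiefFactor U V ∧ U ≤ pCore p X ∧
      ¬ iterCommutator U (Subgroup.zpowers u) (p - 1) ≤ V := by
  classical
  by_contra hE
  push Not at hE
  have hSp : IsPGroup p (S : Subgroup X) := S.isPGroup'
  have hQS : pCore p X ≤ (S : Subgroup X) := Cfsg.Agent.Lib.Helper6.pCore_le_sylow S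
  have hQn : (pCore p X).Normal := inferInstance
  have hQp : IsPGroup p (pCore p X) := Cfsg.Agent.Lib.Helper6.pCore_isPGroup p
  obtain ⟨T, hTdef⟩ : ∃ T, T = tcTarget 𝓦 (S : Subgroup X) := ⟨_, rfl⟩
  have hTS : T ≤ (S : Subgroup X) := by rw [hTdef]; exact tcTarget_le _
  have hSST : ⁅(S : Subgroup X), (S : Subgroup X)⁆ ≤ T := by rw [hTdef]; exact h.commutator_sylow_le
  have hQT : ¬ pCore p X ⊓ commutator X ≤ T := by rw [hTdef]; exact h.pCore_inf_commutator_not_le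
  obtain ⟨M, hMdef⟩ : ∃ M, M = Subgroup.normalizer ((tcTarget 𝓦 (S : Subgroup X) ⊓ pCore p X :
      Subgroup X) : Set X) := ⟨_, rfl⟩
  have hMne : M ≠ ⊤ := by rw [hMdef]; exact h.normalizer_ne_top
  have hSM : (S : Subgroup X) ≤ M := by
    rw [hMdef]; exact h.le_normalizer_of_ne_top _ le_rfl h.sylow_ne_top
  have hmax : ∀ H : Subgroup X, (S : Subgroup X) ≤ H → H ≠ ⊤ → H ≤ M := by
    rw [hMdef]; exact h.le_normalizer_of_ne_top
  have hMT : (S : Subgroup X) ⊓ ⁅M, M⁆ ≤ T := by rw [hTdef]; exact h.overgroup M hMne hSM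
  -- the chief factor
  obtain ⟨X₁, Y₁, hch, hX₁Q', hX₁T, hY₁T⟩ := exists_chief_not_le (pCore p X ⊓ commutator X) T hQT
  have hX₁n : X₁.Normal := hch.2.1
  have hY₁n : Y₁.Normal := hch.2.2.1
  have hYX : Y₁ ≤ X₁ := hch.1.le
  have hX₁Q : X₁ ≤ pCore p X := hX₁Q'.trans inf_le_left
  have hX₁c : X₁ ≤ commutator X := hX₁Q'.trans inf_le_right
  have hX₁S : X₁ ≤ (S : Subgroup X) := hX₁Q.trans hQS
  have hX₁p : IsPGroup p X₁ := hQp.to_le hX₁Q
  have hpow := pow_mem_of_isChiefFactor hch hX₁p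
  have hEng : ∀ g : X, iterCommutator X₁ (Subgroup.zpowers (g * u * g⁻¹)) (p - 1) ≤ Y₁ :=
    fun g => iterCommutator_conj_le u g _ (hE X₁ Y₁ hch hX₁Q)
  apply hX₁T
  intro z hz
  -- the transfer into `S / T`
  obtain ⟨A, _, φ, hφ⟩ := exists_hom_ker_eq (S : Subgroup X) T hSST
  have hzt : ∀ t : X, t⁻¹ * z * t ∈ (S : Subgroup X) := fun t => hX₁S (hX₁n.conj_mem' z hz t)
  have hzS : z ∈ (S : Subgroup X) := hX₁S hz
  have hV1 : MonoidHom.transfer φ z = 1 :=
    (Abelianization.commutator_subset_ker (MonoidHom.transfer φ)) (hX₁c hz)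
  letI : Fintype (X ⧸ (S : Subgroup X)) := (S : Subgroup X).fintypeQuotientOfFiniteIndex
  have hV2 : MonoidHom.transfer φ z = ∏ q : X ⧸ (S : Subgroup X), φ ⟨q.out⁻¹ * z * q.out, hzt _⟩ :=
    transfer_eq_prod_of_fixes φ z hzt
  obtain ⟨f, hfdef⟩ : ∃ f : X ⧸ (S : Subgroup X) → A,
      f = fun q => φ ⟨q.out⁻¹ * z * q.out, hzt _⟩ := ⟨_, rfl⟩
  have hφcongr : ∀ (a b : X), a = b → φ ⟨a⁻¹ * z * a, hzt a⟩ = φ ⟨b⁻¹ * z * b, hzt b⟩ := by
    intro a b hab; subst hab; rfl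
  have hf_mk : ∀ t : X, f (t : X ⧸ (S : Subgroup X)) = φ ⟨t⁻¹ * z * t, hzt t⟩ := by
    intro t
    obtain ⟨s, hs⟩ := QuotientGroup.mk_out_eq_mul (S : Subgroup X) t
    rw [hfdef]
    show φ ⟨(t : X ⧸ (S : Subgroup X)).out⁻¹ * z * (t : X ⧸ (S : Subgroup X)).out, hzt _⟩ = _
    rw [hφcongr _ _ hs]
    have e : (⟨(t * (s : X))⁻¹ * z * (t * (s : X)), hzt _⟩ : ↥(S : Subgroup X))
        = s⁻¹ * ⟨t⁻¹ * z * t, hzt t⟩ * s := by
      apply Subtype.ext
      simp only [Subgroup.coe_mul, Subgroup.coe_inv]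
      group
    rw [e, map_mul, map_mul, map_inv, mul_comm, ← mul_assoc, mul_inv_cancel, one_mul]
  obtain ⟨c, hcdef⟩ : ∃ c : A, c = φ ⟨z, hzS⟩ := ⟨_, rfl⟩
  have hcp : c ^ p = 1 := by
    rw [hcdef, ← map_pow, hφ]
    rw [Subgroup.coe_pow]
    exact hY₁T (hpow z hz)
  -- the conjugates of `u` in `S`
  obtain ⟨𝒰, h𝒰def⟩ : ∃ 𝒰 : Set X, 𝒰 = {u' | u' ∈ (S : Subgroup X) ∧ ∃ g : X, u' = g * u * g⁻¹} :=
    ⟨_, rfl⟩
  have hu𝒰 : u ∈ 𝒰 := by
    rw [h𝒰def]; exact ⟨huS, 1, by group⟩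
  have h𝒰S : 𝒰 ⊆ (S : Subgroup X) := by
    intro u' hu'; rw [h𝒰def] at hu'; exact hu'.1
  have hPS : Subgroup.closure 𝒰 ≤ (S : Subgroup X) := (Subgroup.closure_le _).mpr h𝒰S
  have hPp : IsPGroup p ↥(Subgroup.closure 𝒰) := hSp.to_le hPS
  have hconj𝒰 : ∀ (x u' : X), u' ∈ 𝒰 → x * u' * x⁻¹ ∈ (S : Subgroup X) → x * u' * x⁻¹ ∈ 𝒰 := by
    intro x u' hu' hx
    rw [h𝒰def] at hu' ⊢
    obtain ⟨_, g, rfl⟩ := hu'
    exact ⟨hx, x * g, by group⟩
  have hcjP : ∀ x : X, (∀ u' ∈ 𝒰, x * u' * x⁻¹ ∈ (S : Subgroup X)) →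
      x ∈ Subgroup.normalizer ((Subgroup.closure 𝒰 : Subgroup X) : Set X) := by
    intro x hx
    rw [mem_normalizer_iff_cj]
    apply cj_eq_of_le
    show (Subgroup.closure 𝒰).map (MulAut.conj x).toMonoidHom ≤ Subgroup.closure 𝒰
    rw [Subgroup.map_le_iff_le_comap, Subgroup.closure_le]
    intro u' hu'
    show (MulAut.conj x) u' ∈ Subgroup.closure 𝒰
    rw [MulAut.conj_apply]
    exact Subgroup.subset_closure (hconj𝒰 x u' hu' (hx u' hu'))
  have hNPne : Subgroup.normalizer ((Subgroup.closure 𝒰 : Subgroup X) : Set X) ≠ ⊤ := by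
    intro htop
    apply huQ
    have hPn : (Subgroup.closure 𝒰).Normal := Subgroup.normalizer_eq_top_iff.mp htop
    exact Cfsg.Agent.Lib.Helper6.le_pCore hPn hPp (Subgroup.subset_closure hu𝒰)
  have hSNP : (S : Subgroup X) ≤ Subgroup.normalizer ((Subgroup.closure 𝒰 : Subgroup X) : Set X) := by
    intro s hs
    apply hcjP
    intro u' hu'
    exact Subgroup.mul_mem _ (Subgroup.mul_mem _ hs (h𝒰S hu')) (Subgroup.inv_mem _ hs)
  have hNPM : Subgroup.normalizer ((Subgroup.closure 𝒰 : Subgroup X) : Set X) ≤ M := hmax _ hSNP hNPne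
  have hQM : ∀ t ∈ M, ∀ y ∈ pCore p X, y⁻¹ * (t⁻¹ * y * t) ∈ T := by
    intro t ht y hy
    apply hMT
    refine ⟨hQS (Subgroup.mul_mem _ (Subgroup.inv_mem _ hy) (hQn.conj_mem' y hy t)), ?_⟩
    have e : y⁻¹ * (t⁻¹ * y * t) = ⁅y⁻¹, t⁻¹⁆ := by rw [commutatorElement_def]; group
    rw [e]
    exact Subgroup.commutator_mem_commutator (Subgroup.inv_mem _ (hSM (hQS hy))) (Subgroup.inv_mem _ ht)
  -- the product over the cosets
  have hprod : ∏ q : X ⧸ (S : Subgroup X), f q * c⁻¹ = 1 := by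
    apply prod_eq_one_of_pgroup_action' (fun q => f q * c⁻¹) 𝒰 hPp
    · intro u' hu' q
      induction q using QuotientGroup.induction_on with
      | H t =>
        rw [Finset.prod_mul_distrib, Finset.prod_const, Finset.card_range, inv_pow, hcp, inv_one, mul_one]
        have hu'' := hu'
        rw [h𝒰def] at hu''
        obtain ⟨_, g, hg⟩ := hu''
        have hEng' : iterCommutator X₁ (Subgroup.zpowers u') (p - 1) ≤ Y₁ := by rw [hg]; exact hEng g
        let θ : ↥X₁ →* A := φ.comp ((Subgroup.inclusion hX₁S).comp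
          (MulAut.conjNormal t⁻¹ : MulAut ↥X₁).toMonoidHom)
        have hθ : ∀ y : ↥X₁, (y : X) ∈ Y₁ → θ y = 1 := by
          intro y hy
          show φ (Subgroup.inclusion hX₁S ((MulAut.conjNormal t⁻¹ : MulAut ↥X₁) y)) = 1
          rw [hφ]
          apply hY₁T
          show (((MulAut.conjNormal t⁻¹ : MulAut ↥X₁) y : ↥X₁) : X) ∈ Y₁
          rw [MulAut.conjNormal_apply]
          exact hY₁n.conj_mem _ hy _
        have h1 := prod_conj_eq_one X₁ Y₁ hpow u' hEng' θ hθ ⟨z, hz⟩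
        rw [← h1]
        apply Finset.prod_congr rfl
        intro j _
        show f ((u' ^ j * t : X) : X ⧸ (S : Subgroup X)) = _
        rw [hf_mk]
        show _ = φ (Subgroup.inclusion hX₁S ((MulAut.conjNormal t⁻¹ : MulAut ↥X₁)
          (((MulAut.conjNormal u'⁻¹ : MulAut ↥X₁) ^ j) ⟨z, hz⟩)))
        congr 1
        apply Subtype.ext
        show (u' ^ j * t)⁻¹ * z * (u' ^ j * t) = (((MulAut.conjNormal t⁻¹ : MulAut ↥X₁)
          (((MulAut.conjNormal u'⁻¹ : MulAut ↥X₁) ^ j) ⟨z, hz⟩) : ↥X₁) : X)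
        rw [MulAut.conjNormal_apply, ← map_pow, MulAut.conjNormal_apply]
        simp only [inv_pow, inv_inv, mul_inv_rev, mul_assoc]
    · intro q hq
      induction q using QuotientGroup.induction_on with
      | H t =>
        have ht : t ∈ M := by
          apply hNPM
          have h1 : t⁻¹ ∈ Subgroup.normalizer ((Subgroup.closure 𝒰 : Subgroup X) : Set X) := by
            apply hcjP
            intro u' hu'
            have h2 := hq u' hu'
            have h3 : ((u' * t : X) : X ⧸ (S : Subgroup X)) = (t : X ⧸ (S : Subgroup X)) := h2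
            rw [QuotientGroup.eq] at h3
            have h4 := Subgroup.inv_mem _ h3
            have e : ((u' * t)⁻¹ * t)⁻¹ = t⁻¹ * u' * t⁻¹⁻¹ := by group
            rw [e] at h4
            exact h4
          have := Subgroup.inv_mem _ h1
          rwa [inv_inv] at this
        show f (t : X ⧸ (S : Subgroup X)) * c⁻¹ = 1
        rw [hf_mk, hcdef, mul_inv_eq_one]
        have h5 := hQM t ht z (hX₁Q hz)
        have h6 : φ ((⟨z, hzS⟩ : ↥(S : Subgroup X))⁻¹ * ⟨t⁻¹ * z * t, hzt t⟩) = 1 := by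
          rw [hφ]; exact h5
        rw [map_mul, map_inv, inv_mul_eq_one] at h6
        exact h6.symm
  rw [Finset.prod_mul_distrib, Finset.prod_const, Finset.card_univ] at hprod
  have hfprod : ∏ q : X ⧸ (S : Subgroup X), f q = 1 := by
    rw [hfdef, ← hV2, hV1]
  rw [hfprod, one_mul, inv_pow, inv_eq_one] at hprod
  have hidx : Fintype.card (X ⧸ (S : Subgroup X)) = (S : Subgroup X).index := by
    rw [Subgroup.index_eq_card, Nat.card_eq_fintype_card]
  rw [hidx, hcdef, ← map_pow, hφ, Subgroup.coe_pow] at hprod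
  have hcop : ((S : Subgroup X).index).Coprime (orderOf z) := by
    obtain ⟨j, hj⟩ := (IsPGroup.iff_orderOf.mp S.2) ⟨z, hzS⟩
    have hj' : orderOf z = p ^ j := by
      rw [← hj]; exact (Subgroup.orderOf_mk z hzS).symm
    rw [hj']
    apply Nat.Coprime.pow_right
    exact ((Nat.Prime.coprime_iff_not_dvd hp.out).mpr S.not_dvd_index).symm
  obtain ⟨m, hm⟩ := exists_pow_eq_self_of_coprime hcop
  rw [← hm]
  exact T.pow_mem hprod m

end MinFail

end

end Cfsg.Agent.Lib.Helper4
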