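import Mathlib
import Cfsg.Agent.Lib.Helper4.TransferCore3

set_option autoImplicit false
open Pointwise
open scoped commutatorElement

/-! Minimal failures of transfer control: passage between the definitions and the inclusion
`S ∩ X' ≤ ⟨S ∩ N(W(S))' : W ∈ 𝓦⟩`, transport along isomorphisms, and the remaining structure statements. -/

namespace Cfsg.Agent.Lib.Helper4

open Cfsg Cfsg.Agent.Lib.Helper7 Cfsg.Agent.Lib.Lead

universe u

section
variable {𝓦 : Set (∀ (Q : Type u) [Group Q], Subgroup Q)}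
variable {X : Type u} [Group X] [Finite X] {p : ℕ} [hp : Fact p.Prime]

/-- control of transfer gives the inclusion for every Sylow subgroup -/
theorem tc_of_fct (h𝓦 : ∀ W ∈ 𝓦, IsCharPFunctor.{u} p W)
    (hc : FamilyControlsTransferIn p (indFam 𝓦 X) ⊤) (T : Sylow p X) :
    (T : Subgroup X) ⊓ commutator X ≤ tcTarget 𝓦 (T : Subgroup X) := by
  have hidx : ¬ p ∣ (T : Subgroup X).relIndex ⊤ := by
    rw [Subgroup.relIndex_top_right]; exact T.not_dvd_index
  have h2 := fctWith_of_controls (indFam_isConjugacyFunctor h𝓦) hc (le_top : (T : Subgroup X) ≤ ⊤)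
    T.isPGroup' hidx
  rw [tcTarget_eq_iSup_indFam, ← h2, commutator_def]

/-- the inclusion for one Sylow subgroup gives control of transfer -/
theorem fct_of_tc (T : Sylow p X)
    (h : (T : Subgroup X) ⊓ commutator X ≤ tcTarget 𝓦 (T : Subgroup X)) :
    FamilyControlsTransferIn p (indFam 𝓦 X) ⊤ := by
  refine ⟨(T : Subgroup X), le_top, T.isPGroup', ?_, ?_⟩
  · rw [Subgroup.relIndex_top_right]; exact T.not_dvd_index
  · rw [← tcTarget_eq_iSup_indFam, ← commutator_def]
    apply le_antisymm h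
    exact le_inf (tcTarget_le _) (tcTarget_le_commutator _)

/-- the inclusion is isomorphism invariant -/
theorem tc_of_mulEquiv (h𝓦 : ∀ W ∈ 𝓦, IsCharPFunctor.{u} p W) {Y Z : Type u} [Group Y] [Group Z]
    [Finite Y] [Finite Z] (e : Y ≃* Z)
    (hZ : ∀ T : Sylow p Z, (T : Subgroup Z) ⊓ commutator Z ≤ tcTarget 𝓦 (T : Subgroup Z)) :
    ∀ T : Sylow p Y, (T : Subgroup Y) ⊓ commutator Y ≤ tcTarget 𝓦 (T : Subgroup Y) := by
  intro T
  have hsurj : Function.Surjective e.toMonoidHom := e.surjective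
  have h1 := hZ (T.mapSurjective hsurj)
  rw [Sylow.coe_mapSurjective] at h1
  have h2 := tcTarget_map_le h𝓦 e.symm.toMonoidHom e.symm.injective
    ((T : Subgroup Y).map e.toMonoidHom) (T.2.map _)
  have h3 : ((T : Subgroup Y).map e.toMonoidHom).map e.symm.toMonoidHom = (T : Subgroup Y) := by
    rw [Subgroup.map_map]
    have : e.symm.toMonoidHom.comp e.toMonoidHom = MonoidHom.id Y := by
      ext x; simp
    rw [this, Subgroup.map_id]
  rw [h3] at h2
  rintro z ⟨hzT, hzc⟩
  have h4 : e.toMonoidHom z ∈ (T : Subgroup Y).map e.toMonoidHom ⊓ commutator Z := by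
    refine ⟨⟨z, hzT, rfl⟩, ?_⟩
    have : (commutator Y).map e.toMonoidHom ≤ commutator Z := by
      rw [commutator_def, Subgroup.map_commutator, commutator_def]
      exact Subgroup.commutator_mono le_top le_top
    exact this ⟨z, hzc, rfl⟩
  have h5 := h2 ⟨_, h1 h4, rfl⟩
  simpa using h5

namespace MinFail

variable {S : Sylow p X} (h : MinFail 𝓦 S)
include h

theorem commutator_pCore_normalizer_le :
    ⁅pCore p X, Subgroup.normalizer ((tcTarget 𝓦 (S : Subgroup X) ⊓ pCore p X : Subgroup X) : Set X)⁆ ≤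
      pCore p X ⊓ ⁅Subgroup.normalizer ((tcTarget 𝓦 (S : Subgroup X) ⊓ pCore p X : Subgroup X) : Set X),
        Subgroup.normalizer ((tcTarget 𝓦 (S : Subgroup X) ⊓ pCore p X : Subgroup X) : Set X)⁆ := by
  have hQS : pCore p X ≤ (S : Subgroup X) := Cfsg.Agent.Lib.Helper6.pCore_le_sylow S
  have hSM := h.le_normalizer_of_ne_top _ le_rfl h.sylow_ne_top
  exact le_inf (Subgroup.commutator_le_left _ _) (Subgroup.commutator_mono (hQS.trans hSM) le_rfl)

theorem pCore_inf_commutator_normalizer_le :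
    pCore p X ⊓ ⁅Subgroup.normalizer ((tcTarget 𝓦 (S : Subgroup X) ⊓ pCore p X : Subgroup X) : Set X),
        Subgroup.normalizer ((tcTarget 𝓦 (S : Subgroup X) ⊓ pCore p X : Subgroup X) : Set X)⁆ ≤
      pCore p X ⊓ tcTarget 𝓦 (S : Subgroup X) := by
  have hQS : pCore p X ≤ (S : Subgroup X) := Cfsg.Agent.Lib.Helper6.pCore_le_sylow S
  have hSM := h.le_normalizer_of_ne_top _ le_rfl h.sylow_ne_top
  exact le_inf inf_le_left ((inf_le_inf_right _ hQS).trans (h.overgroup _ h.normalizer_ne_top hSM))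

end MinFail

end

section
variable {𝓦 : Set (∀ (Q : Type u) [Group Q], Subgroup Q)}
variable {G : Type u} [Group G] [Finite G] {p : ℕ} [hp : Fact p.Prime]

/-- control of transfer in all sections `K / R` other than `G / 1` gives the inclusion in all abstract sections
of smaller order -/
theorem tc_of_fct_sections (h𝓦 : ∀ W ∈ 𝓦, IsCharPFunctor.{u} p W)
    (hsec : ∀ (K R : Subgroup G) [hR : (R.subgroupOf K).Normal], (K = ⊤ → R ≠ ⊥) →
      FamilyControlsTransferIn p (indFam 𝓦 (↥K ⧸ R.subgroupOf K)) ⊤)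
    (Y : Type u) [Group Y] [Finite Y] (hY : IsSectionOf G Y) (hcard : Nat.card Y < Nat.card G) :
    ∀ T : Sylow p Y, (T : Subgroup Y) ⊓ commutator Y ≤ tcTarget 𝓦 (T : Subgroup Y) := by
  obtain ⟨K, R, hR, ⟨e⟩⟩ := hY.exists_equiv
  have hKR : K = ⊤ → R ≠ ⊥ := by
    intro hK hRbot
    have h1 : Nat.card Y = Nat.card G := by
      rw [Nat.card_congr e.toEquiv, ← Subgroup.index_eq_card]
      show R.relIndex K = _
      rw [hK, hRbot, Subgroup.relIndex_top_right, Subgroup.index_bot]
    omega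
  have h2 := hsec K R hKR
  exact tc_of_mulEquiv h𝓦 e (fun T => tc_of_fct h𝓦 h2 T)

end

end Cfsg.Agent.Lib.Helper4
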