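import Mathlib
import Cfsg.Agent.Lib.Helper4.KCritical
import Cfsg.Agent.Lib.Helper4.TransferSect1
import Cfsg.Agent.S1972

set_option autoImplicit false

/-! The K-infinity functors control transfer in every section, for `p ≥ 5`. -/

namespace Cfsg.Agent.Lib.Helper4

open Cfsg

universe u

variable {G : Type u} [Group G] [Finite G] {p : ℕ} [Fact p.Prime]

theorem kInfLower_ct_sections (hp : 5 ≤ p) (K R : Subgroup G) [hR : (R.subgroupOf K).Normal] :
    ControlsTransferIn p (inducedFunctor (G := (↥K ⧸ R.subgroupOf K)) kInfLower) ⊤ := by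
  have hW := isCharPFunctor_kInfLower.{u} p
  exact Cfsg.Agent.S1972.result (G := G) (p := p) kInfLower hW (by
    intro K R hR _ T hn
    obtain ⟨g, hgT, hgQ, hE, -⟩ := exists_quartic_of_not_normal T (Or.inl hn)
    refine ⟨g, hgT, hgQ, ?_⟩
    intro U V hch hU
    haveI : U.Normal := hch.2.1
    refine le_trans (iterCommutator_antitone U _ ?_) (hE U V hch hU)
    omega) K R

theorem kInfUpper_ct_sections (hp : 5 ≤ p) (K R : Subgroup G) [hR : (R.subgroupOf K).Normal] :
    ControlsTransferIn p (inducedFunctor (G := (↥K ⧸ R.subgroupOf K)) kInfUpper) ⊤ := by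
  have hW := isCharPFunctor_kInfUpper.{u} p
  exact Cfsg.Agent.S1972.result (G := G) (p := p) kInfUpper hW (by
    intro K R hR _ T hn
    obtain ⟨g, hgT, hgQ, hE, -⟩ := exists_quartic_of_not_normal T (Or.inr hn)
    refine ⟨g, hgT, hgQ, ?_⟩
    intro U V hch hU
    haveI : U.Normal := hch.2.1
    refine le_trans (iterCommutator_antitone U _ ?_) (hE U V hch hU)
    omega) K R

theorem kInfUpper_ct (hp : 5 ≤ p) : ControlsTransferIn p (inducedFunctor (G := G) kInfUpper) ⊤ := by
  obtain ⟨K, R, hR, ⟨e⟩⟩ := (IsSectionOf.refl G).exists_equiv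
  haveI := hR
  exact ct_top_of_mulEquiv (isCharPFunctor_kInfUpper.{u} p) e.symm (kInfUpper_ct_sections hp K R)

theorem kInfLower_ct (hp : 5 ≤ p) : ControlsTransferIn p (inducedFunctor (G := G) kInfLower) ⊤ := by
  obtain ⟨K, R, hR, ⟨e⟩⟩ := (IsSectionOf.refl G).exists_equiv
  haveI := hR
  exact ct_top_of_mulEquiv (isCharPFunctor_kInfLower.{u} p) e.symm (kInfLower_ct_sections hp K R)

end Cfsg.Agent.Lib.Helper4
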