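import Mathlib
import Cfsg.Prelude.Def_Characters
import Cfsg.Agent.Lib.Helper4.KW2

set_option autoImplicit false
set_option linter.unusedSectionVars false
set_option linter.style.haveILetI false

/-! The set-up `L = K ⋊ W₁`: induction of characters of `K`. -/

namespace Cfsg.Agent.Lib.Helper4.KW

open Cfsg Cfsg.Agent.Lib.Helper1 Cfsg.Agent.Lib.Helper4 Cfsg.Agent.Lib.Lead
open Cfsg.Agent.S0193 Cfsg.Agent.S0194
open scoped ComplexConjugate

variable {L : Type*} [Group L] [Fintype L] {K W₁ W₂ : Subgroup L} [hK : K.Normal]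

/-- a moved character induces irreducibly -/
theorem Setup.induced_irr (S : Setup K W₁ W₂) {θ : K → ℂ} (hθ : Cfsg.IsIrrCharacter K θ)
    (hmoved : ∃ x ∈ W₁, conjFun K θ x ≠ θ) : Cfsg.IsIrrCharacter L (Cfsg.indFun K θ) := by
  classical
  obtain ⟨x₀, hx₀, hx₀θ⟩ := hmoved
  have hT : K = inertia K θ := by
    apply le_antisymm
    · exact le_inertia K (isClassFunction_irr hθ)
    · intro g hg
      obtain ⟨k, hk, w, hw, rfl⟩ := S.exists_mul g
      have hkT : k ∈ inertia K θ := le_inertia K (isClassFunction_irr hθ) hk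
      have hwT : w ∈ inertia K θ := by
        have := (inertia K θ).mul_mem ((inertia K θ).inv_mem hkT) hg
        simpa using this
      by_cases hw1 : w = 1
      · rw [hw1, mul_one]; exact hk
      · exact absurd (S.invariant_of_fixed hθ hw hw1 hwT x₀ hx₀) hx₀θ
  obtain ⟨e, C, he0, hCirr, hcard, hInd, -⟩ := induced_abelian_inertia K θ hθ K hT
    (fun x hx y hy => K.mul_mem (K.mul_mem (K.mul_mem hx hy) (K.inv_mem hx)) (K.inv_mem hy))
  have hKpos : 0 < Nat.card K := Nat.card_pos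
  have h1 : e ^ 2 * C.card = 1 := by
    have : e ^ 2 * C.card * Nat.card K = 1 * Nat.card K := by rw [hcard, one_mul]
    exact Nat.eq_of_mul_eq_mul_right hKpos this
  have he1 : e = 1 := by
    have := Nat.eq_one_of_mul_eq_one_right h1
    exact Nat.eq_one_of_mul_eq_one_right (by rw [← sq]; exact this)
  have hC1 : C.card = 1 := Nat.eq_one_of_mul_eq_one_left h1
  obtain ⟨χ, hχ⟩ := Finset.card_eq_one.mp hC1
  rw [hInd, he1, hχ, Finset.sum_singleton, Nat.cast_one, one_smul]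
  exact hCirr χ (by rw [hχ]; exact Finset.mem_singleton_self χ)

/-- an invariant character induces to a sum of `|W₁|` distinct irreducible characters -/
theorem Setup.induced_invariant (S : Setup K W₁ W₂) {θ : K → ℂ} (hθ : Cfsg.IsIrrCharacter K θ)
    (hinv : ∀ x ∈ W₁, conjFun K θ x = θ) :
    ∃ C : Finset (L → ℂ), C.card = Nat.card W₁ ∧ (∀ μ ∈ C, Cfsg.IsIrrCharacter L μ) ∧
      Cfsg.indFun K θ = ∑ μ ∈ C, μ := by
  classical
  have hT : (⊤ : Subgroup L) = inertia K θ := by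
    apply le_antisymm _ le_top
    intro g _
    obtain ⟨k, hk, w, hw, rfl⟩ := S.exists_mul g
    exact (inertia K θ).mul_mem (le_inertia K (isClassFunction_irr hθ) hk) (hinv w hw)
  obtain ⟨e, C, he0, hCirr, hcard, hInd, -⟩ := induced_abelian_inertia K θ hθ ⊤ hT
    (fun x _ y _ => S.commutator_mem x y)
  have hKpos : 0 < Nat.card K := Nat.card_pos
  have h1 : e ^ 2 * C.card = Nat.card W₁ := by
    have : e ^ 2 * C.card * Nat.card K = Nat.card W₁ * Nat.card K := by
      rw [hcard, Subgroup.card_top, S.card, mul_comm]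
    exact Nat.eq_of_mul_eq_mul_right hKpos this
  -- uniform multiplicity
  have hgal : ∀ ψ : L → ℂ, Cfsg.IsIrrCharacter L ψ →
      Cfsg.classInner (Cfsg.indFun K θ) ψ ≠ 0 → Cfsg.classInner (Cfsg.indFun K θ) ψ = e := by
    intro ψ hψ hne
    rw [hInd, classInner_smul_left, classInner_sum_left] at hne ⊢
    have h2 : ∀ χ ∈ C, Cfsg.classInner χ ψ = if χ = ψ then 1 else 0 :=
      fun χ hχ => classInner_irr (hCirr χ hχ) hψ
    rw [Finset.sum_congr rfl h2] at hne ⊢
    rw [Finset.sum_ite_eq' C ψ] at hne ⊢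
    by_cases hmem : ψ ∈ C
    · rw [if_pos hmem, mul_one]
    · rw [if_neg hmem, mul_zero] at hne
      exact absurd rfl hne
  obtain ⟨d, hd, hdK⟩ := Cfsg.Agent.S0185.irr_degree_dvd hθ
  have hed : e ∣ d := uniform_mult_dvd_degree K θ hθ e hgal W₁ (by rw [inf_comm]; exact S.disj)
    (by rw [S.card, mul_comm]) d hd
  have heW : e ∣ Nat.card W₁ := by
    rw [← h1]
    exact dvd_mul_of_dvd_left (dvd_pow_self e two_ne_zero) _
  have he1 : e = 1 := Nat.eq_one_of_dvd_coprimes S.coprime heW (hed.trans hdK)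
  refine ⟨C, ?_, hCirr, ?_⟩
  · rw [← h1, he1, one_pow, one_mul]
  · rw [hInd, he1, Nat.cast_one, one_smul]

/-- the number of `W₁`-invariant irreducible characters of `K` is `|W₂|` -/
theorem Setup.card_invariant (S : Setup K W₁ W₂) :
    Nat.card {θ : Cfsg.IrrCharacter K // ∀ x ∈ W₁, conjFun K (θ : K → ℂ) x = (θ : K → ℂ)}
      = Nat.card W₂ := by
  classical
  obtain ⟨w, hw, hw1, hgen⟩ := S.exists_gen
  have hset : {θ : Cfsg.IrrCharacter K | ∀ x ∈ W₁, conjFun K (θ : K → ℂ) x = (θ : K → ℂ)}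
      = InvS K w := by
    ext θ
    constructor
    · intro h; exact h w hw
    · intro h x hx
      exact InvS_subset_of_mem_zpowers (hgen x hx) h
  have h1 : Nat.card {θ : Cfsg.IrrCharacter K // ∀ x ∈ W₁, conjFun K (θ : K → ℂ) x = (θ : K → ℂ)}
      = (InvS K w).ncard := by
    rw [← hset]
    rfl
  rw [h1, ncard_InvS, ← Nat.card_coe_set_eq]
  symm
  have hcomm : ∀ k : W₂, w * (k : L) = (k : L) * w := fun k =>
    ((S.mem_W₂_iff hw hw1 _).mp k.2).2
  have hcjfix : ∀ k : W₂, cj K w ⟨k, S.W₂_le k.2⟩ = ⟨k, S.W₂_le k.2⟩ := by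
    intro k
    apply Subtype.ext
    show w * (k : L) * w⁻¹ = k
    rw [hcomm k]; group
  have hcj_mul : ∀ a b : K, cj K w (a * b) = cj K w a * cj K w b := by
    intro a b
    apply Subtype.ext
    show w * ((a : L) * b) * w⁻¹ = (w * a * w⁻¹) * (w * b * w⁻¹)
    group
  have hcj_inv : ∀ a : K, cj K w a⁻¹ = (cj K w a)⁻¹ := by
    intro a
    apply Subtype.ext
    show w * ((a : L)⁻¹) * w⁻¹ = (w * a * w⁻¹)⁻¹
    group
  have hmemf : ∀ k : W₂, ConjClasses.mk (⟨k, S.W₂_le k.2⟩ : K) ∈ ClS K w := by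
    intro k
    set k' : K := ⟨k, S.W₂_le k.2⟩ with hk'
    set c := ConjClasses.mk k' with hc
    have h2 : IsConj (Quotient.out c) k' :=
      ConjClasses.mk_eq_mk_iff_isConj.mp (Quotient.out_eq c)
    obtain ⟨v, hv⟩ := isConj_iff.mp h2
    show IsConj (cj K w (Quotient.out c)) (Quotient.out c)
    refine IsConj.trans ?_ h2.symm
    rw [isConj_iff]
    refine ⟨cj K w v, ?_⟩
    rw [← hcj_inv, ← hcj_mul, ← hcj_mul, hv]
    exact hcjfix k
  refine Nat.card_congr (Equiv.ofBijective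
    (fun k : W₂ => (⟨ConjClasses.mk (⟨k, S.W₂_le k.2⟩ : K), hmemf k⟩ : ClS K w)) ⟨?_, ?_⟩)
  · intro k₁ k₂ h
    have h2 : ConjClasses.mk (⟨k₁, S.W₂_le k₁.2⟩ : K) = ConjClasses.mk (⟨k₂, S.W₂_le k₂.2⟩ : K) :=
      congrArg Subtype.val h
    obtain ⟨u, hu⟩ := isConj_iff.mp (ConjClasses.mk_eq_mk_iff_isConj.mp h2)
    have hu' : (u : L) * k₁ * (u : L)⁻¹ = k₂ := by
      have := congrArg Subtype.val hu
      simpa using this
    obtain ⟨c, hcK, hcw, hck⟩ := coprime_conj_in_centralizer K w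
      (by rw [Subgroup.normalizer_eq_top]; trivial) (S.orderOf_coprime hw) k₁ k₂
      (hcomm k₁) (hcomm k₂) u u.2 hu'
    have hcW₂ : c ∈ W₂ := (S.mem_W₂_iff hw hw1 c).mpr ⟨hcK, hcw⟩
    haveI := S.W₂_cyclic
    have h3 := (IsCyclic.commGroup (α := W₂)).mul_comm ⟨c, hcW₂⟩ k₁
    have h4 : c * (k₁ : L) = (k₁ : L) * c := congrArg Subtype.val h3
    apply Subtype.ext
    rw [← hck, h4]; group
  · rintro ⟨c, hc⟩
    obtain ⟨u, hu⟩ := S.exists_mem_W₂ hw hw1 hc
    refine ⟨⟨_, hu⟩, ?_⟩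
    apply Subtype.ext
    show ConjClasses.mk (⟨((u * Quotient.out c * u⁻¹ : K) : L), _⟩ : K) = c
    have h2 : (⟨((u * Quotient.out c * u⁻¹ : K) : L), S.W₂_le hu⟩ : K)
        = u * Quotient.out c * u⁻¹ := Subtype.ext rfl
    rw [h2]
    conv_rhs => rw [← Quotient.out_eq c]
    apply ConjClasses.mk_eq_mk_iff_isConj.mpr
    rw [isConj_comm, isConj_iff]
    exact ⟨u, rfl⟩

end Cfsg.Agent.Lib.Helper4.KW
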