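import Mathlib
import Cfsg.Prelude.Def_Characters
import Cfsg.Agent.Lib.Helper4.KW8
import Cfsg.Agent.Lib.Helper1.CharFound6
import Cfsg.Agent.S0148

set_option autoImplicit false
set_option linter.unusedSectionVars false

/-! The exceptional characters `μ ω` of `L = K ⋊ W₁`: degrees. -/

namespace Cfsg.Agent.Lib.Helper4.KW

open Cfsg Cfsg.Agent.Lib.Helper1 Cfsg.Agent.Lib.Helper4 Cfsg.Agent.Lib.Lead
open scoped ComplexConjugate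

variable {L : Type*} [Group L] [Fintype L] {K W₁ W₂ : Subgroup L} [hK : K.Normal]
variable {μ : (↥(W₁ ⊔ W₂) →* ℂˣ) → (L → ℂ)} {δ : (↥(W₁ ⊔ W₂) →* ℂˣ) → ℂ}

/-- (g): the degree of `μ ω` is congruent to `δ ω` modulo `|W₁|` -/
theorem Family.degree (F : Family W₁ W₂ μ δ) (S : Setup K W₁ W₂) (ω : ↥(W₁ ⊔ W₂) →* ℂˣ) :
    ∃ n : ℤ, μ ω 1 - δ ω = n * (Nat.card W₁ : ℂ) := by
  classical
  haveI : Fintype W₁ := Fintype.ofFinite _
  let lam : W₁ →* ℂˣ := ω.comp (Subgroup.inclusion le_sup_left)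
  have hlam : ∀ u : W₁, lam u = ω ⟨u, Subgroup.mem_sup_left u.2⟩ := fun u => rfl
  have hψ : IsCharacter W₁ (fun u : W₁ => μ ω u) :=
    Cfsg.Agent.S0148.isCharacter_restrict W₁ (isCharacter_of_irr (F.irr ω))
  have hl : IsCharacter W₁ (linFn lam) := isCharacter_of_irr (isIrrCharacter_of_hom lam)
  obtain ⟨m, hm⟩ := classInner_char_nat hψ hl
  have h1 : Cfsg.classInner (linFn lam) (linFn lam) = 1 := by
    rw [classInner_linFn, if_pos rfl]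
  have h2 : Cfsg.classInner ((fun u : W₁ => μ ω u) - δ ω • linFn lam) (linFn lam)
      = (Nat.card W₁ : ℂ)⁻¹ * (μ ω 1 - δ ω) := by
    unfold Cfsg.classInner
    congr 1
    rw [Finset.sum_eq_single (1 : W₁)]
    · simp [linFn]
    · intro u _ hu
      have hu2 : ((⟨u, Subgroup.mem_sup_left u.2⟩ : ↥(W₁ ⊔ W₂)) : L) ∉ W₂ := by
        intro h
        apply hu
        exact Subtype.ext (S.W₁_inf_K u.2 (S.W₂_le h))
      have := F.apply_of_notMem S ω ⟨u, Subgroup.mem_sup_left u.2⟩ hu2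
      simp only [Pi.sub_apply, Pi.smul_apply, smul_eq_mul, linFn_apply, hlam]
      rw [this, sub_self, zero_mul]
    · intro h
      exact absurd (Finset.mem_univ _) h
  rw [classInner_sub_left, classInner_smul_left, hm, h1, mul_one] at h2
  have h0 : (Nat.card W₁ : ℂ) ≠ 0 := Nat.cast_ne_zero.mpr Nat.card_pos.ne'
  have h3 : μ ω 1 - δ ω = ((m : ℂ) - δ ω) * (Nat.card W₁ : ℂ) := by
    rw [h2]
    field_simp
  rcases F.sign ω with h | h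
  · refine ⟨(m : ℤ) - 1, ?_⟩
    rw [h3, h]
    push_cast
    ring
  · refine ⟨(m : ℤ) + 1, ?_⟩
    rw [h3, h]
    push_cast
    ring

/-- all conclusions together -/
theorem Setup.exceptional (S : Setup K W₁ W₂) :
    ∃ (μ : (↥(W₁ ⊔ W₂) →* ℂˣ) → (L → ℂ)) (δ : (↥(W₁ ⊔ W₂) →* ℂˣ) → ℂ),
      Function.Injective μ ∧ (∀ ω, IsIrrCharacter L (μ ω)) ∧ (∀ ω, δ ω = 1 ∨ δ ω = -1) ∧
      (∀ ω ω' : ↥(W₁ ⊔ W₂) →* ℂˣ, (∀ w : ↥(W₁ ⊔ W₂), (w : L) ∈ W₂ → ω w = ω' w) →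
        δ ω = δ ω' ∧ Cfsg.indFun (W₁ ⊔ W₂) (fun w => ((ω w : ℂˣ) : ℂ) - ((ω' w : ℂˣ) : ℂ))
          = δ ω • (μ ω - μ ω')) ∧
      (∀ ω, ∀ w : ↥(W₁ ⊔ W₂), (w : L) ∉ W₂ → μ ω w = δ ω * ((ω w : ℂˣ) : ℂ)) ∧
      (∀ θ : L → ℂ, IsIrrCharacter L θ → (∀ ω, θ ≠ μ ω) →
        ∀ w : ↥(W₁ ⊔ W₂), (w : L) ∉ W₂ → θ w = 0) ∧
      (∀ ω, ∃ n : ℤ, μ ω 1 - δ ω = n * (Nat.card W₁ : ℂ)) := by
  obtain ⟨μ, δ, h1, h2, h3, h4⟩ := S.exists_family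
  have F : Family W₁ W₂ μ δ := ⟨h1, h2, h3, h4⟩
  exact ⟨μ, δ, h1, h2, h3, fun ω ω' h => h4 ω ω' h, fun ω w hw => F.apply_of_notMem S ω w hw,
    fun θ hθ hne w hw => F.vanish S θ hθ hne w hw, fun ω => F.degree S ω⟩

end Cfsg.Agent.Lib.Helper4.KW
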