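import Mathlib

set_option autoImplicit false

/-! Counting subgroups of index `p` in a finite `p`-group through homomorphisms to the cyclic group
of order `p`. -/

namespace Cfsg.Agent.Lib.Helper4.PC

/-- the cyclic group of order `p`. -/
abbrev Cp (p : ℕ) := Multiplicative (ZMod p)

section homs

variable {Q : Type*} [Group Q] (p : ℕ) [hp : Fact p.Prime]

theorem card_Cp : Nat.card (Cp p) = p := by
  have h1 : Nat.card (Cp p) = Nat.card (ZMod p) := Nat.card_congr Multiplicative.toAdd
  rw [h1, Nat.card_zmod]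

instance : Finite (Cp p) := Nat.finite_of_card_ne_zero (by rw [card_Cp]; exact hp.out.ne_zero)

instance instFiniteHomCp [Finite Q] : Finite (Q →* Cp p) := DFunLike.finite _

theorem pow_p_Cp (c : Cp p) : c ^ p = 1 := by
  have := pow_card_eq_one' (G := Cp p) (x := c)
  rwa [card_Cp] at this

/-- homomorphisms to `C_p` that kill `H`. -/
def homs (H : Subgroup Q) : Subgroup (Q →* Cp p) where
  carrier := {f | H ≤ f.ker}
  mul_mem' := by
    intro f g hf hg x hx
    have h1 := hf hx
    have h2 := hg hx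
    rw [MonoidHom.mem_ker] at h1 h2 ⊢
    rw [MonoidHom.mul_apply, h1, h2, one_mul]
  one_mem' := by
    intro x _
    rw [MonoidHom.mem_ker, MonoidHom.one_apply]
  inv_mem' := by
    intro f hf x hx
    have h1 := hf hx
    rw [MonoidHom.mem_ker] at h1 ⊢
    rw [MonoidHom.inv_apply, h1, inv_one]

theorem mem_homs (H : Subgroup Q) (f : Q →* Cp p) : f ∈ homs p H ↔ H ≤ f.ker := Iff.rfl

theorem hom_pow_p (f : Q →* Cp p) : f ^ p = 1 := by
  ext x
  rw [MonoidHom.pow_apply, pow_p_Cp, MonoidHom.one_apply]

theorem isPGroup_homs (H : Subgroup Q) : IsPGroup p (homs p H) := by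
  intro f
  refine ⟨1, ?_⟩
  apply Subtype.ext
  rw [pow_one, Subgroup.coe_pow, hom_pow_p, Subgroup.coe_one]

theorem index_ker_of_ne_one (f : Q →* Cp p) (hf : f ≠ 1) : f.ker.index = p := by
  rw [Subgroup.index_ker]
  have h1 : Nat.card f.range ∣ p := by
    have := Subgroup.card_subgroup_dvd_card f.range
    rwa [card_Cp] at this
  rcases (Nat.dvd_prime hp.out).1 h1 with h | h
  · exfalso
    apply hf
    have h2 : f.range = ⊥ := Subgroup.card_eq_one.1 h
    ext x
    have h3 : f x ∈ f.range := ⟨x, rfl⟩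
    rw [h2, Subgroup.mem_bot] at h3
    rw [h3, MonoidHom.one_apply]
  · exact h

theorem eq_of_le_of_index [Finite Q] (M M' : Subgroup Q) (h : M ≤ M') (hM : M.index = p)
    (hM' : M'.index = p) : M = M' := by
  apply Subgroup.eq_of_le_of_card_ge h
  have h1 := M.card_mul_index
  have h2 := M'.card_mul_index
  rw [hM] at h1
  rw [hM', ← h1] at h2
  exact (Nat.eq_of_mul_eq_mul_right hp.out.pos h2).le

end homs

end Cfsg.Agent.Lib.Helper4.PC
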