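import Mathlib
import Cfsg.Agent.Lib.Helper4.PC1

set_option autoImplicit false

/-! The number of subgroups of index `p` containing a given subgroup of a finite `p`-group. -/

namespace Cfsg.Agent.Lib.Helper4.PC

section count

variable {Q : Type*} [Group Q] [Finite Q] (p : ℕ) [hp : Fact p.Prime]

theorem normal_of_index_p (hQ : IsPGroup p Q) (M : Subgroup Q) (hM : M.index = p) : M.Normal := by
  apply Subgroup.normal_of_index_eq_minFac_card
  obtain ⟨n, hn⟩ := IsPGroup.iff_card.1 hQ
  have hn0 : n ≠ 0 := by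
    rintro rfl
    rw [pow_zero] at hn
    have h1 := M.index_dvd_card
    rw [hn, hM] at h1
    exact hp.out.one_lt.ne' (Nat.dvd_one.1 h1)
  rw [hM, hn, Nat.Prime.pow_minFac hp.out hn0]

/-- the homomorphisms killing a subgroup of index `p` form a group of order `p`. -/
theorem card_homs_of_index (hQ : IsPGroup p Q) (M : Subgroup Q) (hM : M.index = p) :
    Nat.card (homs p M) = p := by
  haveI := normal_of_index_p p hQ M hM
  obtain ⟨j, hj⟩ := IsPGroup.iff_card.1 (isPGroup_homs p M)
  -- a nontrivial element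
  have hcardQ : Nat.card (Q ⧸ M) = p := by rw [← Subgroup.index_eq_card, hM]
  let e : Q ⧸ M ≃* Cp p := mulEquivOfPrimeCardEq hcardQ (card_Cp p)
  let f₀ : Q →* Cp p := e.toMonoidHom.comp (QuotientGroup.mk' M)
  have hker : f₀.ker = M := by
    ext x
    rw [MonoidHom.mem_ker]
    show e (QuotientGroup.mk' M x) = 1 ↔ x ∈ M
    rw [MulEquiv.map_eq_one_iff, QuotientGroup.mk'_apply, QuotientGroup.eq_one_iff]
  have hf₀ : f₀ ∈ homs p M := by rw [mem_homs, hker]
  have hne : f₀ ≠ 1 := by
    intro h
    have h1 : f₀.ker = ⊤ := by rw [h]; exact MonoidHom.ker_one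
    rw [hker] at h1
    rw [h1, Subgroup.index_top] at hM
    exact hp.out.one_lt.ne hM
  have hgt : 1 < Nat.card (homs p M) := by
    rw [Finite.one_lt_card_iff_nontrivial]
    refine ⟨⟨⟨f₀, hf₀⟩, 1, ?_⟩⟩
    intro h
    exact hne (congrArg Subtype.val h)
  -- an injection into `C_p`
  have hx : ∃ x : Q, x ∉ M := by
    by_contra h
    push Not at h
    have : M = ⊤ := (Subgroup.eq_top_iff' M).2 h
    rw [this, Subgroup.index_top] at hM
    exact hp.out.one_lt.ne hM
  obtain ⟨x₀, hx₀⟩ := hx
  have hinj : Function.Injective (fun f : homs p M => (f : Q →* Cp p) x₀) := by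
    intro f g hfg
    simp only at hfg
    have h1 : (f * g⁻¹ : homs p M) = 1 := by
      by_contra hne1
      have hne2 : ((f * g⁻¹ : homs p M) : Q →* Cp p) ≠ 1 := fun h => hne1 (Subtype.ext h)
      have h2 := index_ker_of_ne_one p _ hne2
      have h3 : M ≤ ((f * g⁻¹ : homs p M) : Q →* Cp p).ker := (f * g⁻¹ : homs p M).2
      have h4 := eq_of_le_of_index p M _ h3 hM h2
      apply hx₀
      rw [h4, MonoidHom.mem_ker]
      simp only [Subgroup.coe_mul, Subgroup.coe_inv, MonoidHom.mul_apply, MonoidHom.inv_apply]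
      rw [hfg, mul_inv_cancel]
    exact mul_inv_eq_one.1 h1
  have hle : Nat.card (homs p M) ≤ p := by
    have := Nat.card_le_card_of_injective _ hinj
    rwa [card_Cp] at this
  rw [hj] at hgt hle ⊢
  have hj1 : j ≠ 0 := by
    rintro rfl
    simp at hgt
  have hj2 : j ≤ 1 := by
    by_contra h
    push Not at h
    have : p ^ 2 ≤ p ^ j := Nat.pow_le_pow_right hp.out.pos h
    have h2 : p < p ^ 2 := by
      have := hp.out.one_lt
      nlinarith
    omega
  have : j = 1 := by omega
  rw [this, pow_one]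

/-- The counting formula. -/
theorem card_homs (hQ : IsPGroup p Q) (H : Subgroup Q) :
    Nat.card (homs p H) =
      1 + (p - 1) * Nat.card {M : Subgroup Q // M.index = p ∧ H ≤ M} := by
  classical
  letI : Fintype (Q →* Cp p) := Fintype.ofFinite _
  letI : Fintype (Subgroup Q) := Fintype.ofFinite _
  set s : Finset (Q →* Cp p) := Finset.univ.filter (fun f => f ∈ homs p H ∧ f ≠ 1) with hs
  set t : Finset (Subgroup Q) := Finset.univ.filter (fun M => M.index = p ∧ H ≤ M) with ht
  have hmap : ∀ f ∈ s, f.ker ∈ t := by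
    intro f hf
    rw [hs, Finset.mem_filter] at hf
    rw [ht, Finset.mem_filter]
    exact ⟨Finset.mem_univ _, index_ker_of_ne_one p f hf.2.2, hf.2.1⟩
  have hcard := Finset.card_eq_sum_card_fiberwise hmap
  have hfib : ∀ M ∈ t, (s.filter (fun f => f.ker = M)).card = p - 1 := by
    intro M hM
    rw [ht, Finset.mem_filter] at hM
    have h1 : s.filter (fun f => f.ker = M) =
        (Finset.univ.filter (fun f : Q →* Cp p => f ∈ homs p M)).erase 1 := by
      ext f
      rw [hs, Finset.mem_filter, Finset.mem_filter, Finset.mem_erase, Finset.mem_filter]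
      constructor
      · rintro ⟨⟨-, -, hne⟩, hk⟩
        refine ⟨hne, Finset.mem_univ _, ?_⟩
        rw [mem_homs, hk]
      · rintro ⟨hne, -, hfM⟩
        rw [mem_homs] at hfM
        have h2 := index_ker_of_ne_one p f hne
        have h3 := eq_of_le_of_index p M _ hfM hM.2.1 h2
        refine ⟨⟨Finset.mem_univ _, ?_, hne⟩, h3.symm⟩
        rw [mem_homs]
        exact hM.2.2.trans hfM
    rw [h1, Finset.card_erase_of_mem]
    · have h2 : (Finset.univ.filter (fun f : Q →* Cp p => f ∈ homs p M)).card =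
          Nat.card (homs p M) := by
        rw [Nat.card_eq_fintype_card, Fintype.card_subtype]
      rw [h2, card_homs_of_index p hQ M hM.2.1]
    · rw [Finset.mem_filter]
      exact ⟨Finset.mem_univ _, (homs p M).one_mem⟩
  rw [Finset.sum_congr rfl hfib, Finset.sum_const, smul_eq_mul] at hcard
  have h3 : Nat.card (homs p H) = s.card + 1 := by
    have h4 : s = (Finset.univ.filter (fun f : Q →* Cp p => f ∈ homs p H)).erase 1 := by
      ext f
      rw [hs, Finset.mem_filter, Finset.mem_erase, Finset.mem_filter]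
      tauto
    have h5 : (1 : Q →* Cp p) ∈ Finset.univ.filter (fun f : Q →* Cp p => f ∈ homs p H) := by
      rw [Finset.mem_filter]
      exact ⟨Finset.mem_univ _, (homs p H).one_mem⟩
    have h6 : (Finset.univ.filter (fun f : Q →* Cp p => f ∈ homs p H)).card =
        Nat.card (homs p H) := by
      rw [Nat.card_eq_fintype_card, Fintype.card_subtype]
    rw [h4, Finset.card_erase_of_mem h5, h6]
    have : 0 < Nat.card (homs p H) := Nat.card_pos
    omega
  have h7 : t.card = Nat.card {M : Subgroup Q // M.index = p ∧ H ≤ M} := by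
    rw [Nat.card_eq_fintype_card, Fintype.card_subtype]
  rw [h3, hcard, h7]
  ring

/-- In a finite `p`-group a proper subgroup lies in `≡ 1 (mod p)` subgroups of index `p`. -/
theorem card_index_p_modEq (hQ : IsPGroup p Q) (H : Subgroup Q) (hH : H ≠ ⊤) :
    Nat.card {M : Subgroup Q // M.index = p ∧ H ≤ M} ≡ 1 [MOD p] := by
  -- one such subgroup exists
  obtain ⟨N, hN⟩ := IsPGroup.iff_card.1 hQ
  obtain ⟨n, hn⟩ := IsPGroup.iff_card.1 (hQ.to_subgroup H)
  have hnN : n < N := by
    have h1 : Nat.card H < Nat.card Q := by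
      rcases lt_or_eq_of_le (Subgroup.card_le_card_group H) with h | h
      · exact h
      · exact absurd ((Subgroup.card_eq_iff_eq_top H).1 h) hH
    rw [hn, hN] at h1
    exact (Nat.pow_lt_pow_iff_right hp.out.one_lt).1 h1
  have hdvd : p ^ (N - 1) ∣ Nat.card Q := by rw [hN]; exact pow_dvd_pow p (Nat.sub_le N 1)
  obtain ⟨K, hK, hHK⟩ := Sylow.exists_subgroup_card_pow_prime_le p hdvd H hn (by omega)
  have hKidx : K.index = p := by
    have h1 := K.card_mul_index
    rw [hK, hN] at h1
    have h2 : p ^ N = p ^ (N - 1) * p := by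
      rw [← pow_succ]; congr 1; omega
    rw [h2] at h1
    exact Nat.eq_of_mul_eq_mul_left (pow_pos hp.out.pos _) h1
  -- so the group of homomorphisms is nontrivial
  have hnt : 1 < Nat.card (homs p H) := by
    have h1 : Nat.card (homs p K) ≤ Nat.card (homs p H) := by
      apply Nat.card_le_card_of_injective (fun f : homs p K => (⟨f.1, hHK.trans f.2⟩ : homs p H))
      intro f g hfg
      apply Subtype.ext
      exact congrArg (fun z : homs p H => (z : Q →* Cp p)) hfg
    rw [card_homs_of_index p hQ K hKidx] at h1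
    exact lt_of_lt_of_le hp.out.one_lt h1
  obtain ⟨j, hj⟩ := IsPGroup.iff_card.1 (isPGroup_homs p H)
  have hj0 : j ≠ 0 := by
    rintro rfl
    rw [hj, pow_zero] at hnt
    exact lt_irrefl _ hnt
  have hdvd2 : p ∣ Nat.card (homs p H) := by rw [hj]; exact dvd_pow_self p hj0
  rw [card_homs p hQ H] at hdvd2
  set k := Nat.card {M : Subgroup Q // M.index = p ∧ H ≤ M} with hk
  have h1 : k + (1 + (p - 1) * k) = 1 + p * k := by
    have : 1 ≤ p := hp.out.pos
    obtain ⟨q, rfl⟩ : ∃ q, p = q + 1 := ⟨p - 1, by omega⟩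
    simp only [Nat.add_sub_cancel]
    ring
  have h2 : k + (1 + (p - 1) * k) ≡ k + 0 [MOD p] :=
    Nat.ModEq.add_left k ((Nat.modEq_zero_iff_dvd).2 hdvd2)
  have h3 : 1 + p * k ≡ 1 [MOD p] := by
    have : p * k ≡ 0 [MOD p] := (Nat.modEq_zero_iff_dvd).2 (dvd_mul_right p k)
    simpa using Nat.ModEq.add_left 1 this
  rw [h1, add_zero] at h2
  exact h2.symm.trans h3

end count

end Cfsg.Agent.Lib.Helper4.PC
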