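import Mathlib
import Cfsg.Agent.Lib.Helper4.PC2
import Cfsg.Agent.Lib.Helper4.CyclicUnique

set_option autoImplicit false

/-! Counting cyclic subgroups of a `2`-group modulo `2` through its maximal subgroups. -/

namespace Cfsg.Agent.Lib.Helper4.Kul

open scoped Classical

/-- the number of cyclic subgroups of order `2 ^ n`. -/
noncomputable def cyc (n : ℕ) (G : Type*) [Group G] : ℕ :=
  Nat.card {Z : Subgroup G // IsCyclic Z ∧ Nat.card Z = 2 ^ n}

/-- the number of cyclic subgroups of order `2 ^ n` inside `M`. -/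
noncomputable def cycBelow (n : ℕ) {G : Type*} [Group G] (M : Subgroup G) : ℕ :=
  Nat.card {Z : Subgroup G // (IsCyclic Z ∧ Nat.card Z = 2 ^ n) ∧ Z ≤ M}

section basic

variable {G : Type*} [Group G]

theorem isCyclic_subgroupOf_iff (Z M : Subgroup G) (h : Z ≤ M) :
    IsCyclic (Z.subgroupOf M) ↔ IsCyclic Z :=
  (Subgroup.subgroupOfEquivOfLe h).isCyclic

theorem isCyclic_map_subtype_iff (M : Subgroup G) (Z : Subgroup M) :
    IsCyclic (Z.map M.subtype) ↔ IsCyclic Z :=
  (Z.equivMapOfInjective M.subtype M.subtype_injective).symm.isCyclic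

theorem cycBelow_eq (n : ℕ) (M : Subgroup G) : cycBelow n M = cyc n M := by
  unfold cycBelow cyc
  apply Nat.card_congr
  exact
    { toFun := fun Z => ⟨Z.1.subgroupOf M, (isCyclic_subgroupOf_iff Z.1 M Z.2.2).2 Z.2.1.1, by
        rw [Nat.card_congr (Subgroup.subgroupOfEquivOfLe Z.2.2).toEquiv]; exact Z.2.1.2⟩
      invFun := fun Z => ⟨Z.1.map M.subtype, ⟨(isCyclic_map_subtype_iff M Z.1).2 Z.2.1, by
        rw [Subgroup.card_map_of_injective M.subtype_injective]; exact Z.2.2⟩,
        Subgroup.map_subtype_le _⟩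
      left_inv := fun Z => Subtype.ext (Subgroup.map_subgroupOf_eq_of_le Z.2.2)
      right_inv := fun Z => Subtype.ext
        (Subgroup.comap_map_eq_self_of_injective M.subtype_injective Z.1) }

end basic

section parity

variable {G : Type*} [Group G] [Finite G]

/-- **Parity through maximal subgroups.** In a noncyclic `2`-group the number of cyclic subgroups
of order `2 ^ n` has the parity of the sum, over the maximal subgroups `M`, of the number of those
contained in `M`. -/
theorem cyc_modEq_sum (hG : IsPGroup 2 G) (hnc : ¬ IsCyclic G) (n : ℕ) :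
    letI : Fintype (Subgroup G) := Fintype.ofFinite _
    cyc n G ≡ ∑ M ∈ (Finset.univ.filter (fun M : Subgroup G => M.index = 2)), cycBelow n M
      [MOD 2] := by
  letI : Fintype (Subgroup G) := Fintype.ofFinite _
  haveI : Fact (Nat.Prime 2) := ⟨Nat.prime_two⟩
  set 𝒵 : Finset (Subgroup G) :=
    Finset.univ.filter (fun Z : Subgroup G => IsCyclic Z ∧ Nat.card Z = 2 ^ n) with h𝒵
  set ℳ : Finset (Subgroup G) := Finset.univ.filter (fun M : Subgroup G => M.index = 2) with hℳ
  have h1 : cyc n G = 𝒵.card := by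
    unfold cyc
    rw [Nat.card_eq_fintype_card, Fintype.card_subtype]
  have h2 : ∀ M : Subgroup G, cycBelow n M = (𝒵.filter (fun Z => Z ≤ M)).card := by
    intro M
    unfold cycBelow
    rw [Nat.card_eq_fintype_card, Fintype.card_subtype, h𝒵, Finset.filter_filter]
  have h3 : ∑ M ∈ ℳ, cycBelow n M = ∑ Z ∈ 𝒵, (ℳ.filter (fun M => Z ≤ M)).card := by
    simp_rw [h2]
    exact Finset.sum_card_bipartiteAbove_eq_sum_card_bipartiteBelow (fun M Z => Z ≤ M)
  have h4 : ∀ Z ∈ 𝒵, (ℳ.filter (fun M => Z ≤ M)).card ≡ 1 [MOD 2] := by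
    intro Z hZ
    rw [h𝒵, Finset.mem_filter] at hZ
    have hZt : Z ≠ ⊤ := by
      rintro rfl
      exact hnc ((Subgroup.topEquiv (G := G)).isCyclic.1 hZ.2.1)
    have h5 := Cfsg.Agent.Lib.Helper4.PC.card_index_p_modEq 2 hG Z hZt
    have h6 : Nat.card {M : Subgroup G // M.index = 2 ∧ Z ≤ M} =
        (ℳ.filter (fun M => Z ≤ M)).card := by
      rw [Nat.card_eq_fintype_card, Fintype.card_subtype, hℳ, Finset.filter_filter]
    rwa [h6] at h5
  rw [h1, h3]
  have h5 : ∑ Z ∈ 𝒵, (ℳ.filter (fun M => Z ≤ M)).card ≡ ∑ _Z ∈ 𝒵, 1 [MOD 2] :=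
    Nat.ModEq.sum h4
  rw [Finset.sum_const, smul_eq_mul, mul_one] at h5
  exact h5.symm

end parity

end Cfsg.Agent.Lib.Helper4.Kul
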