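import Mathlib

set_option autoImplicit false

/-! A `p`-group (`p` odd) with a cyclic subgroup of index `p`: commutators with the cyclic subgroup
have order dividing `p`. -/

namespace Cfsg.Agent.Lib.Helper4.PC

section nt

/-- the lifting-the-exponent step. -/
theorem lte_step (p n r : ℕ) [hp : Fact p.Prime] (hodd : p ≠ 2) (hr : 1 < r)
    (h : p ^ n ∣ r ^ p - 1) : p ^ n ∣ (r - 1) * p := by
  rcases Nat.eq_zero_or_pos n with rfl | hn
  · simp
  have hp1 : Odd p := hp.out.odd_of_ne_two hodd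
  have hpd : p ∣ r ^ p - 1 := (dvd_pow_self p hn.ne').trans h
  have hrp : 1 ≤ r ^ p := Nat.one_le_pow _ _ (by omega)
  have h1 : ((r : ZMod p)) ^ p = 1 := by
    have h2 : ((r ^ p - 1 : ℕ) : ZMod p) = 0 := (ZMod.natCast_eq_zero_iff _ _).2 hpd
    rw [Nat.cast_sub hrp, Nat.cast_pow, Nat.cast_one, sub_eq_zero] at h2
    exact h2
  rw [ZMod.pow_card] at h1
  have hxy : p ∣ r - 1 := by
    rw [← ZMod.natCast_eq_zero_iff, Nat.cast_sub hr.le, h1, Nat.cast_one, sub_self]
  have hx : ¬ p ∣ r := by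
    intro hd
    have h3 : ((r : ZMod p)) = 0 := (ZMod.natCast_eq_zero_iff _ _).2 hd
    rw [h3] at h1
    exact zero_ne_one h1
  have hval := padicValNat.pow_sub_pow (p := p) hp1 hr hxy hx (n := p) hp.out.ne_zero
  rw [one_pow, padicValNat_self] at hval
  have hne : r ^ p - 1 ≠ 0 := by
    have : 1 < r ^ p := Nat.one_lt_pow hp.out.ne_zero hr
    omega
  have h4 : n ≤ padicValNat p (r ^ p - 1) := (padicValNat_dvd_iff_le hne).1 h
  rw [hval] at h4
  have h5 : p ^ (n - 1) ∣ r - 1 := by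
    have hne' : r - 1 ≠ 0 := by omega
    rw [padicValNat_dvd_iff_le hne']
    omega
  have h6 : p ^ n = p ^ (n - 1) * p := by
    rw [← pow_succ]; congr 1; omega
  rw [h6]
  exact Nat.mul_dvd_mul_right h5 p

end nt

section conj

variable {Q : Type*} [Group Q]

theorem conj_pow_of_conj (y a : Q) (r : ℕ) (h : y * a * y⁻¹ = a ^ r) (j : ℕ) :
    y ^ j * a * (y ^ j)⁻¹ = a ^ (r ^ j) := by
  induction j with
  | zero => simp
  | succ j ih =>
    have h1 : y ^ (j + 1) * a * (y ^ (j + 1))⁻¹ = y * (y ^ j * a * (y ^ j)⁻¹) * y⁻¹ := by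
      rw [pow_succ']; group
    rw [h1, ih]
    have h2 : y * a ^ (r ^ j) * y⁻¹ = (y * a * y⁻¹) ^ (r ^ j) := by
      rw [conj_pow]
    rw [h2, h, ← pow_mul, pow_succ, mul_comm]

/-- In a finite `p`-group (`p` odd) with a cyclic normal subgroup `A` of index `p`, every
commutator `y x y⁻¹ x⁻¹` with `x ∈ A` has `p`-th power one. -/
theorem comm_pow_eq_one [Finite Q] (p : ℕ) [hp : Fact p.Prime] (hodd : p ≠ 2) (hQ : IsPGroup p Q)
    (A : Subgroup Q) [hAn : A.Normal] (hA : IsCyclic A) (hidx : A.index = p) (y x : Q)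
    (hx : x ∈ A) : (y * x * y⁻¹ * x⁻¹) ^ p = 1 := by
  obtain ⟨⟨a, haA⟩, ha⟩ := hA.exists_generator
  -- every element of `A` is a power of `a`
  have hgen : ∀ z ∈ A, z ∈ Subgroup.zpowers a := by
    intro z hz
    obtain ⟨k, hk⟩ := Subgroup.mem_zpowers_iff.1 (ha ⟨z, hz⟩)
    refine Subgroup.mem_zpowers_iff.2 ⟨k, ?_⟩
    have := congrArg Subtype.val hk
    simpa using this
  have hfin : IsOfFinOrder a := isOfFinOrder_of_finite a
  -- conjugate of `a`
  have h1 : y * a * y⁻¹ ∈ Subgroup.zpowers a := hgen _ (hAn.conj_mem a haA y)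
  rw [← hfin.mem_powers_iff_mem_zpowers] at h1
  obtain ⟨r₀, hr₀⟩ := Submonoid.mem_powers_iff _ _ |>.1 h1
  obtain ⟨n, hn⟩ : ∃ n, orderOf a = p ^ n := by
    obtain ⟨k, hk⟩ := hQ a
    exact (Nat.dvd_prime_pow hp.out).1 (orderOf_dvd_of_pow_eq_one hk) |>.imp fun _ h => h.2
  set r := r₀ + 2 * orderOf a with hr
  have hopos : 0 < orderOf a := orderOf_pos a
  have hr1 : 1 < r := by omega
  have hconj : y * a * y⁻¹ = a ^ r := by
    rw [hr, pow_add, mul_comm 2, pow_mul, pow_orderOf_eq_one, one_pow, mul_one, hr₀]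
  -- `y ^ p ∈ A` commutes with `a`
  have hyp : y ^ p ∈ A := by
    have := A.pow_index_mem y
    rwa [hidx] at this
  have hcomm : y ^ p * a = a * y ^ p := by
    obtain ⟨k, hk⟩ := Subgroup.mem_zpowers_iff.1 (hgen _ hyp)
    rw [← hk]
    exact ((Commute.refl a).zpow_left k).eq
  have h2 := conj_pow_of_conj y a r hconj p
  have h3 : a ^ (r ^ p) = a := by
    rw [← h2, hcomm]; group
  have h4 : a ^ (r ^ p - 1) = 1 := by
    have hrp : 1 ≤ r ^ p := Nat.one_le_pow _ _ (by omega)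
    have : a ^ (r ^ p - 1) * a = a := by
      rw [← pow_succ, Nat.sub_add_cancel hrp, h3]
    exact mul_eq_right.1 this
  have h5 : p ^ n ∣ r ^ p - 1 := by
    rw [← hn]; exact orderOf_dvd_of_pow_eq_one h4
  have h6 := lte_step p n r hodd hr1 h5
  have h7 : (a ^ (r - 1)) ^ p = 1 := by
    rw [← pow_mul]
    apply orderOf_dvd_iff_pow_eq_one.1
    rw [hn]; exact h6
  -- general `x = a ^ k`
  obtain ⟨k, hk⟩ := Subgroup.mem_zpowers_iff.1 (hgen x hx)
  have h8 : y * x * y⁻¹ * x⁻¹ = (a ^ (r - 1)) ^ k := by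
    rw [← hk]
    have h9 : y * a ^ k * y⁻¹ = (y * a * y⁻¹) ^ k := by rw [conj_zpow]
    rw [h9, hconj]
    have h10 : a ^ r = a ^ (r - 1) * a := by
      rw [← pow_succ]; congr 1; omega
    rw [h10]
    have hc : Commute (a ^ (r - 1)) a := (Commute.refl a).pow_left _
    rw [hc.mul_zpow, mul_assoc, mul_inv_cancel, mul_one]
  rw [h8, ← zpow_natCast, ← zpow_mul, mul_comm, zpow_mul, zpow_natCast, h7, one_zpow]

end conj

end Cfsg.Agent.Lib.Helper4.PC
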