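import Mathlib
import Cfsg.Agent.Lib.Helper4.PC3
import Cfsg.Agent.Lib.Helper4.GC9
import Cfsg.Agent.Lib.Helper4.GC6
import Cfsg.Agent.Lib.Helper4.OmegaOdd

set_option autoImplicit false

/-! A `p`-group (`p` odd) with a cyclic subgroup of index `p`: the `p`-th power map is
multiplicative. -/

namespace Cfsg.Agent.Lib.Helper4.PC

open scoped commutatorElement

section powmap

variable {Q : Type*} [Group Q]

/-- the elements of order dividing `p` in a commutative subgroup `A`. -/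
def omegaIn (p : ℕ) (A : Subgroup Q) (hA : ∀ x ∈ A, ∀ y ∈ A, x * y = y * x) : Subgroup Q where
  carrier := {z | z ∈ A ∧ z ^ p = 1}
  mul_mem' := by
    rintro x y ⟨hx, hx1⟩ ⟨hy, hy1⟩
    refine ⟨A.mul_mem hx hy, ?_⟩
    have hc : Commute x y := hA x hx y hy
    rw [hc.mul_pow, hx1, hy1, one_mul]
  one_mem' := ⟨A.one_mem, one_pow p⟩
  inv_mem' := by
    rintro x ⟨hx, hx1⟩
    exact ⟨A.inv_mem hx, by rw [inv_pow, hx1, inv_one]⟩

theorem mem_omegaIn (p : ℕ) (A : Subgroup Q) (hA : ∀ x ∈ A, ∀ y ∈ A, x * y = y * x) (z : Q) :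
    z ∈ omegaIn p A hA ↔ z ∈ A ∧ z ^ p = 1 := Iff.rfl

theorem comm_of_isCyclic (A : Subgroup Q) (hA : IsCyclic A) :
    ∀ x ∈ A, ∀ y ∈ A, x * y = y * x := by
  intro x hx y hy
  letI := IsCyclic.commGroup (α := A)
  have := mul_comm (⟨x, hx⟩ : A) ⟨y, hy⟩
  exact congrArg Subtype.val this

variable [Finite Q] (p : ℕ) [hp : Fact p.Prime]

theorem omegaIn_normal (A : Subgroup Q) [hAn : A.Normal]
    (hA : ∀ x ∈ A, ∀ y ∈ A, x * y = y * x) : (omegaIn p A hA).Normal := by
  refine ⟨fun z hz g => ?_⟩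
  obtain ⟨h1, h2⟩ := hz
  refine ⟨hAn.conj_mem z h1 g, ?_⟩
  rw [conj_pow, h2]; group

theorem card_omegaIn_dvd (A : Subgroup Q) (hA : IsCyclic A) :
    Nat.card (omegaIn p A (comm_of_isCyclic A hA)) ∣ p := by
  have hle : omegaIn p A (comm_of_isCyclic A hA) ≤ A := fun z hz => hz.1
  haveI := hA
  have hcyc : IsCyclic (omegaIn p A (comm_of_isCyclic A hA)) := Subgroup.isCyclic_of_le hle
  obtain ⟨z, hz⟩ := hcyc.exists_generator
  rw [← orderOf_eq_card_of_forall_mem_zpowers hz]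
  apply orderOf_dvd_of_pow_eq_one
  apply Subtype.ext
  rw [Subgroup.coe_pow, Subgroup.coe_one]
  exact z.2.2

theorem omegaIn_le_center (hQ : IsPGroup p Q) (A : Subgroup Q) [hAn : A.Normal]
    (hA : IsCyclic A) : omegaIn p A (comm_of_isCyclic A hA) ≤ Subgroup.center Q := by
  haveI := omegaIn_normal p A (comm_of_isCyclic A hA)
  rcases (Nat.dvd_prime hp.out).1 (card_omegaIn_dvd p A hA) with h | h
  · rw [Subgroup.card_eq_one.1 h]; exact bot_le
  · exact Cfsg.Agent.Lib.Helper4.GC.le_center_of_card_prime p hQ _ h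

/-- all commutators lie in the central subgroup `omegaIn`. -/
theorem commutator_mem_omegaIn (hodd : p ≠ 2) (hQ : IsPGroup p Q) (A : Subgroup Q)
    [hAn : A.Normal] (hA : IsCyclic A) (hidx : A.index = p) (u v : Q) :
    ⁅u, v⁆ ∈ omegaIn p A (comm_of_isCyclic A hA) := by
  set Z := omegaIn p A (comm_of_isCyclic A hA) with hZ
  haveI hZn : Z.Normal := omegaIn_normal p A (comm_of_isCyclic A hA)
  have hZA : Z ≤ A := fun z hz => hz.1
  have hstar : ∀ y : Q, ∀ x ∈ A, y * x * y⁻¹ * x⁻¹ ∈ Z := by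
    intro y x hx
    refine ⟨A.mul_mem (hAn.conj_mem x hx y) (A.inv_mem hx), ?_⟩
    exact comm_pow_eq_one p hodd hQ A hA hidx y x hx
  have hcardQA : Nat.card (Q ⧸ A) = p := by rw [← Subgroup.index_eq_card, hidx]
  haveI : IsCyclic (Q ⧸ A) := isCyclic_of_prime_card hcardQA
  let f : Q ⧸ Z →* Q ⧸ A := QuotientGroup.map Z A (MonoidHom.id Q) (by
    intro z hz; exact hZA hz)
  have hker : f.ker ≤ Subgroup.center (Q ⧸ Z) := by
    intro q hq
    induction q using QuotientGroup.induction_on with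
    | H q =>
      rw [MonoidHom.mem_ker] at hq
      have hq' : f (QuotientGroup.mk q) = QuotientGroup.mk q := rfl
      rw [hq', QuotientGroup.eq_one_iff] at hq
      rw [Subgroup.mem_center_iff]
      intro g
      induction g using QuotientGroup.induction_on with
      | H g =>
        rw [← QuotientGroup.mk_mul, ← QuotientGroup.mk_mul, QuotientGroup.eq]
        have h1 := hstar g⁻¹ q hq
        have h2 := hZn.conj_mem _ h1 q⁻¹
        have h3 : q⁻¹ * (g⁻¹ * q * g⁻¹⁻¹ * q⁻¹) * q⁻¹⁻¹ = (g * q)⁻¹ * (q * g) := by group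
        rw [h3] at h2
        exact h2
  have hcomm := f.isMulCommutative_of_isCyclic_of_ker_le_center hker
  have h4 := hcomm.is_comm.comm (QuotientGroup.mk v⁻¹ : Q ⧸ Z) (QuotientGroup.mk u⁻¹)
  rw [← QuotientGroup.mk_mul, ← QuotientGroup.mk_mul, QuotientGroup.eq] at h4
  have h5 : (v⁻¹ * u⁻¹)⁻¹ * (u⁻¹ * v⁻¹) = ⁅u, v⁆ := by
    rw [commutatorElement_def]; group
  rw [h5] at h4
  exact h4

/-- The `p`-th power map is multiplicative. -/
theorem mul_pow_p (hodd : p ≠ 2) (hQ : IsPGroup p Q) (A : Subgroup Q)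
    [hAn : A.Normal] (hA : IsCyclic A) (hidx : A.index = p) (u v : Q) :
    (u * v) ^ p = u ^ p * v ^ p := by
  have hZc := omegaIn_le_center p hQ A hA
  have hc : ∀ a b : Q, ⁅a, b⁆ ∈ Subgroup.center Q := fun a b =>
    hZc (commutator_mem_omegaIn p hodd hQ A hA hidx a b)
  have hpow : ∀ x : Q, x ^ p ∈ Subgroup.center Q := by
    intro x
    rw [Subgroup.mem_center_iff]
    intro w
    have hcm := commutator_mem_omegaIn p hodd hQ A hA hidx x w
    have hcc : ∀ y : Q, y * ⁅x, w⁆ = ⁅x, w⁆ * y := fun y =>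
      Subgroup.mem_center_iff.1 (hZc hcm) y
    have h1 : x * w = ⁅x, w⁆ * w * x := by rw [commutatorElement_def]; group
    have h2 := Cfsg.Agent.Lib.Helper4.GC.pow_mul_of_central_commutator x w ⁅x, w⁆ hcc h1 p
    rw [hcm.2, one_mul] at h2
    exact h2.symm
  exact Cfsg.Agent.Lib.Helper4.mul_pow_prime_of_central hodd hc hpow u v

end powmap

end Cfsg.Agent.Lib.Helper4.PC
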