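import Mathlib
import Cfsg.Agent.Lib.Helper4.PC2
import Cfsg.Agent.Lib.Helper4.PC4

set_option autoImplicit false

/-! In a noncyclic `p`-group (`p` odd) of order at least `p ^ 3` the number of cyclic subgroups of
index `p` is divisible by `p`. -/

namespace Cfsg.Agent.Lib.Helper4.PC

section cyc

variable {Q : Type*} [Group Q] [Finite Q] (p : ℕ) [hp : Fact p.Prime]

theorem mul_pow_p_pow (hodd : p ≠ 2) (hQ : IsPGroup p Q) (A : Subgroup Q)
    [hAn : A.Normal] (hA : IsCyclic A) (hidx : A.index = p) (k : ℕ) (u v : Q) :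
    (u * v) ^ (p ^ k) = u ^ (p ^ k) * v ^ (p ^ k) := by
  induction k with
  | zero => simp
  | succ k ih =>
    rw [pow_succ, pow_mul, pow_mul, pow_mul, ih, mul_pow_p p hodd hQ A hA hidx]

/-- the homomorphism `x ↦ x ^ (p ^ k)`. -/
def powHom (hodd : p ≠ 2) (hQ : IsPGroup p Q) (A : Subgroup Q)
    [hAn : A.Normal] (hA : IsCyclic A) (hidx : A.index = p) (k : ℕ) : Q →* Q where
  toFun x := x ^ (p ^ k)
  map_one' := one_pow _
  map_mul' := mul_pow_p_pow p hodd hQ A hA hidx k

theorem pow_card_div_eq_one (hQ : IsPGroup p Q) (hnc : ¬ IsCyclic Q) (n : ℕ)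
    (hcard : Nat.card Q = p ^ (n + 1)) (y : Q) : y ^ (p ^ n) = 1 := by
  obtain ⟨e, he⟩ : ∃ e, orderOf y = p ^ e := by
    obtain ⟨k, hk⟩ := hQ y
    exact (Nat.dvd_prime_pow hp.out).1 (orderOf_dvd_of_pow_eq_one hk) |>.imp fun _ h => h.2
  have h1 : orderOf y ∣ p ^ (n + 1) := by rw [← hcard]; exact orderOf_dvd_natCard y
  rw [he] at h1
  have h2 : e ≤ n + 1 := (Nat.pow_dvd_pow_iff_le_right hp.out.one_lt).1 h1
  have h3 : e ≠ n + 1 := by
    intro h
    apply hnc
    apply isCyclic_of_orderOf_eq_card y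
    rw [he, h, hcard]
  apply orderOf_dvd_iff_pow_eq_one.1
  rw [he]
  exact pow_dvd_pow p (by omega)

theorem card_cyclic_index_p (hodd : p ≠ 2) (hQ : IsPGroup p Q) (hnc : ¬ IsCyclic Q)
    (A : Subgroup Q) (hA : IsCyclic A) (hidx : A.index = p) (n : ℕ)
    (hcardA : Nat.card A = p ^ n) (hn : 2 ≤ n) :
    p ∣ Nat.card {M : Subgroup Q // M.index = p ∧ IsCyclic M} := by
  classical
  haveI hAn : A.Normal := normal_of_index_p p hQ A hidx
  have hcardQ : Nat.card Q = p ^ (n + 1) := by
    rw [← A.card_mul_index, hcardA, hidx, pow_succ]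
  set ψ := powHom p hodd hQ A hA hidx (n - 1) with hψ
  have hψapp : ∀ x, ψ x = x ^ (p ^ (n - 1)) := fun x => rfl
  set Z := omegaIn p A (comm_of_isCyclic A hA) with hZ
  -- range of ψ
  have hrange : ψ.range ≤ Z := by
    rintro _ ⟨y, rfl⟩
    rw [hψapp]
    refine ⟨?_, ?_⟩
    · have h1 : y ^ p ∈ A := by
        have := A.pow_index_mem y
        rwa [hidx] at this
      have h2 : y ^ (p ^ (n - 1)) = (y ^ p) ^ (p ^ (n - 2)) := by
        rw [← pow_mul, ← pow_succ']; congr 2; omega
      rw [h2]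
      exact A.pow_mem h1 _
    · rw [← pow_mul, ← pow_succ]
      have : n - 1 + 1 = n := by omega
      rw [this]
      exact pow_card_div_eq_one p hQ hnc n hcardQ y
  obtain ⟨⟨a, haA⟩, ha⟩ := hA.exists_generator
  have hoa : orderOf a = p ^ n := by
    have h1 : orderOf (⟨a, haA⟩ : A) = Nat.card A := orderOf_eq_card_of_forall_mem_zpowers ha
    rw [← hcardA, ← h1, Subgroup.orderOf_mk]
  have hψa : ψ a ≠ 1 := by
    rw [hψapp]
    intro h
    have h1 := orderOf_dvd_of_pow_eq_one h
    rw [hoa] at h1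
    have h2 := (Nat.pow_dvd_pow_iff_le_right hp.out.one_lt).1 h1
    omega
  have hrcard : Nat.card ψ.range = p := by
    have h1 : Nat.card ψ.range ∣ p :=
      (Subgroup.card_dvd_of_le hrange).trans (card_omegaIn_dvd p A hA)
    rcases (Nat.dvd_prime hp.out).1 h1 with h | h
    · exfalso
      have h2 : ψ.range = ⊥ := Subgroup.card_eq_one.1 h
      have h3 : ψ a ∈ ψ.range := ⟨a, rfl⟩
      rw [h2, Subgroup.mem_bot] at h3
      exact hψa h3
    · exact h
  have hKidx : ψ.ker.index = p := by rw [Subgroup.index_ker, hrcard]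
  -- the kernel is not cyclic
  have hKnc : ¬ IsCyclic ψ.ker := by
    intro hc
    obtain ⟨⟨y, hyK⟩, hy⟩ := hc.exists_generator
    have h1 : orderOf (⟨y, hyK⟩ : ψ.ker) = Nat.card ψ.ker :=
      orderOf_eq_card_of_forall_mem_zpowers hy
    rw [Subgroup.orderOf_mk] at h1
    have h2 : Nat.card ψ.ker = p ^ n := by
      have := ψ.ker.card_mul_index
      rw [hKidx, hcardQ, pow_succ] at this
      exact Nat.eq_of_mul_eq_mul_right hp.out.pos this
    rw [MonoidHom.mem_ker, hψapp] at hyK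
    have h3 := orderOf_dvd_of_pow_eq_one hyK
    rw [h1, h2] at h3
    have h4 := (Nat.pow_dvd_pow_iff_le_right hp.out.one_lt).1 h3
    omega
  -- every other subgroup of index `p` is cyclic
  have hcyc : ∀ M : Subgroup Q, M.index = p → M ≠ ψ.ker → IsCyclic M := by
    intro M hM hne
    have hnot : ¬ M ≤ ψ.ker := fun hle => hne (eq_of_le_of_index p M _ hle hM hKidx)
    obtain ⟨y, hyM, hyK⟩ := SetLike.not_le_iff_exists.1 hnot
    rw [MonoidHom.mem_ker, hψapp] at hyK
    have hMcard : Nat.card M = p ^ n := by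
      have := M.card_mul_index
      rw [hM, hcardQ, pow_succ] at this
      exact Nat.eq_of_mul_eq_mul_right hp.out.pos this
    obtain ⟨e, he⟩ : ∃ e, orderOf y = p ^ e := by
      obtain ⟨k, hk⟩ := hQ y
      exact (Nat.dvd_prime_pow hp.out).1 (orderOf_dvd_of_pow_eq_one hk) |>.imp fun _ h => h.2
    have h1 : orderOf (⟨y, hyM⟩ : M) ∣ p ^ n := by rw [← hMcard]; exact orderOf_dvd_natCard _
    rw [Subgroup.orderOf_mk, he] at h1
    have h2 := (Nat.pow_dvd_pow_iff_le_right hp.out.one_lt).1 h1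
    have h3 : ¬ e ≤ n - 1 := by
      intro hle
      apply hyK
      apply orderOf_dvd_iff_pow_eq_one.1
      rw [he]; exact pow_dvd_pow p hle
    have h4 : e = n := by omega
    apply isCyclic_of_orderOf_eq_card (⟨y, hyM⟩ : M)
    rw [Subgroup.orderOf_mk, he, h4, hMcard]
  -- counting
  have htot := card_index_p_modEq p hQ (⊥ : Subgroup Q) (by
    intro h
    have h1 : Nat.card Q = 1 := by
      rw [← Subgroup.card_top (G := Q), ← h, Subgroup.card_bot]
    rw [hcardQ] at h1
    have : 1 < p ^ (n + 1) := Nat.one_lt_pow (by omega) hp.out.one_lt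
    omega)
  letI : Fintype (Subgroup Q) := Fintype.ofFinite _
  have e1 : Nat.card {M : Subgroup Q // M.index = p ∧ ⊥ ≤ M} =
      (Finset.univ.filter (fun M : Subgroup Q => M.index = p)).card := by
    rw [Nat.card_eq_fintype_card, Fintype.card_subtype]
    congr 1
    ext M
    simp
  have e2 : Nat.card {M : Subgroup Q // M.index = p ∧ IsCyclic M} =
      ((Finset.univ.filter (fun M : Subgroup Q => M.index = p)).erase ψ.ker).card := by
    rw [Nat.card_eq_fintype_card, Fintype.card_subtype]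
    congr 1
    ext M
    rw [Finset.mem_filter, Finset.mem_erase, Finset.mem_filter]
    constructor
    · rintro ⟨-, h1, h2⟩
      refine ⟨?_, Finset.mem_univ _, h1⟩
      rintro rfl
      exact hKnc h2
    · rintro ⟨h1, -, h2⟩
      exact ⟨Finset.mem_univ _, h2, hcyc M h2 h1⟩
  have hmem : ψ.ker ∈ Finset.univ.filter (fun M : Subgroup Q => M.index = p) := by
    rw [Finset.mem_filter]; exact ⟨Finset.mem_univ _, hKidx⟩
  rw [e1] at htot
  rw [e2, Finset.card_erase_of_mem hmem]
  set c := (Finset.univ.filter (fun M : Subgroup Q => M.index = p)).card with hc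
  have hcpos : 0 < c := Finset.card_pos.2 ⟨_, hmem⟩
  have h5 : c - 1 ≡ 0 [MOD p] := by
    have h6 : c - 1 + 1 ≡ 0 + 1 [MOD p] := by
      rw [Nat.sub_add_cancel hcpos, zero_add]; exact htot
    exact Nat.ModEq.add_right_cancel' 1 h6
  exact (Nat.modEq_zero_iff_dvd).1 h5

end cyc

end Cfsg.Agent.Lib.Helper4.PC
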