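import Mathlib
import Cfsg.Agent.Lib.Helper4.PC5
import Cfsg.Agent.Lib.Helper4.CyclicUnique

set_option autoImplicit false

/-! Miller's theorem: in a noncyclic `p`-group, `p` odd, the number of cyclic subgroups of order
`p ^ s`, `s ≥ 2`, is divisible by `p`. -/

namespace Cfsg.Agent.Lib.Helper4.PC

section transfer

variable {Q : Type*} [Group Q]

/-- cyclic subgroups of a subgroup `M`, viewed inside the ambient group. -/
noncomputable def cyclicSubEquiv (M : Subgroup Q) (k : ℕ) :
    {Z : Subgroup Q // Z ≤ M ∧ IsCyclic Z ∧ Nat.card Z = k} ≃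
      {Z' : Subgroup M // IsCyclic Z' ∧ Nat.card Z' = k} where
  toFun Z := ⟨Z.1.subgroupOf M, by
    obtain ⟨Z, h1, h2, h3⟩ := Z
    let e := Subgroup.subgroupOfEquivOfLe h1
    refine ⟨?_, ?_⟩
    · haveI := h2
      exact isCyclic_of_surjective e.symm.toMonoidHom e.symm.surjective
    · exact (Nat.card_congr e.toEquiv).trans h3⟩
  invFun Z' := ⟨Z'.1.map M.subtype, by
    obtain ⟨Z', h2, h3⟩ := Z'
    let e := Subgroup.equivMapOfInjective Z' M.subtype M.subtype_injective
    refine ⟨Subgroup.map_subtype_le Z', ?_, ?_⟩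
    · haveI := h2
      exact isCyclic_of_surjective e.toMonoidHom e.surjective
    · exact (Nat.card_congr e.symm.toEquiv).trans h3⟩
  left_inv Z := by
    apply Subtype.ext
    exact Subgroup.map_subgroupOf_eq_of_le Z.2.1
  right_inv Z' := by
    apply Subtype.ext
    exact Subgroup.comap_map_eq_self_of_injective M.subtype_injective Z'.1

end transfer

section miller

universe u

theorem miller_aux (p : ℕ) [hp : Fact p.Prime] (hodd : p ≠ 2) (s : ℕ) (hs : 2 ≤ s) (N : ℕ) :
    ∀ (Q : Type u) [Group Q] [Finite Q], Nat.card Q = N → IsPGroup p Q → ¬ IsCyclic Q →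
      p ∣ Nat.card {Z : Subgroup Q // IsCyclic Z ∧ Nat.card Z = p ^ s} := by
  induction N using Nat.strong_induction_on with
  | _ N ih =>
  intro Q _ _ hN hQ hnc
  classical
  obtain ⟨m, hm⟩ := IsPGroup.iff_card.1 hQ
  by_cases hsm : m ≤ s
  · -- no such subgroup
    have hempty : IsEmpty {Z : Subgroup Q // IsCyclic Z ∧ Nat.card Z = p ^ s} := by
      refine ⟨fun ⟨Z, hZc, hZ⟩ => hnc ?_⟩
      have h1 : Nat.card Z ≤ Nat.card Q := Subgroup.card_le_card_group Z
      rw [hZ, hm] at h1
      have h2 : s ≤ m := (Nat.pow_le_pow_iff_right hp.out.one_lt).1 h1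
      have h3 : Z = ⊤ := by
        apply Subgroup.eq_top_of_card_eq
        rw [hZ, hm]; congr 1; omega
      rw [h3] at hZc
      haveI := hZc
      exact isCyclic_of_surjective (Subgroup.topEquiv : (⊤ : Subgroup Q) ≃* Q).toMonoidHom
        Subgroup.topEquiv.surjective
    rw [Nat.card_of_isEmpty]
    exact dvd_zero p
  push Not at hsm
  letI : Fintype (Subgroup Q) := Fintype.ofFinite _
  set 𝒵 : Finset (Subgroup Q) :=
    Finset.univ.filter (fun Z => IsCyclic Z ∧ Nat.card Z = p ^ s) with h𝒵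
  set ℳ : Finset (Subgroup Q) := Finset.univ.filter (fun M => M.index = p) with hℳ
  have hdc := Finset.sum_card_bipartiteAbove_eq_sum_card_bipartiteBelow
    (s := 𝒵) (t := ℳ) (fun Z M : Subgroup Q => Z ≤ M)
  -- left side
  have hL : ∀ Z ∈ 𝒵, ((ℳ.bipartiteAbove (fun Z M : Subgroup Q => Z ≤ M) Z).card : ZMod p) = 1 := by
    intro Z hZ
    rw [h𝒵, Finset.mem_filter] at hZ
    have hZtop : Z ≠ ⊤ := by
      rintro rfl
      apply hnc
      haveI := hZ.2.1
      exact isCyclic_of_surjective (Subgroup.topEquiv : (⊤ : Subgroup Q) ≃* Q).toMonoidHom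
        Subgroup.topEquiv.surjective
    have h1 := card_index_p_modEq p hQ Z hZtop
    have h2 : (ℳ.bipartiteAbove (fun Z M : Subgroup Q => Z ≤ M) Z).card =
        Nat.card {M : Subgroup Q // M.index = p ∧ Z ≤ M} := by
      rw [Nat.card_eq_fintype_card, Fintype.card_subtype]
      congr 1
      ext M
      rw [Finset.mem_bipartiteAbove, hℳ, Finset.mem_filter, Finset.mem_filter]
      tauto
    rw [h2]
    have := (ZMod.natCast_eq_natCast_iff _ _ p).2 h1
    rwa [Nat.cast_one] at this
  -- right side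
  have hR : ∀ M ∈ ℳ, ((𝒵.bipartiteBelow (fun Z M : Subgroup Q => Z ≤ M) M).card : ZMod p) =
      if IsCyclic M then 1 else 0 := by
    intro M hM
    rw [hℳ, Finset.mem_filter] at hM
    have hMcard : Nat.card M = p ^ (m - 1) := by
      have := M.card_mul_index
      rw [hM.2, hm] at this
      have h2 : p ^ m = p ^ (m - 1) * p := by rw [← pow_succ]; congr 1; omega
      rw [h2] at this
      exact Nat.eq_of_mul_eq_mul_right hp.out.pos this
    have h2 : (𝒵.bipartiteBelow (fun Z M : Subgroup Q => Z ≤ M) M).card =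
        Nat.card {Z : Subgroup Q // Z ≤ M ∧ IsCyclic Z ∧ Nat.card Z = p ^ s} := by
      rw [Nat.card_eq_fintype_card, Fintype.card_subtype]
      congr 1
      ext Z
      rw [Finset.mem_bipartiteBelow, h𝒵, Finset.mem_filter, Finset.mem_filter]
      tauto
    rw [h2]
    split_ifs with hc
    · -- exactly one
      have hdvd : p ^ s ∣ Nat.card M := by rw [hMcard]; exact pow_dvd_pow p (by omega)
      obtain ⟨Z₀', hZ₀'⟩ := Sylow.exists_subgroup_card_pow_prime p hdvd
      set Z₀ : Subgroup Q := Z₀'.map M.subtype with hZ₀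
      have hZ₀M : Z₀ ≤ M := Subgroup.map_subtype_le Z₀'
      have hZ₀card : Nat.card Z₀ = p ^ s := by
        rw [hZ₀, Subgroup.card_map_of_injective M.subtype_injective, hZ₀']
      have hZ₀cyc : IsCyclic Z₀ := by
        haveI := hc
        exact Subgroup.isCyclic_of_le hZ₀M
      have hone : Nat.card {Z : Subgroup Q // Z ≤ M ∧ IsCyclic Z ∧ Nat.card Z = p ^ s} = 1 := by
        rw [Nat.card_eq_one_iff_unique]
        refine ⟨⟨fun Z₁ Z₂ => ?_⟩, ⟨⟨Z₀, hZ₀M, hZ₀cyc, hZ₀card⟩⟩⟩
        apply Subtype.ext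
        exact subgroup_eq_of_card_eq_of_le_cyclic M Z₁.1 Z₂.1 hc Z₁.2.1 Z₂.2.1
          (Z₁.2.2.2.trans Z₂.2.2.2.symm)
      rw [hone, Nat.cast_one]
    · -- induction
      rw [Nat.card_congr (cyclicSubEquiv M (p ^ s))]
      have hlt : Nat.card M < N := by
        rw [← hN, hMcard, hm]
        exact Nat.pow_lt_pow_right hp.out.one_lt (by omega)
      have := ih _ hlt M rfl (hQ.to_subgroup M) hc
      exact (ZMod.natCast_eq_zero_iff _ _).2 this
  have hcast := congrArg (fun x : ℕ => (x : ZMod p)) hdc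
  simp only [Nat.cast_sum] at hcast
  rw [Finset.sum_congr rfl hL, Finset.sum_congr rfl hR, Finset.sum_const, Finset.sum_boole,
    nsmul_eq_mul, mul_one] at hcast
  -- the number of cyclic maximal subgroups
  have hcyc : ((ℳ.filter (fun M : Subgroup Q => IsCyclic ↥M)).card : ZMod p) = 0 := by
    rw [ZMod.natCast_eq_zero_iff]
    by_cases hex : ∃ A : Subgroup Q, A.index = p ∧ IsCyclic A
    · obtain ⟨A, hAidx, hAc⟩ := hex
      have hAcard : Nat.card A = p ^ (m - 1) := by
        have := A.card_mul_index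
        rw [hAidx, hm] at this
        have h2 : p ^ m = p ^ (m - 1) * p := by rw [← pow_succ]; congr 1; omega
        rw [h2] at this
        exact Nat.eq_of_mul_eq_mul_right hp.out.pos this
      have := card_cyclic_index_p p hodd hQ hnc A hAc hAidx (m - 1) hAcard (by omega)
      have h2 : (ℳ.filter (fun M : Subgroup Q => IsCyclic ↥M)).card =
          Nat.card {M : Subgroup Q // M.index = p ∧ IsCyclic M} := by
        rw [Nat.card_eq_fintype_card, Fintype.card_subtype]
        congr 1
        ext M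
        rw [Finset.mem_filter, hℳ, Finset.mem_filter, Finset.mem_filter]
        tauto
      rw [h2]; exact this
    · have h2 : ℳ.filter (fun M : Subgroup Q => IsCyclic ↥M) = ∅ := by
        rw [Finset.filter_eq_empty_iff]
        intro M hM hc
        rw [hℳ, Finset.mem_filter] at hM
        exact hex ⟨M, hM.2, hc⟩
      rw [h2, Finset.card_empty]
      exact dvd_zero p
  rw [hcyc] at hcast
  have h3 : Nat.card {Z : Subgroup Q // IsCyclic Z ∧ Nat.card Z = p ^ s} = 𝒵.card := by
    rw [Nat.card_eq_fintype_card, Fintype.card_subtype]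
  rw [h3, ← ZMod.natCast_eq_zero_iff]
  exact hcast

/-- **Miller's theorem.** -/
theorem miller {Q : Type u} [Group Q] [Finite Q] (p : ℕ) [Fact p.Prime] (hodd : p ≠ 2)
    (hQ : IsPGroup p Q) (hnc : ¬ IsCyclic Q) (s : ℕ) (hs : 2 ≤ s) :
    p ∣ Nat.card {Z : Subgroup Q // IsCyclic Z ∧ Nat.card Z = p ^ s} :=
  miller_aux p hodd s hs _ Q rfl hQ hnc

end miller

end Cfsg.Agent.Lib.Helper4.PC
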