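import Mathlib
import Cfsg.Agent.Lib.Helper4.PC6
import Cfsg.Agent.Lib.Helper8.GA1

set_option autoImplicit false

/-! Cyclic subgroups of order `p ^ s` in a finite group with noncyclic Sylow `p`-subgroups. -/

namespace Cfsg.Agent.Lib.Helper4.PC

open scoped Pointwise

section general

universe u

variable {X : Type u} [Group X] [Finite X]

theorem mem_normalizer_of_conj_smul_eq (Z : Subgroup X) (g : X) (h : MulAut.conj g • Z = Z) :
    g ∈ Subgroup.normalizer (Z : Set X) := by
  rw [Subgroup.mem_normalizer_iff]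
  intro z
  have h1 : MulAut.conj g • z ∈ MulAut.conj g • Z ↔ z ∈ Z := Subgroup.smul_mem_pointwise_smul_iff
  rw [h, MulAut.smul_def, MulAut.conj_apply] at h1
  exact h1.symm

theorem card_cyclic_dvd (p : ℕ) [hp : Fact p.Prime] (hodd : p ≠ 2)
    (P : Sylow p X) (hP : ¬ IsCyclic ↥(P : Subgroup X)) (s : ℕ) (hs : 2 ≤ s) :
    p ∣ Nat.card {Z : Subgroup X // IsCyclic Z ∧ Nat.card Z = p ^ s} := by
  classical
  letI : Fintype (Subgroup X) := Fintype.ofFinite _
  letI : MulAction ↥(P : Subgroup X) (Subgroup X) :=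
    MulAction.compHom (Subgroup X) ((MulAut.conj : X →* MulAut X).comp (P : Subgroup X).subtype)
  have hsmul : ∀ (x : ↥(P : Subgroup X)) (Z : Subgroup X), x • Z = MulAut.conj (x : X) • Z :=
    fun _ _ => rfl
  have hPp : IsPGroup p ↥(P : Subgroup X) := P.isPGroup'
  let F₁ : Subgroup X → ℤ := fun Z => if IsCyclic Z ∧ Nat.card Z = p ^ s then 1 else 0
  let F₂ : Subgroup X → ℤ :=
    fun Z => if Z ≤ (P : Subgroup X) ∧ IsCyclic Z ∧ Nat.card Z = p ^ s then 1 else 0
  have hinv : ∀ (x : ↥(P : Subgroup X)) (Z : Subgroup X),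
      (IsCyclic ↥(x • Z) ∧ Nat.card ↥(x • Z) = p ^ s) ↔ (IsCyclic Z ∧ Nat.card Z = p ^ s) := by
    intro x Z
    rw [hsmul]
    let e := Subgroup.equivSMul (MulAut.conj (x : X)) Z
    have hc : Nat.card ↥(MulAut.conj (x : X) • Z) = Nat.card Z := (Nat.card_congr e.toEquiv).symm
    rw [hc]
    constructor
    · rintro ⟨h1, h2⟩
      haveI := h1
      exact ⟨isCyclic_of_surjective e.symm.toMonoidHom e.symm.surjective, h2⟩
    · rintro ⟨h1, h2⟩
      haveI := h1
      exact ⟨isCyclic_of_surjective e.toMonoidHom e.surjective, h2⟩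
  have hle : ∀ (x : ↥(P : Subgroup X)) (Z : Subgroup X),
      Z ≤ (P : Subgroup X) → x • Z ≤ (P : Subgroup X) := by
    intro x Z hZ z hz
    rw [hsmul, Subgroup.mem_pointwise_smul_iff_inv_smul_mem] at hz
    have h1 := hZ hz
    rw [MulAut.smul_def, ← map_inv, MulAut.conj_apply] at h1
    have h2 : z = (x : X) * ((x : X)⁻¹ * z * ((x : X)⁻¹)⁻¹) * (x : X)⁻¹ := by group
    rw [h2]
    exact (P : Subgroup X).mul_mem ((P : Subgroup X).mul_mem x.2 h1) ((P : Subgroup X).inv_mem x.2)
  have hF₁ : ∀ (x : ↥(P : Subgroup X)) (Z : Subgroup X), F₁ (x • Z) = F₁ Z := by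
    intro x Z
    simp only [F₁]
    rw [if_congr (hinv x Z) rfl rfl]
  have hF₂ : ∀ (x : ↥(P : Subgroup X)) (Z : Subgroup X), F₂ (x • Z) = F₂ Z := by
    intro x Z
    simp only [F₂]
    have hiff : (x • Z ≤ (P : Subgroup X) ∧ IsCyclic ↥(x • Z) ∧ Nat.card ↥(x • Z) = p ^ s) ↔
        (Z ≤ (P : Subgroup X) ∧ IsCyclic Z ∧ Nat.card Z = p ^ s) := by
      constructor
      · rintro ⟨h1, h2⟩
        refine ⟨?_, (hinv x Z).1 h2⟩
        have := hle x⁻¹ _ h1
        rwa [inv_smul_smul] at this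
      · rintro ⟨h1, h2⟩
        exact ⟨hle x Z h1, (hinv x Z).2 h2⟩
    rw [if_congr hiff rfl rfl]
  let Fix : Subgroup X → Prop := fun Z => ∀ x : ↥(P : Subgroup X), x • Z = Z
  have h1 := Cfsg.Agent.Lib.Helper8.sum_modEq_sum_fixedPoints hPp Fix (fun _ => Iff.rfl) F₁ hF₁
  have h2 := Cfsg.Agent.Lib.Helper8.sum_modEq_sum_fixedPoints hPp Fix (fun _ => Iff.rfl) F₂ hF₂
  -- on fixed points the two functions agree
  have hagree : ∑ Z ∈ Finset.univ.filter Fix, F₁ Z = ∑ Z ∈ Finset.univ.filter Fix, F₂ Z := by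
    apply Finset.sum_congr rfl
    intro Z hZ
    rw [Finset.mem_filter] at hZ
    have hfix : ∀ x : ↥(P : Subgroup X), x • Z = Z := hZ.2
    simp only [F₁, F₂]
    apply if_congr _ rfl rfl
    constructor
    · rintro ⟨hc, hcard⟩
      refine ⟨?_, hc, hcard⟩
      have hZp : IsPGroup p Z := IsPGroup.of_card hcard
      have hPN : (P : Subgroup X) ≤ Subgroup.normalizer (Z : Set X) := by
        intro x hx
        apply mem_normalizer_of_conj_smul_eq
        have := hfix ⟨x, hx⟩
        rwa [hsmul] at this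
      have hsup : IsPGroup p ((P : Subgroup X) ⊔ Z : Subgroup X) :=
        IsPGroup.to_sup_of_normal_right' hPp hZp hPN
      have := P.is_maximal' hsup le_sup_left
      rw [← this]
      exact le_sup_right
    · rintro ⟨-, hc, hcard⟩
      exact ⟨hc, hcard⟩
  -- totals
  have hsum₁ : ∑ Z, F₁ Z = (Nat.card {Z : Subgroup X // IsCyclic Z ∧ Nat.card Z = p ^ s} : ℤ) := by
    simp only [F₁]
    rw [Finset.sum_boole, Nat.card_eq_fintype_card, Fintype.card_subtype]
  have hsum₂ : ∑ Z, F₂ Z =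
      (Nat.card {Z : Subgroup X // Z ≤ (P : Subgroup X) ∧ IsCyclic Z ∧ Nat.card Z = p ^ s} : ℤ) := by
    simp only [F₂]
    rw [Finset.sum_boole, Nat.card_eq_fintype_card, Fintype.card_subtype]
  have hmiller : (p : ℤ) ∣
      (Nat.card {Z : Subgroup X // Z ≤ (P : Subgroup X) ∧ IsCyclic Z ∧ Nat.card Z = p ^ s} : ℤ) := by
    rw [Nat.card_congr (cyclicSubEquiv (P : Subgroup X) (p ^ s))]
    exact Int.natCast_dvd_natCast.2 (miller p hodd hPp hP s hs)
  rw [hsum₁] at h1
  rw [hsum₂] at h2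
  have h3 : (Nat.card {Z : Subgroup X // IsCyclic Z ∧ Nat.card Z = p ^ s} : ℤ) ≡ 0 [ZMOD p] := by
    refine h1.trans ?_
    rw [hagree]
    refine h2.symm.trans ?_
    exact (Int.modEq_zero_iff_dvd).2 hmiller
  exact Int.natCast_dvd_natCast.1 ((Int.modEq_zero_iff_dvd).1 h3)

end general

section elements

variable {X : Type*} [Group X] [Finite X]

/-- the number of elements of order `d` is `φ(d)` times the number of cyclic subgroups of
order `d`. -/
theorem card_orderOf_eq (d : ℕ) (hd : 0 < d) :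
    Nat.card {u : X // orderOf u = d} =
      Nat.totient d * Nat.card {Z : Subgroup X // IsCyclic Z ∧ Nat.card Z = d} := by
  classical
  letI : Fintype X := Fintype.ofFinite _
  letI : Fintype (Subgroup X) := Fintype.ofFinite _
  set S : Finset X := Finset.univ.filter (fun u => orderOf u = d) with hS
  set T : Finset (Subgroup X) := Finset.univ.filter (fun Z => IsCyclic Z ∧ Nat.card Z = d) with hT
  have hmap : ∀ u ∈ S, Subgroup.zpowers u ∈ T := by
    intro u hu
    rw [hS, Finset.mem_filter] at hu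
    rw [hT, Finset.mem_filter]
    refine ⟨Finset.mem_univ _, inferInstance, ?_⟩
    rw [Nat.card_zpowers, hu.2]
  have hcard := Finset.card_eq_sum_card_fiberwise hmap
  have hfib : ∀ Z ∈ T, (S.filter (fun u => Subgroup.zpowers u = Z)).card = Nat.totient d := by
    intro Z hZ
    rw [hT, Finset.mem_filter] at hZ
    obtain ⟨-, hZc, hZcard⟩ := hZ
    haveI := hZc
    letI : Fintype Z := Fintype.ofFinite _
    have h1 : (Finset.univ.filter (fun u' : Z => orderOf u' = d)).card = Nat.totient d := by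
      apply IsCyclic.card_orderOf_eq_totient
      rw [← Nat.card_eq_fintype_card, hZcard]
    rw [← h1]
    symm
    apply Finset.card_bij (fun (u' : Z) _ => (u' : X))
    · intro u' hu'
      rw [Finset.mem_filter] at hu'
      rw [Finset.mem_filter, hS, Finset.mem_filter]
      have ho : orderOf (u' : X) = d := by rw [Subgroup.orderOf_coe]; exact hu'.2
      refine ⟨⟨Finset.mem_univ _, ho⟩, ?_⟩
      apply Subgroup.eq_of_le_of_card_ge
      · rw [Subgroup.zpowers_le]; exact u'.2
      · rw [Nat.card_zpowers, ho, hZcard]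
    · intro a _ b _ hab
      exact Subtype.ext hab
    · intro u hu
      rw [Finset.mem_filter, hS, Finset.mem_filter] at hu
      have hmem : u ∈ Z := by rw [← hu.2]; exact Subgroup.mem_zpowers u
      refine ⟨⟨u, hmem⟩, ?_, rfl⟩
      rw [Finset.mem_filter]
      refine ⟨Finset.mem_univ _, ?_⟩
      rw [← Subgroup.orderOf_coe]
      exact hu.1.2
  rw [Finset.sum_congr rfl hfib, Finset.sum_const, smul_eq_mul] at hcard
  have e1 : Nat.card {u : X // orderOf u = d} = S.card := by
    rw [Nat.card_eq_fintype_card, Fintype.card_subtype]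
  have e2 : Nat.card {Z : Subgroup X // IsCyclic Z ∧ Nat.card Z = d} = T.card := by
    rw [Nat.card_eq_fintype_card, Fintype.card_subtype]
  rw [e1, e2, hcard, mul_comm]

end elements

end Cfsg.Agent.Lib.Helper4.PC
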