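import Mathlib
import Cfsg.Agent.Lib.Helper4.Kul1
import Cfsg.Agent.Lib.Helper4.PC7
import Cfsg.Agent.Lib.Lead.MaxClass7

set_option autoImplicit false

/-! Cyclic subgroups of a `2`-group of maximal class. -/

namespace Cfsg.Agent.Lib.Helper4.Kul

open scoped Classical

universe u

section maxclass

variable {X : Type u} [Group X] [Finite X]

/-- outside a cyclic maximal subgroup of a `2`-group with abelianization of order `4`, every
element has fourth power `1`. -/
theorem pow_four_eq_one_of_not_mem (hidx : (commutator X).index = 4) (C : Subgroup X)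
    (hCcyc : IsCyclic C) (hCidx : C.index = 2) (x : X) (hxC : x ∉ C) : x ^ 4 = 1 := by
  have h1 := Cfsg.Agent.Lib.Lead.card_inf_centralizer_of_index_commutator hidx C hCcyc hCidx x hxC
  have h2 : x ^ 2 ∈ (C ⊓ Subgroup.centralizer {x} : Subgroup X) := by
    refine ⟨Subgroup.sq_mem_of_index_two hCidx x, ?_⟩
    change x ^ 2 ∈ Subgroup.centralizer {x}
    rw [Subgroup.mem_centralizer_iff]
    intro w hw
    rw [Set.mem_singleton_iff] at hw
    rw [hw, ← pow_succ', ← pow_succ]
  have h3 : (⟨x ^ 2, h2⟩ : (C ⊓ Subgroup.centralizer {x} : Subgroup X)) ^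
      Nat.card (C ⊓ Subgroup.centralizer {x} : Subgroup X) = 1 := pow_card_eq_one'
  rw [h1] at h3
  have h4 := congrArg Subtype.val h3
  simp only [Subgroup.coe_pow, Subgroup.coe_one] at h4
  rw [← h4, ← pow_mul]

/-- the number of elements of order `d` inside a cyclic subgroup `C`, for `d ∣ |C|`. -/
theorem card_orderOf_mem_cyclic (C : Subgroup X) (hCcyc : IsCyclic C) (d : ℕ)
    (hd : d ∣ Nat.card C) :
    Nat.card {u : X // orderOf u = d ∧ u ∈ C} = Nat.totient d := by
  haveI := hCcyc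
  letI : Fintype C := Fintype.ofFinite _
  have h1 : (Finset.univ.filter (fun u' : C => orderOf u' = d)).card = Nat.totient d := by
    apply IsCyclic.card_orderOf_eq_totient
    rwa [← Nat.card_eq_fintype_card]
  rw [← h1, ← Fintype.card_subtype, ← Nat.card_eq_fintype_card]
  apply Nat.card_congr
  exact
    { toFun := fun u => ⟨⟨u.1, u.2.2⟩, by rw [← Subgroup.orderOf_coe]; exact u.2.1⟩
      invFun := fun u' => ⟨u'.1.1, by rw [Subgroup.orderOf_coe]; exact u'.2, u'.1.2⟩
      left_inv := fun _ => rfl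
      right_inv := fun _ => rfl }

theorem card_split_mem (C : Subgroup X) (d : ℕ) :
    Nat.card {u : X // orderOf u = d} =
      Nat.card {u : X // orderOf u = d ∧ u ∈ C} + Nat.card {u : X // orderOf u = d ∧ u ∉ C} := by
  letI : Fintype X := Fintype.ofFinite X
  simp only [Nat.card_eq_fintype_card, Fintype.card_subtype]
  rw [← Finset.card_filter_add_card_filter_not (s := Finset.univ.filter (fun u : X => orderOf u = d))
    (fun u => u ∈ C), Finset.filter_filter, Finset.filter_filter]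

/-- no element of order `2 ^ n`, `n ≥ 3`, outside the cyclic maximal subgroup. -/
theorem isEmpty_orderOf_not_mem (hidx : (commutator X).index = 4) (C : Subgroup X)
    (hCcyc : IsCyclic C) (hCidx : C.index = 2) (n : ℕ) (hn : 3 ≤ n) :
    IsEmpty {u : X // orderOf u = 2 ^ n ∧ u ∉ C} := by
  constructor
  rintro ⟨u, hu, huC⟩
  have h1 := pow_four_eq_one_of_not_mem hidx C hCcyc hCidx u huC
  have h2 : orderOf u ∣ 4 := orderOf_dvd_of_pow_eq_one h1
  have h3 : orderOf u ≤ 4 := Nat.le_of_dvd (by norm_num) h2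
  have h4 : 2 ^ 3 ≤ 2 ^ n := Nat.pow_le_pow_right (by norm_num) hn
  omega

theorem card_not_mem_of_index_two (C : Subgroup X) (hCidx : C.index = 2) :
    Nat.card {u : X // u ∉ C} = Nat.card C := by
  have h1 : Nat.card C * 2 = Nat.card X := by rw [← hCidx]; exact C.card_mul_index
  have h2 : Nat.card {u : X // u ∈ C} + Nat.card {u : X // u ∉ C} = Nat.card X := by
    letI : Fintype X := Fintype.ofFinite X
    simp only [Nat.card_eq_fintype_card, Fintype.card_subtype]
    rw [Finset.card_filter_add_card_filter_not]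
    rfl
  have h3 : Nat.card {u : X // u ∈ C} = Nat.card C := rfl
  omega

/-- the involutions (and `1`-less squares) outside `C` are `0` modulo `4` in number. -/
theorem four_dvd_card_sq_eq_one (k : ℕ) (hk : 3 ≤ k) (hX : Nat.card X = 2 ^ k)
    (hidx : (commutator X).index = 4) (C : Subgroup X)
    (hCcyc : IsCyclic C) (hCidx : C.index = 2) :
    4 ∣ Nat.card {u : X // u ∉ C ∧ u ^ 2 = 1} := by
  by_cases hemp : IsEmpty {u : X // u ∉ C ∧ u ^ 2 = 1}
  · rw [Nat.card_of_isEmpty]; exact dvd_zero 4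
  rw [not_isEmpty_iff] at hemp
  obtain ⟨x₀, hx₀C, hx₀2⟩ := hemp
  haveI hCn : C.Normal := Subgroup.normal_of_index_eq_two hCidx
  have hCcomm : ∀ a ∈ C, ∀ b ∈ C, a * b = b * a := by
    intro a ha b hb
    haveI := hCcyc
    letI : CommGroup C := IsCyclic.commGroup
    exact congrArg Subtype.val (mul_comm (⟨a, ha⟩ : C) ⟨b, hb⟩)
  have hx₀inv : x₀⁻¹ = x₀ := by
    rw [inv_eq_iff_mul_eq_one, ← pow_two]; exact hx₀2
  -- the subgroup of `C` inverted by `x₀`
  let K : Subgroup X :=
    { carrier := {c | c ∈ C ∧ x₀⁻¹ * c * x₀ = c⁻¹}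
      one_mem' := ⟨C.one_mem, by simp⟩
      mul_mem' := by
        rintro a b ⟨ha, ha'⟩ ⟨hb, hb'⟩
        refine ⟨C.mul_mem ha hb, ?_⟩
        have h1 : x₀⁻¹ * (a * b) * x₀ = (x₀⁻¹ * a * x₀) * (x₀⁻¹ * b * x₀) := by group
        rw [h1, ha', hb', mul_inv_rev]
        exact hCcomm _ (C.inv_mem ha) _ (C.inv_mem hb)
      inv_mem' := by
        rintro a ⟨ha, ha'⟩
        refine ⟨C.inv_mem ha, ?_⟩
        have h1 : x₀⁻¹ * a⁻¹ * x₀ = (x₀⁻¹ * a * x₀)⁻¹ := by group
        rw [h1, ha'] }
  have hKmem : ∀ c : X, c ∈ K ↔ c ∈ C ∧ x₀⁻¹ * c * x₀ = c⁻¹ := fun c => Iff.rfl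
  -- the bijection
  have hcard : Nat.card {u : X // u ∉ C ∧ u ^ 2 = 1} = Nat.card K := by
    symm
    apply Nat.card_congr
    refine
      { toFun := fun c => ⟨x₀ * c.1, ?_, ?_⟩
        invFun := fun u => ⟨x₀⁻¹ * u.1, ?_⟩
        left_inv := fun c => by apply Subtype.ext; simp
        right_inv := fun u => by apply Subtype.ext; simp }
    · intro h
      have hc := ((hKmem _).1 c.2).1
      exact hx₀C ((Subgroup.mul_mem_cancel_right C hc).1 h)
    · obtain ⟨hc, hc'⟩ := (hKmem _).1 c.2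
      have h1 : (x₀ * c.1) ^ 2 = x₀ ^ 2 * ((x₀⁻¹ * c.1 * x₀) * c.1) := by
        rw [pow_two, pow_two]; group
      rw [h1, hc', hx₀2, inv_mul_cancel, mul_one]
    · rw [hKmem]
      obtain ⟨huC, hu2⟩ := u.2
      have hc : x₀⁻¹ * u.1 ∈ C := by
        rw [Subgroup.mul_mem_iff_of_index_two hCidx]
        constructor
        · intro h; exact absurd (C.inv_mem_iff.1 h) hx₀C
        · intro h; exact absurd h huC
      refine ⟨hc, ?_⟩
      have h1 : u.1 * u.1 = 1 := by rw [← pow_two]; exact hu2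
      have h2 : u.1⁻¹ = u.1 := by rw [inv_eq_iff_mul_eq_one]; exact h1
      have h3 : x₀ * x₀ = 1 := by rw [← pow_two]; exact hx₀2
      rw [mul_inv_rev, inv_inv, h2, hx₀inv]
      calc x₀ * (x₀ * u.1) * x₀ = (x₀ * x₀) * u.1 * x₀ := by group
        _ = u.1 * x₀ := by rw [h3, one_mul]
  rw [hcard]
  -- an element of order four in `C` lies in `K`
  have hCcard : Nat.card C = 2 ^ (k - 1) := by
    have h1 : Nat.card C * 2 = Nat.card X := by rw [← hCidx]; exact C.card_mul_index
    have h2 : (2 : ℕ) ^ k = 2 ^ (k - 1) * 2 := by rw [← pow_succ]; congr 1; omega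
    rw [hX, h2] at h1
    exact Nat.eq_of_mul_eq_mul_right (by norm_num) h1
  have h4C : 4 ∣ Nat.card C := by
    rw [hCcard]
    have : (4 : ℕ) = 2 ^ 2 := by norm_num
    rw [this]
    exact pow_dvd_pow 2 (by omega)
  have hex : ∃ c₄ : X, c₄ ∈ C ∧ orderOf c₄ = 4 := by
    have h1 := card_orderOf_mem_cyclic C hCcyc 4 h4C
    have h2 : Nat.totient 4 = 2 := by decide
    rw [h2] at h1
    have hne : Nonempty {u : X // orderOf u = 4 ∧ u ∈ C} := by
      by_contra hcon
      rw [not_nonempty_iff] at hcon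
      rw [Nat.card_of_isEmpty] at h1
      omega
    obtain ⟨u, hu, huC⟩ := hne
    exact ⟨u, huC, hu⟩
  obtain ⟨c₄, hc₄C, hc₄o⟩ := hex
  have hc₄K : c₄ ∈ K := by
    rw [hKmem]
    refine ⟨hc₄C, ?_⟩
    set y := x₀⁻¹ * c₄ * x₀ with hy
    have hyC : y ∈ C := by
      have := hCn.conj_mem c₄ hc₄C x₀⁻¹
      rwa [inv_inv] at this
    have hyo : orderOf y = 4 := by
      have : y = MulAut.conj x₀⁻¹ c₄ := by rw [MulAut.conj_apply, inv_inv]
      rw [this, MulEquiv.orderOf_eq]; exact hc₄o
    have hzp : Subgroup.zpowers y = Subgroup.zpowers c₄ := by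
      apply subgroup_eq_of_card_eq_of_le_cyclic C _ _ hCcyc
      · rw [Subgroup.zpowers_le]; exact hyC
      · rw [Subgroup.zpowers_le]; exact hc₄C
      · rw [Nat.card_zpowers, Nat.card_zpowers, hyo, hc₄o]
    have hymem : y ∈ Subgroup.zpowers c₄ := by rw [← hzp]; exact Subgroup.mem_zpowers y
    have hfin : IsOfFinOrder c₄ := isOfFinOrder_of_finite c₄
    rw [← mem_powers_iff_mem_zpowers, hfin.mem_powers_iff_mem_range_orderOf, hc₄o] at hymem
    have hc₄4 : c₄ ^ 4 = 1 := by rw [← hc₄o]; exact pow_orderOf_eq_one c₄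
    simp only [Finset.mem_image, Finset.mem_range] at hymem
    obtain ⟨j, hj, hjy⟩ := hymem
    interval_cases j
    · exfalso
      rw [pow_zero] at hjy
      rw [← hjy, orderOf_one] at hyo
      omega
    · exfalso
      rw [pow_one] at hjy
      -- `c₄` commutes with `x₀`
      have hcomm : x₀ * c₄ = c₄ * x₀ := by
        have : x₀⁻¹ * c₄ * x₀ = c₄ := hjy.symm
        calc x₀ * c₄ = x₀ * (x₀⁻¹ * c₄ * x₀) := by rw [this]
          _ = c₄ * x₀ := by group
      have hmem : c₄ ∈ (C ⊓ Subgroup.centralizer {x₀} : Subgroup X) := by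
        refine ⟨hc₄C, ?_⟩
        change c₄ ∈ Subgroup.centralizer {x₀}
        rw [Subgroup.mem_centralizer_iff]
        intro w hw
        rw [Set.mem_singleton_iff] at hw
        rw [hw]; exact hcomm
      have h1 := Cfsg.Agent.Lib.Lead.card_inf_centralizer_of_index_commutator hidx C hCcyc hCidx
        x₀ hx₀C
      have h3 : (⟨c₄, hmem⟩ : (C ⊓ Subgroup.centralizer {x₀} : Subgroup X)) ^
          Nat.card (C ⊓ Subgroup.centralizer {x₀} : Subgroup X) = 1 := pow_card_eq_one'
      rw [h1] at h3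
      have h4 := congrArg Subtype.val h3
      simp only [Subgroup.coe_pow, Subgroup.coe_one] at h4
      have h5 : orderOf c₄ ∣ 2 := orderOf_dvd_of_pow_eq_one h4
      rw [hc₄o] at h5
      omega
    · exfalso
      have h1 : y ^ 2 = 1 := by rw [← hjy, ← pow_mul]; exact hc₄4
      have h5 : orderOf y ∣ 2 := orderOf_dvd_of_pow_eq_one h1
      rw [hyo] at h5
      omega
    · rw [← hjy]
      symm
      rw [inv_eq_iff_mul_eq_one, ← pow_succ']
      exact hc₄4
  have h1 : orderOf (⟨c₄, hc₄K⟩ : K) ∣ Nat.card K := orderOf_dvd_natCard _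
  rwa [← Subgroup.orderOf_coe, hc₄o] at h1

/-- the elements of order four outside `C` are `0` modulo `4` in number. -/
theorem four_dvd_card_orderOf_four (k : ℕ) (hk : 3 ≤ k) (hX : Nat.card X = 2 ^ k)
    (hidx : (commutator X).index = 4) (C : Subgroup X)
    (hCcyc : IsCyclic C) (hCidx : C.index = 2) :
    4 ∣ Nat.card {u : X // orderOf u = 4 ∧ u ∉ C} := by
  have h1 := four_dvd_card_sq_eq_one k hk hX hidx C hCcyc hCidx
  have h2 := card_not_mem_of_index_two C hCidx
  have hCcard : Nat.card C = 2 ^ (k - 1) := by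
    have h1 : Nat.card C * 2 = Nat.card X := by rw [← hCidx]; exact C.card_mul_index
    have h2 : (2 : ℕ) ^ k = 2 ^ (k - 1) * 2 := by rw [← pow_succ]; congr 1; omega
    rw [hX, h2] at h1
    exact Nat.eq_of_mul_eq_mul_right (by norm_num) h1
  have h4C : 4 ∣ Nat.card C := by
    rw [hCcard]
    have : (4 : ℕ) = 2 ^ 2 := by norm_num
    rw [this]
    exact pow_dvd_pow 2 (by omega)
  have h3 : Nat.card {u : X // u ∉ C} =
      Nat.card {u : X // u ∉ C ∧ u ^ 2 = 1} + Nat.card {u : X // orderOf u = 4 ∧ u ∉ C} := by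
    letI : Fintype X := Fintype.ofFinite X
    simp only [Nat.card_eq_fintype_card, Fintype.card_subtype]
    rw [← Finset.card_filter_add_card_filter_not (s := Finset.univ.filter (fun u : X => u ∉ C))
      (fun u => u ^ 2 = 1), Finset.filter_filter, Finset.filter_filter]
    congr 2
    ext u
    simp only [Finset.mem_filter, Finset.mem_univ, true_and]
    constructor
    · rintro ⟨huC, hu2⟩
      refine ⟨?_, huC⟩
      have h4 := pow_four_eq_one_of_not_mem hidx C hCcyc hCidx u huC
      have h5 : orderOf u ∣ 2 ^ 2 := orderOf_dvd_of_pow_eq_one (by norm_num; exact h4)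
      obtain ⟨j, hj, hju⟩ := (Nat.dvd_prime_pow Nat.prime_two).1 h5
      interval_cases j
      · exfalso
        apply hu2
        rw [pow_zero, orderOf_eq_one_iff] at hju
        rw [hju, one_pow]
      · exfalso
        apply hu2
        rw [pow_one] at hju
        rw [← hju]; exact pow_orderOf_eq_one u
      · rw [hju]; norm_num
    · rintro ⟨huo, huC⟩
      refine ⟨huC, ?_⟩
      intro h
      have := orderOf_dvd_of_pow_eq_one h
      rw [huo] at this
      omega
  rw [h2] at h3
  rw [h3] at h4C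
  exact (Nat.dvd_add_right h1).1 h4C

/-- **Cyclic subgroups of a `2`-group of maximal class.** If `|X| = 2 ^ k ≥ 8` and `|X : X'| = 4`
then for `2 ≤ n ≤ k - 1` the number of cyclic subgroups of order `2 ^ n` is odd. -/
theorem odd_cyc_of_maxclass (k : ℕ) (hk : 3 ≤ k) (hX : Nat.card X = 2 ^ k)
    (hidx : (commutator X).index = 4) (n : ℕ) (hn2 : 2 ≤ n) (hnk : n ≤ k - 1) :
    Odd (cyc n X) := by
  obtain ⟨C, hCcyc, hCidx⟩ :=
    Cfsg.Agent.Lib.Lead.exists_cyclic_index_two_of_index_commutator k X hk hX hidx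
  have hCcard : Nat.card C = 2 ^ (k - 1) := by
    have h1 : Nat.card C * 2 = Nat.card X := by rw [← hCidx]; exact C.card_mul_index
    have h2 : (2 : ℕ) ^ k = 2 ^ (k - 1) * 2 := by rw [← pow_succ]; congr 1; omega
    rw [hX, h2] at h1
    exact Nat.eq_of_mul_eq_mul_right (by norm_num) h1
  have hd : 2 ^ n ∣ Nat.card C := by rw [hCcard]; exact pow_dvd_pow 2 hnk
  have h1 := Cfsg.Agent.Lib.Helper4.PC.card_orderOf_eq (X := X) (2 ^ n) (by positivity)
  have h2 := card_split_mem C (2 ^ n)
  have h3 := card_orderOf_mem_cyclic C hCcyc (2 ^ n) hd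
  have htot : Nat.totient (2 ^ n) = 2 ^ (n - 1) := by
    rw [Nat.totient_prime_pow Nat.prime_two (by omega)]; simp
  have hcyc : Nat.card {Z : Subgroup X // IsCyclic Z ∧ Nat.card Z = 2 ^ n} = cyc n X := rfl
  rw [hcyc, htot] at h1
  rw [h3, htot] at h2
  rcases Nat.lt_or_ge n 3 with hlt | hge
  · have hn : n = 2 := by omega
    subst hn
    have h4 := four_dvd_card_orderOf_four k hk hX hidx C hCcyc hCidx
    have e4 : (2 : ℕ) ^ 2 = 4 := by norm_num
    rw [e4] at h1 h2
    obtain ⟨t, ht⟩ := h4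
    rw [ht] at h2
    rw [h2] at h1
    norm_num at h1
    refine ⟨t, ?_⟩
    omega
  · haveI := isEmpty_orderOf_not_mem hidx C hCcyc hCidx n hge
    have h6 : Nat.card {u : X // orderOf u = 2 ^ n ∧ u ∉ C} = 0 := Nat.card_of_isEmpty
    rw [h6, add_zero] at h2
    rw [h2] at h1
    have hpos : 0 < 2 ^ (n - 1) := by positivity
    have h5 : cyc n X = 1 := by
      have : 2 ^ (n - 1) * 1 = 2 ^ (n - 1) * cyc n X := by rw [mul_one]; exact h1
      exact (Nat.eq_of_mul_eq_mul_left hpos this).symm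
    rw [h5]
    exact odd_one

end maxclass

end Cfsg.Agent.Lib.Helper4.Kul
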