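import Mathlib
import Cfsg.Agent.Lib.Helper4.Kul1
import Cfsg.Agent.Lib.Lead.CyclicP
import Cfsg.Agent.Lib.Lead.MaxClass3

set_option autoImplicit false

/-! The number of cyclic maximal subgroups of a noncyclic `2`-group which is not of maximal
class is even. Part 1: general tools. -/

namespace Cfsg.Agent.Lib.Helper4.Kul

open scoped Classical

universe u

section tools

variable {G : Type u} [Group G] [Finite G]

/-- inside a cyclic subgroup, a subgroup consists of the elements killed by its order. -/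
theorem mem_iff_pow_card_of_le_cyclic (A L : Subgroup G) (hA : IsCyclic A) (hL : L ≤ A) {y : G}
    (hy : y ∈ A) : y ∈ L ↔ y ^ Nat.card L = 1 := by
  haveI := hA
  have h1 := Cfsg.Agent.Lib.Lead.mem_iff_pow_card_of_isCyclic (L.subgroupOf A) ⟨y, hy⟩
  have h2 : Nat.card (L.subgroupOf A) = Nat.card L :=
    Nat.card_congr (Subgroup.subgroupOfEquivOfLe hL).toEquiv
  rw [h2, Subgroup.mem_subgroupOf] at h1
  rw [h1]
  constructor
  · intro h
    have := congrArg Subtype.val h
    simpa using this
  · intro h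
    apply Subtype.ext
    simpa using h

/-- a cyclic group has at most one involution. -/
theorem eq_of_sq_eq_one_of_mem_cyclic (A : Subgroup G) (hA : IsCyclic A) {s t : G} (hs : s ∈ A)
    (ht : t ∈ A) (hs2 : s ^ 2 = 1) (ht2 : t ^ 2 = 1) (hs1 : s ≠ 1) (ht1 : t ≠ 1) : s = t := by
  have hos : orderOf s = 2 := orderOf_eq_prime hs2 hs1
  have hot : orderOf t = 2 := orderOf_eq_prime ht2 ht1
  have hzp : Subgroup.zpowers t = Subgroup.zpowers s := by
    apply subgroup_eq_of_card_eq_of_le_cyclic A _ _ hA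
    · rw [Subgroup.zpowers_le]; exact ht
    · rw [Subgroup.zpowers_le]; exact hs
    · rw [Nat.card_zpowers, Nat.card_zpowers, hos, hot]
  have hmem : t ∈ Subgroup.zpowers s := by rw [← hzp]; exact Subgroup.mem_zpowers t
  have hfin : IsOfFinOrder s := isOfFinOrder_of_finite s
  rw [← mem_powers_iff_mem_zpowers, hfin.mem_powers_iff_mem_range_orderOf, hos] at hmem
  simp only [Finset.mem_image, Finset.mem_range] at hmem
  obtain ⟨j, hj, hjt⟩ := hmem
  interval_cases j
  · exfalso; rw [pow_zero] at hjt; exact ht1 hjt.symm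
  · rw [pow_one] at hjt; exact hjt

/-- in a noncyclic group of order `2 ^ m` every element is killed by `2 ^ (m - 1)`. -/
theorem pow_eq_one_of_not_isCyclic (m : ℕ) (hG : Nat.card G = 2 ^ m) (hnc : ¬ IsCyclic G)
    (w : G) : w ^ 2 ^ (m - 1) = 1 := by
  have h1 : orderOf w ∣ 2 ^ m := by rw [← hG]; exact orderOf_dvd_natCard w
  obtain ⟨j, hj, hjw⟩ := (Nat.dvd_prime_pow Nat.prime_two).1 h1
  have hjm : j ≠ m := by
    rintro rfl
    apply hnc
    apply isCyclic_of_orderOf_eq_card w
    rw [hjw, hG]
  have h2 : orderOf w ∣ 2 ^ (m - 1) := by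
    rw [hjw]; exact pow_dvd_pow 2 (by omega)
  exact orderOf_dvd_iff_pow_eq_one.1 h2

/-- if the abelianization of a noncyclic group of order `2 ^ m` has order different from `4`, then
commutators are killed by `2 ^ (m - 3)`. -/
theorem commutator_pow_eq_one (m : ℕ) (hm : 3 ≤ m) (hG : Nat.card G = 2 ^ m) (hnc : ¬ IsCyclic G)
    (hidx : (commutator G).index ≠ 4) (c : G) (hc : c ∈ commutator G) : c ^ 2 ^ (m - 3) = 1 := by
  haveI : Fact (Nat.Prime 2) := ⟨Nat.prime_two⟩
  have hGp : IsPGroup 2 G := IsPGroup.of_card hG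
  have h1 := (commutator G).card_mul_index
  rw [hG] at h1
  have h2 : (commutator G).index ∣ 2 ^ m := Dvd.intro_left _ h1
  obtain ⟨j, hj, hjw⟩ := (Nat.dvd_prime_pow Nat.prime_two).1 h2
  have hj3 : 3 ≤ j := by
    by_contra hlt
    push Not at hlt
    have hcard : Nat.card (G ⧸ commutator G) = 2 ^ j := by
      rw [← Subgroup.index_eq_card]; exact hjw
    interval_cases j
    · apply hnc
      apply Cfsg.Agent.Lib.Lead.isCyclic_of_isCyclic_abelianization hGp
      haveI : Subsingleton (G ⧸ commutator G) := by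
        rw [← Finite.card_le_one_iff_subsingleton, hcard]; norm_num
      exact isCyclic_of_subsingleton
    · apply hnc
      apply Cfsg.Agent.Lib.Lead.isCyclic_of_isCyclic_abelianization hGp
      exact isCyclic_of_prime_card (p := 2) (by rw [hcard]; norm_num)
    · apply hidx
      rw [hjw]; norm_num
  have h3 : Nat.card (commutator G) = 2 ^ (m - j) := by
    rw [hjw] at h1
    have h4 : (2 : ℕ) ^ m = 2 ^ (m - j) * 2 ^ j := by rw [← pow_add]; congr 1; omega
    rw [h4] at h1
    exact Nat.eq_of_mul_eq_mul_right (by positivity) h1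
  have h5 : (⟨c, hc⟩ : commutator G) ^ Nat.card (commutator G) = 1 := pow_card_eq_one'
  rw [h3] at h5
  have h6 : c ^ 2 ^ (m - j) = 1 := by
    have := congrArg Subtype.val h5
    simpa using this
  have h7 : (2 : ℕ) ^ (m - j) ∣ 2 ^ (m - 3) := pow_dvd_pow 2 (by omega)
  obtain ⟨d, hd⟩ := h7
  rw [hd, pow_mul, h6, one_pow]

end tools

end Cfsg.Agent.Lib.Helper4.Kul
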