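import Mathlib
import Cfsg.Agent.Lib.Helper4.Kul3
import Cfsg.Agent.Lib.Lead.Frattini

set_option autoImplicit false

/-! The number of cyclic maximal subgroups of a noncyclic `2`-group which is not of maximal
class is even. Part 2. -/

namespace Cfsg.Agent.Lib.Helper4.Kul

open scoped Classical commutatorElement

universe u

section cyclicmax

variable {G : Type u} [Group G] [Finite G]

theorem relIndex_mul_card_of_le {H L : Subgroup G} (h : H ≤ L) :
    H.relIndex L * Nat.card H = Nat.card L := by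
  have h1 := Subgroup.card_mul_index (H.subgroupOf L)
  rw [Nat.card_congr (Subgroup.subgroupOfEquivOfLe h).toEquiv] at h1
  unfold Subgroup.relIndex
  rw [mul_comm]; exact h1

theorem card_of_index_two (m : ℕ) (hm : 1 ≤ m) (hG : Nat.card G = 2 ^ m) (M : Subgroup G)
    (hM : M.index = 2) : Nat.card M = 2 ^ (m - 1) := by
  have h1 : Nat.card M * 2 = Nat.card G := by rw [← hM]; exact M.card_mul_index
  have h2 : (2 : ℕ) ^ m = 2 ^ (m - 1) * 2 := by rw [← pow_succ]; congr 1; omega
  rw [hG, h2] at h1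
  exact Nat.eq_of_mul_eq_mul_right (by norm_num) h1

theorem commutator_le_of_index_two (A : Subgroup G) (hA : A.index = 2) : commutator G ≤ A := by
  haveI : A.Normal := Subgroup.normal_of_index_eq_two hA
  apply Cfsg.Agent.Lib.Lead.commutator_le_of_quotient_comm A
  have hcard : Nat.card (G ⧸ A) = 2 := by rw [← Subgroup.index_eq_card]; exact hA
  haveI : Fact (Nat.Prime 2) := ⟨Nat.prime_two⟩
  haveI : IsCyclic (G ⧸ A) := isCyclic_of_prime_card (p := 2) hcard
  letI : CommGroup (G ⧸ A) := IsCyclic.commGroup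
  intro a b
  exact mul_comm a b

variable (m : ℕ) (hm : 3 ≤ m) (hG : Nat.card G = 2 ^ m) (hnc : ¬ IsCyclic G)
  (hidx : (commutator G).index ≠ 4) (A : Subgroup G) (hAcyc : IsCyclic A) (hAidx : A.index = 2)

include hm hG hnc hidx hAcyc hAidx

/-- the `2 ^ (m - 2)`-th power map is multiplicative on `A × G`. -/
theorem mul_pow_of_mem (y : G) (hy : y ∈ A) (w : G) :
    (y * w) ^ 2 ^ (m - 2) = y ^ 2 ^ (m - 2) * w ^ 2 ^ (m - 2) := by
  haveI hAn : A.Normal := Subgroup.normal_of_index_eq_two hAidx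
  have hAcomm : ∀ a ∈ A, ∀ b ∈ A, Commute a b := by
    intro a ha b hb
    haveI := hAcyc
    letI : CommGroup A := IsCyclic.commGroup
    exact congrArg Subtype.val (mul_comm (⟨a, ha⟩ : A) ⟨b, hb⟩)
  set c := y⁻¹ * w * y * w⁻¹ with hc
  have hcG : c ∈ commutator G := by
    have : c = ⁅y⁻¹, w⁆ := by rw [commutatorElement_def, inv_inv]
    rw [this, commutator_def]
    exact Subgroup.commutator_mem_commutator (Subgroup.mem_top _) (Subgroup.mem_top _)
  have hcA : c ∈ A := commutator_le_of_index_two A hAidx hcG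
  have hce := commutator_pow_eq_one m hm hG hnc hidx c hcG
  have hw2 : w ^ 2 ∈ A := Subgroup.sq_mem_of_index_two hAidx w
  have hy2 : y ^ 2 ∈ A := A.pow_mem hy 2
  have h1 : (y * w) ^ 2 = y ^ 2 * c * w ^ 2 := by
    rw [hc, pow_two, pow_two, pow_two]; group
  have h2 : (2 : ℕ) ^ (m - 2) = 2 * 2 ^ (m - 3) := by rw [← pow_succ']; congr 1; omega
  rw [h2, pow_mul, pow_mul y, pow_mul w, h1]
  have h3 : Commute (y ^ 2 * c) (w ^ 2) := hAcomm _ (A.mul_mem hy2 hcA) _ hw2
  rw [h3.mul_pow, (hAcomm _ hy2 _ hcA).mul_pow, hce, mul_one]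

/-- the square of the `2 ^ (m - 2)`-th power is trivial. -/
theorem pow_pow_two (w : G) : (w ^ 2 ^ (m - 2)) ^ 2 = 1 := by
  rw [← pow_mul]
  have h2 : (2 : ℕ) ^ (m - 2) * 2 = 2 ^ (m - 1) := by rw [← pow_succ]; congr 1; omega
  rw [h2]
  exact pow_eq_one_of_not_isCyclic m hG hnc w

theorem pow_mem_of_sq_mem (w : G) : w ^ 2 ^ (m - 2) ∈ A := by
  have h2 : (2 : ℕ) ^ (m - 2) = 2 * 2 ^ (m - 3) := by rw [← pow_succ']; congr 1; omega
  rw [h2, pow_mul]
  exact A.pow_mem (Subgroup.sq_mem_of_index_two hAidx w) _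

/-- a maximal subgroup other than `A` meets `A` in the elements killed by `2 ^ (m - 2)`. -/
theorem mem_iff_of_index_two (M : Subgroup G) (hM : M.index = 2) (hMA : M ≠ A) (y : G)
    (hy : y ∈ A) : y ∈ M ↔ y ^ 2 ^ (m - 2) = 1 := by
  haveI hAn : A.Normal := Subgroup.normal_of_index_eq_two hAidx
  have hMcard := card_of_index_two m (by omega) hG M hM
  have hAcard := card_of_index_two m (by omega) hG A hAidx
  have h1 : A.relIndex M ∣ A.index := Subgroup.relIndex_dvd_index_of_normal A M
  rw [hAidx] at h1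
  have h2 : A.relIndex M ≠ 1 := by
    intro h
    have hle : M ≤ A := Subgroup.relIndex_eq_one.mp h
    exact hMA (Subgroup.eq_of_le_of_card_ge hle (by rw [hMcard, hAcard]))
  have h3 : A.relIndex M = 2 := by
    rcases (Nat.dvd_prime Nat.prime_two).mp h1 with h | h
    · exact absurd h h2
    · exact h
  have h4 : (A ⊓ M).relIndex M * Nat.card (A ⊓ M : Subgroup G) = Nat.card M :=
    relIndex_mul_card_of_le inf_le_right
  rw [Subgroup.inf_relIndex_right, h3, hMcard] at h4
  have h5 : Nat.card (A ⊓ M : Subgroup G) = 2 ^ (m - 2) := by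
    have h6 : (2 : ℕ) ^ (m - 1) = 2 * 2 ^ (m - 2) := by rw [← pow_succ']; congr 1; omega
    rw [h6] at h4
    exact Nat.eq_of_mul_eq_mul_left (by norm_num) h4
  have h6 := mem_iff_pow_card_of_le_cyclic A (A ⊓ M) hAcyc inf_le_left hy
  rw [h5] at h6
  rw [← h6]
  constructor
  · intro h; exact ⟨hy, h⟩
  · intro h; exact h.2

/-- a maximal subgroup `M ≠ A` is cyclic iff the elements of `M \ A` are not killed by
`2 ^ (m - 2)`. -/
theorem isCyclic_iff_of_index_two (M : Subgroup G) (hM : M.index = 2) (hMA : M ≠ A) (w : G)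
    (hwM : w ∈ M) (hwA : w ∉ A) : IsCyclic M ↔ w ^ 2 ^ (m - 2) ≠ 1 := by
  have hMcard := card_of_index_two m (by omega) hG M hM
  constructor
  · intro hMcyc hw
    -- `M ⊓ A` has index two in the cyclic group `M`
    have hMn : M.Normal := Subgroup.normal_of_index_eq_two hM
    have hAcard := card_of_index_two m (by omega) hG A hAidx
    have h1 : M.relIndex A ∣ M.index := Subgroup.relIndex_dvd_index_of_normal M A
    rw [hM] at h1
    have h2 : M.relIndex A ≠ 1 := by
      intro h
      have hle : A ≤ M := Subgroup.relIndex_eq_one.mp h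
      exact hMA (Subgroup.eq_of_le_of_card_ge hle (by rw [hMcard, hAcard])).symm
    have h3 : M.relIndex A = 2 := by
      rcases (Nat.dvd_prime Nat.prime_two).mp h1 with h | h
      · exact absurd h h2
      · exact h
    have h4 : (M ⊓ A).relIndex A * Nat.card (M ⊓ A : Subgroup G) = Nat.card A :=
      relIndex_mul_card_of_le inf_le_right
    rw [Subgroup.inf_relIndex_right, h3, hAcard] at h4
    have h5 : Nat.card (M ⊓ A : Subgroup G) = 2 ^ (m - 2) := by
      have h6 : (2 : ℕ) ^ (m - 1) = 2 * 2 ^ (m - 2) := by rw [← pow_succ']; congr 1; omega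
      rw [h6] at h4
      exact Nat.eq_of_mul_eq_mul_left (by norm_num) h4
    have h6 := mem_iff_pow_card_of_le_cyclic M (M ⊓ A) hMcyc inf_le_left hwM
    rw [h5] at h6
    exact hwA (h6.2 hw).2
  · intro hw
    have h1 : orderOf w ∣ 2 ^ m := by rw [← hG]; exact orderOf_dvd_natCard w
    obtain ⟨j, hj, hjw⟩ := (Nat.dvd_prime_pow Nat.prime_two).1 h1
    have hj1 : m - 1 ≤ j := by
      by_contra hlt
      push Not at hlt
      apply hw
      apply orderOf_dvd_iff_pow_eq_one.1
      rw [hjw]; exact pow_dvd_pow 2 (by omega)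
    have h2 : Subgroup.zpowers w = M := by
      apply Subgroup.eq_of_le_of_card_ge
      · rw [Subgroup.zpowers_le]; exact hwM
      · rw [Nat.card_zpowers, hjw, hMcard]
        exact Nat.pow_le_pow_right (by norm_num) hj1
    rw [← h2]
    infer_instance

/-- two maximal subgroups other than `A` coincide as soon as they contain elements outside `A`
whose quotient is killed by `2 ^ (m - 2)`. -/
theorem eq_of_index_two (M M' : Subgroup G) (hM : M.index = 2) (hM' : M'.index = 2) (hMA : M ≠ A)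
    (hMA' : M' ≠ A) (w w' : G) (hwM : w ∈ M) (hwA : w ∉ A) (hwM' : w' ∈ M') (hwA' : w' ∉ A)
    (hq : (w' * w⁻¹) ^ 2 ^ (m - 2) = 1) : M = M' := by
  have hMcard := card_of_index_two m (by omega) hG M hM
  have hMcard' := card_of_index_two m (by omega) hG M' hM'
  have hqA : w' * w⁻¹ ∈ A := by
    rw [Subgroup.mul_mem_iff_of_index_two hAidx]
    constructor
    · intro h; exact absurd h hwA'
    · intro h; exact absurd (A.inv_mem_iff.1 h) hwA
  have h2 := (mem_iff_of_index_two m hm hG hnc hidx A hAcyc hAidx M' hM' hMA' _ hqA).2 hq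
  -- `w ∈ M'`
  have hwM'' : w ∈ M' := by
    have : w = (w' * w⁻¹)⁻¹ * w' := by group
    rw [this]; exact M'.mul_mem (M'.inv_mem h2) hwM'
  -- `M ⊓ M'` contains `M ⊓ A` properly
  by_contra hne
  have hMn' : M'.Normal := Subgroup.normal_of_index_eq_two hM'
  have h3 : M'.relIndex M ∣ M'.index := Subgroup.relIndex_dvd_index_of_normal M' M
  rw [hM'] at h3
  have h4 : M'.relIndex M ≠ 1 := by
    intro h
    have hle : M ≤ M' := Subgroup.relIndex_eq_one.mp h
    exact hne (Subgroup.eq_of_le_of_card_ge hle (by rw [hMcard, hMcard']))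
  have h5 : M'.relIndex M = 2 := by
    rcases (Nat.dvd_prime Nat.prime_two).mp h3 with h | h
    · exact absurd h h4
    · exact h
  -- `A ⊓ M` and `M' ⊓ M` are both of index two in `M`, and `A ⊓ M ≤ M' ⊓ M`
  have hAn : A.Normal := Subgroup.normal_of_index_eq_two hAidx
  have hAcard := card_of_index_two m (by omega) hG A hAidx
  have h6 : A.relIndex M = 2 := by
    have h7 : A.relIndex M ∣ A.index := Subgroup.relIndex_dvd_index_of_normal A M
    rw [hAidx] at h7
    rcases (Nat.dvd_prime Nat.prime_two).mp h7 with h | h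
    · exfalso
      have hle : M ≤ A := Subgroup.relIndex_eq_one.mp h
      exact hMA (Subgroup.eq_of_le_of_card_ge hle (by rw [hMcard, hAcard]))
    · exact h
  have h8 : (A ⊓ M).relIndex M * Nat.card (A ⊓ M : Subgroup G) = Nat.card M :=
    relIndex_mul_card_of_le inf_le_right
  have h9 : (M' ⊓ M).relIndex M * Nat.card (M' ⊓ M : Subgroup G) = Nat.card M :=
    relIndex_mul_card_of_le inf_le_right
  rw [Subgroup.inf_relIndex_right, h6] at h8
  rw [Subgroup.inf_relIndex_right, h5] at h9
  have hle : A ⊓ M ≤ M' ⊓ M := by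
    intro y hy
    refine ⟨?_, hy.2⟩
    have hyk := (mem_iff_of_index_two m hm hG hnc hidx A hAcyc hAidx M hM hMA y hy.1).1 hy.2
    exact (mem_iff_of_index_two m hm hG hnc hidx A hAcyc hAidx M' hM' hMA' y hy.1).2 hyk
  have heq : A ⊓ M = M' ⊓ M := Subgroup.eq_of_le_of_card_ge hle (by omega)
  have : w ∈ A ⊓ M := by rw [heq]; exact ⟨hwM'', hwM⟩
  exact hwA this.1

/-- with one cyclic maximal subgroup there are exactly two. -/
theorem card_cyclic_maximal_eq_two :
    Nat.card {M : Subgroup G // M.index = 2 ∧ IsCyclic M} = 2 := by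
  have hAcard := card_of_index_two m (by omega) hG A hAidx
  set k := 2 ^ (m - 2) with hk
  -- an element outside `A`
  obtain ⟨x, hxA⟩ : ∃ x : G, x ∉ A := by
    by_contra hall
    push Not at hall
    have : A = ⊤ := by rw [eq_top_iff]; intro y _; exact hall y
    rw [this, Subgroup.index_top] at hAidx
    omega
  -- a generator of `A`
  obtain ⟨a, haA, hak⟩ : ∃ a : G, a ∈ A ∧ a ^ k ≠ 1 := by
    haveI := hAcyc
    obtain ⟨a', ha'⟩ := IsCyclic.exists_generator (α := A)
    refine ⟨a'.1, a'.2, ?_⟩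
    intro h
    have h1 : orderOf (a'.1) ∣ k := orderOf_dvd_of_pow_eq_one h
    rw [Subgroup.orderOf_coe, orderOf_eq_card_of_forall_mem_zpowers ha', hAcard, hk] at h1
    have h2 := Nat.le_of_dvd (by positivity) h1
    have h3 : (2 : ℕ) ^ (m - 2) < 2 ^ (m - 1) := Nat.pow_lt_pow_right (by norm_num) (by omega)
    omega
  -- an element outside `A` not killed by `k`
  obtain ⟨w₀, hw₀A, hw₀k⟩ : ∃ w₀ : G, w₀ ∉ A ∧ w₀ ^ k ≠ 1 := by
    by_cases hx : x ^ k = 1
    · refine ⟨a * x, ?_, ?_⟩
      · intro h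
        exact hxA ((Subgroup.mul_mem_cancel_left A haA).1 h)
      · rw [hk, mul_pow_of_mem m hm hG hnc hidx A hAcyc hAidx a haA x, ← hk, hx, mul_one]
        exact hak
    · exact ⟨x, hxA, hx⟩
  set M₁ := Subgroup.zpowers w₀ with hM₁
  have hw₀M : w₀ ∈ M₁ := Subgroup.mem_zpowers w₀
  have hM₁card : Nat.card M₁ = 2 ^ (m - 1) := by
    rw [hM₁, Nat.card_zpowers]
    have h1 : orderOf w₀ ∣ 2 ^ m := by rw [← hG]; exact orderOf_dvd_natCard w₀
    obtain ⟨j, hj, hjw⟩ := (Nat.dvd_prime_pow Nat.prime_two).1 h1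
    have hj1 : m - 1 ≤ j := by
      by_contra hlt
      push Not at hlt
      apply hw₀k
      apply orderOf_dvd_iff_pow_eq_one.1
      rw [hjw, hk]; exact pow_dvd_pow 2 (by omega)
    have hjm : j ≠ m := by
      rintro rfl
      apply hnc
      apply isCyclic_of_orderOf_eq_card w₀
      rw [hjw, hG]
    have : j = m - 1 := by omega
    rw [hjw, this]
  have hM₁idx : M₁.index = 2 := by
    have h1 := M₁.card_mul_index
    rw [hM₁card, hG] at h1
    have h2 : (2 : ℕ) ^ m = 2 ^ (m - 1) * 2 := by rw [← pow_succ]; congr 1; omega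
    rw [h2] at h1
    exact Nat.eq_of_mul_eq_mul_left (by positivity) h1
  have hM₁A : M₁ ≠ A := by
    intro h
    exact hw₀A (h ▸ hw₀M)
  have hM₁cyc : IsCyclic M₁ := by rw [hM₁]; infer_instance
  rw [Nat.card_eq_two_iff]
  refine ⟨⟨A, hAidx, hAcyc⟩, ⟨M₁, hM₁idx, hM₁cyc⟩, ?_, ?_⟩
  · intro h
    exact hM₁A (congrArg Subtype.val h).symm
  · rw [Set.eq_univ_iff_forall]
    rintro ⟨M, hM, hMc⟩
    by_cases hMA : M = A
    · left
      exact Subtype.ext hMA
    · right
      rw [Set.mem_singleton_iff]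
      apply Subtype.ext
      change M = M₁
      -- an element of `M` outside `A`
      have hMcard := card_of_index_two m (by omega) hG M hM
      obtain ⟨w, hwM, hwA⟩ : ∃ w : G, w ∈ M ∧ w ∉ A := by
        by_contra hall
        push Not at hall
        exact hMA (Subgroup.eq_of_le_of_card_ge hall (by rw [hMcard, hAcard]))
      have hwk := (isCyclic_iff_of_index_two m hm hG hnc hidx A hAcyc hAidx M hM hMA w hwM hwA).1
        hMc
      -- the quotient
      have hyA : w * w₀⁻¹ ∈ A := by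
        rw [Subgroup.mul_mem_iff_of_index_two hAidx]
        constructor
        · intro h; exact absurd h hwA
        · intro h; exact absurd (A.inv_mem_iff.1 h) hw₀A
      have h1 : w ^ k = (w * w₀⁻¹) ^ k * w₀ ^ k := by
        have h2 := mul_pow_of_mem m hm hG hnc hidx A hAcyc hAidx (w * w₀⁻¹) hyA w₀
        rw [inv_mul_cancel_right] at h2
        rw [hk]; exact h2
      have h3 : w ^ k = w₀ ^ k := by
        apply eq_of_sq_eq_one_of_mem_cyclic A hAcyc
        · exact pow_mem_of_sq_mem m hm hG hnc hidx A hAcyc hAidx w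
        · exact pow_mem_of_sq_mem m hm hG hnc hidx A hAcyc hAidx w₀
        · exact pow_pow_two m hm hG hnc hidx A hAcyc hAidx w
        · exact pow_pow_two m hm hG hnc hidx A hAcyc hAidx w₀
        · exact hwk
        · exact hw₀k
      have h4 : (w * w₀⁻¹) ^ k = 1 := by
        rw [h3] at h1
        exact (mul_eq_right (a := (w * w₀⁻¹) ^ k) (b := w₀ ^ k)).1 h1.symm
      exact (eq_of_index_two m hm hG hnc hidx A hAcyc hAidx M₁ M hM₁idx hM hM₁A hMA w₀ w hw₀M hw₀A
        hwM hwA h4).symm

omit hAcyc hAidx A in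
/-- **The number of cyclic maximal subgroups is even.** -/
theorem even_card_cyclic_maximal :
    Even (Nat.card {M : Subgroup G // M.index = 2 ∧ IsCyclic M}) := by
  by_cases hemp : IsEmpty {M : Subgroup G // M.index = 2 ∧ IsCyclic M}
  · rw [Nat.card_of_isEmpty]; exact Even.zero
  · rw [not_isEmpty_iff] at hemp
    obtain ⟨A, hAidx, hAcyc⟩ := hemp
    rw [card_cyclic_maximal_eq_two m hm hG hnc hidx A hAcyc hAidx]
    exact even_two

end cyclicmax

end Cfsg.Agent.Lib.Helper4.Kul
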