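import Mathlib
import Cfsg.Agent.Lib.Helper4.Kul4
import Cfsg.Agent.Lib.Lead.ExtraspecialCentral
import Cfsg.Agent.Lib.Lead.MaxClass7

set_option autoImplicit false

/-! Groups of order `16` with commutator subgroup of order `2`: a maximal subgroup is abelian iff
it contains the centre. -/

namespace Cfsg.Agent.Lib.Helper4.Kul

open scoped Classical commutatorElement

universe u

section sixteen

variable {X : Type u} [Group X] [Finite X]

/-- a subgroup of order dividing `4` is commutative. -/
theorem comm_of_card_dvd_four (K : Subgroup X) (h : Nat.card K ∣ 4) :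
    ∀ a ∈ K, ∀ b ∈ K, a * b = b * a := by
  haveI : Fact (Nat.Prime 2) := ⟨Nat.prime_two⟩
  have h4 : (4 : ℕ) = 2 ^ 2 := by norm_num
  rw [h4] at h
  obtain ⟨j, hj, hjK⟩ := (Nat.dvd_prime_pow Nat.prime_two).1 h
  have hcomm : ∀ u v : K, u * v = v * u := by
    interval_cases j
    · haveI : Subsingleton K := by
        rw [← Finite.card_le_one_iff_subsingleton, hjK]; norm_num
      intro u v
      rw [Subsingleton.elim u v]
    · haveI : IsCyclic K := isCyclic_of_prime_card (p := 2) (by rw [hjK]; norm_num)
      letI : CommGroup K := IsCyclic.commGroup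
      exact fun u v => mul_comm u v
    · letI : CommGroup K := IsPGroup.commGroupOfCardEqPrimeSq (p := 2) hjK
      exact fun u v => mul_comm u v
  intro a ha b hb
  exact congrArg Subtype.val (hcomm ⟨a, ha⟩ ⟨b, hb⟩)

variable (hX' : Nat.card (commutator X) = 2)

include hX'

theorem commutator_le_center_of_card_two (hX : IsPGroup 2 X) :
    commutator X ≤ Subgroup.center X := by
  haveI : Fact (Nat.Prime 2) := ⟨Nat.prime_two⟩
  exact Cfsg.Agent.Lib.Lead.le_center_of_normal_of_card_prime hX (commutator X) hX'

omit [Finite X] in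
theorem commutatorElement_mem_commutator (g t : X) : ⁅g, t⁆ ∈ commutator X := by
  rw [commutator_def]
  exact Subgroup.commutator_mem_commutator (Subgroup.mem_top _) (Subgroup.mem_top _)

omit [Finite X] hX' in
theorem commutatorElement_mul_left (hZ : commutator X ≤ Subgroup.center X) (g h t : X) :
    ⁅g * h, t⁆ = ⁅g, t⁆ * ⁅h, t⁆ := by
  have h1 := (Cfsg.Agent.Lib.Lead.commutatorHom (commutator X) hZ t
    (fun g => by
      rw [commutator_def]
      exact Subgroup.commutator_mem_commutator (Subgroup.mem_top _) (Subgroup.mem_top _))).map_mul g h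
  exact congrArg Subtype.val h1

theorem index_centralizer_le_two (hZ : commutator X ≤ Subgroup.center X) (t : X) :
    (Subgroup.centralizer ({t} : Set X)).index ≤ 2 := by
  set φ := Cfsg.Agent.Lib.Lead.commutatorHom (commutator X) hZ t
    (fun g => by
      rw [commutator_def]
      exact Subgroup.commutator_mem_commutator (Subgroup.mem_top _) (Subgroup.mem_top _)) with hφ
  have h1 : φ.ker ≤ Subgroup.centralizer ({t} : Set X) := by
    intro g hg
    rw [MonoidHom.mem_ker] at hg
    have h2 : ⁅g, t⁆ = 1 := congrArg Subtype.val hg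
    rw [Subgroup.mem_centralizer_iff]
    intro w hw
    rw [Set.mem_singleton_iff] at hw
    rw [hw]
    exact (commutatorElement_eq_one_iff_mul_comm.1 h2).symm
  have h3 : φ.ker.index ≤ 2 := by
    rw [Subgroup.index_ker, ← hX']
    exact Subgroup.card_le_card_group _
  have h4 : (Subgroup.centralizer ({t} : Set X)).index ∣ φ.ker.index :=
    Subgroup.index_dvd_of_le h1
  have h5 : φ.ker.index ≠ 0 := Subgroup.index_ne_zero_of_finite
  exact (Nat.le_of_dvd (Nat.pos_of_ne_zero h5) h4).trans h3

/-- **Order sixteen.** -/
theorem comm_iff_center_le (hX : Nat.card X = 16) (N : Subgroup X) (hN : N.index = 2) :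
    (∀ a ∈ N, ∀ b ∈ N, a * b = b * a) ↔ Subgroup.center X ≤ N := by
  haveI : Fact (Nat.Prime 2) := ⟨Nat.prime_two⟩
  have hXp : IsPGroup 2 X := IsPGroup.of_card (n := 4) (by rw [hX]; norm_num)
  have hZ := commutator_le_center_of_card_two hX' hXp
  have hNcard : Nat.card N = 8 := by
    have h1 := N.card_mul_index
    rw [hN, hX] at h1
    omega
  constructor
  · intro hcomm z hz
    by_contra hzN
    have htop := Cfsg.Agent.Lib.Lead.sup_zpowers_eq_top_of_index_two N hN z hzN
    have h1 : N ⊔ Subgroup.zpowers z ≤ Subgroup.centralizer (N : Set X) := by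
      apply sup_le
      · intro n hn
        rw [Subgroup.mem_centralizer_iff]
        intro w hw
        exact hcomm w hw n hn
      · rw [Subgroup.zpowers_le, Subgroup.mem_centralizer_iff]
        intro w _
        exact (Subgroup.mem_center_iff.1 hz w)
    rw [htop] at h1
    have h2 : N ≤ Subgroup.center X := by
      intro n hn
      rw [Subgroup.mem_center_iff]
      intro g
      have := Subgroup.mem_centralizer_iff.1 (h1 (Subgroup.mem_top g)) n hn
      exact this.symm
    have h3 : (⊤ : Subgroup X) ≤ Subgroup.center X := by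
      rw [← htop]
      exact sup_le h2 ((Subgroup.zpowers_le).2 hz)
    have h4 : commutator X = ⊥ := by
      rw [commutator_def, Subgroup.commutator_eq_bot_iff_le_centralizer]
      intro g _
      rw [Subgroup.mem_centralizer_iff]
      intro w _
      exact (Subgroup.mem_center_iff.1 (h3 (Subgroup.mem_top g)) w)
    rw [h4, Subgroup.card_bot] at hX'
    omega
  · intro hZN a ha b hb
    by_contra hab
    set c := ⁅a, b⁆ with hc
    have hc1 : c ≠ 1 := by
      intro h
      exact hab (commutatorElement_eq_one_iff_mul_comm.1 h)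
    have hcX : c ∈ commutator X := commutatorElement_mem_commutator hX' a b
    have hsq : ∀ u ∈ commutator X, u ^ 2 = 1 := by
      intro u hu
      have h1 : (⟨u, hu⟩ : commutator X) ^ Nat.card (commutator X) = 1 := pow_card_eq_one'
      rw [hX'] at h1
      have := congrArg Subtype.val h1
      simpa using this
    have hcyc : IsCyclic (commutator X) := isCyclic_of_prime_card (p := 2) hX'
    have hvals : ∀ u ∈ commutator X, u ≠ 1 → u = c := by
      intro u hu hu1
      exact eq_of_sq_eq_one_of_mem_cyclic (commutator X) hcyc hu hcX (hsq u hu) (hsq c hcX) hu1 hc1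
    have hcc : c * c = 1 := by rw [← pow_two]; exact hsq c hcX
    have hba : ⁅b, a⁆ = c := by
      have h1 : ⁅b, a⁆ = c⁻¹ := by rw [hc, commutatorElement_inv]
      rw [h1, inv_eq_iff_mul_eq_one]; exact hcc
    -- an element outside `N`
    obtain ⟨g, hgN⟩ : ∃ g : X, g ∉ N := by
      by_contra hall
      push Not at hall
      have : N = ⊤ := by rw [eq_top_iff]; intro y _; exact hall y
      rw [this, Subgroup.index_top] at hN
      omega
    -- correct it to commute with `a`
    obtain ⟨g₁, hg₁N, hg₁a⟩ : ∃ g₁ : X, g₁ ∉ N ∧ ⁅g₁, a⁆ = 1 := by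
      by_cases h : ⁅g, a⁆ = 1
      · exact ⟨g, hgN, h⟩
      · refine ⟨g * b, ?_, ?_⟩
        · intro h'
          exact hgN ((Subgroup.mul_mem_cancel_right N hb).1 h')
        · rw [commutatorElement_mul_left hZ, hba,
            hvals _ (commutatorElement_mem_commutator hX' g a) h]
          exact hcc
    -- and with `b`
    obtain ⟨z, hzN, hza, hzb⟩ : ∃ z : X, z ∉ N ∧ ⁅z, a⁆ = 1 ∧ ⁅z, b⁆ = 1 := by
      by_cases h : ⁅g₁, b⁆ = 1
      · exact ⟨g₁, hg₁N, hg₁a, h⟩
      · refine ⟨g₁ * a, ?_, ?_, ?_⟩
        · intro h'
          exact hg₁N ((Subgroup.mul_mem_cancel_right N ha).1 h')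
        · rw [commutatorElement_mul_left hZ, hg₁a, commutatorElement_self, mul_one]
        · rw [commutatorElement_mul_left hZ, ← hc,
            hvals _ (commutatorElement_mem_commutator hX' g₁ b) h]
          exact hcc
    -- the centraliser of `z`
    set H := Subgroup.centralizer ({z} : Set X) with hH
    have hmemH : ∀ y : X, ⁅z, y⁆ = 1 → y ∈ H := by
      intro y hy
      rw [hH, Subgroup.mem_centralizer_iff]
      intro w hw
      rw [Set.mem_singleton_iff] at hw
      rw [hw]
      exact commutatorElement_eq_one_iff_mul_comm.1 hy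
    have haH : a ∈ H := hmemH a hza
    have hbH : b ∈ H := hmemH b hzb
    have hzH : z ∈ H := hmemH z (commutatorElement_self z)
    have hHidx := index_centralizer_le_two hX' hZ z
    rw [← hH] at hHidx
    by_cases hHtop : H = ⊤
    · apply hzN
      apply hZN
      rw [Subgroup.mem_center_iff]
      intro y
      have : y ∈ H := by rw [hHtop]; exact Subgroup.mem_top y
      rw [hH, Subgroup.mem_centralizer_iff] at this
      exact (this z (Set.mem_singleton z)).symm
    · have hHidx2 : H.index = 2 := by
        have h0 : H.index ≠ 0 := Subgroup.index_ne_zero_of_finite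
        have h1 : H.index ≠ 1 := fun h => hHtop (Subgroup.index_eq_one.1 h)
        omega
      have hHcard : Nat.card H = 8 := by
        have h1 := H.card_mul_index
        rw [hHidx2, hX] at h1
        omega
      have hdvd : Nat.card (H ⊓ N : Subgroup X) ∣ 8 := by
        rw [← hNcard]; exact Subgroup.card_dvd_of_le inf_le_right
      have hne : Nat.card (H ⊓ N : Subgroup X) ≠ 8 := by
        intro h
        have h1 : H ⊓ N = H := Subgroup.eq_of_le_of_card_ge inf_le_left (by rw [h, hHcard])
        have h2 : H ≤ N := inf_eq_left.1 h1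
        exact hzN (h2 hzH)
      have h8 : (8 : ℕ) = 2 ^ 3 := by norm_num
      rw [h8] at hdvd
      obtain ⟨j, hj, hjK⟩ := (Nat.dvd_prime_pow Nat.prime_two).1 hdvd
      have hj2 : j ≤ 2 := by
        by_contra hlt
        push Not at hlt
        have : j = 3 := by omega
        rw [this] at hjK
        exact hne (by rw [hjK]; norm_num)
      have hdvd4 : Nat.card (H ⊓ N : Subgroup X) ∣ 4 := by
        have h4 : (4 : ℕ) = 2 ^ 2 := by norm_num
        rw [hjK, h4]; exact pow_dvd_pow 2 hj2
      exact hab (comm_of_card_dvd_four (H ⊓ N) hdvd4 a ⟨haH, ha⟩ b ⟨hbH, hb⟩)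

end sixteen

end Cfsg.Agent.Lib.Helper4.Kul
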