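import Mathlib
import Cfsg.Agent.Lib.Helper4.Kul5
import Cfsg.Agent.Lib.Lead.MaxClass7

set_option autoImplicit false

/-! The number of maximal subgroups of maximal class of a `2`-group which is not of maximal class
is even. -/

namespace Cfsg.Agent.Lib.Helper4.Kul

open scoped Classical commutatorElement

universe u

section chain

variable {G : Type u} [Group G] [Finite G]

/-- the subgroup of index two of a cyclic `2`-subgroup, and the chain property. -/
theorem exists_sub_of_cyclic (D : Subgroup G) (hDcyc : IsCyclic D) (j : ℕ)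
    (hD : Nat.card D = 2 ^ (j + 1)) :
    ∃ D₂ : Subgroup G, D₂ ≤ D ∧ Nat.card D₂ = 2 ^ j ∧ (∀ y ∈ D, y ∈ D₂ ↔ y ^ 2 ^ j = 1) ∧
      ∀ H : Subgroup G, H ≤ D → H = D ∨ H ≤ D₂ := by
  haveI : Fact (Nat.Prime 2) := ⟨Nat.prime_two⟩
  have hdvd : 2 ^ j ∣ Nat.card D := by rw [hD]; exact pow_dvd_pow 2 (by omega)
  obtain ⟨K, hK⟩ := Sylow.exists_subgroup_card_pow_prime 2 hdvd
  set D₂ := K.map D.subtype with hD₂
  have hle : D₂ ≤ D := Subgroup.map_subtype_le K
  have hcard : Nat.card D₂ = 2 ^ j := by
    rw [hD₂, Subgroup.card_map_of_injective D.subtype_injective]; exact hK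
  have hmem : ∀ y ∈ D, y ∈ D₂ ↔ y ^ 2 ^ j = 1 := by
    intro y hy
    have := mem_iff_pow_card_of_le_cyclic D D₂ hDcyc hle hy
    rwa [hcard] at this
  refine ⟨D₂, hle, hcard, hmem, ?_⟩
  intro H hH
  by_cases hHD : H = D
  · left; exact hHD
  · right
    have h1 : Nat.card H ∣ 2 ^ (j + 1) := by rw [← hD]; exact Subgroup.card_dvd_of_le hH
    obtain ⟨i, hi, hiH⟩ := (Nat.dvd_prime_pow Nat.prime_two).1 h1
    have hij : i ≤ j := by
      by_contra hlt
      push Not at hlt
      have : i = j + 1 := by omega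
      apply hHD
      apply Subgroup.eq_of_le_of_card_ge hH
      rw [hiH, hD, this]
    intro h hh
    rw [hmem h (hH hh)]
    have h2 : (⟨h, hh⟩ : H) ^ Nat.card H = 1 := pow_card_eq_one'
    rw [hiH] at h2
    have h3 : h ^ 2 ^ i = 1 := by
      have := congrArg Subtype.val h2
      simpa using this
    obtain ⟨d, hd⟩ := pow_dvd_pow 2 hij
    rw [hd, pow_mul, h3, one_pow]

/-- the abelianization of a noncyclic `2`-group not of maximal class has order at least `8`. -/
theorem exists_index_commutator (m : ℕ) (hG : Nat.card G = 2 ^ m) (hnc : ¬ IsCyclic G)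
    (hidx : (commutator G).index ≠ 4) :
    ∃ j : ℕ, 3 ≤ j ∧ j ≤ m ∧ (commutator G).index = 2 ^ j ∧
      Nat.card (commutator G) = 2 ^ (m - j) := by
  haveI : Fact (Nat.Prime 2) := ⟨Nat.prime_two⟩
  have hGp : IsPGroup 2 G := IsPGroup.of_card hG
  have h1 := (commutator G).card_mul_index
  rw [hG] at h1
  have h2 : (commutator G).index ∣ 2 ^ m := Dvd.intro_left _ h1
  obtain ⟨j, hj, hjw⟩ := (Nat.dvd_prime_pow Nat.prime_two).1 h2
  have hj3 : 3 ≤ j := by
    by_contra hlt
    push Not at hlt
    have hcard : Nat.card (G ⧸ commutator G) = 2 ^ j := by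
      rw [← Subgroup.index_eq_card]; exact hjw
    interval_cases j
    · apply hnc
      apply Cfsg.Agent.Lib.Lead.isCyclic_of_isCyclic_abelianization hGp
      haveI : Subsingleton (G ⧸ commutator G) := by
        rw [← Finite.card_le_one_iff_subsingleton, hcard]; norm_num
      exact isCyclic_of_subsingleton
    · apply hnc
      apply Cfsg.Agent.Lib.Lead.isCyclic_of_isCyclic_abelianization hGp
      exact isCyclic_of_prime_card (p := 2) (by rw [hcard]; norm_num)
    · apply hidx
      rw [hjw]; norm_num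
  refine ⟨j, hj3, hj, hjw, ?_⟩
  rw [hjw] at h1
  have h4 : (2 : ℕ) ^ m = 2 ^ (m - j) * 2 ^ j := by rw [← pow_add]; congr 1; omega
  rw [h4] at h1
  exact Nat.eq_of_mul_eq_mul_right (by positivity) h1

end chain

section maxclassmax

variable {G : Type u} [Group G] [Finite G]

theorem card_split_pred {α : Type*} [Finite α] (A C : α → Prop) :
    Nat.card {x : α // A x} = Nat.card {x : α // A x ∧ C x} + Nat.card {x : α // A x ∧ ¬ C x} := by
  letI : Fintype α := Fintype.ofFinite α
  simp only [Nat.card_eq_fintype_card, Fintype.card_subtype]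
  rw [← Finset.card_filter_add_card_filter_not (s := Finset.univ.filter A) C,
    Finset.filter_filter, Finset.filter_filter]

/-- **The number of maximal subgroups of maximal class is even.** -/
theorem even_card_maxclass_maximal (m : ℕ) (hm : 4 ≤ m) (hG : Nat.card G = 2 ^ m)
    (hidx : (commutator G).index ≠ 4) :
    Even (Nat.card {M : Subgroup G // M.index = 2 ∧ (commutator M).index = 4}) := by
  haveI : Fact (Nat.Prime 2) := ⟨Nat.prime_two⟩
  have hGp : IsPGroup 2 G := IsPGroup.of_card hG
  by_cases hemp : IsEmpty {M : Subgroup G // M.index = 2 ∧ (commutator M).index = 4}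
  · rw [Nat.card_of_isEmpty]; exact Even.zero
  rw [not_isEmpty_iff] at hemp
  obtain ⟨M₀, hM₀idx, hM₀c⟩ := hemp
  have hM₀card := card_of_index_two m (by omega) hG M₀ hM₀idx
  -- `G` is not cyclic
  have hnc : ¬ IsCyclic G := by
    intro hcyc
    haveI := hcyc
    haveI : IsCyclic M₀ := Subgroup.isCyclic M₀
    letI : CommGroup M₀ := IsCyclic.commGroup
    have h1 : commutator M₀ = ⊥ := by
      rw [commutator_def, Subgroup.commutator_eq_bot_iff_le_centralizer]
      intro g _
      rw [Subgroup.mem_centralizer_iff]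
      intro w _
      exact mul_comm w g
    rw [h1, Subgroup.index_bot, hM₀card] at hM₀c
    have h2 : (2 : ℕ) ^ 3 ≤ 2 ^ (m - 1) := Nat.pow_le_pow_right (by norm_num) (by omega)
    omega
  -- the commutator subgroup
  have hcM₀ : Nat.card (commutator M₀) = 2 ^ (m - 3) := by
    have h1 := (commutator M₀).card_mul_index
    rw [hM₀c, hM₀card] at h1
    have h2 : (2 : ℕ) ^ (m - 1) = 2 ^ (m - 3) * 4 := by
      have : (4 : ℕ) = 2 ^ 2 := by norm_num
      rw [this, ← pow_add]; congr 1; omega
    rw [h2] at h1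
    exact Nat.eq_of_mul_eq_mul_right (by norm_num) h1
  set D := commutator G with hD
  have hcomm_le : ∀ M : Subgroup G, ⁅M, M⁆ ≤ D := by
    intro M
    rw [hD, commutator_def]
    exact Subgroup.commutator_mono le_top le_top
  have hcard_comm : ∀ M : Subgroup G, Nat.card (⁅M, M⁆ : Subgroup G) = Nat.card (commutator M) := by
    intro M
    rw [← Subgroup.map_subtype_commutator, Subgroup.card_map_of_injective M.subtype_injective]
  obtain ⟨j, hj3, hjm, hjidx, hjcard⟩ := exists_index_commutator m hG hnc hidx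
  have hM₀D : ⁅M₀, M₀⁆ = D := by
    apply Subgroup.eq_of_le_of_card_ge (hcomm_le M₀)
    rw [hcard_comm, hcM₀, hjcard]
    exact Nat.pow_le_pow_right (by norm_num) (by omega)
  have hDcard : Nat.card D = 2 ^ (m - 3) := by
    rw [← hM₀D, hcard_comm, hcM₀]
  -- `D` is cyclic
  have hDcyc : IsCyclic D := by
    obtain ⟨C₀, hC₀cyc, hC₀idx⟩ :=
      Cfsg.Agent.Lib.Lead.exists_cyclic_index_two_of_index_commutator (m - 1) M₀ (by omega)
        hM₀card hM₀c
    have h1 : commutator M₀ ≤ C₀ := commutator_le_of_index_two C₀ hC₀idx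
    have h2 : IsCyclic (commutator M₀) := by
      haveI := hC₀cyc
      exact Subgroup.isCyclic_of_le h1
    have h3 : IsCyclic ((commutator M₀).map M₀.subtype) :=
      (isCyclic_map_subtype_iff M₀ (commutator M₀)).2 h2
    rw [Subgroup.map_subtype_commutator, hM₀D] at h3
    exact h3
  -- the subgroup of index two of `D`
  have hDcard' : Nat.card D = 2 ^ ((m - 4) + 1) := by
    rw [hDcard]; congr 1; omega
  obtain ⟨D₂, hD₂le, hD₂card, hD₂mem, hchain⟩ := exists_sub_of_cyclic D hDcyc (m - 4) hDcard'
  haveI hDn : D.Normal := by rw [hD]; infer_instance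
  haveI hD₂n : D₂.Normal := by
    constructor
    intro n hn g
    have hnD : n ∈ D := hD₂le hn
    have h1 : g * n * g⁻¹ ∈ D := hDn.conj_mem n hnD g
    rw [hD₂mem _ h1, conj_pow, (hD₂mem n hnD).1 hn]
    simp
  have hDnotle : ¬ D ≤ D₂ := by
    intro h
    have := Subgroup.card_le_of_le h
    rw [hDcard, hD₂card] at this
    have h2 : (2 : ℕ) ^ (m - 4) < 2 ^ (m - 3) := Nat.pow_lt_pow_right (by norm_num) (by omega)
    omega
  -- the quotient of order sixteen
  set π := QuotientGroup.mk' D₂ with hπ
  have hπs : Function.Surjective π := QuotientGroup.mk'_surjective D₂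
  have hX16 : Nat.card (G ⧸ D₂) = 16 := by
    have h1 := Subgroup.card_eq_card_quotient_mul_card_subgroup D₂
    rw [hG, hD₂card] at h1
    have h2 : (2 : ℕ) ^ m = 16 * 2 ^ (m - 4) := by
      have : (16 : ℕ) = 2 ^ 4 := by norm_num
      rw [this, ← pow_add]; congr 1; omega
    rw [h2] at h1
    exact (Nat.eq_of_mul_eq_mul_right (by positivity) h1).symm
  have hXcomm : commutator (G ⧸ D₂) = D.map π := by
    rw [hD, commutator_def, commutator_def, Subgroup.map_commutator,
      Subgroup.map_top_of_surjective π hπs]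
  have hX' : Nat.card (commutator (G ⧸ D₂)) = 2 := by
    rw [hXcomm]
    have h1 := Cfsg.Agent.Lib.Lead.card_map_mk'_mul D₂ D hD₂le
    rw [hDcard, hD₂card] at h1
    have h2 : (2 : ℕ) ^ (m - 3) = 2 * 2 ^ (m - 4) := by rw [← pow_succ']; congr 1; omega
    rw [h2] at h1
    exact Nat.eq_of_mul_eq_mul_right (by positivity) h1
  set K := (Subgroup.center (G ⧸ D₂)).comap π with hK
  have hKtop : K ≠ ⊤ := by
    intro h
    have h1 : Subgroup.center (G ⧸ D₂) = ⊤ := by
      rw [eq_top_iff]
      intro x _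
      obtain ⟨g, rfl⟩ := hπs x
      have : g ∈ K := by rw [h]; exact Subgroup.mem_top g
      exact this
    have h4 : commutator (G ⧸ D₂) = ⊥ := by
      rw [commutator_def, Subgroup.commutator_eq_bot_iff_le_centralizer]
      intro g _
      rw [Subgroup.mem_centralizer_iff]
      intro w _
      have : g ∈ Subgroup.center (G ⧸ D₂) := by rw [h1]; exact Subgroup.mem_top g
      exact (Subgroup.mem_center_iff.1 this w)
    rw [h4, Subgroup.card_bot] at hX'
    omega
  -- the key equivalence
  have key : ∀ M : Subgroup G, M.index = 2 → ((commutator M).index = 4 ↔ ¬ K ≤ M) := by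
    intro M hM
    have hMcard := card_of_index_two m (by omega) hG M hM
    have hDM : D ≤ M := commutator_le_of_index_two M hM
    have hD₂M : D₂ ≤ M := hD₂le.trans hDM
    have hMmap : (M.map π).index = 2 := by
      rw [Subgroup.index_map_eq M hπs (by rw [hπ, QuotientGroup.ker_mk']; exact hD₂M)]
      exact hM
    have h16 := comm_iff_center_le hX' hX16 (M.map π) hMmap
    have hA : (∀ a ∈ M.map π, ∀ b ∈ M.map π, a * b = b * a) ↔ ⁅M, M⁆ ≤ D₂ := by
      constructor
      · intro h
        rw [Subgroup.commutator_le]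
        intro g₁ hg₁ g₂ hg₂
        have h1 := h (π g₁) (Subgroup.mem_map_of_mem π hg₁) (π g₂) (Subgroup.mem_map_of_mem π hg₂)
        have h2 : ⁅π g₁, π g₂⁆ = 1 := commutatorElement_eq_one_iff_mul_comm.2 h1
        rw [← map_commutatorElement] at h2
        exact (QuotientGroup.eq_one_iff _).1 h2
      · intro h a ha b hb
        obtain ⟨g₁, hg₁, rfl⟩ := Subgroup.mem_map.1 ha
        obtain ⟨g₂, hg₂, rfl⟩ := Subgroup.mem_map.1 hb
        apply commutatorElement_eq_one_iff_mul_comm.1
        rw [← map_commutatorElement]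
        exact (QuotientGroup.eq_one_iff _).2 (Subgroup.commutator_le.1 h g₁ hg₁ g₂ hg₂)
    have hB : Subgroup.center (G ⧸ D₂) ≤ M.map π ↔ K ≤ M := by
      constructor
      · intro h g hg
        have h1 : π g ∈ M.map π := h hg
        obtain ⟨g', hg', hgg⟩ := Subgroup.mem_map.1 h1
        have h2 : g'⁻¹ * g ∈ D₂ := by
          rw [← QuotientGroup.eq]
          exact hgg
        have : g = g' * (g'⁻¹ * g) := by group
        rw [this]
        exact M.mul_mem hg' (hD₂M h2)
      · intro h x hx
        obtain ⟨g, rfl⟩ := hπs x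
        exact Subgroup.mem_map_of_mem π (h hx)
    have hC : (commutator M).index = 4 ↔ ¬ ⁅M, M⁆ ≤ D₂ := by
      have h1 := (commutator M).card_mul_index
      rw [hMcard] at h1
      have h2 : (2 : ℕ) ^ (m - 1) = 2 ^ (m - 3) * 4 := by
        have : (4 : ℕ) = 2 ^ 2 := by norm_num
        rw [this, ← pow_add]; congr 1; omega
      constructor
      · intro h4 hle
        rw [h4, h2] at h1
        have h3 : Nat.card (commutator M) = 2 ^ (m - 3) :=
          Nat.eq_of_mul_eq_mul_right (by norm_num) h1
        have h5 : ⁅M, M⁆ = D := by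
          apply Subgroup.eq_of_le_of_card_ge (hcomm_le M)
          rw [hcard_comm, h3, hDcard]
        rw [h5] at hle
        exact hDnotle hle
      · intro hnle
        rcases hchain ⁅M, M⁆ (hcomm_le M) with h5 | h5
        · have h3 : Nat.card (commutator M) = 2 ^ (m - 3) := by
            rw [← hcard_comm, h5, hDcard]
          rw [h3, h2] at h1
          exact Nat.eq_of_mul_eq_mul_left (by positivity) h1
        · exact absurd h5 hnle
    rw [hC, ← hA, h16, hB]
  -- counting
  have hbt : (⊥ : Subgroup G) ≠ ⊤ := by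
    intro h
    have h1 : Nat.card (⊥ : Subgroup G) = Nat.card (⊤ : Subgroup G) := by rw [h]
    rw [Subgroup.card_bot, Subgroup.card_top, hG] at h1
    have h2 : (2 : ℕ) ^ 4 ≤ 2 ^ m := Nat.pow_le_pow_right (by norm_num) hm
    omega
  have h1 := Cfsg.Agent.Lib.Helper4.PC.card_index_p_modEq 2 hGp (⊥ : Subgroup G) hbt
  have h2 := Cfsg.Agent.Lib.Helper4.PC.card_index_p_modEq 2 hGp K hKtop
  have h3 : Nat.card {M : Subgroup G // M.index = 2 ∧ (⊥ : Subgroup G) ≤ M} =
      Nat.card {M : Subgroup G // M.index = 2} := by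
    apply Nat.card_congr
    exact Equiv.subtypeEquivRight (fun M => by simp)
  have h4 := card_split_pred (α := Subgroup G) (fun M => M.index = 2) (fun M => K ≤ M)
  have h5 : Nat.card {M : Subgroup G // M.index = 2 ∧ (commutator M).index = 4} =
      Nat.card {M : Subgroup G // M.index = 2 ∧ ¬ K ≤ M} := by
    apply Nat.card_congr
    apply Equiv.subtypeEquivRight
    intro M
    constructor
    · rintro ⟨hM, hMc⟩
      exact ⟨hM, (key M hM).1 hMc⟩
    · rintro ⟨hM, hMK⟩
      exact ⟨hM, (key M hM).2 hMK⟩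
  rw [h5]
  rw [h3, h4] at h1
  -- `a + b ≡ a (mod 2)` forces `b` even
  rw [Nat.even_iff]
  have h7 := Nat.ModEq.add_left_cancel' _ (show
    Nat.card {M : Subgroup G // M.index = 2 ∧ K ≤ M} + 0 ≡
      Nat.card {M : Subgroup G // M.index = 2 ∧ K ≤ M} +
        Nat.card {M : Subgroup G // M.index = 2 ∧ ¬ K ≤ M} [MOD 2] by
    rw [add_zero]; exact h2.trans h1.symm)
  exact h7.symm

end maxclassmax

end Cfsg.Agent.Lib.Helper4.Kul
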