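import Mathlib
import Cfsg.Agent.Lib.Helper4.Kul2
import Cfsg.Agent.Lib.Helper4.Kul6

set_option autoImplicit false

/-! The number of cyclic subgroups of order `2 ^ n ≥ 4` of a noncyclic `2`-group which is not of
maximal class is even. -/

namespace Cfsg.Agent.Lib.Helper4.Kul

open scoped Classical

universe u

section small

variable {M : Type u} [Group M] [Finite M]

/-- a cyclic `2`-group has exactly one (cyclic) subgroup of each possible order. -/
theorem cyc_of_isCyclic (k n : ℕ) (hM : Nat.card M = 2 ^ k) (hcyc : IsCyclic M) (hn : n ≤ k) :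
    cyc n M = 1 := by
  haveI : Fact (Nat.Prime 2) := ⟨Nat.prime_two⟩
  haveI := hcyc
  unfold cyc
  rw [Nat.card_eq_one_iff_unique]
  constructor
  · constructor
    rintro ⟨Z₁, _, h₁⟩ ⟨Z₂, _, h₂⟩
    apply Subtype.ext
    exact Cfsg.Agent.Lib.Helper4.cyclic_subgroup_eq_of_card_eq Z₁ Z₂ (by rw [h₁, h₂])
  · have hdvd : 2 ^ n ∣ Nat.card M := by rw [hM]; exact pow_dvd_pow 2 hn
    obtain ⟨K, hK⟩ := Sylow.exists_subgroup_card_pow_prime 2 hdvd
    exact ⟨⟨K, Subgroup.isCyclic K, hK⟩⟩

/-- a group of order `2 ^ k` with a cyclic subgroup of order `2 ^ n` where `k ≤ n` is cyclic. -/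
theorem isCyclic_of_cyc_ne_zero (k n : ℕ) (hM : Nat.card M = 2 ^ k) (hkn : k ≤ n)
    (h : cyc n M ≠ 0) : IsCyclic M := by
  unfold cyc at h
  have hne : Nonempty {Z : Subgroup M // IsCyclic Z ∧ Nat.card Z = 2 ^ n} := by
    by_contra hemp
    rw [not_nonempty_iff] at hemp
    exact h Nat.card_of_isEmpty
  obtain ⟨Z, hZcyc, hZcard⟩ := hne
  have h1 : Nat.card M ≤ Nat.card Z := by
    rw [hM, hZcard]; exact Nat.pow_le_pow_right (by norm_num) hkn
  have h2 : Z = ⊤ := Subgroup.eq_top_of_le_card Z h1
  rw [h2] at hZcyc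
  exact (Subgroup.topEquiv (G := M)).isCyclic.1 hZcyc

theorem cyc_eq_zero_of_not_isCyclic (k n : ℕ) (hM : Nat.card M = 2 ^ k) (hkn : k ≤ n)
    (hnc : ¬ IsCyclic M) : cyc n M = 0 := by
  by_contra h
  exact hnc (isCyclic_of_cyc_ne_zero k n hM hkn h)

end small

section count

theorem sum_ite_eq_card {α : Type*} [Fintype α] (A C : α → Prop) [DecidablePred A]
    [DecidablePred C] :
    ∑ x ∈ Finset.univ.filter A, (if C x then 1 else 0) = Nat.card {x : α // A x ∧ C x} := by
  rw [Finset.sum_boole, Finset.filter_filter, Nat.card_eq_fintype_card, Fintype.card_subtype]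
  simp

end count

/-- **Even number of cyclic subgroups.** -/
theorem even_cyc : ∀ (m : ℕ) (G : Type u) [Group G] [Finite G], Nat.card G = 2 ^ m →
    ¬ IsCyclic G → (3 ≤ m → (commutator G).index ≠ 4) → ∀ n : ℕ, 2 ≤ n → Even (cyc n G) := by
  intro m
  induction m using Nat.strong_induction_on with
  | _ m ih =>
  intro G _ _ hG hnc hidx n hn
  haveI : Fact (Nat.Prime 2) := ⟨Nat.prime_two⟩
  have hGp : IsPGroup 2 G := IsPGroup.of_card hG
  rcases Nat.lt_or_ge n m with hnm | hnm
  swap
  · rw [cyc_eq_zero_of_not_isCyclic m n hG hnm hnc]; exact Even.zero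
  have hm3 : 3 ≤ m := by omega
  have hidx' := hidx hm3
  letI : Fintype (Subgroup G) := Fintype.ofFinite _
  have hsum := cyc_modEq_sum hGp hnc n
  have hMcard : ∀ M : Subgroup G, M.index = 2 → Nat.card M = 2 ^ (m - 1) :=
    fun M hM => card_of_index_two m (by omega) hG M hM
  have hcycmax := even_card_cyclic_maximal m hm3 hG hnc hidx'
  rw [Nat.even_iff]
  rcases Nat.lt_or_ge n (m - 1) with hlt | hge
  · -- `n ≤ m - 2`
    have hm4 : 4 ≤ m := by omega
    have hmaxmax := even_card_maxclass_maximal m hm4 hG hidx'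
    have hterm : ∀ M ∈ Finset.univ.filter (fun M : Subgroup G => M.index = 2),
        cycBelow n M ≡ (if IsCyclic M then 1 else 0) +
          (if (commutator M).index = 4 then 1 else 0) [MOD 2] := by
      intro M hM
      rw [Finset.mem_filter] at hM
      have hMc := hMcard M hM.2
      rw [cycBelow_eq]
      by_cases hcyc : IsCyclic M
      · have h1 : (commutator M).index ≠ 4 := by
          haveI := hcyc
          letI : CommGroup M := IsCyclic.commGroup
          have h1 : commutator M = ⊥ := by
            rw [commutator_def, Subgroup.commutator_eq_bot_iff_le_centralizer]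
            intro g _
            rw [Subgroup.mem_centralizer_iff]
            intro w _
            exact mul_comm w g
          rw [h1, Subgroup.index_bot, hMc]
          have h2 : (2 : ℕ) ^ 3 ≤ 2 ^ (m - 1) := Nat.pow_le_pow_right (by norm_num) (by omega)
          omega
        rw [if_pos hcyc, if_neg h1, cyc_of_isCyclic (m - 1) n hMc hcyc (by omega)]
      · rw [if_neg hcyc]
        by_cases hmc : (commutator M).index = 4
        · rw [if_pos hmc]
          have h1 := odd_cyc_of_maxclass (m - 1) (by omega) hMc hmc n hn (by omega)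
          rw [Nat.odd_iff] at h1
          exact h1
        · rw [if_neg hmc]
          have h1 := ih (m - 1) (by omega) M hMc hcyc (fun _ => hmc) n hn
          rw [Nat.even_iff] at h1
          exact h1
    have h2 := hsum.trans (Nat.ModEq.sum hterm)
    rw [Finset.sum_add_distrib] at h2
    have e1 := sum_ite_eq_card (fun M : Subgroup G => M.index = 2) (fun M => IsCyclic M)
    have e2 := sum_ite_eq_card (fun M : Subgroup G => M.index = 2)
      (fun M => (commutator M).index = 4)
    rw [e1, e2] at h2
    rw [Nat.even_iff] at hcycmax hmaxmax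
    unfold Nat.ModEq at h2
    omega
  · -- `n = m - 1`
    have hterm : ∀ M ∈ Finset.univ.filter (fun M : Subgroup G => M.index = 2),
        cycBelow n M ≡ (if IsCyclic M then 1 else 0) [MOD 2] := by
      intro M hM
      rw [Finset.mem_filter] at hM
      have hMc := hMcard M hM.2
      rw [cycBelow_eq]
      by_cases hcyc : IsCyclic M
      · rw [if_pos hcyc, cyc_of_isCyclic (m - 1) n hMc hcyc (by omega)]
      · rw [if_neg hcyc, cyc_eq_zero_of_not_isCyclic (m - 1) n hMc hge hcyc]
    have h2 := hsum.trans (Nat.ModEq.sum hterm)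
    have e1 := sum_ite_eq_card (fun M : Subgroup G => M.index = 2) (fun M => IsCyclic M)
    rw [e1] at h2
    rw [Nat.even_iff] at hcycmax
    unfold Nat.ModEq at h2
    omega

end Cfsg.Agent.Lib.Helper4.Kul
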