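import Mathlib
import Cfsg.Agent.Lib.Helper4.LBal10

set_option autoImplicit false
open scoped commutatorElement

/-!
The "norm map" of a component `K0` with respect to a subgroup `R`:
`c ↦ ∏_{t ∈ R / (R ∩ N(K0))} t c t⁻¹` on `K0 ∩ C(R ∩ N(K0))`.
-/

namespace Cfsg.Agent.Lib.LB2

open Cfsg Cfsg.Agent.Lib.Helper1 Cfsg.Agent.Lib.Helper3

section Reindex

theorem nh_multiset_noncommProd_congr {M : Type*} [Monoid M] {s t : Multiset M} (h : s = t)
    (hs : {x | x ∈ s}.Pairwise Commute) (ht : {x | x ∈ t}.Pairwise Commute) :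
    s.noncommProd hs = t.noncommProd ht := by
  subst h; rfl

theorem nh_noncommProd_univ_comp_equiv {ι : Type*} [Fintype ι] {M : Type*} [Monoid M]
    (e : ι ≃ ι) (g : ι → M)
    (h1 : ((Finset.univ : Finset ι) : Set ι).Pairwise (Function.onFun Commute fun i => g (e i)))
    (h2 : ((Finset.univ : Finset ι) : Set ι).Pairwise (Function.onFun Commute g)) :
    (Finset.univ : Finset ι).noncommProd (fun i => g (e i)) h1 =
      (Finset.univ : Finset ι).noncommProd g h2 := by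
  unfold Finset.noncommProd
  apply nh_multiset_noncommProd_congr
  have h3 : (Finset.univ : Finset ι).val.map e = (Finset.univ : Finset ι).val := by
    have := congrArg Finset.val (Finset.map_univ_equiv e)
    simpa using this
  calc (Finset.univ : Finset ι).val.map (fun i => g (e i))
      = ((Finset.univ : Finset ι).val.map e).map g := by rw [Multiset.map_map]; rfl
    _ = (Finset.univ : Finset ι).val.map g := by rw [h3]

end Reindex

section NormHom
variable {Y : Type*} [Group Y]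

/-- `R ∩ N(K0)` -/
abbrev nhR0 (K0 R : Subgroup Y) : Subgroup Y := R ⊓ Subgroup.normalizer (K0 : Set Y)

/-- the domain `K0 ∩ C(R ∩ N(K0))` of the norm map -/
abbrev nhDom (K0 R : Subgroup Y) : Subgroup Y :=
  K0 ⊓ Subgroup.centralizer ((R ⊓ Subgroup.normalizer (K0 : Set Y) : Subgroup Y) : Set Y)

/-- the index set `R / (R ∩ N(K0))` -/
abbrev nhIdx (K0 R : Subgroup Y) : Type _ :=
  ↥R ⧸ (R ⊓ Subgroup.normalizer (K0 : Set Y) : Subgroup Y).subgroupOf R

theorem nh_conj_eq_of_mk_eq (K0 R : Subgroup Y) {t t' : ↥R}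
    (h : (QuotientGroup.mk t : nhIdx K0 R) = QuotientGroup.mk t') {c : Y}
    (hc : c ∈ nhDom K0 R) :
    (t : Y) * c * (t : Y)⁻¹ = (t' : Y) * c * (t' : Y)⁻¹ := by
  rw [QuotientGroup.eq, Subgroup.mem_subgroupOf] at h
  have h1 : ((t : Y)⁻¹ * (t' : Y)) ∈ nhR0 K0 R := by simpa using h
  have h2 := (Subgroup.mem_centralizer_iff.1 hc.2) _ h1
  calc (t : Y) * c * (t : Y)⁻¹ = (t : Y) * (c * ((t : Y)⁻¹ * (t' : Y))) * (t' : Y)⁻¹ := by group
    _ = (t : Y) * (((t : Y)⁻¹ * (t' : Y)) * c) * (t' : Y)⁻¹ := by rw [h2]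
    _ = (t' : Y) * c * (t' : Y)⁻¹ := by group

theorem nh_commute_of_mk_ne {K0 : Subgroup Y} (hK0 : IsComponent K0) (R : Subgroup Y) {t t' : ↥R}
    (hne : (QuotientGroup.mk t : nhIdx K0 R) ≠ QuotientGroup.mk t') {x y : Y}
    (hx : x ∈ K0) (hy : y ∈ K0) :
    Commute ((t : Y) * x * (t : Y)⁻¹) ((t' : Y) * y * (t' : Y)⁻¹) := by
  have hcj : cj (t : Y) K0 ≠ cj (t' : Y) K0 := by
    intro h
    apply hne
    rw [QuotientGroup.eq, Subgroup.mem_subgroupOf]
    refine ⟨(t⁻¹ * t').2, ?_⟩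
    apply mem_normalizer_of_cj_eq
    have : cj ((t : Y)⁻¹ * (t' : Y)) K0 = K0 := by
      rw [← cj_cj, ← h, cj_cj, inv_mul_cancel, cj_one]
    simpa using this
  have h1 : ⁅cj (t : Y) K0, cj (t' : Y) K0⁆ = ⊥ :=
    IsComponent.commutator_eq_bot_of_ne (IsComponent.map_conj hK0 (t : Y))
      (IsComponent.map_conj hK0 (t' : Y)) hcj
  rw [Subgroup.commutator_eq_bot_iff_le_centralizer] at h1
  have h2 := h1 (conj_mem_cj (t : Y) K0 hx)
  rw [Subgroup.mem_centralizer_iff] at h2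
  exact (h2 _ (conj_mem_cj (t' : Y) K0 hy)).symm

/-- the factor of the norm map at the coset `q` -/
noncomputable def nhPhi (K0 R : Subgroup Y) (q : nhIdx K0 R) : ↥(nhDom K0 R) →* Y :=
  ((MulAut.conj ((Quotient.out q : ↥R) : Y)).toMonoidHom).comp (nhDom K0 R).subtype

theorem nhPhi_apply (K0 R : Subgroup Y) (q : nhIdx K0 R) (c : ↥(nhDom K0 R)) :
    nhPhi K0 R q c = ((Quotient.out q : ↥R) : Y) * (c : Y) * ((Quotient.out q : ↥R) : Y)⁻¹ := rfl

theorem nhPhi_eq_of_mk (K0 R : Subgroup Y) (t : ↥R) (c : ↥(nhDom K0 R)) :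
    nhPhi K0 R (QuotientGroup.mk t) c = (t : Y) * (c : Y) * (t : Y)⁻¹ := by
  rw [nhPhi_apply]
  exact nh_conj_eq_of_mk_eq K0 R (QuotientGroup.out_eq' _) c.2

theorem nhPhi_comm {K0 : Subgroup Y} (hK0 : IsComponent K0) (R : Subgroup Y)
    {q q' : nhIdx K0 R} (hne : q ≠ q') (x y : ↥(nhDom K0 R)) :
    Commute (nhPhi K0 R q x) (nhPhi K0 R q' y) := by
  rw [nhPhi_apply, nhPhi_apply]
  apply nh_commute_of_mk_ne hK0 R _ x.2.1 y.2.1
  rw [QuotientGroup.out_eq', QuotientGroup.out_eq']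
  exact hne

theorem nhPhi_pairwise {K0 : Subgroup Y} (hK0 : IsComponent K0) (R : Subgroup Y) :
    Pairwise fun q q' : nhIdx K0 R => ∀ x y, Commute (nhPhi K0 R q x) (nhPhi K0 R q' y) :=
  fun _ _ h x y => nhPhi_comm hK0 R h x y

theorem nhPhi_setPairwise {K0 : Subgroup Y} (hK0 : IsComponent K0) (R : Subgroup Y)
    (s : Finset (nhIdx K0 R)) (c : ↥(nhDom K0 R)) :
    (s : Set (nhIdx K0 R)).Pairwise (Function.onFun Commute fun q => nhPhi K0 R q c) :=
  fun _ _ _ _ h => nhPhi_comm hK0 R h c c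

/-- the norm map -/
noncomputable def nhHom {K0 : Subgroup Y} (hK0 : IsComponent K0) (R : Subgroup Y)
    [Fintype (nhIdx K0 R)] : ↥(nhDom K0 R) →* Y :=
  (MonoidHom.noncommPiCoprod (nhPhi K0 R) (nhPhi_pairwise hK0 R)).comp
    (MonoidHom.pi fun _ => MonoidHom.id _)

theorem nhHom_apply {K0 : Subgroup Y} (hK0 : IsComponent K0) (R : Subgroup Y)
    [Fintype (nhIdx K0 R)] (c : ↥(nhDom K0 R)) :
    nhHom hK0 R c = Finset.univ.noncommProd (fun q => nhPhi K0 R q c)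
      (nhPhi_setPairwise hK0 R _ c) := by
  unfold nhHom
  rw [MonoidHom.comp_apply, MonoidHom.noncommPiCoprod_apply]
  rfl

theorem nhHom_mem_layer {K0 : Subgroup Y} (hK0 : IsComponent K0) (R : Subgroup Y)
    [Fintype (nhIdx K0 R)] (c : ↥(nhDom K0 R)) : nhHom hK0 R c ∈ layer Y := by
  rw [nhHom_apply]
  apply Subgroup.noncommProd_mem
  intro q _
  rw [nhPhi_apply]
  exact (layer_normal (G := Y)).conj_mem _ (IsComponent.le_layer hK0 c.2.1) _

theorem nhHom_conj_of_mem {K0 : Subgroup Y} (hK0 : IsComponent K0) (R : Subgroup Y)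
    [Fintype (nhIdx K0 R)] (c : ↥(nhDom K0 R)) {r : Y} (hr : r ∈ R) :
    r * nhHom hK0 R c * r⁻¹ = nhHom hK0 R c := by
  have h1 : r * nhHom hK0 R c * r⁻¹ = (MulAut.conj r).toMonoidHom (nhHom hK0 R c) := rfl
  rw [h1, nhHom_apply, Finset.map_noncommProd]
  have h2 : ∀ q : nhIdx K0 R, (MulAut.conj r).toMonoidHom (nhPhi K0 R q c) =
      nhPhi K0 R (MulAction.toPerm (⟨r, hr⟩ : ↥R) q) c := by
    intro q
    obtain ⟨t, rfl⟩ := QuotientGroup.mk_surjective q
    have h3 : MulAction.toPerm (⟨r, hr⟩ : ↥R) (QuotientGroup.mk t : nhIdx K0 R) =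
        QuotientGroup.mk (⟨r, hr⟩ * t) := rfl
    rw [h3, nhPhi_eq_of_mk, nhPhi_eq_of_mk]
    show r * ((t : Y) * (c : Y) * (t : Y)⁻¹) * r⁻¹ = _
    simp only [Subgroup.coe_mul]
    group
  refine (Finset.noncommProd_congr rfl (fun q _ => h2 q) _).trans ?_
  exact nh_noncommProd_univ_comp_equiv (MulAction.toPerm (⟨r, hr⟩ : ↥R))
    (fun q => nhPhi K0 R q c) _ _

theorem nhHom_mem_centralizer {K0 : Subgroup Y} (hK0 : IsComponent K0) (R : Subgroup Y)
    [Fintype (nhIdx K0 R)] (c : ↥(nhDom K0 R)) :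
    nhHom hK0 R c ∈ Subgroup.centralizer (R : Set Y) := by
  rw [Subgroup.mem_centralizer_iff]
  intro r hr
  have := nhHom_conj_of_mem hK0 R c hr
  calc r * nhHom hK0 R c = (r * nhHom hK0 R c * r⁻¹) * r := by group
    _ = nhHom hK0 R c * r := by rw [this]

theorem nhHom_equivariant {K0 : Subgroup Y} (hK0 : IsComponent K0) (R : Subgroup Y)
    [Fintype (nhIdx K0 R)] {l : Y} (hl : l ∈ Subgroup.centralizer (R : Set Y))
    (c : ↥(nhDom K0 R)) (hc : l * (c : Y) * l⁻¹ ∈ nhDom K0 R) :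
    nhHom hK0 R ⟨l * (c : Y) * l⁻¹, hc⟩ = l * nhHom hK0 R c * l⁻¹ := by
  have h1 : l * nhHom hK0 R c * l⁻¹ = (MulAut.conj l).toMonoidHom (nhHom hK0 R c) := rfl
  rw [h1, nhHom_apply, nhHom_apply, Finset.map_noncommProd]
  apply Finset.noncommProd_congr rfl
  intro q _
  rw [nhPhi_apply, nhPhi_apply]
  show _ = l * _ * l⁻¹
  have h2 := (Subgroup.mem_centralizer_iff.1 hl) _ (Quotient.out q : ↥R).2
  have h3 : ((Quotient.out q : ↥R) : Y)⁻¹ * l⁻¹ = l⁻¹ * ((Quotient.out q : ↥R) : Y)⁻¹ := by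
    rw [← mul_inv_rev, ← mul_inv_rev, h2]
  show ((Quotient.out q : ↥R) : Y) * (l * (c : Y) * l⁻¹) * ((Quotient.out q : ↥R) : Y)⁻¹ = _
  calc ((Quotient.out q : ↥R) : Y) * (l * (c : Y) * l⁻¹) * ((Quotient.out q : ↥R) : Y)⁻¹
      = (((Quotient.out q : ↥R) : Y) * l) * (c : Y) * (l⁻¹ * ((Quotient.out q : ↥R) : Y)⁻¹) := by
        group
    _ = (l * ((Quotient.out q : ↥R) : Y)) * (c : Y) * (((Quotient.out q : ↥R) : Y)⁻¹ * l⁻¹) := by
        rw [h2, h3]
    _ = l * (((Quotient.out q : ↥R) : Y) * (c : Y) * ((Quotient.out q : ↥R) : Y)⁻¹) * l⁻¹ := by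
        group

theorem nhHom_ker {K0 : Subgroup Y} (hK0 : IsComponent K0) (R : Subgroup Y)
    [Fintype (nhIdx K0 R)] (c : ↥(nhDom K0 R)) (h : nhHom hK0 R c = 1) :
    ∀ k ∈ K0, (c : Y) * k = k * (c : Y) := by
  classical
  rw [nhHom_apply] at h
  set q0 : nhIdx K0 R := QuotientGroup.mk (1 : ↥R) with hq0
  rw [← Finset.mul_noncommProd_erase Finset.univ (Finset.mem_univ q0)] at h
  have h0 : nhPhi K0 R q0 c = (c : Y) := by
    rw [hq0, nhPhi_eq_of_mk]; simp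
  rw [h0] at h
  have hrest : (Finset.univ.erase q0).noncommProd (fun q => nhPhi K0 R q c)
      (nhPhi_setPairwise hK0 R _ c) ∈ Subgroup.centralizer (K0 : Set Y) := by
    apply Subgroup.noncommProd_mem
    intro q hq
    obtain ⟨t, rfl⟩ := QuotientGroup.mk_surjective q
    rw [Subgroup.mem_centralizer_iff]
    intro k hk
    rw [nhPhi_eq_of_mk]
    have := nh_commute_of_mk_ne hK0 R (t := t) (t' := 1) (Finset.ne_of_mem_erase hq) c.2.1 hk
    simpa using this.symm.eq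
  have hc : (c : Y) ∈ Subgroup.centralizer (K0 : Set Y) := by
    have := eq_inv_of_mul_eq_one_left h
    rw [this]
    exact inv_mem hrest
  intro k hk
  exact ((Subgroup.mem_centralizer_iff.1 hc) k hk).symm

end NormHom

theorem exists_norm_hom {Y : Type*} [Group Y] [Finite Y] {K0 : Subgroup Y} (hK0 : IsComponent K0)
    (R : Subgroup Y) :
    ∃ f : ↥(K0 ⊓ Subgroup.centralizer ((R ⊓ Subgroup.normalizer (K0 : Set Y) : Subgroup Y) : Set Y)) →* Y,
      (∀ c, f c ∈ layer Y ⊓ Subgroup.centralizer (R : Set Y)) ∧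
      (∀ l : Y, l ∈ Subgroup.centralizer (R : Set Y) → l ∈ Subgroup.normalizer (K0 : Set Y) →
        ∀ (c : ↥(K0 ⊓ Subgroup.centralizer ((R ⊓ Subgroup.normalizer (K0 : Set Y) : Subgroup Y) : Set Y)))
          (hc : l * (c : Y) * l⁻¹ ∈
            K0 ⊓ Subgroup.centralizer ((R ⊓ Subgroup.normalizer (K0 : Set Y) : Subgroup Y) : Set Y)),
          f ⟨l * (c : Y) * l⁻¹, hc⟩ = l * f c * l⁻¹) ∧
      (∀ c, f c = 1 → ∀ k ∈ K0, (c : Y) * k = k * (c : Y)) := by
  classical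
  let _ : Fintype (nhIdx K0 R) := Fintype.ofFinite _
  refine ⟨nhHom hK0 R, fun c => ⟨nhHom_mem_layer hK0 R c, nhHom_mem_centralizer hK0 R c⟩,
    fun l hl _ c hc => nhHom_equivariant hK0 R hl c hc, fun c h => nhHom_ker hK0 R c h⟩

end Cfsg.Agent.Lib.LB2
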