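import Mathlib
import Cfsg.Agent.Lib.Helper4.LBal10
import Cfsg.Agent.Lib.Helper3.ExtLayer3
import Cfsg.Agent.Lib.Helper1.LB2Core
import Cfsg.Agent.Lib.Helper4.LB2Norm

set_option autoImplicit false
open scoped commutatorElement

/-!
Lemma R2 of `notes/S1301_Zstar_core_helper1.md` (the replacement of the Schreier step for `p = 2`),
deduced from `core_simple` (helper1) and the norm map `exists_norm_hom` (helper7).
-/

namespace Cfsg.Agent.Lib.LB2

open Cfsg Cfsg.Agent.Lib.Helper1 Cfsg.Agent.Lib.Helper3 Cfsg.Agent.Lib.Helper4.LBal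

section Generic
variable {G : Type*} [Group G]

/-- three subgroups lemma modulo a normal subgroup -/
theorem three_subgroups_le_normal (H₁ H₂ H₃ N : Subgroup G) [hN : N.Normal] (h1 : ⁅⁅H₂, H₃⁆, H₁⁆ ≤ N)
    (h2 : ⁅⁅H₃, H₁⁆, H₂⁆ ≤ N) : ⁅⁅H₁, H₂⁆, H₃⁆ ≤ N := by
  have hker : (QuotientGroup.mk' N).ker = N := QuotientGroup.ker_mk' N
  have e1 : ⁅⁅H₂.map (QuotientGroup.mk' N), H₃.map (QuotientGroup.mk' N)⁆, H₁.map (QuotientGroup.mk' N)⁆ = ⊥ := by
    rw [← Subgroup.map_commutator, ← Subgroup.map_commutator, Subgroup.map_eq_bot_iff, hker]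
    exact h1
  have e2 : ⁅⁅H₃.map (QuotientGroup.mk' N), H₁.map (QuotientGroup.mk' N)⁆, H₂.map (QuotientGroup.mk' N)⁆ = ⊥ := by
    rw [← Subgroup.map_commutator, ← Subgroup.map_commutator, Subgroup.map_eq_bot_iff, hker]
    exact h2
  have e3 := Subgroup.commutator_commutator_eq_bot_of_rotate e1 e2
  rw [← Subgroup.map_commutator, ← Subgroup.map_commutator, Subgroup.map_eq_bot_iff, hker] at e3
  exact e3

/-- three subgroups lemma modulo a subgroup normalized by the three subgroups -/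
theorem three_subgroups_le_of_le_normalizer (H₁ H₂ H₃ N : Subgroup G)
    (hn1 : H₁ ≤ Subgroup.normalizer (N : Set G)) (hn2 : H₂ ≤ Subgroup.normalizer (N : Set G))
    (hn3 : H₃ ≤ Subgroup.normalizer (N : Set G))
    (h1 : ⁅⁅H₂, H₃⁆, H₁⁆ ≤ N) (h2 : ⁅⁅H₃, H₁⁆, H₂⁆ ≤ N) : ⁅⁅H₁, H₂⁆, H₃⁆ ≤ N := by
  set T := Subgroup.normalizer (N : Set G) with hT
  haveI hNn : (N.subgroupOf T).Normal := Subgroup.normal_in_normalizer
  have key : ∀ A B C : Subgroup G, A ≤ T → B ≤ T → C ≤ T →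
      (⁅⁅A.subgroupOf T, B.subgroupOf T⁆, C.subgroupOf T⁆).map T.subtype = ⁅⁅A, B⁆, C⁆ := by
    intro A B C hA hB hC
    rw [Subgroup.map_commutator, Subgroup.map_commutator, Subgroup.subgroupOf_map_subtype,
      Subgroup.subgroupOf_map_subtype, Subgroup.subgroupOf_map_subtype,
      inf_of_le_left hA, inf_of_le_left hB, inf_of_le_left hC]
  have tr : ∀ A B C : Subgroup G, A ≤ T → B ≤ T → C ≤ T → ⁅⁅A, B⁆, C⁆ ≤ N →
      ⁅⁅A.subgroupOf T, B.subgroupOf T⁆, C.subgroupOf T⁆ ≤ N.subgroupOf T := by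
    intro A B C hA hB hC h x hx
    rw [Subgroup.mem_subgroupOf]
    apply h
    rw [← key A B C hA hB hC]
    exact ⟨x, hx, rfl⟩
  have h3 := three_subgroups_le_normal (H₁.subgroupOf T) (H₂.subgroupOf T)
    (H₃.subgroupOf T) (N.subgroupOf T) (tr H₂ H₃ H₁ hn2 hn3 hn1 h1) (tr H₃ H₁ H₂ hn3 hn1 hn2 h2)
  rw [← key H₁ H₂ H₃ hn1 hn2 hn3]
  rintro _ ⟨x, hx, rfl⟩
  exact Subgroup.mem_subgroupOf.1 (h3 hx)

/-- "no proper normal subgroup of index prime to `p`" passes to homomorphic images -/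
theorem no_coprime_index_of_surjective {A B : Type*} [Group A] [Group B] {p : ℕ} (g : A →* B)
    (hg : Function.Surjective g)
    (hA : ∀ M : Subgroup A, M.Normal → M.index.Coprime p → M = ⊤) :
    ∀ M : Subgroup B, M.Normal → M.index.Coprime p → M = ⊤ := by
  intro M hM hidx
  have h1 : M.comap g = ⊤ := by
    apply hA _ (hM.comap _)
    rw [Subgroup.index_comap_of_surjective M hg]
    exact hidx
  rw [eq_top_iff]
  intro y _
  obtain ⟨x, rfl⟩ := hg y
  have : x ∈ M.comap g := by rw [h1]; exact Subgroup.mem_top x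
  exact this

/-- if `ker f ≤ ker g` then `|g(M)|` divides `|f(M)|` -/
theorem card_map_dvd_of_ker_le {A B C : Type*} [Group A] [Group B] [Group C] [Finite A]
    (f : A →* B) (g : A →* C) (h : f.ker ≤ g.ker) (M : Subgroup A) :
    Nat.card (M.map g) ∣ Nat.card (M.map f) := by
  classical
  -- `M.map g` is a quotient of `M.map f`
  let φ : ↥(M.map f) →* ↥(M.map g) :=
    { toFun := fun y => ⟨g (Classical.choose y.2), Subgroup.mem_map_of_mem g (Classical.choose_spec y.2).1⟩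
      map_one' := by
        apply Subtype.ext
        have hs := Classical.choose_spec (1 : ↥(M.map f)).2
        have : Classical.choose (1 : ↥(M.map f)).2 ∈ g.ker := h (by
          rw [MonoidHom.mem_ker]; exact hs.2)
        exact this
      map_mul' := by
        intro y z
        apply Subtype.ext
        have hy := Classical.choose_spec y.2
        have hz := Classical.choose_spec z.2
        have hyz := Classical.choose_spec (y * z).2
        change g (Classical.choose (y * z).2) = g (Classical.choose y.2) * g (Classical.choose z.2)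
        rw [← map_mul]
        have : (Classical.choose y.2 * Classical.choose z.2)⁻¹ * Classical.choose (y * z).2 ∈ g.ker := by
          apply h
          rw [MonoidHom.mem_ker, map_mul, map_inv, map_mul, hy.2, hz.2, hyz.2]
          simp
        rw [MonoidHom.mem_ker, map_mul, map_inv, inv_mul_eq_one] at this
        exact this.symm }
  have hφ : Function.Surjective φ := by
    rintro ⟨_, ⟨a, ha, rfl⟩⟩
    refine ⟨⟨f a, Subgroup.mem_map_of_mem f ha⟩, ?_⟩
    apply Subtype.ext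
    have hs := Classical.choose_spec (⟨f a, Subgroup.mem_map_of_mem f ha⟩ : ↥(M.map f)).2
    change g (Classical.choose _) = g a
    have : a⁻¹ * Classical.choose (⟨f a, Subgroup.mem_map_of_mem f ha⟩ : ↥(M.map f)).2 ∈ g.ker := by
      apply h
      rw [MonoidHom.mem_ker, map_mul, map_inv, hs.2]
      simp
    rw [MonoidHom.mem_ker, map_mul, map_inv, inv_mul_eq_one] at this
    exact this.symm
  exact Subgroup.card_dvd_of_surjective φ hφ

end Generic

section Inn
variable {Q : Type*} [Group Q]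

theorem center_eq_bot_of_simple [IsSimpleGroup Q] (hna : ¬ IsMulCommutative Q) :
    Subgroup.center Q = ⊥ := by
  rcases Subgroup.Normal.eq_bot_or_eq_top (inferInstance : (Subgroup.center Q).Normal) with h | h
  · exact h
  · exfalso
    apply hna
    refine ⟨⟨fun a b => ?_⟩⟩
    have : a ∈ Subgroup.center Q := by rw [h]; exact Subgroup.mem_top a
    exact ((Subgroup.mem_center_iff.1 this) b).symm

theorem conj_injective_of_center_eq_bot (h : Subgroup.center Q = ⊥) :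
    Function.Injective (MulAut.conj : Q →* MulAut Q) := by
  rw [injective_iff_map_eq_one]
  intro a ha
  have : a ∈ Subgroup.center Q := by
    rw [Subgroup.mem_center_iff]
    intro x
    have h1 := DFunLike.congr_fun ha x
    rw [MulAut.conj_apply, MulAut.one_apply] at h1
    calc x * a = (a * x * a⁻¹) * a := by rw [h1]
      _ = a * x := by group
  rw [h] at this
  exact Subgroup.mem_bot.1 this

theorem centralizer_inn_eq_bot (h : Subgroup.center Q = ⊥) :
    Subgroup.centralizer ((Cfsg.Inn Q : Subgroup (MulAut Q)) : Set (MulAut Q)) = ⊥ := by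
  rw [eq_bot_iff]
  intro α hα
  rw [Subgroup.mem_bot]
  ext q
  rw [MulAut.one_apply]
  have h1 := (Subgroup.mem_centralizer_iff.1 hα) (MulAut.conj q) ⟨q, rfl⟩
  -- `conj q * α = α * conj q`, evaluate: conj (α q) = conj q
  have h2 : MulAut.conj (α q) = MulAut.conj q := by
    ext x
    have h3 := DFunLike.congr_fun h1 (α⁻¹ x)
    simp only [MulAut.mul_apply, MulAut.conj_apply, MulAut.apply_inv_self] at h3
    rw [MulAut.conj_apply, MulAut.conj_apply, h3]
    simp
  exact (conj_injective_of_center_eq_bot h h2)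

end Inn


section CoreOf
variable {G : Type*} [Group G] [Finite G]

/-- a subgroup of `H` normalized by `H` and of order prime to `p` lies in `O_{p'}(H)` -/
theorem le_coreOf_of_le_normalizer {p : ℕ} {H S : Subgroup G} (hSH : S ≤ H)
    (hn : H ≤ Subgroup.normalizer (S : Set G)) (hc : (Nat.card S).Coprime p) : S ≤ coreOf p H := by
  have hnorm : (S.subgroupOf H).Normal := (Subgroup.normal_subgroupOf_iff_le_normalizer hSH).2 hn
  have hcard : Nat.card (S.subgroupOf H) = Nat.card S :=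
    Nat.card_congr (Subgroup.subgroupOfEquivOfLe hSH).toEquiv
  have h1 := le_pPrimeCore_of_isSubnormal (p := p) hnorm.isSubnormal (by rw [hcard]; exact hc)
  intro x hx
  exact ⟨⟨x, hSH hx⟩, h1 (Subgroup.mem_subgroupOf.2 hx), rfl⟩

omit [Finite G] in
theorem conj_mulAut_conj {Q : Type*} [Group Q] (α : MulAut Q) (q : Q) :
    α * MulAut.conj q * α⁻¹ = MulAut.conj (α q) := by
  ext x
  simp [MulAut.mul_apply, MulAut.conj_apply]

end CoreOf

section YSide
variable {Y : Type*} [Group Y] [Finite Y]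

/-- the centre of a component of a group with `O(Y) = 1` lies in `O_2(Y)` -/
theorem center_component_le_pCore (hY : pPrimeCore 2 Y = ⊥) {K0 : Subgroup Y} (hK0 : IsComponent K0) :
    K0 ⊓ Subgroup.centralizer (K0 : Set Y) ≤ pCore 2 Y := by
  have h1 : ((Subgroup.center ↥K0).map K0.subtype).IsSubnormal :=
    (inferInstance : (Subgroup.center ↥K0).Normal).isSubnormal.trans' hK0.1
  rw [center_map_subtype] at h1
  have h2 : Group.IsNilpotent ↥(K0 ⊓ Subgroup.centralizer (K0 : Set Y)) := by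
    apply isNilpotent_of_le_centralizer
    exact inf_le_right.trans (Subgroup.centralizer_le inf_le_left)
  exact (le_fittingSubgroup_of_isSubnormal h1 h2).trans (fittingSubgroup_le_pCore hY)

variable {K0 R L : Subgroup Y}

/-- `L` normalizes `C0 = C_{K0}(R0)` -/
theorem conj_mem_C0 (hLR : L ≤ Subgroup.centralizer (R : Set Y))
    (hLN : L ≤ Subgroup.normalizer (K0 : Set Y)) {l c : Y} (hl : l ∈ L)
    (hc : c ∈ K0 ⊓ Subgroup.centralizer ((R ⊓ Subgroup.normalizer (K0 : Set Y) : Subgroup Y) : Set Y)) :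
    l * c * l⁻¹ ∈ K0 ⊓ Subgroup.centralizer ((R ⊓ Subgroup.normalizer (K0 : Set Y) : Subgroup Y) : Set Y) := by
  refine Subgroup.mem_inf.2 ⟨(Subgroup.mem_normalizer_iff.1 (hLN hl) c).1 hc.1, ?_⟩
  rw [Subgroup.mem_centralizer_iff]
  intro r hr
  have h1 : r * l = l * r := (Subgroup.mem_centralizer_iff.1 (hLR hl)) r hr.1
  have h2 : r * c = c * r := (Subgroup.mem_centralizer_iff.1 hc.2) r hr
  have h3 : r * l⁻¹ = l⁻¹ * r := by
    calc r * l⁻¹ = l⁻¹ * (l * r) * l⁻¹ := by group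
      _ = l⁻¹ * (r * l) * l⁻¹ := by rw [h1]
      _ = l⁻¹ * r := by group
  calc r * (l * c * l⁻¹) = (r * l) * c * l⁻¹ := by group
    _ = l * (r * c) * l⁻¹ := by rw [h1]; group
    _ = l * c * (r * l⁻¹) := by rw [h2]; group
    _ = l * c * l⁻¹ * r := by rw [h3]; group

/-- elements of `K0` fixed modulo the centre by `R0` normalize `C0` -/
theorem conj_mem_C0_of_fixed {k c : Y} (hk : k ∈ K0)
    (hfix : ∀ r ∈ R ⊓ Subgroup.normalizer (K0 : Set Y), k⁻¹ * (r * k * r⁻¹) ∈ Subgroup.centralizer (K0 : Set Y))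
    (hc : c ∈ K0 ⊓ Subgroup.centralizer ((R ⊓ Subgroup.normalizer (K0 : Set Y) : Subgroup Y) : Set Y)) :
    k * c * k⁻¹ ∈ K0 ⊓ Subgroup.centralizer ((R ⊓ Subgroup.normalizer (K0 : Set Y) : Subgroup Y) : Set Y) := by
  refine Subgroup.mem_inf.2 ⟨K0.mul_mem (K0.mul_mem hk hc.1) (K0.inv_mem hk), ?_⟩
  rw [Subgroup.mem_centralizer_iff]
  intro r hr
  set z := k⁻¹ * (r * k * r⁻¹) with hz
  have hzc : ∀ x ∈ K0, x * z = z * x := fun x hx => (Subgroup.mem_centralizer_iff.1 (hfix r hr)) x hx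
  have h2 : r * c = c * r := (Subgroup.mem_centralizer_iff.1 hc.2) r hr
  have hrk : r * k = k * z * r := by rw [hz]; group
  have hrk' : r * k⁻¹ = z⁻¹ * k⁻¹ * r := by
    calc r * k⁻¹ = (k * z)⁻¹ * (k * z * r) * k⁻¹ := by group
      _ = (k * z)⁻¹ * (r * k) * k⁻¹ := by rw [hrk]
      _ = z⁻¹ * k⁻¹ * r := by group
  have hcz : c * z = z * c := hzc c hc.1
  calc r * (k * c * k⁻¹) = (r * k) * c * k⁻¹ := by group
    _ = k * z * (r * c) * k⁻¹ := by rw [hrk]; group
    _ = k * (z * c) * (r * k⁻¹) := by rw [h2]; group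
    _ = k * (c * z) * (z⁻¹ * k⁻¹ * r) := by rw [hcz, hrk']
    _ = k * c * k⁻¹ * r := by group

/-- the cocycle step: `[l, k] ∈ C0` for `l ∈ L` and `k ∈ K0` fixed modulo the centre by `R0` -/
theorem comm_mem_C0_of_fixed (hLR : L ≤ Subgroup.centralizer (R : Set Y))
    (hLN : L ≤ Subgroup.normalizer (K0 : Set Y))
    (hLZ : L ≤ Subgroup.centralizer ((K0 ⊓ Subgroup.centralizer (K0 : Set Y) : Subgroup Y) : Set Y))
    {l k : Y} (hl : l ∈ L) (hk : k ∈ K0)
    (hfix : ∀ r ∈ R ⊓ Subgroup.normalizer (K0 : Set Y), k⁻¹ * (r * k * r⁻¹) ∈ Subgroup.centralizer (K0 : Set Y)) :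
    l * k * l⁻¹ * k⁻¹ ∈ K0 ⊓ Subgroup.centralizer ((R ⊓ Subgroup.normalizer (K0 : Set Y) : Subgroup Y) : Set Y) := by
  have hlk : l * k * l⁻¹ ∈ K0 := (Subgroup.mem_normalizer_iff.1 (hLN hl) k).1 hk
  refine Subgroup.mem_inf.2 ⟨K0.mul_mem hlk (K0.inv_mem hk), ?_⟩
  rw [Subgroup.mem_centralizer_iff]
  intro r hr
  set z := k⁻¹ * (r * k * r⁻¹) with hz
  have hzK : z ∈ K0 := by
    rw [hz]
    exact K0.mul_mem (K0.inv_mem hk) ((Subgroup.mem_normalizer_iff.1 hr.2 k).1 hk)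
  have hzZ : z ∈ K0 ⊓ Subgroup.centralizer (K0 : Set Y) := ⟨hzK, hfix r hr⟩
  have hlz : z * l = l * z := (Subgroup.mem_centralizer_iff.1 (hLZ hl)) z hzZ
  have h1 : r * l = l * r := (Subgroup.mem_centralizer_iff.1 (hLR hl)) r hr.1
  have h3 : r * l⁻¹ = l⁻¹ * r := by
    calc r * l⁻¹ = l⁻¹ * (l * r) * l⁻¹ := by group
      _ = l⁻¹ * (r * l) * l⁻¹ := by rw [h1]
      _ = l⁻¹ * r := by group
  have hrk : r * k = k * z * r := by rw [hz]; group
  have hrk' : r * k⁻¹ = z⁻¹ * k⁻¹ * r := by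
    calc r * k⁻¹ = (k * z)⁻¹ * (k * z * r) * k⁻¹ := by group
      _ = (k * z)⁻¹ * (r * k) * k⁻¹ := by rw [hrk]
      _ = z⁻¹ * k⁻¹ * r := by group
  have hzl' : z * l⁻¹ = l⁻¹ * z := by
    calc z * l⁻¹ = l⁻¹ * (l * z) * l⁻¹ := by group
      _ = l⁻¹ * (z * l) * l⁻¹ := by rw [hlz]
      _ = l⁻¹ * z := by group
  calc r * (l * k * l⁻¹ * k⁻¹) = (r * l) * k * l⁻¹ * k⁻¹ := by group
    _ = l * (r * k) * l⁻¹ * k⁻¹ := by rw [h1]; group
    _ = l * k * (z * (r * l⁻¹)) * k⁻¹ := by rw [hrk]; group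
    _ = l * k * ((z * l⁻¹) * r) * k⁻¹ := by rw [h3]; group
    _ = l * k * l⁻¹ * z * (r * k⁻¹) := by rw [hzl']; group
    _ = l * k * l⁻¹ * z * (z⁻¹ * k⁻¹ * r) := by rw [hrk']
    _ = l * k * l⁻¹ * k⁻¹ * r := by group

end YSide

section Main
variable {Y : Type*} [Group Y] [Finite Y]

/-- the action of `N_Y(K0)` on `K0 / Z(K0)` -/
noncomputable def psi (K0 : Subgroup Y) :
    ↥(Subgroup.normalizer (K0 : Set Y)) →* MulAut (↥K0 ⧸ Subgroup.center ↥K0) :=
  (autQuot (Subgroup.center ↥K0)).comp K0.normalizerMonoidHom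

theorem psi_mk (K0 : Subgroup Y) (n : ↥(Subgroup.normalizer (K0 : Set Y))) (k : ↥K0) :
    psi K0 n ((k : ↥K0) : ↥K0 ⧸ Subgroup.center ↥K0) =
      ((K0.normalizerMonoidHom n k : ↥K0) : ↥K0 ⧸ Subgroup.center ↥K0) := rfl

theorem psi_of_mem (K0 : Subgroup Y) (k : ↥K0) :
    psi K0 ⟨k, Subgroup.le_normalizer k.2⟩ = MulAut.conj ((k : ↥K0) : ↥K0 ⧸ Subgroup.center ↥K0) := by
  unfold psi
  rw [MonoidHom.comp_apply, normalizerMonoidHom_of_mem, autQuot_conj]

theorem psi_eq_one_of_mem_centralizer (K0 : Subgroup Y) (n : ↥(Subgroup.normalizer (K0 : Set Y)))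
    (hn : (n : Y) ∈ Subgroup.centralizer (K0 : Set Y)) : psi K0 n = 1 := by
  unfold psi
  have h1 : n ∈ K0.normalizerMonoidHom.ker := by
    rw [Subgroup.normalizerMonoidHom_ker, Subgroup.mem_subgroupOf]
    exact hn
  rw [MonoidHom.comp_apply, MonoidHom.mem_ker.1 h1, map_one]

theorem mem_centralizer_of_psi_eq_one {K0 : Subgroup Y} (hKp : ⁅K0, K0⁆ = K0)
    (n : ↥(Subgroup.normalizer (K0 : Set Y))) (hn : psi K0 n = 1) :
    (n : Y) ∈ Subgroup.centralizer (K0 : Set Y) := by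
  set β := K0.normalizerMonoidHom n with hβ
  have hβ1 : autQuot (Subgroup.center ↥K0) β = 1 := hn
  have hβ2 : β = 1 := by
    apply mulAut_eq_one_of_perfect (top_perfect_of_perfect hKp)
    intro x
    have := DFunLike.congr_fun hβ1 (x : ↥K0 ⧸ Subgroup.center ↥K0)
    rw [autQuot_mk, MulAut.one_apply] at this
    exact QuotientGroup.eq.1 this.symm
  have hmem : n ∈ K0.normalizerMonoidHom.ker := hβ2
  rw [Subgroup.normalizerMonoidHom_ker, Subgroup.mem_subgroupOf] at hmem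
  exact hmem

end Main

section Assembly
variable {Y : Type*} [Group Y] [Finite Y]

theorem le_centralizer_component_aux (hY : pPrimeCore 2 Y = ⊥)
    {R D L : Subgroup Y} (hR : IsPGroup 2 R) (hD : (Nat.card D).Coprime 2)
    (hLR : L ≤ Subgroup.centralizer (R : Set Y)) (hLperf : ⁅L, L⁆ = L)
    (hLodd : ∀ M : Subgroup L, M.Normal → M.index.Coprime 2 → M = ⊤)
    (hLE : ⁅L, layer Y ⊓ Subgroup.centralizer (R : Set Y)⁆ ≤ D)
    (hLQ : L ≤ Subgroup.centralizer (pCore 2 Y : Set Y))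
    {K0 : Subgroup Y} (hK0 : IsComponent K0) (hLN : L ≤ Subgroup.normalizer (K0 : Set Y)) :
    L ≤ Subgroup.centralizer (K0 : Set Y) := by
  classical
  set N := Subgroup.normalizer (K0 : Set Y) with hN
  set Q := ↥K0 ⧸ Subgroup.center ↥K0 with hQdef
  set R0 : Subgroup Y := R ⊓ N with hR0
  set C0 : Subgroup Y := K0 ⊓ Subgroup.centralizer (R0 : Set Y) with hC0
  have hK0N : K0 ≤ N := Subgroup.le_normalizer
  have hC0N : C0 ≤ N := inf_le_left.trans hK0N
  have hKperf : ⁅K0, K0⁆ = K0 := Subgroup.isPerfect_iff.1 hK0.2.1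
  -- `Q` is simple, nonabelian, of even order, with trivial centre
  haveI hQs : IsSimpleGroup Q := hK0.2.2
  have hQna : ¬ IsMulCommutative Q := by
    intro hc
    -- then `K0 / Z` abelian and perfect, so trivial, contradicting simplicity
    have h1 : commutator Q = ⊥ := by
      rw [commutator_def, Subgroup.commutator_eq_bot_iff_le_centralizer]
      intro a _
      rw [Subgroup.mem_centralizer_iff]
      intro b _
      exact hc.is_comm.comm b a
    have h2 : commutator Q = ⊤ := by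
      have h3 : commutator ↥K0 = ⊤ := hK0.2.1.commutator_eq_top
      have := congrArg (Subgroup.map (QuotientGroup.mk' (Subgroup.center ↥K0))) h3
      rw [← MonoidHom.range_eq_map, MonoidHom.range_eq_top.2 (QuotientGroup.mk'_surjective _)] at this
      rw [← this, commutator_def, commutator_def, Subgroup.map_commutator,
        ← MonoidHom.range_eq_map, MonoidHom.range_eq_top.2 (QuotientGroup.mk'_surjective _)]
    rw [h1] at h2
    exact (bot_ne_top (α := Subgroup Q)) h2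
  have hZQ : Subgroup.center Q = ⊥ := center_eq_bot_of_simple hQna
  have hconj_inj := conj_injective_of_center_eq_bot hZQ
  set eI : Q ≃* ↥(Cfsg.Inn Q) := MonoidHom.ofInjective hconj_inj with heI
  have hKs : IsSimpleGroup ↥(Cfsg.Inn Q) := eI.symm.isSimpleGroup
  have hKna : ¬ IsMulCommutative ↥(Cfsg.Inn Q) := by
    intro hc
    apply hQna
    refine ⟨⟨fun a b => ?_⟩⟩
    apply eI.injective
    rw [map_mul, map_mul]
    exact hc.is_comm.comm _ _
  have hCK := centralizer_inn_eq_bot hZQ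
  have hK2 : 2 ∣ Nat.card ↥(Cfsg.Inn Q) := by
    rw [← Nat.card_congr eI.toEquiv]
    by_contra h2
    have hcop : (Subgroup.center ↥K0).index.Coprime 2 := by
      rw [Subgroup.index_eq_card]
      exact ((Nat.Prime.coprime_iff_not_dvd Nat.prime_two).2 h2).symm
    have := IsComponent.eq_top_of_normal_of_coprime_index hY hK0 (Subgroup.center ↥K0) hcop
    exact IsQuasisimple.center_ne_top hK0.2 this
  -- the homomorphisms into `MulAut Q`
  set ψ := psi K0 with hψ
  set ψL : ↥L →* MulAut Q := ψ.comp (Subgroup.inclusion hLN) with hψL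
  set ψR : ↥R0 →* MulAut Q := ψ.comp (Subgroup.inclusion (inf_le_right : R0 ≤ N)) with hψR
  set ψC : ↥C0 →* MulAut Q := ψ.comp (Subgroup.inclusion hC0N) with hψC
  set Lh := ψL.range with hLh
  set Rh := ψR.range with hRh
  set C0h := ψC.range with hC0h
  set Dh := coreOf 2 C0h with hDh
  -- basic facts
  have hRh2 : IsPGroup 2 Rh :=
    IsPGroup.of_surjective (hR.to_le (inf_le_left : R0 ≤ R)) ψR.rangeRestrict ψR.rangeRestrict_surjective
  have hLhperf : ⁅Lh, Lh⁆ = Lh := by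
    rw [hLh, MonoidHom.range_eq_map, ← Subgroup.map_commutator, top_perfect_of_perfect hLperf]
  have hLhodd : ∀ M : Subgroup Lh, M.Normal → M.index.Coprime 2 → M = ⊤ :=
    no_coprime_index_of_surjective ψL.rangeRestrict ψL.rangeRestrict_surjective hLodd
  have hLhRh : Lh ≤ Subgroup.centralizer (Rh : Set (MulAut Q)) := by
    rintro _ ⟨l, rfl⟩
    rw [Subgroup.mem_centralizer_iff]
    rintro _ ⟨r, rfl⟩
    have h1 : (r : Y) * (l : Y) = (l : Y) * (r : Y) :=
      (Subgroup.mem_centralizer_iff.1 (hLR l.2)) r r.2.1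
    change ψ _ * ψ _ = ψ _ * ψ _
    rw [← map_mul, ← map_mul]
    congr 1
    exact Subtype.ext h1
  have hDhodd : Odd (Nat.card Dh) := Nat.coprime_two_right.1 (card_coreOf_coprime 2 C0h)
  have hLZ : L ≤ Subgroup.centralizer ((K0 ⊓ Subgroup.centralizer (K0 : Set Y) : Subgroup Y) : Set Y) :=
    hLQ.trans (Subgroup.centralizer_le (center_component_le_pCore hY hK0))
  -- description of `Inn Q ⊓ C(Rh)`
  have hCh : ∀ b ∈ Cfsg.Inn Q ⊓ Subgroup.centralizer (Rh : Set (MulAut Q)),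
      ∃ k : ↥K0, b = ψ ⟨k, hK0N k.2⟩ ∧ b = MulAut.conj ((k : ↥K0) : Q) ∧
        ∀ r ∈ R0, (k : Y)⁻¹ * (r * (k : Y) * r⁻¹) ∈ Subgroup.centralizer (K0 : Set Y) := by
    intro b hb
    obtain ⟨⟨q, rfl⟩, hbR⟩ := Subgroup.mem_inf.1 hb
    obtain ⟨k, rfl⟩ := QuotientGroup.mk_surjective q
    refine ⟨k, (psi_of_mem K0 k).symm, rfl, ?_⟩
    intro r hr
    have h1 := (Subgroup.mem_centralizer_iff.1 hbR) (ψR ⟨r, hr⟩) ⟨⟨r, hr⟩, rfl⟩
    have h2 : MulAut.conj (ψR ⟨r, hr⟩ ((k : ↥K0) : Q)) = MulAut.conj ((k : ↥K0) : Q) := by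
      rw [← conj_mulAut_conj, h1]
      group
    have h3 := hconj_inj h2
    have h4 : ψR ⟨r, hr⟩ ((k : ↥K0) : Q) =
        ((K0.normalizerMonoidHom ⟨r, hr.2⟩ k : ↥K0) : Q) := rfl
    rw [h4] at h3
    have h5 := QuotientGroup.eq.1 h3.symm
    rw [Subgroup.mem_centralizer_iff]
    intro x hx
    have h6 := (Subgroup.mem_center_iff.1 h5) ⟨x, hx⟩
    have h7 := congrArg Subtype.val h6
    simpa using h7
  -- `Lh` normalizes `C0h`
  have hLhC0h : Lh ≤ Subgroup.normalizer (C0h : Set (MulAut Q)) := by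
    apply le_normalizer_of_forall_conj_mem
    rintro _ ⟨l, rfl⟩ _ ⟨c, rfl⟩
    have hmem : (l : Y) * (c : Y) * (l : Y)⁻¹ ∈ C0 := conj_mem_C0 hLR hLN l.2 c.2
    refine ⟨⟨(l : Y) * (c : Y) * (l : Y)⁻¹, hmem⟩, ?_⟩
    change ψ _ = ψ _ * ψ _ * (ψ _)⁻¹
    rw [← map_inv, ← map_mul, ← map_mul]
    congr 1
  -- `Ch` normalizes `C0h`
  have hChC0h : Cfsg.Inn Q ⊓ Subgroup.centralizer (Rh : Set (MulAut Q)) ≤
      Subgroup.normalizer (C0h : Set (MulAut Q)) := by
    apply le_normalizer_of_forall_conj_mem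
    rintro b hb _ ⟨c, rfl⟩
    obtain ⟨k, hbk, -, hfix⟩ := hCh b hb
    have hmem : (k : Y) * (c : Y) * (k : Y)⁻¹ ∈ C0 := conj_mem_C0_of_fixed k.2 hfix c.2
    refine ⟨⟨(k : Y) * (c : Y) * (k : Y)⁻¹, hmem⟩, ?_⟩
    rw [hbk]
    change ψ _ = ψ _ * ψ _ * (ψ _)⁻¹
    rw [← map_inv, ← map_mul, ← map_mul]
    congr 1
  -- (S2) `[Lh, Ch] ≤ C0h`
  have hS2 : ⁅Lh, Cfsg.Inn Q ⊓ Subgroup.centralizer (Rh : Set (MulAut Q))⁆ ≤ C0h := by
    rw [Subgroup.commutator_le]
    rintro _ ⟨l, rfl⟩ b hb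
    obtain ⟨k, hbk, -, hfix⟩ := hCh b hb
    have hmem : (l : Y) * (k : Y) * (l : Y)⁻¹ * (k : Y)⁻¹ ∈ C0 :=
      comm_mem_C0_of_fixed hLR hLN hLZ l.2 k.2 hfix
    refine ⟨⟨(l : Y) * (k : Y) * (l : Y)⁻¹ * (k : Y)⁻¹, hmem⟩, ?_⟩
    rw [hbk]
    change ψ _ = ⁅ψ _, ψ _⁆
    rw [← map_commutatorElement]
    congr 1
  -- (S1) `[Lh, C0h] ≤ Dh`
  have hS1 : ⁅Lh, C0h⁆ ≤ Dh := by
    set M : Subgroup Y := ⁅L, C0⁆ with hM
    have hMC0 : M ≤ C0 := by
      rw [hM, Subgroup.commutator_le]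
      intro l hl c hc
      rw [commutatorElement_def]
      exact C0.mul_mem (conj_mem_C0 hLR hLN hl hc) (C0.inv_mem hc)
    set M' : Subgroup ↥C0 := M.subgroupOf C0 with hM'
    set Mh := M'.map ψC with hMh
    have h1 : ⁅Lh, C0h⁆ ≤ Mh := by
      rw [Subgroup.commutator_le]
      rintro _ ⟨l, rfl⟩ _ ⟨c, rfl⟩
      have hmem : ⁅(l : Y), (c : Y)⁆ ∈ M := Subgroup.commutator_mem_commutator l.2 c.2
      refine ⟨⟨⁅(l : Y), (c : Y)⁆, hMC0 hmem⟩, Subgroup.mem_subgroupOf.2 hmem, ?_⟩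
      change ψ _ = ⁅ψ _, ψ _⁆
      rw [← map_commutatorElement]
      congr 1
    have h2 : Mh ≤ C0h := by
      rintro _ ⟨m, _, rfl⟩
      exact ⟨m, rfl⟩
    have h3 : C0h ≤ Subgroup.normalizer (Mh : Set (MulAut Q)) := by
      apply le_normalizer_of_forall_conj_mem
      rintro _ ⟨c, rfl⟩ _ ⟨m, hm, rfl⟩
      have hn : C0 ≤ Subgroup.normalizer (M : Set Y) := by
        rw [hM, Subgroup.commutator_comm]
        exact le_normalizer_commutator_left C0 L
      have hmem : (c : Y) * (m : Y) * (c : Y)⁻¹ ∈ M :=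
        (Subgroup.mem_normalizer_iff.1 (hn c.2) _).1 (Subgroup.mem_subgroupOf.1 hm)
      refine ⟨⟨(c : Y) * (m : Y) * (c : Y)⁻¹, hMC0 hmem⟩, Subgroup.mem_subgroupOf.2 hmem, ?_⟩
      change ψ _ = ψ _ * ψ _ * (ψ _)⁻¹
      rw [← map_inv, ← map_mul, ← map_mul]
      congr 1
    have h4 : (Nat.card Mh).Coprime 2 := by
      obtain ⟨f, hf1, hf2, hf3⟩ := exists_norm_hom hK0 R
      have hfD : M'.map f ≤ D := by
        have hle : M ≤ (D.comap f).map C0.subtype := by
          rw [hM, Subgroup.commutator_le]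
          intro l hl c hc
          have hconj : l * c * l⁻¹ ∈ C0 := conj_mem_C0 hLR hLN hl hc
          have hcomm : ⁅l, c⁆ ∈ C0 := by
            rw [commutatorElement_def]
            exact C0.mul_mem hconj (C0.inv_mem hc)
          refine ⟨⟨⁅l, c⁆, hcomm⟩, (?_ : f ⟨⁅l, c⁆, hcomm⟩ ∈ D), rfl⟩
          have e1 : (⟨⁅l, c⁆, hcomm⟩ : ↥C0) = ⟨l * c * l⁻¹, hconj⟩ * (⟨c, hc⟩ : ↥C0)⁻¹ := by
            apply Subtype.ext
            rfl
          rw [e1, map_mul, map_inv, hf2 l (hLR hl) (hLN hl) ⟨c, hc⟩ hconj]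
          have : l * f ⟨c, hc⟩ * l⁻¹ * (f ⟨c, hc⟩)⁻¹ = ⁅l, f ⟨c, hc⟩⁆ := by
            rw [commutatorElement_def]
          rw [this]
          exact hLE (Subgroup.commutator_mem_commutator hl (hf1 ⟨c, hc⟩))
        rintro _ ⟨m, hm, rfl⟩
        obtain ⟨y, hy, hym⟩ := hle (Subgroup.mem_subgroupOf.1 hm)
        have : y = m := Subtype.ext hym
        rw [← this]
        exact hy
      have hker : f.ker ≤ ψC.ker := by
        intro c hc
        rw [MonoidHom.mem_ker] at hc ⊢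
        apply psi_eq_one_of_mem_centralizer
        rw [Subgroup.mem_centralizer_iff]
        intro k hk
        exact (hf3 c hc k hk).symm
      have hdvd1 := card_map_dvd_of_ker_le f ψC hker M'
      have hdvd2 : Nat.card (M'.map f) ∣ Nat.card D := Subgroup.card_dvd_of_le hfD
      exact Nat.Coprime.coprime_dvd_left (hdvd1.trans hdvd2) hD
    exact h1.trans (le_coreOf_of_le_normalizer h2 h3 h4)
  -- normalizers of `Dh`
  have hn1 : Lh ≤ Subgroup.normalizer (Dh : Set (MulAut Q)) :=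
    hLhC0h.trans (normalizer_le_normalizer_coreOf 2 C0h)
  have hn3 : Cfsg.Inn Q ⊓ Subgroup.centralizer (Rh : Set (MulAut Q)) ≤
      Subgroup.normalizer (Dh : Set (MulAut Q)) :=
    hChC0h.trans (normalizer_le_normalizer_coreOf 2 C0h)
  have hLD : ⁅Lh, Cfsg.Inn Q ⊓ Subgroup.centralizer (Rh : Set (MulAut Q))⁆ ≤ Dh := by
    have hA : ⁅⁅Lh, Cfsg.Inn Q ⊓ Subgroup.centralizer (Rh : Set (MulAut Q))⁆, Lh⁆ ≤ Dh := by
      refine le_trans (Subgroup.commutator_mono hS2 le_rfl) ?_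
      rw [Subgroup.commutator_comm]
      exact hS1
    have hB : ⁅⁅Cfsg.Inn Q ⊓ Subgroup.centralizer (Rh : Set (MulAut Q)), Lh⁆, Lh⁆ ≤ Dh := by
      rw [Subgroup.commutator_comm (Cfsg.Inn Q ⊓ Subgroup.centralizer (Rh : Set (MulAut Q))) Lh]
      exact hA
    have := three_subgroups_le_of_le_normalizer Lh Lh
      (Cfsg.Inn Q ⊓ Subgroup.centralizer (Rh : Set (MulAut Q))) Dh hn1 hn1 hn3 hA hB
    rwa [hLhperf] at this
  have hbot : Lh = ⊥ :=
    core_simple (Cfsg.Inn Q) hKs hKna hCK hK2 Rh hRh2 Lh hLhRh hLhperf hLhodd Dh hDhodd hLD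
  intro l hl
  have h1 : ψL ⟨l, hl⟩ ∈ Lh := ⟨⟨l, hl⟩, rfl⟩
  rw [hbot, Subgroup.mem_bot] at h1
  exact mem_centralizer_of_psi_eq_one hKperf ⟨l, hLN hl⟩ h1

end Assembly

end Cfsg.Agent.Lib.LB2

namespace Cfsg.Agent.Lib.Helper1.LBalR2

open Cfsg
open scoped commutatorElement

/-- **Lemma R2** (the replacement of the Schreier step for `p = 2`): a perfect subgroup `L ≤ C_Y(R)`
without proper normal subgroups of odd index, which centralizes `C_{E(Y)}(R)` modulo an odd-order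
subgroup, centralizes `O_2(Y)` and normalizes the components of `Y` (`O(Y) = 1`), centralizes every
component of `Y`. -/
theorem le_centralizer_component {Y : Type*} [Group Y] [Finite Y] (hY : pPrimeCore 2 Y = ⊥)
    {R D L : Subgroup Y} (hR : IsPGroup 2 R) (hD : (Nat.card D).Coprime 2)
    (hLR : L ≤ Subgroup.centralizer (R : Set Y)) (hLperf : ⁅L, L⁆ = L)
    (hLodd : ∀ M : Subgroup L, M.Normal → M.index.Coprime 2 → M = ⊤)
    (hLE : ⁅L, layer Y ⊓ Subgroup.centralizer (R : Set Y)⁆ ≤ D)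
    (hLQ : L ≤ Subgroup.centralizer (pCore 2 Y : Set Y))
    (hLN : ∀ K : Subgroup Y, IsComponent K → L ≤ Subgroup.normalizer (K : Set Y)) :
    ∀ K : Subgroup Y, IsComponent K → L ≤ Subgroup.centralizer (K : Set Y) :=
  fun K hK => Cfsg.Agent.Lib.LB2.le_centralizer_component_aux hY hR hD hLR hLperf hLodd hLE hLQ hK
    (hLN K hK)

end Cfsg.Agent.Lib.Helper1.LBalR2
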