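import Mathlib
import Cfsg.Agent.Lib.Helper4.LBal12
import Cfsg.Agent.Lib.Helper6.CharSub

set_option autoImplicit false
open scoped commutatorElement

/-!
Transfer of `exists_component_of_involution` to a subgroup `H ≤ G` normalized by an involution
`t ∈ G`: we work inside the group `H ⟨t⟩`.
-/

namespace Cfsg.Agent.Lib.Helper4.LBal

open Cfsg Cfsg.Agent.Lib.Helper1 Cfsg.Agent.Lib.Helper3

section Sq
variable {G : Type*} [Group G]

/-- in `H ⟨t⟩` (`t² = 1`, `t` normalizing `H`) every square lies in `H` -/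
theorem sq_mem_of_mem_sup_zpowers {H : Subgroup G} {t : G} (ht : t * t = 1)
    (htH : t ∈ Subgroup.normalizer (H : Set G)) {x : G} (hx : x ∈ H ⊔ Subgroup.zpowers t) :
    x * x ∈ H := by
  have hle : Subgroup.zpowers t ≤ Subgroup.normalizer (H : Set G) := Subgroup.zpowers_le.2 htH
  have hset := Subgroup.coe_mul_of_right_le_normalizer_left H (Subgroup.zpowers t) hle
  have hx' : x ∈ ((H ⊔ Subgroup.zpowers t : Subgroup G) : Set G) := hx
  rw [hset] at hx'
  obtain ⟨h, hh, z, hz, rfl⟩ := Set.mem_mul.1 hx'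
  have hzz : z * z = 1 := by
    obtain ⟨n, rfl⟩ := Subgroup.mem_zpowers_iff.1 hz
    have h2 : t ^ (2 : ℤ) = 1 := by
      rw [show (2 : ℤ) = ((2 : ℕ) : ℤ) from rfl, zpow_natCast, pow_two, ht]
    rw [← zpow_add, ← two_mul, zpow_mul, h2, one_zpow]
  have hzinv : z⁻¹ = z := inv_eq_of_mul_eq_one_left hzz
  have h1 : z * h * z⁻¹ ∈ H := (Subgroup.mem_normalizer_iff.1 (hle hz) h).1 hh
  have e : h * z * (h * z) = h * (z * h * z⁻¹) * (z * z) := by group
  rw [e, hzz, mul_one]
  exact H.mul_mem hh h1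

end Sq

section Main
variable {G : Type*} [Group G] [Finite G]

theorem exists_component_invariant (H : Subgroup G) (hO : Cfsg.oddCore ↥H = ⊥) (t : G)
    (ht : orderOf t = 2) (htH : t ∈ Subgroup.normalizer (H : Set G)) (Y : Subgroup G)
    (hY1 : Y ≠ ⊥)
    (hY : Y ≤ (Cfsg.oddCore ↥(H ⊓ Subgroup.centralizer ({t} : Set G))).map
      (H ⊓ Subgroup.centralizer ({t} : Set G)).subtype) :
    ∃ E : Subgroup ↥H, Cfsg.IsComponent E ∧
      (E.map H.subtype).map (MulAut.conj t).toMonoidHom = E.map H.subtype ∧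
      Y ≤ Subgroup.normalizer ((E.map H.subtype : Subgroup G) : Set G) ∧
      ¬ (t ∈ Subgroup.centralizer ((E.map H.subtype : Subgroup G) : Set G)) ∧
      ¬ (Y ≤ Subgroup.centralizer ((E.map H.subtype : Subgroup G) : Set G)) := by
  classical
  haveI : Fact (Nat.Prime 2) := ⟨Nat.prime_two⟩
  have htt : t * t = 1 := by
    have := pow_orderOf_eq_one t
    rwa [ht, pow_two] at this
  set X : Subgroup G := H ⊔ Subgroup.zpowers t with hX
  have hHX : H ≤ X := le_sup_left
  have htX : t ∈ X := (le_sup_right : Subgroup.zpowers t ≤ X) (Subgroup.mem_zpowers t)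
  set t' : ↥X := ⟨t, htX⟩ with ht'
  have htt' : t' * t' = 1 := Subtype.ext htt
  set H' : Subgroup ↥X := H.subgroupOf X with hH'
  have hsq : ∀ x : ↥X, x * x ∈ H' := fun x =>
    Subgroup.mem_subgroupOf.2 (sq_mem_of_mem_sup_zpowers htt htH x.2)
  have hXN : X ≤ Subgroup.normalizer (H : Set G) :=
    sup_le Subgroup.le_normalizer (Subgroup.zpowers_le.2 htH)
  haveI hH'n : H'.Normal := Subgroup.normal_subgroupOf_of_le_normalizer hXN
  -- `O(X) = 1`
  have hOX : pPrimeCore 2 ↥X = ⊥ := by
    set O := pPrimeCore 2 ↥X with hOdef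
    have hOc : (Nat.card O).Coprime 2 := Cfsg.Agent.Lib.Helper6.pPrimeCore_coprime 2
    have hOn : O.Normal := pPrimeCore_normal 2 ↥X
    -- `O ⊓ H' = ⊥`
    have hH'O : pPrimeCore 2 ↥H' = ⊥ := by
      have h1 := pPrimeCore_map_mulEquiv 2 (Subgroup.subgroupOfEquivOfLe hHX)
      have hO' : pPrimeCore 2 ↥H = ⊥ := hO
      rw [hO'] at h1
      rw [Subgroup.map_eq_bot_iff_of_injective _ (MulEquiv.injective _)] at h1
      exact h1
    have h2 : O.subgroupOf H' = ⊥ := by
      have hn : (O.subgroupOf H').Normal := hOn.subgroupOf H'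
      have hc : (Nat.card (O.subgroupOf H')).Coprime 2 := by
        refine Nat.Coprime.coprime_dvd_left ?_ hOc
        exact Subgroup.card_dvd_of_injective
          ((H'.subtype.comp (O.subgroupOf H').subtype).codRestrict O
            (fun x => Subgroup.mem_subgroupOf.1 x.2))
          (by
            intro a b hab
            apply Subtype.ext
            apply Subtype.ext
            have := congrArg (fun z : ↥O => (z : ↥X)) hab
            exact this)
      have := Cfsg.Agent.Lib.Helper6.le_pPrimeCore hn hc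
      rwa [hH'O, le_bot_iff] at this
    rw [Subgroup.eq_bot_iff_forall]
    intro x hx
    have hxx : x * x = 1 := by
      have h3 : (⟨x * x, hsq x⟩ : ↥H') ∈ O.subgroupOf H' :=
        Subgroup.mem_subgroupOf.2 (O.mul_mem hx hx)
      rw [h2, Subgroup.mem_bot] at h3
      exact congrArg Subtype.val h3
    have ho2 : orderOf x ∣ 2 := by
      apply orderOf_dvd_of_pow_eq_one
      rw [pow_two, hxx]
    have hoO : orderOf x ∣ Nat.card O := Subgroup.orderOf_dvd_natCard O hx
    have : orderOf x = 1 := Nat.eq_one_of_dvd_coprimes hOc hoO ho2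
    exact orderOf_eq_one_iff.1 this
  -- the subgroup `D`
  set A : Subgroup G := H ⊓ Subgroup.centralizer ({t} : Set G) with hA
  set D₀ : Subgroup G := (Cfsg.oddCore ↥A).map A.subtype with hD₀
  have hD₀A : D₀ ≤ A := by
    rintro _ ⟨y, _, rfl⟩
    exact y.2
  have hD₀X : D₀ ≤ X := hD₀A.trans (inf_le_left.trans hHX)
  set D : Subgroup ↥X := D₀.subgroupOf X with hD
  set Z : Subgroup ↥X := Y.subgroupOf X with hZ
  have hDc : (Nat.card D).Coprime 2 := by
    rw [hD, Nat.card_congr (Subgroup.subgroupOfEquivOfLe hD₀X).toEquiv, hD₀,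
      Subgroup.card_map_of_injective A.subtype_injective]
    exact Cfsg.Agent.Lib.Helper6.pPrimeCore_coprime 2
  have hDt : D ≤ Subgroup.centralizer ({t'} : Set ↥X) := by
    intro d hd
    rw [Subgroup.mem_centralizer_singleton_iff]
    apply Subtype.ext
    have h1 : (d : G) ∈ Subgroup.centralizer ({t} : Set G) :=
      (hD₀A (Subgroup.mem_subgroupOf.1 hd)).2
    exact Subgroup.mem_centralizer_singleton_iff.1 h1
  have hND : Subgroup.centralizer ({t'} : Set ↥X) ≤ Subgroup.normalizer (D : Set ↥X) := by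
    have hchar : (D₀.subgroupOf A).Characteristic := by
      have : D₀.subgroupOf A = Cfsg.oddCore ↥A := by
        rw [hD₀]
        ext y
        rw [Subgroup.mem_subgroupOf]
        constructor
        · rintro ⟨z, hz, hzy⟩
          have : z = y := Subtype.ext hzy
          rwa [← this]
        · intro hy
          exact ⟨y, hy, rfl⟩
      rw [this]
      infer_instance
    have hAD := Cfsg.Agent.Lib.Helper6.normalizer_le_normalizer_of_characteristic hD₀A hchar
    intro c hc
    have hct : (c : G) * t = t * c := by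
      have := Subgroup.mem_centralizer_singleton_iff.1 hc
      exact congrArg Subtype.val this
    have hcA : (c : G) ∈ Subgroup.normalizer (A : Set G) := by
      have hcH : (c : G) ∈ Subgroup.normalizer (H : Set G) := hXN c.2
      have key : ∀ (m : G), m ∈ Subgroup.normalizer (H : Set G) → m * t = t * m →
          ∀ x ∈ A, m * x * m⁻¹ ∈ A := by
        intro m hm hmt x hx
        refine Subgroup.mem_inf.2 ⟨(Subgroup.mem_normalizer_iff.1 hm x).1 hx.1, ?_⟩
        rw [Subgroup.mem_centralizer_singleton_iff]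
        have hxt : x * t = t * x := Subgroup.mem_centralizer_singleton_iff.1 hx.2
        have hmt' : m⁻¹ * t = t * m⁻¹ := by
          have : t * m⁻¹ = m⁻¹ * (m * t) * m⁻¹ := by group
          rw [this, hmt]; group
        calc m * x * m⁻¹ * t = m * x * (m⁻¹ * t) := by group
          _ = m * x * (t * m⁻¹) := by rw [hmt']
          _ = m * (x * t) * m⁻¹ := by group
          _ = m * (t * x) * m⁻¹ := by rw [hxt]
          _ = (m * t) * x * m⁻¹ := by group
          _ = (t * m) * x * m⁻¹ := by rw [hmt]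
          _ = t * (m * x * m⁻¹) := by group
      rw [Subgroup.mem_normalizer_iff]
      intro x
      constructor
      · exact key c hcH hct x
      · intro hx
        have hcinv : (c : G)⁻¹ * t = t * (c : G)⁻¹ := by
          have : t * (c : G)⁻¹ = (c : G)⁻¹ * ((c : G) * t) * (c : G)⁻¹ := by group
          rw [this, hct]; group
        have := key (c : G)⁻¹ (Subgroup.inv_mem _ hcH) hcinv _ hx
        simpa [mul_assoc] using this
    have hcD : (c : G) ∈ Subgroup.normalizer (D₀ : Set G) := hAD hcA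
    rw [Subgroup.mem_normalizer_iff]
    intro x
    rw [hD, Subgroup.mem_subgroupOf, Subgroup.mem_subgroupOf]
    exact (Subgroup.mem_normalizer_iff.1 hcD x)
  have hYD₀ : Y ≤ D₀ := hY
  have hZD : Z ≤ D := Subgroup.subgroupOf_mono X hYD₀
  have hZ1 : Z ≠ ⊥ := by
    intro h
    apply hY1
    rw [Subgroup.eq_bot_iff_forall]
    intro y hy
    have h1 : (⟨y, hD₀X (hYD₀ hy)⟩ : ↥X) ∈ Z := Subgroup.mem_subgroupOf.2 hy
    rw [h, Subgroup.mem_bot] at h1
    exact congrArg Subtype.val h1
  obtain ⟨K, hK, hKt, hDK, htK, hZK⟩ :=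
    exists_component_of_involution hOX htt' hDc hDt hND hZD hZ1
  -- `K ≤ H'`
  have hKH' : K ≤ H' := by
    have hcomm : ∀ a b : ↥X ⧸ H', a * b = b * a := by
      have hq : ∀ a : ↥X ⧸ H', a * a = 1 := by
        intro a
        obtain ⟨x, rfl⟩ := QuotientGroup.mk_surjective a
        rw [← QuotientGroup.mk_mul, QuotientGroup.eq_one_iff]
        exact hsq x
      intro a b
      have ha : a⁻¹ = a := inv_eq_of_mul_eq_one_left (hq a)
      have hb : b⁻¹ = b := inv_eq_of_mul_eq_one_left (hq b)
      have hab : (a * b)⁻¹ = a * b := inv_eq_of_mul_eq_one_left (hq (a * b))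
      rw [← hab, mul_inv_rev, ha, hb]
    have hsolv : Group.IsSolvable (↥X ⧸ H') := Group.isSolvable_of_comm hcomm
    exact le_of_isSolvable_quotient_of_perfect hsolv (Subgroup.isPerfect_iff.1 hK.2.1)
  have hK1 : Cfsg.IsComponent (K.subgroupOf H') := IsComponent.subgroupOf hK hKH'
  set e : ↥H' ≃* ↥H := Subgroup.subgroupOfEquivOfLe hHX with he
  set E : Subgroup ↥H := (K.subgroupOf H').map (e : ↥H' →* ↥H) with hE
  have hEc : Cfsg.IsComponent E := IsComponent.map_equiv e hK1
  have hEK : E.map H.subtype = K.map X.subtype := by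
    ext g
    constructor
    · rintro ⟨y, ⟨z, hz, rfl⟩, rfl⟩
      exact ⟨(z : ↥X), Subgroup.mem_subgroupOf.1 hz, rfl⟩
    · rintro ⟨w, hw, rfl⟩
      exact ⟨e ⟨w, hKH' hw⟩, ⟨⟨w, hKH' hw⟩, Subgroup.mem_subgroupOf.2 hw, rfl⟩, rfl⟩
  refine ⟨E, hEc, ?_, ?_, ?_, ?_⟩
  · rw [hEK]
    have h1 : (K.map X.subtype).map (MulAut.conj t).toMonoidHom =
        (cj t' K).map X.subtype := by
      unfold cj
      rw [Subgroup.map_map, Subgroup.map_map]
      congr 1
    rw [h1, hKt]
  · rw [hEK]
    intro y hy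
    have hyX : y ∈ X := hD₀X (hYD₀ hy)
    have h1 : (⟨y, hyX⟩ : ↥X) ∈ Subgroup.normalizer (K : Set ↥X) :=
      hDK (hZD (Subgroup.mem_subgroupOf.2 hy))
    have h2 := Subgroup.le_normalizer_map X.subtype (Subgroup.mem_map_of_mem X.subtype h1)
    exact h2
  · rw [hEK]
    intro hc
    apply htK
    rw [Subgroup.mem_centralizer_iff]
    intro k hk
    apply Subtype.ext
    exact (Subgroup.mem_centralizer_iff.1 hc) (k : G) ⟨k, hk, rfl⟩
  · rw [hEK]
    intro hc
    apply hZK
    intro z hz
    rw [Subgroup.mem_centralizer_iff]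
    intro k hk
    apply Subtype.ext
    exact (Subgroup.mem_centralizer_iff.1 (hc (Subgroup.mem_subgroupOf.1 hz))) (k : G) ⟨k, hk, rfl⟩

end Main

end Cfsg.Agent.Lib.Helper4.LBal
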