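import Mathlib
import Cfsg.Agent.Lib.Helper4.LBal10
import Cfsg.Agent.Lib.Helper4.LB2R2

set_option autoImplicit false
open scoped commutatorElement

/-!
`L_{2'}`-balance WITHOUT the Schreier property (package P7 of `notes/S1301_Zstar_core_helper1.md`):
the `p = 2` copy of the last steps of the chain `LBal9`/`LBal10`, with the Schreier step replaced by
Lemma R2 (`Cfsg.Agent.Lib.Helper1.LBalR2.le_centralizer_component`), and the centralizer form
`L_{2'}(C_X(T)) ≤ L_{2'}(X)`.
-/

namespace Cfsg.Agent.Lib.Helper4.LBal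

open Cfsg Cfsg.Agent.Lib.Helper1 Cfsg.Agent.Lib.Helper3

section Transport2
variable {G H : Type*} [Group G] [Group H] {p : ℕ}

/-- "no proper normal subgroup of index prime to `p`" passes to homomorphic images -/
theorem no_coprime_index_map_hom (f : G →* H) {K : Subgroup G}
    (hK : ∀ M : Subgroup K, M.Normal → M.index.Coprime p → M = ⊤) :
    ∀ M : Subgroup (K.map f), M.Normal → M.index.Coprime p → M = ⊤ := by
  intro M hM hidx
  set g : ↥K →* ↥(K.map f) := f.subgroupMap K with hg
  have hgs : Function.Surjective g := f.subgroupMap_surjective K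
  have h1 : M.comap g = ⊤ := by
    apply hK _ (hM.comap _)
    rw [Subgroup.index_comap_of_surjective M hgs]
    exact hidx
  rw [eq_top_iff]
  intro y _
  obtain ⟨x, rfl⟩ := hgs y
  have : x ∈ M.comap g := by rw [h1]; exact Subgroup.mem_top x
  exact this

end Transport2

section Core2
variable {Y : Type*} [Group Y] [Finite Y]

/-- **Core theorem** of `L_{2'}`-balance (no Schreier hypothesis), in a group with `O(Y) = 1`. -/
theorem perfect_le_layer_two (hY : pPrimeCore 2 Y = ⊥) {R D L : Subgroup Y} (hR : IsPGroup 2 R)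
    (hD : (Nat.card D).Coprime 2) (hLR : L ≤ Subgroup.centralizer (R : Set Y))
    (hLperf : ⁅L, L⁆ = L)
    (hLodd : ∀ M : Subgroup L, M.Normal → M.index.Coprime 2 → M = ⊤)
    (hLE : ⁅L, layer Y ⊓ Subgroup.centralizer (R : Set Y)⁆ ≤ D)
    (hLQ : ⁅L, pCore 2 Y ⊓ Subgroup.centralizer (R : Set Y)⁆ ≤ D) :
    L ≤ layer Y := by
  have h1 : L ≤ Subgroup.centralizer (pCore 2 Y : Set Y) :=
    perfect_le_centralizer_pCore hR hD hLR hLperf hLQ
  have h2 : ∀ K : Subgroup Y, IsComponent K → L ≤ Subgroup.normalizer (K : Set Y) :=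
    fun K hK => le_normalizer_component_of_perfect hY hR hD hLR hLperf h1 hLE hK
  have h3 : ∀ K : Subgroup Y, IsComponent K → L ≤ Subgroup.centralizer (K : Set Y) :=
    Cfsg.Agent.Lib.Helper1.LBalR2.le_centralizer_component hY hR hD hLR hLperf hLodd hLE h1 h2
  have h4 : layer Y ≤ Subgroup.centralizer (L : Set Y) := by
    unfold layer
    apply sSup_le
    intro K hK
    exact Subgroup.le_centralizer_iff.1 (h3 K hK)
  have h5 : L ≤ Subgroup.centralizer (layer Y : Set Y) := Subgroup.le_centralizer_iff.1 h4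
  apply perfect_le_layer_of_decomp hY hLperf h1
  intro l hl
  refine ⟨1, one_mem _, ?_⟩
  rw [inv_one, one_mul]
  exact h5 hl

end Core2

section Main2
variable {X : Type*} [Group X] [Finite X]

/-- the image of `C_X(T)` in `X / W` (`W` a normal subgroup of odd order, `T` a 2-group) is the
centralizer of the image of `T` -/
theorem range_centralizer_map_mk' (W : Subgroup X) [W.Normal] (hW : (Nat.card W).Coprime 2)
    {T : Subgroup X} (hT : IsPGroup 2 T) :
    ((QuotientGroup.mk' W).comp (Subgroup.centralizer (T : Set X)).subtype).range =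
      Subgroup.centralizer ((T.map (QuotientGroup.mk' W) : Subgroup (X ⧸ W)) : Set (X ⧸ W)) := by
  apply le_antisymm
  · rintro _ ⟨c, rfl⟩
    rw [Subgroup.mem_centralizer_iff]
    rintro _ ⟨t, ht, rfl⟩
    have h1 := (Subgroup.mem_centralizer_iff.1 c.2) t ht
    change QuotientGroup.mk' W t * QuotientGroup.mk' W (c : X) =
      QuotientGroup.mk' W (c : X) * QuotientGroup.mk' W t
    rw [← map_mul, ← map_mul, h1]
  · intro y hy
    obtain ⟨x, rfl⟩ := QuotientGroup.mk'_surjective W y
    obtain ⟨c, hc, hcx⟩ := exists_mem_centralizer_of_map_mem_centralizer W hW hT hy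
    exact ⟨⟨c, hc⟩, hcx⟩

theorem pComponent_centralizer_map_le_layer_two
    {T : Subgroup X} (hT : IsPGroup 2 T) {L : Subgroup ↥(Subgroup.centralizer (T : Set X))}
    (hL : IsPComponent 2 L) :
    L.map ((QuotientGroup.mk' (pPrimeCore 2 X)).comp (Subgroup.centralizer (T : Set X)).subtype) ≤
      layer (X ⧸ pPrimeCore 2 X) := by
  classical
  set W := pPrimeCore 2 X with hW
  set π := QuotientGroup.mk' W with hπ
  set φ : ↥(Subgroup.centralizer (T : Set X)) →* X ⧸ W :=
    π.comp (Subgroup.centralizer (T : Set X)).subtype with hφ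
  have hWcop : (Nat.card W).Coprime 2 := Cfsg.Agent.Lib.Helper6.pPrimeCore_coprime 2
  have hY : pPrimeCore 2 (X ⧸ W) = ⊥ := pPrimeCore_quotient_eq_bot
  set Lbar := L.map φ with hLbar
  set Tbar := T.map π with hTbardef
  set Dbar := (pPrimeCore 2 ↥(Subgroup.centralizer (T : Set X))).map φ with hDbardef
  have hTbar : IsPGroup 2 Tbar := hT.map π
  have hDbar : (Nat.card Dbar).Coprime 2 :=
    Nat.Coprime.coprime_dvd_left (Subgroup.card_map_dvd _ φ)
      (Cfsg.Agent.Lib.Helper6.pPrimeCore_coprime 2)
  have hLperf : ⁅L, L⁆ = L := IsPComponent.commutator_eq_self hL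
  have hLbarperf : ⁅Lbar, Lbar⁆ = Lbar := by rw [hLbar, ← Subgroup.map_commutator, hLperf]
  have hLbarodd : ∀ M : Subgroup Lbar, M.Normal → M.index.Coprime 2 → M = ⊤ :=
    no_coprime_index_map_hom φ (fun M hM hidx => by
      haveI := hM
      exact IsPComponent.eq_top_of_normal_of_coprime_index hL M hidx)
  have hLTbar : Lbar ≤ Subgroup.centralizer (Tbar : Set (X ⧸ W)) := by
    rintro _ ⟨l, _, rfl⟩
    rw [Subgroup.mem_centralizer_iff]
    rintro _ ⟨t, ht, rfl⟩
    have h2 : t * (l : X) = (l : X) * t := (Subgroup.mem_centralizer_iff.1 l.2) t ht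
    change π t * π (l : X) = π (l : X) * π t
    rw [← map_mul, ← map_mul, h2]
  have hrange : φ.range = Subgroup.centralizer (Tbar : Set (X ⧸ W)) :=
    range_centralizer_map_mk' W hWcop hT
  have dich : ∀ H : Subgroup (X ⧸ W), H.Normal →
      Lbar ≤ H ∨ ⁅Lbar, H ⊓ Subgroup.centralizer (Tbar : Set (X ⧸ W))⁆ ≤ Dbar := by
    intro H hH
    haveI : (H.comap φ).Normal := hH.comap φ
    rcases IsPComponent.le_or_commutator_le_pPrimeCore (H := H.comap φ) hL with h | h
    · left
      rw [hLbar, Subgroup.map_le_iff_le_comap]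
      exact h
    · right
      have h1 := Subgroup.map_mono (f := φ) h
      rw [Subgroup.map_commutator, Subgroup.map_comap_eq] at h1
      refine le_trans (Subgroup.commutator_mono le_rfl ?_) h1
      rw [hrange]
      exact le_inf inf_le_right inf_le_left
  rcases dich (layer (X ⧸ W)) inferInstance with hE | hE
  · exact hE
  rcases dich (pCore 2 (X ⧸ W)) (pCore_normal 2 _) with hQ | hQ
  · have := eq_bot_of_perfect_of_le_isPGroup hLbarperf
      (Cfsg.Agent.Lib.Helper2.pCore_isPGroup (G := X ⧸ W) 2) hQ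
    rw [this]
    exact bot_le
  exact perfect_le_layer_two hY hTbar hDbar hLTbar hLbarperf hLbarodd hE hQ

/-- **`L_{2'}`-balance** (Gorenstein–Walter): `L_{2'}(C_X(T)) ≤ L_{2'}(X)` for every 2-subgroup `T`. -/
theorem pLayer_centralizer_map_le_two (T : Subgroup X) (hT : IsPGroup 2 T) :
    (pLayer 2 ↥(Subgroup.centralizer (T : Set X))).map (Subgroup.centralizer (T : Set X)).subtype ≤
      pLayer 2 X := by
  set W := pPrimeCore 2 X with hW
  set π := QuotientGroup.mk' W with hπ
  have hWcop : (Nat.card W).Coprime 2 := Cfsg.Agent.Lib.Helper6.pPrimeCore_coprime 2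
  rw [Subgroup.map_le_iff_le_comap, pLayer_le_iff]
  intro L hL
  rw [← Subgroup.map_le_iff_le_comap]
  have h1 := pComponent_centralizer_map_le_layer_two hT hL
  have h2 : (L.map (Subgroup.centralizer (T : Set X)).subtype).map π ≤ (pLayer 2 X).map π := by
    rw [Subgroup.map_map, pLayer_map_mk']
    exact h1
  have h3 : L.map (Subgroup.centralizer (T : Set X)).subtype ≤ pLayer 2 X ⊔ W := by
    have := Subgroup.comap_mono (f := π) h2
    rw [Subgroup.comap_map_eq, Subgroup.comap_map_eq, QuotientGroup.ker_mk'] at this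
    exact le_sup_left.trans this
  exact le_of_le_sup_of_isSubnormal hWcop
    (no_coprime_index_map (Subgroup.centralizer (T : Set X)).subtype
      (Subgroup.centralizer (T : Set X)).subtype_injective (fun M hM hidx => by
      haveI := hM
      exact IsPComponent.eq_top_of_normal_of_coprime_index hL M hidx))
    (pLayer_normal (p := 2) (X := X)).isSubnormal h3

end Main2

end Cfsg.Agent.Lib.Helper4.LBal
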