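import Mathlib
import Cfsg.Agent.Lib.Helper4.LWB_Defs

/-!
# Livingstone–Wagner (b), Package A: the swap lemma

See `notes/S0747_S0748_PROOF_helper4.md`, section 0.
-/

set_option autoImplicit false
set_option linter.style.haveILetI false
set_option linter.unusedVariables false

namespace Cfsg.Agent.Lib.Helper4.LWB

open MulAction


/-- dihedral dichotomy for two involutions -/
theorem dihedral_dichotomy {Q : Type*} [Group Q] (s t : Q) (hs : s * s = 1) (ht : t * t = 1)
    (hfin : IsOfFinOrder (s * t)) :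
    (∃ j : ℕ, (s * t) ^ j ≠ 1 ∧ (s * t) ^ j * (s * t) ^ j = 1 ∧ Commute ((s * t) ^ j) s ∧
        Commute ((s * t) ^ j) t) ∨
    (∃ e : ℕ, (s * t) ^ e * s * ((s * t) ^ e)⁻¹ = t ∧
        ((s * t) ^ e * s) * ((s * t) ^ e * s) = 1) := by
  set c := s * t with hc
  have hsi : s⁻¹ = s := inv_eq_of_mul_eq_one_left hs
  have hti : t⁻¹ = t := inv_eq_of_mul_eq_one_left ht
  have hci : c⁻¹ = t * s := by rw [hc, mul_inv_rev, hsi, hti]
  -- s c^j s⁻¹ = (c^j)⁻¹
  have hsc : ∀ j : ℕ, s * c ^ j * s⁻¹ = (c ^ j)⁻¹ := by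
    intro j
    rw [← conj_pow, ← inv_pow]
    congr 1
    rw [hci, hc, hsi]
    calc s * (s * t) * s = (s * s) * t * s := by group
      _ = t * s := by rw [hs, one_mul]
  have htc : ∀ j : ℕ, t * c ^ j * t⁻¹ = (c ^ j)⁻¹ := by
    intro j
    rw [← conj_pow, ← inv_pow]
    congr 1
    rw [hci, hc, hti]
    calc t * (s * t) * t = t * s * (t * t) := by group
      _ = t * s := by rw [ht, mul_one]
  have hd : 0 < orderOf c := hfin.orderOf_pos
  rcases Nat.even_or_odd' (orderOf c) with ⟨j, hj | hj⟩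
  · left
    have hj0 : 0 < j := by omega
    have hw2 : c ^ j * c ^ j = 1 := by
      rw [← pow_add, ← two_mul, ← hj, pow_orderOf_eq_one]
    have hwi : (c ^ j)⁻¹ = c ^ j := inv_eq_of_mul_eq_one_left hw2
    refine ⟨j, ?_, hw2, ?_, ?_⟩
    · exact pow_ne_one_of_lt_orderOf hj0.ne' (by omega)
    · have := hsc j
      rw [hwi] at this
      -- s * w * s⁻¹ = w  =>  w * s = s * w
      have h2 : s * c ^ j = c ^ j * s := by
        calc s * c ^ j = (s * c ^ j * s⁻¹) * s := by group
          _ = c ^ j * s := by rw [this]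
      exact h2.symm
    · have := htc j
      rw [hwi] at this
      have h2 : t * c ^ j = c ^ j * t := by
        calc t * c ^ j = (t * c ^ j * t⁻¹) * t := by group
          _ = c ^ j * t := by rw [this]
      exact h2.symm
  · right
    refine ⟨j, ?_, ?_⟩
    · -- c^j s c^-j = c^j c^j s = c^(2j) s = c⁻¹ s = t
      have h1 : s * (c ^ j)⁻¹ = c ^ j * s := by
        have := hsc j
        calc s * (c ^ j)⁻¹ = s * (s * c ^ j * s⁻¹) := by rw [this]
          _ = (s * s) * c ^ j * s⁻¹ := by group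
          _ = c ^ j * s := by rw [hs, one_mul, hsi]
      have h2 : c ^ j * c ^ j = c⁻¹ := by
        rw [← pow_add, ← two_mul]
        have : c ^ (2 * j) * c = 1 := by
          rw [← pow_succ, ← hj, pow_orderOf_eq_one]
        exact eq_inv_of_mul_eq_one_left this
      calc c ^ j * s * (c ^ j)⁻¹ = c ^ j * (s * (c ^ j)⁻¹) := by group
        _ = c ^ j * (c ^ j * s) := by rw [h1]
        _ = (c ^ j * c ^ j) * s := by group
        _ = t * s * s := by rw [h2, hci]
        _ = t := by rw [mul_assoc, hs, mul_one]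
    · have h1 : s * c ^ j = (c ^ j)⁻¹ * s := by
        have := hsc j
        calc s * c ^ j = (s * c ^ j * s⁻¹) * s := by group
          _ = (c ^ j)⁻¹ * s := by rw [this]
      calc c ^ j * s * (c ^ j * s) = c ^ j * (s * c ^ j) * s := by group
        _ = c ^ j * ((c ^ j)⁻¹ * s) * s := by rw [h1]
        _ = s * s := by group
        _ = 1 := hs



/-- push: a 2-element normalising `U` with square in `U`, not in `U`, inside `L ≥ U`,
forces `v2 |L| > v2 |U|`. -/
theorem v2_lt_of_mem {H : Type*} [Group H] [Finite H] (U L : Subgroup H) (m : ℕ)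
    (hU : Nat.card U = 2 ^ m) (hUL : U ≤ L) (w : H) (hwL : w ∈ L)
    (hwN : w ∈ Subgroup.normalizer (U : Set H)) (hw2 : w * w ∈ U) (hwU : w ∉ U) :
    m < v2 (Nat.card L) := by
  haveI : Fact (Nat.Prime 2) := ⟨Nat.prime_two⟩
  have hUp : IsPGroup 2 U := IsPGroup.of_card hU
  -- zpowers w is a 2-group
  have hwp : IsPGroup 2 (Subgroup.zpowers w) := by
    have h1 : w ^ (2 ^ (m + 1)) = 1 := by
      have h2 : (⟨w * w, hw2⟩ : U) ^ (2 ^ m) = 1 := by
        rw [← hU]; exact pow_card_eq_one'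
      have h3 : (w * w) ^ (2 ^ m) = 1 := by
        have := congrArg (fun z : U => (z : H)) h2
        simpa using this
      rw [pow_succ, pow_mul', pow_two]; exact h3
    have h4 : orderOf w ∣ 2 ^ (m + 1) := orderOf_dvd_of_pow_eq_one h1
    obtain ⟨k, -, hk⟩ := (Nat.dvd_prime_pow Nat.prime_two).1 h4
    exact IsPGroup.of_card (n := k) (by rw [Nat.card_zpowers, hk])
  have hle : Subgroup.zpowers w ≤ Subgroup.normalizer (U : Set H) := by
    rw [Subgroup.zpowers_le]; exact hwN
  have hV : IsPGroup 2 (Subgroup.zpowers w ⊔ U : Subgroup H) :=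
    IsPGroup.to_sup_of_normal_right' hwp hUp hle
  set V : Subgroup H := Subgroup.zpowers w ⊔ U with hVdef
  obtain ⟨j, hj⟩ := IsPGroup.iff_card.1 hV
  have hUV : U ≤ V := le_sup_right
  have hwV : w ∈ V := (le_sup_left : Subgroup.zpowers w ≤ V) (Subgroup.mem_zpowers w)
  have hVL : V ≤ L := sup_le (by rw [Subgroup.zpowers_le]; exact hwL) hUL
  have h1 : Nat.card U ∣ Nat.card V := Subgroup.card_dvd_of_le hUV
  rw [hU, hj] at h1
  have hmj : m ≤ j := (Nat.pow_dvd_pow_iff_le_right (by norm_num)).1 h1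
  have hne : m ≠ j := by
    intro h
    have : U = V := Subgroup.eq_of_le_of_card_ge hUV (by rw [hU, hj, h])
    exact hwU (this ▸ hwV)
  have h2 : Nat.card V ∣ Nat.card L := Subgroup.card_dvd_of_le hVL
  rw [hj] at h2
  have h3 : 2 ^ (m + 1) ∣ Nat.card L :=
    (pow_dvd_pow 2 (by omega)).trans h2
  have h4 := (Nat.Prime.pow_dvd_iff_le_factorization Nat.prime_two
    (Nat.card_pos.ne')).1 h3
  exact h4

/-- pull: if `U ≤ L` is a 2-subgroup of order `2^m` and `v2 |L| > m`, some `a ∈ L ∖ U`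
normalises `U` with `a² ∈ U`. -/
theorem exists_of_v2_lt {H : Type*} [Group H] [Finite H] (U L : Subgroup H) (m : ℕ)
    (hU : Nat.card U = 2 ^ m) (hUL : U ≤ L) (hm : m < v2 (Nat.card L)) :
    ∃ a : H, a ∈ L ∧ a ∈ Subgroup.normalizer (U : Set H) ∧ a * a ∈ U ∧ a ∉ U := by
  haveI : Fact (Nat.Prime 2) := ⟨Nat.prime_two⟩
  have hdvd : 2 ^ (m + 1) ∣ Nat.card L :=
    (Nat.Prime.pow_dvd_iff_le_factorization Nat.prime_two (Nat.card_pos.ne')).2 hm
  have hU' : Nat.card (U.subgroupOf L) = 2 ^ m := by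
    rw [← hU]; exact Nat.card_congr (Subgroup.subgroupOfEquivOfLe hUL).toEquiv
  obtain ⟨K, hK, hUK⟩ := Sylow.exists_subgroup_card_pow_prime_le 2 hdvd (U.subgroupOf L) hU'
    (Nat.le_succ m)
  -- V = U inside K has index 2
  set V : Subgroup K := (U.subgroupOf L).subgroupOf K with hV
  have hVc : Nat.card V = 2 ^ m := by
    rw [← hU']; exact Nat.card_congr (Subgroup.subgroupOfEquivOfLe hUK).toEquiv
  have hidx : V.index = 2 := by
    have := V.card_mul_index
    rw [hVc, hK, pow_succ] at this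
    exact Nat.eq_of_mul_eq_mul_left (by positivity) this
  haveI : V.Normal := Subgroup.normal_of_index_eq_two hidx
  have hne : V ≠ ⊤ := by
    intro h; rw [h, Subgroup.index_top] at hidx; omega
  obtain ⟨a, haV⟩ : ∃ a : K, a ∉ V := by
    by_contra hcon
    push Not at hcon
    exact hne (eq_top_iff.2 fun x _ => hcon x)
  have memV : ∀ z : K, z ∈ V ↔ ((z : L) : H) ∈ U := fun z => by
    rw [hV, Subgroup.mem_subgroupOf, Subgroup.mem_subgroupOf]
  refine ⟨((a : L) : H), (a : L).2, ?_, ?_, ?_⟩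
  · -- normaliser
    have key : ∀ (b : K) (u : H), u ∈ U → ((b : L) : H) * u * ((b : L) : H)⁻¹ ∈ U := by
      intro b u hu
      have huL : u ∈ L := hUL hu
      have huK : (⟨u, huL⟩ : L) ∈ K := hUK (by rw [Subgroup.mem_subgroupOf]; exact hu)
      have huV : (⟨⟨u, huL⟩, huK⟩ : K) ∈ V := by rw [memV]; exact hu
      have := (inferInstance : V.Normal).conj_mem _ huV b
      rw [memV] at this
      simpa using this
    rw [Subgroup.mem_normalizer_iff]
    intro h
    constructor
    · intro hh; exact key a h hh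
    · intro hh
      have := key a⁻¹ _ hh
      simpa [mul_assoc] using this
  · have := Subgroup.mul_self_mem_of_index_two hidx a
    rw [memV] at this
    simpa using this
  · intro h; exact haV ((memV a).2 h)



/-- **Swap lemma.** -/
theorem swap_lemma {H X : Type*} [Group H] [Finite H] [MulAction H X] (T : Set X)
    (hT : ∀ (h : H) (z : X), z ∈ T → h • z ∈ T) {x y : X} (hx : x ∈ T) (hy : y ∈ T)
    (hxy : x ≠ y)
    (h1 : v2 (Nat.card ↥(stabilizer H x ⊓ stabilizer H y)) < v2 (Nat.card ↥(stabilizer H x)))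
    (h2 : v2 (Nat.card ↥(stabilizer H x ⊓ stabilizer H y)) < v2 (Nat.card ↥(stabilizer H y)))
    (h3 : ∀ z ∈ T, z ≠ x → v2 (Nat.card ↥(stabilizer H x ⊓ stabilizer H z)) ≤
      v2 (Nat.card ↥(stabilizer H x ⊓ stabilizer H y)))
    (h4 : ∀ z ∈ T, z ≠ y → v2 (Nat.card ↥(stabilizer H y ⊓ stabilizer H z)) ≤
      v2 (Nat.card ↥(stabilizer H x ⊓ stabilizer H y))) :
    ∃ h : H, h • x = y ∧ h • y = x := by
  have : Fact (Nat.Prime 2) := ⟨Nat.prime_two⟩
  set Hxy : Subgroup H := stabilizer H x ⊓ stabilizer H y with hHxy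
  set m := v2 (Nat.card ↥Hxy) with hm
  -- a Sylow 2-subgroup U of Hxy
  obtain ⟨U₀, hU₀⟩ := Sylow.exists_subgroup_card_pow_prime (G := ↥Hxy) 2 (n := m)
    (by rw [hm]; exact Nat.ordProj_dvd _ _)
  set U : Subgroup H := U₀.map Hxy.subtype with hUdef
  have hU : Nat.card U = 2 ^ m := by
    rw [hUdef, Subgroup.card_map_of_injective Hxy.subtype_injective, hU₀]
  have hUle : U ≤ Hxy := Subgroup.map_subtype_le U₀
  have hUx : ∀ u ∈ U, u • x = x := fun u hu => (hUle hu).1
  have hUy : ∀ u ∈ U, u • y = y := fun u hu => (hUle hu).2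
  -- elements a, b
  obtain ⟨a, haL, haN, ha2, haU⟩ := exists_of_v2_lt U (stabilizer H x) m hU
    (hUle.trans inf_le_left) h1
  obtain ⟨b, hbL, hbN, hb2, hbU⟩ := exists_of_v2_lt U (stabilizer H y) m hU
    (hUle.trans inf_le_right) h2
  have hax : a • x = x := haL
  have hby : b • y = y := hbL
  -- Claim 1
  have claim_a : ∀ z ∈ T, (∀ u ∈ U, u • z = z) → a • z = z → z = x := by
    intro z hzT hzU haz
    by_contra hne
    have hUL : U ≤ stabilizer H x ⊓ stabilizer H z :=
      fun u hu => ⟨hUx u hu, hzU u hu⟩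
    have := v2_lt_of_mem U (stabilizer H x ⊓ stabilizer H z) m hU hUL a ⟨hax, haz⟩ haN ha2 haU
    have := h3 z hzT hne
    omega
  have claim_b : ∀ z ∈ T, (∀ u ∈ U, u • z = z) → b • z = z → z = y := by
    intro z hzT hzU hbz
    by_contra hne
    have hUL : U ≤ stabilizer H y ⊓ stabilizer H z :=
      fun u hu => ⟨hUy u hu, hzU u hu⟩
    have := v2_lt_of_mem U (stabilizer H y ⊓ stabilizer H z) m hU hUL b ⟨hby, hbz⟩ hbN hb2 hbU
    have := h4 z hzT hne
    omega
  -- normaliser elements preserve Fix(U)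
  have fixN : ∀ g ∈ Subgroup.normalizer (U : Set H), ∀ z : X, (∀ u ∈ U, u • z = z) →
      ∀ u ∈ U, u • (g • z) = g • z := by
    intro g hg z hz u hu
    have h5 : g⁻¹ * u * g ∈ U := (Subgroup.mem_normalizer_iff''.1 hg u).1 hu
    have h6 := hz _ h5
    calc u • (g • z) = g • ((g⁻¹ * u * g) • z) := by
          simp only [← mul_smul]; congr 1; group
      _ = g • z := by rw [h6]
  -- the quotient N/U
  set N : Subgroup H := Subgroup.normalizer (U : Set H) with hN
  let aN : N := ⟨a, haN⟩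
  let bN : N := ⟨b, hbN⟩
  let π : N →* (N ⧸ U.subgroupOf N) := QuotientGroup.mk' (U.subgroupOf N)
  have hπ1 : ∀ n : N, π n = 1 ↔ (n : H) ∈ U := by
    intro n
    rw [QuotientGroup.mk'_apply, QuotientGroup.eq_one_iff, Subgroup.mem_subgroupOf]
  have hπeq : ∀ n n' : N, π n = π n' ↔ ((n : H))⁻¹ * (n' : H) ∈ U := by
    intro n n'
    rw [QuotientGroup.mk'_apply, QuotientGroup.mk'_apply, QuotientGroup.eq,
      Subgroup.mem_subgroupOf]
    rfl
  have hs : π aN * π aN = 1 := by
    rw [← map_mul, hπ1]; exact ha2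
  have ht : π bN * π bN = 1 := by
    rw [← map_mul, hπ1]; exact hb2
  have hfin : IsOfFinOrder (π aN * π bN) := isOfFinOrder_of_finite _
  rcases dihedral_dichotomy (π aN) (π bN) hs ht hfin with ⟨j, hw1, hw2, hwa, hwb⟩ | ⟨e, hg, hr⟩
  · -- even case: contradiction
    exfalso
    set w : N := (aN * bN) ^ j with hw
    have hπw : π w = (π aN * π bN) ^ j := by rw [hw, map_pow, map_mul]
    rw [← hπw] at hw1 hw2 hwa hwb
    have hwU : (w : H) ∉ U := fun h => hw1 ((hπ1 w).2 h)
    have hww : (w : H) * (w : H) ∈ U := by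
      have := (hπ1 (w * w)).1 (by rw [map_mul]; exact hw2)
      simpa using this
    -- w commutes with a mod U
    have hca : ((a * (w : H)))⁻¹ * ((w : H) * a) ∈ U := by
      have : π (aN * w) = π (w * aN) := by rw [map_mul, map_mul]; exact hwa.eq.symm
      have := (hπeq _ _).1 this
      simpa using this
    have hcb : ((b * (w : H)))⁻¹ * ((w : H) * b) ∈ U := by
      have : π (bN * w) = π (w * bN) := by rw [map_mul, map_mul]; exact hwb.eq.symm
      have := (hπeq _ _).1 this
      simpa using this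
    have hwx : (w : H) • x = x := by
      apply claim_a _ (hT _ _ hx) (fixN _ w.2 x hUx)
      -- a • w • x = w • x
      have h7 := hUx _ (U.inv_mem hca)
      calc a • ((w : H) • x) = ((w : H) * a * (((a * (w : H)))⁻¹ * ((w : H) * a))⁻¹) • x := by
            rw [← mul_smul]; congr 1; group
        _ = (w : H) • x := by rw [mul_smul, h7, mul_smul, hax]
    have hwy : (w : H) • y = y := by
      apply claim_b _ (hT _ _ hy) (fixN _ w.2 y hUy)
      have h7 := hUy _ (U.inv_mem hcb)
      calc b • ((w : H) • y) = ((w : H) * b * (((b * (w : H)))⁻¹ * ((w : H) * b))⁻¹) • y := by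
            rw [← mul_smul]; congr 1; group
        _ = (w : H) • y := by rw [mul_smul, h7, mul_smul, hby]
    have := v2_lt_of_mem U Hxy m hU hUle (w : H) ⟨hwx, hwy⟩ w.2 hww hwU
    omega
  · -- odd case
    set g : N := (aN * bN) ^ e with hgdef
    have hπg : π g = (π aN * π bN) ^ e := by rw [hgdef, map_pow, map_mul]
    rw [← hπg] at hg hr
    have hgu : ((g : H) * a * (g : H)⁻¹)⁻¹ * b ∈ U := by
      have : π (g * aN * g⁻¹) = π bN := by rw [map_mul, map_mul, map_inv]; exact hg
      have := (hπeq _ _).1 this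
      simpa using this
    have hrr : ((g : H) * a) * ((g : H) * a) ∈ U := by
      have := (hπ1 ((g * aN) * (g * aN))).1 (by rw [map_mul, map_mul]; exact hr)
      simpa using this
    have hgx : (g : H) • x = y := by
      apply claim_b _ (hT _ _ hx) (fixN _ g.2 x hUx)
      -- b = g a g⁻¹ u
      have h5 : (g : H)⁻¹ * (((g : H) * a * (g : H)⁻¹)⁻¹ * b) * (g : H) ∈ U :=
        (Subgroup.mem_normalizer_iff''.1 g.2 _).1 hgu
      have h7 := hUx _ h5
      calc b • ((g : H) • x)
          = ((g : H) * a * ((g : H)⁻¹ * (((g : H) * a * (g : H)⁻¹)⁻¹ * b) * (g : H))) • x := by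
            rw [← mul_smul]; congr 1; group
        _ = (g : H) • x := by rw [mul_smul, h7, mul_smul, hax]
    refine ⟨(g : H) * a, ?_, ?_⟩
    · rw [mul_smul, hax, hgx]
    · have h8 := hUx _ hrr
      have h9 : ((g : H) * a) • x = y := by rw [mul_smul, hax, hgx]
      rw [mul_smul, h9] at h8
      exact h8

end Cfsg.Agent.Lib.Helper4.LWB
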