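import Mathlib
import Cfsg.Agent.Lib.Helper4.LWB_Defs
import Cfsg.Agent.Lib.Helper1.Jordan5
import Cfsg.Agent.Lib.Helper4.Hall4M

/-!
# Livingstone–Wagner (b), Package D: M. Hall's theorem for `t`-transitive groups

See `notes/S0747_S0748_PROOF_helper4.md`, section 2.
-/

set_option autoImplicit false
set_option linter.unusedVariables false
set_option linter.unusedSectionVars false
set_option linter.style.haveILetI false

namespace Cfsg.Agent.Lib.Helper4.LWB

open MulAction SubMulAction Cfsg.Agent.Lib.Helper1.SharpTrans

section count

variable {G α : Type*} [Group G] [MulAction G α] [Fintype α] {t : ℕ}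
  [IsMultiplyPretransitive G α t]

theorem card_eq_descFactorial_mul_gen (e : Fin t ↪ α) :
    Nat.card G = (Fintype.card α).descFactorial t * Nat.card (stabilizer G e) := by
  have h1 := Subgroup.card_mul_index (stabilizer G e)
  rw [index_stabilizer_of_transitive, Nat.card_eq_fintype_card (α := Fin t ↪ α),
    Fintype.card_embedding_eq,
    Fintype.card_fin] at h1
  rw [← h1, mul_comm]

theorem card_stabilizer_eq_gen (x e : Fin t ↪ α) :
    Nat.card (stabilizer G e) = Nat.card (stabilizer G x) := by
  have h1 := card_eq_descFactorial_mul_gen (G := G) x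
  have h2 := card_eq_descFactorial_mul_gen (G := G) e
  have h4 : t ≤ Fintype.card α := by
    have := Fintype.card_le_of_embedding x
    rwa [Fintype.card_fin] at this
  have hpos : 0 < (Fintype.card α).descFactorial t := by
    apply Nat.pos_of_ne_zero
    rw [Ne, Nat.descFactorial_eq_zero_iff_lt]
    omega
  exact Nat.eq_of_mul_eq_mul_left hpos (h2.symm.trans h1)

end count

/-- **M. Hall's theorem for `t`-transitive groups**, `t ≥ 4`. -/
theorem hall_t.{u, v} (t : ℕ) (ht : 4 ≤ t) :
    ∀ (X : Type u) (β : Type v) [Group X] [Finite X] [MulAction X β] [FaithfulSMul X β]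
      [Fintype β] [DecidableEq β] [IsMultiplyPretransitive X β t] (e : Fin t ↪ β)
      (_ : Odd (Nat.card (stabilizer X e))) (_ : t + 4 ≤ Fintype.card β),
      Fintype.card β = t + 7 ∧ ∀ e' : Fin t ↪ β, stabilizer X e' = ⊥ := by
  induction t, ht using Nat.le_induction with
  | base =>
    intro X β _ _ _ _ _ _ _ e hodd hn
    have hall : ∀ e' : Fin 4 ↪ β, Odd (Nat.card (stabilizer X e')) :=
      fun e' => Cfsg.Agent.Lib.Helper4.Hall4.odd_all hodd e'
    obtain ⟨h11, hX⟩ := Cfsg.Agent.Lib.Helper4.Hall4.hall_large hall (by omega)
    refine ⟨by omega, fun e' => ?_⟩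
    have h1 := card_eq_descFactorial_mul_gen (G := X) e'
    rw [h11, hX] at h1
    have h2 : (11 : ℕ).descFactorial 4 = 7920 := by decide
    rw [h2] at h1
    have h3 : Nat.card (stabilizer X e') = 1 := by omega
    exact Subgroup.card_eq_one.1 h3
  | succ t ht ih =>
    intro X β _ _ _ _ _ _ hk1 e hodd hn
    classical
    set a : β := e (Fin.last t) with ha
    have hnc : Nat.card β = Fintype.card β := Nat.card_eq_fintype_card
    have h1t : IsMultiplyPretransitive X β 1 :=
      isMultiplyPretransitive_of_le (n := t + 1) (by omega) (by rw [hnc]; omega)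
    have htr : IsPretransitive X β := is_one_pretransitive_iff.mp h1t
    haveI hfaith : FaithfulSMul (stabilizer X a) (ofStabilizer X a) := faithful_ofStabilizer a
    haveI htt : IsMultiplyPretransitive (stabilizer X a) (ofStabilizer X a) t :=
      (ofStabilizer.isMultiplyPretransitive (n := t) (a := a)).mp hk1
    letI : Fintype (ofStabilizer X a) := Fintype.ofFinite _
    have hc : Fintype.card (ofStabilizer X a) + 1 = Fintype.card β := by
      rw [← Nat.card_eq_fintype_card, nat_card_ofStabilizer_add_one_eq, hnc]
    -- the restricted embedding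
    have hmem : ∀ i : Fin t, e i.castSucc ∈ ofStabilizer X a := by
      intro i
      rw [mem_ofStabilizer_iff, ha]
      intro h
      have := e.injective h
      exact (Fin.castSucc_lt_last i).ne this
    let e₀ : Fin t ↪ ofStabilizer X a :=
      ⟨fun i => ⟨e i.castSucc, hmem i⟩, fun i j hij => by
        have h1 : e i.castSucc = e j.castSucc := congrArg Subtype.val hij
        exact Fin.castSucc_injective _ (e.injective h1)⟩
    have hsn : ofStabilizer.snoc e₀ = e := by
      ext i
      rcases Fin.eq_castSucc_or_eq_last i with ⟨j, rfl⟩ | rfl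
      · rw [ofStabilizer.snoc_castSucc]; rfl
      · rw [ofStabilizer.snoc_last]
    -- stabiliser of e₀ embeds into the stabiliser of e
    have hle : (stabilizer (stabilizer X a) e₀).map (stabilizer X a).subtype ≤ stabilizer X e := by
      rintro _ ⟨h, hh, rfl⟩
      rw [mem_stabilizer_iff]
      ext i
      rcases Fin.eq_castSucc_or_eq_last i with ⟨j, rfl⟩ | rfl
      · rw [Function.Embedding.smul_apply]
        have : h • e₀ = e₀ := hh
        have h2 := congrArg (fun f : Fin t ↪ ofStabilizer X a => ((f j : ofStabilizer X a) : β)) this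
        exact h2
      · rw [Function.Embedding.smul_apply]
        exact h.2
    have hodd0 : Odd (Nat.card (stabilizer (stabilizer X a) e₀)) := by
      have h1 := Subgroup.card_dvd_of_le hle
      rw [Subgroup.card_map_of_injective (Subgroup.subtype_injective _)] at h1
      exact Odd.of_dvd_nat hodd h1
    obtain ⟨hcard, hsharp⟩ := ih (stabilizer X a) (ofStabilizer X a) e₀ hodd0 (by omega)
    refine ⟨by omega, ?_⟩
    -- stabiliser of e is trivial
    have hebot : stabilizer X e = ⊥ := by
      rw [Subgroup.eq_bot_iff_forall]
      intro h hh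
      have hha : h ∈ stabilizer X a := by
        rw [mem_stabilizer_iff, ha]
        have := congrArg (fun f : Fin (t + 1) ↪ β => f (Fin.last t)) (mem_stabilizer_iff.1 hh)
        exact this
      have h2 : (⟨h, hha⟩ : stabilizer X a) ∈ stabilizer (stabilizer X a) e₀ := by
        rw [mem_stabilizer_iff]
        ext i
        have := congrArg (fun f : Fin (t + 1) ↪ β => f i.castSucc) (mem_stabilizer_iff.1 hh)
        exact this
      rw [hsharp e₀, Subgroup.mem_bot] at h2
      exact congrArg Subtype.val h2
    intro e'
    have h3 := card_stabilizer_eq_gen (G := X) e e'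
    rw [hebot, Subgroup.card_bot] at h3
    exact Subgroup.card_eq_one.1 h3

end Cfsg.Agent.Lib.Helper4.LWB
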