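import Mathlib
import Cfsg.Agent.Lib.Helper4.LWB_Defs
import Cfsg.Agent.Lib.Helper4.LWB_D
import Cfsg.Agent.Lib.Helper1.Jordan5

/-!
# Livingstone–Wagner (b), Package E: the Sylow 2-subgroup of a `t`-point stabiliser and its
fixed points

See `notes/S0747_S0748_PROOF_helper4.md`, section 2.
-/

set_option autoImplicit false
set_option linter.unusedVariables false
set_option linter.unusedSectionVars false
set_option linter.style.haveILetI false
set_option linter.unreachableTactic false
set_option linter.unusedTactic false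

namespace Cfsg.Agent.Lib.Helper4.LWB

open MulAction Cfsg.Agent.Lib.Helper2.AltGen Cfsg.Agent.Lib.Helper1.SharpTrans

variable {α : Type*} [Fintype α] [DecidableEq α]

section struct

variable (G : Subgroup (Equiv.Perm α)) {t : ℕ} (δ : Fin t ↪ α)
  (P : Sylow 2 (fixingSubgroup G (Set.range δ)))

theorem range_subset_FF : ∀ i, δ i ∈ FF G δ P := by
  intro i
  rw [mem_FF]
  intro h hh
  have h1 := wittP_le δ P hh
  rw [mem_fixingSubgroup_iff] at h1
  exact h1 _ ⟨i, rfl⟩

/-- the normaliser of `wittP` preserves `FF` -/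
theorem normalizer_preserves_FF (n : G)
    (hn : n ∈ Subgroup.normalizer ((wittP δ P : Subgroup G) : Set G)) (z : α) :
    z ∈ FF G δ P ↔ (n : Equiv.Perm α) z ∈ FF G δ P := by
  have key : ∀ m : G, m ∈ Subgroup.normalizer ((wittP δ P : Subgroup G) : Set G) →
      ∀ z, z ∈ FF G δ P → (m : Equiv.Perm α) z ∈ FF G δ P := by
    intro m hm z hz
    rw [mem_FF] at hz ⊢
    intro h hh
    have h5 : m⁻¹ * h * m ∈ wittP δ P := (Subgroup.mem_normalizer_iff''.1 hm h).1 hh
    have h6 := hz _ h5
    have h7 : h • ((m : Equiv.Perm α) z) = m • ((m⁻¹ * h * m) • z) := by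
      change h • (m • z) = _
      simp only [← mul_smul]; congr 1; group
    rw [h7, h6]; rfl
  constructor
  · exact key n hn z
  · intro h
    have := key n⁻¹ (Subgroup.inv_mem _ hn) _ h
    have h2 : ((n⁻¹ : G) : Equiv.Perm α) ((n : Equiv.Perm α) z) = z := by
      change (n : Equiv.Perm α)⁻¹ ((n : Equiv.Perm α) z) = z
      simp
    rwa [h2] at this

/-- the permutation of `FF` induced by an element of the normaliser -/
def indPerm (n : G) (hn : n ∈ Subgroup.normalizer ((wittP δ P : Subgroup G) : Set G)) :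
    Equiv.Perm ↥(FF G δ P) :=
  Equiv.Perm.subtypePerm (n : Equiv.Perm α) (fun z => (normalizer_preserves_FF G δ P n hn z).symm)

theorem indPerm_apply (n : G) (hn : n ∈ Subgroup.normalizer ((wittP δ P : Subgroup G) : Set G))
    (z : ↥(FF G δ P)) : ((indPerm G δ P n hn z : ↥(FF G δ P)) : α) = (n : Equiv.Perm α) z := rfl

theorem indPerm_mem (n : G) (hn : n ∈ Subgroup.normalizer ((wittP δ P : Subgroup G) : Set G)) :
    indPerm G δ P n hn ∈ NN G δ P :=
  (mem_NN G δ P _).2 ⟨n, hn, fun z => rfl⟩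

theorem NN_isMultiplyPretransitive [IsMultiplyPretransitive G α t] :
    IsMultiplyPretransitive (NN G δ P) ↥(FF G δ P) t := by
  have : Fact (Nat.Prime 2) := ⟨Nat.prime_two⟩
  refine ⟨fun e₁ e₂ => ?_⟩
  have hfix : ∀ e : Fin t ↪ ↥(FF G δ P), ∀ i, ∀ h ∈ wittP δ P,
      h • (e.trans (Function.Embedding.subtype _)) i = (e.trans (Function.Embedding.subtype _)) i := by
    intro e i h hh
    exact (mem_FF G δ P _).1 (e i).2 h hh
  obtain ⟨n₁, hn₁, h₁⟩ := witt δ P (e₁.trans (Function.Embedding.subtype _)) (hfix e₁)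
  obtain ⟨n₂, hn₂, h₂⟩ := witt δ P (e₂.trans (Function.Embedding.subtype _)) (hfix e₂)
  have hn : n₂⁻¹ * n₁ ∈ Subgroup.normalizer ((wittP δ P : Subgroup G) : Set G) :=
    Subgroup.mul_mem _ (Subgroup.inv_mem _ hn₂) hn₁
  refine ⟨⟨indPerm G δ P _ hn, indPerm_mem G δ P _ hn⟩, ?_⟩
  ext i
  have a1 : (n₁ : Equiv.Perm α) ((e₁ i : ↥(FF G δ P)) : α) = δ i :=
    congrArg (fun f : Fin t ↪ α => f i) h₁
  have a2 : (n₂ : Equiv.Perm α) ((e₂ i : ↥(FF G δ P)) : α) = δ i :=
    congrArg (fun f : Fin t ↪ α => f i) h₂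
  change ((n₂⁻¹ * n₁ : G) : Equiv.Perm α) ((e₁ i : ↥(FF G δ P)) : α) = ((e₂ i : ↥(FF G δ P)) : α)
  have a3 : ((n₂⁻¹ * n₁ : G) : Equiv.Perm α) ((e₁ i : ↥(FF G δ P)) : α) =
      (n₂ : Equiv.Perm α)⁻¹ ((n₁ : Equiv.Perm α) ((e₁ i : ↥(FF G δ P)) : α)) := rfl
  rw [a3, a1, ← a2]
  simp

/-- `δ` as an embedding into `FF` -/
def δF : Fin t ↪ ↥(FF G δ P) :=
  ⟨fun i => ⟨δ i, range_subset_FF G δ P i⟩, fun i j hij => δ.injective (congrArg Subtype.val hij)⟩

theorem NN_stabilizer_odd_aux : Odd (Nat.card (stabilizer (NN G δ P) (δF G δ P))) := by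
  have : Fact (Nat.Prime 2) := ⟨Nat.prime_two⟩
  set P' : Subgroup G := wittP δ P with hP'
  set N : Subgroup G := Subgroup.normalizer ((P' : Subgroup G) : Set G) with hN
  set M : Subgroup G := N ⊓ (fixingSubgroup G (Set.range δ)) with hM
  have hP'K : P' ≤ (fixingSubgroup G (Set.range δ)) := wittP_le δ P
  have hP'M : P' ≤ M := le_inf Subgroup.le_normalizer hP'K
  have hMK : M ≤ (fixingSubgroup G (Set.range δ)) := inf_le_right
  -- the restriction homomorphism
  let Φ : ↥M →* Equiv.Perm ↥(FF G δ P) :=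
    MonoidHom.mk' (fun m => indPerm G δ P (m : G) m.2.1) (by
      intro a b
      ext z
      rfl)
  have hker : P'.subgroupOf M ≤ Φ.ker := by
    intro m hm
    rw [Subgroup.mem_subgroupOf] at hm
    rw [MonoidHom.mem_ker]
    ext z
    have h1 := (mem_FF G δ P _).1 z.2 (m : G) hm
    exact h1
  have hrange : (stabilizer (NN G δ P) (δF G δ P)).map (NN G δ P).subtype ≤ Φ.range := by
    rintro _ ⟨s, hs, rfl⟩
    obtain ⟨g, hgN, hg⟩ := (mem_NN G δ P _).1 s.2
    have hgK : g ∈ (fixingSubgroup G (Set.range δ)) := by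
      rw [mem_fixingSubgroup_iff]
      rintro _ ⟨i, rfl⟩
      have h1 := hg (δF G δ P i)
      have h2 : s • (δF G δ P) = δF G δ P := hs
      have h3 : (s : Equiv.Perm ↥(FF G δ P)) (δF G δ P i) = δF G δ P i :=
        congrArg (fun f : Fin t ↪ ↥(FF G δ P) => f i) h2
      rw [h3] at h1
      exact h1
    refine ⟨⟨g, hgN, hgK⟩, ?_⟩
    ext z
    exact hg z
  have h1 : Nat.card (stabilizer (NN G δ P) (δF G δ P)) ∣ Nat.card Φ.range := by
    have := Subgroup.card_dvd_of_le hrange
    rwa [Subgroup.card_map_of_injective (Subgroup.subtype_injective _)] at this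
  have h2 : Nat.card Φ.range ∣ P'.relIndex M := by
    rw [← Subgroup.index_ker]
    exact Subgroup.index_dvd_of_le hker
  have h3 : P'.relIndex M ∣ P'.relIndex (fixingSubgroup G (Set.range δ)) :=
    Dvd.intro _ (Subgroup.relIndex_mul_relIndex P' M (fixingSubgroup G (Set.range δ)) hP'M hMK)
  have h4 : P'.relIndex (fixingSubgroup G (Set.range δ)) = (P : Subgroup (fixingSubgroup G (Set.range δ))).index := by
    rw [Subgroup.relIndex, hP']
    congr 1
    exact Subgroup.comap_map_eq_self_of_injective (Subgroup.subtype_injective _) _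
  have h5 : ¬ 2 ∣ (P : Subgroup (fixingSubgroup G (Set.range δ))).index := Sylow.not_dvd_index P
  have h6 : Odd (P'.relIndex (fixingSubgroup G (Set.range δ))) := by
    rw [h4, ← Nat.not_even_iff_odd, even_iff_two_dvd]; exact h5
  exact Odd.of_dvd_nat h6 (h1.trans (h2.trans h3))

theorem NN_stabilizer_odd [IsMultiplyPretransitive G α t] (e : Fin t ↪ ↥(FF G δ P)) :
    Odd (Nat.card (stabilizer (NN G δ P) e)) := by
  haveI := NN_isMultiplyPretransitive G δ P
  have := card_stabilizer_eq_gen (G := ↥(NN G δ P)) (δF G δ P) e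
  have h2 := NN_stabilizer_odd_aux G δ P
  exact this ▸ h2

/-- `t + 4 ≤ |F|`: then `|F| = t + 7`, `t ≤ 5` and the induced group is sharply `t`-transitive -/
theorem struct_large (ht : 4 ≤ t) [IsMultiplyPretransitive G α t]
    (h4 : t + 4 ≤ (FF G δ P).card) :
    (FF G δ P).card = t + 7 ∧ t ≤ 5 ∧ IsMultiplyPretransitive (NN G δ P) ↥(FF G δ P) t ∧
      ∀ e : Fin t ↪ ↥(FF G δ P), stabilizer (NN G δ P) e = ⊥ := by
  classical
  haveI htr := NN_isMultiplyPretransitive G δ P
  have hodd := NN_stabilizer_odd G δ P (δF G δ P)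
  obtain ⟨hc, hs⟩ := hall_t t ht ↥(NN G δ P) ↥(FF G δ P) (δF G δ P) hodd
    (by rw [Fintype.card_coe]; exact h4)
  rw [Fintype.card_coe] at hc
  refine ⟨hc, ?_, htr, hs⟩
  by_contra hcon
  have h6 : 6 ≤ t := by omega
  have := jordan_large t h6 ↥(NN G δ P) ↥(FF G δ P) (by rw [Fintype.card_coe]; omega) hs
  rw [Fintype.card_coe] at this
  omega

/-- `t + 1 ≤ |F| ≤ t + 3`: the induced group contains the alternating group -/
theorem struct_small (ht : 4 ≤ t) [IsMultiplyPretransitive G α t]
    (h1 : t + 1 ≤ (FF G δ P).card) (h3 : (FF G δ P).card ≤ t + 3) :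
    alternatingGroup ↥(FF G δ P) ≤ NN G δ P := by
  classical
  haveI htr := NN_isMultiplyPretransitive G δ P
  have hcF : Nat.card ↥(FF G δ P) = (FF G δ P).card := by
    rw [Nat.card_eq_fintype_card, Fintype.card_coe]
  by_cases h2 : (FF G δ P).card ≤ t + 2
  · apply IsMultiplyPretransitive.alternatingGroup_le
    exact isMultiplyPretransitive_of_le (n := t) (by rw [hcF]; omega) (by rw [hcF]; omega)
  · have hc : (FF G δ P).card = t + 3 := by omega
    have hcf : Fintype.card ↥(FF G δ P) = t + 3 := by rw [Fintype.card_coe, hc]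
    set e := δF G δ P with he
    have hcard : Fintype.card ↥(FF G δ P) = t + 3 := hcf
    obtain ⟨s, hX, hodd, hs1⟩ : ∃ s : ℕ, Nat.card ↥(NN G δ P) = (t + 3).descFactorial t * s ∧ Odd s ∧
        (s = 1 → ∀ e' : Fin t ↪ ↥(FF G δ P), stabilizer ↥(NN G δ P) e' = ⊥) := by
      refine ⟨Nat.card ↥(stabilizer ↥(NN G δ P) e), ?_, NN_stabilizer_odd G δ P e, ?_⟩
      · have := card_eq_descFactorial_mul_gen (G := ↥(NN G δ P)) e
        rw [hcf] at this
        exact this
      · intro hS1 e'
        have := card_stabilizer_eq_gen (G := ↥(NN G δ P)) e e'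
        exact Subgroup.card_eq_one.1 (this.trans hS1)
    set D := (t + 3).descFactorial t with hD
    have hDpos : 0 < D := by
      apply Nat.pos_of_ne_zero
      rw [hD, Ne, Nat.descFactorial_eq_zero_iff_lt]
      omega
    have hfac : 6 * D = (t + 3).factorial := by
      have := Nat.factorial_mul_descFactorial (n := t + 3) (k := t) (by omega)
      rw [show t + 3 - t = 3 by omega] at this
      rw [hD, ← this]; rfl
    have hperm : Nat.card (Equiv.Perm ↥(FF G δ P)) = (t + 3).factorial := by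
      rw [Nat.card_eq_fintype_card, Fintype.card_perm, hcf]
    have hdvd : Nat.card ↥(NN G δ P) ∣ (t + 3).factorial := by
      rw [← hperm]; exact Subgroup.card_subgroup_dvd_card _
    rw [hX, ← hfac, mul_comm] at hdvd
    have hS6 : s ∣ 6 := (Nat.mul_dvd_mul_iff_right hDpos).1 hdvd
    have hSle : s ≤ 6 := Nat.le_of_dvd (by norm_num) hS6
    have hS13 : s = 1 ∨ s = 3 := by
      revert hodd hS6
      clear hX hs1 hdvd
      interval_cases s <;> intro hodd hS6 <;>
        first | omega | (exfalso; revert hodd; decide) | (exfalso; revert hS6; decide)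
    rcases hS13 with hS1 | hS3
    · -- sharp: excluded by Jordan
      exfalso
      have hsharp := hs1 hS1
      rcases (by omega : t = 4 ∨ t = 5 ∨ 6 ≤ t) with h | h | h6
      · subst h
        have := jordan_four (G := ↥(NN G δ P)) (α := ↥(FF G δ P)) (by rw [hcf]; omega) hsharp
        rw [hcf] at this
        omega
      · subst h
        have := jordan_five (G := ↥(NN G δ P)) (α := ↥(FF G δ P)) (by rw [hcf]; omega) hsharp
        rw [hcf] at this
        omega
      · have := jordan_large t h6 ↥(NN G δ P) ↥(FF G δ P) (by rw [hcf]; omega) hsharp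
        rw [hcf] at this
        omega
    · -- index 2
      apply Equiv.Perm.alternatingGroup_le_of_index_le_two
      have h5 := Subgroup.card_mul_index (NN G δ P)
      rw [hperm, hX, hS3, ← hfac] at h5
      have h6 : (NN G δ P).index = 2 := by
        have : D * (3 * (NN G δ P).index) = D * 6 := by linarith
        have := Nat.eq_of_mul_eq_mul_left hDpos this
        omega
      omega

end struct

end Cfsg.Agent.Lib.Helper4.LWB
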