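import Mathlib
import Cfsg.Agent.Lib.Helper4.LWB_Defs
import Cfsg.Agent.Lib.Helper1.LW.W

/-!
# Livingstone–Wagner (b), Package G, part 0: auxiliary lemmas for `main_747`

See `notes/S0747_S0748_PROOF_helper4.md`, section 4.
-/

set_option autoImplicit false
set_option linter.unusedVariables false
set_option linter.unusedSectionVars false
set_option linter.style.haveILetI false

namespace Cfsg.Agent.Lib.Helper4.LWB

open MulAction Cfsg.Agent.Lib.Helper2.AltGen

variable {α : Type*} [Fintype α] [DecidableEq α]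


/-- conjugate subsets have fixing subgroups of the same order -/
theorem card_fx_of_map (G : Subgroup (Equiv.Perm α)) (g : G) (s s' : Finset α)
    (hg : ∀ x, x ∈ s ↔ (g : Equiv.Perm α) x ∈ s') :
    Nat.card (fx G s) = Nat.card (fx G s') := by
  have hmem : ∀ (t : Set α) (u : G), u ∈ fixingSubgroup G t ↔ ∀ y ∈ t, u • y = y :=
    fun t u => mem_fixingSubgroup_iff G
  refine Nat.card_congr
    { toFun := fun u => ⟨g * u.1 * g⁻¹, ?_⟩
      invFun := fun u => ⟨g⁻¹ * u.1 * g, ?_⟩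
      left_inv := fun u => by apply Subtype.ext; simp [mul_assoc]
      right_inv := fun u => by apply Subtype.ext; simp [mul_assoc] }
  · rw [hmem]
    intro y hy
    have hy' : y ∈ s' := hy
    have h1 : (g⁻¹ : G) • y ∈ s := by
      rw [hg]
      have : (g : Equiv.Perm α) ((g⁻¹ : G) • y) = y := by
        change (g : Equiv.Perm α) ((g : Equiv.Perm α)⁻¹ y) = y
        simp
      rw [this]; exact hy'
    have h2 : u.1 • ((g⁻¹ : G) • y) = (g⁻¹ : G) • y := (hmem _ _).1 u.2 _ h1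
    rw [mul_smul, mul_smul, h2, smul_inv_smul]
  · rw [hmem]
    intro y hy
    have hy' : y ∈ s := hy
    have h1 : (g : G) • y ∈ s' := (hg y).1 hy'
    have h2 : u.1 • ((g : G) • y) = (g : G) • y := (hmem _ _).1 u.2 _ h1
    rw [mul_smul, mul_smul, h2, inv_smul_smul]

/-- in a `k`-transitive group all `k`-sets have pointwise stabilisers of the same order -/
theorem card_fx_eq_of_trans (G : Subgroup (Equiv.Perm α)) {k : ℕ}
    (hG : IsMultiplyPretransitive G α k) (s s' : Finset α) (hs : s.card = k) (hs' : s'.card = k) :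
    Nat.card (fx G s) = Nat.card (fx G s') := by
  have hh := Set.powersetCard.isPretransitive_of_isMultiplyPretransitive (G := G) (α := α) hG
  obtain ⟨g, hg, hgm⟩ := Cfsg.Agent.Lib.Helper1.LW.exists_map_of_homog G hh s s' hs hs'
  exact card_fx_of_map G ⟨g, hg⟩ s s' hgm

theorem v2_fx_le_of_subset (G : Subgroup (Equiv.Perm α)) {s s' : Finset α} (h : s ⊆ s') :
    v2 (Nat.card (fx G s')) ≤ v2 (Nat.card (fx G s)) := by
  have hle : fx G s' ≤ fx G s := by
    intro g hg
    rw [mem_fixingSubgroup_iff] at hg ⊢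
    exact fun y hy => hg y (Finset.mem_coe.2 (h (Finset.mem_coe.1 hy)))
  have hdvd := Subgroup.card_dvd_of_le hle
  exact (Nat.factorization_le_iff_dvd Nat.card_pos.ne' Nat.card_pos.ne').2 hdvd 2



/-- a Sylow 2-subgroup of the stabiliser of `Γ` fixing the further point `ω` -/
theorem exists_sylow_fixing (G : Subgroup (Equiv.Perm α)) {k : ℕ} (Γ : Finset α) (ω : α)
    (δ : Fin k ↪ α) (hδ : Set.range δ = (Γ : Set α))
    (hv : v2 (Nat.card (fx G (insert ω Γ))) = v2 (Nat.card (fx G Γ))) :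
    ∃ P : Sylow 2 (fixingSubgroup G (Set.range δ)), ω ∈ FF G δ P := by
  have : Fact (Nat.Prime 2) := ⟨Nat.prime_two⟩
  set K : Subgroup G := fixingSubgroup G (Set.range δ) with hK
  have hKc : Nat.card K = Nat.card (fx G Γ) := by rw [hK, hδ]
  set W : Subgroup K := stabilizer K ω with hW
  have hWmap : W.map K.subtype = fx G (insert ω Γ) := by
    ext g
    constructor
    · rintro ⟨w, hw, rfl⟩
      rw [mem_fixingSubgroup_iff]
      intro y hy
      rw [Finset.coe_insert, Set.mem_insert_iff] at hy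
      rcases hy with rfl | hy
      · exact hw
      · have h5 : (w : G) ∈ fixingSubgroup G (Set.range δ) := w.2
        rw [mem_fixingSubgroup_iff] at h5
        exact h5 y (by rw [hδ]; exact hy)
    · intro hg
      rw [mem_fixingSubgroup_iff] at hg
      have hgK : g ∈ K := by
        rw [hK, mem_fixingSubgroup_iff]
        intro y hy
        rw [hδ] at hy
        exact hg y (by rw [Finset.coe_insert]; exact Set.mem_insert_of_mem _ hy)
      refine ⟨⟨g, hgK⟩, ?_, rfl⟩
      exact hg ω (by rw [Finset.coe_insert]; exact Set.mem_insert _ _)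
  have hWc : Nat.card W = Nat.card (fx G (insert ω Γ)) := by
    rw [← hWmap, Subgroup.card_map_of_injective K.subtype_injective]
  set κ := v2 (Nat.card K) with hκ
  have hdvd : 2 ^ κ ∣ Nat.card W := by
    have : κ = (Nat.card W).factorization 2 := by
      rw [hκ, hKc, hWc]; exact hv.symm
    rw [this]; exact Nat.ordProj_dvd _ _
  obtain ⟨Q₀, hQ₀⟩ := Sylow.exists_subgroup_card_pow_prime (G := ↥W) 2 hdvd
  set Q : Subgroup K := Q₀.map W.subtype with hQ
  have hQc : Nat.card Q = 2 ^ (Nat.card K).factorization 2 := by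
    rw [hQ, Subgroup.card_map_of_injective W.subtype_injective, hQ₀]; rfl
  refine ⟨Sylow.ofCard Q hQc, ?_⟩
  rw [mem_FF]
  intro h hh
  obtain ⟨hK', hP⟩ := (mem_wittP δ _ h).1 hh
  have hQ' : (⟨h, hK'⟩ : K) ∈ Q := hP
  obtain ⟨q, -, hq⟩ := hQ'
  have h2 : (q : K) • ω = ω := q.2
  have h3 : (q : K) = ⟨h, hK'⟩ := hq
  rw [h3] at h2
  exact h2



section struct

variable (G : Subgroup (Equiv.Perm α)) {t : ℕ} (δ : Fin t ↪ α)
  (P : Sylow 2 (fixingSubgroup G (Set.range δ)))

/-- if `Alt(FF) ≤ NN`, every subset of `FF` carries `Alt` -/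
theorem altInduced_of_alt_le (Θ : Finset α) (hsub : Θ ⊆ FF G δ P)
    (hA : alternatingGroup ↥(FF G δ P) ≤ NN G δ P) : AltInduced G Θ := by
  classical
  intro σ hσ
  let p : ↥(FF G δ P) → Prop := fun z => (z : α) ∈ Θ
  let f : ↥Θ ≃ Subtype p :=
    { toFun := fun x => ⟨⟨x.1, hsub x.2⟩, x.2⟩
      invFun := fun z => ⟨z.1.1, z.2⟩
      left_inv := fun x => rfl
      right_inv := fun z => rfl }
  have hs : Equiv.Perm.sign (σ.extendDomain f) = 1 := by
    rw [Equiv.Perm.sign_extendDomain]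
    exact Equiv.Perm.mem_alternatingGroup.1 hσ
  have hmem : σ.extendDomain f ∈ NN G δ P := hA (Equiv.Perm.mem_alternatingGroup.2 hs)
  obtain ⟨g, -, hg⟩ := (mem_NN G δ P _).1 hmem
  refine ⟨(g : Equiv.Perm α), g.2, fun x => ?_⟩
  have h1 := hg ⟨x.1, hsub x.2⟩
  have h2 : σ.extendDomain f ((f x : Subtype p) : ↥(FF G δ P)) = ((f (σ x) : Subtype p) : ↥(FF G δ P)) :=
    Equiv.Perm.extendDomain_apply_image σ f x
  have h3 : ((f x : Subtype p) : ↥(FF G δ P)) = ⟨x.1, hsub x.2⟩ := rfl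
  rw [h3] at h2
  rw [h2] at h1
  exact h1

/-- `Alt` induced by `NN` on a subset of `FF` is induced by `G` -/
theorem altInduced_of_NN (Δ' : Finset ↥(FF G δ P)) (h : AltInduced (NN G δ P) Δ')
    (Δ : Finset α) (hΔ : Δ = Δ'.map (Function.Embedding.subtype _)) :
    AltInduced G Δ := by
  classical
  intro σ hσ
  have hφ : ∀ x : ↥Δ', ((x : ↥(FF G δ P)) : α) ∈ Δ := fun x => by
    rw [hΔ]; exact Finset.mem_map_of_mem _ x.2
  let φ₀ : ↥Δ' → ↥Δ := fun x => ⟨((x : ↥(FF G δ P)) : α), hφ x⟩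
  have hbij : Function.Bijective φ₀ := by
    constructor
    · intro x y hxy
      have : ((x : ↥(FF G δ P)) : α) = ((y : ↥(FF G δ P)) : α) :=
        congrArg (fun z : ↥Δ => (z : α)) hxy
      exact Subtype.ext (Subtype.ext this)
    · intro y
      have hy2 : (y : α) ∈ Δ'.map (Function.Embedding.subtype _) := hΔ ▸ y.2
      obtain ⟨a, ha, hay⟩ := Finset.mem_map.1 hy2
      exact ⟨⟨a, ha⟩, Subtype.ext hay⟩
  let φ : ↥Δ' ≃ ↥Δ := Equiv.ofBijective φ₀ hbij
  have hφv : ∀ x : ↥Δ', ((φ x : ↥Δ) : α) = ((x : ↥(FF G δ P)) : α) := fun x => rfl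
  set σ' : Equiv.Perm ↥Δ' := φ.symm.permCongr σ with hσ'
  have hs : σ' ∈ alternatingGroup ↥Δ' := by
    rw [Equiv.Perm.mem_alternatingGroup, hσ', Equiv.Perm.sign_permCongr]
    exact Equiv.Perm.mem_alternatingGroup.1 hσ
  obtain ⟨ν, hν, hνx⟩ := h σ' hs
  obtain ⟨g, -, hg⟩ := (mem_NN G δ P _).1 hν
  refine ⟨(g : Equiv.Perm α), g.2, fun y => ?_⟩
  obtain ⟨x, rfl⟩ := φ.surjective y
  have h1 := hg (x : ↥(FF G δ P))
  have h2 := hνx x
  have h3 : σ' x = φ.symm (σ (φ x)) := by
    rw [hσ', Equiv.permCongr_apply]; simp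
  rw [hφv, h1, h2, h3, ← hφv, Equiv.apply_symm_apply]

end struct

end Cfsg.Agent.Lib.Helper4.LWB
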