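import Mathlib
import Cfsg.Agent.Lib.Helper4.LWB_G0
import Cfsg.Agent.Lib.Helper4.LWB_E
import Cfsg.Agent.Lib.Helper8.LWB_C
import Cfsg.Agent.Lib.Helper3.LWB_F
import Cfsg.Agent.Lib.Helper7.LWB_B

/-!
# Livingstone–Wagner (b), Package G: `main_747`

See `notes/S0747_S0748_PROOF_helper4.md`, section 4.
-/

set_option autoImplicit false
set_option linter.unusedVariables false
set_option linter.unusedSectionVars false
set_option linter.style.haveILetI false

namespace Cfsg.Agent.Lib.Helper4.LWB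

open MulAction Cfsg.Agent.Lib.Helper2.AltGen

variable {α : Type*} [Fintype α] [DecidableEq α]

theorem main_747 (G : Subgroup (Equiv.Perm α)) {k : ℕ} (hk : 4 ≤ k) (hkn : k < Fintype.card α)
    (hG : IsMultiplyPretransitive G α k) : ∃ Δ : Finset α, Δ.card = k + 1 ∧ AltInduced G Δ := by
  classical
  haveI := hG
  -- a (k+1)-set with maximal 2-part of the pointwise stabiliser
  have hne : (Finset.powersetCard (k + 1) (Finset.univ : Finset α)).Nonempty := by
    rw [Finset.powersetCard_nonempty, Finset.card_univ]; omega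
  obtain ⟨Θ, hΘmem, hΘmax⟩ :=
    Finset.exists_max_image _ (fun Θ : Finset α => v2 (Nat.card (fx G Θ))) hne
  have hΘc : Θ.card = k + 1 := (Finset.mem_powersetCard.1 hΘmem).2
  have hmax : ∀ Θ' : Finset α, Θ'.card = Θ.card →
      v2 (Nat.card (fx G Θ')) ≤ v2 (Nat.card (fx G Θ)) := by
    intro Θ' h'
    exact hΘmax Θ' (Finset.mem_powersetCard.2 ⟨Finset.subset_univ _, by rw [h', hΘc]⟩)
  obtain ⟨ω, hω⟩ : Θ.Nonempty := by rw [← Finset.card_pos]; omega
  set Γ := Θ.erase ω with hΓ
  have hΓc : Γ.card = k := by rw [hΓ, Finset.card_erase_of_mem hω, hΘc]; rfl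
  have hins : insert ω Γ = Θ := Finset.insert_erase hω
  have hκ : ∀ x ∈ Θ, v2 (Nat.card (fx G (Θ.erase x))) = v2 (Nat.card (fx G Γ)) := by
    intro x hx
    rw [card_fx_eq_of_trans G hG (Θ.erase x) Γ
      (by rw [Finset.card_erase_of_mem hx, hΘc]; rfl) hΓc]
  have hle : v2 (Nat.card (fx G Θ)) ≤ v2 (Nat.card (fx G Γ)) :=
    v2_fx_le_of_subset G (Finset.erase_subset _ _)
  rcases hle.lt_or_eq with hlt | heq
  · -- Case I
    have hsw : Swappable G Θ :=
      swappable_of_v2 G Θ (fun x hx => by rw [hκ x hx]; exact hlt) hmax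
    exact ⟨Θ, hΘc, fun σ _ => induced_of_swappable G hsw σ⟩
  · -- Case II
    have hcardΓ : Fintype.card ↥Γ = k := by rw [Fintype.card_coe, hΓc]
    let eΓ : Fin k ≃ ↥Γ := (Fintype.equivFinOfCardEq hcardΓ).symm
    let δ : Fin k ↪ α := eΓ.toEmbedding.trans (Function.Embedding.subtype _)
    have hδ : Set.range δ = (Γ : Set α) := by
      ext y
      constructor
      · rintro ⟨i, rfl⟩
        exact (eΓ i).2
      · intro hy
        exact ⟨eΓ.symm ⟨y, hy⟩, by simp [δ]⟩
    obtain ⟨P, hP⟩ := exists_sylow_fixing G Γ ω δ hδ (by rw [hins]; exact heq)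
    have hsub : Θ ⊆ FF G δ P := by
      intro y hy
      rw [← hins, Finset.mem_insert] at hy
      rcases hy with rfl | hy
      · exact hP
      · have : y ∈ Set.range δ := by rw [hδ]; exact hy
        obtain ⟨i, rfl⟩ := this
        exact range_subset_FF G δ P i
    have hFc : k + 1 ≤ (FF G δ P).card := by
      rw [← hΘc]; exact Finset.card_le_card hsub
    by_cases h3 : (FF G δ P).card ≤ k + 3
    · exact ⟨Θ, hΘc, altInduced_of_alt_le G δ P Θ hsub (struct_small G δ P hk hFc h3)⟩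
    · obtain ⟨hc7, hk5, htr, hsharp⟩ := struct_large G δ P hk (by omega)
      haveI := htr
      obtain ⟨Δ', hΔ'c, hΔ'⟩ := Cfsg.Agent.Lib.Helper3.LWBF.sharp_alt (NN G δ P) k (by omega) hsharp
        (by rw [Fintype.card_coe, hc7])
      exact ⟨Δ'.map (Function.Embedding.subtype _), by rw [Finset.card_map, hΔ'c],
        altInduced_of_NN G δ P Δ' hΔ' _ rfl⟩

end Cfsg.Agent.Lib.Helper4.LWB
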