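import Mathlib
import Cfsg.Prelude.Def_Classical

/-! Polar bilinear forms of the three standard quadratic forms, with nondegeneracy
(package P3 for S2264/S2265). -/

namespace Cfsg.Agent.Lib.MeoPolar

/-- the polar form of `quadFormPlus`. -/
noncomputable def plusB {F : Type*} [Field F] (m : ℕ) :
    LinearMap.BilinForm F (Fin m ⊕ Fin m → F) :=
  LinearMap.mk₂ F
    (fun u v => ∑ i : Fin m, (u (.inl i) * v (.inr i) + u (.inr i) * v (.inl i)))
    (by intro u u' v; simp only [Pi.add_apply, ← Finset.sum_add_distrib]
        exact Finset.sum_congr rfl (fun i _ => by ring))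
    (by intro c u v; simp only [Pi.smul_apply, smul_eq_mul, Finset.mul_sum]
        exact Finset.sum_congr rfl (fun i _ => by ring))
    (by intro u v v'; simp only [Pi.add_apply, ← Finset.sum_add_distrib]
        exact Finset.sum_congr rfl (fun i _ => by ring))
    (by intro c u v; simp only [Pi.smul_apply, smul_eq_mul, Finset.mul_sum]
        exact Finset.sum_congr rfl (fun i _ => by ring))

theorem plusB_apply {F : Type*} [Field F] (m : ℕ) (u v : Fin m ⊕ Fin m → F) :
    plusB m u v = ∑ i : Fin m, (u (.inl i) * v (.inr i) + u (.inr i) * v (.inl i)) := rfl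

theorem polar_plus {F : Type*} [Field F] (m : ℕ) :
    ∃ B : LinearMap.BilinForm F (Fin m ⊕ Fin m → F),
      (∀ u v, B u v = Cfsg.quadFormPlus m F (u + v) - Cfsg.quadFormPlus m F u - Cfsg.quadFormPlus m F v) ∧
      (∀ u, (∀ v, B u v = 0) → u = 0) := by
  classical
  refine ⟨plusB m, ?_, ?_⟩
  · intro u v
    rw [plusB_apply]
    unfold Cfsg.quadFormPlus
    simp only [Pi.add_apply, ← Finset.sum_sub_distrib]
    exact Finset.sum_congr rfl (fun i _ => by ring)
  · intro u hu
    funext k
    rcases k with i | i
    · have h := hu (Pi.single (Sum.inr i) 1)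
      rw [plusB_apply] at h
      simpa [Pi.single_apply, Finset.sum_ite_eq'] using h
    · have h := hu (Pi.single (Sum.inl i) 1)
      rw [plusB_apply] at h
      simpa [Pi.single_apply, Finset.sum_ite_eq'] using h


/-- the polar form of `quadFormOdd`. -/
noncomputable def oddB {F : Type*} [Field F] (m : ℕ) :
    LinearMap.BilinForm F (Unit ⊕ (Fin m ⊕ Fin m) → F) :=
  LinearMap.mk₂ F
    (fun u v => 2 * u (.inl ()) * v (.inl ()) +
      ∑ i : Fin m, (u (.inr (.inl i)) * v (.inr (.inr i)) + u (.inr (.inr i)) * v (.inr (.inl i))))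
    (by intro u u' v; simp only [Pi.add_apply]
        rw [show ∀ a b c d : F, a + b + (c + d) = (a + c) + (b + d) from fun a b c d => by ring,
          ← Finset.sum_add_distrib]
        congr 1
        · ring
        · exact Finset.sum_congr rfl (fun i _ => by ring))
    (by intro c u v; simp only [Pi.smul_apply, smul_eq_mul, mul_add, Finset.mul_sum]
        congr 1
        · ring
        · exact Finset.sum_congr rfl (fun i _ => by ring))
    (by intro u v v'; simp only [Pi.add_apply]
        rw [show ∀ a b c d : F, a + b + (c + d) = (a + c) + (b + d) from fun a b c d => by ring,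
          ← Finset.sum_add_distrib]
        congr 1
        · ring
        · exact Finset.sum_congr rfl (fun i _ => by ring))
    (by intro c u v; simp only [Pi.smul_apply, smul_eq_mul, mul_add, Finset.mul_sum]
        congr 1
        · ring
        · exact Finset.sum_congr rfl (fun i _ => by ring))

theorem oddB_apply {F : Type*} [Field F] (m : ℕ) (u v : Unit ⊕ (Fin m ⊕ Fin m) → F) :
    oddB m u v = 2 * u (.inl ()) * v (.inl ()) +
      ∑ i : Fin m, (u (.inr (.inl i)) * v (.inr (.inr i)) + u (.inr (.inr i)) * v (.inr (.inl i))) :=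
  rfl

theorem polar_odd {F : Type*} [Field F] (m : ℕ) (h2 : (2 : F) ≠ 0) :
    ∃ B : LinearMap.BilinForm F (Unit ⊕ (Fin m ⊕ Fin m) → F),
      (∀ u v, B u v = Cfsg.quadFormOdd m F (u + v) - Cfsg.quadFormOdd m F u - Cfsg.quadFormOdd m F v) ∧
      (∀ u, (∀ v, B u v = 0) → u = 0) := by
  classical
  refine ⟨oddB m, ?_, ?_⟩
  · intro u v
    rw [oddB_apply]
    unfold Cfsg.quadFormOdd
    simp only [Pi.add_apply]
    rw [show ∀ a b c d e f : F, a + b - (c + d) - (e + f) = (a - c - e) + (b - d - f) from
      fun a b c d e f => by ring, ← Finset.sum_sub_distrib, ← Finset.sum_sub_distrib]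
    congr 1
    · ring
    · exact Finset.sum_congr rfl (fun i _ => by ring)
  · intro u hu
    funext k
    rcases k with i | i | i
    · have h := hu (Pi.single (Sum.inl ()) 1)
      rw [oddB_apply] at h
      have h' : 2 * u (Sum.inl ()) = 0 := by
        simpa [Pi.single_apply] using h
      rcases mul_eq_zero.mp h' with h0 | h0
      · exact absurd h0 h2
      · simpa using h0
    · have h := hu (Pi.single (Sum.inr (Sum.inr i)) 1)
      rw [oddB_apply] at h
      simpa [Pi.single_apply, Finset.sum_ite_eq'] using h
    · have h := hu (Pi.single (Sum.inr (Sum.inl i)) 1)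
      rw [oddB_apply] at h
      simpa [Pi.single_apply, Finset.sum_ite_eq'] using h


/-- the polar form of `quadFormMinus`. -/
noncomputable def minusB {F : Type*} [Field F] (m : ℕ) (a b : F) :
    LinearMap.BilinForm F ((Fin m ⊕ Fin m) ⊕ Fin 2 → F) :=
  LinearMap.mk₂ F
    (fun u v => (2 * u (.inr 0) * v (.inr 0) + a * (u (.inr 0) * v (.inr 1) + u (.inr 1) * v (.inr 0))
        + 2 * b * u (.inr 1) * v (.inr 1)) +
      ∑ i : Fin m, (u (.inl (.inl i)) * v (.inl (.inr i)) + u (.inl (.inr i)) * v (.inl (.inl i))))
    (by intro u u' v; simp only [Pi.add_apply]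
        rw [show ∀ a b c d : F, a + b + (c + d) = (a + c) + (b + d) from fun a b c d => by ring,
          ← Finset.sum_add_distrib]
        congr 1
        · ring
        · exact Finset.sum_congr rfl (fun i _ => by ring))
    (by intro c u v; simp only [Pi.smul_apply, smul_eq_mul]
        rw [mul_add c, Finset.mul_sum]
        congr 1
        · ring
        · exact Finset.sum_congr rfl (fun i _ => by ring))
    (by intro u v v'; simp only [Pi.add_apply]
        rw [show ∀ a b c d : F, a + b + (c + d) = (a + c) + (b + d) from fun a b c d => by ring,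
          ← Finset.sum_add_distrib]
        congr 1
        · ring
        · exact Finset.sum_congr rfl (fun i _ => by ring))
    (by intro c u v; simp only [Pi.smul_apply, smul_eq_mul]
        rw [mul_add c, Finset.mul_sum]
        congr 1
        · ring
        · exact Finset.sum_congr rfl (fun i _ => by ring))

theorem minusB_apply {F : Type*} [Field F] (m : ℕ) (a b : F)
    (u v : (Fin m ⊕ Fin m) ⊕ Fin 2 → F) :
    minusB m a b u v =
      (2 * u (.inr 0) * v (.inr 0) + a * (u (.inr 0) * v (.inr 1) + u (.inr 1) * v (.inr 0))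
        + 2 * b * u (.inr 1) * v (.inr 1)) +
      ∑ i : Fin m, (u (.inl (.inl i)) * v (.inl (.inr i)) + u (.inl (.inr i)) * v (.inl (.inl i))) :=
  rfl

/-- the binary part: an anisotropic binary form over a finite field has nondegenerate polar
form. -/
theorem binary_nondeg {F : Type*} [Field F] [Fintype F] (a b : F)
    (hab : ∀ z₁ z₂ : F, z₁ ^ 2 + a * z₁ * z₂ + b * z₂ ^ 2 = 0 → z₁ = 0 ∧ z₂ = 0)
    (x y : F) (h1 : 2 * x + a * y = 0) (h2 : a * x + 2 * b * y = 0) : x = 0 ∧ y = 0 := by
  by_cases h : (2 : F) = 0
  · by_cases ha : a = 0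
    · exfalso
      have hch : ringChar F = 2 := CharP.ringChar_of_prime_eq_zero Nat.prime_two (by exact_mod_cast h)
      obtain ⟨c, hc⟩ := FiniteField.isSquare_of_char_two hch b
      have := hab c 1 (by rw [ha, hc]; linear_combination (c * c) * h)
      exact one_ne_zero this.2
    · rw [h] at h1 h2
      simp only [zero_mul, zero_add, add_zero] at h1 h2
      exact ⟨(mul_eq_zero.mp h2).resolve_left ha, (mul_eq_zero.mp h1).resolve_left ha⟩
  · apply hab
    have : 2 * (x ^ 2 + a * x * y + b * y ^ 2) = 0 := by linear_combination x * h1 + y * h2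
    exact (mul_eq_zero.mp this).resolve_left h

theorem polar_minus {F : Type*} [Field F] [Fintype F] (m : ℕ) (a b : F)
    (hab : ∀ z₁ z₂ : F, z₁ ^ 2 + a * z₁ * z₂ + b * z₂ ^ 2 = 0 → z₁ = 0 ∧ z₂ = 0) :
    ∃ B : LinearMap.BilinForm F ((Fin m ⊕ Fin m) ⊕ Fin 2 → F),
      (∀ u v, B u v = Cfsg.quadFormMinus m F a b (u + v) - Cfsg.quadFormMinus m F a b u - Cfsg.quadFormMinus m F a b v) ∧
      (∀ u, (∀ v, B u v = 0) → u = 0) := by
  classical
  refine ⟨minusB m a b, ?_, ?_⟩
  · intro u v
    rw [minusB_apply]
    unfold Cfsg.quadFormMinus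
    simp only [Pi.add_apply]
    rw [show ∀ a b c d e f : F, a + b - (c + d) - (e + f) = (b - d - f) + (a - c - e) from
      fun a b c d e f => by ring, ← Finset.sum_sub_distrib, ← Finset.sum_sub_distrib]
    congr 1
    · ring
    · exact Finset.sum_congr rfl (fun i _ => by ring)
  · intro u hu
    have hb : u (Sum.inr 0) = 0 ∧ u (Sum.inr 1) = 0 := by
      apply binary_nondeg a b hab
      · have h := hu (Pi.single (Sum.inr 0) 1)
        rw [minusB_apply] at h
        simpa [Pi.single_apply] using h
      · have h := hu (Pi.single (Sum.inr 1) 1)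
        rw [minusB_apply] at h
        simpa [Pi.single_apply] using h
    funext k
    rcases k with (i | i) | i
    · have h := hu (Pi.single (Sum.inl (Sum.inr i)) 1)
      rw [minusB_apply] at h
      simpa [Pi.single_apply, Finset.sum_ite_eq'] using h
    · have h := hu (Pi.single (Sum.inl (Sum.inl i)) 1)
      rw [minusB_apply] at h
      simpa [Pi.single_apply, Finset.sum_ite_eq'] using h
    · fin_cases i
      · exact hb.1
      · exact hb.2

end Cfsg.Agent.Lib.MeoPolar
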