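import Mathlib
import Cfsg.Agent.Lib.Helper4.MetaTwo2
import Cfsg.Agent.Lib.Lead.ClassTwo
import Cfsg.Agent.Lib.Lead.CyclicP
import Cfsg.Agent.Lib.Helper2.Basic

set_option autoImplicit false

/-! A `2`-group generated by two normal cyclic subgroups of the same order. -/

namespace Cfsg.Agent.Lib.Helper4.MetaTwo

open Cfsg Cfsg.Agent.Lib.Lead
open scoped commutatorElement

variable {X : Type*} [Group X] [Finite X]

theorem exists_pow_of_mem_zpowers {a g : X} (h : g ∈ Subgroup.zpowers a) : ∃ k : ℕ, a ^ k = g :=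
  (Submonoid.mem_powers_iff _ _).mp (mem_powers_iff_mem_zpowers.mpr h)

/-- the intersection of two cyclic subgroups generating `X` is central -/
theorem inf_zpowers_le_center {a b : X}
    (hgen : Subgroup.zpowers a ⊔ Subgroup.zpowers b = ⊤) {g : X}
    (hg : g ∈ Subgroup.zpowers a ⊓ Subgroup.zpowers b) : g ∈ Subgroup.center X := by
  have h1 : Subgroup.zpowers a ⊔ Subgroup.zpowers b ≤ Subgroup.centralizer ({g} : Set X) := by
    apply sup_le
    · rw [Subgroup.zpowers_le]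
      obtain ⟨k, rfl⟩ := Subgroup.mem_zpowers_iff.mp hg.1
      apply Subgroup.mem_centralizer_singleton_iff.mpr
      exact ((Commute.refl a).zpow_right k).eq
    · rw [Subgroup.zpowers_le]
      obtain ⟨k, rfl⟩ := Subgroup.mem_zpowers_iff.mp hg.2
      apply Subgroup.mem_centralizer_singleton_iff.mpr
      exact ((Commute.refl b).zpow_right k).eq
  rw [hgen] at h1
  rw [Subgroup.mem_center_iff]
  intro x
  exact Subgroup.mem_centralizer_singleton_iff.mp (h1 (Subgroup.mem_top x))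

theorem comm_mem_inf {a b : X} (ha : (Subgroup.zpowers a).Normal) (hb : (Subgroup.zpowers b).Normal) :
    ⁅a, b⁆ ∈ Subgroup.zpowers a ⊓ Subgroup.zpowers b := by
  rw [commutatorElement_def]
  constructor
  · have h1 : b * a⁻¹ * b⁻¹ ∈ Subgroup.zpowers a :=
      ha.conj_mem _ (Subgroup.inv_mem _ (Subgroup.mem_zpowers a)) b
    have h2 : a * b * a⁻¹ * b⁻¹ = a * (b * a⁻¹ * b⁻¹) := by group
    rw [h2]
    exact Subgroup.mul_mem _ (Subgroup.mem_zpowers a) h1
  · have h1 : a * b * a⁻¹ ∈ Subgroup.zpowers b := hb.conj_mem _ (Subgroup.mem_zpowers b) a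
    exact Subgroup.mul_mem _ h1 (Subgroup.inv_mem _ (Subgroup.mem_zpowers b))

/-- if the commutator of two generators lies in a normal subgroup then so do all commutators -/
theorem comm_mem_of_gens (D : Subgroup X) [hD : D.Normal] {a b : X}
    (hgen : Subgroup.zpowers a ⊔ Subgroup.zpowers b = ⊤) (hab : ⁅a, b⁆ ∈ D) (x y : X) :
    ⁅x, y⁆ ∈ D := by
  have hcomm : (a : X ⧸ D) * (b : X ⧸ D) = (b : X ⧸ D) * (a : X ⧸ D) := by
    have h1 : ((⁅a, b⁆ : X) : X ⧸ D) = 1 := (QuotientGroup.eq_one_iff _).mpr hab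
    rw [commutatorElement_def] at h1
    simp only [QuotientGroup.mk_mul, QuotientGroup.mk_inv] at h1
    calc (a : X ⧸ D) * (b : X ⧸ D)
        = ((a : X ⧸ D) * (b : X ⧸ D) * (a : X ⧸ D)⁻¹ * (b : X ⧸ D)⁻¹) * ((b : X ⧸ D) * (a : X ⧸ D)) := by
          group
      _ = (b : X ⧸ D) * (a : X ⧸ D) := by rw [h1, one_mul]
  have hcen : ∀ g : X, (∀ h : X, h ∈ Subgroup.zpowers a ∨ h ∈ Subgroup.zpowers b →
      (h : X ⧸ D) * (g : X ⧸ D) = (g : X ⧸ D) * (h : X ⧸ D)) →
      ∀ w : X, (w : X ⧸ D) * (g : X ⧸ D) = (g : X ⧸ D) * (w : X ⧸ D) := by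
    intro g hg w
    have h1 : Subgroup.zpowers a ⊔ Subgroup.zpowers b ≤
        (Subgroup.centralizer ({(g : X ⧸ D)} : Set (X ⧸ D))).comap (QuotientGroup.mk' D) := by
      apply sup_le
      · intro h hh
        rw [Subgroup.mem_comap]
        exact Subgroup.mem_centralizer_singleton_iff.mpr (hg h (Or.inl hh))
      · intro h hh
        rw [Subgroup.mem_comap]
        exact Subgroup.mem_centralizer_singleton_iff.mpr (hg h (Or.inr hh))
    rw [hgen] at h1
    exact Subgroup.mem_centralizer_singleton_iff.mp (Subgroup.mem_comap.mp (h1 (Subgroup.mem_top w)))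
  have hza : ∀ h : X, h ∈ Subgroup.zpowers a ∨ h ∈ Subgroup.zpowers b →
      (h : X ⧸ D) * (a : X ⧸ D) = (a : X ⧸ D) * (h : X ⧸ D) := by
    rintro h (hh | hh)
    · obtain ⟨k, rfl⟩ := Subgroup.mem_zpowers_iff.mp hh
      rw [QuotientGroup.mk_zpow]
      exact ((Commute.refl (a : X ⧸ D)).zpow_left k).eq
    · obtain ⟨k, rfl⟩ := Subgroup.mem_zpowers_iff.mp hh
      rw [QuotientGroup.mk_zpow]
      have hc : Commute (b : X ⧸ D) (a : X ⧸ D) := hcomm.symm
      exact (hc.zpow_left k).eq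
  have hzb : ∀ h : X, h ∈ Subgroup.zpowers a ∨ h ∈ Subgroup.zpowers b →
      (h : X ⧸ D) * (b : X ⧸ D) = (b : X ⧸ D) * (h : X ⧸ D) := by
    rintro h (hh | hh)
    · obtain ⟨k, rfl⟩ := Subgroup.mem_zpowers_iff.mp hh
      rw [QuotientGroup.mk_zpow]
      have hc : Commute (a : X ⧸ D) (b : X ⧸ D) := hcomm
      exact (hc.zpow_left k).eq
    · obtain ⟨k, rfl⟩ := Subgroup.mem_zpowers_iff.mp hh
      rw [QuotientGroup.mk_zpow]
      exact ((Commute.refl (b : X ⧸ D)).zpow_left k).eq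
  have hca := hcen a hza
  have hcb := hcen b hzb
  -- every element is central modulo `D`
  have hall : ∀ g w : X, (w : X ⧸ D) * (g : X ⧸ D) = (g : X ⧸ D) * (w : X ⧸ D) := by
    intro g
    apply hcen g
    rintro h (hh | hh)
    · obtain ⟨k, rfl⟩ := Subgroup.mem_zpowers_iff.mp hh
      rw [QuotientGroup.mk_zpow]
      have hc : Commute (a : X ⧸ D) (g : X ⧸ D) := (hca g).symm
      exact (hc.zpow_left k).eq
    · obtain ⟨k, rfl⟩ := Subgroup.mem_zpowers_iff.mp hh
      rw [QuotientGroup.mk_zpow]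
      have hc : Commute (b : X ⧸ D) (g : X ⧸ D) := (hcb g).symm
      exact (hc.zpow_left k).eq
  have hle := commutator_le_of_quotient_comm D (by
    intro u v
    obtain ⟨u, rfl⟩ := QuotientGroup.mk_surjective u
    obtain ⟨v, rfl⟩ := QuotientGroup.mk_surjective v
    exact hall v u)
  apply hle
  rw [commutator_def]
  exact Subgroup.commutator_mem_commutator (Subgroup.mem_top x) (Subgroup.mem_top y)

/-- in a cyclic group of order `2 ^ (m + e)` the `2 ^ m`-th power of the generator lies in the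
subgroup of order `2 ^ e` -/
theorem pow_mem_of_card {a : X} {D : Subgroup X} (hD : D ≤ Subgroup.zpowers a) {m e : ℕ}
    (hoa : orderOf a = 2 ^ (m + e)) (hcard : Nat.card D = 2 ^ e) : a ^ 2 ^ m ∈ D := by
  have hc : Nat.card (D.subgroupOf (Subgroup.zpowers a)) = 2 ^ e := by
    rw [← hcard]; exact Nat.card_congr (Subgroup.subgroupOfEquivOfLe hD).toEquiv
  have h1 : (⟨a ^ 2 ^ m, Subgroup.pow_mem _ (Subgroup.mem_zpowers a) _⟩ : Subgroup.zpowers a) ∈
      D.subgroupOf (Subgroup.zpowers a) := by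
    rw [mem_iff_pow_card_of_isCyclic, hc]
    apply Subtype.ext
    show (a ^ 2 ^ m) ^ 2 ^ e = 1
    rw [← pow_mul, ← pow_add, ← hoa]
    exact pow_orderOf_eq_one a
  exact Subgroup.mem_subgroupOf.mp h1

theorem orderOf_pow_two {a : X} {m e : ℕ} (hoa : orderOf a = 2 ^ (m + e)) :
    orderOf (a ^ 2 ^ m) = 2 ^ e := by
  rw [orderOf_pow_of_dvd (by positivity) (by rw [hoa, pow_add]; exact Dvd.intro _ rfl), hoa,
    pow_add, Nat.mul_div_cancel_left _ (by positivity)]

/-- `2 * choose (2^m) 2 = 2^m * (2^m - 1)` -/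
theorem two_mul_choose (n : ℕ) : 2 * n.choose 2 = n * (n - 1) := by
  rw [Nat.choose_two_right]
  exact Nat.two_mul_div_two_of_even (Nat.even_mul_pred_self n)

/-- the power formula for `a ^ i * b ^ j` -/
theorem power_formula (hc : ∀ x y : X, ⁅x, y⁆ ∈ Subgroup.center X) (a b : X) (i j m : ℕ) :
    (a ^ i * b ^ j) ^ 2 ^ m =
      (a ^ 2 ^ m) ^ i * (b ^ 2 ^ m) ^ j * ⁅b ^ j, a ^ i⁆ ^ ((2 ^ m).choose 2) := by
  rw [mul_pow_of_class_two hc, ← pow_mul, ← pow_mul, ← pow_mul, ← pow_mul, mul_comm i, mul_comm j]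

/-- the correction term has order at most two -/
theorem correction_sq (hc : ∀ x y : X, ⁅x, y⁆ ∈ Subgroup.center X) (u v : X) (m : ℕ)
    (hv : v ^ 2 ^ m ∈ Subgroup.center X) : (⁅u, v⁆ ^ ((2 ^ m).choose 2)) ^ 2 = 1 := by
  have h1 : ⁅v, u⁆ ^ 2 ^ m = 1 := by
    have hcomm : Commute ⁅v, u⁆ v := (Subgroup.mem_center_iff.mp (hc v u) v).symm
    rw [← commutatorElement_pow_left v u hcomm, commutatorElement_def]
    have := Subgroup.mem_center_iff.mp hv u
    calc v ^ 2 ^ m * u * (v ^ 2 ^ m)⁻¹ * u⁻¹ = (u * v ^ 2 ^ m) * (v ^ 2 ^ m)⁻¹ * u⁻¹ := by rw [this]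
      _ = 1 := by group
  have h2 : ⁅u, v⁆ ^ 2 ^ m = 1 := by
    rw [← commutatorElement_inv v u, inv_pow, h1, inv_one]
  rw [← pow_mul, mul_comm, two_mul_choose, pow_mul, h2, one_pow]

end Cfsg.Agent.Lib.Helper4.MetaTwo
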