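import Mathlib
import Cfsg.Agent.Lib.Helper4.MetaTwo3

set_option autoImplicit false

/-! A `2`-group generated by two normal cyclic subgroups of the same order: the core computation. -/

namespace Cfsg.Agent.Lib.Helper4.MetaTwo

open Cfsg Cfsg.Agent.Lib.Lead
open scoped commutatorElement

variable {X : Type*} [Group X] [Finite X]

theorem eq_one_or_eq_of_mem_zpowers {t g : X} (ht : t ^ 2 = 1) (hg : g ∈ Subgroup.zpowers t) :
    g = 1 ∨ g = t := by
  obtain ⟨k, rfl⟩ := exists_pow_of_mem_zpowers hg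
  rcases Nat.even_or_odd' k with ⟨s, hs | hs⟩
  · left; rw [hs, pow_mul, ht, one_pow]
  · right; rw [hs, pow_add, pow_mul, ht, one_pow, one_mul, pow_one]

theorem pow_odd_of_sq {t : X} (ht : t ^ 2 = 1) {k : ℕ} (hk : Odd k) : t ^ k = t := by
  obtain ⟨s, hs⟩ := hk
  rw [hs, pow_add, pow_mul, ht, one_pow, one_mul, pow_one]

theorem pow_even_of_sq {t : X} (ht : t ^ 2 = 1) {k : ℕ} (hk : Even k) : t ^ k = 1 := by
  obtain ⟨s, hs⟩ := hk
  rw [hs, ← two_mul, pow_mul, ht, one_pow]

theorem orderOf_pow_even_dvd {z : X} {e : ℕ} (he : 1 ≤ e) (hz : z ^ 2 ^ e = 1) {t : ℕ}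
    (ht : Even t) : orderOf (z ^ t) ∣ 2 ^ (e - 1) := by
  apply orderOf_dvd_of_pow_eq_one
  obtain ⟨s, hs⟩ := ht
  have h1 : 2 ^ e = 2 * 2 ^ (e - 1) := by
    rw [← pow_succ']; congr 1; omega
  rw [← pow_mul, hs, ← two_mul, mul_assoc, mul_comm s, ← mul_assoc, ← h1, pow_mul, hz, one_pow]

theorem not_pow_dvd_pred {e : ℕ} (he : 1 ≤ e) : ¬ 2 ^ e ∣ 2 ^ (e - 1) := by
  intro h
  have := (Nat.pow_dvd_pow_iff_le_right (by norm_num : 1 < 2)).mp h
  omega

theorem core (hX : IsPGroup 2 X) {a b : X} (ha : (Subgroup.zpowers a).Normal)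
    (hb : (Subgroup.zpowers b).Normal)
    (hgen : Subgroup.zpowers a ⊔ Subgroup.zpowers b = ⊤) {n : ℕ} (hoa : orderOf a = 2 ^ n)
    (hob : orderOf b = 2 ^ n) {i j : ℕ} (hi : Odd i) (hj : Odd j)
    (hoc : orderOf (a ^ i * b ^ j) = 2 ^ n) :
    (Subgroup.zpowers a ⊓ Subgroup.zpowers b = ⊥) ∨
    (n = 2 ∧ b ^ 2 = a ^ 2 ∧ b * a * b⁻¹ = a⁻¹ ∧ b ∉ Subgroup.zpowers a ∧ Nat.card X = 8) := by
  classical
  have hDn : (Subgroup.zpowers a ⊓ Subgroup.zpowers b).Normal := inferInstance
  have hDcen : ∀ g ∈ Subgroup.zpowers a ⊓ Subgroup.zpowers b, g ∈ Subgroup.center X :=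
    fun g hg => inf_zpowers_le_center hgen hg
  have habD : ⁅a, b⁆ ∈ Subgroup.zpowers a ⊓ Subgroup.zpowers b := comm_mem_inf ha hb
  have hcD : ∀ x y : X, ⁅x, y⁆ ∈ Subgroup.zpowers a ⊓ Subgroup.zpowers b :=
    comm_mem_of_gens _ hgen habD
  have hc : ∀ x y : X, ⁅x, y⁆ ∈ Subgroup.center X := fun x y => hDcen _ (hcD x y)
  have hDa : Subgroup.zpowers a ⊓ Subgroup.zpowers b ≤ Subgroup.zpowers a := inf_le_left
  have hDb : Subgroup.zpowers a ⊓ Subgroup.zpowers b ≤ Subgroup.zpowers b := inf_le_right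
  have hcardA : Nat.card (Subgroup.zpowers a) = 2 ^ n := by rw [Nat.card_zpowers, hoa]
  have hcardB : Nat.card (Subgroup.zpowers b) = 2 ^ n := by rw [Nat.card_zpowers, hob]
  obtain ⟨e, hen, hcardD⟩ : ∃ e ≤ n,
      Nat.card ↥(Subgroup.zpowers a ⊓ Subgroup.zpowers b) = 2 ^ e := by
    have := Subgroup.card_dvd_of_le hDa
    rw [hcardA] at this
    exact (Nat.dvd_prime_pow Nat.prime_two).mp this
  obtain ⟨m, rfl⟩ : ∃ m, n = m + e := ⟨n - e, by omega⟩
  have hzD : a ^ 2 ^ m ∈ Subgroup.zpowers a ⊓ Subgroup.zpowers b := pow_mem_of_card hDa hoa hcardD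
  have hz'D : b ^ 2 ^ m ∈ Subgroup.zpowers a ⊓ Subgroup.zpowers b :=
    pow_mem_of_card hDb hob hcardD
  have hoz : orderOf (a ^ 2 ^ m) = 2 ^ e := orderOf_pow_two hoa
  have hoz' : orderOf (b ^ 2 ^ m) = 2 ^ e := orderOf_pow_two hob
  have hoz'' : orderOf ((a ^ i * b ^ j) ^ 2 ^ m) = 2 ^ e := orderOf_pow_two hoc
  have hform := power_formula hc a b i j m
  obtain ⟨w, hw⟩ : ∃ w : X, w = ⁅b ^ j, a ^ i⁆ ^ ((2 ^ m).choose 2) := ⟨_, rfl⟩
  rw [← hw] at hform
  have hwD : w ∈ Subgroup.zpowers a ⊓ Subgroup.zpowers b := by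
    rw [hw]; exact Subgroup.pow_mem _ (hcD _ _) _
  have hw2 : w ^ 2 = 1 := by
    rw [hw]
    apply correction_sq hc (b ^ j) (a ^ i) m
    rw [← pow_mul, mul_comm, pow_mul]
    exact Subgroup.pow_mem _ (hDcen _ hzD) i
  have hDz : Subgroup.zpowers a ⊓ Subgroup.zpowers b = Subgroup.zpowers (a ^ 2 ^ m) := by
    symm
    apply Subgroup.eq_of_le_of_card_ge (Subgroup.zpowers_le.mpr hzD)
    rw [Nat.card_zpowers, hoz, hcardD]
  have hzpow : (a ^ 2 ^ m) ^ 2 ^ e = 1 := by rw [← hoz]; exact pow_orderOf_eq_one _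
  rcases Nat.lt_or_ge e 2 with he | he
  · interval_cases e
    · left
      exact Subgroup.card_eq_one.mp (by rw [hcardD]; rfl)
    · right
      have hz2 : (a ^ 2 ^ m) ^ 2 = 1 := by simpa using hzpow
      have hz1 : a ^ 2 ^ m ≠ 1 := by
        intro h0; rw [h0, orderOf_one] at hoz; norm_num at hoz
      have hDmem : ∀ g ∈ Subgroup.zpowers a ⊓ Subgroup.zpowers b, g = 1 ∨ g = a ^ 2 ^ m := by
        intro g hg
        rw [hDz] at hg
        exact eq_one_or_eq_of_mem_zpowers hz2 hg
      have hz' : b ^ 2 ^ m = a ^ 2 ^ m := by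
        rcases hDmem _ hz'D with h | h
        · rw [h, orderOf_one] at hoz'; norm_num at hoz'
        · exact h
      have hz''1 : (a ^ i * b ^ j) ^ 2 ^ m ≠ 1 := by
        intro h0; rw [h0, orderOf_one] at hoz''; norm_num at hoz''
      have hww : w = a ^ 2 ^ m := by
        rw [hz', pow_odd_of_sq hz2 hi, pow_odd_of_sq hz2 hj, ← pow_two, hz2, one_mul] at hform
        rcases hDmem _ hwD with h | h
        · exact absurd (hform.trans h) hz''1
        · exact h
      have hg : ⁅b ^ j, a ^ i⁆ = a ^ 2 ^ m := by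
        rcases hDmem _ (hcD (b ^ j) (a ^ i)) with h | h
        · rw [h, one_pow] at hw
          exact absurd (hww.symm.trans hw) hz1
        · exact h
      have hCodd : Odd ((2 ^ m).choose 2) := by
        rw [← Nat.not_even_iff_odd]
        intro hev
        rw [hg, pow_even_of_sq hz2 hev] at hw
        exact hz1 (hww.symm.trans hw)
      have hm1 : m = 1 := by
        have h2 := two_mul_choose (2 ^ m)
        obtain ⟨s, hs⟩ := hCodd
        rcases Nat.lt_or_ge m 2 with hm | hm
        · interval_cases m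
          · exfalso
            have h5 : (2 ^ 0).choose 2 = 0 := by decide
            omega
          · rfl
        · exfalso
          obtain ⟨r, rfl⟩ : ∃ r, m = r + 2 := ⟨m - 2, by omega⟩
          have h3 : 2 ^ (r + 2) = 4 * 2 ^ r := by rw [pow_add]; ring
          rw [hs, h3] at h2
          have h4 : 2 * (2 * s + 1) = 4 * (2 ^ r * (4 * 2 ^ r - 1)) := by rw [h2]; ring
          generalize 2 ^ r * (4 * 2 ^ r - 1) = T at h4
          omega
      subst hm1
      simp only [pow_one] at hz2 hz1 hz' hg hDmem hzD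
      have ha4 : a ^ 4 = 1 := by
        have : (a ^ 2) ^ 2 = 1 := hz2
        rw [← pow_mul] at this; exact this
      have hba : ⁅b, a⁆ = a ^ 2 := by
        rcases hDmem _ (hcD b a) with h | h
        · exfalso
          have hcomm : Commute b a := by
            rw [commutatorElement_def] at h
            have : b * a = (b * a * b⁻¹ * a⁻¹) * (a * b) := by group
            rw [h, one_mul] at this
            exact this
          have h5 : ⁅b ^ j, a ^ i⁆ = 1 := by
            rw [commutatorElement_def]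
            have := (hcomm.pow_pow j i).eq
            rw [this]; group
          rw [h5] at hg
          exact hz1 hg.symm
        · exact h
      refine ⟨rfl, hz', ?_, ?_, ?_⟩
      · rw [commutatorElement_def] at hba
        calc b * a * b⁻¹ = (b * a * b⁻¹ * a⁻¹) * a := by group
          _ = a ^ 2 * a := by rw [hba]
          _ = a ^ 4 * a⁻¹ := by group
          _ = a⁻¹ := by rw [ha4, one_mul]
      · intro hmem
        obtain ⟨k, hk⟩ := Subgroup.mem_zpowers_iff.mp hmem
        have hcomm : Commute b a := by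
          rw [← hk]; exact ((Commute.refl a).zpow_left k)
        have h5 : ⁅b, a⁆ = 1 := by
          rw [commutatorElement_def, hcomm.eq]; group
        rw [h5] at hba
        exact hz1 hba.symm
      · have h1 := Cfsg.Agent.Lib.Helper2.card_sup_mul_card_inf (Subgroup.zpowers a)
          (Subgroup.zpowers b) Subgroup.le_normalizer_of_normal
        rw [hgen, Subgroup.card_top, hcardD, hcardA, hcardB] at h1
        norm_num at h1
        omega
  · exfalso
    have he1 : 1 ≤ e := by omega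
    rw [hDz] at hz'D hwD
    obtain ⟨k, hk⟩ := exists_pow_of_mem_zpowers hz'D
    obtain ⟨l, hl⟩ := exists_pow_of_mem_zpowers hwD
    have hkodd : Odd k := by
      rw [← Nat.not_even_iff_odd]
      intro hev
      have := orderOf_pow_even_dvd he1 hzpow hev
      rw [hk, hoz'] at this
      exact not_pow_dvd_pred he1 this
    have hleven : Even l := by
      have h1 : (a ^ 2 ^ m) ^ (l * 2) = 1 := by rw [pow_mul, hl]; exact hw2
      have h2 := orderOf_dvd_of_pow_eq_one h1
      rw [hoz] at h2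
      obtain ⟨r, rfl⟩ : ∃ r, e = r + 2 := ⟨e - 2, by omega⟩
      have h3 : (4 : ℕ) ∣ l * 2 := by
        refine Dvd.dvd.trans ?_ h2
        exact ⟨2 ^ r, by rw [pow_add]; ring⟩
      rw [even_iff_two_dvd]
      omega
    have hsum : Even (i + k * j + l) := by
      have h1 : Odd (k * j) := hkodd.mul hj
      have h2 : Even (i + k * j) := hi.add_odd h1
      exact h2.add hleven
    have hgenz : ∀ z : X, z ^ i * (z ^ k) ^ j * z ^ l = z ^ (i + k * j + l) := by
      intro z
      rw [← pow_mul, ← pow_add, ← pow_add]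
    have hform' : (a ^ i * b ^ j) ^ 2 ^ m = (a ^ 2 ^ m) ^ (i + k * j + l) := by
      rw [hform, ← hk, ← hl]
      exact hgenz _
    have := orderOf_pow_even_dvd he1 hzpow hsum
    rw [← hform', hoz''] at this
    exact not_pow_dvd_pred he1 this

end Cfsg.Agent.Lib.Helper4.MetaTwo
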