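import Mathlib
import Cfsg.Agent.Lib.Helper4.MetaTwo4
import Cfsg.Agent.Lib.Lead.QuatRecog

set_option autoImplicit false

/-! Metacyclic `2`-groups with an automorphism of odd order: the classification. -/

namespace Cfsg.Agent.Lib.Helper4.MetaTwo

open Cfsg Cfsg.Agent.Lib.Lead
open scoped commutatorElement

variable {X : Type*} [Group X] [Finite X]

theorem fr_pow (hX : IsPGroup 2 X) (x : X) (j : ℕ) :
    (Even j → fr X (x ^ j) = 1) ∧ (Odd j → fr X (x ^ j) = fr X x) := by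
  constructor
  · rintro ⟨k, hk⟩
    rw [hk, pow_add, map_mul, fr_sq hX]
  · rintro ⟨k, hk⟩
    rw [hk, pow_add, pow_one, two_mul, pow_add, map_mul, map_mul, fr_sq hX, one_mul]

/-- decomposition of elements of a product of two cyclic subgroups, one of them normal -/
theorem exists_pow_mul_pow {a b : X} (ha : (Subgroup.zpowers a).Normal)
    (hgen : Subgroup.zpowers a ⊔ Subgroup.zpowers b = ⊤) (x : X) :
    ∃ i j : ℕ, x = a ^ i * b ^ j := by
  have hx : x ∈ ((Subgroup.zpowers a ⊔ Subgroup.zpowers b : Subgroup X) : Set X) := by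
    rw [hgen]; trivial
  rw [Subgroup.normal_mul] at hx
  obtain ⟨u, hu, v, hv, rfl⟩ := hx
  obtain ⟨i, rfl⟩ := exists_pow_of_mem_zpowers hu
  obtain ⟨j, rfl⟩ := exists_pow_of_mem_zpowers hv
  exact ⟨i, j, rfl⟩

/-- the direct product of two cyclic groups of order `2 ^ n` -/
theorem homocyclic_iso {a b : X} (ha : (Subgroup.zpowers a).Normal)
    (hgen : Subgroup.zpowers a ⊔ Subgroup.zpowers b = ⊤) {n : ℕ} (hoa : orderOf a = 2 ^ n)
    (hob : orderOf b = 2 ^ n) (hD : Subgroup.zpowers a ⊓ Subgroup.zpowers b = ⊥)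
    (hcomm : Commute a b) :
    Nonempty (X ≃* Multiplicative (ZMod (2 ^ n)) × Multiplicative (ZMod (2 ^ n))) := by
  classical
  haveI : NeZero (2 ^ n) := ⟨by positivity⟩
  have ha1 : a ^ 2 ^ n = 1 := by rw [← hoa]; exact pow_orderOf_eq_one a
  have hb1 : b ^ 2 ^ n = 1 := by rw [← hob]; exact pow_orderOf_eq_one b
  let fa : Multiplicative (ZMod (2 ^ n)) →* X :=
    AddMonoidHom.toMultiplicativeLeft (zmodPow (2 ^ n) a ha1)
  let fb : Multiplicative (ZMod (2 ^ n)) →* X :=
    AddMonoidHom.toMultiplicativeLeft (zmodPow (2 ^ n) b hb1)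
  have hfa : ∀ u, fa u = (zmodPow (2 ^ n) a ha1 u.toAdd).toMul := fun u => rfl
  have hfb : ∀ u, fb u = (zmodPow (2 ^ n) b hb1 u.toAdd).toMul := fun u => rfl
  have hfaA : ∀ u, fa u ∈ Subgroup.zpowers a := fun u => zmodPow_mem_zpowers _ a ha1 _
  have hfbB : ∀ u, fb u ∈ Subgroup.zpowers b := fun u => zmodPow_mem_zpowers _ b hb1 _
  have hc : ∀ u v, Commute (fa u) (fb v) := by
    intro u v
    obtain ⟨k, hk⟩ := Subgroup.mem_zpowers_iff.mp (hfaA u)
    obtain ⟨l, hl⟩ := Subgroup.mem_zpowers_iff.mp (hfbB v)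
    rw [← hk, ← hl]
    exact hcomm.zpow_zpow k l
  let f : Multiplicative (ZMod (2 ^ n)) × Multiplicative (ZMod (2 ^ n)) →* X :=
    MonoidHom.noncommCoprod fa fb hc
  have hf : ∀ uv, f uv = fa uv.1 * fb uv.2 := fun uv => rfl
  have hinj : Function.Injective f := by
    rw [injective_iff_map_eq_one]
    rintro ⟨u, v⟩ huv
    rw [hf] at huv
    simp only at huv
    have h1 : fa u = (fb v)⁻¹ := eq_inv_of_mul_eq_one_left huv
    have h2 : fa u ∈ Subgroup.zpowers a ⊓ Subgroup.zpowers b :=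
      ⟨hfaA u, by rw [h1]; exact Subgroup.inv_mem _ (hfbB v)⟩
    rw [hD, Subgroup.mem_bot] at h2
    have h3 : fb v = 1 := by rw [h2, one_mul] at huv; exact huv
    have hu : u.toAdd = 0 := zmodPow_eq_one (2 ^ n) a ha1 hoa _ h2
    have hv : v.toAdd = 0 := zmodPow_eq_one (2 ^ n) b hb1 hob _ h3
    apply Prod.ext
    · exact hu
    · exact hv
  have hsurj : Function.Surjective f := by
    intro x
    obtain ⟨i, j, rfl⟩ := exists_pow_mul_pow ha hgen x
    refine ⟨(Multiplicative.ofAdd (i : ZMod (2 ^ n)), Multiplicative.ofAdd (j : ZMod (2 ^ n))), ?_⟩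
    rw [hf, hfa, hfb]
    simp only [toAdd_ofAdd]
    rw [zmodPow_natCast, zmodPow_natCast]
  exact ⟨(MulEquiv.ofBijective f ⟨hinj, hsurj⟩).symm⟩

theorem main (hX : IsPGroup 2 X) (hm : IsMetacyclic X) (hA : ¬ IsPGroup 2 (MulAut X)) :
    Nonempty (X ≃* QuaternionGroup 2) ∨
      ∃ n : ℕ, Nonempty (X ≃* Multiplicative (ZMod (2 ^ n)) × Multiplicative (ZMod (2 ^ n))) := by
  classical
  obtain ⟨a, b, c, haN, hbN, hcl, hob, hoc, hfc, hfa1, hfb1, hfab⟩ := exists_config hX hm hA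
  have hgen : Subgroup.zpowers a ⊔ Subgroup.zpowers b = ⊤ := by
    rw [Subgroup.zpowers_eq_closure, Subgroup.zpowers_eq_closure, ← Subgroup.closure_union,
      ← hcl]
    rfl
  obtain ⟨i, j, hcij⟩ := exists_pow_mul_pow haN hgen c
  -- parity
  have hfcij : fr X c = fr X (a ^ i) * fr X (b ^ j) := by rw [hcij, map_mul]
  have hi : Odd i := by
    rw [← Nat.not_even_iff_odd]
    intro hev
    rw [(fr_pow hX a i).1 hev, one_mul, hfc] at hfcij
    rcases Nat.even_or_odd j with hj | hj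
    · rw [(fr_pow hX b j).1 hj] at hfcij
      apply hfab
      have : fr X a = (fr X b)⁻¹ := eq_inv_of_mul_eq_one_left hfcij
      rw [this, fr_inv hX]
    · rw [(fr_pow hX b j).2 hj] at hfcij
      apply hfa1
      exact mul_eq_right.mp hfcij
  have hj : Odd j := by
    rw [← Nat.not_even_iff_odd]
    intro hev
    rw [(fr_pow hX a i).2 hi, (fr_pow hX b j).1 hev, mul_one, hfc] at hfcij
    apply hfb1
    exact mul_eq_left.mp hfcij
  -- orders
  obtain ⟨n, hoa⟩ : ∃ n : ℕ, orderOf a = 2 ^ n := by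
    obtain ⟨k, hk⟩ := hX a
    obtain ⟨n, -, hn⟩ := (Nat.dvd_prime_pow Nat.prime_two).mp (orderOf_dvd_of_pow_eq_one hk)
    exact ⟨n, hn⟩
  have hob' : orderOf b = 2 ^ n := by rw [hob, hoa]
  have hoc' : orderOf (a ^ i * b ^ j) = 2 ^ n := by rw [← hcij, hoc, hoa]
  rcases core hX haN hbN hgen hoa hob' hi hj hoc' with hD | ⟨hn, hb2, hba, hbA, hcard⟩
  · right
    have hcomm : Commute a b := by
      have h1 := comm_mem_inf haN hbN
      rw [hD, Subgroup.mem_bot, commutatorElement_def] at h1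
      have : a * b = (a * b * a⁻¹ * b⁻¹) * (b * a) := by group
      rw [h1, one_mul] at this
      exact this
    exact ⟨n, homocyclic_iso haN hgen hoa hob' hD hcomm⟩
  · left
    subst hn
    exact quaternion_recognition 2 a b (by rw [hoa]; norm_num) hb2 hba hbA (by rw [hcard])

end Cfsg.Agent.Lib.Helper4.MetaTwo
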