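import Mathlib
import Cfsg.Agent.Lib.Lead.MinIdxDefs
import Cfsg.Agent.Lib.Helper8.MinIdxW0

/-!
# S2140, package W4: abstract counting with permutation multiplicities
-/

set_option autoImplicit false
set_option linter.unusedSectionVars false
set_option linter.unusedVariables false

namespace Cfsg.Agent.Lib.Helper4.MinIdxW4

open Cfsg.Agent.Lib.Lead.MinIdx

variable {R : Type*} [CommGroup R] [Finite R] {Ω : Type*} [Finite Ω] [MulAction R Ω]

/-- the characters that are trivial on `S` correspond to the characters of `R ⧸ S` -/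
noncomputable def charQuotEquiv (S : Subgroup R) :
    {χ : R →* ℂˣ // S ≤ χ.ker} ≃ (R ⧸ S →* ℂˣ) where
  toFun χ := QuotientGroup.lift S χ.1 (fun x hx => χ.2 hx)
  invFun φ := ⟨φ.comp (QuotientGroup.mk' S), fun x hx => by
    rw [MonoidHom.mem_ker, MonoidHom.comp_apply, QuotientGroup.mk'_apply,
      (QuotientGroup.eq_one_iff x).2 hx, map_one]⟩
  left_inv χ := by
    apply Subtype.ext
    ext x
    simp
  right_inv φ := by
    apply MonoidHom.ext
    intro y
    induction y using QuotientGroup.induction_on with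
    | H x => simp

/-- the number of characters trivial on `S` is the index of `S` -/
theorem card_char_trivial_on (S : Subgroup R) :
    Nat.card {χ : R →* ℂˣ // S ≤ χ.ker} = S.index := by
  rw [Nat.card_congr (charQuotEquiv S), CommGroup.card_monoidHom_of_hasEnoughRootsOfUnity (R ⧸ S) ℂ]
  rfl

/-- a proper subgroup lies in the kernel of a nontrivial character -/
theorem exists_char_ne_one_of_ne_top {S : Subgroup R} (hS : S ≠ ⊤) :
    ∃ χ : R →* ℂˣ, χ ≠ 1 ∧ S ≤ χ.ker := by
  obtain ⟨x, hx⟩ : ∃ x : R, x ∉ S := by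
    by_contra h
    push Not at h
    exact hS (by rw [eq_top_iff]; intro x _; exact h x)
  have hx1 : (QuotientGroup.mk' S x) ≠ 1 := by
    intro h
    exact hx ((QuotientGroup.eq_one_iff x).1 h)
  obtain ⟨φ, hφ⟩ := CommGroup.exists_apply_ne_one_of_hasEnoughRootsOfUnity (R ⧸ S) ℂ hx1
  refine ⟨φ.comp (QuotientGroup.mk' S), ?_, ?_⟩
  · intro h
    apply hφ
    have := DFunLike.congr_fun h x
    simpa using this
  · intro y hy
    rw [MonoidHom.mem_ker, MonoidHom.comp_apply, QuotientGroup.mk'_apply,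
      (QuotientGroup.eq_one_iff y).2 hy, map_one]

/-- if all nontrivial characters have multiplicity zero, then `R` acts trivially -/
theorem smul_eq_of_pmult_eq_zero (h : ∀ χ : R →* ℂˣ, χ ≠ 1 → pmult Ω χ = 0) (r : R) (ω : Ω) :
    r • ω = ω := by
  by_contra hne
  have hS : MulAction.stabilizer R ω ≠ ⊤ := by
    intro htop
    apply hne
    have : r ∈ MulAction.stabilizer R ω := by rw [htop]; exact Subgroup.mem_top r
    exact this
  obtain ⟨χ, hχ1, hχ⟩ := exists_char_ne_one_of_ne_top hS
  have h0 := (pmult_eq_zero_iff (Ω := Ω) χ).1 (h χ hχ1)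
  have hmem : ω ∈ pset (Ω := Ω) χ := fun s hs => hχ hs
  rw [h0] at hmem
  exact hmem

/-- the trivial character has positive multiplicity -/
theorem pmult_one_pos [Nonempty Ω] : 0 < pmult Ω (1 : R →* ℂˣ) := by
  rw [pmult_one]
  haveI : Nonempty (MulAction.orbitRel.Quotient R Ω) :=
    ⟨Quotient.mk'' (Classical.arbitrary Ω)⟩
  exact Nat.card_pos

open Classical in
/-- a large class of nontrivial characters with constant multiplicity has multiplicity zero -/
theorem pmult_eq_zero_of_large_class [Nonempty Ω] [Fintype (R →* ℂˣ)] (T : Finset (R →* ℂˣ))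
    (h1 : (1 : R →* ℂˣ) ∉ T) (b : ℕ) (hb : ∀ χ ∈ T, pmult Ω χ = b)
    (hT : Nat.card Ω ≤ T.card) : b = 0 := by
  by_contra hb0
  have hsum := sum_pmult (R := R) (Ω := Ω)
  have hsub : insert (1 : R →* ℂˣ) T ⊆ Finset.univ := Finset.subset_univ _
  have hle : ∑ χ ∈ insert (1 : R →* ℂˣ) T, pmult Ω χ ≤ ∑ χ : R →* ℂˣ, pmult Ω χ :=
    Finset.sum_le_sum_of_subset hsub
  rw [Finset.sum_insert h1, Finset.sum_congr rfl hb, Finset.sum_const, smul_eq_mul, hsum] at hle
  have hpos := pmult_one_pos (R := R) (Ω := Ω)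
  have : T.card ≤ T.card * b := Nat.le_mul_of_pos_right _ (Nat.pos_of_ne_zero hb0)
  omega

/-- two large classes: total count -/
theorem sum_pmult_ge_of_disjoint [Fintype (R →* ℂˣ)] (T : Finset (R →* ℂˣ)) :
    ∑ χ ∈ T, pmult Ω χ ≤ Nat.card Ω := by
  classical
  rw [← sum_pmult (R := R) (Ω := Ω)]
  exact Finset.sum_le_sum_of_subset (Finset.subset_univ _)

end Cfsg.Agent.Lib.Helper4.MinIdxW4
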