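import Mathlib
import Cfsg.Agent.Lib.Helper9.SLRoot2
import Cfsg.Agent.Lib.Helper4.MinIdxW4a

/-!
# S2140, package W4: the unipotent radical of the stabiliser of a 2-space, its characters and the
action of the Levi complement
-/

set_option autoImplicit false
set_option linter.unusedSectionVars false
set_option linter.unusedVariables false
set_option linter.unusedSimpArgs false

namespace Cfsg.Agent.Lib.Helper4.MinIdxW4

open Matrix Cfsg.Agent.Lib.Lead.MinIdx Cfsg.Agent.H9SLRoot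

variable {F : Type*} [Field F] {κ : Type*} [Fintype κ] [DecidableEq κ]

/-- no transvection in `M` (general index type) -/
def TransvFree' {ι : Type*} [Fintype ι] [DecidableEq ι]
    (M : Subgroup (Matrix.SpecialLinearGroup ι F)) : Prop :=
  ∀ (x φ : ι → F) (c : F), φ ⬝ᵥ x = 0 → tv x φ c ∈ M → tv x φ c = 1

/-- the element `[[1, B], [0, 1]]` -/
def uSL (B : Matrix (Fin 2) κ F) : Matrix.SpecialLinearGroup (Fin 2 ⊕ κ) F :=
  ⟨fromBlocks 1 B 0 1, by rw [det_fromBlocks_zero₂₁, det_one, det_one, one_mul]⟩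

theorem uSL_coe (B : Matrix (Fin 2) κ F) :
    (uSL B : Matrix (Fin 2 ⊕ κ) (Fin 2 ⊕ κ) F) = fromBlocks 1 B 0 1 := rfl

theorem uSL_add (B B' : Matrix (Fin 2) κ F) : uSL (B + B') = uSL B * uSL B' := by
  apply Subtype.ext
  rw [Matrix.SpecialLinearGroup.coe_mul, uSL_coe, uSL_coe, uSL_coe, fromBlocks_multiply]
  simp [add_comm]

theorem uSL_zero : uSL (0 : Matrix (Fin 2) κ F) = 1 := by
  apply Subtype.ext
  rw [uSL_coe, Matrix.SpecialLinearGroup.coe_one, fromBlocks_one]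

/-- the radical as a homomorphism -/
def uHom : Multiplicative (Matrix (Fin 2) κ F) →* Matrix.SpecialLinearGroup (Fin 2 ⊕ κ) F where
  toFun B := uSL (Multiplicative.toAdd B)
  map_one' := uSL_zero
  map_mul' B B' := uSL_add _ _

theorem uHom_apply (B : Multiplicative (Matrix (Fin 2) κ F)) :
    uHom B = uSL (Multiplicative.toAdd B) := rfl

/-- the Levi element `diag(g₁, g₂)` -/
def lSL (g₁ : Matrix (Fin 2) (Fin 2) F) (g₂ : Matrix κ κ F) (h : g₁.det * g₂.det = 1) :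
    Matrix.SpecialLinearGroup (Fin 2 ⊕ κ) F :=
  ⟨fromBlocks g₁ 0 0 g₂, by rw [det_fromBlocks_zero₂₁, h]⟩

theorem lSL_coe (g₁ : Matrix (Fin 2) (Fin 2) F) (g₂ : Matrix κ κ F) (h : g₁.det * g₂.det = 1) :
    (lSL g₁ g₂ h : Matrix (Fin 2 ⊕ κ) (Fin 2 ⊕ κ) F) = fromBlocks g₁ 0 0 g₂ := rfl

/-- the Levi element normalises the radical -/
theorem lSL_mul_uSL (g₁ : Matrix (Fin 2) (Fin 2) F) (g₂ g₂' : Matrix κ κ F)
    (h : g₁.det * g₂.det = 1) (h2 : g₂' * g₂ = 1) (B : Matrix (Fin 2) κ F) :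
    lSL g₁ g₂ h * uSL B = uSL (g₁ * B * g₂') * lSL g₁ g₂ h := by
  apply Subtype.ext
  rw [Matrix.SpecialLinearGroup.coe_mul, Matrix.SpecialLinearGroup.coe_mul, uSL_coe, uSL_coe,
    lSL_coe, fromBlocks_multiply, fromBlocks_multiply]
  congr 1
  · simp
  · simp only [Matrix.mul_one, Matrix.zero_mul, Matrix.one_mul, Matrix.mul_zero, zero_add, add_zero]
    rw [Matrix.mul_assoc, h2, Matrix.mul_one]
  · simp
  · simp

/-! ### the action on the cosets -/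

/-- the radical acts on the cosets of `M` -/
@[reducible] def actR (M : Subgroup (Matrix.SpecialLinearGroup (Fin 2 ⊕ κ) F)) :
    MulAction (Multiplicative (Matrix (Fin 2) κ F)) (Matrix.SpecialLinearGroup (Fin 2 ⊕ κ) F ⧸ M) :=
  MulAction.compHom _ (uHom (F := F) (κ := κ))

attribute [local instance] actR

theorem actR_smul (M : Subgroup (Matrix.SpecialLinearGroup (Fin 2 ⊕ κ) F))
    (B : Multiplicative (Matrix (Fin 2) κ F))
    (ω : Matrix.SpecialLinearGroup (Fin 2 ⊕ κ) F ⧸ M) :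
    B • ω = uSL (Multiplicative.toAdd B) • ω := rfl

/-- the automorphism `B ↦ g₁ B g₂⁻¹` of the radical -/
def sigmaAdd (g₁ g₁' : Matrix (Fin 2) (Fin 2) F) (g₂ g₂' : Matrix κ κ F)
    (h1 : g₁' * g₁ = 1) (h1' : g₁ * g₁' = 1) (h2 : g₂' * g₂ = 1) (h2' : g₂ * g₂' = 1) :
    Matrix (Fin 2) κ F ≃+ Matrix (Fin 2) κ F where
  toFun B := g₁ * B * g₂'
  invFun B := g₁' * B * g₂
  left_inv B := by
    show g₁' * (g₁ * B * g₂') * g₂ = B
    rw [Matrix.mul_assoc, Matrix.mul_assoc, h2, Matrix.mul_one, ← Matrix.mul_assoc, h1,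
      Matrix.one_mul]
  right_inv B := by
    show g₁ * (g₁' * B * g₂) * g₂' = B
    rw [Matrix.mul_assoc, Matrix.mul_assoc, h2', Matrix.mul_one, ← Matrix.mul_assoc, h1',
      Matrix.one_mul]
  map_add' B B' := by
    show g₁ * (B + B') * g₂' = g₁ * B * g₂' + g₁ * B' * g₂'
    rw [Matrix.mul_add, Matrix.add_mul]

theorem sigmaAdd_apply (g₁ g₁' : Matrix (Fin 2) (Fin 2) F) (g₂ g₂' : Matrix κ κ F)
    (h1 : g₁' * g₁ = 1) (h1' : g₁ * g₁' = 1) (h2 : g₂' * g₂ = 1) (h2' : g₂ * g₂' = 1)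
    (B : Matrix (Fin 2) κ F) :
    sigmaAdd g₁ g₁' g₂ g₂' h1 h1' h2 h2' B = g₁ * B * g₂' := rfl

variable [Finite F]

/-- multiplicities are invariant under the Levi complement -/
theorem pmult_sigma (M : Subgroup (Matrix.SpecialLinearGroup (Fin 2 ⊕ κ) F)) [M.FiniteIndex]
    (g₁ g₁' : Matrix (Fin 2) (Fin 2) F) (g₂ g₂' : Matrix κ κ F)
    (h1 : g₁' * g₁ = 1) (h1' : g₁ * g₁' = 1) (h2 : g₂' * g₂ = 1) (h2' : g₂ * g₂' = 1)
    (hdet : g₁.det * g₂.det = 1)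
    (χ : Multiplicative (Matrix (Fin 2) κ F) →* ℂˣ) :
    pmult (Matrix.SpecialLinearGroup (Fin 2 ⊕ κ) F ⧸ M)
      (χ.comp (AddEquiv.toMultiplicative
        (sigmaAdd g₁ g₁' g₂ g₂' h1 h1' h2 h2')).toMonoidHom) =
    pmult (Matrix.SpecialLinearGroup (Fin 2 ⊕ κ) F ⧸ M) χ := by
  haveI : Finite (Matrix.SpecialLinearGroup (Fin 2 ⊕ κ) F ⧸ M) :=
    Subgroup.finite_quotient_of_finiteIndex
  refine pmult_comp (AddEquiv.toMultiplicative (sigmaAdd g₁ g₁' g₂ g₂' h1 h1' h2 h2'))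
    (MulAction.toPerm (lSL g₁ g₂ hdet)) ?_ χ
  intro r ω
  show lSL g₁ g₂ hdet • (uSL (Multiplicative.toAdd r) • ω) =
    uSL (g₁ * Multiplicative.toAdd r * g₂') • (lSL g₁ g₂ hdet • ω)
  rw [← mul_smul, ← mul_smul, lSL_mul_uSL g₁ g₂ g₂' hdet h2]

end Cfsg.Agent.Lib.Helper4.MinIdxW4
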