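import Mathlib
import Cfsg.Agent.Lib.Helper4.MinIdxW4b

/-!
# S2140, package W4: the characters of the radical
-/

set_option autoImplicit false
set_option linter.unusedSectionVars false
set_option linter.unusedVariables false
set_option linter.unusedSimpArgs false

namespace Cfsg.Agent.Lib.Helper4.MinIdxW4

open Matrix Cfsg.Agent.Lib.Lead.MinIdx Cfsg.Agent.H9SLRoot

variable {F : Type*} [Field F] {κ : Type*} [Fintype κ] [DecidableEq κ]

/-- the trace form `B ↦ tr (B C)` -/
def trForm (C : Matrix κ (Fin 2) F) : Matrix (Fin 2) κ F →+ F where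
  toFun B := Matrix.trace (B * C)
  map_zero' := by rw [Matrix.zero_mul, Matrix.trace_zero]
  map_add' B B' := by rw [Matrix.add_mul, Matrix.trace_add]

theorem trForm_apply (C : Matrix κ (Fin 2) F) (B : Matrix (Fin 2) κ F) :
    trForm C B = Matrix.trace (B * C) := rfl

/-- the character `χ_C (B) = ψ (tr (B C))` -/
def chi (ψ : Multiplicative F →* ℂˣ) (C : Matrix κ (Fin 2) F) :
    Multiplicative (Matrix (Fin 2) κ F) →* ℂˣ :=
  ψ.comp (AddMonoidHom.toMultiplicative (trForm C))

theorem chi_apply (ψ : Multiplicative F →* ℂˣ) (C : Matrix κ (Fin 2) F)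
    (B : Multiplicative (Matrix (Fin 2) κ F)) :
    chi ψ C B = ψ (Multiplicative.ofAdd (Matrix.trace (Multiplicative.toAdd B * C))) := rfl

theorem chi_zero (ψ : Multiplicative F →* ℂˣ) : chi ψ (0 : Matrix κ (Fin 2) F) = 1 := by
  apply MonoidHom.ext
  intro B
  rw [chi_apply, Matrix.mul_zero, Matrix.trace_zero, ofAdd_zero, map_one, MonoidHom.one_apply]

theorem chi_add (ψ : Multiplicative F →* ℂˣ) (C C' : Matrix κ (Fin 2) F) :
    chi ψ (C + C') = chi ψ C * chi ψ C' := by
  apply MonoidHom.ext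
  intro B
  rw [MonoidHom.mul_apply, chi_apply, chi_apply, chi_apply, Matrix.mul_add, Matrix.trace_add,
    ofAdd_add, map_mul]

theorem chi_sub_apply (ψ : Multiplicative F →* ℂˣ) (C C' : Matrix κ (Fin 2) F)
    (B : Multiplicative (Matrix (Fin 2) κ F)) :
    chi ψ (C - C') B = chi ψ C B * (chi ψ C' B)⁻¹ := by
  rw [chi_apply, chi_apply, chi_apply, Matrix.mul_sub, Matrix.trace_sub, ofAdd_sub, map_div,
    div_eq_mul_inv]

theorem trace_single_mul (i : Fin 2) (j : κ) (c : F) (C : Matrix κ (Fin 2) F) :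
    Matrix.trace (Matrix.single i j c * C) = c * C j i := by
  rw [Matrix.trace]
  simp only [Matrix.diag_apply, Matrix.mul_apply, Matrix.single_apply]
  rw [Finset.sum_eq_single i]
  · rw [Finset.sum_eq_single j]
    · simp
    · intro b _ hb
      rw [if_neg (fun h => hb h.2.symm), zero_mul]
    · intro h; exact absurd (Finset.mem_univ j) h
  · intro a _ ha
    apply Finset.sum_eq_zero
    intro b _
    rw [if_neg (fun h => ha h.1.symm), zero_mul]
  · intro h; exact absurd (Finset.mem_univ i) h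

theorem eq_zero_of_chi_eq_one {ψ : Multiplicative F →* ℂˣ} (hψ : ψ ≠ 1) {C : Matrix κ (Fin 2) F}
    (h : chi ψ C = 1) : C = 0 := by
  by_contra hC
  obtain ⟨j, i, hji⟩ : ∃ j i, C j i ≠ 0 := by
    by_contra hne
    push Not at hne
    exact hC (Matrix.ext hne)
  apply hψ
  apply MonoidHom.ext
  intro t
  have := DFunLike.congr_fun h (Multiplicative.ofAdd (Matrix.single i j (Multiplicative.toAdd t / C j i)))
  rw [chi_apply, toAdd_ofAdd, trace_single_mul, div_mul_cancel₀ _ hji, ofAdd_toAdd] at this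
  rw [this]
  rfl

theorem chi_injective {ψ : Multiplicative F →* ℂˣ} (hψ : ψ ≠ 1) :
    Function.Injective (chi ψ : Matrix κ (Fin 2) F → _) := by
  intro C C' h
  have h1 : chi ψ (C - C') = 1 := by
    apply MonoidHom.ext
    intro B
    rw [chi_sub_apply, h, mul_inv_cancel]
    rfl
  have := eq_zero_of_chi_eq_one hψ h1
  rw [sub_eq_zero] at this
  exact this

theorem chi_ne_one {ψ : Multiplicative F →* ℂˣ} (hψ : ψ ≠ 1) {C : Matrix κ (Fin 2) F}
    (hC : C ≠ 0) : chi ψ C ≠ 1 := fun h => hC (eq_zero_of_chi_eq_one hψ h)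

theorem chi_comp_sigma (ψ : Multiplicative F →* ℂˣ) (C : Matrix κ (Fin 2) F)
    (g₁ g₁' : Matrix (Fin 2) (Fin 2) F) (g₂ g₂' : Matrix κ κ F)
    (h1 : g₁' * g₁ = 1) (h1' : g₁ * g₁' = 1) (h2 : g₂' * g₂ = 1) (h2' : g₂ * g₂' = 1) :
    (chi ψ C).comp (AddEquiv.toMultiplicative
        (sigmaAdd g₁ g₁' g₂ g₂' h1 h1' h2 h2')).toMonoidHom = chi ψ (g₂' * C * g₁) := by
  apply MonoidHom.ext
  intro B
  rw [MonoidHom.comp_apply, chi_apply, chi_apply]
  have e : Multiplicative.toAdd ((AddEquiv.toMultiplicative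
      (sigmaAdd g₁ g₁' g₂ g₂' h1 h1' h2 h2')).toMonoidHom B) =
      g₁ * Multiplicative.toAdd B * g₂' := rfl
  rw [e]
  have e2 : Matrix.trace (g₁ * Multiplicative.toAdd B * g₂' * C) =
      Matrix.trace (Multiplicative.toAdd B * (g₂' * C * g₁)) := by
    rw [Matrix.mul_assoc g₁, Matrix.mul_assoc g₁, Matrix.trace_mul_comm]
    simp only [Matrix.mul_assoc]
  rw [e2]

variable [Finite F]

theorem exists_psi : ∃ ψ : Multiplicative F →* ℂˣ, ψ ≠ 1 := by
  have h1 : Multiplicative.ofAdd (1 : F) ≠ 1 := by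
    intro h
    exact one_ne_zero (Multiplicative.ofAdd.injective h)
  obtain ⟨ψ, hψ⟩ := CommGroup.exists_apply_ne_one_of_hasEnoughRootsOfUnity (Multiplicative F) ℂ h1
  exact ⟨ψ, fun h => hψ (by rw [h]; rfl)⟩

theorem chi_surjective {ψ : Multiplicative F →* ℂˣ} (hψ : ψ ≠ 1) :
    Function.Surjective (chi ψ : Matrix κ (Fin 2) F → _) := by
  have hcard : Nat.card (Multiplicative (Matrix (Fin 2) κ F) →* ℂˣ) ≤
      Nat.card (Matrix κ (Fin 2) F) := by
    rw [CommGroup.card_monoidHom_of_hasEnoughRootsOfUnity (Multiplicative (Matrix (Fin 2) κ F)) ℂ]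
    apply le_of_eq
    exact Nat.card_congr (Multiplicative.toAdd.trans (Matrix.transposeAddEquiv (Fin 2) κ F).toEquiv)
  exact ((chi_injective hψ).bijective_of_nat_card_le hcard).2

end Cfsg.Agent.Lib.Helper4.MinIdxW4
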