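import Mathlib
import Cfsg.Agent.Lib.Helper4.MinIdxW4c

/-!
# S2140, package W4: the core reduction
-/

set_option autoImplicit false
set_option linter.unusedSectionVars false
set_option linter.unusedVariables false
set_option linter.unusedSimpArgs false

namespace Cfsg.Agent.Lib.Helper4.MinIdxW4

open Matrix Cfsg.Agent.Lib.Lead.MinIdx Cfsg.Agent.H9SLRoot

variable {F : Type*} [Field F] {κ : Type*} [Fintype κ] [DecidableEq κ]

attribute [local instance] actR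

/-- `C'` is a Levi conjugate of `C` -/
def LeviConj (C C' : Matrix κ (Fin 2) F) : Prop :=
  ∃ (g₁ g₁' : Matrix (Fin 2) (Fin 2) F) (g₂ g₂' : Matrix κ κ F),
    g₁' * g₁ = 1 ∧ g₁ * g₁' = 1 ∧ g₂' * g₂ = 1 ∧ g₂ * g₂' = 1 ∧ g₁.det * g₂.det = 1 ∧
      C' = g₂' * C * g₁

variable [Finite F]

theorem pmult_leviConj (M : Subgroup (Matrix.SpecialLinearGroup (Fin 2 ⊕ κ) F)) [M.FiniteIndex]
    (ψ : Multiplicative F →* ℂˣ) {C C' : Matrix κ (Fin 2) F} (h : LeviConj C C') :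
    pmult (Matrix.SpecialLinearGroup (Fin 2 ⊕ κ) F ⧸ M) (chi ψ C') =
      pmult (Matrix.SpecialLinearGroup (Fin 2 ⊕ κ) F ⧸ M) (chi ψ C) := by
  obtain ⟨g₁, g₁', g₂, g₂', h1, h1', h2, h2', hdet, rfl⟩ := h
  rw [← chi_comp_sigma ψ C g₁ g₁' g₂ g₂' h1 h1' h2 h2']
  exact pmult_sigma M g₁ g₁' g₂ g₂' h1 h1' h2 h2' hdet (chi ψ C)

open Classical in
/-- a character with a large Levi class has multiplicity zero -/
theorem pmult_chi_eq_zero (M : Subgroup (Matrix.SpecialLinearGroup (Fin 2 ⊕ κ) F)) [M.FiniteIndex]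
    {ψ : Multiplicative F →* ℂˣ} (hψ : ψ ≠ 1) {C : Matrix κ (Fin 2) F}
    (T : Finset (Matrix κ (Fin 2) F)) (hT0 : (0 : Matrix κ (Fin 2) F) ∉ T)
    (hT : ∀ C' ∈ T, LeviConj C C') (hcard : M.index ≤ T.card) :
    pmult (Matrix.SpecialLinearGroup (Fin 2 ⊕ κ) F ⧸ M) (chi ψ C) = 0 := by
  haveI : Finite (Matrix.SpecialLinearGroup (Fin 2 ⊕ κ) F ⧸ M) :=
    Subgroup.finite_quotient_of_finiteIndex
  haveI : Fintype (Multiplicative (Matrix (Fin 2) κ F) →* ℂˣ) := Fintype.ofFinite _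
  refine pmult_eq_zero_of_large_class (R := Multiplicative (Matrix (Fin 2) κ F))
    (Ω := Matrix.SpecialLinearGroup (Fin 2 ⊕ κ) F ⧸ M) (T.image (chi ψ)) ?_ _ ?_ ?_
  · intro h
    obtain ⟨C', hC', h1⟩ := Finset.mem_image.1 h
    have := eq_zero_of_chi_eq_one hψ h1
    rw [this] at hC'
    exact hT0 hC'
  · intro χ hχ
    obtain ⟨C', hC', rfl⟩ := Finset.mem_image.1 hχ
    exact pmult_leviConj M ψ (hT C' hC')
  · rw [Finset.card_image_of_injective T (chi_injective hψ)]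
    exact hcard

/-- if every nonzero `C` has multiplicity zero, the radical lies in `M` -/
theorem uSL_mem_of_pmult_eq_zero (M : Subgroup (Matrix.SpecialLinearGroup (Fin 2 ⊕ κ) F))
    [M.FiniteIndex] {ψ : Multiplicative F →* ℂˣ} (hψ : ψ ≠ 1)
    (h : ∀ C : Matrix κ (Fin 2) F, C ≠ 0 →
      pmult (Matrix.SpecialLinearGroup (Fin 2 ⊕ κ) F ⧸ M) (chi ψ C) = 0)
    (B : Matrix (Fin 2) κ F) : uSL B ∈ M := by
  haveI : Finite (Matrix.SpecialLinearGroup (Fin 2 ⊕ κ) F ⧸ M) :=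
    Subgroup.finite_quotient_of_finiteIndex
  have hall : ∀ χ : Multiplicative (Matrix (Fin 2) κ F) →* ℂˣ, χ ≠ 1 →
      pmult (Matrix.SpecialLinearGroup (Fin 2 ⊕ κ) F ⧸ M) χ = 0 := by
    intro χ hχ
    obtain ⟨C, rfl⟩ := chi_surjective (κ := κ) hψ χ
    apply h
    intro hC
    apply hχ
    rw [hC, chi_zero]
  have key := smul_eq_of_pmult_eq_zero (R := Multiplicative (Matrix (Fin 2) κ F))
    (Ω := Matrix.SpecialLinearGroup (Fin 2 ⊕ κ) F ⧸ M) hall (Multiplicative.ofAdd B)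
    ((1 : Matrix.SpecialLinearGroup (Fin 2 ⊕ κ) F) : Matrix.SpecialLinearGroup (Fin 2 ⊕ κ) F ⧸ M)
  rw [actR_smul, toAdd_ofAdd, MulAction.Quotient.smul_coe, smul_eq_mul, mul_one,
    QuotientGroup.eq] at key
  have := M.inv_mem key
  rwa [mul_one, inv_inv] at this

/-- the radical contains a transvection -/
theorem uSL_single_eq_tv (j : κ) :
    uSL (Matrix.single (0 : Fin 2) j (1 : F)) =
      tv (Pi.single (Sum.inl 0) 1 : Fin 2 ⊕ κ → F) (Pi.single (Sum.inr j) 1) 1 := by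
  have hinc : (Pi.single (Sum.inr j) 1 : Fin 2 ⊕ κ → F) ⬝ᵥ (Pi.single (Sum.inl 0) 1) = 0 := by
    rw [dotProduct_single, Pi.single_apply, if_neg (by simp), zero_mul]
  apply Subtype.ext
  rw [tv_coe hinc, uSL_coe]
  ext a b
  unfold tmat
  rcases a with a | a <;> rcases b with b | b <;>
    simp [Matrix.vecMulVec_apply, Matrix.one_apply, Matrix.single_apply, Pi.single_apply]
  · fin_cases a <;> simp [eq_comm]
theorem not_transvFree_of_uSL_mem [Nonempty κ]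
    (M : Subgroup (Matrix.SpecialLinearGroup (Fin 2 ⊕ κ) F))
    (hTF : TransvFree' M) (h : ∀ B : Matrix (Fin 2) κ F, uSL B ∈ M) : False := by
  obtain ⟨j⟩ := (inferInstance : Nonempty κ)
  have hinc : (Pi.single (Sum.inr j) 1 : Fin 2 ⊕ κ → F) ⬝ᵥ (Pi.single (Sum.inl 0) 1) = 0 := by
    rw [dotProduct_single, Pi.single_apply, if_neg (by simp), zero_mul]
  have h1 := h (Matrix.single (0 : Fin 2) j (1 : F))
  rw [uSL_single_eq_tv] at h1
  have h2 := hTF _ _ 1 hinc h1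
  rw [← uSL_single_eq_tv] at h2
  have h3 := congrArg (fun g : Matrix.SpecialLinearGroup (Fin 2 ⊕ κ) F =>
    (g : Matrix (Fin 2 ⊕ κ) (Fin 2 ⊕ κ) F) (Sum.inl 0) (Sum.inr j)) h2
  simp [uSL_coe] at h3

end Cfsg.Agent.Lib.Helper4.MinIdxW4
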