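import Mathlib

/-!
# S2140, package W4: transitivity of the linear group on independent families, with prescribed
determinant
-/

set_option autoImplicit false
set_option linter.unusedSectionVars false
set_option linter.unusedVariables false
set_option linter.unusedSimpArgs false

namespace Cfsg.Agent.Lib.Helper4.MinIdxW4

open Module

section Abstract

variable {K V : Type*} [Field K] [AddCommGroup V] [Module K V] [FiniteDimensional K V]

/-- an automorphism with prescribed determinant fixing an independent family which is not a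
basis -/
theorem exists_det_fix {r : ℕ} (v : Fin r → V) (hv : LinearIndependent K v)
    (hr : r < finrank K V) (a : Kˣ) :
    ∃ h : V ≃ₗ[K] V, LinearEquiv.det h = a ∧ ∀ i, h (v i) = v i := by
  classical
  have hs := hv.linearIndepOn_id
  set s := hs.extend (Set.subset_univ _) with hs_def
  let b : Basis s K V := Basis.extend hs
  haveI : Fintype s := FiniteDimensional.fintypeBasisIndex b
  have hsub : Set.range v ⊆ s := hs.subset_extend _
  obtain ⟨w, hws, hwv⟩ : ∃ w, w ∈ s ∧ w ∉ Set.range v := by
    by_contra hcon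
    push Not at hcon
    have h1 : s ⊆ Set.range v := fun w hw => hcon w hw
    have h2 : s = Set.range v := Set.Subset.antisymm h1 hsub
    have h3 : finrank K V = Fintype.card s := finrank_eq_card_basis b
    have h4 : Fintype.card s ≤ r := by
      have : Nat.card s = Nat.card (Set.range v) := by rw [h2]
      rw [← Nat.card_eq_fintype_card, this, Nat.card_eq_fintype_card]
      calc Fintype.card (Set.range v) ≤ Fintype.card (Fin r) := Fintype.card_range_le v
        _ = r := Fintype.card_fin r
    omega
  have hunit : IsUnit (1 + b.coord ⟨w, hws⟩ (((a : K) - 1) • b ⟨w, hws⟩)) := by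
    have : 1 + b.coord ⟨w, hws⟩ (((a : K) - 1) • b ⟨w, hws⟩) = (a : K) := by
      rw [map_smul, Basis.coord_apply, Basis.repr_self, Finsupp.single_eq_same, smul_eq_mul,
        mul_one]
      ring
    rw [this]
    exact a.isUnit
  refine ⟨LinearEquiv.dilatransvection hunit, ?_, ?_⟩
  · rw [← Units.val_inj, LinearEquiv.coe_det, LinearEquiv.dilatransvection.coe_toLinearMap,
      LinearMap.transvection.det]
    rw [map_smul, Basis.coord_apply, Basis.repr_self, Finsupp.single_eq_same, smul_eq_mul,
      mul_one]
    ring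
  · intro i
    rw [LinearEquiv.dilatransvection.apply]
    have hvi : v i ∈ s := hsub (Set.mem_range_self i)
    have hb : b ⟨v i, hvi⟩ = v i := Basis.extend_apply_self hs ⟨v i, hvi⟩
    have hne : (⟨v i, hvi⟩ : s) ≠ ⟨w, hws⟩ := by
      intro h
      apply hwv
      have h' : v i = w := Subtype.ext_iff.1 h
      rw [← h']
      exact Set.mem_range_self i
    have h0 : b.coord ⟨w, hws⟩ (v i) = 0 := by
      rw [← hb, Basis.coord_apply, Basis.repr_self, Finsupp.single_eq_of_ne hne.symm]
    rw [h0, zero_smul, add_zero]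

/-- transitivity on independent families which are not bases, with prescribed determinant -/
theorem exists_linearEquiv_det {r : ℕ} (v v' : Fin r → V) (hv : LinearIndependent K v)
    (hv' : LinearIndependent K v') (hr : r < finrank K V) (a : Kˣ) :
    ∃ g : V ≃ₗ[K] V, LinearEquiv.det g = a ∧ ∀ i, g (v i) = v' i := by
  let f := hv.linearCombinationEquiv.symm ≪≫ₗ hv'.linearCombinationEquiv
  haveI : FiniteDimensional K (Submodule.span K (Set.range v)) :=
    FiniteDimensional.span_of_finite K (Set.finite_range _)
  obtain ⟨g₀, hg₀⟩ := Submodule.exists_linearEquiv_restrict_eq f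
  have hg₀v : ∀ i, g₀ (v i) = v' i := by
    intro i
    have hmem : v i ∈ Submodule.span K (Set.range v) := Submodule.subset_span (Set.mem_range_self i)
    have h1 := hg₀ ⟨v i, hmem⟩
    have h2 : hv.linearCombinationEquiv (Finsupp.single i 1) = ⟨v i, hmem⟩ := by
      apply Subtype.ext; simp
    have h3 : (f ⟨v i, hmem⟩ : V) = v' i := by
      rw [← h2]
      simp [f]
    rw [← h3, h1]
  obtain ⟨h, hdet, hfix⟩ := exists_det_fix v' hv' hr (a * (LinearEquiv.det g₀)⁻¹)
  refine ⟨g₀.trans h, ?_, ?_⟩
  · have : g₀.trans h = h * g₀ := rfl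
    rw [this, map_mul, hdet, mul_assoc, inv_mul_cancel, mul_one]
  · intro i
    rw [LinearEquiv.trans_apply, hg₀v, hfix]

end Abstract

section Mat

open Matrix

variable {F : Type*} [Field F] {κ : Type*} [Fintype κ] [DecidableEq κ]

/-- matrix version: transitivity on independent families which are not bases, with prescribed
determinant -/
theorem exists_matrix_det {r : ℕ} (v v' : Fin r → (κ → F)) (hv : LinearIndependent F v)
    (hv' : LinearIndependent F v') (hr : r < Fintype.card κ) (a : Fˣ) :
    ∃ g g' : Matrix κ κ F, g' * g = 1 ∧ g * g' = 1 ∧ g.det = a ∧ ∀ i, g *ᵥ v i = v' i := by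
  have hr' : r < finrank F (κ → F) := by rw [Module.finrank_fintype_fun_eq_card]; exact hr
  obtain ⟨e, hdet, he⟩ := exists_linearEquiv_det v v' hv hv' hr' a
  refine ⟨LinearMap.toMatrix' e.toLinearMap, LinearMap.toMatrix' e.symm.toLinearMap, ?_, ?_, ?_, ?_⟩
  · rw [← LinearMap.toMatrix'_comp]
    have : e.symm.toLinearMap ∘ₗ e.toLinearMap = LinearMap.id := by
      ext x; simp
    rw [this, LinearMap.toMatrix'_id]
  · rw [← LinearMap.toMatrix'_comp]
    have : e.toLinearMap ∘ₗ e.symm.toLinearMap = LinearMap.id := by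
      ext x; simp
    rw [this, LinearMap.toMatrix'_id]
  · rw [LinearMap.det_toMatrix', ← hdet, LinearEquiv.coe_det]
  · intro i
    rw [LinearMap.toMatrix'_mulVec]
    exact he i

/-- `SL`-version: transitivity on nonzero vectors in dimension at least 2 -/
theorem exists_matrix_vec (hκ : 2 ≤ Fintype.card κ) {u u' : κ → F} (hu : u ≠ 0) (hu' : u' ≠ 0)
    (a : Fˣ) :
    ∃ g g' : Matrix κ κ F, g' * g = 1 ∧ g * g' = 1 ∧ g.det = a ∧ g *ᵥ u = u' := by
  have h1 : LinearIndependent F (fun _ : Fin 1 => u) :=
    LinearIndependent.of_subsingleton (0 : Fin 1) hu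
  have h1' : LinearIndependent F (fun _ : Fin 1 => u') :=
    LinearIndependent.of_subsingleton (0 : Fin 1) hu'
  obtain ⟨g, g', e1, e2, e3, e4⟩ := exists_matrix_det _ _ h1 h1' (by omega) a
  exact ⟨g, g', e1, e2, e3, e4 0⟩

/-- transitivity on independent pairs in dimension at least 3 -/
theorem exists_matrix_pair (hκ : 3 ≤ Fintype.card κ) {u w u' w' : κ → F}
    (h : LinearIndependent F ![u, w]) (h' : LinearIndependent F ![u', w']) (a : Fˣ) :
    ∃ g g' : Matrix κ κ F, g' * g = 1 ∧ g * g' = 1 ∧ g.det = a ∧ g *ᵥ u = u' ∧ g *ᵥ w = w' := by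
  obtain ⟨g, g', e1, e2, e3, e4⟩ := exists_matrix_det _ _ h h' (by omega) a
  exact ⟨g, g', e1, e2, e3, e4 0, e4 1⟩

end Mat

end Cfsg.Agent.Lib.Helper4.MinIdxW4
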