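import Mathlib
import Cfsg.Agent.Lib.Helper4.MinIdxW4d
import Cfsg.Agent.Lib.Helper4.MinIdxW4e

/-!
# S2140, package W4: the rank one class
-/

set_option autoImplicit false
set_option linter.unusedSectionVars false
set_option linter.unusedVariables false
set_option linter.unusedSimpArgs false

namespace Cfsg.Agent.Lib.Helper4.MinIdxW4

open Matrix Cfsg.Agent.Lib.Lead.MinIdx Cfsg.Agent.H9SLRoot

variable {F : Type*} [Field F] {κ : Type*} [Fintype κ] [DecidableEq κ]

attribute [local instance] actR

theorem leviConj_rank_one (hκ : 2 ≤ Fintype.card κ) {u u' : κ → F} {v v' : Fin 2 → F}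
    (hu : u ≠ 0) (hu' : u' ≠ 0) (hv : v ≠ 0) (hv' : v' ≠ 0) :
    LeviConj (vecMulVec u v) (vecMulVec u' v') := by
  obtain ⟨h, h', e1, e2, e3, e4⟩ := exists_matrix_vec hκ hu hu' (1 : Fˣ)
  obtain ⟨k, k', f1, f2, f3, f4⟩ := exists_matrix_vec (κ := Fin 2) (by simp) hv hv' (1 : Fˣ)
  have hdet' : h'.det = 1 := by
    have := congrArg Matrix.det e1
    rw [Matrix.det_mul, e3, Units.val_one, mul_one, Matrix.det_one] at this
    exact this
  refine ⟨kᵀ, k'ᵀ, h', h, ?_, ?_, e2, e1, ?_, ?_⟩
  · rw [← Matrix.transpose_mul, f2, Matrix.transpose_one]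
  · rw [← Matrix.transpose_mul, f1, Matrix.transpose_one]
  · rw [Matrix.det_transpose, f3, hdet', Units.val_one, one_mul]
  · rw [Matrix.mul_vecMulVec, Matrix.vecMulVec_mul, e4, Matrix.vecMul_transpose, f4]

/-- a nonzero matrix with two columns has rank one or independent columns -/
theorem rank_dichotomy {C : Matrix κ (Fin 2) F} (hC : C ≠ 0) :
    (∃ (u : κ → F) (v : Fin 2 → F), u ≠ 0 ∧ v ≠ 0 ∧ C = vecMulVec u v) ∨
      LinearIndependent F ![fun i => C i 0, fun i => C i 1] := by
  by_cases h0 : (fun i => C i 0) = 0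
  · left
    refine ⟨fun i => C i 1, ![0, 1], ?_, ?_, ?_⟩
    · intro h1
      apply hC
      ext i j
      fin_cases j
      · exact congrFun h0 i
      · exact congrFun h1 i
    · intro h
      have := congrFun h 1
      simp at this
    · ext i j
      fin_cases j
      · simp [vecMulVec_apply]; exact congrFun h0 i
      · simp [vecMulVec_apply]
  · by_cases hli : LinearIndependent F ![fun i => C i 0, fun i => C i 1]
    · right; exact hli
    · left
      rw [LinearIndependent.pair_iff' h0] at hli
      push Not at hli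
      obtain ⟨a, ha⟩ := hli
      refine ⟨fun i => C i 0, ![1, a], h0, ?_, ?_⟩
      · intro h
        have := congrFun h 0
        simp at this
      · ext i j
        fin_cases j
        · simp [vecMulVec_apply]
        · simp [vecMulVec_apply]
          have := congrFun ha i
          simp at this
          rw [← this, mul_comm]

variable [Fintype F] [DecidableEq F]

/-- a large set of rank one matrices -/
def rankOneSet (F : Type*) [Field F] [Fintype F] [DecidableEq F] (κ : Type*) [Fintype κ]
    [DecidableEq κ] : Finset (Matrix κ (Fin 2) F) :=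
  ((Finset.univ.filter (fun u : κ → F => u ≠ 0)) ×ˢ (Finset.univ : Finset F)).image
      (fun p => vecMulVec p.1 ![1, p.2]) ∪
    (Finset.univ.filter (fun u : κ → F => u ≠ 0)).image (fun u => vecMulVec u ![0, 1])

theorem card_nonzero :
    (Finset.univ.filter (fun u : κ → F => u ≠ 0)).card =
      Fintype.card F ^ Fintype.card κ - 1 := by
  rw [Finset.filter_ne', Finset.card_erase_of_mem (Finset.mem_univ _), Finset.card_univ,
    Fintype.card_fun]

theorem card_rankOneSet :
    (rankOneSet F κ).card =
      (Fintype.card F ^ Fintype.card κ - 1) * Fintype.card F +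
        (Fintype.card F ^ Fintype.card κ - 1) := by
  unfold rankOneSet
  rw [Finset.card_union_of_disjoint, Finset.card_image_of_injOn, Finset.card_image_of_injOn,
    Finset.card_product, card_nonzero, Finset.card_univ]
  · intro u hu u' hu' h
    funext i
    have := congrFun (congrFun h i) 1
    simpa [vecMulVec_apply] using this
  · rintro ⟨u, a⟩ hp ⟨u', a'⟩ hp' h
    have hu : u ≠ 0 := by
      have := (Finset.mem_product.1 (Finset.mem_coe.1 hp)).1
      exact (Finset.mem_filter.1 this).2
    have huu : u = u' := by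
      funext i
      have := congrFun (congrFun h i) 0
      simpa [vecMulVec_apply] using this
    subst huu
    obtain ⟨i, hi⟩ : ∃ i, u i ≠ 0 := by
      by_contra hne
      push Not at hne
      exact hu (funext hne)
    have := congrFun (congrFun h i) 1
    simp [vecMulVec_apply] at this
    rcases this with h1 | h1
    · rw [h1]
    · exact absurd h1 hi
  · rw [Finset.disjoint_left]
    intro C h1 h2
    obtain ⟨⟨u, a⟩, hp, rfl⟩ := Finset.mem_image.1 h1
    obtain ⟨u', hu', h⟩ := Finset.mem_image.1 h2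
    have hu : u ≠ 0 := (Finset.mem_filter.1 (Finset.mem_product.1 hp).1).2
    apply hu
    funext i
    have := congrFun (congrFun h i) 0
    simp [vecMulVec_apply] at this
    exact this.symm

theorem mem_rankOneSet {C : Matrix κ (Fin 2) F} (hC : C ∈ rankOneSet F κ) :
    ∃ (u : κ → F) (v : Fin 2 → F), u ≠ 0 ∧ v ≠ 0 ∧ C = vecMulVec u v := by
  unfold rankOneSet at hC
  rcases Finset.mem_union.1 hC with h | h
  · obtain ⟨⟨u, a⟩, hp, rfl⟩ := Finset.mem_image.1 h
    refine ⟨u, ![1, a], (Finset.mem_filter.1 (Finset.mem_product.1 hp).1).2, ?_, rfl⟩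
    intro h
    have := congrFun h 0
    simp at this
  · obtain ⟨u, hu, rfl⟩ := Finset.mem_image.1 h
    refine ⟨u, ![0, 1], (Finset.mem_filter.1 hu).2, ?_, rfl⟩
    intro h
    have := congrFun h 1
    simp at this

theorem vecMulVec_ne_zero {u : κ → F} {v : Fin 2 → F} (hu : u ≠ 0) (hv : v ≠ 0) :
    vecMulVec u v ≠ 0 := by
  intro h
  obtain ⟨i, hi⟩ : ∃ i, u i ≠ 0 := by
    by_contra hne
    push Not at hne
    exact hu (funext hne)
  obtain ⟨j, hj⟩ : ∃ j, v j ≠ 0 := by
    by_contra hne
    push Not at hne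
    exact hv (funext hne)
  have := congrFun (congrFun h i) j
  simp [vecMulVec_apply] at this
  rcases this with h1 | h1
  · exact hi h1
  · exact hj h1

/-- rank one characters have multiplicity zero if the index is at most `q^(k+1)` -/
theorem pmult_rank_one_eq_zero (hκ : 2 ≤ Fintype.card κ)
    (M : Subgroup (Matrix.SpecialLinearGroup (Fin 2 ⊕ κ) F)) [M.FiniteIndex]
    (hidx : M.index ≤ Fintype.card F ^ (Fintype.card κ + 1))
    {ψ : Multiplicative F →* ℂˣ} (hψ : ψ ≠ 1) {u : κ → F} {v : Fin 2 → F} (hu : u ≠ 0)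
    (hv : v ≠ 0) :
    pmult (Matrix.SpecialLinearGroup (Fin 2 ⊕ κ) F ⧸ M) (chi ψ (vecMulVec u v)) = 0 := by
  refine pmult_chi_eq_zero M hψ (rankOneSet F κ) ?_ ?_ ?_
  · intro h0
    obtain ⟨u', v', hu', hv', h⟩ := mem_rankOneSet h0
    exact vecMulVec_ne_zero hu' hv' h.symm
  · intro C' hC'
    obtain ⟨u', v', hu', hv', rfl⟩ := mem_rankOneSet hC'
    exact leviConj_rank_one hκ hu hu' hv hv'
  · rw [card_rankOneSet]
    refine hidx.trans ?_
    have hq : 2 ≤ Fintype.card F := Fintype.one_lt_card
    set q := Fintype.card F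
    set k := Fintype.card κ
    have hQ : q + 1 ≤ q ^ k := by
      calc q + 1 ≤ q * q := by nlinarith
        _ = q ^ 2 := (sq q).symm
        _ ≤ q ^ k := Nat.pow_le_pow_right (by omega) hκ
    obtain ⟨Q', hQ'⟩ : ∃ Q', q ^ k = Q' + 1 := ⟨q ^ k - 1, by omega⟩
    rw [pow_succ, hQ', Nat.add_sub_cancel]
    nlinarith

end Cfsg.Agent.Lib.Helper4.MinIdxW4
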