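import Mathlib
import Cfsg.Agent.Lib.Helper4.MinIdxW4f

/-!
# S2140, package W4: the rank two class in dimension at least 5, and the theorem for `n ≥ 5`
(on the index type `Fin 2 ⊕ κ`)
-/

set_option autoImplicit false
set_option linter.unusedSectionVars false
set_option linter.unusedVariables false
set_option linter.unusedSimpArgs false

namespace Cfsg.Agent.Lib.Helper4.MinIdxW4

open Matrix Cfsg.Agent.Lib.Lead.MinIdx Cfsg.Agent.H9SLRoot

variable {F : Type*} [Field F] {κ : Type*} [Fintype κ] [DecidableEq κ]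

attribute [local instance] actR

/-- the matrix with columns `u`, `w` -/
def colMat (u w : κ → F) : Matrix κ (Fin 2) F := Matrix.of fun i j => ![u, w] j i

theorem colMat_zero (u w : κ → F) : (fun i => colMat u w i 0) = u := rfl
theorem colMat_one (u w : κ → F) : (fun i => colMat u w i 1) = w := rfl

theorem colMat_cols (C : Matrix κ (Fin 2) F) : colMat (fun i => C i 0) (fun i => C i 1) = C := by
  ext i j
  fin_cases j <;> rfl

theorem leviConj_rank_two (hκ : 3 ≤ Fintype.card κ) {C C' : Matrix κ (Fin 2) F}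
    (h : LinearIndependent F ![fun i => C i 0, fun i => C i 1])
    (h' : LinearIndependent F ![fun i => C' i 0, fun i => C' i 1]) : LeviConj C C' := by
  obtain ⟨g, g', e1, e2, e3, e4, e5⟩ := exists_matrix_pair hκ h h' (1 : Fˣ)
  have hdet' : g'.det = 1 := by
    have := congrArg Matrix.det e1
    rw [Matrix.det_mul, e3, Units.val_one, mul_one, Matrix.det_one] at this
    exact this
  refine ⟨1, 1, g', g, Matrix.one_mul 1, Matrix.one_mul 1, e2, e1, ?_, ?_⟩
  · rw [Matrix.det_one, hdet', one_mul]
  · rw [Matrix.mul_one]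
    ext i j
    have key : ∀ j, (g * C) i j = (g *ᵥ fun i => C i j) i := fun j => rfl
    rw [key]
    have hj : j = 0 ∨ j = 1 := by fin_cases j <;> simp
    rcases hj with rfl | rfl
    · rw [e4]
    · rw [e5]

variable [Fintype F] [DecidableEq F]

/-- pairs `(u, w)` with `u ≠ 0` and `w` not a multiple of `u` -/
def pairsSet (F : Type*) [Field F] [Fintype F] [DecidableEq F] (κ : Type*) [Fintype κ]
    [DecidableEq κ] : Finset (Σ _ : κ → F, κ → F) :=
  (Finset.univ.filter (fun u : κ → F => u ≠ 0)).sigma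
    (fun u => Finset.univ \ Finset.univ.image (fun a : F => a • u))

theorem card_pairsSet :
    (pairsSet F κ).card =
      (Fintype.card F ^ Fintype.card κ - 1) * (Fintype.card F ^ Fintype.card κ - Fintype.card F) := by
  unfold pairsSet
  rw [Finset.card_sigma]
  have : ∀ u ∈ Finset.univ.filter (fun u : κ → F => u ≠ 0),
      (Finset.univ \ Finset.univ.image (fun a : F => a • u)).card =
        Fintype.card F ^ Fintype.card κ - Fintype.card F := by
    intro u hu
    have hu0 : u ≠ 0 := (Finset.mem_filter.1 hu).2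
    rw [Finset.card_sdiff_of_subset (Finset.subset_univ _), Finset.card_univ, Fintype.card_fun,
      Finset.card_image_of_injective, Finset.card_univ]
    intro a a' haa
    by_contra hne
    apply hu0
    have h1 : (a - a') • u = 0 := by rw [sub_smul]; exact sub_eq_zero.2 haa
    rcases smul_eq_zero.1 h1 with h2 | h2
    · exact absurd (sub_eq_zero.1 h2) hne
    · exact h2
  rw [Finset.sum_congr rfl this, Finset.sum_const, card_nonzero, smul_eq_mul]

theorem pairsSet_indep {p : Σ _ : κ → F, κ → F} (hp : p ∈ pairsSet F κ) :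
    LinearIndependent F ![p.1, p.2] := by
  unfold pairsSet at hp
  rw [Finset.mem_sigma] at hp
  have hu0 : p.1 ≠ 0 := (Finset.mem_filter.1 hp.1).2
  rw [LinearIndependent.pair_iff' hu0]
  intro a ha
  have := (Finset.mem_sdiff.1 hp.2).2
  exact this (Finset.mem_image.2 ⟨a, Finset.mem_univ _, ha⟩)

/-- rank two characters have multiplicity zero if `k ≥ 3` and the index is at most `q^(k+1)` -/
theorem pmult_rank_two_eq_zero (hκ : 3 ≤ Fintype.card κ)
    (M : Subgroup (Matrix.SpecialLinearGroup (Fin 2 ⊕ κ) F)) [M.FiniteIndex]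
    (hidx : M.index ≤ Fintype.card F ^ (Fintype.card κ + 1))
    {ψ : Multiplicative F →* ℂˣ} (hψ : ψ ≠ 1) {C : Matrix κ (Fin 2) F}
    (hC : LinearIndependent F ![fun i => C i 0, fun i => C i 1]) :
    pmult (Matrix.SpecialLinearGroup (Fin 2 ⊕ κ) F ⧸ M) (chi ψ C) = 0 := by
  refine pmult_chi_eq_zero M hψ ((pairsSet F κ).image (fun p => colMat p.1 p.2)) ?_ ?_ ?_
  · intro h0
    obtain ⟨p, hp, h⟩ := Finset.mem_image.1 h0
    have hli := pairsSet_indep hp
    have : p.1 = 0 := by
      rw [← colMat_zero p.1 p.2, h]; rfl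
    exact hli.ne_zero 0 this
  · intro C' hC'
    obtain ⟨p, hp, rfl⟩ := Finset.mem_image.1 hC'
    exact leviConj_rank_two hκ hC (pairsSet_indep hp)
  · rw [Finset.card_image_of_injective, card_pairsSet]
    · refine hidx.trans ?_
      have hq : 2 ≤ Fintype.card F := Fintype.one_lt_card
      set q := Fintype.card F
      set k := Fintype.card κ
      have hQ : 2 * q + 1 ≤ q ^ k := by
        calc 2 * q + 1 ≤ q * q * q := by nlinarith
          _ = q ^ 3 := by ring
          _ ≤ q ^ k := Nat.pow_le_pow_right (by omega) hκ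
      obtain ⟨Q', hQ'⟩ : ∃ Q', q ^ k = Q' + (2 * q + 1) := ⟨q ^ k - (2 * q + 1), by omega⟩
      rw [pow_succ, hQ']
      have e1 : Q' + (2 * q + 1) - 1 = Q' + 2 * q := by omega
      have e2 : Q' + (2 * q + 1) - q = Q' + q + 1 := by omega
      rw [e1, e2]
      nlinarith
    · intro p p' h
      have h' : colMat p.1 p.2 = colMat p'.1 p'.2 := h
      have h0 : p.1 = p'.1 := by rw [← colMat_zero p.1 p.2, h']; rfl
      have h1 : p.2 = p'.2 := by rw [← colMat_one p.1 p.2, h']; rfl
      cases p; cases p'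
      simp only at h0 h1
      subst h0; subst h1
      rfl

/-- **W4 for `n ≥ 5`**, on the index type `Fin 2 ⊕ κ` -/
theorem no_transvFree'_of_three_le (hκ : 3 ≤ Fintype.card κ)
    (M : Subgroup (Matrix.SpecialLinearGroup (Fin 2 ⊕ κ) F))
    (hidx : M.index = Fintype.card F ^ (Fintype.card κ + 1)) (hTF : TransvFree' M) : False := by
  haveI : M.FiniteIndex := ⟨by rw [hidx]; exact pow_ne_zero _ Fintype.card_ne_zero⟩
  haveI : Nonempty κ := Fintype.card_pos_iff.1 (by omega)
  obtain ⟨ψ, hψ⟩ := exists_psi (F := F)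
  apply not_transvFree_of_uSL_mem M hTF
  apply uSL_mem_of_pmult_eq_zero M hψ
  intro C hC
  rcases rank_dichotomy hC with ⟨u, v, hu, hv, rfl⟩ | hli
  · exact pmult_rank_one_eq_zero (by omega) M hidx.le hψ hu hv
  · exact pmult_rank_two_eq_zero hκ M hidx.le hψ hli

end Cfsg.Agent.Lib.Helper4.MinIdxW4
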