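import Mathlib
import Cfsg.Agent.Lib.Helper4.MinIdxW4g

/-!
# S2140, package W4: `n = 4`, the classes of invertible matrices
-/

set_option autoImplicit false
set_option linter.unusedSectionVars false
set_option linter.unusedVariables false
set_option linter.unusedSimpArgs false

namespace Cfsg.Agent.Lib.Helper4.MinIdxW4

open Matrix Cfsg.Agent.Lib.Lead.MinIdx Cfsg.Agent.H9SLRoot

variable {F : Type*} [Field F]

attribute [local instance] actR

/-- two invertible matrices whose determinants differ by a square are Levi conjugate -/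
theorem leviConj_of_det {C C' : Matrix (Fin 2) (Fin 2) F} (hC : C.det ≠ 0) {s : F} (hs : s ≠ 0)
    (h : C'.det = C.det * s ^ 2) : LeviConj C C' := by
  have hC' : C'.det ≠ 0 := by rw [h]; exact mul_ne_zero hC (pow_ne_zero 2 hs)
  have uC : IsUnit C.det := isUnit_iff_ne_zero.2 hC
  have uC' : IsUnit C'.det := isUnit_iff_ne_zero.2 hC'
  have d1 : (Matrix.diagonal ![s⁻¹, 1] : Matrix (Fin 2) (Fin 2) F) * Matrix.diagonal ![s, 1] = 1 := by
    rw [Matrix.diagonal_mul_diagonal]
    ext i j
    fin_cases i <;> fin_cases j <;> simp [hs]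
  have d2 : (Matrix.diagonal ![s, 1] : Matrix (Fin 2) (Fin 2) F) * Matrix.diagonal ![s⁻¹, 1] = 1 := by
    rw [Matrix.diagonal_mul_diagonal]
    ext i j
    fin_cases i <;> fin_cases j <;> simp [hs]
  refine ⟨Matrix.diagonal ![s, 1], Matrix.diagonal ![s⁻¹, 1], C * Matrix.diagonal ![s, 1] * C'⁻¹,
    C' * Matrix.diagonal ![s⁻¹, 1] * C⁻¹, d1, d2, ?_, ?_, ?_, ?_⟩
  · calc C' * Matrix.diagonal ![s⁻¹, 1] * C⁻¹ * (C * Matrix.diagonal ![s, 1] * C'⁻¹)
        = C' * Matrix.diagonal ![s⁻¹, 1] * (C⁻¹ * C) * Matrix.diagonal ![s, 1] * C'⁻¹ := by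
          simp only [Matrix.mul_assoc]
      _ = C' * (Matrix.diagonal ![s⁻¹, 1] * Matrix.diagonal ![s, 1]) * C'⁻¹ := by
          rw [Matrix.nonsing_inv_mul _ uC, Matrix.mul_one, Matrix.mul_assoc C']
      _ = 1 := by rw [d1, Matrix.mul_one, Matrix.mul_nonsing_inv _ uC']
  · calc C * Matrix.diagonal ![s, 1] * C'⁻¹ * (C' * Matrix.diagonal ![s⁻¹, 1] * C⁻¹)
        = C * Matrix.diagonal ![s, 1] * (C'⁻¹ * C') * Matrix.diagonal ![s⁻¹, 1] * C⁻¹ := by
          simp only [Matrix.mul_assoc]
      _ = C * (Matrix.diagonal ![s, 1] * Matrix.diagonal ![s⁻¹, 1]) * C⁻¹ := by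
          rw [Matrix.nonsing_inv_mul _ uC', Matrix.mul_one, Matrix.mul_assoc C]
      _ = 1 := by rw [d2, Matrix.mul_one, Matrix.mul_nonsing_inv _ uC]
  · rw [Matrix.det_mul, Matrix.det_mul, Matrix.det_nonsing_inv, Matrix.det_diagonal, h,
      Fin.prod_univ_two]
    simp only [Matrix.cons_val_zero, Matrix.cons_val_one, mul_one]
    rw [Ring.inverse_eq_inv']
    field_simp
  · calc C' = C' * (Matrix.diagonal ![s⁻¹, 1] * Matrix.diagonal ![s, 1]) := by
          rw [d1, Matrix.mul_one]
      _ = C' * Matrix.diagonal ![s⁻¹, 1] * (C⁻¹ * C) * Matrix.diagonal ![s, 1] := by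
          rw [Matrix.nonsing_inv_mul _ uC, Matrix.mul_one, Matrix.mul_assoc]
      _ = C' * Matrix.diagonal ![s⁻¹, 1] * C⁻¹ * C * Matrix.diagonal ![s, 1] := by
          simp only [Matrix.mul_assoc]

/-- independent columns of a square matrix of size 2 means nonzero determinant -/
theorem det_ne_zero_of_indep {C : Matrix (Fin 2) (Fin 2) F}
    (h : LinearIndependent F ![fun i => C i 0, fun i => C i 1]) : C.det ≠ 0 := by
  intro hdet
  have h0 : (fun i => C i 0) ≠ 0 := h.ne_zero 0
  rw [LinearIndependent.pair_iff' h0] at h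
  rw [Matrix.det_fin_two] at hdet
  by_cases h00 : C 0 0 = 0
  · have h10 : C 1 0 ≠ 0 := by
      intro h10
      apply h0
      funext i
      fin_cases i
      · exact h00
      · exact h10
    apply h (C 1 1 / C 1 0)
    funext i
    fin_cases i
    · simp only [Pi.smul_apply, smul_eq_mul, Fin.zero_eta, h00, mul_zero]
      rw [h00, zero_mul, zero_sub, neg_eq_zero] at hdet
      rcases mul_eq_zero.1 hdet with h1 | h1
      · exact h1.symm
      · exact absurd h1 h10
    · simp only [Pi.smul_apply, smul_eq_mul, Fin.mk_one]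
      field_simp
  · apply h (C 0 1 / C 0 0)
    funext i
    fin_cases i
    · simp only [Pi.smul_apply, smul_eq_mul, Fin.zero_eta]
      field_simp
    · simp only [Pi.smul_apply, smul_eq_mul, Fin.mk_one]
      field_simp
      linear_combination -hdet

end Cfsg.Agent.Lib.Helper4.MinIdxW4
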