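import Mathlib
import Cfsg.Agent.Lib.Helper4.MinIdxW4h

/-!
# S2140, package W4: `n = 4`, counting the classes of invertible matrices
-/

set_option autoImplicit false
set_option linter.unusedSectionVars false
set_option linter.unusedVariables false
set_option linter.unusedSimpArgs false

namespace Cfsg.Agent.Lib.Helper4.MinIdxW4

open Matrix Cfsg.Agent.Lib.Lead.MinIdx Cfsg.Agent.H9SLRoot

variable {F : Type*} [Field F] [Fintype F] [DecidableEq F]

attribute [local instance] actR

/-- the nonzero squares -/
def sqSet (F : Type*) [Field F] [Fintype F] [DecidableEq F] : Finset F :=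
  (Finset.univ.filter (fun s : F => s ≠ 0)).image (fun s => s ^ 2)

theorem card_sqSet : Fintype.card F - 1 ≤ 2 * (sqSet F).card := by
  have h := Finset.card_le_mul_card_image (f := fun s : F => s ^ 2)
    (Finset.univ.filter (fun s : F => s ≠ 0)) 2 (by
      intro b hb
      obtain ⟨y, hy, rfl⟩ := Finset.mem_image.1 hb
      have : (Finset.univ.filter (fun s : F => s ≠ 0)).filter (fun a => a ^ 2 = y ^ 2) ⊆ {y, -y} := by
        intro a ha
        have h2 : a ^ 2 = y ^ 2 := (Finset.mem_filter.1 ha).2
        have h3 : (a - y) * (a + y) = 0 := by linear_combination h2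
        rcases mul_eq_zero.1 h3 with h4 | h4
        · rw [sub_eq_zero.1 h4]; simp
        · rw [eq_neg_of_add_eq_zero_left h4]; simp
      exact (Finset.card_le_card this).trans Finset.card_le_two)
  have e : (Finset.univ.filter (fun s : F => s ≠ 0)).card = Fintype.card F - 1 := by
    rw [Finset.filter_ne', Finset.card_erase_of_mem (Finset.mem_univ _), Finset.card_univ]
  rw [e] at h
  exact h

theorem mem_sqSet {t : F} (ht : t ∈ sqSet F) : ∃ s : F, s ≠ 0 ∧ t = s ^ 2 := by
  obtain ⟨s, hs, rfl⟩ := Finset.mem_image.1 ht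
  exact ⟨s, (Finset.mem_filter.1 hs).2, rfl⟩

/-- first family: upper left entry nonzero -/
def detClassA (δ : F) : Finset (Matrix (Fin 2) (Fin 2) F) :=
  ((Finset.univ.filter (fun a : F => a ≠ 0)) ×ˢ (Finset.univ : Finset F) ×ˢ
    (Finset.univ : Finset F) ×ˢ sqSet F).image
    (fun p => !![p.1, p.2.1; p.2.2.1, (δ * p.2.2.2 + p.2.1 * p.2.2.1) / p.1])

/-- second family: upper left entry zero -/
def detClassB (δ : F) : Finset (Matrix (Fin 2) (Fin 2) F) :=
  ((Finset.univ.filter (fun b : F => b ≠ 0)) ×ˢ (Finset.univ : Finset F) ×ˢ sqSet F).image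
    (fun p => !![0, p.1; -(δ * p.2.2) / p.1, p.2.1])

/-- matrices with determinant in `δ (Fˣ)²` -/
def detClass (δ : F) : Finset (Matrix (Fin 2) (Fin 2) F) := detClassA δ ∪ detClassB δ

theorem card_detClassA {δ : F} (hδ : δ ≠ 0) :
    (detClassA δ).card = (Fintype.card F - 1) * (Fintype.card F * (Fintype.card F * (sqSet F).card)) := by
  unfold detClassA
  rw [Finset.card_image_of_injOn, Finset.card_product, Finset.card_product, Finset.card_product,
    Finset.filter_ne', Finset.card_erase_of_mem (Finset.mem_univ _), Finset.card_univ]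
  rintro ⟨a, b, c, t⟩ hp ⟨a', b', c', t'⟩ hp' h
  have ha : a ≠ 0 := (Finset.mem_filter.1 (Finset.mem_product.1 (Finset.mem_coe.1 hp)).1).2
  simp only at h
  have h00 := congrFun (congrFun h 0) 0
  have h01 := congrFun (congrFun h 0) 1
  have h10 := congrFun (congrFun h 1) 0
  have h11 := congrFun (congrFun h 1) 1
  simp at h00 h01 h10 h11
  subst h00; subst h01; subst h10
  have : δ * t = δ * t' := by
    field_simp at h11
    linear_combination h11
  have := mul_left_cancel₀ hδ this
  subst this
  rfl

theorem card_detClassB {δ : F} (hδ : δ ≠ 0) :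
    (detClassB δ).card = (Fintype.card F - 1) * (Fintype.card F * (sqSet F).card) := by
  unfold detClassB
  rw [Finset.card_image_of_injOn, Finset.card_product, Finset.card_product,
    Finset.filter_ne', Finset.card_erase_of_mem (Finset.mem_univ _), Finset.card_univ]
  rintro ⟨b, d, t⟩ hp ⟨b', d', t'⟩ hp' h
  have hb : b ≠ 0 := (Finset.mem_filter.1 (Finset.mem_product.1 (Finset.mem_coe.1 hp)).1).2
  simp only at h
  have h01 := congrFun (congrFun h 0) 1
  have h10 := congrFun (congrFun h 1) 0
  have h11 := congrFun (congrFun h 1) 1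
  simp at h01 h10 h11
  subst h01; subst h11
  have : t = t' := by
    field_simp at h10
    linear_combination -h10
  subst this
  rfl

theorem card_detClass {δ : F} (hδ : δ ≠ 0) :
    (detClass δ).card =
      (Fintype.card F - 1) * (Fintype.card F * (Fintype.card F * (sqSet F).card)) +
        (Fintype.card F - 1) * (Fintype.card F * (sqSet F).card) := by
  unfold detClass
  rw [Finset.card_union_of_disjoint, card_detClassA hδ, card_detClassB hδ]
  rw [Finset.disjoint_left]
  intro C h1 h2
  unfold detClassA at h1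
  unfold detClassB at h2
  obtain ⟨⟨a, b, c, t⟩, hp, rfl⟩ := Finset.mem_image.1 h1
  obtain ⟨⟨b', d', t'⟩, hp', h⟩ := Finset.mem_image.1 h2
  have ha : a ≠ 0 := (Finset.mem_filter.1 (Finset.mem_product.1 hp).1).2
  have h00 := congrFun (congrFun h 0) 0
  simp at h00
  exact ha h00.symm

theorem det_of_mem_detClass {δ : F} {C : Matrix (Fin 2) (Fin 2) F} (hC : C ∈ detClass δ) :
    ∃ s : F, s ≠ 0 ∧ C.det = δ * s ^ 2 := by
  unfold detClass at hC
  rcases Finset.mem_union.1 hC with h | h
  · unfold detClassA at h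
    obtain ⟨⟨a, b, c, t⟩, hp, rfl⟩ := Finset.mem_image.1 h
    have ha : a ≠ 0 := (Finset.mem_filter.1 (Finset.mem_product.1 hp).1).2
    have ht : t ∈ sqSet F :=
      (Finset.mem_product.1 (Finset.mem_product.1 (Finset.mem_product.1 hp).2).2).2
    obtain ⟨s, hs, rfl⟩ := mem_sqSet ht
    refine ⟨s, hs, ?_⟩
    rw [Matrix.det_fin_two_of]
    field_simp
    ring
  · unfold detClassB at h
    obtain ⟨⟨b, d, t⟩, hp, rfl⟩ := Finset.mem_image.1 h
    have hb : b ≠ 0 := (Finset.mem_filter.1 (Finset.mem_product.1 hp).1).2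
    have ht : t ∈ sqSet F := (Finset.mem_product.1 (Finset.mem_product.1 hp).2).2
    obtain ⟨s, hs, rfl⟩ := mem_sqSet ht
    refine ⟨s, hs, ?_⟩
    rw [Matrix.det_fin_two_of]
    field_simp
    ring

end Cfsg.Agent.Lib.Helper4.MinIdxW4
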