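import Mathlib
import Cfsg.Agent.Lib.Helper4.MinIdxW4i

/-!
# S2140, package W4: `n = 4`, `q ≥ 4`
-/

set_option autoImplicit false
set_option linter.unusedSectionVars false
set_option linter.unusedVariables false
set_option linter.unusedSimpArgs false

namespace Cfsg.Agent.Lib.Helper4.MinIdxW4

open Matrix Cfsg.Agent.Lib.Lead.MinIdx Cfsg.Agent.H9SLRoot

variable {F : Type*} [Field F] [Fintype F] [DecidableEq F]

attribute [local instance] actR

theorem zero_not_mem_detClass {δ : F} (hδ : δ ≠ 0) :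
    (0 : Matrix (Fin 2) (Fin 2) F) ∉ detClass δ := by
  intro h
  obtain ⟨s, hs, h1⟩ := det_of_mem_detClass h
  rw [Matrix.det_zero] at h1
  exact mul_ne_zero hδ (pow_ne_zero 2 hs) h1.symm

theorem leviConj_of_mem_detClass {C C' : Matrix (Fin 2) (Fin 2) F} (hC : C.det ≠ 0)
    (h : C' ∈ detClass C.det) : LeviConj C C' := by
  obtain ⟨s, hs, h1⟩ := det_of_mem_detClass h
  exact leviConj_of_det hC hs h1

/-- invertible characters have multiplicity zero when `q ≥ 4` and the index is at most `q³` -/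
theorem pmult_det_eq_zero (hq : 4 ≤ Fintype.card F)
    (M : Subgroup (Matrix.SpecialLinearGroup (Fin 2 ⊕ Fin 2) F)) [M.FiniteIndex]
    (hidx : M.index ≤ Fintype.card F ^ 3)
    {ψ : Multiplicative F →* ℂˣ} (hψ : ψ ≠ 1) {C : Matrix (Fin 2) (Fin 2) F} (hC : C.det ≠ 0) :
    pmult (Matrix.SpecialLinearGroup (Fin 2 ⊕ Fin 2) F ⧸ M) (chi ψ C) = 0 := by
  refine pmult_chi_eq_zero M hψ (detClass C.det) (zero_not_mem_detClass hC)
    (fun C' hC' => leviConj_of_mem_detClass hC hC') ?_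
  rw [card_detClass hC]
  refine hidx.trans ?_
  have hs := card_sqSet (F := F)
  set q := Fintype.card F
  set s := (sqSet F).card
  obtain ⟨r, hr⟩ : ∃ r, q = r + 4 := ⟨q - 4, by omega⟩
  rw [hr] at hs ⊢
  have e1 : r + 4 - 1 = r + 3 := by omega
  rw [e1] at hs ⊢
  have h2 : 2 * (r + 4) ^ 3 ≤ 2 * ((r + 3) * ((r + 4) * ((r + 4) * s)) + (r + 3) * ((r + 4) * s)) := by
    have h3 : (r + 3) * ((r + 4) * ((r + 4) * (2 * s)) + (r + 4) * (2 * s)) ≥
        (r + 3) * ((r + 4) * ((r + 4) * (r + 3)) + (r + 4) * (r + 3)) := by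
      apply Nat.mul_le_mul_left
      apply Nat.add_le_add
      · apply Nat.mul_le_mul_left
        apply Nat.mul_le_mul_left
        exact hs
      · apply Nat.mul_le_mul_left
        exact hs
    have h4 : 2 * (r + 4) ^ 3 ≤ (r + 3) * ((r + 4) * ((r + 4) * (r + 3)) + (r + 4) * (r + 3)) := by
      ring_nf
      nlinarith [Nat.zero_le r, Nat.zero_le (r * r), Nat.zero_le (r * r * r)]
    calc 2 * (r + 4) ^ 3 ≤ (r + 3) * ((r + 4) * ((r + 4) * (r + 3)) + (r + 4) * (r + 3)) := h4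
      _ ≤ (r + 3) * ((r + 4) * ((r + 4) * (2 * s)) + (r + 4) * (2 * s)) := h3
      _ = 2 * ((r + 3) * ((r + 4) * ((r + 4) * s)) + (r + 3) * ((r + 4) * s)) := by ring
  omega

/-- **W4 for `n = 4`, `q ≥ 4`**, on the index type `Fin 2 ⊕ Fin 2` -/
theorem no_transvFree'_four_of_four_le (hq : 4 ≤ Fintype.card F)
    (M : Subgroup (Matrix.SpecialLinearGroup (Fin 2 ⊕ Fin 2) F))
    (hidx : M.index = Fintype.card F ^ 3) (hTF : TransvFree' M) : False := by
  haveI : M.FiniteIndex := ⟨by rw [hidx]; exact pow_ne_zero _ Fintype.card_ne_zero⟩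
  obtain ⟨ψ, hψ⟩ := exists_psi (F := F)
  apply not_transvFree_of_uSL_mem M hTF
  apply uSL_mem_of_pmult_eq_zero M hψ
  intro C hC
  rcases rank_dichotomy hC with ⟨u, v, hu, hv, rfl⟩ | hli
  · exact pmult_rank_one_eq_zero (by simp) M (by rw [hidx]; simp) hψ hu hv
  · exact pmult_det_eq_zero hq M hidx.le hψ (det_ne_zero_of_indep hli)

end Cfsg.Agent.Lib.Helper4.MinIdxW4
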