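import Mathlib
import Cfsg.Agent.Lib.Helper4.MinIdxW4j

/-!
# S2140, package W4: `n = 4`, `q = 3`, auxiliary results
-/

set_option autoImplicit false
set_option linter.unusedSectionVars false
set_option linter.unusedVariables false
set_option linter.unusedSimpArgs false

namespace Cfsg.Agent.Lib.Helper4.MinIdxW4

open Matrix Cfsg.Agent.Lib.Lead.MinIdx Cfsg.Agent.H9SLRoot

section General

variable {R : Type*} [CommGroup R] [Finite R] {Ω : Type*} [Finite Ω] [MulAction R Ω]

/-- if every orbit has at most `c` elements, then `|Ω| ≤ c · #orbits` -/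
theorem card_le_mul_card_orbits (c : ℕ)
    (h : ∀ ω : Ω, (MulAction.stabilizer R ω).index ≤ c) :
    Nat.card Ω ≤ c * Nat.card (MulAction.orbitRel.Quotient R Ω) := by
  classical
  haveI : Fintype (MulAction.orbitRel.Quotient R Ω) := Fintype.ofFinite _
  rw [Nat.card_congr (MulAction.selfEquivSigmaOrbits' R Ω), Nat.card_sigma]
  calc ∑ o : MulAction.orbitRel.Quotient R Ω, Nat.card o.orbit
      ≤ ∑ _o : MulAction.orbitRel.Quotient R Ω, c := by
        apply Finset.sum_le_sum
        intro o _
        rw [MulAction.orbitRel.Quotient.orbit_eq_orbit_out o Quotient.out_eq', Nat.card_coe_set_eq,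
          ← MulAction.index_stabilizer]
        exact h _
    _ = c * Nat.card (MulAction.orbitRel.Quotient R Ω) := by
        rw [Finset.sum_const, Finset.card_univ, smul_eq_mul, mul_comm, Nat.card_eq_fintype_card]

end General

variable {F : Type*} [Field F] {κ : Type*} [Fintype κ] [DecidableEq κ]

/-- the annihilator of a subgroup of the radical in the dual -/
def annih (ψ : Multiplicative F →* ℂˣ) (S : Subgroup (Multiplicative (Matrix (Fin 2) κ F))) :
    AddSubgroup (Matrix κ (Fin 2) F) where
  carrier := {C | S ≤ (chi ψ C).ker}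
  zero_mem' := by
    intro x _
    rw [MonoidHom.mem_ker, chi_zero, MonoidHom.one_apply]
  add_mem' := by
    intro C C' hC hC' x hx
    rw [MonoidHom.mem_ker, chi_add, MonoidHom.mul_apply, (MonoidHom.mem_ker).1 (hC hx),
      (MonoidHom.mem_ker).1 (hC' hx), one_mul]
  neg_mem' := by
    intro C hC x hx
    have := chi_sub_apply ψ 0 C x
    rw [zero_sub] at this
    rw [MonoidHom.mem_ker, this, chi_zero, MonoidHom.one_apply, (MonoidHom.mem_ker).1 (hC hx),
      inv_one, one_mul]

theorem mem_annih {ψ : Multiplicative F →* ℂˣ} {S : Subgroup (Multiplicative (Matrix (Fin 2) κ F))}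
    {C : Matrix κ (Fin 2) F} : C ∈ annih ψ S ↔ S ≤ (chi ψ C).ker := Iff.rfl

theorem card_annih [Finite F] {ψ : Multiplicative F →* ℂˣ} (hψ : ψ ≠ 1)
    (S : Subgroup (Multiplicative (Matrix (Fin 2) κ F))) :
    Nat.card (annih ψ S) = S.index := by
  rw [← card_char_trivial_on S]
  exact Nat.card_congr (Equiv.subtypeEquiv
    (Equiv.ofBijective (chi ψ) ⟨chi_injective hψ, chi_surjective hψ⟩) (fun C => Iff.rfl))

section Three

variable [Fintype F] [DecidableEq F]

theorem three_eq_zero (h3 : Fintype.card F = 3) : (3 : F) = 0 := by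
  have := Nat.cast_card_eq_zero F
  rw [h3] at this
  exact_mod_cast this

theorem two_ne_zero_of_card (h3 : Fintype.card F = 3) : (2 : F) ≠ 0 := by
  intro h2
  have h := three_eq_zero h3
  have : (1 : F) = 0 := by linear_combination h - h2
  exact one_ne_zero this

theorem sq_eq_one_of_card (h3 : Fintype.card F = 3) {s : F} (hs : s ≠ 0) : s ^ 2 = 1 := by
  have := FiniteField.pow_card_sub_one_eq_one s hs
  rw [h3] at this
  exact this

/-- parallelogram law for the determinant of 2 × 2 matrices -/
theorem det_add_add_det_sub (A B : Matrix (Fin 2) (Fin 2) F) :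
    (A + B).det + (A - B).det = 2 * A.det + 2 * B.det := by
  rw [Matrix.det_fin_two, Matrix.det_fin_two, Matrix.det_fin_two, Matrix.det_fin_two]
  simp only [Matrix.add_apply, Matrix.sub_apply]
  ring

/-- polarisation: an additive group of matrices over `F₃` with constant nonzero determinant on
its nonzero elements has at most three elements -/
theorem card_le_three_of_det_const (h3 : Fintype.card F = 3)
    (Y : AddSubgroup (Matrix (Fin 2) (Fin 2) F)) {δ : F} (hδ : δ ≠ 0)
    (hY : ∀ y ∈ Y, y ≠ 0 → y.det = δ) : Nat.card Y ≤ 3 := by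
  classical
  by_cases hbot : ∀ y ∈ Y, y = 0
  · have : Subsingleton Y := ⟨fun a b => Subtype.ext ((hbot a a.2).trans (hbot b b.2).symm)⟩
    have := Finite.card_le_one_iff_subsingleton.2 this
    omega
  · push Not at hbot
    obtain ⟨y₀, hy₀, hy₀0⟩ := hbot
    have hsub : (Y : Set (Matrix (Fin 2) (Fin 2) F)) ⊆ (({0, y₀, -y₀} : Finset _) : Set _) := by
      intro y hy
      by_contra hnot
      simp only [Finset.coe_insert, Finset.coe_singleton, Set.mem_insert_iff,
        Set.mem_singleton_iff, not_or] at hnot
      obtain ⟨n0, n1, n2⟩ := hnot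
      have hy' : y ∈ Y := hy
      have a1 : y₀ + y ≠ 0 := by
        intro h
        exact n2 (eq_neg_of_add_eq_zero_right h)
      have a2 : y₀ - y ≠ 0 := by
        intro h
        exact n1 (sub_eq_zero.1 h).symm
      have d1 := hY _ (Y.add_mem hy₀ hy') a1
      have d2 := hY _ (Y.sub_mem hy₀ hy') a2
      have d3 := hY _ hy₀ hy₀0
      have d4 := hY _ hy' n0
      have key := det_add_add_det_sub y₀ y
      rw [d1, d2, d3, d4] at key
      have h2 : 2 * δ = 0 := by linear_combination -key
      rcases mul_eq_zero.1 h2 with h | h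
      · exact two_ne_zero_of_card h3 h
      · exact hδ h
    calc Nat.card Y = (Y : Set (Matrix (Fin 2) (Fin 2) F)).ncard := Nat.card_coe_set_eq _
      _ ≤ (({0, y₀, -y₀} : Finset _) : Set (Matrix (Fin 2) (Fin 2) F)).ncard :=
          Set.ncard_le_ncard hsub (Finset.finite_toSet _)
      _ = ({0, y₀, -y₀} : Finset (Matrix (Fin 2) (Fin 2) F)).card := Set.ncard_coe_finset _
      _ ≤ 3 := Finset.card_le_three

end Three

end Cfsg.Agent.Lib.Helper4.MinIdxW4
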