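import Mathlib
import Cfsg.Agent.Lib.Helper4.MinIdxW4k

/-!
# S2140, package W4: `n = 4`, `q = 3`
-/

set_option autoImplicit false
set_option linter.unusedSectionVars false
set_option linter.unusedVariables false
set_option linter.unusedSimpArgs false

namespace Cfsg.Agent.Lib.Helper4.MinIdxW4

open Matrix Cfsg.Agent.Lib.Lead.MinIdx Cfsg.Agent.H9SLRoot

variable {F : Type*} [Field F] [Fintype F] [DecidableEq F]

attribute [local instance] actR

theorem card_detClass_three (h3 : Fintype.card F = 3) {δ : F} (hδ : δ ≠ 0) :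
    24 ≤ (detClass δ).card := by
  rw [card_detClass hδ, h3]
  have hs := card_sqSet (F := F)
  rw [h3] at hs
  omega

theorem det_eq_of_mem_detClass_three (h3 : Fintype.card F = 3) {δ : F}
    {C : Matrix (Fin 2) (Fin 2) F} (hC : C ∈ detClass δ) : C.det = δ := by
  obtain ⟨s, hs, h⟩ := det_of_mem_detClass hC
  rw [h, sq_eq_one_of_card h3 hs, mul_one]

open Classical in
/-- the sum of the multiplicities over a set of matrices -/
theorem sum_pmult_chi_le (M : Subgroup (Matrix.SpecialLinearGroup (Fin 2 ⊕ Fin 2) F))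
    [M.FiniteIndex] {ψ : Multiplicative F →* ℂˣ} (hψ : ψ ≠ 1)
    (T : Finset (Matrix (Fin 2) (Fin 2) F)) :
    ∑ C ∈ T, pmult (Matrix.SpecialLinearGroup (Fin 2 ⊕ Fin 2) F ⧸ M) (chi ψ C) ≤ M.index := by
  haveI : Finite (Matrix.SpecialLinearGroup (Fin 2 ⊕ Fin 2) F ⧸ M) :=
    Subgroup.finite_quotient_of_finiteIndex
  haveI : Fintype (Multiplicative (Matrix (Fin 2) (Fin 2) F) →* ℂˣ) := Fintype.ofFinite _
  have h := sum_pmult_ge_of_disjoint (R := Multiplicative (Matrix (Fin 2) (Fin 2) F))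
    (Ω := Matrix.SpecialLinearGroup (Fin 2 ⊕ Fin 2) F ⧸ M) (T.image (chi ψ))
  rw [Finset.sum_image (fun a _ b _ hab => chi_injective hψ hab)] at h
  exact h

/-- **W4 for `n = 4`, `q = 3`**, on the index type `Fin 2 ⊕ Fin 2` -/
theorem no_transvFree'_four_of_three (h3 : Fintype.card F = 3)
    (M : Subgroup (Matrix.SpecialLinearGroup (Fin 2 ⊕ Fin 2) F))
    (hidx : M.index = Fintype.card F ^ 3) (hTF : TransvFree' M) : False := by
  classical
  haveI : M.FiniteIndex := ⟨by rw [hidx]; exact pow_ne_zero _ Fintype.card_ne_zero⟩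
  haveI : Finite (Matrix.SpecialLinearGroup (Fin 2 ⊕ Fin 2) F ⧸ M) :=
    Subgroup.finite_quotient_of_finiteIndex
  haveI : Fintype (Multiplicative (Matrix (Fin 2) (Fin 2) F) →* ℂˣ) := Fintype.ofFinite _
  obtain ⟨ψ, hψ⟩ := exists_psi (F := F)
  have hidx27 : M.index = 27 := by rw [hidx, h3]; norm_num
  by_cases hall : ∀ C : Matrix (Fin 2) (Fin 2) F, C ≠ 0 →
      pmult (Matrix.SpecialLinearGroup (Fin 2 ⊕ Fin 2) F ⧸ M) (chi ψ C) = 0
  · exact not_transvFree_of_uSL_mem M hTF (uSL_mem_of_pmult_eq_zero M hψ hall)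
  push Not at hall
  -- nonzero multiplicity forces an invertible matrix
  have hrk : ∀ C : Matrix (Fin 2) (Fin 2) F, C ≠ 0 →
      pmult (Matrix.SpecialLinearGroup (Fin 2 ⊕ Fin 2) F ⧸ M) (chi ψ C) ≠ 0 → C.det ≠ 0 := by
    intro C hC hp
    rcases rank_dichotomy hC with ⟨u, v, hu, hv, rfl⟩ | hli
    · exact absurd (pmult_rank_one_eq_zero (by simp) M (by rw [hidx]; simp) hψ hu hv) hp
    · exact det_ne_zero_of_indep hli
  obtain ⟨C₀, hC₀, hp₀⟩ := hall
  have hδ : C₀.det ≠ 0 := hrk C₀ hC₀ hp₀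
  set δ := C₀.det with hδ_def
  -- multiplicity is constant on the class of `C₀`
  have hconst : ∀ C ∈ detClass δ,
      pmult (Matrix.SpecialLinearGroup (Fin 2 ⊕ Fin 2) F ⧸ M) (chi ψ C) =
        pmult (Matrix.SpecialLinearGroup (Fin 2 ⊕ Fin 2) F ⧸ M) (chi ψ C₀) := by
    intro C hC
    exact pmult_leviConj M ψ (leviConj_of_mem_detClass hδ hC)
  -- only one class
  have honly : ∀ C : Matrix (Fin 2) (Fin 2) F, C ≠ 0 →
      pmult (Matrix.SpecialLinearGroup (Fin 2 ⊕ Fin 2) F ⧸ M) (chi ψ C) ≠ 0 → C.det = δ := by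
    intro C hC hp
    by_contra hne
    have hδ' : C.det ≠ 0 := hrk C hC hp
    have hconst' : ∀ C' ∈ detClass C.det,
        pmult (Matrix.SpecialLinearGroup (Fin 2 ⊕ Fin 2) F ⧸ M) (chi ψ C') =
          pmult (Matrix.SpecialLinearGroup (Fin 2 ⊕ Fin 2) F ⧸ M) (chi ψ C) := by
      intro C' hC'
      exact pmult_leviConj M ψ (leviConj_of_mem_detClass hδ' hC')
    have hdisj : Disjoint (detClass δ) (detClass C.det) := by
      rw [Finset.disjoint_left]
      intro X h1 h2
      have e1 := det_eq_of_mem_detClass_three h3 h1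
      have e2 := det_eq_of_mem_detClass_three h3 h2
      exact hne (e2.symm.trans e1)
    have hsum := sum_pmult_chi_le M hψ (detClass δ ∪ detClass C.det)
    rw [Finset.sum_union hdisj, Finset.sum_congr rfl hconst, Finset.sum_congr rfl hconst',
      Finset.sum_const, Finset.sum_const, smul_eq_mul, smul_eq_mul, hidx27] at hsum
    have c1 := card_detClass_three h3 hδ
    have c2 := card_detClass_three h3 hδ'
    have p1 : 1 ≤ pmult (Matrix.SpecialLinearGroup (Fin 2 ⊕ Fin 2) F ⧸ M) (chi ψ C₀) :=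
      Nat.one_le_iff_ne_zero.2 hp₀
    have p2 : 1 ≤ pmult (Matrix.SpecialLinearGroup (Fin 2 ⊕ Fin 2) F ⧸ M) (chi ψ C) :=
      Nat.one_le_iff_ne_zero.2 hp
    nlinarith
  -- at most three orbits
  have horb : pmult (Matrix.SpecialLinearGroup (Fin 2 ⊕ Fin 2) F ⧸ M)
      (1 : Multiplicative (Matrix (Fin 2) (Fin 2) F) →* ℂˣ) ≤ 3 := by
    have h0 : (0 : Matrix (Fin 2) (Fin 2) F) ∉ detClass δ := zero_not_mem_detClass hδ
    have hsum := sum_pmult_chi_le M hψ (insert 0 (detClass δ))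
    rw [Finset.sum_insert h0, Finset.sum_congr rfl hconst, Finset.sum_const, smul_eq_mul, chi_zero,
      hidx27] at hsum
    have c1 := card_detClass_three h3 hδ
    have p1 : 1 ≤ pmult (Matrix.SpecialLinearGroup (Fin 2 ⊕ Fin 2) F ⧸ M) (chi ψ C₀) :=
      Nat.one_le_iff_ne_zero.2 hp₀
    nlinarith
  -- every orbit has at most three elements
  have hstab : ∀ ω : Matrix.SpecialLinearGroup (Fin 2 ⊕ Fin 2) F ⧸ M,
      (MulAction.stabilizer (Multiplicative (Matrix (Fin 2) (Fin 2) F)) ω).index ≤ 3 := by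
    intro ω
    rw [← card_annih hψ]
    apply card_le_three_of_det_const h3 _ hδ
    intro y hy hy0
    apply honly y hy0
    rw [Ne, pmult_eq_zero_iff]
    intro hempty
    have hmem : ω ∈ pset (Ω := Matrix.SpecialLinearGroup (Fin 2 ⊕ Fin 2) F ⧸ M) (chi ψ y) := by
      intro r hr
      exact (MonoidHom.mem_ker).1 (mem_annih.1 hy hr)
    rw [hempty] at hmem
    exact hmem
  have hcard := card_le_mul_card_orbits (R := Multiplicative (Matrix (Fin 2) (Fin 2) F))
    (Ω := Matrix.SpecialLinearGroup (Fin 2 ⊕ Fin 2) F ⧸ M) 3 hstab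
  rw [← pmult_one] at hcard
  have : Nat.card (Matrix.SpecialLinearGroup (Fin 2 ⊕ Fin 2) F ⧸ M) = 27 := hidx27
  omega

end Cfsg.Agent.Lib.Helper4.MinIdxW4
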