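import Mathlib
import Cfsg.Agent.Lib.Helper4.MinIdxW4g

/-!
# S2140, package W4: transport to the index type `Fin n`, and the theorem for `n ≥ 5`
-/

set_option autoImplicit false
set_option linter.unusedSectionVars false
set_option linter.unusedVariables false
set_option linter.unusedSimpArgs false

namespace Cfsg.Agent.Lib.Helper4.MinIdxW4

open Matrix Cfsg.Agent.Lib.Lead.MinIdx Cfsg.Agent.H9SLRoot

variable {F : Type*} [Field F]

section Reindex

variable {ι ι' : Type*} [Fintype ι] [DecidableEq ι] [Fintype ι'] [DecidableEq ι']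

/-- reindexing the special linear group -/
def slReindex (e : ι ≃ ι') :
    Matrix.SpecialLinearGroup ι F ≃* Matrix.SpecialLinearGroup ι' F where
  toFun g := ⟨Matrix.reindex e e g.1, by rw [Matrix.det_reindex_self]; exact g.2⟩
  invFun g := ⟨Matrix.reindex e.symm e.symm g.1, by rw [Matrix.det_reindex_self]; exact g.2⟩
  left_inv g := by
    apply Subtype.ext
    ext i j
    simp [Matrix.reindex_apply]
  right_inv g := by
    apply Subtype.ext
    ext i j
    simp [Matrix.reindex_apply]
  map_mul' g h := by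
    apply Subtype.ext
    show Matrix.reindex e e (g.1 * h.1) = Matrix.reindex e e g.1 * Matrix.reindex e e h.1
    rw [Matrix.reindex_apply, Matrix.reindex_apply, Matrix.reindex_apply,
      Matrix.submatrix_mul_equiv]

theorem slReindex_coe (e : ι ≃ ι') (g : Matrix.SpecialLinearGroup ι F) :
    ((slReindex e g : Matrix.SpecialLinearGroup ι' F) : Matrix ι' ι' F) =
      Matrix.reindex e e (g : Matrix ι ι F) := rfl

theorem dot_comp_symm (e : ι ≃ ι') (x φ : ι → F) :
    (φ ∘ e.symm) ⬝ᵥ (x ∘ e.symm) = φ ⬝ᵥ x := by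
  unfold dotProduct
  exact Equiv.sum_comp e.symm (fun i => φ i * x i)

theorem slReindex_tv (e : ι ≃ ι') {x φ : ι → F} (h : φ ⬝ᵥ x = 0) (c : F) :
    slReindex e (tv x φ c) = tv (x ∘ e.symm) (φ ∘ e.symm) c := by
  have h' : (φ ∘ e.symm) ⬝ᵥ (x ∘ e.symm) = 0 := by rw [dot_comp_symm, h]
  apply Subtype.ext
  rw [slReindex_coe, tv_coe h, tv_coe h']
  ext i j
  unfold tmat
  simp [Matrix.reindex_apply, Matrix.vecMulVec_apply, Matrix.one_apply]

end Reindex

variable [Fintype F] [DecidableEq F]

/-- transport of `TransvFree` -/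
theorem transvFree'_comap {n : ℕ} {ι : Type*} [Fintype ι] [DecidableEq ι] (e : ι ≃ Fin n)
    (M : Subgroup (Matrix.SpecialLinearGroup (Fin n) F)) (hTF : TransvFree M) :
    TransvFree' (M.comap (slReindex (F := F) e).toMonoidHom) := by
  intro x φ c hinc hmem
  rw [Subgroup.mem_comap] at hmem
  have h1 : slReindex e (tv x φ c) ∈ M := hmem
  rw [slReindex_tv e hinc] at h1
  have h2 := hTF _ _ c (by rw [dot_comp_symm, hinc]) h1
  rw [← slReindex_tv e hinc] at h2
  have h3 : slReindex (F := F) e (tv x φ c) = slReindex e 1 := by rw [h2, map_one]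
  exact (slReindex (F := F) e).injective h3

/-- **W4 for `n ≥ 5`** -/
theorem no_transvFree_ge_five' {n : ℕ} (hn : 5 ≤ n)
    (M : Subgroup (Matrix.SpecialLinearGroup (Fin n) F))
    (hidx : M.index = Fintype.card F ^ (n - 1)) (hTF : TransvFree M) : False := by
  have hn2 : 2 + (n - 2) = n := by omega
  let e : Fin 2 ⊕ Fin (n - 2) ≃ Fin n := finSumFinEquiv.trans (finCongr hn2)
  apply no_transvFree'_of_three_le (κ := Fin (n - 2)) (by rw [Fintype.card_fin]; omega)
    (M.comap (slReindex (F := F) e).toMonoidHom) ?_ (transvFree'_comap e M hTF)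
  rw [Subgroup.index_comap_of_surjective M (slReindex (F := F) e).surjective, hidx,
    Fintype.card_fin]
  congr 1
  omega

end Cfsg.Agent.Lib.Helper4.MinIdxW4
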