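import Mathlib
import Cfsg.Agent.Lib.Helper4.MinIdxW4l
import Cfsg.Agent.Lib.Helper4.MinIdxW4t

/-!
# S2140, package W4: a transvection-free subgroup of `SL_n(q)`, `n ≥ 4`, `(n, q) ≠ (4, 2)`, does
not have index `q^(n-1)`
-/

set_option autoImplicit false
set_option linter.unusedSectionVars false
set_option linter.unusedVariables false

namespace Cfsg.Agent.Lib.Helper4.MinIdxW4

open Matrix Cfsg.Agent.Lib.Lead.MinIdx Cfsg.Agent.H9SLRoot

variable {F : Type*} [Field F] [Fintype F] [DecidableEq F] {n : ℕ}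

/-- **(W4)** `n ≥ 5` -/
theorem no_transvFree_ge_five (hn : 5 ≤ n) (M : Subgroup (Matrix.SpecialLinearGroup (Fin n) F))
    (hidx : M.index = Fintype.card F ^ (n - 1)) (hTF : TransvFree M) : False :=
  no_transvFree_ge_five' hn M hidx hTF

/-- **(W4)** `n = 4`, `q ≠ 2` -/
theorem no_transvFree_four (hq : Fintype.card F ≠ 2)
    (M : Subgroup (Matrix.SpecialLinearGroup (Fin 4) F))
    (hidx : M.index = Fintype.card F ^ 3) (hTF : TransvFree M) : False := by
  let e : Fin 2 ⊕ Fin 2 ≃ Fin 4 := finSumFinEquiv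
  have hTF' := transvFree'_comap e M hTF
  have hidx' : (M.comap (slReindex (F := F) e).toMonoidHom).index = Fintype.card F ^ 3 := by
    rw [Subgroup.index_comap_of_surjective M (slReindex (F := F) e).surjective, hidx]
  have hq2 : 2 ≤ Fintype.card F := Fintype.one_lt_card
  rcases Nat.lt_or_ge (Fintype.card F) 4 with h4 | h4
  · have h3 : Fintype.card F = 3 := by omega
    exact no_transvFree'_four_of_three h3 _ hidx' hTF'
  · exact no_transvFree'_four_of_four_le h4 _ hidx' hTF'

end Cfsg.Agent.Lib.Helper4.MinIdxW4
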