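import Mathlib
import Cfsg.Agent.Lib.Lead.MixCfg
import Cfsg.Agent.Lib.Lead.CoprimeTools

set_option autoImplicit false
set_option linter.unusedSectionVars false
set_option linter.unusedVariables false
set_option linter.style.longLine false
set_option linter.style.haveILetI false
set_option maxHeartbeats 800000

/-! S4017, package P1b: a minimal counterexample is a simple group (note §0.2, §0.3). -/

namespace Cfsg.Agent.Lib.Helper4.Mix

open Cfsg.Agent.Lib.Lead Cfsg.Agent.Lib.Lead.Mix

universe u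

variable {G : Type u} [Group G] [Finite G] {p q : ℕ}

/-- a group all of whose prime divisors equal `ℓ` is an `ℓ`-group -/
theorem isPGroup_of_forall_prime_dvd {X : Type*} [Group X] [Finite X] {ℓ : ℕ}
    (h : ∀ d : ℕ, d.Prime → d ∣ Nat.card X → d = ℓ) : IsPGroup ℓ X := by
  have h1 := Nat.eq_prime_pow_of_unique_prime_dvd (n := Nat.card X) (p := ℓ) Nat.card_pos.ne'
    (fun {d} hd hdvd => h d hd hdvd)
  exact IsPGroup.of_card h1

/-- the order of `H ⊔ N`, `N` normal, divides `|H| |N|` -/
theorem card_sup_dvd (H N : Subgroup G) [hN : N.Normal] :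
    Nat.card (H ⊔ N : Subgroup G) ∣ Nat.card H * Nat.card N := by
  have hle : H ≤ Subgroup.normalizer (N : Set G) := by
    rw [Subgroup.normalizer_eq_top_iff.mpr hN]; exact le_top
  exact Dvd.intro _ (card_sup_mul_card_inf H N hle)

/-- a non-trivial Sylow subgroup, as a subgroup of the ambient group -/
theorem exists_sylow_in (N : Subgroup G) {ℓ : ℕ} (hℓ : ℓ.Prime) (hd : ℓ ∣ Nat.card N) [N.Normal] :
    ∃ R : Subgroup G, IsPGroup ℓ R ∧ R ≠ ⊥ ∧ ℓ ∣ Nat.card R ∧
      Subgroup.normalizer (R : Set G) ⊔ N = ⊤ := by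
  haveI : Fact ℓ.Prime := ⟨hℓ⟩
  obtain ⟨S⟩ : Nonempty (Sylow ℓ N) := inferInstance
  have hS1 : (S : Subgroup N) ≠ ⊥ := S.ne_bot_of_dvd_card hd
  have hSd : ℓ ∣ Nat.card (S : Subgroup N) := by
    rcases S.isPGroup'.card_eq_or_dvd with h2 | h2
    · exact absurd (Subgroup.card_eq_one.mp h2) hS1
    · exact h2
  refine ⟨(S : Subgroup N).map N.subtype, S.isPGroup'.map _, ?_, ?_, ?_⟩
  · intro hbot
    apply hS1
    rw [← Subgroup.card_eq_one] at hbot ⊢
    rwa [Subgroup.card_map_of_injective N.subtype_injective] at hbot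
  · rw [Subgroup.card_map_of_injective N.subtype_injective]; exact hSd
  · exact Sylow.normalizer_sup_eq_top S

/-- §0.2: a proper non-trivial normal subgroup of a minimal counterexample is a `p`-group -/
theorem normal_isPGroup (h : MinCex G p q)
    (sub_pq : ∀ L : Subgroup G, L ≠ ⊤ → q ∣ Nat.card L →
      ∀ r : ℕ, r.Prime → r ∣ Nat.card L → r = p ∨ r = q)
    (qloc : ∀ Q0 : Subgroup G, Q0 ≠ ⊥ → IsPGroup q Q0 → Subgroup.normalizer (Q0 : Set G) ≠ ⊤)
    (rloc : ∀ (r : ℕ) (R : Subgroup G), r.Prime → r ≠ p → r ≠ q → IsPGroup r R → R ≠ ⊥ →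
      ¬ q ∣ Nat.card (Subgroup.normalizer (R : Set G)))
    (N : Subgroup G) [hNn : N.Normal] (hN2 : N ≠ ⊤) : IsPGroup p N := by
  haveI : Fact q.Prime := ⟨h.hq⟩
  haveI : Fact p.Prime := ⟨h.hp⟩
  by_cases hqN : q ∣ Nat.card N
  · -- Frattini with a Sylow `q`-subgroup of `N`
    exfalso
    obtain ⟨R, hRq, hR1, hRd, hfr⟩ := exists_sylow_in N h.hq hqN
    apply h.notc
    intro r hr hrG
    have hNor : Subgroup.normalizer (R : Set G) ≠ ⊤ := qloc R hR1 hRq
    have hqNor : q ∣ Nat.card (Subgroup.normalizer (R : Set G)) :=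
      hRd.trans (Subgroup.card_dvd_of_le Subgroup.le_normalizer)
    have h1 : Nat.card G ∣ Nat.card (Subgroup.normalizer (R : Set G)) * Nat.card N := by
      have := card_sup_dvd (Subgroup.normalizer (R : Set G)) N
      rwa [hfr, Subgroup.card_top] at this
    rcases (Nat.Prime.dvd_mul hr).mp (hrG.trans h1) with h2 | h2
    · exact sub_pq _ hNor hqNor r hr h2
    · exact sub_pq N hN2 hqN r hr h2
  · obtain ⟨Q⟩ : Nonempty (Sylow q G) := inferInstance
    have hQ1 : (Q : Subgroup G) ≠ ⊥ := Q.ne_bot_of_dvd_card h.hqG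
    have hQd : q ∣ Nat.card (Q : Subgroup G) := by
      rcases Q.isPGroup'.card_eq_or_dvd with h2 | h2
      · exact absurd (Subgroup.card_eq_one.mp h2) hQ1
      · exact h2
    by_cases hNQ : (Q : Subgroup G) ⊔ N = ⊤
    · exfalso
      -- a third prime divides `|N|`
      have hnc := h.notc
      unfold Concl at hnc
      push Not at hnc
      obtain ⟨r, hr, hrG, hrp, hrq⟩ := hnc
      have h1 : Nat.card G ∣ Nat.card (Q : Subgroup G) * Nat.card N := by
        have := card_sup_dvd (Q : Subgroup G) N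
        rwa [hNQ, Subgroup.card_top] at this
      have hrN : r ∣ Nat.card N := by
        rcases (Nat.Prime.dvd_mul hr).mp (hrG.trans h1) with h2 | h2
        · exfalso
          obtain ⟨k, hk⟩ := IsPGroup.iff_card.mp Q.isPGroup'
          rw [hk] at h2
          exact hrq ((Nat.prime_dvd_prime_iff_eq hr h.hq).mp (hr.dvd_of_dvd_pow h2))
        · exact h2
      obtain ⟨R, hRr, hR1, hRd, hfr⟩ := exists_sylow_in N hr hrN
      apply rloc r R hr hrp hrq hRr hR1
      have h3 : Nat.card G ∣ Nat.card (Subgroup.normalizer (R : Set G)) * Nat.card N := by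
        have := card_sup_dvd (Subgroup.normalizer (R : Set G)) N
        rwa [hfr, Subgroup.card_top] at this
      rcases (Nat.Prime.dvd_mul h.hq).mp (h.hqG.trans h3) with h2 | h2
      · exact h2
      · exact absurd h2 hqN
    · -- `N Q` is a proper subgroup of order divisible by `q`
      apply isPGroup_of_forall_prime_dvd
      intro d hd hdN
      have hqNQ : q ∣ Nat.card ((Q : Subgroup G) ⊔ N : Subgroup G) :=
        hQd.trans (Subgroup.card_dvd_of_le le_sup_left)
      rcases sub_pq _ hNQ hqNQ d hd (hdN.trans (Subgroup.card_dvd_of_le le_sup_right)) with h2 | h2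
      · exact h2
      · exact absurd (h2 ▸ hdN) hqN

/-- the `q`-part of the order does not change modulo a normal `p`-subgroup -/
theorem factorization_quot (h : MinCex G p q) (N : Subgroup G) [N.Normal] (hNp : IsPGroup p N) :
    (Nat.card (G ⧸ N)).factorization q = (Nat.card G).factorization q := by
  haveI : Fact p.Prime := ⟨h.hp⟩
  obtain ⟨k, hk⟩ := IsPGroup.iff_card.mp hNp
  rw [Subgroup.card_eq_card_quotient_mul_card_subgroup N, hk,
    Nat.factorization_mul Nat.card_pos.ne' (pow_ne_zero k h.hp.ne_zero), Nat.factorization_pow,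
    h.hp.factorization]
  simp [Finsupp.single_apply, h.hpq]

/-- §0.3: a minimal counterexample has no proper non-trivial normal `p`-subgroup -/
theorem no_normal_pgroup (h : MinCex G p q)
    (sub_pq : ∀ L : Subgroup G, L ≠ ⊤ → q ∣ Nat.card L →
      ∀ r : ℕ, r.Prime → r ∣ Nat.card L → r = p ∨ r = q)
    (N : Subgroup G) [hNn : N.Normal] (hN1 : N ≠ ⊥) (hNp : IsPGroup p N) : False := by
  haveI : Fact q.Prime := ⟨h.hq⟩
  haveI : Fact p.Prime := ⟨h.hp⟩
  obtain ⟨k, hk⟩ := IsPGroup.iff_card.mp hNp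
  have hcard : Nat.card G = Nat.card (G ⧸ N) * Nat.card N :=
    Subgroup.card_eq_card_quotient_mul_card_subgroup N
  have hk1 : 1 < Nat.card N := by
    rw [Subgroup.one_lt_card_iff_ne_bot]; exact hN1
  have hqN : ¬ q ∣ Nat.card N := by
    intro hd
    rw [hk] at hd
    exact h.hpq ((Nat.prime_dvd_prime_iff_eq h.hq h.hp).mp (h.hq.dvd_of_dvd_pow hd)).symm
  -- a third prime
  have hnc := h.notc
  unfold Concl at hnc
  push Not at hnc
  obtain ⟨r, hr, hrG, hrp, hrq⟩ := hnc
  have hrN : ¬ r ∣ Nat.card N := by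
    intro hd
    rw [hk] at hd
    exact hrp ((Nat.prime_dvd_prime_iff_eq hr h.hp).mp (hr.dvd_of_dvd_pow hd))
  have hqQ : q ∣ Nat.card (G ⧸ N) := by
    rcases (Nat.Prime.dvd_mul h.hq).mp (hcard ▸ h.hqG) with h2 | h2
    · exact h2
    · exact absurd h2 hqN
  have hrQ : r ∣ Nat.card (G ⧸ N) := by
    rcases (Nat.Prime.dvd_mul hr).mp (hcard ▸ hrG) with h2 | h2
    · exact h2
    · exact absurd h2 hrN
  have hlt : Nat.card (G ⧸ N) < Nat.card G := by
    rw [hcard]
    exact lt_mul_of_one_lt_right Nat.card_pos hk1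
  -- the hypotheses pass to the quotient
  have hyp : Hyp (G ⧸ N) p q := by
    refine
      { hp := h.hp
        hq := h.hq
        hpq := h.hpq
        hp2 := h.hp2
        hpG := ?_
        hqG := hqQ
        hmix := ?_
        hlarge := ?_ }
    · -- `p ∣ |G / N|`, by Schur–Zassenhaus
      by_contra hnp
      have hidx : N.index = Nat.card (G ⧸ N) := Subgroup.index_eq_card N
      have hcop : (Nat.card N).Coprime N.index := by
        rw [hk, hidx]
        exact Nat.Coprime.pow_left k ((Nat.Prime.coprime_iff_not_dvd h.hp).mpr hnp)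
      obtain ⟨H, hH⟩ := Subgroup.exists_right_complement'_of_coprime hcop
      have hHc : Nat.card N * Nat.card H = Nat.card G := hH.card_mul_card
      have hHcard : Nat.card H = Nat.card (G ⧸ N) := by
        apply Nat.eq_of_mul_eq_mul_left (Nat.card_pos : 0 < Nat.card N)
        rw [hHc, hcard, mul_comm]
      have hHtop : H ≠ ⊤ := by
        intro htop
        rw [htop, Subgroup.card_top] at hHcard
        omega
      have hqH : q ∣ Nat.card H := hHcard ▸ hqQ
      have hnq : ¬ IsPGroup q H := by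
        intro hq'
        obtain ⟨j, hj⟩ := IsPGroup.iff_card.mp hq'
        have : r ∣ q ^ j := by rw [← hj, hHcard]; exact hrQ
        exact hrq ((Nat.prime_dvd_prime_iff_eq hr h.hq).mp (hr.dvd_of_dvd_pow this))
      have := h.hmix H hHtop hnq hqH
      rw [hHcard] at this
      exact hnp this
    · -- `hmix`
      intro Hb hHb hnq hqHb
      have hsurj : Function.Surjective (QuotientGroup.mk' N) := QuotientGroup.mk'_surjective N
      have hidx : (Hb.comap (QuotientGroup.mk' N)).index = Hb.index :=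
        Subgroup.index_comap_of_surjective Hb hsurj
      have hHtop : Hb.comap (QuotientGroup.mk' N) ≠ ⊤ := by
        intro htop
        apply hHb
        rw [← Subgroup.index_eq_one, ← hidx, htop, Subgroup.index_top]
      have hcardH : Nat.card (Hb.comap (QuotientGroup.mk' N)) = Nat.card Hb * Nat.card N := by
        have e1 := (Hb.comap (QuotientGroup.mk' N)).card_mul_index
        have e2 := Hb.card_mul_index
        rw [hidx] at e1
        have hpos : 0 < Hb.index := Nat.pos_of_ne_zero Subgroup.index_ne_zero_of_finite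
        apply Nat.eq_of_mul_eq_mul_right hpos
        rw [e1, hcard, ← e2]; ring
      have hqH : q ∣ Nat.card (Hb.comap (QuotientGroup.mk' N)) := by
        rw [hcardH]; exact Dvd.dvd.mul_right hqHb _
      -- some prime other than `q` divides `|Hb|`
      by_contra hpHb
      apply hnq
      apply isPGroup_of_forall_prime_dvd
      intro d hd hdd
      have hdH : d ∣ Nat.card (Hb.comap (QuotientGroup.mk' N)) := by
        rw [hcardH]; exact Dvd.dvd.mul_right hdd _
      rcases sub_pq _ hHtop hqH d hd hdH with h2 | h2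
      · exact absurd (h2 ▸ hdd) hpHb
      · exact h2
    · -- `hlarge`
      rw [factorization_quot h N hNp]
      rcases h.hlarge with h1 | ⟨h1, h2⟩
      · exact Or.inl h1
      · refine Or.inr ⟨h1, ?_⟩
        intro Pb
        have hker : IsPGroup p (QuotientGroup.mk' N).ker := by
          rw [QuotientGroup.ker_mk']; exact hNp
        have hHp : IsPGroup p ((Pb : Subgroup (G ⧸ N)).comap (QuotientGroup.mk' N)) :=
          Pb.isPGroup'.comap_of_ker_isPGroup _ hker
        obtain ⟨S, hS⟩ := hHp.exists_le_sylow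
        haveI := h2 S
        refine ⟨⟨fun a b => ?_⟩⟩
        obtain ⟨x, hx⟩ := QuotientGroup.mk'_surjective N a.1
        obtain ⟨y, hy⟩ := QuotientGroup.mk'_surjective N b.1
        have hxS : x ∈ (S : Subgroup G) := hS (by
          rw [Subgroup.mem_comap, hx]; exact a.2)
        have hyS : y ∈ (S : Subgroup G) := hS (by
          rw [Subgroup.mem_comap, hy]; exact b.2)
        have hc : (⟨x, hxS⟩ : (S : Subgroup G)) * ⟨y, hyS⟩ = ⟨y, hyS⟩ * ⟨x, hxS⟩ := mul_comm' _ _
        have hc' : x * y = y * x := congrArg Subtype.val hc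
        apply Subtype.ext
        show a.1 * b.1 = b.1 * a.1
        rw [← hx, ← hy, ← map_mul, ← map_mul, hc']
  have hconcl := h.ih (G ⧸ N) hlt hyp
  apply h.notc
  intro d hd hdG
  rcases (Nat.Prime.dvd_mul hd).mp (hcard ▸ hdG) with h2 | h2
  · exact hconcl d hd h2
  · rw [hk] at h2
    exact Or.inl ((Nat.prime_dvd_prime_iff_eq hd h.hp).mp (hd.dvd_of_dvd_pow h2))

/-- package P1b: a minimal counterexample is simple -/
theorem simple_of_minCex (h : MinCex G p q)
    (sub_pq : ∀ L : Subgroup G, L ≠ ⊤ → q ∣ Nat.card L →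
      ∀ r : ℕ, r.Prime → r ∣ Nat.card L → r = p ∨ r = q)
    (qloc : ∀ Q0 : Subgroup G, Q0 ≠ ⊥ → IsPGroup q Q0 → Subgroup.normalizer (Q0 : Set G) ≠ ⊤)
    (rloc : ∀ (r : ℕ) (R : Subgroup G), r.Prime → r ≠ p → r ≠ q → IsPGroup r R → R ≠ ⊥ →
      ¬ q ∣ Nat.card (Subgroup.normalizer (R : Set G))) :
    ∀ N : Subgroup G, N.Normal → N = ⊥ ∨ N = ⊤ := by
  intro N hNn
  by_contra hcon
  push Not at hcon
  haveI := hNn
  exact no_normal_pgroup h sub_pq N hcon.1 (normal_isPGroup h sub_pq qloc rloc N hcon.2)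

end Cfsg.Agent.Lib.Helper4.Mix
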