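import Mathlib
import Cfsg.Agent.Lib.Lead.MixCfg

set_option autoImplicit false
set_option linter.unusedSectionVars false
set_option linter.unusedVariables false
set_option linter.style.longLine false
set_option linter.style.haveILetI false
set_option maxHeartbeats 800000

/-! S4017, package P6 (note §4.5): centralisers of `p`-elements in Case IIb. -/

namespace Cfsg.Agent.Lib.Helper4.Mix

open Cfsg.Agent.Lib.Lead.Mix
open scoped Pointwise

universe u

variable {G : Type u} [Group G] [Finite G] {p a : ℕ} {Q : Subgroup G} {w : G}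

/-- the hypotheses of package P6 -/
structure P6 (G : Type u) [Group G] [Finite G] (p a : ℕ) (Q : Subgroup G) (w : G) : Prop where
  h : CfgB G p a Q w
  ha : a = 2
  h1 : Pone p Q = ⊥
  hS : ∀ t ∈ Q, t ≠ 1 → (Nat.card (Kt p t) = p ^ (Nat.card G).factorization p ∧
    Subgroup.normalizer (Kt p t : Set G) = Subgroup.centralizer {t} ∧
    ∀ t' ∈ Q, t' ≠ 1 → t' ≠ t → ∀ x ∈ Kt p t, t' * x * t'⁻¹ = x⁻¹)

/-- an involution -/
def Inv (u : G) : Prop := u ≠ 1 ∧ u ^ 2 = 1

theorem Inv.inv_eq {u : G} (hu : Inv u) : u⁻¹ = u := by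
  have := hu.2
  rw [pow_two] at this
  exact inv_eq_of_mul_eq_one_left this

theorem Inv.orderOf {u : G} (hu : Inv u) : orderOf u = 2 :=
  haveI : Fact (Nat.Prime 2) := ⟨Nat.prime_two⟩
  orderOf_eq_prime hu.2 hu.1

theorem Inv.conj {u : G} (hu : Inv u) (g : G) : Inv (g * u * g⁻¹) := by
  refine ⟨fun h1 => hu.1 ?_, ?_⟩
  · have : u = g⁻¹ * (g * u * g⁻¹) * g := by group
    rw [this, h1]; group
  · rw [conj_pow, hu.2]; group

theorem P6.p_eq (c : P6 G p a Q w) : p = 3 := by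
  have := c.h.hpa
  rw [c.ha] at this
  omega

theorem P6.p_prime (c : P6 G p a Q w) : p.Prime := c.h.hp

theorem P6.two_ne_p (c : P6 G p a Q w) : 2 ≠ p := by rw [c.p_eq]; norm_num

theorem P6.card_Q (c : P6 G p a Q w) : Nat.card Q = 4 := by
  rw [c.h.Qcard, c.ha]; norm_num

theorem P6.not_eight_dvd (c : P6 G p a Q w) : ¬ 8 ∣ Nat.card G := by
  have := c.h.Gcard
  rw [c.ha] at this
  exact this

theorem P6.four_dvd (c : P6 G p a Q w) : 4 ∣ Nat.card G := by
  rw [← c.card_Q]; exact Subgroup.card_subgroup_dvd_card Q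

theorem P6.factorization_two (c : P6 G p a Q w) : (Nat.card G).factorization 2 = 2 := by
  have h1 : 2 ≤ (Nat.card G).factorization 2 :=
    (Nat.Prime.pow_dvd_iff_le_factorization Nat.prime_two Nat.card_pos.ne').mp
      (by norm_num; exact c.four_dvd)
  have h2 : ¬ 3 ≤ (Nat.card G).factorization 2 := by
    intro h3
    have := (Nat.Prime.pow_dvd_iff_le_factorization Nat.prime_two Nat.card_pos.ne').mpr h3
    exact c.not_eight_dvd (by norm_num at this; exact this)
  omega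

theorem P6.card_centralizer_Q (c : P6 G p a Q w) :
    Nat.card (Subgroup.centralizer (Q : Set G)) = 4 := by
  rw [c.h.cent_card, c.h1, Subgroup.card_bot, c.ha]; norm_num

/-- `Q` as a Sylow `2`-subgroup -/
noncomputable def P6.sylQ (c : P6 G p a Q w) : @Sylow 2 G _ :=
  haveI : Fact (Nat.Prime 2) := ⟨Nat.prime_two⟩
  Sylow.ofCard Q (by rw [c.card_Q, c.factorization_two]; norm_num)

theorem P6.coe_sylQ (c : P6 G p a Q w) : ((c.sylQ : @Sylow 2 G _) : Subgroup G) = Q := rfl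

/-- every `2`-subgroup is conjugate into `Q` -/
theorem P6.conj_into_Q (c : P6 G p a Q w) {R : Subgroup G} (hR : IsPGroup 2 R) :
    ∃ g : G, ∀ y ∈ R, g * y * g⁻¹ ∈ Q := by
  haveI : Fact (Nat.Prime 2) := ⟨Nat.prime_two⟩
  obtain ⟨S, hS⟩ := hR.exists_le_sylow
  obtain ⟨g, hg⟩ := MulAction.exists_smul_eq G S c.sylQ
  refine ⟨g, fun y hy => ?_⟩
  have h1 : MulAut.conj g • y ∈ MulAut.conj g • (S : Subgroup G) :=
    Subgroup.smul_mem_pointwise_smul y (MulAut.conj g) _ (hS hy)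
  have h2 : (MulAut.conj g • (S : Subgroup G)) = Q := by
    rw [← Sylow.coe_subgroup_smul, hg]; rfl
  rw [h2] at h1
  simpa [MulAut.smul_def, MulAut.conj_apply] using h1

/-- the `p`-part of the order -/
theorem P6.exists_inv_Q (c : P6 G p a Q w) : ∃ t ∈ Q, t ≠ 1 := by
  have h4 := c.card_Q
  have : Q ≠ ⊥ := by
    intro hb
    rw [hb, Subgroup.card_bot] at h4
    omega
  obtain ⟨t, ht, ht1⟩ := (Subgroup.bot_or_exists_ne_one Q).resolve_left this
  exact ⟨t, ht, ht1⟩

theorem P6.one_le_m (c : P6 G p a Q w) : 1 ≤ (Nat.card G).factorization p :=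
  (Nat.Prime.pow_dvd_iff_le_factorization c.p_prime Nat.card_pos.ne').mp
    (by rw [pow_one]; exact c.h.pdvd)

/-- transport of the hypothesis `hS` to arbitrary involutions -/
theorem P6.card_Kt (c : P6 G p a Q w) {u : G} (hu : Inv u) :
    Nat.card (Kt p u) = p ^ (Nat.card G).factorization p := by
  obtain ⟨g, hg⟩ := c.h.inv_conj u hu.1 hu.2
  have h1 := (c.hS _ hg (hu.conj g).1).1
  rw [Kt_conj, Subgroup.card_map_of_injective (MulAut.conj g).injective] at h1
  exact h1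

theorem P6.normalizer_Kt_le (c : P6 G p a Q w) {u : G} (hu : Inv u) :
    Subgroup.normalizer (Kt p u : Set G) ≤ Subgroup.centralizer {u} := by
  obtain ⟨g, hg⟩ := c.h.inv_conj u hu.1 hu.2
  have h1 := (c.hS _ hg (hu.conj g).1).2.1
  intro n hn
  have h2 : (MulAut.conj g).toMonoidHom n ∈
      Subgroup.normalizer (((Kt p u).map (MulAut.conj g).toMonoidHom : Subgroup G) : Set G) :=
    Subgroup.le_normalizer_map _ ⟨n, hn, rfl⟩
  rw [← Kt_conj, h1, Subgroup.mem_centralizer_iff] at h2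
  have h3 := h2 (g * u * g⁻¹) rfl
  simp only [MulEquiv.coe_toMonoidHom, MulAut.conj_apply] at h3
  rw [Subgroup.mem_centralizer_iff]
  intro y hy
  rw [Set.mem_singleton_iff] at hy
  rw [hy]
  have h4 : g * (u * n) * g⁻¹ = g * (n * u) * g⁻¹ := by
    calc g * (u * n) * g⁻¹ = g * u * g⁻¹ * (g * n * g⁻¹) := by group
      _ = g * n * g⁻¹ * (g * u * g⁻¹) := h3
      _ = g * (n * u) * g⁻¹ := by group
  exact mul_left_cancel (mul_right_cancel h4)

theorem P6.isPGroup_Kt (c : P6 G p a Q w) {u : G} (hu : Inv u) : IsPGroup p (Kt p u) :=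
  haveI : Fact p.Prime := ⟨c.p_prime⟩
  IsPGroup.of_card (c.card_Kt hu)

theorem Kt_le_centralizer (p : ℕ) (u : G) : Kt p u ≤ Subgroup.centralizer {u} := by
  unfold Kt
  rw [Subgroup.closure_le]
  intro x hx
  rw [SetLike.mem_coe, Subgroup.mem_centralizer_iff]
  intro y hy
  rw [Set.mem_singleton_iff] at hy
  rw [hy]
  exact hx.1.symm

theorem mem_Kt {p : ℕ} {u x : G} (hc : x * u = u * x) {k : ℕ} (hk : orderOf x = p ^ k) :
    x ∈ Kt p u := Subgroup.subset_closure ⟨hc, k, hk⟩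

/-- a `p`-subgroup containing `K_u` equals `K_u` -/
theorem P6.eq_Kt_of_le (c : P6 G p a Q w) {u : G} (hu : Inv u) {S : Subgroup G}
    (hS : IsPGroup p S) (hle : Kt p u ≤ S) : S = Kt p u := by
  haveI : Fact p.Prime := ⟨c.p_prime⟩
  obtain ⟨k, hk⟩ := IsPGroup.iff_card.mp hS
  have h1 : p ^ k ∣ Nat.card G := hk ▸ Subgroup.card_subgroup_dvd_card S
  have h2 : k ≤ (Nat.card G).factorization p :=
    (Nat.Prime.pow_dvd_iff_le_factorization c.p_prime Nat.card_pos.ne').mp h1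
  symm
  apply Subgroup.eq_of_le_of_card_ge hle
  rw [hk, c.card_Kt hu]
  exact Nat.pow_le_pow_right c.p_prime.pos h2

/-- an element of `p`-power order and of order dividing a power of `2` is trivial -/
theorem P6.eq_one_of_orders (c : P6 G p a Q w) {x : G} {j i : ℕ} (h1 : orderOf x ∣ p ^ j)
    (h2 : orderOf x ∣ 2 ^ i) : x = 1 := by
  rw [← orderOf_eq_one_iff]
  have hcop : (p ^ j).Coprime (2 ^ i) :=
    Nat.Coprime.pow _ _ ((Nat.coprime_primes c.p_prime Nat.prime_two).mpr c.two_ne_p.symm)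
  exact Nat.Coprime.eq_one_of_dvd (Nat.Coprime.coprime_dvd_left h1 hcop) h2

theorem P6.orderOf_of_mem_Kt (c : P6 G p a Q w) {u : G} (hu : Inv u) {x : G} (hx : x ∈ Kt p u) :
    ∃ j : ℕ, orderOf x = p ^ j := by
  haveI : Fact p.Prime := ⟨c.p_prime⟩
  obtain ⟨j, hj⟩ := (IsPGroup.iff_orderOf.mp (c.isPGroup_Kt hu)) ⟨x, hx⟩
  rw [Subgroup.orderOf_mk] at hj
  exact ⟨j, hj⟩

theorem P6.inv_not_mem_Kt (c : P6 G p a Q w) {u u' : G} (hu : Inv u) (hu' : Inv u') :
    u' ∉ Kt p u := by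
  intro hmem
  obtain ⟨j, hj⟩ := c.orderOf_of_mem_Kt hu hmem
  apply hu'.1
  apply c.eq_one_of_orders (j := j) (i := 1)
  · rw [hj]
  · rw [hu'.orderOf, pow_one]

end Cfsg.Agent.Lib.Helper4.Mix
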