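import Mathlib
import Cfsg.Agent.Lib.Helper4.MixP6a

set_option autoImplicit false
set_option linter.unusedSectionVars false
set_option linter.unusedVariables false
set_option linter.style.longLine false
set_option linter.style.haveILetI false
set_option maxHeartbeats 800000

/-! S4017, package P6 (note §4.5): `C_G(x) = ⟨u⟩ × K_u` for `1 ≠ x ∈ K_u`. -/

namespace Cfsg.Agent.Lib.Helper4.Mix

open Cfsg.Agent.Lib.Lead.Mix
open scoped Pointwise

universe u

variable {G : Type u} [Group G] [Finite G] {p a : ℕ} {Q : Subgroup G} {w : G}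

theorem mem_centralizer_singleton {x g : G} : g ∈ Subgroup.centralizer ({x} : Set G) ↔ x * g = g * x := by
  rw [Subgroup.mem_centralizer_iff]
  constructor
  · intro h; exact h x rfl
  · intro h y hy
    rw [Set.mem_singleton_iff] at hy
    rw [hy]; exact h

/-- `K_u` is abelian -/
theorem P6.Kt_comm (c : P6 G p a Q w) {u : G} (hu : Inv u) {x y : G} (hx : x ∈ Kt p u)
    (hy : y ∈ Kt p u) : x * y = y * x :=
  c.h.pab (Kt p u) (c.isPGroup_Kt hu) x hx y hy

theorem P6.Kt_le_centralizer_of_mem (c : P6 G p a Q w) {u : G} (hu : Inv u) {x : G}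
    (hx : x ∈ Kt p u) : Kt p u ≤ Subgroup.centralizer {x} := by
  intro y hy
  rw [mem_centralizer_singleton]
  exact c.Kt_comm hu hx hy

/-- `C_G(x)` is a proper subgroup -/
theorem P6.centralizer_ne_top (c : P6 G p a Q w) {x : G} (hx1 : x ≠ 1) {j : ℕ}
    (hxo : orderOf x = p ^ j) : Subgroup.centralizer ({x} : Set G) ≠ ⊤ := by
  intro htop
  have hcomm : ∀ g : G, x * g = g * x := by
    intro g
    have : g ∈ Subgroup.centralizer ({x} : Set G) := by rw [htop]; exact Subgroup.mem_top g
    exact mem_centralizer_singleton.mp this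
  have hX1 : Subgroup.zpowers x ≠ ⊥ := by
    intro hb
    apply hx1
    have : x ∈ (⊥ : Subgroup G) := hb ▸ Subgroup.mem_zpowers x
    exact Subgroup.mem_bot.mp this
  have hX2 : Subgroup.zpowers x ≠ ⊤ := by
    intro ht
    have h1 : Nat.card G = p ^ j := by
      rw [← Subgroup.card_top (G := G), ← ht, Nat.card_zpowers, hxo]
    have h2 : 2 ∣ p ^ j := h1 ▸ (Dvd.dvd.trans (by norm_num) c.four_dvd)
    exact c.two_ne_p ((Nat.prime_dvd_prime_iff_eq Nat.prime_two c.p_prime).mp
      (Nat.prime_two.dvd_of_dvd_pow h2))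
  apply c.h.nloc _ hX1 hX2
  rw [eq_top_iff]
  intro g _
  rw [Subgroup.mem_normalizer_iff]
  intro y
  have key : ∀ y ∈ Subgroup.zpowers x, g * y * g⁻¹ = y := by
    intro y hy
    obtain ⟨k, rfl⟩ := Subgroup.mem_zpowers_iff.mp hy
    have h1 : Commute x g := hcomm g
    have h2 : Commute (x ^ k) g := h1.zpow_left k
    calc g * x ^ k * g⁻¹ = (x ^ k * g) * g⁻¹ := by rw [h2.eq]
      _ = x ^ k := by group
  constructor
  · intro hy; rw [key y hy]; exact hy
  · intro hy
    have h3 := key _ hy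
    have h4 : g * y * g⁻¹ = y := by
      have e : y = g⁻¹ * (g * y * g⁻¹) * g := by group
      have h5 : Commute x g := hcomm g
      obtain ⟨k, hk⟩ := Subgroup.mem_zpowers_iff.mp hy
      have h6 : Commute (x ^ k) g := h5.zpow_left k
      rw [e, ← hk]
      calc g * (g⁻¹ * x ^ k * g) * g⁻¹ = x ^ k := by group
        _ = g⁻¹ * (g * x ^ k) := by group
        _ = g⁻¹ * (x ^ k * g) := by rw [h6.eq]
        _ = g⁻¹ * x ^ k * g := by group
    rw [← h4]; exact hy

/-- the key index computation: `K_u` has index `2` in `C_G(x)` -/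
theorem P6.relIndex_Kt (c : P6 G p a Q w) {u : G} (hu : Inv u) {x : G} (hx : x ∈ Kt p u)
    (hx1 : x ≠ 1) : ((Kt p u).subgroupOf (Subgroup.centralizer ({x} : Set G))).index = 2 := by
  haveI : Fact p.Prime := ⟨c.p_prime⟩
  haveI : Fact (Nat.Prime 2) := ⟨Nat.prime_two⟩
  obtain ⟨j, hxo⟩ := c.orderOf_of_mem_Kt hu hx
  have hKC := c.Kt_le_centralizer_of_mem hu hx
  have huC : u ∈ Subgroup.centralizer ({x} : Set G) := by
    rw [mem_centralizer_singleton]
    have := Kt_le_centralizer p u hx
    exact (mem_centralizer_singleton.mp this).symm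
  have hCtop := c.centralizer_ne_top hx1 hxo
  have h2C : 2 ∣ Nat.card (Subgroup.centralizer ({x} : Set G)) := by
    have := orderOf_dvd_natCard (⟨u, huC⟩ : Subgroup.centralizer ({x} : Set G))
    rwa [Subgroup.orderOf_mk, hu.orderOf] at this
  have hprop := c.h.prop _ hCtop h2C
  -- the index
  have hcardsub : Nat.card ((Kt p u).subgroupOf (Subgroup.centralizer ({x} : Set G))) =
      Nat.card (Kt p u) := Nat.card_congr (Subgroup.subgroupOfEquivOfLe hKC).toEquiv
  have hmul := ((Kt p u).subgroupOf (Subgroup.centralizer ({x} : Set G))).card_mul_index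
  rw [hcardsub, c.card_Kt hu] at hmul
  have hCG : Nat.card (Subgroup.centralizer ({x} : Set G)) ∣ Nat.card G :=
    Subgroup.card_subgroup_dvd_card _
  have hi0 : ((Kt p u).subgroupOf (Subgroup.centralizer ({x} : Set G))).index ≠ 0 :=
    Subgroup.index_ne_zero_of_finite
  have hidvd : ((Kt p u).subgroupOf (Subgroup.centralizer ({x} : Set G))).index ∣
      Nat.card (Subgroup.centralizer ({x} : Set G)) := Dvd.intro_left _ hmul
  -- `p` does not divide the index
  have hpi : ¬ p ∣ ((Kt p u).subgroupOf (Subgroup.centralizer ({x} : Set G))).index := by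
    intro hd
    have h3 : p ^ ((Nat.card G).factorization p + 1) ∣ Nat.card G := by
      rw [pow_succ]
      exact (hmul ▸ Nat.mul_dvd_mul_left _ hd).trans hCG
    exact Nat.pow_succ_factorization_not_dvd Nat.card_pos.ne' c.p_prime h3
  -- so the index is a power of `2`
  have hpow := Nat.eq_prime_pow_of_unique_prime_dvd (p := 2) hi0 (fun {d} hd hdd => by
    rcases hprop d hd (hdd.trans hidvd) with h4 | h4
    · exact h4
    · exact absurd (h4 ▸ hdd) hpi)
  obtain ⟨k, hk⟩ : ∃ k : ℕ, ((Kt p u).subgroupOf (Subgroup.centralizer ({x} : Set G))).index = 2 ^ k :=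
    ⟨_, hpow⟩
  have hk2 : k ≤ 2 := by
    by_contra hcon
    push Not at hcon
    have h8 : 2 ^ 3 ∣ 2 ^ k := pow_dvd_pow 2 hcon
    exact c.not_eight_dvd (by
      have := (h8.trans (hk ▸ hidvd)).trans hCG
      norm_num at this; exact this)
  have hk0 : k ≠ 0 := by
    intro h0
    rw [h0, pow_zero, Subgroup.index_eq_one] at hk
    have : (⟨u, huC⟩ : Subgroup.centralizer ({x} : Set G)) ∈
        (Kt p u).subgroupOf (Subgroup.centralizer ({x} : Set G)) := by rw [hk]; exact Subgroup.mem_top _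
    exact c.inv_not_mem_Kt hu hu (Subgroup.mem_subgroupOf.mp this)
  have hk2' : k ≠ 2 := by
    intro h2
    rw [h2] at hk
    have h4C : 2 ^ 2 ∣ Nat.card (Subgroup.centralizer ({x} : Set G)) := hk ▸ hidvd
    obtain ⟨R, hR⟩ := Sylow.exists_subgroup_card_pow_prime 2 h4C
    have hRp : IsPGroup 2 (R.map (Subgroup.centralizer ({x} : Set G)).subtype) :=
      (IsPGroup.of_card hR).map _
    obtain ⟨g, hg⟩ := c.conj_into_Q hRp
    have hcardR : Nat.card (R.map (Subgroup.centralizer ({x} : Set G)).subtype) = 4 := by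
      rw [Subgroup.card_map_of_injective (Subgroup.subtype_injective _), hR]; norm_num
    -- the conjugate of `R` is all of `Q`
    have hmapQ : (R.map (Subgroup.centralizer ({x} : Set G)).subtype).map
        (MulAut.conj g).toMonoidHom = Q := by
      apply Subgroup.eq_of_le_of_card_ge
      · rintro _ ⟨y, hy, rfl⟩
        simpa [MulAut.conj_apply] using hg y hy
      · rw [Subgroup.card_map_of_injective (MulAut.conj g).injective, hcardR, c.card_Q]
    -- `g x g⁻¹` centralises `Q`
    have hxQ : g * x * g⁻¹ ∈ Subgroup.centralizer (Q : Set G) := by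
      rw [Subgroup.mem_centralizer_iff]
      intro y hy
      have hy' : y ∈ (R.map (Subgroup.centralizer ({x} : Set G)).subtype).map
          (MulAut.conj g).toMonoidHom := by rw [hmapQ]; exact hy
      obtain ⟨z, ⟨z', hz', rfl⟩, rfl⟩ := hy'
      have hzx : x * (z' : G) = (z' : G) * x := mem_centralizer_singleton.mp z'.2
      simp only [Subgroup.subtype_apply, MulEquiv.coe_toMonoidHom, MulAut.conj_apply]
      calc g * (z' : G) * g⁻¹ * (g * x * g⁻¹) = g * ((z' : G) * x) * g⁻¹ := by group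
        _ = g * (x * (z' : G)) * g⁻¹ := by rw [hzx]
        _ = g * x * g⁻¹ * (g * (z' : G) * g⁻¹) := by group
    have ho := orderOf_dvd_natCard (⟨g * x * g⁻¹, hxQ⟩ : Subgroup.centralizer (Q : Set G))
    rw [Subgroup.orderOf_mk, c.card_centralizer_Q] at ho
    have ho' : orderOf (g * x * g⁻¹) = orderOf x := by
      have : g * x * g⁻¹ = (MulAut.conj g) x := by simp [MulAut.conj_apply]
      rw [this, MulEquiv.orderOf_eq]
    rw [ho'] at ho
    exact hx1 (c.eq_one_of_orders (j := j) (i := 2) (by rw [hxo]) (by norm_num; exact ho))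
  have : k = 1 := by omega
  rw [hk, this, pow_one]

/-- `C_G(x) ≤ N_G(K_u)` -/
theorem P6.centralizer_le_normalizer_Kt (c : P6 G p a Q w) {u : G} (hu : Inv u) {x : G}
    (hx : x ∈ Kt p u) (hx1 : x ≠ 1) :
    Subgroup.centralizer ({x} : Set G) ≤ Subgroup.normalizer (Kt p u : Set G) := by
  have hKC := c.Kt_le_centralizer_of_mem hu hx
  have hn : ((Kt p u).subgroupOf (Subgroup.centralizer ({x} : Set G))).Normal :=
    Subgroup.normal_of_index_eq_two (c.relIndex_Kt hu hx hx1)
  exact (Subgroup.normal_subgroupOf_iff_le_normalizer hKC).mp hn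

/-- (4.5)(a): `C_G(x) ≤ C_G(u)` -/
theorem P6.centralizer_le (c : P6 G p a Q w) {u : G} (hu : Inv u) {x : G}
    (hx : x ∈ Kt p u) (hx1 : x ≠ 1) :
    Subgroup.centralizer ({x} : Set G) ≤ Subgroup.centralizer {u} :=
  (c.centralizer_le_normalizer_Kt hu hx hx1).trans (c.normalizer_Kt_le hu)

/-- (4.5)(b): `u` is the only involution centralising `x` -/
theorem P6.inv_unique (c : P6 G p a Q w) {u : G} (hu : Inv u) {x : G}
    (hx : x ∈ Kt p u) (hx1 : x ≠ 1) {u' : G} (hu' : Inv u') (hc : x * u' = u' * x) : u' = u := by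
  have hu'C : u' ∈ Subgroup.centralizer ({x} : Set G) := mem_centralizer_singleton.mpr hc
  have huC : u ∈ Subgroup.centralizer ({x} : Set G) := by
    rw [mem_centralizer_singleton]
    exact (mem_centralizer_singleton.mp (Kt_le_centralizer p u hx)).symm
  have huu' : u * u' = u' * u := mem_centralizer_singleton.mp (c.centralizer_le hu hx hx1 hu'C)
  have hidx := c.relIndex_Kt hu hx hx1
  have h1 := Subgroup.mul_mem_iff_of_index_two hidx
    (a := (⟨u, huC⟩ : Subgroup.centralizer ({x} : Set G))) (b := ⟨u', hu'C⟩)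
  have h2 : (⟨u, huC⟩ : Subgroup.centralizer ({x} : Set G)) * ⟨u', hu'C⟩ ∈
      (Kt p u).subgroupOf (Subgroup.centralizer ({x} : Set G)) := by
    rw [h1]
    constructor
    · intro h3; exact absurd (Subgroup.mem_subgroupOf.mp h3) (c.inv_not_mem_Kt hu hu)
    · intro h3; exact absurd (Subgroup.mem_subgroupOf.mp h3) (c.inv_not_mem_Kt hu hu')
  have h3 : u * u' ∈ Kt p u := Subgroup.mem_subgroupOf.mp h2
  obtain ⟨j, hj⟩ := c.orderOf_of_mem_Kt hu h3
  have h4 : (u * u') ^ 2 = 1 := by
    have hcm : Commute u u' := huu'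
    rw [hcm.mul_pow, hu.2, hu'.2, one_mul]
  have h5 : u * u' = 1 := c.eq_one_of_orders (j := j) (i := 1) (by rw [hj])
    (by rw [pow_one]; exact orderOf_dvd_of_pow_eq_one h4)
  have h6 : u' = u⁻¹ := (eq_inv_of_mul_eq_one_right h5)
  rw [h6, hu.inv_eq]

/-- (4.5)(c): an element inverting `x` commutes with `u` -/
theorem P6.commute_of_inverts (c : P6 G p a Q w) {u : G} (hu : Inv u) {x : G}
    (hx : x ∈ Kt p u) (hx1 : x ≠ 1) {s : G} (hs : s * x * s⁻¹ = x⁻¹) : s * u = u * s := by
  haveI : Fact p.Prime := ⟨c.p_prime⟩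
  have hKp := c.isPGroup_Kt hu
  -- the conjugate `K' = s K_u s⁻¹`
  have hK'p : IsPGroup p ((Kt p u).map (MulAut.conj s).toMonoidHom) := hKp.map _
  have hxK' : x ∈ (Kt p u).map (MulAut.conj s).toMonoidHom := by
    have h1 : x⁻¹ ∈ (Kt p u).map (MulAut.conj s).toMonoidHom :=
      ⟨x, hx, by simp [MulAut.conj_apply, hs]⟩
    have := Subgroup.inv_mem _ h1
    simpa using this
  have hK'C : (Kt p u).map (MulAut.conj s).toMonoidHom ≤ Subgroup.centralizer {x} := by
    intro y hy
    rw [mem_centralizer_singleton]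
    exact c.h.pab _ hK'p x hxK' y hy
  have hK'N : (Kt p u).map (MulAut.conj s).toMonoidHom ≤ Subgroup.normalizer (Kt p u : Set G) :=
    hK'C.trans (c.centralizer_le_normalizer_Kt hu hx hx1)
  have hsup : IsPGroup p ((Kt p u).map (MulAut.conj s).toMonoidHom ⊔ Kt p u : Subgroup G) :=
    IsPGroup.to_sup_of_normal_right' hK'p hKp hK'N
  have heq := c.eq_Kt_of_le hu hsup le_sup_right
  have hle : (Kt p u).map (MulAut.conj s).toMonoidHom ≤ Kt p u :=
    le_sup_left.trans heq.le
  -- so `s` normalises `K_u`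
  have hsN : s ∈ Subgroup.normalizer (Kt p u : Set G) := by
    have heq' : (Kt p u).map (MulAut.conj s).toMonoidHom = Kt p u := by
      apply Subgroup.eq_of_le_of_card_ge hle
      rw [Subgroup.card_map_of_injective (MulAut.conj s).injective]
    rw [Subgroup.mem_normalizer_iff]
    intro y
    constructor
    · intro hy
      have : s * y * s⁻¹ ∈ (Kt p u).map (MulAut.conj s).toMonoidHom :=
        ⟨y, hy, by simp [MulAut.conj_apply]⟩
      rw [heq'] at this
      exact this
    · intro hy
      rw [← heq'] at hy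
      obtain ⟨z, hz, hzy⟩ := hy
      simp only [MulEquiv.coe_toMonoidHom, MulAut.conj_apply] at hzy
      have : z = y := by
        have h2 : s * z = s * y := mul_right_cancel hzy
        exact mul_left_cancel h2
      rw [← this]; exact hz
  have := c.normalizer_Kt_le hu hsN
  exact (mem_centralizer_singleton.mp this).symm

/-- every non-identity `p`-element lies in `K_u` for some involution `u` -/
theorem P6.exists_inv_Kt (c : P6 G p a Q w) {x : G} {j : ℕ} (hxo : orderOf x = p ^ j) :
    ∃ u : G, Inv u ∧ x ∈ Kt p u := by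
  haveI : Fact p.Prime := ⟨c.p_prime⟩
  obtain ⟨t, ht, ht1⟩ := c.exists_inv_Q
  have htinv : Inv t := ⟨ht1, c.h.Qexp t ht⟩
  have hz : IsPGroup p (Subgroup.zpowers x) :=
    IsPGroup.of_card (by rw [Nat.card_zpowers, hxo])
  obtain ⟨S, hS⟩ := hz.exists_le_sylow
  obtain ⟨g, hg⟩ := MulAction.exists_smul_eq G (Sylow.ofCard (Kt p t) (c.card_Kt htinv)) S
  refine ⟨g * t * g⁻¹, htinv.conj g, ?_⟩
  rw [Kt_conj]
  have hxS : x ∈ (S : Subgroup G) := hS (Subgroup.mem_zpowers x)
  rw [← hg, Sylow.coe_subgroup_smul] at hxS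
  have h2 : (MulAut.conj g • ((Sylow.ofCard (Kt p t) (c.card_Kt htinv) : Sylow p G) : Subgroup G)) =
      (Kt p t).map (MulAut.conj g).toMonoidHom := rfl
  rw [h2] at hxS
  exact hxS

end Cfsg.Agent.Lib.Helper4.Mix
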