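import Mathlib
import Cfsg.Agent.Lib.Helper4.MixP6b
import Cfsg.Agent.Lib.Lead.FriendshipGraph

set_option autoImplicit false
set_option linter.unusedSectionVars false
set_option linter.unusedVariables false
set_option linter.style.longLine false
set_option linter.style.haveILetI false
set_option maxHeartbeats 800000

/-! S4017, package P6 (note §4.6): the commuting graph on involutions is a friendship graph. -/

namespace Cfsg.Agent.Lib.Helper4.Mix

open Cfsg.Agent.Lib.Lead.Mix Cfsg.Agent.Lib.Lead.FriendshipGraph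
open scoped Pointwise

universe u

variable {G : Type u} [Group G] [Finite G] {p a : ℕ} {Q : Subgroup G} {w : G}

/-- in a group of order `4`, the third non-identity element is the product of the other two -/
theorem eq_mul_of_card_four {S : Type*} [Group S] [Finite S] (h4 : Nat.card S = 4) {s t u : S}
    (hs : s ≠ 1) (ht : t ≠ 1) (hu : u ≠ 1) (hst : s ≠ t) (hus : u ≠ s) (hut : u ≠ t)
    (hs2 : s ^ 2 = 1) : u = s * t := by
  classical
  haveI : Fintype S := Fintype.ofFinite S
  by_contra hne
  have hst1 : s * t ≠ 1 := by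
    intro h1
    apply hst
    have h2 : s * s = 1 := by rw [← pow_two]; exact hs2
    exact mul_left_cancel (h2.trans h1.symm)
  have hsts : s * t ≠ s := by
    intro h1
    apply ht
    have : s * t = s * 1 := by rw [mul_one]; exact h1
    exact mul_left_cancel this
  have hstt : s * t ≠ t := by
    intro h1
    apply hs
    have : s * t = 1 * t := by rw [one_mul]; exact h1
    exact mul_right_cancel this
  have hcard : ({1, s, t, s * t, u} : Finset S).card = 5 := by
    rw [Finset.card_insert_of_notMem, Finset.card_insert_of_notMem, Finset.card_insert_of_notMem,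
      Finset.card_insert_of_notMem, Finset.card_singleton]
    · simp only [Finset.mem_singleton]; exact fun e => hne e.symm
    · simp only [Finset.mem_insert, Finset.mem_singleton]
      rintro (e | e)
      · exact hstt e.symm
      · exact hut e.symm
    · simp only [Finset.mem_insert, Finset.mem_singleton]
      rintro (e | e | e)
      · exact hst e
      · exact hsts e.symm
      · exact hus e.symm
    · simp only [Finset.mem_insert, Finset.mem_singleton]
      rintro (e | e | e | e)
      · exact hs e.symm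
      · exact ht e.symm
      · exact hst1 e.symm
      · exact hu e.symm
  have hle := Finset.card_le_univ ({1, s, t, s * t, u} : Finset S)
  rw [hcard, ← Nat.card_eq_fintype_card, h4] at hle
  omega

/-- the subgroup generated by pairwise commuting involutions is a `2`-group -/
theorem isPGroup_two_closure {A : Set G} (hcomm : ∀ x ∈ A, ∀ y ∈ A, x * y = y * x)
    (hexp : ∀ x ∈ A, x ^ 2 = 1) : IsPGroup 2 (Subgroup.closure A) := by
  haveI : IsMulCommutative ↥(Subgroup.closure A) := Subgroup.isMulCommutative_closure hcomm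
  have key : ∀ e ∈ Subgroup.closure A, e ^ 2 = 1 := by
    intro e he
    induction he using Subgroup.closure_induction with
    | mem z hz => exact hexp z hz
    | one => exact one_pow 2
    | mul x y hx hy ihx ihy =>
      have hc : Commute x y := setLike_mul_comm hx hy
      rw [hc.mul_pow, ihx, ihy, one_mul]
    | inv x _ ihx => rw [inv_pow, ihx, inv_one]
  rintro ⟨e, he⟩
  refine ⟨1, ?_⟩
  apply Subtype.ext
  simpa using key e he

/-- commuting case: a common neighbour of the commuting involutions `s ≠ t` is `s t` -/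
theorem P6.common_of_commute (c : P6 G p a Q w) {s t u : G} (hs : Inv s) (ht : Inv t) (hu : Inv u)
    (hst : s ≠ t) (hus : u ≠ s) (hut : u ≠ t) (hcst : s * t = t * s) (hcsu : s * u = u * s)
    (hctu : t * u = u * t) : u = s * t := by
  haveI : Fact (Nat.Prime 2) := ⟨Nat.prime_two⟩
  have hA : IsPGroup 2 (Subgroup.closure ({s, t, u} : Set G)) := by
    apply isPGroup_two_closure
    · intro x hx y hy
      simp only [Set.mem_insert_iff, Set.mem_singleton_iff] at hx hy
      rcases hx with rfl | rfl | rfl <;> rcases hy with rfl | rfl | rfl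
      · rfl
      · exact hcst
      · exact hcsu
      · exact hcst.symm
      · rfl
      · exact hctu
      · exact hcsu.symm
      · exact hctu.symm
      · rfl
    · intro x hx
      simp only [Set.mem_insert_iff, Set.mem_singleton_iff] at hx
      rcases hx with rfl | rfl | rfl
      · exact hs.2
      · exact ht.2
      · exact hu.2
  obtain ⟨S, hS⟩ := hA.exists_le_sylow
  have hcardS : Nat.card (S : Subgroup G) = 4 := by
    rw [S.card_eq_multiplicity, c.factorization_two]; norm_num
  have hsS : s ∈ (S : Subgroup G) := hS (Subgroup.subset_closure (by simp))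
  have htS : t ∈ (S : Subgroup G) := hS (Subgroup.subset_closure (by simp))
  have huS : u ∈ (S : Subgroup G) := hS (Subgroup.subset_closure (by simp))
  have := eq_mul_of_card_four hcardS (s := (⟨s, hsS⟩ : (S : Subgroup G))) (t := ⟨t, htS⟩)
    (u := ⟨u, huS⟩)
    (fun e => hs.1 (congrArg Subtype.val e)) (fun e => ht.1 (congrArg Subtype.val e))
    (fun e => hu.1 (congrArg Subtype.val e)) (fun e => hst (congrArg Subtype.val e))
    (fun e => hus (congrArg Subtype.val e)) (fun e => hut (congrArg Subtype.val e))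
    (Subtype.ext (by simpa using hs.2))
  exact congrArg Subtype.val this

/-- non-commuting case: the `p`-part of `s t` -/
theorem P6.exists_ppart (c : P6 G p a Q w) {s t : G} (hs : Inv s) (ht : Inv t)
    (hnc : s * t ≠ t * s) :
    ∃ x : G, x ≠ 1 ∧ (∃ j : ℕ, orderOf x = p ^ j) ∧ s * x * s⁻¹ = x⁻¹ ∧ t * x * t⁻¹ = x⁻¹ ∧
      ∀ g : G, s * g = g * s → t * g = g * t → x * g = g * x := by
  have hsinv : s * (s * t) * s⁻¹ = (s * t)⁻¹ := by
    rw [mul_inv_rev, hs.inv_eq, ht.inv_eq]
    have h2 : s * s = 1 := by rw [← pow_two]; exact hs.2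
    calc s * (s * t) * s = (s * s) * t * s := by group
      _ = t * s := by rw [h2, one_mul]
  have htinv : t * (s * t) * t⁻¹ = (s * t)⁻¹ := by
    rw [mul_inv_rev, hs.inv_eq, ht.inv_eq]
    have h2 : t * t = 1 := by rw [← pow_two]; exact ht.2
    calc t * (s * t) * t = t * s * (t * t) := by group
      _ = t * s := by rw [h2, mul_one]
  have hst1 : s * t ≠ 1 := by
    intro h1
    apply hnc
    have : t = s⁻¹ := (eq_inv_of_mul_eq_one_right h1)
    rw [this, hs.inv_eq]
  have hst2 : (s * t) ^ 2 ≠ 1 := by
    intro h1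
    apply hnc
    have h2 : s * t = (s * t)⁻¹ := by
      rw [pow_two] at h1
      exact eq_inv_of_mul_eq_one_left h1
    rw [mul_inv_rev, hs.inv_eq, ht.inv_eq] at h2
    exact h2
  obtain ⟨j, hj | hj⟩ := c.h.dih s t hs.1 ht.1 hs.2 ht.2
  · refine ⟨s * t, hst1, ⟨j, hj⟩, hsinv, htinv, ?_⟩
    intro g hsg htg
    calc s * t * g = s * (t * g) := by group
      _ = s * (g * t) := by rw [htg]
      _ = (s * g) * t := by group
      _ = (g * s) * t := by rw [hsg]
      _ = g * (s * t) := by group
  · refine ⟨(s * t) ^ 2, hst2, ⟨j, ?_⟩, ?_, ?_, ?_⟩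
    · rw [orderOf_pow_of_dvd (by norm_num) (hj ▸ Dvd.intro _ rfl), hj]
      simp
    · rw [← conj_pow, hsinv, inv_pow]
    · rw [← conj_pow, htinv, inv_pow]
    · intro g hsg htg
      have h1 : Commute (s * t) g := by
        show s * t * g = g * (s * t)
        calc s * t * g = s * (t * g) := by group
          _ = s * (g * t) := by rw [htg]
          _ = (s * g) * t := by group
          _ = (g * s) * t := by rw [hsg]
          _ = g * (s * t) := by group
      exact (h1.pow_left 2).eq

/-- the type of involutions -/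
abbrev Invo (G : Type u) [Group G] : Type u := {s : G // Inv s}

/-- the commuting graph on the involutions -/
def invGraph (G : Type u) [Group G] : SimpleGraph (Invo G) where
  Adj s t := s ≠ t ∧ s.1 * t.1 = t.1 * s.1
  symm := ⟨fun s t h => ⟨h.1.symm, h.2.symm⟩⟩
  loopless := ⟨fun s h => h.1 rfl⟩

theorem invGraph_adj {s t : Invo G} :
    (invGraph G).Adj s t ↔ s ≠ t ∧ s.1 * t.1 = t.1 * s.1 := Iff.rfl

noncomputable instance : Fintype (Invo G) := Fintype.ofFinite _

/-- §4.6: the commuting graph on involutions is a friendship graph -/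
theorem P6.friendship (c : P6 G p a Q w) : Friendship (invGraph G) := by
  classical
  intro s t hst
  refine Fintype.card_eq_one_iff.mpr ?_
  have hst' : s.1 ≠ t.1 := fun e => hst (Subtype.ext e)
  by_cases hcomm : s.1 * t.1 = t.1 * s.1
  · -- the common neighbour is `s t`
    have hprod : Inv (s.1 * t.1) := by
      refine ⟨?_, ?_⟩
      · intro h1
        apply hst'
        have : t.1 = s.1⁻¹ := eq_inv_of_mul_eq_one_right h1
        rw [this, s.2.inv_eq]
      · have hc : Commute s.1 t.1 := hcomm
        rw [hc.mul_pow, s.2.2, t.2.2, one_mul]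
    have hne1 : (⟨s.1 * t.1, hprod⟩ : Invo G) ≠ s := by
      intro e
      have e' : s.1 * t.1 = s.1 := congrArg Subtype.val e
      apply t.2.1
      have : s.1 * t.1 = s.1 * 1 := by rw [mul_one]; exact e'
      exact mul_left_cancel this
    have hne2 : (⟨s.1 * t.1, hprod⟩ : Invo G) ≠ t := by
      intro e
      have e' : s.1 * t.1 = t.1 := congrArg Subtype.val e
      apply s.2.1
      have : s.1 * t.1 = 1 * t.1 := by rw [one_mul]; exact e'
      exact mul_right_cancel this
    refine ⟨⟨⟨s.1 * t.1, hprod⟩, ?_⟩, ?_⟩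
    · rw [SimpleGraph.mem_commonNeighbors]
      refine ⟨invGraph_adj.mpr ⟨hne1.symm, ?_⟩, invGraph_adj.mpr ⟨hne2.symm, ?_⟩⟩
      · show s.1 * (s.1 * t.1) = s.1 * t.1 * s.1
        rw [mul_assoc, hcomm]
      · show t.1 * (s.1 * t.1) = s.1 * t.1 * t.1
        rw [← mul_assoc, hcomm]
    · rintro ⟨u, hu⟩
      rw [SimpleGraph.mem_commonNeighbors] at hu
      obtain ⟨hu1, hu2⟩ := hu
      obtain ⟨hsu, hcsu⟩ := invGraph_adj.mp hu1
      obtain ⟨htu, hctu⟩ := invGraph_adj.mp hu2
      apply Subtype.ext
      apply Subtype.ext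
      show u.1 = s.1 * t.1
      exact c.common_of_commute s.2 t.2 u.2 hst' (fun e => hsu (Subtype.ext e.symm))
        (fun e => htu (Subtype.ext e.symm)) hcomm hcsu hctu
  · -- the non-commuting case
    obtain ⟨x, hx1, ⟨j, hxo⟩, hsx, htx, hxc⟩ := c.exists_ppart s.2 t.2 hcomm
    obtain ⟨u, hu, hxu⟩ := c.exists_inv_Kt hxo
    have hsu : s.1 * u = u * s.1 := c.commute_of_inverts hu hxu hx1 hsx
    have htu : t.1 * u = u * t.1 := c.commute_of_inverts hu hxu hx1 htx
    have hus : (⟨u, hu⟩ : Invo G) ≠ s := by
      intro e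
      have e' : u = s.1 := congrArg Subtype.val e
      apply hcomm
      rw [← e']; exact htu.symm
    have hut : (⟨u, hu⟩ : Invo G) ≠ t := by
      intro e
      have e' : u = t.1 := congrArg Subtype.val e
      apply hcomm
      rw [← e']; exact hsu
    refine ⟨⟨⟨u, hu⟩, ?_⟩, ?_⟩
    · rw [SimpleGraph.mem_commonNeighbors]
      exact ⟨invGraph_adj.mpr ⟨hus.symm, hsu⟩, invGraph_adj.mpr ⟨hut.symm, htu⟩⟩
    · rintro ⟨u', hu'⟩
      rw [SimpleGraph.mem_commonNeighbors] at hu'
      obtain ⟨hu1, hu2⟩ := hu'
      obtain ⟨-, hcsu'⟩ := invGraph_adj.mp hu1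
      obtain ⟨-, hctu'⟩ := invGraph_adj.mp hu2
      apply Subtype.ext
      apply Subtype.ext
      show u'.1 = u
      exact c.inv_unique hu hxu hx1 u'.2 (hxc u'.1 hcsu' hctu')

/-- package P6: Case IIb with `a = 2` is impossible -/
theorem P6.false (c : P6 G p a Q w) : False := by
  obtain ⟨t, ht, ht1⟩ := c.exists_inv_Q
  haveI : Nonempty (Invo G) := ⟨⟨t, ht1, c.h.Qexp t ht⟩⟩
  obtain ⟨v, hv⟩ := friendship_theorem c.friendship
  -- `v` commutes with all involutions
  have hvc : ∀ s : G, Inv s → v.1 * s = s * v.1 := by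
    intro s hs
    by_cases e : v = ⟨s, hs⟩
    · rw [e]
    · exact (invGraph_adj.mp (hv ⟨s, hs⟩ e)).2
  -- hence with all its conjugates, and the normal closure of `v` centralises `v`
  have hN : Subgroup.normalClosure ({v.1} : Set G) ≤ Subgroup.centralizer {v.1} := by
    unfold Subgroup.normalClosure
    rw [Subgroup.closure_le]
    intro y hy
    rw [Group.mem_conjugatesOfSet_iff] at hy
    obtain ⟨z, hz, hzy⟩ := hy
    rw [Set.mem_singleton_iff] at hz
    rw [isConj_iff] at hzy
    obtain ⟨g, hg⟩ := hzy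
    rw [SetLike.mem_coe, mem_centralizer_singleton, ← hg, hz]
    exact hvc _ (v.2.conj g)
  have hNtop : Subgroup.normalClosure ({v.1} : Set G) = ⊤ := by
    rcases c.h.simp _ Subgroup.normalClosure_normal with h0 | h0
    · exfalso
      have : v.1 ∈ Subgroup.normalClosure ({v.1} : Set G) :=
        Subgroup.subset_normalClosure (Set.mem_singleton _)
      rw [h0, Subgroup.mem_bot] at this
      exact v.2.1 this
    · exact h0
  have hcentral : ∀ g : G, v.1 * g = g * v.1 := by
    intro g
    have : g ∈ Subgroup.centralizer ({v.1} : Set G) := hN (hNtop ▸ Subgroup.mem_top g)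
    exact mem_centralizer_singleton.mp this
  -- contradiction with `nloc` for `⟨v⟩`
  have hX1 : Subgroup.zpowers v.1 ≠ ⊥ := by
    intro hb
    apply v.2.1
    have : v.1 ∈ (⊥ : Subgroup G) := hb ▸ Subgroup.mem_zpowers v.1
    exact Subgroup.mem_bot.mp this
  have hX2 : Subgroup.zpowers v.1 ≠ ⊤ := by
    intro htop
    have h1 : Nat.card G = 2 := by
      rw [← Subgroup.card_top (G := G), ← htop, Nat.card_zpowers, v.2.orderOf]
    have h2 := c.four_dvd
    rw [h1] at h2
    omega
  apply c.h.nloc _ hX1 hX2
  rw [eq_top_iff]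
  intro g _
  rw [Subgroup.mem_normalizer_iff]
  have key : ∀ y ∈ Subgroup.zpowers v.1, g * y * g⁻¹ = y := by
    intro y hy
    obtain ⟨k, rfl⟩ := Subgroup.mem_zpowers_iff.mp hy
    have h1 : Commute v.1 g := hcentral g
    have h2 : Commute (v.1 ^ k) g := h1.zpow_left k
    calc g * v.1 ^ k * g⁻¹ = (v.1 ^ k * g) * g⁻¹ := by rw [h2.eq]
      _ = v.1 ^ k := by group
  intro y
  constructor
  · intro hy; rw [key y hy]; exact hy
  · intro hy
    have h3 := key _ hy
    have h4 : g * (g * y * g⁻¹) * g⁻¹ = g * y * g⁻¹ := h3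
    have h5 : g * y * g⁻¹ = y := by
      have e1 : g * y * g⁻¹ = g⁻¹ * (g * (g * y * g⁻¹) * g⁻¹) * g := by group
      rw [e1, h4]; group
    rw [← h5]; exact hy

/-- package P6, in the shape of `cfg_false_of_packages` -/
theorem caseIIb_false {G : Type u} [Group G] [Finite G] {p a : ℕ} {Q : Subgroup G} {w : G}
    (h : CfgB G p a Q w) (ha : a = 2) (h1 : Pone p Q = ⊥)
    (hS : ∀ t ∈ Q, t ≠ 1 → (Nat.card (Kt p t) = p ^ (Nat.card G).factorization p ∧
      Subgroup.normalizer (Kt p t : Set G) = Subgroup.centralizer {t} ∧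
      ∀ t' ∈ Q, t' ≠ 1 → t' ≠ t → ∀ x ∈ Kt p t, t' * x * t'⁻¹ = x⁻¹)) : False :=
  P6.false ⟨h, ha, h1, hS⟩

end Cfsg.Agent.Lib.Helper4.Mix
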