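import Mathlib
import Cfsg.Agent.Lib.Helper4.NDU0

set_option autoImplicit false
set_option linter.unusedSectionVars false

/-! S5954 PK-ARITH(a): `cDim i` is the order of `-q` modulo `r`. -/

namespace Cfsg.Agent.Lib.Helper4.NDU

section arith

theorem aritha_neg_one_ne_one (r : ℕ) [Fact r.Prime] (hr2 : r ≠ 2) : (-1 : ZMod r) ≠ 1 := by
  intro h
  have h2 : ((2 : ℕ) : ZMod r) = 0 := by
    have : (1 : ZMod r) + 1 = 0 := by
      nth_rewrite 1 [← h]
      ring
    push_cast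
    rw [← this]; ring
  rw [ZMod.natCast_eq_zero_iff] at h2
  exact hr2 ((Nat.prime_dvd_prime_iff_eq Fact.out Nat.prime_two).mp h2)

theorem aritha_orderOf_neg_one (r : ℕ) [Fact r.Prime] (hr2 : r ≠ 2) : orderOf (-1 : ZMod r) = 2 := by
  rw [orderOf_eq_iff (by norm_num)]
  refine ⟨by ring, ?_⟩
  intro m hm hm0
  have : m = 1 := by omega
  subst this
  rw [pow_one]
  exact aritha_neg_one_ne_one r hr2

/-- in a field, an element of order two is `-1` -/
theorem aritha_eq_neg_one (r : ℕ) [Fact r.Prime] (x : ZMod r) (h1 : x ^ 2 = 1) (h2 : x ≠ 1) :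
    x = -1 := by
  have h3 : (x - 1) * (x + 1) = 0 := by ring_nf; rw [h1]; ring
  rcases mul_eq_zero.mp h3 with h | h
  · exact absurd (sub_eq_zero.mp h) h2
  · exact eq_neg_of_add_eq_zero_left h

theorem aritha_pow_half (r : ℕ) [Fact r.Prime] (a : ZMod r) (h : ℕ) (hh : 0 < h)
    (hord : orderOf a = 2 * h) : a ^ h = -1 := by
  apply aritha_eq_neg_one r
  · rw [← pow_mul, mul_comm, ← hord]
    exact pow_orderOf_eq_one a
  · intro h1
    have := orderOf_dvd_of_pow_eq_one h1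
    rw [hord] at this
    have := Nat.le_of_dvd hh this
    omega

theorem aritha_orderOf_pos (r : ℕ) [Fact r.Prime] (a : ZMod r) (ha : a ≠ 0) : 0 < orderOf a := by
  apply orderOf_pos_iff.mpr
  rw [isOfFinOrder_iff_pow_eq_one]
  have hr : r.Prime := Fact.out
  exact ⟨r - 1, by have := hr.two_le; omega, ZMod.pow_card_sub_one_eq_one ha⟩

/-- the order of `-a` -/
theorem aritha_orderOf_neg (r : ℕ) [Fact r.Prime] (hr2 : r ≠ 2) (a : ZMod r) (ha : a ≠ 0) :
    orderOf (-a) = cDim (orderOf a) := by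
  have hi := aritha_orderOf_pos r a ha
  unfold cDim
  rcases Nat.even_or_odd (orderOf a) with hev | hodd
  · obtain ⟨h, hh⟩ := hev
    have hh' : orderOf a = 2 * h := by omega
    have hhpos : 0 < h := by omega
    have hpow := aritha_pow_half r a h hhpos hh'
    have hneg : -a = a ^ (h + 1) := by rw [pow_succ, hpow]; ring
    rw [hneg, orderOf_pow' a (Nat.succ_ne_zero h), hh']
    rcases Nat.even_or_odd h with hhe | hho
    · -- i ≡ 0 mod 4
      obtain ⟨t, ht⟩ := hhe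
      have hmod : (2 * h) % 4 = 0 := by omega
      rw [if_pos hmod]
      have hg : Nat.gcd (2 * h) (h + 1) = 1 := by
        have h1 : Nat.Coprime h (h + 1) := by simp
        have h2 : Nat.Coprime 2 (h + 1) := by
          rw [Nat.Prime.coprime_iff_not_dvd Nat.prime_two]; omega
        exact Nat.Coprime.mul_left h2 h1
      rw [hg, Nat.div_one]
    · -- i ≡ 2 mod 4
      obtain ⟨t, ht⟩ := hho
      have hmod : (2 * h) % 4 = 2 := by omega
      have hmod' : ¬ (2 * h) % 4 = 0 := by omega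
      rw [if_neg hmod', if_pos hmod]
      have hg : Nat.gcd (2 * h) (h + 1) = 2 := by
        have h1 : Nat.Coprime h (t + 1) := by
          rw [ht]
          have : 2 * t + 1 = t + (t + 1) := by ring
          rw [this]
          simp
        have h3 : h + 1 = 2 * (t + 1) := by omega
        rw [h3, Nat.gcd_mul_left, Nat.Coprime.gcd_eq_one h1, mul_one]
      rw [hg]
  · have hmod' : ¬ (orderOf a) % 4 = 0 := by
      obtain ⟨t, ht⟩ := hodd; omega
    have hmod'' : ¬ (orderOf a) % 4 = 2 := by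
      obtain ⟨t, ht⟩ := hodd; omega
    rw [if_neg hmod', if_neg hmod'']
    have hneg : -a = (-1) * a := by ring
    have hcop : Nat.Coprime (orderOf (-1 : ZMod r)) (orderOf a) := by
      rw [aritha_orderOf_neg_one r hr2, Nat.Prime.coprime_iff_not_dvd Nat.prime_two]
      obtain ⟨t, ht⟩ := hodd; omega
    rw [hneg, (Commute.all (-1 : ZMod r) a).orderOf_mul_eq_mul_orderOf_of_coprime hcop,
      aritha_orderOf_neg_one r hr2]

theorem aritha_cast_ne_zero (r : ℕ) [Fact r.Prime] (q : ℕ) (hrq : ¬ r ∣ q) :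
    ((q : ℕ) : ZMod r) ≠ 0 := by
  intro h
  exact hrq ((ZMod.natCast_eq_zero_iff q r).mp h)

/-- `r ∣ q ^ k - (-1) ^ k` iff `(-q) ^ k = 1` in `ZMod r` -/
theorem aritha_dvd_iff (r : ℕ) [Fact r.Prime] (q k : ℕ) :
    (r : ℤ) ∣ (q : ℤ) ^ k - (-1) ^ k ↔ (-((q : ℕ) : ZMod r)) ^ k = 1 := by
  rw [← ZMod.intCast_zmod_eq_zero_iff_dvd]
  push_cast
  have hsq : ((-1 : ZMod r) ^ k) * ((-1 : ZMod r) ^ k) = 1 := by
    rw [← mul_pow]; norm_num
  have hneg : (-((q : ℕ) : ZMod r)) ^ k = (-1) ^ k * ((q : ℕ) : ZMod r) ^ k := by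
    rw [← mul_pow]; ring_nf
  rw [hneg]
  constructor
  · intro h
    have h1 : ((q : ℕ) : ZMod r) ^ k = (-1) ^ k := sub_eq_zero.mp h
    rw [h1, hsq]
  · intro h
    have h1 : ((q : ℕ) : ZMod r) ^ k = (-1) ^ k := by
      calc ((q : ℕ) : ZMod r) ^ k = ((-1 : ZMod r) ^ k * (-1 : ZMod r) ^ k) * ((q : ℕ) : ZMod r) ^ k := by
            rw [hsq, one_mul]
        _ = (-1 : ZMod r) ^ k * ((-1 : ZMod r) ^ k * ((q : ℕ) : ZMod r) ^ k) := by ring
        _ = (-1) ^ k := by rw [h, mul_one]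
    rw [h1, sub_self]

theorem orderOf_eq_two_iff (r : ℕ) [Fact r.Prime] (hr2 : r ≠ 2) (q : ℕ) :
    orderOf ((q : ℕ) : ZMod r) = 2 ↔ r ∣ q + 1 := by
  constructor
  · intro h
    have h1 : ((q : ℕ) : ZMod r) ^ 2 = 1 := by rw [← h]; exact pow_orderOf_eq_one _
    have h2 : ((q : ℕ) : ZMod r) ≠ 1 := by
      intro h3
      rw [h3, orderOf_one] at h
      omega
    have h3 := aritha_eq_neg_one r _ h1 h2
    rw [← ZMod.natCast_eq_zero_iff]
    push_cast
    rw [h3]; ring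
  · intro h
    have h1 : ((q : ℕ) : ZMod r) = -1 := by
      rw [← ZMod.natCast_eq_zero_iff] at h
      push_cast at h
      exact eq_neg_of_add_eq_zero_left h
    rw [h1]
    exact aritha_orderOf_neg_one r hr2

theorem cDim_dvd_of_dvd (r : ℕ) [Fact r.Prime] (hr2 : r ≠ 2) (q k : ℕ) (hrq : ¬ r ∣ q)
    (h : (r : ℤ) ∣ (q : ℤ) ^ k - (-1) ^ k) : cDim (orderOf ((q : ℕ) : ZMod r)) ∣ k := by
  rw [← aritha_orderOf_neg r hr2 _ (aritha_cast_ne_zero r q hrq), orderOf_dvd_iff_pow_eq_one]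
  exact (aritha_dvd_iff r q k).mp h

theorem dvd_of_cDim_dvd (r : ℕ) [Fact r.Prime] (hr2 : r ≠ 2) (q k : ℕ) (hrq : ¬ r ∣ q)
    (h : cDim (orderOf ((q : ℕ) : ZMod r)) ∣ k) : (r : ℤ) ∣ (q : ℤ) ^ k - (-1) ^ k := by
  rw [← aritha_orderOf_neg r hr2 _ (aritha_cast_ne_zero r q hrq), orderOf_dvd_iff_pow_eq_one] at h
  exact (aritha_dvd_iff r q k).mpr h

/-- `e = ord_r(q²)` is the dimension of the irreducible pieces over `F_{q²}`; either the blocks are
self-dual (`c = e` odd, `r ∣ q ^ c + 1`) or paired (`c = 2 e`, and `r ∤ q ^ e - (-1) ^ e`). -/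
theorem cDim_cases (r : ℕ) [Fact r.Prime] (hr2 : r ≠ 2) (q : ℕ) (hrq : ¬ r ∣ q) :
    (Odd (cDim (orderOf ((q : ℕ) : ZMod r))) ∧
        cDim (orderOf ((q : ℕ) : ZMod r)) = orderOf (((q ^ 2 : ℕ) : ℕ) : ZMod r) ∧
        r ∣ q ^ cDim (orderOf ((q : ℕ) : ZMod r)) + 1) ∨
      (cDim (orderOf ((q : ℕ) : ZMod r)) = 2 * orderOf (((q ^ 2 : ℕ) : ℕ) : ZMod r) ∧
        ¬ (r : ℤ) ∣ (q : ℤ) ^ orderOf (((q ^ 2 : ℕ) : ℕ) : ZMod r) -
          (-1) ^ orderOf (((q ^ 2 : ℕ) : ℕ) : ZMod r)) := by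
  set a := ((q : ℕ) : ZMod r) with ha
  have ha0 : a ≠ 0 := aritha_cast_ne_zero r q hrq
  have hi := aritha_orderOf_pos r a ha0
  have he : orderOf (((q ^ 2 : ℕ) : ℕ) : ZMod r) = orderOf a / Nat.gcd (orderOf a) 2 := by
    have : (((q ^ 2 : ℕ) : ℕ) : ZMod r) = a ^ 2 := by push_cast; rfl
    rw [this, orderOf_pow' a two_ne_zero]
  rw [he]
  rcases Nat.even_or_odd (orderOf a) with hev | hodd
  · obtain ⟨h, hh⟩ := hev
    have hh' : orderOf a = 2 * h := by omega
    have hhpos : 0 < h := by omega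
    have hg : Nat.gcd (orderOf a) 2 = 2 := by
      rw [hh', Nat.gcd_mul_right_left]
    have hdiv : orderOf a / Nat.gcd (orderOf a) 2 = h := by
      rw [hg, hh', Nat.mul_div_cancel_left _ (by norm_num : 0 < 2)]
    rw [hdiv]
    have hpow := aritha_pow_half r a h hhpos hh'
    rcases Nat.even_or_odd h with hhe | hho
    · -- i ≡ 0 mod 4 : paired
      right
      obtain ⟨t, ht⟩ := hhe
      have hmod : (orderOf a) % 4 = 0 := by omega
      refine ⟨?_, ?_⟩
      · unfold cDim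
        rw [if_pos hmod, hh']
      · rw [aritha_dvd_iff]
        intro hcon
        have h1 : (-a) ^ h = a ^ h := by
          rw [neg_pow, Even.neg_one_pow ⟨t, ht⟩, one_mul]
        rw [← ha, h1, hpow] at hcon
        exact aritha_neg_one_ne_one r hr2 hcon
    · -- i ≡ 2 mod 4 : self-dual
      left
      obtain ⟨t, ht⟩ := hho
      have hmod : (orderOf a) % 4 = 2 := by omega
      have hmod' : ¬ (orderOf a) % 4 = 0 := by omega
      have hc : cDim (orderOf a) = h := by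
        unfold cDim
        rw [if_neg hmod', if_pos hmod, hh', Nat.mul_div_cancel_left _ (by norm_num : 0 < 2)]
      rw [hc]
      refine ⟨⟨t, ht⟩, rfl, ?_⟩
      rw [← ZMod.natCast_eq_zero_iff]
      push_cast
      rw [← ha, hpow]
      ring
  · -- i odd : paired
    right
    have hg : Nat.gcd (orderOf a) 2 = 1 := by
      rw [Nat.gcd_comm, ← Nat.coprime_iff_gcd_eq_one, Nat.Prime.coprime_iff_not_dvd Nat.prime_two]
      obtain ⟨t, ht⟩ := hodd; omega
    rw [hg, Nat.div_one]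
    have hmod' : ¬ (orderOf a) % 4 = 0 := by
      obtain ⟨t, ht⟩ := hodd; omega
    have hmod'' : ¬ (orderOf a) % 4 = 2 := by
      obtain ⟨t, ht⟩ := hodd; omega
    refine ⟨?_, ?_⟩
    · unfold cDim
      rw [if_neg hmod', if_neg hmod'']
    · rw [aritha_dvd_iff]
      intro hcon
      rw [← ha, neg_pow, hodd.neg_one_pow, pow_orderOf_eq_one] at hcon
      rw [mul_one] at hcon
      exact aritha_neg_one_ne_one r hr2 hcon

end arith

end Cfsg.Agent.Lib.Helper4.NDU
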