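import Mathlib
import Cfsg.Agent.Lib.Helper4.NDU0

set_option autoImplicit false
set_option linter.unusedSectionVars false

/-! S5954 PK-BRIDGE: from an abstract isometry of determinant one to an element of `SU n F q`. -/

namespace Cfsg.Agent.Lib.Helper4.NDU

open Module Polynomial
open Cfsg.Agent.Lib.Helper5.PSLCoset Cfsg.Agent.H9SemiInv Cfsg.Agent.Lib.Helper4.SimU
open Cfsg.Agent.Lib.Helper2.HermDecomp

section models
variable {F : Type*} [Field F] [Fintype F] {p : ℕ} [Fact p.Prime] [CharP F p] {q : ℕ}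

theorem mem_SU_iff' {n : ℕ} (x : Matrix.SpecialLinearGroup (Fin n) F) :
    x ∈ Cfsg.SU n F q ↔ ∀ u v, Cfsg.hermForm n F q
      (Matrix.toLin' (x : Matrix (Fin n) (Fin n) F) u)
      (Matrix.toLin' (x : Matrix (Fin n) (Fin n) F) v) = Cfsg.hermForm n F q u v := Iff.rfl

theorem exists_su_of_isometry (hF : Fintype.card F = q ^ 2) {σ : F ≃+* F} (hσ : orderOf σ = 2)
    (hσq : ∀ a, σ a = a ^ q) {V' : Type*} [AddCommGroup V'] [Module F V'] [FiniteDimensional F V']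
    {H' : V' → V' → F} (h' : IsHerm σ H') (hnd' : Nd H' ⊤) (T' : V' →ₗ[F] V')
    (hT' : IsSim H' T' 1) (hdet : LinearMap.det T' = 1) (n : ℕ) (hn : finrank F V' = n) :
    ∃ x : Matrix.SpecialLinearGroup (Fin n) F, x ∈ Cfsg.SU n F q ∧
      ∃ e : V' ≃ₗ[F] (Fin n → F), (∀ u v, Cfsg.hermForm n F q (e u) (e v) = H' u v) ∧
        ∀ v, e (T' v) = Matrix.toLin' (x : Matrix (Fin n) (Fin n) F) (e v) := by
  classical
  have hnd : Nondeg H' := by
    intro v hv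
    by_contra hcon
    push Not at hcon
    exact hv (hnd' v Submodule.mem_top (fun w _ => hcon w))
  obtain ⟨g, hg⟩ := exists_std_equiv hσ h' hnd n hn
  have hform : ∀ a b : Fin n → F, Cfsg.hermForm n F q a b = H' (g a) (g b) := by
    intro a b
    rw [hg]
    unfold Cfsg.hermForm
    apply Finset.sum_congr rfl
    intro i _
    rw [hσq]
  set L : (Fin n → F) →ₗ[F] (Fin n → F) :=
    (g.symm : V' →ₗ[F] (Fin n → F)) ∘ₗ T' ∘ₗ (g : (Fin n → F) →ₗ[F] V') with hL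
  have hLdet : LinearMap.det L = 1 := by
    have := LinearMap.det_conj T' g.symm
    rw [LinearEquiv.symm_symm] at this
    rw [hL, this, hdet]
  have hMdet : (LinearMap.toMatrix' L).det = 1 := by
    rw [LinearMap.det_toMatrix', hLdet]
  have hLapp : ∀ u, L u = g.symm (T' (g u)) := fun u => rfl
  let x : Matrix.SpecialLinearGroup (Fin n) F := ⟨LinearMap.toMatrix' L, hMdet⟩
  have hx : (x : Matrix (Fin n) (Fin n) F) = LinearMap.toMatrix' L := rfl
  refine ⟨x, ?_, g.symm, ?_, ?_⟩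
  · apply (mem_SU_iff' x).mpr
    intro u v
    rw [hx, Matrix.toLin'_toMatrix', hLapp, hLapp, hform, hform, LinearEquiv.apply_symm_apply,
      LinearEquiv.apply_symm_apply, hT', one_mul]
  · intro u v
    rw [hform, LinearEquiv.apply_symm_apply, LinearEquiv.apply_symm_apply]
  · intro v
    rw [hx, Matrix.toLin'_toMatrix', hLapp, LinearEquiv.apply_symm_apply]

end models

section congr
variable {F : Type*} [Field F]

theorem fixND_congr_aux {V₁ V₂ : Type*} [AddCommGroup V₁] [Module F V₁] [AddCommGroup V₂]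
    [Module F V₂] {H₁ : V₁ → V₁ → F} {H₂ : V₂ → V₂ → F} {T₁ : V₁ →ₗ[F] V₁} {T₂ : V₂ →ₗ[F] V₂}
    (e : V₁ ≃ₗ[F] V₂) (hH : ∀ u v, H₂ (e u) (e v) = H₁ u v) (hT : ∀ v, e (T₁ v) = T₂ (e v))
    (m : ℕ) : FixND H₁ T₁ m → FixND H₂ T₂ m := by
  rintro ⟨W, hW, hnd, hinv⟩
  refine ⟨W.map (e : V₁ →ₗ[F] V₂), ?_, ?_, ?_⟩
  · rw [← hW]
    exact (Submodule.equivMapOfInjective (e : V₁ →ₗ[F] V₂) e.injective W).symm.finrank_eq
  · rintro _ ⟨u, hu, rfl⟩ hu0
    have hu0' : u ≠ 0 := by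
      rintro rfl
      exact hu0 (map_zero _)
    obtain ⟨v, hv, hne⟩ := hnd u hu hu0'
    refine ⟨e v, ⟨v, hv, rfl⟩, ?_⟩
    show H₂ (e u) (e v) ≠ 0
    rw [hH]
    exact hne
  · rintro _ ⟨_, ⟨u, hu, rfl⟩, rfl⟩
    refine ⟨T₁ u, hinv ⟨u, hu, rfl⟩, ?_⟩
    exact hT u

theorem fixND_congr {V₁ V₂ : Type*} [AddCommGroup V₁] [Module F V₁] [AddCommGroup V₂] [Module F V₂]
    {H₁ : V₁ → V₁ → F} {H₂ : V₂ → V₂ → F} {T₁ : V₁ →ₗ[F] V₁} {T₂ : V₂ →ₗ[F] V₂}
    (e : V₁ ≃ₗ[F] V₂) (hH : ∀ u v, H₂ (e u) (e v) = H₁ u v) (hT : ∀ v, e (T₁ v) = T₂ (e v)) (m : ℕ) :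
    FixND H₁ T₁ m ↔ FixND H₂ T₂ m := by
  constructor
  · exact fixND_congr_aux e hH hT m
  · apply fixND_congr_aux e.symm
    · intro u v
      rw [← hH, LinearEquiv.apply_symm_apply, LinearEquiv.apply_symm_apply]
    · intro v
      apply e.injective
      rw [hT, LinearEquiv.apply_symm_apply, LinearEquiv.apply_symm_apply]

end congr

end Cfsg.Agent.Lib.Helper4.NDU
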