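import Mathlib
import Cfsg.Agent.Lib.Helper4.NDU0

set_option autoImplicit false
set_option linter.unusedSectionVars false

/-! S5954 PK-KUM: `T ^ r = z • 1` with `X ^ r - z` irreducible. -/

namespace Cfsg.Agent.Lib.Helper4.NDU

open Module Polynomial
open Cfsg.Agent.Lib.Helper5.PSLCoset Cfsg.Agent.H9SemiInv Cfsg.Agent.Lib.Helper4.SimU
open Cfsg.Agent.Lib.Helper2.HermDecomp Cfsg.Agent.Lib.Helper9.H9Elus
open Cfsg.Agent.Lib.Helper1.SpBlk (exists_cyclic_mem)

section abstract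
variable {F : Type*} [Field F] [Fintype F] {p : ℕ} [Fact p.Prime] [CharP F p] {q : ℕ}
  {σ : F ≃+* F} {V : Type*} [AddCommGroup V] [Module F V] [FiniteDimensional F V] {H : V → V → F}

theorem kum_aeval (T : V →ₗ[F] V) (r : ℕ) (z : F) (hTr : T ^ r = z • 1) :
    aeval T (X ^ r - C z : F[X]) = 0 := by
  rw [map_sub, map_pow, aeval_X, aeval_C, hTr, Algebra.algebraMap_eq_smul_one, sub_self]

theorem kum_ne_zero (r : ℕ) (hr : r.Prime) (z : F) (hz : ∀ b : F, b ^ r ≠ z) : z ≠ 0 := by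
  rintro rfl
  exact hz 0 (zero_pow hr.ne_zero)

theorem kum_injective (T : V →ₗ[F] V) (r : ℕ) (hr : r.Prime) (z : F) (hz0 : z ≠ 0)
    (hTr : T ^ r = z • 1) : Function.Injective T := by
  rw [injective_iff_map_eq_zero]
  intro v hv
  have h1 : (T ^ r) v = z • v := by rw [hTr]; rfl
  obtain ⟨k, hk⟩ : ∃ k, r = k + 1 := ⟨r - 1, by have := hr.pos; omega⟩
  rw [hk, pow_succ, Module.End.mul_apply, hv, map_zero] at h1
  exact (smul_eq_zero.mp h1.symm).resolve_left hz0

/-- every invariant subspace has dimension divisible by r -/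
theorem dvd_finrank_of_kummer (T : V →ₗ[F] V) (r : ℕ) (hr : r.Prime) (hrF : (r : F) ≠ 0) (z : F)
    (hz : ∀ b : F, b ^ r ≠ z) (hTr : T ^ r = z • 1) {W : Submodule F V} (hW : Inv T W) :
    r ∣ finrank F W := by
  have hz0 := kum_ne_zero r hr z hz
  have hg : Irreducible (X ^ r - C z : F[X]) := X_pow_sub_C_irreducible_of_prime hr hz
  have hsep : (X ^ r - C z : F[X]).Separable := separable_X_pow_sub_C z hrF hz0
  have hss : Module.End.IsSemisimple T :=
    Module.End.isSemisimple_of_squarefree_aeval_eq_zero hsep.squarefree (kum_aeval T r z hTr)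
  refine (exists_inv_mul T hss r hr.one_lt.le W hW ?_).1
  intro Z hZW hZinv hZne
  obtain ⟨v, hvZ, hv0⟩ := Submodule.exists_mem_ne_zero_of_ne_bot hZne
  obtain ⟨Z', hvZ', hZ'inv, hZ'fin, hZ'min⟩ := exists_cyclic_mem T _ hg v hv0
    (by rw [kum_aeval T r z hTr, LinearMap.zero_apply])
  exact ⟨Z', hZ'min Z hZinv hvZ, hZ'inv, by rw [hZ'fin, natDegree_X_pow_sub_C]⟩

/-- anisotropic u ∈ N, Z = cyclic subspace of u (dimension r, minimal invariant), Z ⊓ Z^⊥ ∈ {⊥, Z} -/
theorem exists_block_kummer (hσ : orderOf σ = 2) (h : IsHerm σ H) (T : V →ₗ[F] V)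
    (hT : IsSim H T 1) (r : ℕ) (hr : r.Prime) (hrF : (r : F) ≠ 0) (z : F) (hz : ∀ b : F, b ^ r ≠ z)
    (hTr : T ^ r = z • 1) {N : Submodule F V} (hN : Nd H N) (hNinv : Inv T N) (hne : N ≠ ⊥) :
    ∃ D : Submodule F V, D ≤ N ∧ Nd H D ∧ Inv T D ∧ finrank F D = r := by
  have hσ1 : σ ≠ 1 := by
    intro h1
    rw [h1, orderOf_one] at hσ
    omega
  have hz0 := kum_ne_zero r hr z hz
  have hinj := kum_injective T r hr z hz0 hTr
  have hg : Irreducible (X ^ r - C z : F[X]) := X_pow_sub_C_irreducible_of_prime hr hz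
  obtain ⟨u, huN, huu⟩ := hN.exists_aniso hσ1 h hne
  have hu0 : u ≠ 0 := by
    rintro rfl
    exact huu (h.zero_left 0)
  obtain ⟨Z, huZ, hZinv, hZfin, hZmin⟩ := exists_cyclic_mem T _ hg u hu0
    (by rw [kum_aeval T r z hTr, LinearMap.zero_apply])
  rw [natDegree_X_pow_sub_C] at hZfin
  have hZN : Z ≤ N := hZmin N hNinv huN
  have hYinv : Inv T (Z ⊓ orthoCompl h Z) := hZinv.inf (inv_orthoCompl h T hT hinj hZinv)
  have hdvd := dvd_finrank_of_kummer T r hr hrF z hz hTr hYinv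
  have hle : finrank F ↥(Z ⊓ orthoCompl h Z) ≤ finrank F Z := Submodule.finrank_mono inf_le_left
  have hYbot : Z ⊓ orthoCompl h Z = ⊥ := by
    rcases Nat.eq_zero_or_pos (finrank F ↥(Z ⊓ orthoCompl h Z)) with h0 | hpos
    · exact Submodule.finrank_eq_zero.1 h0
    · exfalso
      have hYZ : finrank F ↥(Z ⊓ orthoCompl h Z) = finrank F Z := by
        have := Nat.le_of_dvd hpos hdvd
        omega
      have hYeq : Z ⊓ orthoCompl h Z = Z := Submodule.eq_of_le_of_finrank_eq inf_le_left hYZ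
      have hu' : u ∈ orthoCompl h Z := by
        have : u ∈ Z ⊓ orthoCompl h Z := by rw [hYeq]; exact huZ
        exact this.2
      exact huu (hu' u huZ)
  refine ⟨Z, hZN, ?_, hZinv, hZfin⟩
  intro x hx hx'
  have : x ∈ Z ⊓ orthoCompl h Z := ⟨hx, fun w hw => herm_swap_zero h (hx' w hw)⟩
  rw [hYbot] at this
  exact (Submodule.mem_bot F).1 this

/-- the determinant, via the norm of the field extension `F[X]/(X^r - z)` -/
theorem det_of_kummer (T : V →ₗ[F] V) (r : ℕ) (hr : r.Prime) (hr2 : r ≠ 2) (z : F)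
    (hz : ∀ b : F, b ^ r ≠ z) (hTr : T ^ r = z • 1) :
    LinearMap.det T = z ^ (finrank F V / r) := by
  classical
  have hfmonic : (X ^ r - C z : F[X]).Monic := monic_X_pow_sub_C z hr.ne_zero
  have hfdeg : (X ^ r - C z : F[X]).natDegree = r := natDegree_X_pow_sub_C
  have hfirr : Irreducible (X ^ r - C z : F[X]) := X_pow_sub_C_irreducible_of_prime hr hz
  have : Fact (Irreducible (X ^ r - C z : F[X])) := ⟨hfirr⟩
  have hft := kum_aeval T r z hTr
  let φ : AdjoinRoot (X ^ r - C z : F[X]) →+* Module.End F V :=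
    Ideal.Quotient.lift (Ideal.span {(X ^ r - C z : F[X])}) (aeval T).toRingHom (by
      intro a ha
      obtain ⟨g, rfl⟩ := Ideal.mem_span_singleton.1 ha
      show aeval T ((X ^ r - C z : F[X]) * g) = 0
      rw [map_mul, hft, zero_mul])
  have hφ : ∀ g : F[X], φ (AdjoinRoot.mk (X ^ r - C z : F[X]) g) = aeval T g := fun g => rfl
  let _ : Module (AdjoinRoot (X ^ r - C z : F[X])) V := Module.compHom V φ
  have hsmul : ∀ (k : AdjoinRoot (X ^ r - C z : F[X])) (v : V), k • v = φ k v := fun _ _ => rfl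
  have : IsScalarTower F (AdjoinRoot (X ^ r - C z : F[X])) V := ⟨fun c k v => by
    rw [hsmul, hsmul, Algebra.smul_def, map_mul, AdjoinRoot.algebraMap_eq, ← AdjoinRoot.mk_C,
      hφ, aeval_C, Module.End.mul_apply, Module.algebraMap_end_apply]⟩
  have : Module.Finite (AdjoinRoot (X ^ r - C z : F[X])) V :=
    Module.Finite.of_restrictScalars_finite F _ V
  set ρ := AdjoinRoot.root (X ^ r - C z : F[X]) with hρ
  let f : V →ₗ[AdjoinRoot (X ^ r - C z : F[X])] V :=
    ρ • (LinearMap.id : V →ₗ[AdjoinRoot (X ^ r - C z : F[X])] V)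
  have hfT : f.restrictScalars F = T := by
    apply LinearMap.ext
    intro v
    show ρ • v = T v
    rw [hsmul, hρ, ← AdjoinRoot.mk_X, hφ, aeval_X]
  have hdetf : LinearMap.det f =
      ρ ^ finrank (AdjoinRoot (X ^ r - C z : F[X])) V := by
    show LinearMap.det (ρ • (LinearMap.id : V →ₗ[AdjoinRoot (X ^ r - C z : F[X])] V)) = _
    rw [LinearMap.det_smul, LinearMap.det_id, mul_one]
  have hnorm : Algebra.norm F ρ = z := by
    have h1 := Algebra.PowerBasis.norm_gen_eq_coeff_zero_minpoly (AdjoinRoot.powerBasis hfmonic.ne_zero)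
    rw [AdjoinRoot.minpoly_powerBasis_gen_of_monic hfmonic, AdjoinRoot.powerBasis_gen,
      AdjoinRoot.powerBasis_dim, hfdeg] at h1
    rw [hρ, h1, coeff_sub, coeff_X_pow, coeff_C_zero, if_neg hr.ne_zero.symm, zero_sub,
      (hr.odd_of_ne_two hr2).neg_one_pow]
    ring
  have hfin : finrank F V = r * finrank (AdjoinRoot (X ^ r - C z : F[X])) V := by
    rw [← Module.finrank_mul_finrank F (AdjoinRoot (X ^ r - C z : F[X])) V,
      (AdjoinRoot.powerBasis hfmonic.ne_zero).finrank, AdjoinRoot.powerBasis_dim, hfdeg]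
  have hdiv : finrank F V / r = finrank (AdjoinRoot (X ^ r - C z : F[X])) V := by
    rw [hfin, Nat.mul_div_cancel_left _ hr.pos]
  rw [← hfT, LinearMap.det_restrictScalars, hdetf, map_pow, hnorm, hdiv]

end abstract

end Cfsg.Agent.Lib.Helper4.NDU
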