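import Mathlib
import Cfsg.Prelude.Def_Classical
import Cfsg.Agent.Lib.Helper9.UPol9
import Cfsg.Agent.Lib.Helper6.TSU0

set_option autoImplicit false
set_option linter.unusedSectionVars false

/-! S5953 PK-BLKFPF (also the core of S5954 PK-MODC): a fixed-point-free isometry of order `r` of the
standard unitary space of dimension `c = ord_r(-q)`, by Cauchy's theorem in `GU_c(q)`. -/

namespace Cfsg.Agent.Lib.Helper6.TSU

open Module Polynomial Cfsg.Agent.H9SemiInv Cfsg.Agent.Lib.Helper1.SpBlk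
  Cfsg.Agent.Lib.Helper9.UPol Cfsg.Agent.Lib.Helper5.PSLCoset

universe u

section blocks
variable {F : Type u} [Field F] [Fintype F] {q : ℕ} {σ : F ≃+* F}

theorem blkfpf_cast_ne_zero (hF : Fintype.card F = q ^ 2) (r : ℕ) [Fact r.Prime] (hrq : ¬ r ∣ q) :
    ((r : ℕ) : F) ≠ 0 := by
  obtain ⟨p, hp⟩ := CharP.exists F
  obtain ⟨n, hpp, hn⟩ := FiniteField.card F p
  intro h0
  have h1 : p ∣ r := (CharP.cast_eq_zero_iff F p r).mp h0
  have h2 : p = r := (Nat.prime_dvd_prime_iff_eq hpp Fact.out).mp h1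
  apply hrq
  have h3 : r ∣ q ^ 2 := by
    rw [← hF, hn, ← h2]
    exact dvd_pow_self p n.ne_zero
  exact (Fact.out : r.Prime).dvd_of_dvd_pow h3

theorem hModel0_block (hF : Fintype.card F = q ^ 2) (hσ : orderOf σ = 2) (hσq : ∀ a, σ a = a ^ q)
    (r : ℕ) [Fact r.Prime] (hrq : ¬ r ∣ q) :
    HModel0 F σ r (orderOf (-(q : ZMod r))) 0 := by
  classical
  have hr : r.Prime := Fact.out
  have hq0 : q ≠ 0 := by
    rintro rfl
    rw [zero_pow two_ne_zero] at hF
    exact Fintype.card_ne_zero hF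
  have hσ2 := Cfsg.Agent.Lib.Helper2.WittHerm.sigma_sigma hσ
  have hrF := blkfpf_cast_ne_zero hF r hrq
  -- the order `c` is positive
  have hqne : (-(q : ZMod r)) ≠ 0 := by
    rw [neg_ne_zero]
    intro h
    exact hrq ((ZMod.natCast_eq_zero_iff q r).mp h)
  have hcpos : 0 < orderOf (-(q : ZMod r)) := by
    apply orderOf_pos_iff.mpr
    rw [isOfFinOrder_iff_pow_eq_one]
    exact ⟨r - 1, by have := hr.two_le; omega, ZMod.pow_card_sub_one_eq_one hqne⟩
  obtain ⟨k, hk⟩ : ∃ k, orderOf (-(q : ZMod r)) = k + 1 :=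
    ⟨orderOf (-(q : ZMod r)) - 1, by omega⟩
  rw [hk]
  have hdvd : r ∣ Nat.card (Cfsg.GU (k + 1) F q) := by
    rw [dvd_card_GU_iff hF hrq]
    exact ⟨k, Nat.lt_succ_self k, by rw [hk]⟩
  have hndvd : ¬ r ∣ Nat.card (Cfsg.GU k F q) := by
    rw [dvd_card_GU_iff hF hrq]
    rintro ⟨i, hi, hdi⟩
    rw [hk] at hdi
    have := Nat.le_of_dvd (Nat.succ_pos i) hdi
    omega
  obtain ⟨x₀, hx₀⟩ := exists_prime_orderOf_dvd_card' r hdvd
  have hxr : x₀ ^ r = 1 := by rw [← hx₀]; exact pow_orderOf_eq_one x₀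
  have hx1 : x₀ ≠ 1 := by
    rintro rfl
    rw [orderOf_one] at hx₀
    exact hr.one_lt.ne hx₀
  set M : Matrix (Fin (k + 1)) (Fin (k + 1)) F :=
    ((x₀ : GL (Fin (k + 1)) F) : Matrix (Fin (k + 1)) (Fin (k + 1)) F) with hM
  have hMr : M ^ r = 1 := by
    have h1 : ((x₀ : GL (Fin (k + 1)) F)) ^ r = 1 := by
      have := congrArg Subtype.val hxr
      simpa using this
    have h2 := congrArg (fun g : GL (Fin (k + 1)) F => (g : Matrix (Fin (k + 1)) (Fin (k + 1)) F)) h1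
    simpa using h2
  refine ⟨Fin (k + 1) → F, inferInstance, inferInstance, inferInstance, Cfsg.hermForm (k + 1) F q,
    Matrix.toLin' M, Cfsg.Agent.Lib.Helper2.GUIsom.isHerm_hermForm (k + 1) q σ hσ2 hσq,
    Cfsg.Agent.Lib.Helper2.GUIsom.hermForm_nondeg (k + 1) q hq0, Module.finrank_fin_fun F, ?_, ?_, ?_⟩
  · intro u v
    rw [Matrix.toLin'_apply, Matrix.toLin'_apply]
    exact Cfsg.Agent.Lib.Helper1.GUBasic.GU_preserves x₀ u v
  · rw [← Matrix.toLin'_pow, hMr, Matrix.toLin'_one]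
    rfl
  · rw [Submodule.finrank_eq_zero, eq_bot_iff]
    intro v hv
    rw [mem_fixE, Matrix.toLin'_apply] at hv
    rw [Submodule.mem_bot]
    exact fpf_of_order hF x₀ hr hxr hx1 hrF hndvd v hv

end blocks

end Cfsg.Agent.Lib.Helper6.TSU
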