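import Mathlib
import Cfsg.Prelude.Def_Classical
import Cfsg.Agent.Lib.Helper4.NDU0
import Cfsg.Agent.Lib.Helper4.NDU_ARITHA
import Cfsg.Agent.Lib.Helper4.TSU_BLKFPF
import Cfsg.Agent.Lib.Helper1.TSU_PROD
import Cfsg.Agent.Lib.Helper1.TSU_TR

set_option autoImplicit false
set_option linter.unusedSectionVars false

/-! S5954, PK-MODC: an element of odd prime order `r ∤ q (q + 1)` of `SU_n(q)` whose fixed space has
dimension `n mod c`, `c` the order of `-q` modulo `r`. -/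

universe u

namespace Cfsg.Agent.Lib.Helper4.NDU

open Module Polynomial
open Cfsg.Agent.H9SemiInv
open Cfsg.Agent.Lib.Helper1.SpBlk (fixE movK mem_fixE)
open Cfsg.Agent.Lib.Helper6.TSU

section modc
variable {F : Type u} [Field F] [Fintype F] {p : ℕ} [Fact p.Prime] [CharP F p] {q : ℕ}

/-- a prime different from the characteristic does not divide `q` -/
theorem modc_not_dvd_q (hF : Fintype.card F = q ^ 2) (r : ℕ) [Fact r.Prime] (hrp : r ≠ p) :
    ¬ r ∣ q := by
  intro hrq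
  obtain ⟨k, hp, hk⟩ := FiniteField.card F p
  have h1 : r ∣ p ^ (k : ℕ) := by
    rw [← hk, hF]
    exact dvd_pow hrq two_ne_zero
  have h2 : r ∣ p := (Fact.out : r.Prime).dvd_of_dvd_pow h1
  exact hrp ((Nat.prime_dvd_prime_iff_eq (Fact.out : r.Prime) hp).mp h2)

theorem modc_hModel0_mul (hF : Fintype.card F = q ^ 2) {σ : F ≃+* F} (hσ : orderOf σ = 2)
    (hσq : ∀ a, σ a = a ^ q) (r : ℕ) [Fact r.Prime] (hr2 : r ≠ 2) (hrq : ¬ r ∣ q) (k : ℕ) :
    HModel0 F σ r (cDim (orderOf ((q : ℕ) : ZMod r)) * k) 0 := by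
  induction k with
  | zero =>
    rw [Nat.mul_zero]
    exact hModel0_triv hσ r 0
  | succ k ih =>
    have hb := hModel0_block hF hσ hσq r hrq
    rw [aritha_orderOf_neg r hr2 _ (aritha_cast_ne_zero r q hrq)] at hb
    have h2 := hModel0_prod ih hb
    rw [Nat.mul_succ]
    simpa using h2

theorem exists_su_small_fix (hF : Fintype.card F = q ^ 2) (r : ℕ) [Fact r.Prime] (hrp : r ≠ p)
    (hr2 : r ≠ 2) (hrq : ¬ r ∣ q + 1) (n : ℕ) :
    ∃ x : Matrix.SpecialLinearGroup (Fin n) F, x ∈ Cfsg.SU n F q ∧ x ^ r = 1 ∧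
      finrank F (fixE (Matrix.toLin' (x : Matrix (Fin n) (Fin n) F))) =
        n % cDim (orderOf ((q : ℕ) : ZMod r)) := by
  obtain ⟨σ, hσ, hσq, -, -⟩ := Cfsg.Agent.Lib.Helper2.HermFrames.exists_data hF n
  have hrq0 : ¬ r ∣ q := modc_not_dvd_q hF r hrp
  set c := cDim (orderOf ((q : ℕ) : ZMod r)) with hc
  have h1 : HModel0 F σ r (c * (n / c)) 0 := modc_hModel0_mul hF hσ hσq r hr2 hrq0 (n / c)
  have h2 : HModel0 F σ r (n % c) (n % c) := hModel0_triv hσ r (n % c)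
  have h3 := hModel0_prod h1 h2
  rw [Nat.div_add_mod, zero_add] at h3
  obtain ⟨W, i1, i2, i3, HW, TW, hHW, hndW, hdim, hTW, hTWr, hfix⟩ := h3
  obtain ⟨x, e, hx, hxr, -, hxe⟩ :=
    exists_su_of_model hF hσ hσq HW hHW hndW n hdim TW hTW r hTWr hrq
  refine ⟨x, hx, hxr, ?_⟩
  have hmap : fixE (Matrix.toLin' (x : Matrix (Fin n) (Fin n) F)) =
      (fixE TW).map (e : W →ₗ[F] (Fin n → F)) := by
    ext v
    rw [mem_fixE, Submodule.mem_map]
    constructor
    · intro hv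
      refine ⟨e.symm v, ?_, e.apply_symm_apply v⟩
      rw [mem_fixE]
      apply e.injective
      rw [← hxe, e.apply_symm_apply, hv]
    · rintro ⟨w, hw, rfl⟩
      rw [mem_fixE] at hw
      change Matrix.toLin' (x : Matrix (Fin n) (Fin n) F) (e w) = e w
      rw [hxe, hw]
  rw [hmap, LinearEquiv.finrank_map_eq, hfix]

end modc

end Cfsg.Agent.Lib.Helper4.NDU
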