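import Mathlib
import Cfsg.Agent.Lib.Helper4.NDU0

set_option autoImplicit false
set_option linter.unusedSectionVars false

/-! S5954 PK-GEN: orthogonal block decompositions of a nondegenerate invariant subspace. -/

namespace Cfsg.Agent.Lib.Helper4.NDU

open Module Polynomial
open Cfsg.Agent.Lib.Helper5.PSLCoset Cfsg.Agent.H9SemiInv Cfsg.Agent.Lib.Helper4.SimU
open Cfsg.Agent.Lib.Helper2.HermDecomp

section gen
variable {F : Type*} [Field F] [Finite F] {σ : F ≃+* F} {V : Type*} [AddCommGroup V] [Module F V]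
  [FiniteDimensional F V] {H : V → V → F}

theorem gen_inv_bot (T : V →ₗ[F] V) : Inv T (⊥ : Submodule F V) := by
  intro x hx
  rw [(Submodule.mem_bot F).1 hx, map_zero]
  exact Submodule.zero_mem _

theorem exists_blockDec (h : IsHerm σ H) (T : V →ₗ[F] V) {μ₀ : F} (hT : IsSim H T μ₀)
    (hinj : Function.Injective T) (S : Submodule F V) (A : Set ℕ) (hA : ∀ a ∈ A, 0 < a)
    (hmin : ∀ N : Submodule F V, N ≤ S → Nd H N → Inv T N → N ≠ ⊥ →
      ∃ D : Submodule F V, D ≤ N ∧ Nd H D ∧ Inv T D ∧ finrank F D ∈ A)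
    (N : Submodule F V) (hNS : N ≤ S) (hN : Nd H N) (hNinv : Inv T N) :
    ∃ μ : Multiset ℕ, (∀ a ∈ μ, a ∈ A) ∧ μ.sum = finrank F N ∧
      ∀ ν : Multiset ℕ, ν ≤ μ →
        ∃ D : Submodule F V, D ≤ N ∧ Nd H D ∧ Inv T D ∧ finrank F D = ν.sum := by
  classical
  induction hd : finrank F N using Nat.strong_induction_on generalizing N with
  | _ d ih =>
    by_cases hne : N = ⊥
    · refine ⟨0, ?_, ?_, ?_⟩
      · intro a ha
        exact absurd ha (Multiset.notMem_zero a)
      · rw [Multiset.sum_zero, ← hd, hne, finrank_bot]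
      · intro ν hν
        have hν0 : ν = 0 := Multiset.le_zero.mp hν
        subst hν0
        exact ⟨⊥, bot_le, nd_bot, gen_inv_bot T, by rw [finrank_bot, Multiset.sum_zero]⟩
    · obtain ⟨D₁, hD₁N, hD₁, hD₁inv, hD₁A⟩ := hmin N hNS hN hNinv hne
      have hN'nd : Nd H (N ⊓ orthoCompl h D₁) := hN.inf_orth h hD₁ hD₁N
      have hN'inv : Inv T (N ⊓ orthoCompl h D₁) :=
        hNinv.inf (inv_orthoCompl h T hT hinj hD₁inv)
      have hsum := hD₁.finrank_add h hD₁N
      have hpos := hA _ hD₁A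
      obtain ⟨μ', hμ'A, hμ'sum, hμ'⟩ := ih (finrank F ↥(N ⊓ orthoCompl h D₁)) (by omega)
        (N ⊓ orthoCompl h D₁) (inf_le_left.trans hNS) hN'nd hN'inv rfl
      refine ⟨finrank F D₁ ::ₘ μ', ?_, ?_, ?_⟩
      · intro a ha
        rcases Multiset.mem_cons.mp ha with rfl | ha
        · exact hD₁A
        · exact hμ'A a ha
      · rw [Multiset.sum_cons, hμ'sum]
        omega
      · intro ν hν
        have hν' : ν.erase (finrank F D₁) ≤ μ' := Multiset.erase_le_iff_le_cons.mpr hν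
        obtain ⟨D', hD'N', hD', hD'inv, hD'fin⟩ := hμ' _ hν'
        by_cases hmem : finrank F D₁ ∈ ν
        · have hdis : Disjoint D₁ D' := (hD₁.disjoint_inf_orth h N).mono_right hD'N'
          refine ⟨D₁ ⊔ D', sup_le hD₁N (hD'N'.trans inf_le_left),
            hD₁.sup h hD' (hD'N'.trans inf_le_right), hD₁inv.sup hD'inv, ?_⟩
          rw [finrank_sup_of_disjoint hdis, hD'fin, ← Multiset.sum_cons, Multiset.cons_erase hmem]
        · rw [Multiset.erase_of_notMem hmem] at hD'fin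
          exact ⟨D', hD'N'.trans inf_le_left, hD', hD'inv, hD'fin⟩

/-- every sub-multiset of the block dimensions of `⊤` gives a fixed nondegenerate subspace -/
theorem fixND_of_blockDec (T : V →ₗ[F] V) {μ : Multiset ℕ}
    (hμ : ∀ ν : Multiset ℕ, ν ≤ μ →
      ∃ D : Submodule F V, D ≤ (⊤ : Submodule F V) ∧ Nd H D ∧ Inv T D ∧ finrank F D = ν.sum)
    {ν : Multiset ℕ} (hν : ν ≤ μ) : FixND H T ν.sum := by
  obtain ⟨D, -, hD, hDinv, hDfin⟩ := hμ ν hν
  exact (fixND_iff H T ν.sum).mpr ⟨D, hDfin, hD, hDinv⟩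

end gen

end Cfsg.Agent.Lib.Helper4.NDU
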