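import Mathlib
import Cfsg.Agent.Lib.Helper4.NDU0

set_option autoImplicit false
set_option linter.unusedSectionVars false

/-! S5954: reductions (scalars of norm one, roots, rescaling an element of `SU n F q`), PK-ARITH(c) and PK-MS. -/

namespace Cfsg.Agent.Lib.Helper4.NDU

open Module Polynomial
open Cfsg.Agent.Lib.Helper5.PSLCoset Cfsg.Agent.H9SemiInv Cfsg.Agent.Lib.Helper4.SimU
open Cfsg.Agent.Lib.Helper2.HermDecomp

section arith
variable {F : Type*} [Field F] [Fintype F] {q : ℕ}

theorem red_two_le_q (hF : Fintype.card F = q ^ 2) : 2 ≤ q := by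
  have h1 : 1 < Fintype.card F := Fintype.one_lt_card
  rw [hF] at h1
  by_contra hcon
  have : q ≤ 1 := by omega
  have h2 : q ^ 2 ≤ 1 ^ 2 := Nat.pow_le_pow_left this 2
  omega

/-- roots: `gcd(r, q + 1) = 1` -/
theorem exists_root_of_coprime (hF : Fintype.card F = q ^ 2) (r : ℕ) (hr : Nat.Coprime r (q + 1))
    (z : F) (hz : z * z ^ q = 1) : ∃ l : F, l ^ r = z ∧ l * l ^ q = 1 := by
  have hq := red_two_le_q hF
  have hz' : z ^ (q + 1) = 1 := by rw [pow_succ']; exact hz
  obtain ⟨s, -, hs⟩ := Nat.exists_mul_mod_eq_one_of_coprime hr (by omega : 1 < q + 1)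
  refine ⟨z ^ s, ?_, ?_⟩
  · rw [← pow_mul, mul_comm, pow_eq_pow_mod (r * s) hz', hs, pow_one]
  · rw [← pow_succ', ← pow_mul, mul_comm, pow_mul, hz', one_pow]

/-- roots: `r` odd, `r ∣ q + 1`: an `r`-th root in `F` of a norm-one element has norm one -/
theorem norm_root_of_dvd (hF : Fintype.card F = q ^ 2) (r : ℕ) (hr : r.Prime) (hr2 : r ≠ 2)
    (hrq : r ∣ q + 1) (z b : F) (hz : z * z ^ q = 1) (hb : b ^ r = z) : b * b ^ q = 1 := by
  have hq := red_two_le_q hF
  have hz' : z ^ (q + 1) = 1 := by rw [pow_succ']; exact hz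
  have hz0 : z ≠ 0 := by
    rintro rfl
    rw [zero_mul] at hz
    exact zero_ne_one hz
  have hb0 : b ≠ 0 := by
    rintro rfl
    rw [zero_pow hr.ne_zero] at hb
    exact hz0 hb.symm
  have h1 : (b ^ (q + 1)) ^ r = 1 := by
    rw [← pow_mul, mul_comm, pow_mul, hb, hz']
  have h2 : (b ^ (q + 1)) ^ (q - 1) = 1 := by
    rw [← pow_mul]
    have : (q + 1) * (q - 1) = q ^ 2 - 1 := by
      obtain ⟨k, rfl⟩ : ∃ k, q = k + 1 := ⟨q - 1, by omega⟩
      simp only [Nat.add_sub_cancel]
      have : (k + 1) ^ 2 = (k + 1 + 1) * k + 1 := by ring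
      rw [this, Nat.add_sub_cancel]
    rw [this, ← hF]
    exact FiniteField.pow_card_sub_one_eq_one b hb0
  have hcop : Nat.gcd r (q - 1) = 1 := by
    rw [← Nat.coprime_iff_gcd_eq_one, Nat.Prime.coprime_iff_not_dvd hr]
    intro h3
    have h4 : r ∣ (q + 1) - (q - 1) := Nat.dvd_sub hrq h3
    have h5 : (q + 1) - (q - 1) = 2 := by omega
    rw [h5] at h4
    exact hr2 ((Nat.prime_dvd_prime_iff_eq hr Nat.prime_two).mp h4)
  have h6 : (b ^ (q + 1)) ^ Nat.gcd r (q - 1) = 1 := pow_gcd_eq_one.mpr ⟨h1, h2⟩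
  rw [hcop, pow_one] at h6
  rw [← pow_succ']
  exact h6

end arith

section ms

/-- PK-MS -/
theorem exists_sub_multiset (c : ℕ) (hc : 0 < c) (μ : Multiset ℕ) (hμ : ∀ a ∈ μ, a = 1 ∨ a = c)
    (m : ℕ) (hm : m ≤ μ.sum) (hmod : m % c ≤ μ.sum % c) :
    ∃ ν : Multiset ℕ, ν ≤ μ ∧ ν.sum = m := by
  classical
  by_cases hc1 : c = 1
  · -- all parts are 1
    have hall : ∀ a ∈ μ, a = 1 := by
      intro a ha
      rcases hμ a ha with h | h
      · exact h
      · rw [h, hc1]
    have hμeq : μ = Multiset.replicate (Multiset.card μ) 1 := Multiset.eq_replicate.mpr ⟨rfl, hall⟩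
    have hsum : μ.sum = Multiset.card μ := by
      conv_lhs => rw [hμeq]
      rw [Multiset.sum_replicate, smul_eq_mul, mul_one]
    refine ⟨Multiset.replicate m 1, ?_, ?_⟩
    · rw [hμeq, Multiset.replicate_le_replicate]
      omega
    · rw [Multiset.sum_replicate, smul_eq_mul, mul_one]
  · set k := μ.count c with hk
    set f := μ.count 1 with hf
    have hμeq : μ = Multiset.replicate k c + Multiset.replicate f 1 := by
      ext a
      rw [Multiset.count_add, Multiset.count_replicate, Multiset.count_replicate]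
      by_cases hac : a = c
      · subst hac
        rw [if_pos rfl, if_neg (fun h => hc1 h.symm), add_zero]
      · by_cases ha1 : a = 1
        · subst ha1
          rw [if_neg (fun h => hac h.symm), if_pos rfl, zero_add]
        · rw [if_neg (fun h => hac h.symm), if_neg (fun h => ha1 h.symm), add_zero,
            Multiset.count_eq_zero]
          intro ha
          rcases hμ a ha with h | h
          · exact ha1 h
          · exact hac h
    have hsum : μ.sum = c * k + f := by
      conv_lhs => rw [hμeq]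
      rw [Multiset.sum_add, Multiset.sum_replicate, Multiset.sum_replicate, smul_eq_mul,
        smul_eq_mul, mul_one, mul_comm]
    -- choose j = min k (m / c)
    set j := min k (m / c) with hj
    have hjk : j ≤ k := min_le_left _ _
    have hjm : c * j ≤ m := by
      have h1 : j ≤ m / c := min_le_right _ _
      calc c * j ≤ c * (m / c) := Nat.mul_le_mul_left c h1
        _ ≤ m := Nat.mul_div_le m c
    have hb : m - c * j ≤ f := by
      rcases le_total k (m / c) with hle | hle
      · have : j = k := min_eq_left hle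
        rw [this]
        omega
      · have hjeq : j = m / c := min_eq_right hle
        rw [hjeq]
        have h1 : m - c * (m / c) = m % c := by
          have := Nat.div_add_mod m c
          omega
        rw [h1]
        have h2 : μ.sum % c = f % c := by
          rw [hsum, Nat.mul_add_mod]
        have h3 : f % c ≤ f := Nat.mod_le f c
        omega
    refine ⟨Multiset.replicate j c + Multiset.replicate (m - c * j) 1, ?_, ?_⟩
    · rw [hμeq]
      exact add_le_add ((Multiset.replicate_le_replicate c).mpr hjk)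
        ((Multiset.replicate_le_replicate 1).mpr hb)
    · rw [Multiset.sum_add, Multiset.sum_replicate, Multiset.sum_replicate, smul_eq_mul,
        smul_eq_mul, mul_one, mul_comm]
      omega

end ms

section red
variable {F : Type*} [Field F] [Fintype F] {q : ℕ}

theorem red_sl_pow_coe {n : ℕ} (x : Matrix.SpecialLinearGroup (Fin n) F) (k : ℕ) :
    ((x ^ k : Matrix.SpecialLinearGroup (Fin n) F) : Matrix (Fin n) (Fin n) F) =
      (x : Matrix (Fin n) (Fin n) F) ^ k := Matrix.SpecialLinearGroup.coe_pow x k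

/-- a scalar in `SU n F q` has norm one -/
theorem scalar_norm_of_su {n : ℕ} (hn : 1 ≤ n) (y : Matrix.SpecialLinearGroup (Fin n) F)
    (hy : y ∈ Cfsg.SU n F q) (z : F)
    (hz : (y : Matrix (Fin n) (Fin n) F) = z • (1 : Matrix (Fin n) (Fin n) F)) :
    z * z ^ q = 1 := by
  classical
  have h1 := hy (Pi.single ⟨0, hn⟩ 1) (Pi.single ⟨0, hn⟩ 1)
  have h2 : (Cfsg.slToMat n F) y = z • (1 : Matrix (Fin n) (Fin n) F) := hz
  rw [h2, Matrix.smul_mulVec, Matrix.one_mulVec] at h1
  unfold Cfsg.hermForm at h1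
  rw [Finset.sum_eq_single (⟨0, hn⟩ : Fin n), Finset.sum_eq_single (⟨0, hn⟩ : Fin n)] at h1
  · simpa using h1
  · intro b _ hb
    rw [Pi.single_eq_of_ne hb, zero_mul]
  · intro h; exact absurd (Finset.mem_univ _) h
  · intro b _ hb
    rw [Pi.smul_apply, Pi.single_eq_of_ne hb, smul_zero, zero_mul]
  · intro h; exact absurd (Finset.mem_univ _) h

end red

end Cfsg.Agent.Lib.Helper4.NDU
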