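import Mathlib
import Cfsg.Prelude.Def_Classical
import Cfsg.Agent.Lib.Helper4.NDU0
import Cfsg.Agent.Lib.Helper4.NDU_GEN
import Cfsg.Agent.Lib.Helper4.NDU_BRIDGE
import Cfsg.Agent.Lib.Helper4.NDU_RED
import Cfsg.Agent.Lib.Helper4.NDU_ARITHA
import Cfsg.Agent.Lib.Helper1.NDU_OBLK1
import Cfsg.Agent.Lib.Helper1.NDU_OBLK2
import Cfsg.Agent.Lib.Helper1.NDU_OBLK3

set_option autoImplicit false
set_option linter.unusedSectionVars false

/-! S5954, elements of odd prime order `r ≠ p` of the unitary group: the nondegenerate invariant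
blocks have dimension `1` (fixed vectors) or `c` (the order of `-q` modulo `r`); consequences for
invariant nondegenerate subspaces. -/

namespace Cfsg.Agent.Lib.Helper4.NDU

open Module Polynomial
open Cfsg.Agent.Lib.Helper5.PSLCoset Cfsg.Agent.H9SemiInv Cfsg.Agent.Lib.Helper4.SimU
open Cfsg.Agent.Lib.Helper2.HermDecomp
open Cfsg.Agent.Lib.Helper1.SpBlk (fixE movK mem_fixE inv_fixE inv_movK inf_fixE_sup_inf_movK
  finrank_inf_fixE_add)

section lines
variable {F : Type*} [Field F] {σ : F ≃+* F} {V : Type*} [AddCommGroup V] [Module F V]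
  [FiniteDimensional F V] {H : V → V → F}

theorem odd_sigma_ne_one (hσ : orderOf σ = 2) : σ ≠ 1 := by
  intro h1
  rw [h1, orderOf_one] at hσ
  exact absurd hσ (by norm_num)

/-- the line spanned by an anisotropic vector is nondegenerate -/
theorem odd_nd_line (h : IsHerm σ H) {u : V} (huu : H u u ≠ 0) : Nd H (F ∙ u) := by
  intro v hv hv'
  obtain ⟨a, rfl⟩ := Submodule.mem_span_singleton.mp hv
  have h0 := hv' u (Submodule.mem_span_singleton_self u)
  rw [h.smul_left] at h0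
  rcases mul_eq_zero.mp h0 with ha | hc
  · rw [ha, zero_smul]
  · exact absurd hc huu

theorem odd_ne_zero_of_aniso (h : IsHerm σ H) {u : V} (huu : H u u ≠ 0) : u ≠ 0 := by
  rintro rfl
  exact huu (h.zero_left 0)

theorem odd_inv_line (y : V →ₗ[F] V) {u : V} (hu : y u = u) : Inv y (F ∙ u) := by
  intro v hv
  obtain ⟨a, rfl⟩ := Submodule.mem_span_singleton.mp hv
  rw [map_smul, hu]
  exact hv

theorem odd_injective (y : V →ₗ[F] V) {r : ℕ} (hr : 0 < r) (hyr : y ^ r = 1) :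
    Function.Injective y := by
  intro a b hab
  have h1 : (y ^ r) a = (y ^ r) b := by
    obtain ⟨k, rfl⟩ := Nat.exists_eq_succ_of_ne_zero hr.ne'
    rw [pow_succ, Module.End.mul_apply, Module.End.mul_apply, hab]
  rwa [hyr, Module.End.one_apply, Module.End.one_apply] at h1

theorem odd_nd_top (hnd : ∀ v, (∀ w, H v w = 0) → v = 0) : Nd H (⊤ : Submodule F V) :=
  fun u _ hu => hnd u (fun w => hu w Submodule.mem_top)

theorem odd_inv_top (y : V →ₗ[F] V) : Inv y (⊤ : Submodule F V) := fun _ _ => Submodule.mem_top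

/-- a nondegenerate Hermitian space has nondegenerate subspaces of every dimension -/
theorem exists_nd_of_le [Finite F] (hσ : orderOf σ = 2) (h : IsHerm σ H)
    (hnd : ∀ v, (∀ w, H v w = 0) → v = 0) (m : ℕ) (hm : m ≤ finrank F V) :
    ∃ D : Submodule F V, Nd H D ∧ finrank F D = m := by
  have hσ1 := odd_sigma_ne_one hσ
  have hone : IsSim H (1 : V →ₗ[F] V) 1 := isSim_one
  obtain ⟨μ, hμ, hsum, hsub⟩ := exists_blockDec h (1 : V →ₗ[F] V) hone
    (fun a b hab => by simpa using hab) ⊤ {1}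
    (fun a ha => by rw [Set.mem_singleton_iff.mp ha]; exact one_pos)
    (fun N _ hN _ hne => by
      obtain ⟨u, hu, huu⟩ := hN.exists_aniso hσ1 h hne
      refine ⟨F ∙ u, ?_, odd_nd_line h huu, odd_inv_line 1 rfl, ?_⟩
      · rw [Submodule.span_singleton_le_iff_mem]; exact hu
      · rw [finrank_span_singleton (odd_ne_zero_of_aniso h huu)]; rfl)
    ⊤ le_rfl (odd_nd_top hnd) (odd_inv_top 1)
  rw [finrank_top] at hsum
  obtain ⟨ν, hν, hνsum⟩ := exists_sub_multiset 1 one_pos μ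
    (fun a ha => Or.inl (Set.mem_singleton_iff.mp (hμ a ha))) m (by rw [hsum]; exact hm)
    (by rw [Nat.mod_one]; exact Nat.zero_le _)
  obtain ⟨D, -, hD, -, hDdim⟩ := hsub ν hν
  exact ⟨D, hD, by rw [hDdim, hνsum]⟩

end lines

section arith

theorem odd_cDim_pos (r : ℕ) [Fact r.Prime] (hr2 : r ≠ 2) (q : ℕ) (hrq : ¬ r ∣ q) :
    0 < cDim (orderOf ((q : ℕ) : ZMod r)) := by
  have h0 := aritha_cast_ne_zero r q hrq
  rw [← aritha_orderOf_neg r hr2 _ h0]
  exact aritha_orderOf_pos r _ (neg_ne_zero.mpr h0)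

theorem odd_cDim_eq_one (r : ℕ) [Fact r.Prime] (hr2 : r ≠ 2) (q : ℕ) (hrq1 : r ∣ q + 1) :
    cDim (orderOf ((q : ℕ) : ZMod r)) = 1 := by
  rw [(orderOf_eq_two_iff r hr2 q).mpr hrq1]
  rfl

end arith

section abstract
variable {F : Type*} [Field F] [Fintype F] {p : ℕ} [Fact p.Prime] [CharP F p] {q : ℕ}
  {σ : F ≃+* F} {V : Type*} [AddCommGroup V] [Module F V] [FiniteDimensional F V] {H : V → V → F}

/-- a prime different from the characteristic does not divide `q` -/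
theorem odd_not_dvd_q (hF : Fintype.card F = q ^ 2) (r : ℕ) [Fact r.Prime] (hrp : r ≠ p) :
    ¬ r ∣ q := by
  intro hrq
  obtain ⟨k, hp, hk⟩ := FiniteField.card F p
  have h1 : r ∣ p ^ (k : ℕ) := by
    rw [← hk, hF]
    exact dvd_pow hrq two_ne_zero
  have h2 : r ∣ p := (Fact.out : r.Prime).dvd_of_dvd_pow h1
  exact hrp ((Nat.prime_dvd_prime_iff_eq (Fact.out : r.Prime) hp).mp h2)

/-- the nondegenerate blocks inside the moved part have dimension `c` -/
theorem odd_block_movK (hF : Fintype.card F = q ^ 2) (hσ : orderOf σ = 2)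
    (hσq : ∀ a, σ a = a ^ q) (h : IsHerm σ H) (r : ℕ) [Fact r.Prime] (hrp : r ≠ p) (hr2 : r ≠ 2)
    (hrq : ¬ r ∣ q) (y : V →ₗ[F] V) (hy : IsSim H y 1) (hyr : y ^ r = 1)
    {N : Submodule F V} (hNK : N ≤ movK r y) (hN : Nd H N) (hNinv : Inv y N) (hne : N ≠ ⊥) :
    ∃ D : Submodule F V, D ≤ N ∧ Nd H D ∧ Inv y D ∧
      finrank F D = cDim (orderOf ((q : ℕ) : ZMod r)) := by
  have hcard : ((Fintype.card F : ℕ) : ZMod r) = ((q ^ 2 : ℕ) : ZMod r) := by rw [hF]
  rcases cDim_cases r hr2 q hrq with ⟨hodd, hce, hrc⟩ | ⟨hce, hno⟩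
  · have he : orderOf ((Fintype.card F : ℕ) : ZMod r) = cDim (orderOf ((q : ℕ) : ZMod r)) := by
      rw [hcard, ← hce]
    exact exists_block_selfdual hF hσ hσq h r hrp y hy hyr _ hodd hrc he hNK hN hNinv hne
  · have he : orderOf ((Fintype.card F : ℕ) : ZMod r) = orderOf (((q ^ 2 : ℕ) : ℕ) : ZMod r) := by
      rw [hcard]
    obtain ⟨D, h1, h2, h3, h4⟩ :=
      exists_block_paired hF hσ hσq h r hrp y hy hyr _ he hno hNK hN hNinv hne
    exact ⟨D, h1, h2, h3, by rw [h4, ← hce]⟩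

/-- the nondegenerate blocks have dimension `1` or `c` -/
theorem odd_block (hF : Fintype.card F = q ^ 2) (hσ : orderOf σ = 2)
    (hσq : ∀ a, σ a = a ^ q) (h : IsHerm σ H) (r : ℕ) [Fact r.Prime] (hrp : r ≠ p) (hr2 : r ≠ 2)
    (hrq : ¬ r ∣ q) (y : V →ₗ[F] V) (hy : IsSim H y 1) (hyr : y ^ r = 1)
    {N : Submodule F V} (hN : Nd H N) (hNinv : Inv y N) (hne : N ≠ ⊥) :
    ∃ D : Submodule F V, D ≤ N ∧ Nd H D ∧ Inv y D ∧
      finrank F D ∈ ({1, cDim (orderOf ((q : ℕ) : ZMod r))} : Set ℕ) := by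
  have hσ1 := odd_sigma_ne_one hσ
  by_cases hfix : N ⊓ fixE y = ⊥
  · have hNK : N ≤ movK r y := by
      have h1 := inf_fixE_sup_inf_movK r hrp y hyr hNinv
      rw [hfix, bot_sup_eq] at h1
      exact h1.symm.le.trans inf_le_right
    obtain ⟨D, hDN, hD, hDinv, hDdim⟩ :=
      odd_block_movK hF hσ hσq h r hrp hr2 hrq y hy hyr hNK hN hNinv hne
    exact ⟨D, hDN, hD, hDinv, by rw [hDdim]; exact Set.mem_insert_of_mem _ rfl⟩
  · have hnd := nd_inf_fixE_herm r hrp h y hy hyr hN hNinv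
    obtain ⟨u, hu, huu⟩ := hnd.exists_aniso hσ1 h hfix
    have huf : y u = u := (mem_fixE y u).mp hu.2
    refine ⟨F ∙ u, ?_, odd_nd_line h huu, odd_inv_line y huf, ?_⟩
    · rw [Submodule.span_singleton_le_iff_mem]; exact hu.1
    · rw [finrank_span_singleton (odd_ne_zero_of_aniso h huu)]
      exact Set.mem_insert _ _

/-- an invariant nondegenerate subspace of the moved part has dimension divisible by `c` -/
theorem odd_dvd_movK (hF : Fintype.card F = q ^ 2) (hσ : orderOf σ = 2)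
    (hσq : ∀ a, σ a = a ^ q) (h : IsHerm σ H) (r : ℕ) [Fact r.Prime] (hrp : r ≠ p) (hr2 : r ≠ 2)
    (hrq : ¬ r ∣ q) (y : V →ₗ[F] V) (hy : IsSim H y 1) (hyr : y ^ r = 1)
    {N : Submodule F V} (hNK : N ≤ movK r y) (hN : Nd H N) (hNinv : Inv y N) :
    cDim (orderOf ((q : ℕ) : ZMod r)) ∣ finrank F N := by
  have hinj := odd_injective y (Fact.out : r.Prime).pos hyr
  have hcpos := odd_cDim_pos r hr2 q hrq
  obtain ⟨μ, hμ, hsum, -⟩ := exists_blockDec h y hy hinj (movK r y)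
    {cDim (orderOf ((q : ℕ) : ZMod r))}
    (fun a ha => by rw [Set.mem_singleton_iff.mp ha]; exact hcpos)
    (fun N' hN'S hN' hN'inv hne' => by
      obtain ⟨D, h1, h2, h3, h4⟩ :=
        odd_block_movK hF hσ hσq h r hrp hr2 hrq y hy hyr hN'S hN' hN'inv hne'
      exact ⟨D, h1, h2, h3, by rw [h4]; rfl⟩)
    N hNK hN hNinv
  rw [← hsum]
  exact Multiset.dvd_sum (fun a ha => by rw [Set.mem_singleton_iff.mp (hμ a ha)])

/-- the invariant nondegenerate subspaces of an isometry of odd prime order `r ≠ p` -/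
theorem odd_fix_abstract (hF : Fintype.card F = q ^ 2) (hσ : orderOf σ = 2)
    (hσq : ∀ a, σ a = a ^ q) (h : IsHerm σ H) (hnd : ∀ v, (∀ w, H v w = 0) → v = 0)
    (r : ℕ) [Fact r.Prime] (hrp : r ≠ p) (hr2 : r ≠ 2)
    (hrq : ¬ r ∣ q) (y : V →ₗ[F] V) (hy : IsSim H y 1) (hyr : y ^ r = 1) (m : ℕ)
    (hm : m ≤ finrank F V)
    (hmod : m % cDim (orderOf ((q : ℕ) : ZMod r)) ≤
      finrank F V % cDim (orderOf ((q : ℕ) : ZMod r))) :
    ∃ D : Submodule F V, Nd H D ∧ Inv y D ∧ finrank F D = m := by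
  have hinj := odd_injective y (Fact.out : r.Prime).pos hyr
  have hcpos := odd_cDim_pos r hr2 q hrq
  obtain ⟨μ, hμ, hsum, hsub⟩ := exists_blockDec h y hy hinj ⊤
    {1, cDim (orderOf ((q : ℕ) : ZMod r))}
    (fun a ha => by
      rcases ha with rfl | ha
      · exact one_pos
      · rw [Set.mem_singleton_iff.mp ha]; exact hcpos)
    (fun N _ hN hNinv hne => odd_block hF hσ hσq h r hrp hr2 hrq y hy hyr hN hNinv hne)
    ⊤ le_rfl (odd_nd_top hnd) (odd_inv_top y)
  rw [finrank_top] at hsum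
  obtain ⟨ν, hν, hνsum⟩ := exists_sub_multiset _ hcpos μ
    (fun a ha => by
      rcases hμ a ha with h1 | h1
      · exact Or.inl h1
      · exact Or.inr (Set.mem_singleton_iff.mp h1)) m (by rw [hsum]; exact hm)
    (by rw [hsum]; exact hmod)
  obtain ⟨D, -, hD, hDinv, hDdim⟩ := hsub ν hν
  exact ⟨D, hD, hDinv, by rw [hDdim, hνsum]⟩

end abstract

end Cfsg.Agent.Lib.Helper4.NDU
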