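import Mathlib
import Cfsg.Prelude.Def_Classical
import Cfsg.Agent.Lib.Helper4.NDU_ODD
import Cfsg.Agent.Lib.Helper4.NDU_MODC
import Cfsg.Agent.Lib.Lead.NDU_CNT

set_option autoImplicit false
set_option linter.unusedSectionVars false

/-! S5954, the case `r ≠ p` odd, `r ∤ q + 1`, in `SU_n(q)`. -/

namespace Cfsg.Agent.Lib.Helper4.NDU

open Module Polynomial
open Cfsg.Agent.Lib.Helper5.PSLCoset Cfsg.Agent.H9SemiInv Cfsg.Agent.Lib.Helper4.SimU
open Cfsg.Agent.Lib.Helper2.HermDecomp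
open Cfsg.Agent.Lib.Helper1.SpBlk (fixE movK mem_fixE inv_fixE inv_movK inf_fixE_sup_inf_movK
  finrank_inf_fixE_add)

section su
variable {F : Type*} [Field F] [Fintype F] {p : ℕ} [Fact p.Prime] [CharP F p] {q : ℕ}

theorem red_toLin_pow {n : ℕ} (x : Matrix.SpecialLinearGroup (Fin n) F) (r : ℕ) (z : F)
    (h : ((x ^ r : Matrix.SpecialLinearGroup (Fin n) F) : Matrix (Fin n) (Fin n) F) =
      z • (1 : Matrix (Fin n) (Fin n) F)) :
    (Matrix.toLin' (x : Matrix (Fin n) (Fin n) F)) ^ r = z • 1 := by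
  rw [← Matrix.toLin'_pow, ← red_sl_pow_coe, h, map_smul, Matrix.toLin'_one]
  rfl

theorem red_isSim_of_su {n : ℕ} (x : Matrix.SpecialLinearGroup (Fin n) F)
    (hx : x ∈ Cfsg.SU n F q) :
    IsSim (Cfsg.hermForm n F q) (Matrix.toLin' (x : Matrix (Fin n) (Fin n) F)) 1 := by
  intro u v
  rw [one_mul]
  exact (mem_SU_iff' x).mp hx u v

theorem red_scalar_inj {n : ℕ} (hn : 1 ≤ n) (a b : F)
    (h : a • (1 : Matrix (Fin n) (Fin n) F) = b • (1 : Matrix (Fin n) (Fin n) F)) : a = b := by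
  have h1 := congrFun (congrFun h ⟨0, hn⟩) ⟨0, hn⟩
  simpa using h1

/-- a scalar element fixes every subspace -/
theorem su_fix_of_scalar (hF : Fintype.card F = q ^ 2) (n m : ℕ) (hm : m ≤ n)
    (x : Matrix.SpecialLinearGroup (Fin n) F) (z : F)
    (hz : (x : Matrix (Fin n) (Fin n) F) = z • (1 : Matrix (Fin n) (Fin n) F)) :
    ∃ W : Submodule F (Fin n → F), finrank F ↥W = m ∧
      (∀ u ∈ W, u ≠ 0 → ∃ v ∈ W, Cfsg.hermForm n F q u v ≠ 0) ∧
      W.map (Matrix.toLin' (x : Matrix (Fin n) (Fin n) F)) ≤ W := by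
  obtain ⟨σ, hσ, hσq, h, hnd⟩ := Cfsg.Agent.Lib.Helper2.HermFrames.exists_data hF n
  obtain ⟨D, hD, hDdim⟩ := exists_nd_of_le hσ h hnd m (by rw [Module.finrank_fin_fun]; exact hm)
  refine (fixND_iff _ _ m).mpr ⟨D, hDdim, hD, ?_⟩
  intro v hv
  have h1 : Matrix.toLin' (x : Matrix (Fin n) (Fin n) F) v = z • v := by
    rw [hz, map_smul, Matrix.toLin'_one, LinearMap.smul_apply, LinearMap.id_apply]
  rw [h1]
  exact D.smul_mem z hv

/-- `x ^ r = z • 1` with `z = l ^ r`, `l` of norm one: the isometry `l⁻¹ x` has order dividing `r` -/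
theorem su_fix_of_root (hF : Fintype.card F = q ^ 2) (n m : ℕ) (r : ℕ) [Fact r.Prime]
    (hrp : r ≠ p) (hr2 : r ≠ 2) (x : Matrix.SpecialLinearGroup (Fin n) F)
    (hx : x ∈ Cfsg.SU n F q) (z l : F)
    (hz : ((x ^ r : Matrix.SpecialLinearGroup (Fin n) F) : Matrix (Fin n) (Fin n) F) =
      z • (1 : Matrix (Fin n) (Fin n) F)) (hl : l ^ r = z) (hlN : l * l ^ q = 1) (hm : m ≤ n)
    (hmod : m % cDim (orderOf ((q : ℕ) : ZMod r)) ≤ n % cDim (orderOf ((q : ℕ) : ZMod r))) :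
    ∃ W : Submodule F (Fin n → F), finrank F ↥W = m ∧
      (∀ u ∈ W, u ≠ 0 → ∃ v ∈ W, Cfsg.hermForm n F q u v ≠ 0) ∧
      W.map (Matrix.toLin' (x : Matrix (Fin n) (Fin n) F)) ≤ W := by
  obtain ⟨σ, hσ, hσq, h, hnd⟩ := Cfsg.Agent.Lib.Helper2.HermFrames.exists_data hF n
  have hrq := odd_not_dvd_q hF r hrp
  have hT := red_isSim_of_su x hx
  have hTr := red_toLin_pow x r z hz
  have hl0 : l ≠ 0 := by
    rintro rfl
    rw [zero_mul] at hlN
    exact zero_ne_one hlN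
  have hz0 : z ≠ 0 := by rw [← hl]; exact pow_ne_zero r hl0
  have hy : IsSim (Cfsg.hermForm n F q)
      (l⁻¹ • Matrix.toLin' (x : Matrix (Fin n) (Fin n) F)) 1 := by
    have h1 := hT.smul h l⁻¹
    have hmul : l⁻¹ * σ l⁻¹ * 1 = 1 := by
      rw [mul_one, hσq, inv_pow, ← mul_inv, hlN, inv_one]
    rwa [hmul] at h1
  have hyr : (l⁻¹ • Matrix.toLin' (x : Matrix (Fin n) (Fin n) F)) ^ r = 1 := by
    rw [_root_.smul_pow, hTr, smul_smul, inv_pow, hl, inv_mul_cancel₀ hz0, one_smul]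
  obtain ⟨D, hD, hDinv, hDdim⟩ := odd_fix_abstract hF hσ hσq h hnd r hrp hr2 hrq _ hy hyr m
    (by rw [Module.finrank_fin_fun]; exact hm) (by rw [Module.finrank_fin_fun]; exact hmod)
  have hDinvT : Inv (Matrix.toLin' (x : Matrix (Fin n) (Fin n) F)) D := by
    intro v hv
    have h1 : Matrix.toLin' (x : Matrix (Fin n) (Fin n) F) v =
        l • ((l⁻¹ • Matrix.toLin' (x : Matrix (Fin n) (Fin n) F)) v) := by
      rw [LinearMap.smul_apply, smul_smul, mul_inv_cancel₀ hl0, one_smul]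
    rw [h1]
    exact D.smul_mem l (hDinv v hv)
  exact (fixND_iff _ _ m).mpr ⟨D, hDdim, hD, hDinvT⟩

/-- (iv-a) `⇐` -/
theorem su_odd_fix (hF : Fintype.card F = q ^ 2) (n m : ℕ) (hn : 1 ≤ n) (r : ℕ) [Fact r.Prime]
    (hrp : r ≠ p) (hr2 : r ≠ 2) (hrq1 : ¬ r ∣ q + 1) (x : Matrix.SpecialLinearGroup (Fin n) F)
    (hx : x ∈ Cfsg.SU n F q)
    (hxr : ∃ z : F, ((x ^ r : Matrix.SpecialLinearGroup (Fin n) F) : Matrix (Fin n) (Fin n) F) =
      z • (1 : Matrix (Fin n) (Fin n) F)) (hm : m ≤ n)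
    (hmod : m % cDim (orderOf ((q : ℕ) : ZMod r)) ≤ n % cDim (orderOf ((q : ℕ) : ZMod r))) :
    ∃ W : Submodule F (Fin n → F), finrank F ↥W = m ∧
      (∀ u ∈ W, u ≠ 0 → ∃ v ∈ W, Cfsg.hermForm n F q u v ≠ 0) ∧
      W.map (Matrix.toLin' (x : Matrix (Fin n) (Fin n) F)) ≤ W := by
  obtain ⟨z, hz⟩ := hxr
  have hzN : z * z ^ q = 1 := scalar_norm_of_su hn (x ^ r) (pow_mem hx r) z hz
  have hcop : Nat.Coprime r (q + 1) :=
    (Nat.Prime.coprime_iff_not_dvd (Fact.out : r.Prime)).mpr hrq1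
  obtain ⟨l, hl, hlN⟩ := exists_root_of_coprime hF r hcop z hzN
  exact su_fix_of_root hF n m r hrp hr2 x hx z l hz hl hlN hm hmod

/-- (iv-a) `⇒` -/
theorem exists_su_odd_not_fix (hF : Fintype.card F = q ^ 2) (n m : ℕ) (hmn : m ≤ n) (r : ℕ)
    [Fact r.Prime] (hrp : r ≠ p) (hr2 : r ≠ 2) (hrq1 : ¬ r ∣ q + 1)
    (hrΩ : r ∣ Nat.card {W : Submodule F (Fin n → F) // finrank F ↥W = m ∧
      (∀ u ∈ W, u ≠ 0 → ∃ v ∈ W, Cfsg.hermForm n F q u v ≠ 0)})
    (hcond : ¬ (cDim (orderOf ((q : ℕ) : ZMod r)) ≤ m ∧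
      m % cDim (orderOf ((q : ℕ) : ZMod r)) ≤ n % cDim (orderOf ((q : ℕ) : ZMod r)))) :
    ∃ x : Matrix.SpecialLinearGroup (Fin n) F, x ∈ Cfsg.SU n F q ∧
      (∃ z : F, ((x ^ r : Matrix.SpecialLinearGroup (Fin n) F) : Matrix (Fin n) (Fin n) F) =
        z • (1 : Matrix (Fin n) (Fin n) F)) ∧
      (∀ z : F, (x : Matrix (Fin n) (Fin n) F) ≠ z • (1 : Matrix (Fin n) (Fin n) F)) ∧
      ¬ ∃ W : Submodule F (Fin n → F), finrank F ↥W = m ∧
        (∀ u ∈ W, u ≠ 0 → ∃ v ∈ W, Cfsg.hermForm n F q u v ≠ 0) ∧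
        W.map (Matrix.toLin' (x : Matrix (Fin n) (Fin n) F)) ≤ W := by
  obtain ⟨σ, hσ, hσq, h, hnd⟩ := Cfsg.Agent.Lib.Helper2.HermFrames.exists_data hF n
  have hr : r.Prime := Fact.out
  have hrq := odd_not_dvd_q hF r hrp
  have hcpos := odd_cDim_pos r hr2 q hrq
  obtain ⟨j, hjm, hdvd⟩ := exists_dvd_of_dvd_card_ndu hF n m hmn r hr hrp hrΩ
  have hcj := cDim_dvd_of_dvd r hr2 q (n - j) hrq hdvd
  set c := cDim (orderOf ((q : ℕ) : ZMod r)) with hcdef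
  have hcn : c ≤ n := (Nat.le_of_dvd (by omega) hcj).trans (Nat.sub_le n j)
  have hn : 1 ≤ n := hcpos.trans_le hcn
  have hmodj : n % c ≤ j := by
    obtain ⟨t, ht⟩ := hcj
    have h1 : n = c * t + j := by omega
    rw [h1, Nat.mul_add_mod]
    exact Nat.mod_le j c
  have hcop : Nat.Coprime r (q + 1) := (Nat.Prime.coprime_iff_not_dvd hr).mpr hrq1
  obtain ⟨x, hx, hxr, hfix⟩ := exists_su_small_fix hF r hrp hr2 hrq1 n
  rw [← hcdef] at hfix
  have hT := red_isSim_of_su x hx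
  have hx1 : ((x ^ r : Matrix.SpecialLinearGroup (Fin n) F) : Matrix (Fin n) (Fin n) F) =
      (1 : F) • (1 : Matrix (Fin n) (Fin n) F) := by
    rw [hxr, one_smul]; rfl
  have hTr : (Matrix.toLin' (x : Matrix (Fin n) (Fin n) F)) ^ r = 1 := by
    have h1 := red_toLin_pow x r 1 hx1
    rwa [one_smul] at h1
  refine ⟨x, hx, ⟨1, hx1⟩, ?_, ?_⟩
  · intro w hw
    have hwN : w * w ^ q = 1 := scalar_norm_of_su hn x hx w hw
    have hwr : w ^ r = 1 := by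
      have h1 := hx1
      rw [red_sl_pow_coe, hw, _root_.smul_pow, one_pow] at h1
      exact red_scalar_inj hn _ _ h1
    have hwq : w ^ (q + 1) = 1 := by rw [pow_succ']; exact hwN
    have hw1 : w = 1 := by
      have h1 := (pow_gcd_eq_one (a := w)).mpr ⟨hwr, hwq⟩
      rwa [Nat.Coprime.gcd_eq_one hcop, pow_one] at h1
    have htop : fixE (Matrix.toLin' (x : Matrix (Fin n) (Fin n) F)) = ⊤ := by
      rw [eq_top_iff]
      intro v _
      rw [mem_fixE, hw, hw1, one_smul, Matrix.toLin'_one]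
      rfl
    rw [htop, finrank_top, Module.finrank_fin_fun] at hfix
    have h2 : n % c < c := Nat.mod_lt n hcpos
    omega
  · rintro ⟨W, hW⟩
    obtain ⟨W, hWdim, hWnd, hWinv⟩ := (fixND_iff _ _ m).mp ⟨W, hW⟩
    apply hcond
    have ha : finrank F ↥(W ⊓ fixE (Matrix.toLin' (x : Matrix (Fin n) (Fin n) F))) ≤ n % c := by
      rw [← hfix]
      exact Submodule.finrank_mono inf_le_right
    have hdvdK := odd_dvd_movK hF hσ hσq h r hrp hr2 hrq _ hT hTr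
      (inf_le_right : W ⊓ movK r (Matrix.toLin' (x : Matrix (Fin n) (Fin n) F)) ≤ _)
      (nd_inf_movK_herm r hrp h _ hT hTr hWnd hWinv) (hWinv.inf (inv_movK r _))
    have hsum := finrank_inf_fixE_add r hrp _ hTr hWinv
    rw [hWdim] at hsum
    obtain ⟨t, ht⟩ := hdvdK
    rw [← hcdef] at ht
    rw [ht] at hsum
    have h2 : n % c < c := Nat.mod_lt n hcpos
    have ht1 : 1 ≤ t := by
      rcases Nat.eq_zero_or_pos t with h0 | h0
      · rw [h0, Nat.mul_zero] at hsum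
        omega
      · exact h0
    have hct : c ≤ c * t := Nat.le_mul_of_pos_right c ht1
    refine ⟨by omega, ?_⟩
    rw [← hsum, Nat.add_mul_mod_self_left, Nat.mod_eq_of_lt (by omega)]
    exact ha

end su

end Cfsg.Agent.Lib.Helper4.NDU
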