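import Mathlib
import Cfsg.Prelude.Def_Classical
import Cfsg.Agent.Lib.Helper4.NDU_KUM
import Cfsg.Agent.Lib.Helper4.NDU_BRIDGE
import Cfsg.Agent.Lib.Helper4.NDU_RED

set_option autoImplicit false
set_option linter.unusedSectionVars false

/-! The monomial model: `n / r` weighted `r`-cycles `e_t ↦ e_(t+1)`, `e_(r-1) ↦ z e_0`, as an element
of `SU n F q` (S5953 PK-MIRR, S5954 PK-MON). -/

namespace Cfsg.Agent.Lib.Helper4.NDU

open Module Polynomial
open Cfsg.Agent.Lib.Helper5.PSLCoset Cfsg.Agent.H9SemiInv Cfsg.Agent.Lib.Helper4.SimU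
open Cfsg.Agent.Lib.Helper2.HermDecomp

section mono
variable {F : Type*} [Field F]

theorem mon_prod_range_zmod {M : Type*} [CommMonoid M] (r : ℕ) [NeZero r] (G : ZMod r → M) :
    ∏ u ∈ Finset.range r, G (u : ZMod r) = ∏ c : ZMod r, G c := by
  refine Finset.prod_bij' (s := Finset.range r) (t := (Finset.univ : Finset (ZMod r)))
    (fun (u : ℕ) _ => ((u : ℕ) : ZMod r)) (fun (c : ZMod r) _ => c.val) ?_ ?_ ?_ ?_ ?_
  · intro u _; exact Finset.mem_univ _
  · intro c _; exact Finset.mem_range.mpr (ZMod.val_lt c)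
  · intro u hu
    show ((u : ZMod r)).val = u
    rw [ZMod.val_natCast, Nat.mod_eq_of_lt (Finset.mem_range.mp hu)]
  · intro c _; exact ZMod.natCast_zmod_val c
  · intro u _; rfl

/-- the weight of the arrow leaving position `t` -/
def monW (r : ℕ) (z : F) (t : ZMod r) : F := if t = -1 then z else 1

/-- the weighted shift on `Fin k × ZMod r → F` -/
def monT (k r : ℕ) (z : F) : (Fin k × ZMod r → F) →ₗ[F] (Fin k × ZMod r → F) where
  toFun f := fun i => monW r z (i.2 - 1) * f (i.1, i.2 - 1)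
  map_add' f g := by
    funext i
    simp only [Pi.add_apply]
    ring
  map_smul' c f := by
    funext i
    simp only [Pi.smul_apply, smul_eq_mul, RingHom.id_apply]
    ring

theorem monT_apply (k r : ℕ) (z : F) (f : Fin k × ZMod r → F) (i : Fin k × ZMod r) :
    monT k r z f i = monW r z (i.2 - 1) * f (i.1, i.2 - 1) := rfl

theorem monT_pow_apply (k r : ℕ) (z : F) (u : ℕ) (f : Fin k × ZMod r → F) (i : Fin k × ZMod r) :
    ((monT k r z) ^ u) f i =
      (∏ v ∈ Finset.range u, monW r z (i.2 - 1 - (v : ZMod r))) * f (i.1, i.2 - (u : ZMod r)) := by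
  induction u generalizing f with
  | zero => simp
  | succ u ih =>
    rw [pow_succ, Module.End.mul_apply, ih, monT_apply, Finset.prod_range_succ]
    have h1 : i.2 - (u : ZMod r) - 1 = i.2 - 1 - (u : ZMod r) := by ring
    have h2 : i.2 - (u : ZMod r) - 1 = i.2 - ((u + 1 : ℕ) : ZMod r) := by push_cast; ring
    show _ * (monW r z (i.2 - (u : ZMod r) - 1) * f (i.1, i.2 - (u : ZMod r) - 1)) = _
    rw [h2, ← h1, h2]
    ring

theorem monT_pow_self (k r : ℕ) [NeZero r] (z : F) : (monT k r z) ^ r = z • 1 := by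
  classical
  apply LinearMap.ext
  intro f
  funext i
  rw [monT_pow_apply, ZMod.natCast_self, sub_zero, LinearMap.smul_apply, Module.End.one_apply,
    Pi.smul_apply, smul_eq_mul]
  congr 1
  rw [mon_prod_range_zmod r (fun c => monW r z (i.2 - 1 - c))]
  have h1 : ∏ c : ZMod r, monW r z (i.2 - 1 - c) = ∏ c : ZMod r, monW r z c :=
    Equiv.prod_comp (Equiv.subLeft (i.2 - 1)) (monW r z)
  rw [h1]
  unfold monW
  rw [Finset.prod_ite_eq' Finset.univ (-1 : ZMod r) (fun _ => z), if_pos (Finset.mem_univ _)]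

end mono

section form
variable {F : Type*} [Field F] {ι : Type*} [Fintype ι]

/-- the standard Hermitian form on `ι → F` -/
def stdH (σ : F ≃+* F) (f g : ι → F) : F := ∑ i, f i * σ (g i)

theorem isHerm_stdH (σ : F ≃+* F) (hσ2 : ∀ a : F, σ (σ a) = a) :
    IsHerm σ (stdH σ : (ι → F) → (ι → F) → F) := by
  refine ⟨?_, ?_, ?_⟩
  · intro u v w
    unfold stdH
    rw [← Finset.sum_add_distrib]
    apply Finset.sum_congr rfl
    intro i _
    rw [Pi.add_apply]; ring
  · intro a v w
    unfold stdH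
    rw [Finset.mul_sum]
    apply Finset.sum_congr rfl
    intro i _
    rw [Pi.smul_apply, smul_eq_mul]; ring
  · intro v w
    unfold stdH
    rw [map_sum]
    apply Finset.sum_congr rfl
    intro i _
    rw [map_mul, hσ2]; ring

theorem nd_stdH (σ : F ≃+* F) : Nd (stdH σ : (ι → F) → (ι → F) → F) ⊤ := by
  classical
  intro f _ hf
  funext i
  have h1 := hf (Pi.single i 1) Submodule.mem_top
  unfold stdH at h1
  rw [Finset.sum_eq_single i] at h1
  · rw [Pi.single_eq_same, map_one, mul_one] at h1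
    exact h1
  · intro j _ hj
    rw [Pi.single_eq_of_ne hj, map_zero, mul_zero]
  · intro hi; exact absurd (Finset.mem_univ i) hi

end form

section iso
variable {F : Type*} [Field F]

theorem monT_isSim (k r : ℕ) [NeZero r] (σ : F ≃+* F) (z : F) (hz : z * σ z = 1) :
    IsSim (stdH σ) (monT k r z) 1 := by
  intro f g
  unfold stdH
  rw [one_mul]
  have hw : ∀ c : ZMod r, monW r z c * σ (monW r z c) = 1 := by
    intro c
    unfold monW
    split_ifs
    · exact hz
    · rw [map_one, mul_one]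
  let e : Fin k × ZMod r ≃ Fin k × ZMod r := Equiv.prodCongr (Equiv.refl _) (Equiv.subRight 1)
  have he : ∀ i : Fin k × ZMod r, e i = (i.1, i.2 - 1) := fun i => rfl
  rw [← Equiv.sum_comp e (fun i => f i * σ (g i))]
  apply Finset.sum_congr rfl
  intro i _
  rw [monT_apply, monT_apply, he, map_mul]
  calc monW r z (i.2 - 1) * f (i.1, i.2 - 1) * (σ (monW r z (i.2 - 1)) * σ (g (i.1, i.2 - 1)))
      = (monW r z (i.2 - 1) * σ (monW r z (i.2 - 1))) * (f (i.1, i.2 - 1) * σ (g (i.1, i.2 - 1))) := by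
        ring
    _ = f (i.1, i.2 - 1) * σ (g (i.1, i.2 - 1)) := by rw [hw, one_mul]

end iso

end Cfsg.Agent.Lib.Helper4.NDU
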