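import Mathlib
import Cfsg.Prelude.Def_Classical
import Cfsg.Agent.Lib.Helper4.TSU_MIRR0
import Cfsg.Agent.Lib.Helper4.TSU_BLKFPF

set_option autoImplicit false
set_option linter.unusedSectionVars false

/-! The monomial model inside `SU n F q` (S5953 PK-MIRR, S5954 PK-MON). -/

namespace Cfsg.Agent.Lib.Helper4.NDU

open Module Polynomial
open Cfsg.Agent.Lib.Helper5.PSLCoset Cfsg.Agent.H9SemiInv Cfsg.Agent.Lib.Helper4.SimU
open Cfsg.Agent.Lib.Helper2.HermDecomp

section models
variable {F : Type*} [Field F] [Fintype F] {q : ℕ}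

theorem mirr_toLin_pow {n : ℕ} (x : Matrix.SpecialLinearGroup (Fin n) F) (r : ℕ) (z : F)
    (h : (Matrix.toLin' (x : Matrix (Fin n) (Fin n) F)) ^ r = z • 1) :
    ((x ^ r : Matrix.SpecialLinearGroup (Fin n) F) : Matrix (Fin n) (Fin n) F) =
      z • (1 : Matrix (Fin n) (Fin n) F) := by
  rw [red_sl_pow_coe]
  apply Matrix.toLin'.injective
  rw [Matrix.toLin'_pow, h, map_smul, Matrix.toLin'_one]
  rfl

/-- `x ∈ SU_n(q)` with `x ^ r = z`, `z` of norm one and not an `r`-th power, `r` odd, `z ^ (n / r) = 1` -/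
theorem exists_su_kummer (hF : Fintype.card F = q ^ 2) (n r : ℕ) (hr : r.Prime) (hr2 : r ≠ 2)
    (hrq : ¬ r ∣ q) (hrn : r ∣ n) (hn : 0 < n) (z : F) (hz : z * z ^ q = 1)
    (hnp : ∀ b : F, b ^ r ≠ z) (hdet : z ^ (n / r) = 1) :
    ∃ x : Matrix.SpecialLinearGroup (Fin n) F, x ∈ Cfsg.SU n F q ∧
      ((x ^ r : Matrix.SpecialLinearGroup (Fin n) F) : Matrix (Fin n) (Fin n) F) =
        z • (1 : Matrix (Fin n) (Fin n) F) ∧
      (∀ w : F, (x : Matrix (Fin n) (Fin n) F) ≠ w • (1 : Matrix (Fin n) (Fin n) F)) ∧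
      ∀ W : Submodule F (Fin n → F),
        W.map (Matrix.toLin' (x : Matrix (Fin n) (Fin n) F)) ≤ W → r ∣ finrank F W := by
  classical
  haveI : Fact r.Prime := ⟨hr⟩
  haveI : NeZero r := ⟨hr.ne_zero⟩
  haveI : Fact (1 < r) := ⟨hr.one_lt⟩
  obtain ⟨σ, hσ, hσq⟩ := Cfsg.Agent.Lib.Helper2.HermDecomp.exists_sigma hF
  have hσ2 := Cfsg.Agent.Lib.Helper2.WittHerm.sigma_sigma hσ
  have hrF : ((r : ℕ) : F) ≠ 0 := Cfsg.Agent.Lib.Helper6.TSU.blkfpf_cast_ne_zero hF r hrq
  obtain ⟨k, hk⟩ := hrn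
  have hk0 : 0 < k := by
    rcases Nat.eq_zero_or_pos k with h0 | h0
    · rw [h0, mul_zero] at hk; omega
    · exact h0
  have hnr : n / r = k := by rw [hk, Nat.mul_div_cancel_left _ hr.pos]
  -- the abstract model
  have hzσ : z * σ z = 1 := by rw [hσq]; exact hz
  have hT1 := monT_isSim k r σ z hzσ
  have hTr := monT_pow_self (F := F) k r z
  have hfin : finrank F (Fin k × ZMod r → F) = n := by
    rw [Module.finrank_fintype_fun_eq_card, Fintype.card_prod, Fintype.card_fin, ZMod.card, hk,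
      mul_comm]
  have hdetT : LinearMap.det (monT k r z) = 1 := by
    rw [det_of_kummer (monT k r z) r hr hr2 z hnp hTr, hfin, hdet]
  obtain ⟨x, hxsu, e, heH, heT⟩ := exists_su_of_isometry hF hσ hσq (isHerm_stdH σ hσ2) (nd_stdH σ)
    (monT k r z) hT1 hdetT n hfin
  -- transport of the relation `T ^ r = z`
  have hpow : ∀ (u : ℕ) (v : Fin k × ZMod r → F),
      e (((monT k r z) ^ u) v) = ((Matrix.toLin' (x : Matrix (Fin n) (Fin n) F)) ^ u) (e v) := by
    intro u
    induction u with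
    | zero => intro v; simp
    | succ u ih =>
      intro v
      rw [pow_succ, Module.End.mul_apply, ih, pow_succ, Module.End.mul_apply, heT]
  have hxr : (Matrix.toLin' (x : Matrix (Fin n) (Fin n) F)) ^ r = z • 1 := by
    apply LinearMap.ext
    intro v
    obtain ⟨v', rfl⟩ := e.surjective v
    rw [← hpow, hTr, LinearMap.smul_apply, Module.End.one_apply, map_smul, LinearMap.smul_apply,
      Module.End.one_apply]
  refine ⟨x, hxsu, mirr_toLin_pow x r z hxr, ?_, ?_⟩
  · intro w hw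
    -- a scalar would commute with the shift
    have h1 : ∀ v : Fin k × ZMod r → F, monT k r z v = w • v := by
      intro v
      apply e.injective
      rw [heT, hw, map_smul, Matrix.toLin'_one, LinearMap.smul_apply, map_smul]
      rfl
    have h2 := congrFun (h1 (Pi.single ((⟨0, hk0⟩ : Fin k), (0 : ZMod r)) 1))
      ((⟨0, hk0⟩ : Fin k), (1 : ZMod r))
    rw [monT_apply, Pi.smul_apply] at h2
    simp only [sub_self] at h2
    have h01 : ((⟨0, hk0⟩ : Fin k), (1 : ZMod r)) ≠ ((⟨0, hk0⟩ : Fin k), (0 : ZMod r)) := by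
      intro h
      exact one_ne_zero (Prod.ext_iff.mp h).2
    rw [Pi.single_eq_same, Pi.single_eq_of_ne h01, smul_zero, mul_one] at h2
    unfold monW at h2
    have h0 : (0 : ZMod r) ≠ -1 := by
      intro h
      have : (1 : ZMod r) = 0 := by
        have h' : (0 : ZMod r) + 1 = -1 + 1 := by rw [h]
        rw [zero_add, neg_add_cancel] at h'
        exact h'
      exact one_ne_zero this
    rw [if_neg h0] at h2
    exact one_ne_zero h2
  · intro W hW
    exact dvd_finrank_of_kummer _ r hr hrF z hnp hxr ((inv_iff _ W).mpr hW)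

end models

end Cfsg.Agent.Lib.Helper4.NDU
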