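import Mathlib
import Cfsg.Prelude.Def_Classical
import Cfsg.Agent.Lib.Helper4.TSU_MIRR1
import Cfsg.Agent.Lib.Lead.NDU_ARITHB

set_option autoImplicit false
set_option linter.unusedSectionVars false

/-! S5953 PK-MIRR. -/

namespace Cfsg.Agent.Lib.Helper6.TSU

open Module Polynomial Cfsg.Agent.H9SemiInv

section explicit
variable {F : Type*} [Field F] [Fintype F] {q : ℕ}

/-- `r ∣ q + 1`, `(n)_r > (q+1)_r`: block-diagonal of weighted `r`-cycles, `x ^ r = z` a non-`r`-th power -/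
theorem exists_su_irr (hF : Fintype.card F = q ^ 2) (n r : ℕ) [Fact r.Prime] (hr2 : r ≠ 2)
    (hrq1 : r ∣ q + 1) (hn : 0 < n) (hv : padicValNat r (q + 1) < padicValNat r n) :
    ∃ x : Matrix.SpecialLinearGroup (Fin n) F, x ∈ Cfsg.SU n F q ∧
      (∃ z : F, ((x ^ r : Matrix.SpecialLinearGroup (Fin n) F) : Matrix (Fin n) (Fin n) F) =
        z • (1 : Matrix (Fin n) (Fin n) F)) ∧
      (∀ z : F, (x : Matrix (Fin n) (Fin n) F) ≠ z • (1 : Matrix (Fin n) (Fin n) F)) ∧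
      ∀ W : Submodule F (Fin n → F),
        W.map (Matrix.toLin' (x : Matrix (Fin n) (Fin n) F)) ≤ W → r ∣ finrank F W := by
  have hr : r.Prime := Fact.out
  obtain ⟨z, hz, hnp, hdet⟩ := Cfsg.Agent.Lib.Helper4.NDU.exists_nonpower_odd hF r hr hr2 hrq1 n hv
  have hrn : r ∣ n := by
    apply dvd_of_one_le_padicValNat
    omega
  have hrq : ¬ r ∣ q := by
    intro h
    have h1 : r ∣ (q + 1) - q := Nat.dvd_sub hrq1 h
    rw [Nat.add_sub_cancel_left] at h1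
    exact hr.one_lt.ne' (Nat.dvd_one.mp h1)
  obtain ⟨x, hxsu, hxr, hxns, hxW⟩ :=
    Cfsg.Agent.Lib.Helper4.NDU.exists_su_kummer hF n r hr hr2 hrq hrn hn z hz hnp hdet
  exact ⟨x, hxsu, ⟨z, hxr⟩, hxns, hxW⟩

end explicit

end Cfsg.Agent.Lib.Helper6.TSU
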