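import Mathlib
import Cfsg.Prelude.Def_Classical
import Cfsg.Agent.Lib.Helper4.NDU_ODDSU
import Cfsg.Agent.Lib.Helper4.NDU_KUM
import Cfsg.Agent.Lib.Helper4.TSU_BLKFPF
import Cfsg.Agent.Lib.Helper4.TSU_MIRR
import Cfsg.Agent.Lib.Lead.NDU_ARITHB

set_option autoImplicit false
set_option linter.unusedSectionVars false

/-! S5954, the case `r ≠ p` odd, `r ∣ q + 1`, in `SU_n(q)`. -/

namespace Cfsg.Agent.Lib.Helper4.NDU

open Module Polynomial
open Cfsg.Agent.Lib.Helper5.PSLCoset Cfsg.Agent.H9SemiInv Cfsg.Agent.Lib.Helper4.SimU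
open Cfsg.Agent.Lib.Helper2.HermDecomp

section su
variable {F : Type*} [Field F] [Fintype F] {p : ℕ} [Fact p.Prime] [CharP F p] {q : ℕ}

/-- (iv-b) `⇐` -/
theorem su_dvd_fix (hF : Fintype.card F = q ^ 2) (n m : ℕ) (hn : 1 ≤ n) (r : ℕ) [Fact r.Prime]
    (hrp : r ≠ p) (hr2 : r ≠ 2) (hrq1 : r ∣ q + 1) (x : Matrix.SpecialLinearGroup (Fin n) F)
    (hx : x ∈ Cfsg.SU n F q)
    (hxr : ∃ z : F, ((x ^ r : Matrix.SpecialLinearGroup (Fin n) F) : Matrix (Fin n) (Fin n) F) =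
      z • (1 : Matrix (Fin n) (Fin n) F)) (hm : m ≤ n)
    (hcond : r ∣ m ∨ padicValNat r n ≤ padicValNat r (q + 1)) :
    ∃ W : Submodule F (Fin n → F), finrank F ↥W = m ∧
      (∀ u ∈ W, u ≠ 0 → ∃ v ∈ W, Cfsg.hermForm n F q u v ≠ 0) ∧
      W.map (Matrix.toLin' (x : Matrix (Fin n) (Fin n) F)) ≤ W := by
  obtain ⟨z, hz⟩ := hxr
  have hr : r.Prime := Fact.out
  have hzN : z * z ^ q = 1 := scalar_norm_of_su hn (x ^ r) (pow_mem hx r) z hz
  by_cases hpow : ∃ b : F, b ^ r = z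
  · obtain ⟨b, hb⟩ := hpow
    have hbN := norm_root_of_dvd hF r hr hr2 hrq1 z b hzN hb
    apply su_fix_of_root hF n m r hrp hr2 x hx z b hz hb hbN hm
    rw [odd_cDim_eq_one r hr2 q hrq1, Nat.mod_one, Nat.mod_one]
  · push Not at hpow
    obtain ⟨σ, hσ, hσq, h, hnd⟩ := Cfsg.Agent.Lib.Helper2.HermFrames.exists_data hF n
    have hrq := odd_not_dvd_q hF r hrp
    have hT := red_isSim_of_su x hx
    have hTr := red_toLin_pow x r z hz
    have hrF : ((r : ℕ) : F) ≠ 0 := Cfsg.Agent.Lib.Helper6.TSU.blkfpf_cast_ne_zero hF r hrq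
    have hz0 := kum_ne_zero r hr z hpow
    have hinj := kum_injective _ r hr z hz0 hTr
    obtain ⟨μ, hμ, hsum, hsub⟩ := exists_blockDec h _ hT hinj ⊤ {r}
      (fun a ha => by rw [Set.mem_singleton_iff.mp ha]; exact hr.pos)
      (fun N _ hN hNinv hne => by
        obtain ⟨D, h1, h2, h3, h4⟩ :=
          exists_block_kummer hσ h _ hT r hr hrF z hpow hTr hN hNinv hne
        exact ⟨D, h1, h2, h3, by rw [h4]; rfl⟩)
      ⊤ le_rfl (odd_nd_top hnd) (odd_inv_top _)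
    rw [finrank_top, Module.finrank_fin_fun] at hsum
    have hrn : r ∣ n := by
      rw [← hsum]
      exact Multiset.dvd_sum (fun a ha => by rw [Set.mem_singleton_iff.mp (hμ a ha)])
    have hrm : r ∣ m := by
      rcases hcond with h1 | h2
      · exact h1
      · exfalso
        have hdet : LinearMap.det (Matrix.toLin' (x : Matrix (Fin n) (Fin n) F)) = 1 := by
          rw [LinearMap.det_toLin']
          exact x.2
        have hdk := det_of_kummer (Matrix.toLin' (x : Matrix (Fin n) (Fin n) F)) r hr hr2 z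
          hpow hTr
        rw [hdet, Module.finrank_fin_fun] at hdk
        have h3 := lt_padic_of_nonpower_odd hF r hr hr2 hrq1 n (by omega) hrn z hzN hpow hdk.symm
        omega
    obtain ⟨ν, hν, hνsum⟩ := exists_sub_multiset r hr.pos μ
      (fun a ha => Or.inr (Set.mem_singleton_iff.mp (hμ a ha))) m (by rw [hsum]; exact hm)
      (by rw [Nat.mod_eq_zero_of_dvd hrm]; exact Nat.zero_le _)
    obtain ⟨D, -, hD, hDinv, hDdim⟩ := hsub ν hν
    exact (fixND_iff _ _ m).mpr ⟨D, by rw [hDdim, hνsum], hD, hDinv⟩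

/-- (iv-b) `⇒` -/
theorem exists_su_dvd_not_fix (hF : Fintype.card F = q ^ 2) (n m : ℕ) (hn : 1 ≤ n) (r : ℕ)
    [Fact r.Prime] (hr2 : r ≠ 2) (hrq1 : r ∣ q + 1)
    (hcond : ¬ (r ∣ m ∨ padicValNat r n ≤ padicValNat r (q + 1))) :
    ∃ x : Matrix.SpecialLinearGroup (Fin n) F, x ∈ Cfsg.SU n F q ∧
      (∃ z : F, ((x ^ r : Matrix.SpecialLinearGroup (Fin n) F) : Matrix (Fin n) (Fin n) F) =
        z • (1 : Matrix (Fin n) (Fin n) F)) ∧
      (∀ z : F, (x : Matrix (Fin n) (Fin n) F) ≠ z • (1 : Matrix (Fin n) (Fin n) F)) ∧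
      ¬ ∃ W : Submodule F (Fin n → F), finrank F ↥W = m ∧
        (∀ u ∈ W, u ≠ 0 → ∃ v ∈ W, Cfsg.hermForm n F q u v ≠ 0) ∧
        W.map (Matrix.toLin' (x : Matrix (Fin n) (Fin n) F)) ≤ W := by
  push Not at hcond
  obtain ⟨x, hx, hxr, hns, hall⟩ :=
    Cfsg.Agent.Lib.Helper6.TSU.exists_su_irr hF n r hr2 hrq1 (by omega) hcond.2
  refine ⟨x, hx, hxr, hns, ?_⟩
  rintro ⟨W, hWdim, -, hWinv⟩
  exact hcond.1 (hWdim ▸ hall W hWinv)

end su

end Cfsg.Agent.Lib.Helper4.NDU
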