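import Mathlib
import Cfsg.Agent.Lib.Helper4.Rk2l

set_option autoImplicit false

/-! The derived group lies in the Fitting subgroup as soon as, for every prime `p`, the `p'`-elements of `G'`
centralise `O_p(G)`. -/

namespace Cfsg.Agent.Lib.Helper4.Rk2

open Cfsg Cfsg.Agent.Lib.Lead Cfsg.Agent.Lib.Helper4
open scoped commutatorElement

section main

variable {G : Type*} [Group G] [Finite G] [Group.IsSolvable G]

/-- for every prime `p`, the `p'`-elements of `G'` centralise `O_p(G)` -/
structure HypKey (G : Type*) [Group G] : Prop where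
  key : ∀ {p : ℕ}, p.Prime → ∀ {x : G}, x ∈ commutator G → (orderOf x).Coprime p →
    x ∈ Subgroup.centralizer (pCore p G : Set G)

namespace HypKey

/-- the `q`-elements of `G'` lie in `O_q(G)` -/
theorem qElement_mem_pCore (h : HypKey G) {q : ℕ} (hq : q.Prime) {x : G} (hx : x ∈ commutator G)
    {k : ℕ} (hxq : x ^ (q ^ k) = 1) : x ∈ pCore q G := by
  classical
  have : Fact q.Prime := ⟨hq⟩
  set π : Set ℕ := {q} with hπ
  set K := Kpi π G with hK
  have hKn : K.Normal := (Kpi_facts π).1
  have hNn : (commutator G).Normal := by rw [commutator_def]; infer_instance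
  have hCn : (Subgroup.centralizer (K : Set G)).Normal := Subgroup.normal_centralizer
  set J := commutator G ⊓ Subgroup.centralizer (K : Set G) with hJ
  have hJn : J.Normal := inferInstance
  have hqpow : ∀ j : ℕ, IsPiNum π (q ^ j) := fun j => IsPiNum.pow (Set.mem_singleton q) hq j
  have hJpow : ∀ d ∈ J, ∃ m : ℕ, m ≠ 0 ∧ IsPiNum π m ∧ d ^ m ∈ K := by
    rintro d ⟨hdN, hdC⟩
    obtain ⟨e, t, ht, hn⟩ := Nat.exists_eq_pow_mul_and_not_dvd (orderOf_pos d).ne' q hq.ne_one
    set y := d ^ (q ^ e) with hy
    have hyt : y ^ t = 1 := by rw [hy, ← pow_mul, ← hn]; exact pow_orderOf_eq_one d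
    have hyo : (orderOf y).Coprime q := by
      have h1 : orderOf y ∣ t := orderOf_dvd_of_pow_eq_one hyt
      exact Nat.Coprime.coprime_dvd_left h1 ((Nat.Prime.coprime_iff_not_dvd hq).mpr ht).symm
    have hyN : y ∈ commutator G := Subgroup.pow_mem _ hdN _
    have hyC : y ∈ Subgroup.centralizer (K : Set G) := Subgroup.pow_mem _ hdC _
    have hyF : y ∈ fittingSubgroup G := by
      apply mem_fitting_of_centralizes
      intro r hr
      by_cases hrq : r = q
      · rw [hrq]; exact h.key hq hyN hyo
      · have hrπ : r ∉ π := fun hm => hrq (Set.mem_singleton_iff.mp hm)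
        exact Subgroup.centralizer_le (by exact_mod_cast pCore_le_Kpi hr hrπ) hyC
    obtain ⟨m, hm0, hm, hym⟩ := exists_pow_mem_Kpi π hyF
    refine ⟨q ^ e * m, Nat.mul_ne_zero (pow_ne_zero _ hq.ne_zero) hm0, (hqpow e).mul hm, ?_⟩
    rw [pow_mul]; exact hym
  obtain ⟨H, hHn, hHπ, -, hH⟩ := pi_elements_normal π J K (Kpi_card_not_mem π) inf_le_right hJpow
  have hHq : IsPGroup q H := by
    have h1 : Nat.card H ≠ 0 := Nat.card_pos.ne'
    have h2 := Nat.eq_prime_pow_of_unique_prime_dvd h1 (fun {d} hd hdd => hHπ d hd hdd)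
    exact IsPGroup.of_card h2
  apply le_pCore hHn hHq
  apply hH x _ (q ^ k) (pow_ne_zero _ hq.ne_zero) (hqpow k) hxq
  refine ⟨hx, ?_⟩
  apply mem_centralizer_Kpi
  intro r hr hrπ
  have hrq : r ≠ q := fun e => hrπ (by rw [e]; exact Set.mem_singleton q)
  apply h.key hr hx
  have h1 : orderOf x ∣ q ^ k := orderOf_dvd_of_pow_eq_one hxq
  exact Nat.Coprime.coprime_dvd_left h1
    (Nat.Coprime.pow_left _ ((Nat.coprime_primes hq hr).mpr (Ne.symm hrq)))

/-- the derived group is nilpotent -/
theorem commutator_isNilpotent (h : HypKey G) : Group.IsNilpotent ↥(commutator G) := by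
  apply ((Group.isNilpotent_of_finite_tfae (G := ↥(commutator G))).out 0 3).mpr
  intro q hq T
  have hqp := hq.out
  set RN : Subgroup ↥(commutator G) := (pCore q G).subgroupOf (commutator G) with hRN
  have hRNn : RN.Normal := by
    have := Cfsg.Agent.Lib.Lead.pCore_normal (G := G) q
    exact Subgroup.Normal.subgroupOf this _
  have hRNq : IsPGroup q RN := by
    have h1 : IsPGroup q (pCore q G) := pCore_isPGroup q
    exact h1.comap_of_injective _ (Subgroup.subtype_injective _)
  have hle : (T : Subgroup ↥(commutator G)) ≤ RN := by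
    intro t ht
    rw [hRN, Subgroup.mem_subgroupOf]
    obtain ⟨k, hk⟩ := T.isPGroup' ⟨t, ht⟩
    have hk' : (t : G) ^ (q ^ k) = 1 := by
      have := congrArg (fun z : ↥(T : Subgroup ↥(commutator G)) => ((z : ↥(commutator G)) : G)) hk
      simpa using this
    exact h.qElement_mem_pCore hqp t.2 hk'
  have e : RN = (T : Subgroup ↥(commutator G)) := T.is_maximal' hRNq hle
  rw [← e]; exact hRNn

theorem commutator_le_fitting (h : HypKey G) : commutator G ≤ fittingSubgroup G := by
  have hNn : (commutator G).Normal := by rw [commutator_def]; infer_instance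
  exact le_fittingSubgroup hNn h.commutator_isNilpotent

end HypKey

end main

end Cfsg.Agent.Lib.Helper4.Rk2
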