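import Mathlib
import Cfsg.Agent.Lib.Helper4.NT1
import Cfsg.Agent.Lib.Helper4.NR7
import Cfsg.Agent.Lib.Helper4.BG8b

set_option autoImplicit false

/-! BG Theorem 5.6: `G' ≤ F(G)` when `C_{F(G)}(E)` has rank at most two for an elementary abelian `p`-subgroup `E`
of `F(G)`. -/

namespace Cfsg.Agent.Lib.Helper4.NT

open Cfsg Cfsg.Agent.Lib.Lead
open Cfsg.Agent.Lib.Helper4.Narrow
open scoped commutatorElement

universe u

section s1

variable {R : Type*} [Group R] [Finite R] {p : ℕ} [hp : Fact p.Prime]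

/-- a maximal elementary abelian subgroup of order at most `p ^ 2` of a `p`-group of rank at least three
has order `p ^ 2` -/
theorem card_max_eq_sq (hR : IsPGroup p R) (hr : ¬ Cfsg.PRankLE p 2 R)
    (E : Subgroup R) (hE : Cfsg.IsElementaryAbelian p E)
    (hEmax : ∀ B : Subgroup R, Cfsg.IsElementaryAbelian p B → E ≤ B → B = E)
    (hle : Nat.card E ≤ p ^ 2) : Nat.card E = p ^ 2 := by
  have hp1 := hp.out.one_lt
  by_contra hne
  have hlt : Nat.card E < p ^ 2 := lt_of_le_of_ne hle hne
  have hEp : Nat.card E ≤ p := card_le_prime_of_lt_sq hR E hlt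
  apply hr
  haveI : Nontrivial R := by
    by_contra hcon
    rw [not_nontrivial_iff_subsingleton] at hcon
    apply hr
    intro A _ _
    have : Nat.card A = 1 := Nat.card_unique
    rw [this]
    exact Nat.one_le_pow _ _ hp.out.pos
  haveI : Nontrivial ↥(Subgroup.center R) := hR.center_nontrivial
  have hpc : p ∣ Nat.card ↥(Subgroup.center R) := by
    obtain ⟨k, hk⟩ := IsPGroup.iff_card.mp (hR.to_subgroup (Subgroup.center R))
    have hk0 : k ≠ 0 := by
      rintro rfl
      rw [pow_zero] at hk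
      have := Finite.one_lt_card (α := ↥(Subgroup.center R))
      omega
    rw [hk]
    exact dvd_pow_self p hk0
  obtain ⟨z, hz⟩ := exists_prime_orderOf_dvd_card' p hpc
  have hzp : (z : R) ^ p = 1 := by
    have := pow_orderOf_eq_one z
    rw [hz] at this
    exact congrArg Subtype.val this
  have hz1 : (z : R) ≠ 1 := by
    intro h1'
    have : z = 1 := Subtype.ext h1'
    rw [this, orderOf_one] at hz
    omega
  have hZE : Om p (Subgroup.center R) ≤ E := omCenter_le E hE hEmax
  have hzZ : (z : R) ∈ Om p (Subgroup.center R) := Subgroup.subset_closure ⟨z.2, hzp⟩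
  have hZne : Om p (Subgroup.center R) ≠ ⊥ := by
    intro h
    rw [h, Subgroup.mem_bot] at hzZ
    exact hz1 hzZ
  have hZge := prime_le_card_of_ne_bot hR _ hZne
  have hZeq : Om p (Subgroup.center R) = E :=
    Subgroup.eq_of_le_of_card_ge hZE (hEp.trans hZge)
  have hZc : Om p (Subgroup.center R) ≤ Subgroup.center R := by
    rw [Om, Subgroup.closure_le]
    intro x hx
    exact hx.1
  intro A hA hAp
  have hAE : A ≤ E := by
    intro a ha
    apply mem_of_pow_of_comm E hE hEmax a (hAp a ha)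
    intro e he
    rw [← hZeq] at he
    exact (Subgroup.mem_center_iff.mp (hZc he) a).symm
  calc Nat.card A ≤ Nat.card E := Subgroup.card_le_of_le hAE
    _ ≤ p ^ 2 := hle

theorem exists_max_of_bound (hR : IsPGroup p R) (hr : ¬ Cfsg.PRankLE p 2 R)
    (E' : Subgroup R) (hE' : Cfsg.IsElementaryAbelian p E')
    (hb : ∀ B : Subgroup R, Cfsg.IsElementaryAbelian p B → E' ≤ B → Nat.card B ≤ p ^ 2) :
    ∃ E : Subgroup R, Cfsg.IsElementaryAbelian p E ∧ Nat.card E = p ^ 2 ∧
      ∀ B : Subgroup R, Cfsg.IsElementaryAbelian p B → E ≤ B → B = E := by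
  obtain ⟨E, hE'E, hEm⟩ := Finite.exists_le_maximal (p := fun B : Subgroup R =>
    Cfsg.IsElementaryAbelian p B) hE'
  have hE : Cfsg.IsElementaryAbelian p E := hEm.1
  have hEmax : ∀ B : Subgroup R, Cfsg.IsElementaryAbelian p B → E ≤ B → B = E :=
    fun B hB hEB => le_antisymm (hEm.2 hB hEB) hEB
  exact ⟨E, hE, card_max_eq_sq hR hr E hE hEmax (hb E hE hE'E), hEmax⟩

end s1

end Cfsg.Agent.Lib.Helper4.NT
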