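import Mathlib
import Cfsg.Agent.Lib.Helper4.NT2
import Cfsg.Agent.Lib.Lead.BenderS1

set_option autoImplicit false

/-! BG Theorem 5.6: the key hypothesis. -/

namespace Cfsg.Agent.Lib.Helper4.NT

open Cfsg Cfsg.Agent.Lib.Lead
open Cfsg.Agent.Lib.Helper4.Narrow
open scoped commutatorElement

universe u

section s2

variable {G : Type u} [Group G] [Finite G] [Group.IsSolvable G]

theorem hypKey_of_cent_rank (hodd : Odd (Nat.card G)) (p : ℕ) [hp : Fact p.Prime]
    (E : Subgroup G) (hE : E ≤ Cfsg.fittingSubgroup G) (hEe : Cfsg.IsElementaryAbelian p E)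
    (hr : Cfsg.RankLE 2 ↥(Cfsg.fittingSubgroup G ⊓ Subgroup.centralizer (E : Set G))) :
    Cfsg.Agent.Lib.Helper4.Rk2.HypKey G := by
  classical
  constructor
  intro q hq x hx hxo
  haveI : Fact q.Prime := ⟨hq⟩
  by_cases hq2 : q = 2
  · have h2 : pCore 2 G = ⊥ := by
      have : Fact (Nat.Prime 2) := ⟨Nat.prime_two⟩
      apply pCore_eq_bot_of_not_dvd
      intro hd
      rcases hodd with ⟨k, hk⟩
      omega
    rw [hq2, h2]
    rw [Subgroup.mem_centralizer_iff]
    intro y hy
    have : y = 1 := Subgroup.mem_bot.mp hy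
    rw [this]; simp
  set P := pCore q G with hP
  have hPn : P.Normal := Cfsg.Agent.Lib.Lead.pCore_normal (G := G) q
  have hPp : IsPGroup q P := pCore_isPGroup q
  have hn : (⊤ : Subgroup G) ≤ Subgroup.normalizer ((P : Subgroup G) : Set G) := by
    rw [Subgroup.normalizer_eq_top P]
  have hs : Group.IsSolvable ↥(⊤ : Subgroup G) :=
    Group.isSolvable_of_isSolvable_injective (Subgroup.subtype_injective _)
  have hoddT : Odd (Nat.card ↥(⊤ : Subgroup G)) := by rw [Subgroup.card_top]; exact hodd
  have hx' : x ∈ ⁅(⊤ : Subgroup G), (⊤ : Subgroup G)⁆ := by rw [← commutator_def]; exact hx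
  by_cases hrk : Cfsg.PRankLE q 2 ↥P
  · exact Cfsg.Agent.Lib.Helper4.Rk2.centralizes_of_mem_commutator hq2 P ⊤ hPp hrk hn hs
      hoddT x hx' hxo
  · -- the prime is `p`
    have hEp : IsPGroup p ↥E := by
      intro a
      refine ⟨1, ?_⟩
      apply Subtype.ext
      rw [pow_one]
      simpa using hEe.2 a a.2
    have hEP : E ≤ pCore p G := Cfsg.Agent.Lib.Helper4.BG8.le_pCore_of_le_fitting hE hEp
    have hqp : q = p := by
      by_contra hne
      apply hrk
      have hle : P ≤ Cfsg.fittingSubgroup G ⊓ Subgroup.centralizer (E : Set G) := by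
        apply le_inf (Cfsg.Agent.Lib.Lead.BenderS.pCore_le_fitting q)
        intro y hy
        rw [Subgroup.mem_centralizer_iff]
        intro e he
        have hdis : Disjoint P (pCore p G) :=
          IsPGroup.disjoint_of_ne q p hne P (pCore p G) hPp (pCore_isPGroup p)
        have := Subgroup.commute_of_normal_of_disjoint P (pCore p G) hPn
          (Cfsg.Agent.Lib.Lead.pCore_normal (G := G) p) hdis y e hy (hEP he)
        exact this.eq.symm
      exact Cfsg.Agent.Lib.Helper4.Rk2.prankLE_of_injective (Subgroup.inclusion hle)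
        (Subgroup.inclusion_injective hle) (hr q hq)
    subst hqp
    have hEP' : E ≤ P := hEP
    -- a maximal elementary abelian subgroup of order `q ^ 2`
    have hE' : Cfsg.IsElementaryAbelian q (E.subgroupOf P) := by
      refine ⟨⟨⟨?_⟩⟩, ?_⟩
      · rintro ⟨a, ha⟩ ⟨b, hb⟩
        apply Subtype.ext
        apply Subtype.ext
        rw [Subgroup.mem_subgroupOf] at ha hb
        have := hEe.1.is_comm.comm (⟨(a : G), ha⟩ : ↥E) ⟨(b : G), hb⟩
        have h2 := congrArg Subtype.val this
        simpa using h2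
      · intro a ha
        rw [Subgroup.mem_subgroupOf] at ha
        apply Subtype.ext
        simpa using hEe.2 _ ha
    have hb : ∀ B : Subgroup ↥P, Cfsg.IsElementaryAbelian q B → E.subgroupOf P ≤ B →
        Nat.card B ≤ q ^ 2 := by
      intro B hB hEB
      set H := Cfsg.fittingSubgroup G ⊓ Subgroup.centralizer (E : Set G) with hH
      have hBH : B.map P.subtype ≤ H := by
        rintro y ⟨b, hb, rfl⟩
        refine Subgroup.mem_inf.mpr ⟨Cfsg.Agent.Lib.Lead.BenderS.pCore_le_fitting q b.2, ?_⟩
        rw [Subgroup.mem_centralizer_iff]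
        intro e he
        have heB : (⟨e, hEP' he⟩ : ↥P) ∈ B := hEB (by rw [Subgroup.mem_subgroupOf]; exact he)
        have := hB.1.is_comm.comm (⟨⟨e, hEP' he⟩, heB⟩ : ↥B) ⟨b, hb⟩
        have h2 := congrArg (fun z : ↥B => ((z : ↥P) : G)) this
        simpa using h2
      have hB2c : IsMulCommutative ↥((B.map P.subtype).subgroupOf H) := by
        refine ⟨⟨?_⟩⟩
        rintro ⟨a, ha⟩ ⟨b, hb⟩
        apply Subtype.ext
        apply Subtype.ext
        rw [Subgroup.mem_subgroupOf] at ha hb
        obtain ⟨a', ha', hae⟩ := ha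
        obtain ⟨b', hb', hbe⟩ := hb
        have := hB.1.is_comm.comm (⟨a', ha'⟩ : ↥B) ⟨b', hb'⟩
        have h2 := congrArg (fun z : ↥B => ((z : ↥P) : G)) this
        simp only [Subgroup.coe_mul] at h2
        show (a : G) * (b : G) = (b : G) * (a : G)
        rw [← hae, ← hbe]
        exact h2
      have hB2e : ∀ a ∈ (B.map P.subtype).subgroupOf H, a ^ q = 1 := by
        intro a ha
        rw [Subgroup.mem_subgroupOf] at ha
        obtain ⟨a', ha', hae⟩ := ha
        apply Subtype.ext
        have := hB.2 a' ha'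
        have h2 := congrArg (fun z : ↥P => (z : G)) this
        simp only [Subgroup.coe_pow, Subgroup.coe_one] at h2
        rw [Subgroup.coe_pow, Subgroup.coe_one, ← hae]
        exact h2
      have h1 := hr q hq ((B.map P.subtype).subgroupOf H) hB2c hB2e
      rw [card_subgroupOf_of_le hBH, Subgroup.card_map_of_injective P.subtype_injective] at h1
      exact h1
    have hmax := exists_max_of_bound hPp hrk (E.subgroupOf P) hE' hb
    exact (Cfsg.Agent.Lib.Helper4.NR.rank3_core hq2 P ⊤ hPp hrk hmax hn).1 x hx' hxo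

end s2

end Cfsg.Agent.Lib.Helper4.NT
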