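import Mathlib
import Cfsg.Agent.Lib.Helper8.SmTwoB
import Cfsg.Agent.Lib.Helper4.NgpDefs

set_option autoImplicit false

/-! S1904, package NB2b, part 1: the context `SC` of the self-centralizing case (`A = ⟨σ⟩` of
order three acting on the abelian self-centralizing `U`), and the `σ`-toolkit for `U`. -/

namespace Cfsg.Agent.Lib.Helper4.Ngp

open Cfsg.Agent.Lib.Helper8.SmTwo
open scoped commutatorElement

universe u

variable {G : Type u} [Group G]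

/-- context of the self-centralizing case -/
structure SC (X A U : Subgroup G) (σ : G) : Prop where
  hyp : Hyp X A
  inv : Inv X A U
  ab : IsAb U
  self : X ⊓ Subgroup.centralizer (U : Set G) = U
  L : LData X A U
  hσA : σ ∈ A
  hσ3 : σ ^ 3 = 1
  hA : ∀ a ∈ A, a = 1 ∨ a = σ ∨ a = σ ^ 2

section calculus

/-! ### commutator calculus on an abelian subgroup `U` normalized by `g` -/

theorem b1_comm_mem {U : Subgroup G} {g u : G} (hg : g ∈ Subgroup.normalizer (U : Set G))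
    (hu : u ∈ U) : ⁅g, u⁆ ∈ U := by
  rw [commutatorElement_def]
  exact U.mul_mem (conj_mem_of_mem_normalizer hg hu) (U.inv_mem hu)

theorem b1_comm_mul {U : Subgroup G} (hab : IsAb U) {g u v : G}
    (hg : g ∈ Subgroup.normalizer (U : Set G)) (hu : u ∈ U) (hv : v ∈ U) :
    ⁅g, u * v⁆ = ⁅g, u⁆ * ⁅g, v⁆ := by
  have h1 : g * v * g⁻¹ ∈ U := conj_mem_of_mem_normalizer hg hv
  have h2 : (g * v * g⁻¹ * v⁻¹) * u⁻¹ = u⁻¹ * (g * v * g⁻¹ * v⁻¹) :=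
    hab _ (U.mul_mem h1 (U.inv_mem hv)) _ (U.inv_mem hu)
  simp only [commutatorElement_def]
  calc g * (u * v) * g⁻¹ * (u * v)⁻¹ = g * u * g⁻¹ * ((g * v * g⁻¹ * v⁻¹) * u⁻¹) := by group
    _ = g * u * g⁻¹ * (u⁻¹ * (g * v * g⁻¹ * v⁻¹)) := by rw [h2]
    _ = g * u * g⁻¹ * u⁻¹ * (g * v * g⁻¹ * v⁻¹) := by group

theorem b1_comm_one (g : G) : ⁅g, (1 : G)⁆ = 1 := by
  simp [commutatorElement_def]

theorem b1_comm_inv {U : Subgroup G} (hab : IsAb U) {g u : G}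
    (hg : g ∈ Subgroup.normalizer (U : Set G)) (hu : u ∈ U) :
    ⁅g, u⁻¹⁆ = ⁅g, u⁆⁻¹ := by
  have h := b1_comm_mul hab hg hu (U.inv_mem hu)
  rw [mul_inv_cancel, b1_comm_one] at h
  exact (inv_eq_of_mul_eq_one_right h.symm).symm

theorem b1_comm_pow {U : Subgroup G} (hab : IsAb U) {g u : G}
    (hg : g ∈ Subgroup.normalizer (U : Set G)) (hu : u ∈ U) (n : ℕ) :
    ⁅g, u ^ n⁆ = ⁅g, u⁆ ^ n := by
  induction n with
  | zero => simp [b1_comm_one]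
  | succ n ih =>
    rw [pow_succ, b1_comm_mul hab hg (U.pow_mem hu n) hu, ih, pow_succ]

/-- `δ_{gh} = δ_g δ_h + δ_h + δ_g` (a group identity) -/
theorem b1_comm_mul_left (g h u : G) : ⁅g * h, u⁆ = ⁅g, ⁅h, u⁆⁆ * ⁅h, u⁆ * ⁅g, u⁆ := by
  simp only [commutatorElement_def]
  group

theorem b1_conj_comm (s g u : G) : s * ⁅g, u⁆ * s⁻¹ = ⁅s * g * s⁻¹, s * u * s⁻¹⁆ := by
  simp only [commutatorElement_def]
  group

theorem b1_comm_eq_one_iff (g u : G) : ⁅g, u⁆ = 1 ↔ g * u = u * g := by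
  rw [commutatorElement_eq_one_iff_commute]
  rfl

end calculus

namespace SC

variable {X A U : Subgroup G} {σ : G}

theorem σU (c : SC X A U σ) : σ ∈ Subgroup.normalizer (U : Set G) := c.inv.2.2 c.hσA

theorem σX (c : SC X A U σ) : σ ∈ Subgroup.normalizer (X : Set G) := c.hyp.hAX c.hσA

theorem XU (c : SC X A U σ) {g : G} (hg : g ∈ X) : g ∈ Subgroup.normalizer (U : Set G) :=
  c.inv.2.1 hg

theorem conj_mem (c : SC X A U σ) {u : G} (hu : u ∈ U) : σ * u * σ⁻¹ ∈ U :=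
  conj_mem_of_mem_normalizer c.σU hu

theorem conj_inv_mem (c : SC X A U σ) {u : G} (hu : u ∈ U) : σ⁻¹ * u * σ ∈ U :=
  conj_inv_mem_of_mem_normalizer c.σU hu

theorem conjX_mem (c : SC X A U σ) {g : G} (hg : g ∈ X) : σ * g * σ⁻¹ ∈ X :=
  conj_mem_of_mem_normalizer c.σX hg

theorem conjX_inv_mem (c : SC X A U σ) {g : G} (hg : g ∈ X) : σ⁻¹ * g * σ ∈ X :=
  conj_inv_mem_of_mem_normalizer c.σX hg

theorem σ_sq (c : SC X A U σ) : σ ^ 2 = σ⁻¹ := by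
  have h := c.hσ3
  rw [pow_succ] at h
  exact eq_inv_of_mul_eq_one_left h

/-- conjugating three times by `σ` is the identity -/
theorem conj_conj_conj (c : SC X A U σ) (u : G) :
    σ * (σ * (σ * u * σ⁻¹) * σ⁻¹) * σ⁻¹ = u := by
  have h3 : σ * σ * σ = 1 := by
    have := c.hσ3
    rwa [pow_succ, pow_two] at this
  have h3' : σ⁻¹ * σ⁻¹ * σ⁻¹ = 1 := by
    have : (σ * σ * σ)⁻¹ = 1 := by rw [h3, inv_one]
    rw [← this]; group
  calc σ * (σ * (σ * u * σ⁻¹) * σ⁻¹) * σ⁻¹ = (σ * σ * σ) * u * (σ⁻¹ * σ⁻¹ * σ⁻¹) := by group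
    _ = u := by rw [h3, h3', one_mul, mul_one]

/-- conjugating twice by `σ` is conjugating by `σ⁻¹` -/
theorem conj_conj (c : SC X A U σ) (u : G) : σ * (σ * u * σ⁻¹) * σ⁻¹ = σ⁻¹ * u * σ := by
  have h := c.conj_conj_conj u
  calc σ * (σ * u * σ⁻¹) * σ⁻¹ = σ⁻¹ * (σ * (σ * (σ * u * σ⁻¹) * σ⁻¹) * σ⁻¹) * σ := by group
    _ = σ⁻¹ * u * σ := by rw [h]

/-- `σ` has no fixed point on `U` -/
theorem fix_eq_one (c : SC X A U σ) {u : G} (hu : u ∈ U) (h : σ * u * σ⁻¹ = u) : u = 1 := by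
  have hc : σ * u = u * σ := by
    calc σ * u = (σ * u * σ⁻¹) * σ := by group
      _ = u * σ := by rw [h]
  have hmem : u ∈ U ⊓ Subgroup.centralizer (A : Set G) := by
    refine Subgroup.mem_inf.mpr ⟨hu, ?_⟩
    rw [Subgroup.mem_centralizer_iff]
    intro a ha
    rcases c.hA a ha with rfl | rfl | rfl
    · simp
    · exact hc
    · rw [pow_two, mul_assoc, hc, ← mul_assoc, hc, mul_assoc]
  rw [c.L.fix] at hmem
  exact Subgroup.mem_bot.mp hmem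

/-- (T1) the `σ`-trace of an element of `U` is trivial -/
theorem trace_eq_one (c : SC X A U σ) {u : G} (hu : u ∈ U) :
    u * (σ * u * σ⁻¹) * (σ⁻¹ * u * σ) = 1 := by
  have h1 := c.conj_mem hu
  have h2 := c.conj_inv_mem hu
  apply c.fix_eq_one (U.mul_mem (U.mul_mem hu h1) h2)
  have e : σ * (u * (σ * u * σ⁻¹) * (σ⁻¹ * u * σ)) * σ⁻¹ =
      (σ * u * σ⁻¹) * (σ * (σ * u * σ⁻¹) * σ⁻¹) * u := by group
  rw [e, c.conj_conj u]
  have c1 : (σ * u * σ⁻¹) * (σ⁻¹ * u * σ) * u = u * ((σ * u * σ⁻¹) * (σ⁻¹ * u * σ)) :=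
    c.ab _ (U.mul_mem h1 h2) _ hu
  rw [c1]
  group

theorem mem_E (c : SC X A U σ) {e : G} : e ∈ om U 1 ↔ e ∈ U ∧ e ^ 2 = 1 := by
  have := mem_om c.ab 1 e
  simpa using this

theorem conj_mem_E (c : SC X A U σ) {e : G} (he : e ∈ om U 1) : σ * e * σ⁻¹ ∈ om U 1 := by
  rw [c.mem_E] at he ⊢
  refine ⟨c.conj_mem he.1, ?_⟩
  rw [conj_pow, he.2, mul_one, mul_inv_cancel]

theorem conj_inv_mem_E (c : SC X A U σ) {e : G} (he : e ∈ om U 1) : σ⁻¹ * e * σ ∈ om U 1 := by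
  rw [c.mem_E] at he ⊢
  refine ⟨c.conj_inv_mem he.1, ?_⟩
  have : σ⁻¹ * e * σ = σ⁻¹ * e * σ⁻¹⁻¹ := by rw [inv_inv]
  rw [this, conj_pow, he.2, mul_one, inv_inv, inv_mul_cancel]

/-- (T2) the elements of `E = Ω₁(U)` are `1, e, e^σ, e^{σ⁻¹}` for any `e ≠ 1` in `E` -/
theorem E_elts [Finite G] (c : SC X A U σ) {e : G} (he : e ∈ om U 1) (he1 : e ≠ 1)
    {f : G} (hf : f ∈ om U 1) : f = 1 ∨ f = e ∨ f = σ * e * σ⁻¹ ∨ f = σ⁻¹ * e * σ := by
  classical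
  by_contra hcon
  push Not at hcon
  obtain ⟨hf1, hfe, hf2, hf3⟩ := hcon
  have heU := (c.mem_E.mp he).1
  have h1 : σ * e * σ⁻¹ ≠ e := fun h => he1 (c.fix_eq_one heU h)
  have h2 : σ⁻¹ * e * σ ≠ e := by
    intro h
    apply h1
    calc σ * e * σ⁻¹ = σ * (σ⁻¹ * e * σ) * σ⁻¹ := by rw [h]
      _ = e := by group
  have h3 : σ * e * σ⁻¹ ≠ σ⁻¹ * e * σ := by
    intro h
    apply h2
    have := c.conj_conj e
    rw [h] at this
    calc σ⁻¹ * e * σ = σ * (σ⁻¹ * e * σ) * σ⁻¹ := this.symm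
      _ = e := by group
  have h4 : σ * e * σ⁻¹ ≠ 1 := by
    intro h
    apply he1
    calc e = σ⁻¹ * (σ * e * σ⁻¹) * σ := by group
      _ = 1 := by rw [h]; group
  have h5 : σ⁻¹ * e * σ ≠ 1 := by
    intro h
    apply he1
    calc e = σ * (σ⁻¹ * e * σ) * σ⁻¹ := by group
      _ = 1 := by rw [h]; group
  -- five distinct elements of a group of order four
  let S : Finset G := {1, e, σ * e * σ⁻¹, σ⁻¹ * e * σ, f}
  have hS : S.card = 5 := by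
    simp only [S]
    rw [Finset.card_insert_of_notMem, Finset.card_insert_of_notMem, Finset.card_insert_of_notMem,
      Finset.card_insert_of_notMem, Finset.card_singleton]
    · simp only [Finset.mem_singleton]; exact fun h => hf3 h.symm
    · simp only [Finset.mem_insert, Finset.mem_singleton, not_or]
      exact ⟨h3, fun h => hf2 h.symm⟩
    · simp only [Finset.mem_insert, Finset.mem_singleton, not_or]
      exact ⟨fun h => h1 h.symm, fun h => h2 h.symm, fun h => hfe h.symm⟩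
    · simp only [Finset.mem_insert, Finset.mem_singleton, not_or]
      exact ⟨fun h => he1 h.symm, fun h => h4 h.symm, fun h => h5 h.symm, fun h => hf1 h.symm⟩
  have hsub : (S : Set G) ⊆ (om U 1 : Set G) := by
    intro x hx
    simp only [S, Finset.coe_insert, Finset.coe_singleton, Set.mem_insert_iff,
      Set.mem_singleton_iff] at hx
    rcases hx with rfl | rfl | rfl | rfl | rfl
    · exact Subgroup.one_mem _
    · exact he
    · exact c.conj_mem_E he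
    · exact c.conj_inv_mem_E he
    · exact hf
  have hle : (S : Set G).ncard ≤ (om U 1 : Set G).ncard :=
    Set.ncard_le_ncard hsub (Set.toFinite _)
  rw [Set.ncard_coe_finset, hS] at hle
  have h4' : (om U 1 : Set G).ncard = 4 := by
    have := c.L.v4.1
    rwa [← Nat.card_coe_set_eq] 
  omega

/-- `E ≤ ℧^j(U)` as soon as `℧^j(U) ≠ 1` -/
theorem E_le_pw (c : SC X A U σ) (j : ℕ) (hne : ∃ u ∈ U, u ^ (2 ^ j) ≠ 1) : om U 1 ≤ pw U j := by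
  obtain ⟨u₀, hu₀, hu₀1⟩ := hne
  refine c.L.min (pw U j) (pw_le U j) (c.inv.pw j).2.2 ?_
  intro hbot
  apply hu₀1
  have : u₀ ^ (2 ^ j) ∈ pw U j := (mem_pw c.ab j _).mpr ⟨u₀, hu₀, rfl⟩
  rw [hbot] at this
  exact Subgroup.mem_bot.mp this

/-- (T3) while `℧^j(U) ≠ 1`, every element of `Ω_j(U)` is a square in `U` -/
theorem exists_sq (c : SC X A U σ) (j : ℕ) (hne : ∃ u ∈ U, u ^ (2 ^ j) ≠ 1)
    {v : G} (hv : v ∈ U) (hvj : v ^ (2 ^ j) = 1) : ∃ u ∈ U, u ^ 2 = v := by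
  induction j generalizing v with
  | zero =>
    refine ⟨1, U.one_mem, ?_⟩
    rw [pow_zero, pow_one] at hvj
    rw [hvj, one_pow]
  | succ j ih =>
    obtain ⟨u₀, hu₀, hu₀1⟩ := hne
    have hne' : ∃ u ∈ U, u ^ (2 ^ j) ≠ 1 := by
      refine ⟨u₀, hu₀, fun h => hu₀1 ?_⟩
      rw [pow_succ, pow_mul, h, one_pow]
    have hf : v ^ (2 ^ j) ∈ om U 1 := by
      rw [c.mem_E]
      refine ⟨U.pow_mem hv _, ?_⟩
      rw [← pow_mul, ← pow_succ]
      exact hvj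
    have hf' := c.E_le_pw (j + 1) ⟨u₀, hu₀, hu₀1⟩ hf
    obtain ⟨w, hw, hwf⟩ := (mem_pw c.ab (j + 1) _).mp hf'
    have hw2 : w ^ 2 ∈ U := U.pow_mem hw 2
    have hv' : (v * (w ^ 2)⁻¹) ^ (2 ^ j) = 1 := by
      have hc : Commute v (w ^ 2)⁻¹ := c.ab v hv _ (U.inv_mem hw2)
      rw [hc.mul_pow, hwf, inv_pow, ← pow_mul, pow_succ, mul_comm (2 ^ j) 2, mul_inv_cancel]
    obtain ⟨y, hy, hy2⟩ := ih hne' (U.mul_mem hv (U.inv_mem hw2)) hv'
    refine ⟨y * w, U.mul_mem hy hw, ?_⟩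
    have hc : Commute y w := c.ab y hy w hw
    rw [hc.mul_pow, hy2, inv_mul_cancel_right]

/-- (T4) `Ω_{j+1}(U) = Ω_j(U) · {1, r₀, r₀^σ, r₀^{σ⁻¹}}` for any `r₀ ∈ Ω_{j+1}(U) ∖ Ω_j(U)` -/
theorem section_decomp [Finite G] (c : SC X A U σ) (j : ℕ) {r₀ : G} (hr₀ : r₀ ∈ U)
    (h1 : r₀ ^ (2 ^ (j + 1)) = 1) (h0 : r₀ ^ (2 ^ j) ≠ 1) {r : G} (hr : r ∈ U)
    (hr1 : r ^ (2 ^ (j + 1)) = 1) :
    ∃ q ∈ U, q ^ (2 ^ j) = 1 ∧
      (r = q ∨ r = q * r₀ ∨ r = q * (σ * r₀ * σ⁻¹) ∨ r = q * (σ⁻¹ * r₀ * σ)) := by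
  have he : r₀ ^ (2 ^ j) ∈ om U 1 := by
    rw [c.mem_E]
    refine ⟨U.pow_mem hr₀ _, ?_⟩
    rw [← pow_mul, ← pow_succ]; exact h1
  have hf : r ^ (2 ^ j) ∈ om U 1 := by
    rw [c.mem_E]
    refine ⟨U.pow_mem hr _, ?_⟩
    rw [← pow_mul, ← pow_succ]; exact hr1
  have key : ∀ s ∈ U, r ^ (2 ^ j) = s ^ (2 ^ j) → ∃ q ∈ U, q ^ (2 ^ j) = 1 ∧ r = q * s := by
    intro s hs hrs
    refine ⟨r * s⁻¹, U.mul_mem hr (U.inv_mem hs), ?_, by group⟩
    have hc : Commute r s⁻¹ := c.ab r hr _ (U.inv_mem hs)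
    rw [hc.mul_pow, hrs, inv_pow, mul_inv_cancel]
  rcases c.E_elts he h0 hf with h | h | h | h
  · exact ⟨r, hr, h, Or.inl rfl⟩
  · obtain ⟨q, hq, hq1, hq2⟩ := key r₀ hr₀ h
    exact ⟨q, hq, hq1, Or.inr (Or.inl hq2)⟩
  · obtain ⟨q, hq, hq1, hq2⟩ := key (σ * r₀ * σ⁻¹) (c.conj_mem hr₀) (by rw [h, conj_pow])
    exact ⟨q, hq, hq1, Or.inr (Or.inr (Or.inl hq2))⟩
  · obtain ⟨q, hq, hq1, hq2⟩ := key (σ⁻¹ * r₀ * σ) (c.conj_inv_mem hr₀) (by
      rw [h]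
      have : σ⁻¹ * r₀ * σ = σ⁻¹ * r₀ * σ⁻¹⁻¹ := by rw [inv_inv]
      rw [this, conj_pow, inv_inv])
    exact ⟨q, hq, hq1, Or.inr (Or.inr (Or.inr hq2))⟩

end SC

end Cfsg.Agent.Lib.Helper4.Ngp
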