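import Mathlib
import Cfsg.Agent.Lib.Helper8.SmTwoB
import Cfsg.Agent.Lib.Helper4.NgpDefs
import Cfsg.Agent.Lib.Helper4.NgpB1

set_option autoImplicit false

/-! S1904, package NB2b, part 2: the action of `X` on `Ω₂(U)`: additivity, the `σ`-trace
identity (★) and "zero or injective". -/

namespace Cfsg.Agent.Lib.Helper4.Ngp

open Cfsg.Agent.Lib.Helper8.SmTwo
open scoped commutatorElement

universe u

variable {G : Type u} [Group G]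

namespace SC

variable {X A U : Subgroup G} {σ : G}

theorem comm_mem (c : SC X A U σ) {g u : G} (hg : g ∈ X) (hu : u ∈ U) : ⁅g, u⁆ ∈ U :=
  b1_comm_mem (c.XU hg) hu

theorem comm_E (c : SC X A U σ) {g e : G} (hg : g ∈ X) (he : e ∈ om U 1) : ⁅g, e⁆ = 1 := by
  rw [b1_comm_eq_one_iff]
  exact (Subgroup.mem_centralizer_iff.mp (c.L.cent hg) e he).symm

theorem sq_mem_E (c : SC X A U σ) {w : G} (hw : w ∈ U) (hw4 : w ^ 4 = 1) : w ^ 2 ∈ om U 1 := by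
  rw [c.mem_E]
  refine ⟨U.pow_mem hw 2, ?_⟩
  rw [← pow_mul]; exact hw4

/-- `δ_g(w) ∈ E` for `w ∈ Ω₂(U)` -/
theorem comm_mem_E (c : SC X A U σ) {g w : G} (hg : g ∈ X) (hw : w ∈ U) (hw4 : w ^ 4 = 1) :
    ⁅g, w⁆ ∈ om U 1 := by
  rw [c.mem_E]
  refine ⟨c.comm_mem hg hw, ?_⟩
  rw [← b1_comm_pow c.ab (c.XU hg) hw 2]
  exact c.comm_E hg (c.sq_mem_E hw hw4)

/-- additivity in the group variable on `Ω₂(U)` -/
theorem comm_mul_left (c : SC X A U σ) {g h w : G} (hg : g ∈ X) (hh : h ∈ X) (hw : w ∈ U)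
    (hw4 : w ^ 4 = 1) : ⁅g * h, w⁆ = ⁅g, w⁆ * ⁅h, w⁆ := by
  rw [b1_comm_mul_left, c.comm_E hg (c.comm_mem_E hh hw hw4), one_mul]
  exact c.ab _ (c.comm_mem hh hw) _ (c.comm_mem hg hw)

theorem comm_one_left (w : G) : ⁅(1 : G), w⁆ = 1 := by
  simp [commutatorElement_def]

theorem comm_inv_left (c : SC X A U σ) {g w : G} (hg : g ∈ X) (hw : w ∈ U)
    (hw4 : w ^ 4 = 1) : ⁅g⁻¹, w⁆ = ⁅g, w⁆⁻¹ := by
  have h := c.comm_mul_left hg (X.inv_mem hg) hw hw4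
  rw [mul_inv_cancel, comm_one_left] at h
  exact (inv_eq_of_mul_eq_one_right h.symm).symm

/-- the `σ`-trace of `δ_g` -/
def tr (σ g w : G) : G := ⁅g, w⁆ * ⁅σ * g * σ⁻¹, w⁆ * ⁅σ⁻¹ * g * σ, w⁆

theorem tr_mul (c : SC X A U σ) {g h w : G} (hg : g ∈ X) (hh : h ∈ X) (hw : w ∈ U)
    (hw4 : w ^ 4 = 1) : tr σ (g * h) w = tr σ g w * tr σ h w := by
  have e1 : σ * (g * h) * σ⁻¹ = (σ * g * σ⁻¹) * (σ * h * σ⁻¹) := by group
  have e2 : σ⁻¹ * (g * h) * σ = (σ⁻¹ * g * σ) * (σ⁻¹ * h * σ) := by group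
  unfold tr
  rw [e1, e2, c.comm_mul_left hg hh hw hw4,
    c.comm_mul_left (c.conjX_mem hg) (c.conjX_mem hh) hw hw4,
    c.comm_mul_left (c.conjX_inv_mem hg) (c.conjX_inv_mem hh) hw hw4]
  have m1 := c.comm_mem hg hw
  have m2 := c.comm_mem hh hw
  have m3 := c.comm_mem (c.conjX_mem hg) hw
  have m4 := c.comm_mem (c.conjX_mem hh) hw
  have m5 := c.comm_mem (c.conjX_inv_mem hg) hw
  have m6 := c.comm_mem (c.conjX_inv_mem hh) hw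
  generalize ⁅g, w⁆ = a1 at *
  generalize ⁅h, w⁆ = a2 at *
  generalize ⁅σ * g * σ⁻¹, w⁆ = a3 at *
  generalize ⁅σ * h * σ⁻¹, w⁆ = a4 at *
  generalize ⁅σ⁻¹ * g * σ, w⁆ = a5 at *
  generalize ⁅σ⁻¹ * h * σ, w⁆ = a6 at *
  have c23 : a2 * a3 = a3 * a2 := c.ab _ m2 _ m3
  have c25 : a2 * a5 = a5 * a2 := c.ab _ m2 _ m5
  have c45 : a4 * a5 = a5 * a4 := c.ab _ m4 _ m5
  calc a1 * a2 * (a3 * a4) * (a5 * a6) = a1 * (a2 * a3) * a4 * a5 * a6 := by group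
    _ = a1 * (a3 * a2) * a4 * a5 * a6 := by rw [c23]
    _ = a1 * a3 * a2 * (a4 * a5) * a6 := by group
    _ = a1 * a3 * a2 * (a5 * a4) * a6 := by rw [c45]
    _ = a1 * a3 * (a2 * a5) * a4 * a6 := by group
    _ = a1 * a3 * (a5 * a2) * a4 * a6 := by rw [c25]
    _ = a1 * a3 * a5 * (a2 * a4 * a6) := by group

theorem tr_one (σ w : G) : tr σ 1 w = 1 := by
  unfold tr
  simp [commutatorElement_def]

theorem tr_inv (c : SC X A U σ) {g w : G} (hg : g ∈ X) (hw : w ∈ U)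
    (hw4 : w ^ 4 = 1) : tr σ g⁻¹ w = (tr σ g w)⁻¹ := by
  have h := c.tr_mul hg (X.inv_mem hg) hw hw4
  rw [mul_inv_cancel, tr_one] at h
  exact (inv_eq_of_mul_eq_one_right h.symm).symm

theorem tr_conj (c : SC X A U σ) {g w : G} (hg : g ∈ X) (hw : w ∈ U) :
    tr σ (σ * g * σ⁻¹) w = tr σ g w := by
  unfold tr
  have e2 : σ⁻¹ * (σ * g * σ⁻¹) * σ = g := by group
  rw [c.conj_conj g, e2]
  have m1 := c.comm_mem hg hw
  have m3 := c.comm_mem (c.conjX_mem hg) hw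
  have m5 := c.comm_mem (c.conjX_inv_mem hg) hw
  exact c.ab _ (U.mul_mem m3 m5) _ m1 |>.trans (by group)

theorem tr_conj_inv (c : SC X A U σ) {g w : G} (hg : g ∈ X) (hw : w ∈ U) :
    tr σ (σ⁻¹ * g * σ) w = tr σ g w := by
  have h := c.tr_conj (c.conjX_inv_mem hg) hw
  have e : σ * (σ⁻¹ * g * σ) * σ⁻¹ = g := by group
  rw [e] at h
  exact h.symm

/-- (★) the `σ`-trace of `δ_g` vanishes on `Ω₂(U)` for every `g ∈ X = [X, A]` -/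
theorem star (c : SC X A U σ) {g w : G} (hg : g ∈ X) (hw : w ∈ U) (hw4 : w ^ 4 = 1) :
    tr σ g w = 1 := by
  have hg' : g ∈ ⁅X, A⁆ := by rw [c.hyp.hcomm]; exact hg
  rw [Subgroup.commutator_def] at hg'
  have key : ∀ g ∈ Subgroup.closure {g | ∃ g₁ ∈ X, ∃ g₂ ∈ A, ⁅g₁, g₂⁆ = g},
      g ∈ X ∧ tr σ g w = 1 := by
    intro g hg
    induction hg using Subgroup.closure_induction with
    | mem y hy =>
      obtain ⟨x, hx, a, ha, rfl⟩ := hy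
      have hax : ∀ a ∈ A, a * x⁻¹ * a⁻¹ ∈ X := fun a ha =>
        conj_mem_of_mem_normalizer (c.hyp.hAX ha) (X.inv_mem hx)
      have e : ⁅x, a⁆ = x * (a * x⁻¹ * a⁻¹) := by rw [commutatorElement_def]; group
      refine ⟨by rw [e]; exact X.mul_mem hx (hax a ha), ?_⟩
      rw [e, c.tr_mul hx (hax a ha) hw hw4]
      have hxi : tr σ x⁻¹ w = (tr σ x w)⁻¹ := c.tr_inv hx hw hw4
      rcases c.hA a ha with rfl | rfl | rfl
      · simp only [one_mul, inv_one, mul_one]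
        rw [hxi, mul_inv_cancel]
      · rw [c.tr_conj (X.inv_mem hx) hw, hxi, mul_inv_cancel]
      · rw [c.σ_sq, inv_inv, c.tr_conj_inv (X.inv_mem hx) hw, hxi, mul_inv_cancel]
    | one => exact ⟨X.one_mem, tr_one σ w⟩
    | mul a b _ _ iha ihb =>
      exact ⟨X.mul_mem iha.1 ihb.1, by rw [c.tr_mul iha.1 ihb.1 hw hw4, iha.2, ihb.2, one_mul]⟩
    | inv a _ iha =>
      exact ⟨X.inv_mem iha.1, by rw [c.tr_inv iha.1 hw hw4, iha.2, inv_one]⟩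
  exact (key g hg').2

/-- "zero or injective": an element of `X` centralizing some element of order four of `U`
centralizes `Ω₂(U)` -/
theorem centralizes_om2 [Finite G] (c : SC X A U σ) {g w₀ : G} (hg : g ∈ X) (hw₀ : w₀ ∈ U)
    (h4 : w₀ ^ 4 = 1) (h2 : w₀ ^ 2 ≠ 1) (hc : ⁅g, w₀⁆ = 1) {w : G} (hw : w ∈ U)
    (hw4 : w ^ 4 = 1) : ⁅g, w⁆ = 1 := by
  have hgU := c.XU hg
  -- the conjugates of `w₀`
  have hw1 : σ * w₀ * σ⁻¹ ∈ U := c.conj_mem hw₀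
  have hw2 : σ⁻¹ * w₀ * σ ∈ U := c.conj_inv_mem hw₀
  have hw14 : (σ * w₀ * σ⁻¹) ^ 4 = 1 := by rw [conj_pow, h4, mul_one, mul_inv_cancel]
  have hw24 : (σ⁻¹ * w₀ * σ) ^ 4 = 1 := by
    have : σ⁻¹ * w₀ * σ = σ⁻¹ * w₀ * σ⁻¹⁻¹ := by rw [inv_inv]
    rw [this, conj_pow, h4, mul_one, mul_inv_cancel]
  -- e := δ_g(w₀^σ), and δ_g(w₀^{σ⁻¹}) = e
  have ht := c.trace_eq_one hw₀
  have hsum : ⁅g, w₀⁆ * ⁅g, σ * w₀ * σ⁻¹⁆ * ⁅g, σ⁻¹ * w₀ * σ⁆ = 1 := by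
    rw [← b1_comm_mul c.ab hgU hw₀ hw1, ← b1_comm_mul c.ab hgU (U.mul_mem hw₀ hw1) hw2, ht,
      b1_comm_one]
  rw [hc, one_mul] at hsum
  have he1 : ⁅g, σ * w₀ * σ⁻¹⁆ ∈ om U 1 := c.comm_mem_E hg hw1 hw14
  have he2 : ⁅g, σ⁻¹ * w₀ * σ⁆ ∈ om U 1 := c.comm_mem_E hg hw2 hw24
  have heq : ⁅g, σ⁻¹ * w₀ * σ⁆ = ⁅g, σ * w₀ * σ⁻¹⁆ := by
    have h1 : ⁅g, σ⁻¹ * w₀ * σ⁆ = (⁅g, σ * w₀ * σ⁻¹⁆)⁻¹ := (inv_eq_of_mul_eq_one_right hsum).symm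
    have h2 : (⁅g, σ * w₀ * σ⁻¹⁆) ^ 2 = 1 := (c.mem_E.mp he1).2
    rw [h1, inv_eq_iff_mul_eq_one, ← pow_two]; exact h2
  -- (★) at `w₀`
  have hstar := c.star hg hw₀ h4
  unfold tr at hstar
  rw [hc, one_mul] at hstar
  have e1 : ⁅σ * g * σ⁻¹, w₀⁆ = σ * ⁅g, σ⁻¹ * w₀ * σ⁆ * σ⁻¹ := by
    rw [b1_conj_comm]; congr 1; group
  have e2 : ⁅σ⁻¹ * g * σ, w₀⁆ = σ⁻¹ * ⁅g, σ * w₀ * σ⁻¹⁆ * σ := by
    have := b1_conj_comm σ⁻¹ g (σ * w₀ * σ⁻¹)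
    rw [inv_inv] at this
    rw [this]; congr 1; group
  rw [e1, e2, heq] at hstar
  have htr := c.trace_eq_one (c.mem_E.mp he1).1
  have hone : ⁅g, σ * w₀ * σ⁻¹⁆ = 1 := by
    rw [mul_assoc, hstar, mul_one] at htr
    exact htr
  have hone2 : ⁅g, σ⁻¹ * w₀ * σ⁆ = 1 := by rw [heq, hone]
  -- decompose `w`
  have h2' : w₀ ^ (2 ^ 1) ≠ 1 := by simpa using h2
  have h4' : w₀ ^ (2 ^ (1 + 1)) = 1 := by simpa using h4
  have hw4' : w ^ (2 ^ (1 + 1)) = 1 := by simpa using hw4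
  obtain ⟨q, hq, hq1, hcase⟩ := c.section_decomp 1 hw₀ h4' h2' hw hw4'
  have hqE : q ∈ om U 1 := by rw [c.mem_E]; exact ⟨hq, by simpa using hq1⟩
  have hq0 : ⁅g, q⁆ = 1 := c.comm_E hg hqE
  rcases hcase with rfl | rfl | rfl | rfl
  · exact hq0
  · rw [b1_comm_mul c.ab hgU hq hw₀, hq0, hc, one_mul]
  · rw [b1_comm_mul c.ab hgU hq hw1, hq0, hone, one_mul]
  · rw [b1_comm_mul c.ab hgU hq hw2, hq0, hone2, one_mul]

end SC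

end Cfsg.Agent.Lib.Helper4.Ngp
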