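import Mathlib
import Cfsg.Agent.Lib.Helper8.SmTwoB
import Cfsg.Agent.Lib.Helper4.NgpDefs
import Cfsg.Agent.Lib.Helper4.NgpB1
import Cfsg.Agent.Lib.Helper4.NgpB2

set_option autoImplicit false

/-! S1904, package NB2b, part 3: elements of `T/U = Ω₁ Z(X/U)`; an element of `T` centralizing
`Ω₂(U)` centralizes all squares of `U`. -/

namespace Cfsg.Agent.Lib.Helper4.Ngp

open Cfsg.Agent.Lib.Helper8.SmTwo
open scoped commutatorElement

universe u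

variable {G : Type u} [Group G]

/-- `x ∈ T`, where `T/U = Ω₁(Z(X/U))` -/
def InT (X U : Subgroup G) (x : G) : Prop := x ∈ X ∧ x ^ 2 ∈ U ∧ ∀ g ∈ X, ⁅x, g⁆ ∈ U

namespace SC

variable {X A U : Subgroup G} {σ : G}

theorem inT_of_mem (c : SC X A U σ) {u : G} (hu : u ∈ U) : InT X U u := by
  refine ⟨c.inv.1 hu, U.pow_mem hu 2, fun g hg => ?_⟩
  have e : ⁅u, g⁆ = u * (g * u⁻¹ * g⁻¹) := by rw [commutatorElement_def]; group
  rw [e]
  exact U.mul_mem hu (conj_mem_of_mem_normalizer (c.XU hg) (U.inv_mem hu))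

theorem inT_mul (c : SC X A U σ) {x y : G} (hx : InT X U x) (hy : InT X U y) :
    InT X U (x * y) := by
  obtain ⟨hxX, hx2, hxc⟩ := hx
  obtain ⟨hyX, hy2, hyc⟩ := hy
  refine ⟨X.mul_mem hxX hyX, ?_, fun g hg => ?_⟩
  · -- (xy)² = x² · (x⁻¹ ⁅y, x⁆⁻¹ … ) : write (xy)² = x² * (x⁻¹ * ⁅y, x⁆ * x) ... use y x = ⁅y,x⁆ x y
    have e : (x * y) ^ 2 = x * ⁅y, x⁆ * x⁻¹ * (x ^ 2 * y ^ 2) := by
      rw [commutatorElement_def]; simp only [pow_two]; group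
    rw [e]
    exact U.mul_mem (conj_mem_of_mem_normalizer (c.XU hxX) (hyc x hxX)) (U.mul_mem hx2 hy2)
  · have e : ⁅x * y, g⁆ = x * ⁅y, g⁆ * x⁻¹ * ⁅x, g⁆ := by
      simp only [commutatorElement_def]; group
    rw [e]
    exact U.mul_mem (conj_mem_of_mem_normalizer (c.XU hxX) (hyc g hg)) (hxc g hg)

theorem inT_conj (c : SC X A U σ) {x : G} (hx : InT X U x) : InT X U (σ * x * σ⁻¹) := by
  obtain ⟨hxX, hx2, hxc⟩ := hx
  refine ⟨c.conjX_mem hxX, ?_, fun g hg => ?_⟩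
  · rw [conj_pow]; exact c.conj_mem hx2
  · have e : ⁅σ * x * σ⁻¹, g⁆ = σ * ⁅x, σ⁻¹ * g * σ⁆ * σ⁻¹ := by
      simp only [commutatorElement_def]; group
    rw [e]
    exact c.conj_mem (hxc _ (c.conjX_inv_mem hg))

/-- `δ² = -2δ` for `x` with `x² ∈ U` -/
theorem comm_comm (c : SC X A U σ) {x u : G} (hx : x ∈ X) (hx2 : x ^ 2 ∈ U) (hu : u ∈ U) :
    ⁅x, ⁅x, u⁆⁆ = (⁅x, u⁆ ^ 2)⁻¹ := by
  have h1 : ⁅x * x, u⁆ = 1 := by
    rw [b1_comm_eq_one_iff, ← pow_two]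
    exact c.ab _ hx2 _ hu
  rw [b1_comm_mul_left] at h1
  rw [pow_two, eq_inv_iff_mul_eq_one, ← mul_assoc]
  exact h1

/-- the exponent of `U`: some `j` with `℧^j(U) ≠ 1 = ℧^{j+1}(U)` -/
theorem exists_exp [Finite G] (c : SC X A U σ) (hne : ∃ u ∈ U, u ≠ 1) :
    ∃ j : ℕ, (∃ u ∈ U, u ^ (2 ^ j) ≠ 1) ∧ ∀ u ∈ U, u ^ (2 ^ (j + 1)) = 1 := by
  classical
  have hUp : IsPGroup 2 U := c.hyp.hX.to_le c.inv.1
  have : Fact (Nat.Prime 2) := ⟨Nat.prime_two⟩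
  obtain ⟨n, hn⟩ := hUp.exists_card_eq
  have hex : ∃ n : ℕ, ∀ u ∈ U, u ^ (2 ^ n) = 1 := by
    refine ⟨n, fun u hu => ?_⟩
    have : (⟨u, hu⟩ : U) ^ Nat.card U = 1 := pow_card_eq_one'
    rw [hn] at this
    simpa using congrArg Subtype.val this
  have hspec := Nat.find_spec hex
  have hpos : Nat.find hex ≠ 0 := by
    intro h0
    obtain ⟨u, hu, hu1⟩ := hne
    apply hu1
    have := hspec u hu
    rw [h0] at this
    simpa using this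
  obtain ⟨j, hj⟩ := Nat.exists_eq_succ_of_ne_zero hpos
  refine ⟨j, ?_, fun u hu => ?_⟩
  · have := Nat.find_min hex (m := j) (by omega)
    push Not at this
    exact this
  · have := hspec u hu
    rwa [hj] at this

/-- (i') an `x` with `x² ∈ U` centralizing `Ω₂(U)` centralizes `Ω_j(U)` while `℧^j(U) ≠ 1` -/
theorem centralizes_om (c : SC X A U σ) {x : G} (hx : x ∈ X) (hx2 : x ^ 2 ∈ U)
    (h2 : ∀ w ∈ U, w ^ 4 = 1 → ⁅x, w⁆ = 1) (j : ℕ) (hne : ∃ u ∈ U, u ^ (2 ^ j) ≠ 1)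
    {w : G} (hw : w ∈ U) (hwj : w ^ (2 ^ j) = 1) : ⁅x, w⁆ = 1 := by
  induction j generalizing w with
  | zero =>
    apply h2 w hw
    rw [pow_zero, pow_one] at hwj
    rw [hwj, one_pow]
  | succ k ih =>
    obtain ⟨u₀, hu₀, hu₀1⟩ := hne
    have hne' : ∃ u ∈ U, u ^ (2 ^ k) ≠ 1 := by
      refine ⟨u₀, hu₀, fun h => hu₀1 ?_⟩
      rw [pow_succ, pow_mul, h, one_pow]
    by_cases hk : k + 1 ≤ 2
    · apply h2 w hw
      have h4 : (4 : ℕ) = 2 ^ (k + 1) * 2 ^ (2 - (k + 1)) := by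
        rw [← pow_add]
        have : k + 1 + (2 - (k + 1)) = 2 := by omega
        rw [this]; norm_num
      rw [h4, pow_mul, hwj, one_pow]
    · have hk2 : 2 ≤ k := by omega
      obtain ⟨u, hu, huw⟩ := c.exists_sq (k + 1) ⟨u₀, hu₀, hu₀1⟩ hw hwj
      -- `u⁴ ∈ Ω_k(U)`
      have hu4 : (u ^ 4) ^ (2 ^ k) = 1 := by
        have : (u ^ 4) ^ (2 ^ k) = (u ^ 2) ^ (2 ^ (k + 1)) := by
          rw [← pow_mul, ← pow_mul, pow_succ]
          congr 1; ring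
        rw [this, huw, hwj]
      have h1 : ⁅x, u ^ 4⁆ = 1 := ih hne' (U.pow_mem hu 4) hu4
      rw [b1_comm_pow c.ab (c.XU hx) hu] at h1
      have h3 : ⁅x, ⁅x, u⁆⁆ = 1 := h2 _ (c.comm_mem hx hu) h1
      rw [c.comm_comm hx hx2 hu, inv_eq_one] at h3
      rw [← huw, b1_comm_pow c.ab (c.XU hx) hu]
      exact h3

/-- an `x` with `x² ∈ U` centralizing `Ω₂(U)` centralizes all squares of `U` -/
theorem centralizes_sq [Finite G] (c : SC X A U σ) {x : G} (hx : x ∈ X) (hx2 : x ^ 2 ∈ U)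
    (h2 : ∀ w ∈ U, w ^ 4 = 1 → ⁅x, w⁆ = 1) {u : G} (hu : u ∈ U) : ⁅x, u ^ 2⁆ = 1 := by
  by_cases hne : ∃ u ∈ U, u ≠ 1
  · obtain ⟨j, hj, hexp⟩ := c.exists_exp hne
    apply c.centralizes_om hx hx2 h2 j hj (U.pow_mem hu 2)
    rw [← pow_mul, ← pow_succ']
    exact hexp u hu
  · push Not at hne
    rw [hne u hu, one_pow, b1_comm_one]

end SC

end Cfsg.Agent.Lib.Helper4.Ngp
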