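import Mathlib
import Cfsg.Agent.Lib.Helper8.SmTwoDefs
import Cfsg.Agent.Lib.Helper8.SmTwoB
import Cfsg.Agent.Lib.Helper4.NgpDefs
import Cfsg.Agent.Lib.Helper4.NgpB1
import Cfsg.Agent.Lib.Helper4.NgpB2
import Cfsg.Agent.Lib.Helper4.NgpB3

set_option autoImplicit false

/-! S1904, package NB2b, part 4: no element of `T ∖ U` centralizes all squares of `U` with
`C_U(x) ≤ ℧¹(U)` (it would produce a normal `E8`). -/

namespace Cfsg.Agent.Lib.Helper4.Ngp

open Cfsg.Agent.Lib.Helper8.SmTwo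
open scoped commutatorElement

universe u

variable {G : Type u} [Group G]

/-- a subgroup generated by pairwise commuting involutions has exponent two -/
theorem b4_closure_exp_two (S : Set G) (hc : ∀ a ∈ S, ∀ b ∈ S, a * b = b * a)
    (h2 : ∀ a ∈ S, a ^ 2 = 1) : ∀ f ∈ Subgroup.closure S, f ^ 2 = 1 := by
  have h1 : Subgroup.closure S ≤ Subgroup.centralizer S := by
    rw [Subgroup.closure_le]
    intro s hs
    rw [SetLike.mem_coe, Subgroup.mem_centralizer_iff]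
    intro b hb
    exact hc b hb s hs
  have h3 : Subgroup.closure S ≤ Subgroup.centralizer (Subgroup.closure S : Set G) := by
    rw [Subgroup.closure_le]
    intro s hs
    rw [SetLike.mem_coe, Subgroup.mem_centralizer_iff]
    intro g hg
    exact (Subgroup.mem_centralizer_iff.mp (h1 hg) s hs).symm
  intro f hf
  induction hf using Subgroup.closure_induction with
  | mem x hx => exact h2 x hx
  | one => exact one_pow 2
  | mul x y hx hy ihx ihy =>
    have hcxy : Commute x y := (Subgroup.mem_centralizer_iff.mp (h3 hy) x hx)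
    rw [hcxy.mul_pow, ihx, ihy, one_mul]
  | inv x _ ihx => rw [inv_pow, ihx, inv_one]

namespace SC

variable {X A U : Subgroup G} {σ : G}

theorem no_rank_two [Finite G] (c : SC X A U σ) (h3 : ∃ u ∈ U, u ^ 4 ≠ 1) {x : G}
    (hxT : InT X U x) (hxU : x ∉ U) (hsq : ∀ u ∈ U, ⁅x, u ^ 2⁆ = 1)
    (hrk : ∀ u ∈ U, ⁅x, u⁆ = 1 → ∃ v ∈ U, u = v ^ 2) : False := by
  obtain ⟨hxX, hx2, hxc⟩ := hxT
  have hxN := c.XU hxX
  have hne1 : ∃ u ∈ U, u ^ (2 ^ 1) ≠ 1 := by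
    obtain ⟨u, hu, h⟩ := h3
    refine ⟨u, hu, fun h' => h ?_⟩
    have h'' : u ^ 2 = 1 := by simpa using h'
    rw [show (4 : ℕ) = 2 * 2 from rfl, pow_mul, h'', one_pow]
  have hne2 : ∃ u ∈ U, u ^ (2 ^ 2) ≠ 1 := by simpa using h3
  have hom2 : ∀ w ∈ U, w ^ 4 = 1 → ⁅x, w⁆ = 1 := by
    intro w hw hw4
    obtain ⟨y, hy, rfl⟩ := c.exists_sq 2 hne2 hw (by simpa using hw4)
    exact hsq y hy
  -- step 1: `x² = v²`
  have hxx : ⁅x, x ^ 2⁆ = 1 := by
    rw [commutatorElement_def]; simp only [pow_two]; group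
  obtain ⟨v, hv, hxv⟩ := hrk (x ^ 2) hx2 hxx
  -- step 2
  have hd : ⁅x, v⁆ ∈ U := c.comm_mem hxX hv
  have hd2 : ⁅x, v⁆ ^ 2 = 1 := by
    rw [← b1_comm_pow c.ab hxN hv]; exact hsq v hv
  -- step 3
  obtain ⟨y, hy, hyd⟩ := c.exists_sq 1 hne1 hd (by simpa using hd2)
  have hy4 : y ^ 4 = 1 := by
    rw [show (4 : ℕ) = 2 * 2 from rfl, pow_mul, hyd, hd2]
  have hxy : ⁅x, y⁆ = 1 := hom2 y hy hy4
  -- step 4
  obtain ⟨u, hudef⟩ : ∃ u : G, u = v⁻¹ * y := ⟨_, rfl⟩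
  have hu : u ∈ U := by rw [hudef]; exact U.mul_mem (U.inv_mem hv) hy
  have hxu : ⁅x, u⁆ = ⁅x, v⁆⁻¹ := by
    rw [hudef, b1_comm_mul c.ab hxN (U.inv_mem hv) hy, b1_comm_inv c.ab hxN hv, hxy, mul_one]
  obtain ⟨t, htdef⟩ : ∃ t : G, t = u * x := ⟨_, rfl⟩
  have ht2 : t ^ 2 = 1 := by
    have e1 : t ^ 2 = u * (⁅x, u⁆ * u) * x ^ 2 := by
      rw [htdef]; simp only [pow_two, commutatorElement_def]; group
    rw [e1, hxu, hxv, ← hyd, hudef]
    have hcvy : Commute v y := c.ab v hv y hy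
    have e2 : v⁻¹ * y * ((y ^ 2)⁻¹ * (v⁻¹ * y)) * v ^ 2 = v⁻¹ * y⁻¹ * (v⁻¹ * y) * v ^ 2 := by
      group
    have e3 : v⁻¹ * y = y * v⁻¹ := hcvy.inv_left.eq
    rw [e2, e3]
    group
  have htX : t ∈ X := by rw [htdef]; exact X.mul_mem (c.inv.1 hu) hxX
  have htU : t ∉ U := by
    intro h
    apply hxU
    have : x = u⁻¹ * t := by rw [htdef]; group
    rw [this]; exact U.mul_mem (U.inv_mem hu) h
  have htT : InT X U t := by rw [htdef]; exact c.inT_mul (c.inT_of_mem hu) ⟨hxX, hx2, hxc⟩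
  -- conjugation by `t` on `U` is conjugation by `x`
  have htconj : ∀ w ∈ U, t * w * t⁻¹ = ⁅x, w⁆ * w := by
    intro w hw
    have h1 : x * w * x⁻¹ ∈ U := conj_mem_of_mem_normalizer hxN hw
    have h2 : u * (x * w * x⁻¹) = (x * w * x⁻¹) * u := c.ab u hu _ h1
    calc t * w * t⁻¹ = u * (x * w * x⁻¹) * u⁻¹ := by rw [htdef]; group
      _ = (x * w * x⁻¹) * u * u⁻¹ := by rw [h2]
      _ = ⁅x, w⁆ * w := by rw [commutatorElement_def]; group
  -- step 6: `t` centralizes `E`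
  have htE : ∀ e ∈ om U 1, e * t = t * e := by
    intro e he
    have heU := (c.mem_E.mp he).1
    have h1 : ⁅x, e⁆ = 1 := c.comm_E hxX he
    have h2 := htconj e heU
    rw [h1, one_mul] at h2
    calc e * t = (t * e * t⁻¹) * t := by rw [h2]
      _ = t * e := by group
  -- step 7: `F`
  have htnE : t ∉ om U 1 := fun h => htU ((c.mem_E.mp h).1)
  have htN : t ∈ Subgroup.normalizer (om U 1 : Set G) :=
    Subgroup.centralizer_le_normalizer _ (Subgroup.mem_centralizer_iff.mpr htE)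
  have hcard : Nat.card (om U 1 ⊔ Subgroup.zpowers t : Subgroup G) = 2 * Nat.card (om U 1) :=
    card_sup_zpowers_of_sq_mem (om U 1) t htN htnE (by rw [ht2]; exact Subgroup.one_mem _)
  rw [c.L.v4.1] at hcard
  have hgen : om U 1 ⊔ Subgroup.zpowers t = Subgroup.closure (((om U 1 : Subgroup G) : Set G) ∪ {t}) := by
    rw [Subgroup.closure_union, Subgroup.closure_eq, Subgroup.zpowers_eq_closure]
  have hexp : ∀ f ∈ om U 1 ⊔ Subgroup.zpowers t, f ^ 2 = 1 := by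
    rw [hgen]
    apply b4_closure_exp_two
    · rintro a (ha | ha) b (hb | hb)
      · exact c.ab a (c.mem_E.mp ha).1 b (c.mem_E.mp hb).1
      · rw [Set.mem_singleton_iff] at hb; subst hb; exact htE a ha
      · rw [Set.mem_singleton_iff] at ha; subst ha; exact (htE b hb).symm
      · rw [Set.mem_singleton_iff] at ha hb; subst ha; subst hb; rfl
    · rintro a (ha | ha)
      · exact (c.mem_E.mp ha).2
      · rw [Set.mem_singleton_iff] at ha; subst ha; exact ht2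
  -- step 8
  have hEF : om U 1 ≤ om U 1 ⊔ Subgroup.zpowers t := le_sup_left
  have htF : t ∈ om U 1 ⊔ Subgroup.zpowers t :=
    (le_sup_right : Subgroup.zpowers t ≤ _) (Subgroup.mem_zpowers t)
  have key : ∀ g ∈ X, g * t * g⁻¹ ∈ om U 1 ⊔ Subgroup.zpowers t := by
    intro g hg
    have hwU : ⁅g, t⁆ ∈ U := by
      rw [← commutatorElement_inv]
      exact U.inv_mem (htT.2.2 g hg)
    have hgt : g * t * g⁻¹ = ⁅g, t⁆ * t := by rw [commutatorElement_def]; group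
    have hsq1 : (⁅g, t⁆ * t) ^ 2 = 1 := by
      rw [← hgt, conj_pow, ht2, mul_one, mul_inv_cancel]
    have hexpand : (⁅g, t⁆ * t) ^ 2 = ⁅g, t⁆ * (t * ⁅g, t⁆ * t⁻¹) * t ^ 2 := by
      simp only [pow_two]; group
    rw [hexpand, ht2, mul_one, htconj _ hwU] at hsq1
    -- `w * (δ(w) * w) = 1`
    have hδ : ⁅x, ⁅g, t⁆⁆ = (⁅g, t⁆ ^ 2)⁻¹ := by
      have hδU := c.comm_mem hxX hwU
      have hcomm : ⁅x, ⁅g, t⁆⁆ * ⁅g, t⁆ = ⁅g, t⁆ * ⁅x, ⁅g, t⁆⁆ := c.ab _ hδU _ hwU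
      rw [eq_inv_iff_mul_eq_one, pow_two, ← mul_assoc, hcomm, mul_assoc]
      exact hsq1
    have hδ2 : ⁅x, ⁅g, t⁆⁆ ^ 2 = 1 := by
      rw [← b1_comm_pow c.ab hxN hwU]; exact hsq _ hwU
    have hw4 : ⁅g, t⁆ ^ 4 = 1 := by
      rw [hδ, inv_pow, inv_eq_one, ← pow_mul] at hδ2
      exact hδ2
    have hδ1 : ⁅x, ⁅g, t⁆⁆ = 1 := hom2 _ hwU hw4
    rw [hδ1] at hδ
    have hw2 : ⁅g, t⁆ ^ 2 = 1 := by
      rw [eq_comm, inv_eq_one] at hδ; exact hδ
    have hwE : ⁅g, t⁆ ∈ om U 1 := c.mem_E.mpr ⟨hwU, hw2⟩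
    rw [hgt]
    exact Subgroup.mul_mem _ (hEF hwE) htF
  have hconjF : ∀ g ∈ X, ∀ f ∈ om U 1 ⊔ Subgroup.zpowers t,
      g * f * g⁻¹ ∈ om U 1 ⊔ Subgroup.zpowers t := by
    intro g hg
    have hle : om U 1 ⊔ Subgroup.zpowers t ≤
        (om U 1 ⊔ Subgroup.zpowers t).comap (MulAut.conj g).toMonoidHom := by
      apply sup_le
      · intro e he
        rw [Subgroup.mem_comap]
        exact hEF (conj_mem_of_mem_normalizer ((c.inv.om 1).2.1 hg) he)
      · rw [Subgroup.zpowers_le, Subgroup.mem_comap]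
        exact key g hg
    intro f hf
    exact hle hf
  have hXF : X ≤ Subgroup.normalizer ((om U 1 ⊔ Subgroup.zpowers t : Subgroup G) : Set G) := by
    intro g hg
    refine mem_normalizer_of_conj_mem (hconjF g hg) (fun f hf => ?_)
    have := hconjF g⁻¹ (X.inv_mem hg) f hf
    simpa using this
  have hFX : om U 1 ⊔ Subgroup.zpowers t ≤ X := by
    apply sup_le ((om_le U 1).trans c.inv.1)
    rw [Subgroup.zpowers_le]; exact htX
  have := c.hyp.hN _ hFX hXF hexp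
  omega

end SC

end Cfsg.Agent.Lib.Helper4.Ngp
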