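import Mathlib
import Cfsg.Agent.Lib.Helper8.SmTwoDefs
import Cfsg.Agent.Lib.Helper8.SmTwoB
import Cfsg.Agent.Lib.Helper4.NgpDefs
import Cfsg.Agent.Lib.Helper4.NgpB1
import Cfsg.Agent.Lib.Helper4.NgpB2
import Cfsg.Agent.Lib.Helper4.NgpB3
import Cfsg.Agent.Lib.Helper4.NgpB4

set_option autoImplicit false

/-! S1904, package NB2b, part 5: no element of `T ∖ U` centralizes all squares of `U`
(when `U` has exponent at least `8`). -/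

namespace Cfsg.Agent.Lib.Helper4.Ngp

open Cfsg.Agent.Lib.Helper8.SmTwo
open scoped commutatorElement

universe u

variable {G : Type u} [Group G]

namespace SC

variable {X A U : Subgroup G} {σ : G}

theorem conj_inv_conj_inv (c : SC X A U σ) (u : G) : σ⁻¹ * (σ⁻¹ * u * σ) * σ = σ * u * σ⁻¹ := by
  have h := c.conj_conj (σ⁻¹ * (σ⁻¹ * u * σ) * σ)
  have e1 : σ * (σ * (σ⁻¹ * (σ⁻¹ * u * σ) * σ) * σ⁻¹) * σ⁻¹ = u := by group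
  rw [e1] at h
  -- h : u = σ⁻¹ * (σ⁻¹ * (σ⁻¹ * u * σ) * σ) * σ
  calc σ⁻¹ * (σ⁻¹ * u * σ) * σ = σ * (σ⁻¹ * (σ⁻¹ * (σ⁻¹ * u * σ) * σ) * σ) * σ⁻¹ := by group
    _ = σ * u * σ⁻¹ := by rw [← h]

theorem no_centralizing_squares [Finite G] (c : SC X A U σ) (h3 : ∃ u ∈ U, u ^ 4 ≠ 1) {x : G}
    (hxT : InT X U x) (hxU : x ∉ U) (hsq : ∀ u ∈ U, ⁅x, u ^ 2⁆ = 1) : False := by
  by_cases hrk : ∀ u ∈ U, ⁅x, u⁆ = 1 → ∃ v ∈ U, u = v ^ 2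
  · exact c.no_rank_two h3 hxT hxU hsq hrk
  push Not at hrk
  obtain ⟨u₀, hu₀, hxu₀, hu₀ns⟩ := hrk
  have hxX := hxT.1
  have hxN := c.XU hxX
  have hne : ∃ u ∈ U, u ≠ 1 := by
    obtain ⟨u, hu, h⟩ := h3
    exact ⟨u, hu, fun h' => h (by rw [h', one_pow])⟩
  obtain ⟨j, hj, hexp⟩ := c.exists_exp hne
  have hu₀j : u₀ ^ (2 ^ j) ≠ 1 := by
    intro h
    obtain ⟨v, hv, hv2⟩ := c.exists_sq j hj hu₀ h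
    exact hu₀ns v hv hv2.symm
  have hu₀j1 : u₀ ^ (2 ^ (j + 1)) = 1 := hexp u₀ hu₀
  -- `x' = x^σ`, `y = x x'`
  have hx'T : InT X U (σ * x * σ⁻¹) := c.inT_conj hxT
  have hx'X := hx'T.1
  have hyT : InT X U (x * (σ * x * σ⁻¹)) := c.inT_mul hxT hx'T
  have hyX := hyT.1
  have hconj' : ∀ s : G, ⁅σ * x * σ⁻¹, s⁆ = σ * ⁅x, σ⁻¹ * s * σ⁆ * σ⁻¹ := by
    intro s; simp only [commutatorElement_def]; group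
  have hsq' : ∀ u ∈ U, ⁅σ * x * σ⁻¹, u ^ 2⁆ = 1 := by
    intro u hu
    rw [hconj']
    have e : σ⁻¹ * u ^ 2 * σ = (σ⁻¹ * u * σ) ^ 2 := by simp only [pow_two]; group
    rw [e, hsq _ (c.conj_inv_mem hu)]
    group
  -- `δ_y = δ_{x'} + δ_x` on `U`
  have hδy : ∀ u ∈ U, ⁅x * (σ * x * σ⁻¹), u⁆ = ⁅σ * x * σ⁻¹, u⁆ * ⁅x, u⁆ := by
    intro u hu
    have hE : ⁅σ * x * σ⁻¹, u⁆ ∈ om U 1 := by
      rw [c.mem_E]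
      refine ⟨c.comm_mem hx'X hu, ?_⟩
      rw [← b1_comm_pow c.ab (c.XU hx'X) hu]
      exact hsq' u hu
    rw [b1_comm_mul_left, c.comm_E hxX hE, one_mul]
  -- squares are centralized
  have hq : ∀ q ∈ U, q ^ (2 ^ j) = 1 → ⁅x, q⁆ = 1 ∧ ⁅σ * x * σ⁻¹, q⁆ = 1 := by
    intro q hq hqj
    obtain ⟨v, hv, rfl⟩ := c.exists_sq j hj hq hqj
    exact ⟨hsq v hv, hsq' v hv⟩
  -- the conjugates of `u₀`
  have hu₁ : σ * u₀ * σ⁻¹ ∈ U := c.conj_mem hu₀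
  have hu₂ : σ⁻¹ * u₀ * σ ∈ U := c.conj_inv_mem hu₀
  have htr := c.trace_eq_one hu₀
  have hsum : ⁅x, u₀⁆ * ⁅x, σ * u₀ * σ⁻¹⁆ * ⁅x, σ⁻¹ * u₀ * σ⁆ = 1 := by
    rw [← b1_comm_mul c.ab hxN hu₀ hu₁, ← b1_comm_mul c.ab hxN (U.mul_mem hu₀ hu₁) hu₂, htr,
      b1_comm_one]
  rw [hxu₀, one_mul] at hsum
  have heE : ⁅x, σ * u₀ * σ⁻¹⁆ ∈ om U 1 := by
    rw [c.mem_E]
    refine ⟨c.comm_mem hxX hu₁, ?_⟩
    rw [← b1_comm_pow c.ab hxN hu₁]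
    exact hsq _ hu₁
  have he2 : ⁅x, σ⁻¹ * u₀ * σ⁆ = ⁅x, σ * u₀ * σ⁻¹⁆ := by
    have h1 : ⁅x, σ⁻¹ * u₀ * σ⁆ = (⁅x, σ * u₀ * σ⁻¹⁆)⁻¹ := (inv_eq_of_mul_eq_one_right hsum).symm
    have h2 : (⁅x, σ * u₀ * σ⁻¹⁆) ^ 2 = 1 := (c.mem_E.mp heE).2
    rw [h1, inv_eq_iff_mul_eq_one, ← pow_two]; exact h2
  -- `e ≠ 1`
  have he1 : ⁅x, σ * u₀ * σ⁻¹⁆ ≠ 1 := by
    intro he
    apply hxU
    rw [← c.self]
    refine Subgroup.mem_inf.mpr ⟨hxX, ?_⟩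
    rw [Subgroup.mem_centralizer_iff]
    intro u hu
    obtain ⟨q, hqU, hqj, hcase⟩ := c.section_decomp j hu₀ hu₀j1 hu₀j hu (hexp u hu)
    have hq0 := (hq q hqU hqj).1
    have : ⁅x, u⁆ = 1 := by
      rcases hcase with rfl | rfl | rfl | rfl
      · exact hq0
      · rw [b1_comm_mul c.ab hxN hqU hu₀, hq0, hxu₀, one_mul]
      · rw [b1_comm_mul c.ab hxN hqU hu₁, hq0, he, one_mul]
      · rw [b1_comm_mul c.ab hxN hqU hu₂, hq0, he2, he, one_mul]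
    exact ((b1_comm_eq_one_iff x u).mp this).symm
  -- `δ_{x'}` on the conjugates of `u₀`
  have hx'0 : ⁅σ * x * σ⁻¹, u₀⁆ = σ * ⁅x, σ * u₀ * σ⁻¹⁆ * σ⁻¹ := by
    rw [hconj', he2]
  have hx'1 : ⁅σ * x * σ⁻¹, σ * u₀ * σ⁻¹⁆ = 1 := by
    rw [hconj']
    have e : σ⁻¹ * (σ * u₀ * σ⁻¹) * σ = u₀ := by group
    rw [e, hxu₀]; group
  have hx'2 : ⁅σ * x * σ⁻¹, σ⁻¹ * u₀ * σ⁆ = σ * ⁅x, σ * u₀ * σ⁻¹⁆ * σ⁻¹ := by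
    rw [hconj', c.conj_inv_conj_inv]
  have he' : σ * ⁅x, σ * u₀ * σ⁻¹⁆ * σ⁻¹ ≠ 1 := by
    intro h
    apply he1
    calc ⁅x, σ * u₀ * σ⁻¹⁆ = σ⁻¹ * (σ * ⁅x, σ * u₀ * σ⁻¹⁆ * σ⁻¹) * σ := by group
      _ = 1 := by rw [h]; group
  have he'e : σ * ⁅x, σ * u₀ * σ⁻¹⁆ * σ⁻¹ * ⁅x, σ * u₀ * σ⁻¹⁆ ≠ 1 := by
    intro h
    apply he1
    apply c.fix_eq_one (c.mem_E.mp heE).1
    have h2 : (⁅x, σ * u₀ * σ⁻¹⁆) ^ 2 = 1 := (c.mem_E.mp heE).2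
    have h3 : σ * ⁅x, σ * u₀ * σ⁻¹⁆ * σ⁻¹ = (⁅x, σ * u₀ * σ⁻¹⁆)⁻¹ := eq_inv_of_mul_eq_one_left h
    rw [h3, inv_eq_iff_mul_eq_one, ← pow_two]; exact h2
  have hy0 : ⁅x * (σ * x * σ⁻¹), u₀⁆ ≠ 1 := by
    rw [hδy u₀ hu₀, hx'0, hxu₀, mul_one]; exact he'
  have hy1 : ⁅x * (σ * x * σ⁻¹), σ * u₀ * σ⁻¹⁆ ≠ 1 := by
    rw [hδy _ hu₁, hx'1, one_mul]; exact he1
  have hy2 : ⁅x * (σ * x * σ⁻¹), σ⁻¹ * u₀ * σ⁆ ≠ 1 := by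
    rw [hδy _ hu₂, hx'2, he2]; exact he'e
  -- `y` satisfies the hypotheses of `no_rank_two`
  have hyU : x * (σ * x * σ⁻¹) ∉ U := by
    intro h
    apply hy0
    rw [b1_comm_eq_one_iff]
    exact c.ab _ h _ hu₀
  have hsqy : ∀ u ∈ U, ⁅x * (σ * x * σ⁻¹), u ^ 2⁆ = 1 := by
    intro u hu
    rw [hδy _ (U.pow_mem hu 2), hsq' u hu, hsq u hu, one_mul]
  have hrky : ∀ u ∈ U, ⁅x * (σ * x * σ⁻¹), u⁆ = 1 → ∃ v ∈ U, u = v ^ 2 := by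
    intro u hu huy
    obtain ⟨q, hqU, hqj, hcase⟩ := c.section_decomp j hu₀ hu₀j1 hu₀j hu (hexp u hu)
    obtain ⟨v, hv, hv2⟩ := c.exists_sq j hj hqU hqj
    have hyq : ⁅x * (σ * x * σ⁻¹), q⁆ = 1 := by rw [← hv2]; exact hsqy v hv
    have hyN := c.XU hyX
    rcases hcase with rfl | rfl | rfl | rfl
    · exact ⟨v, hv, hv2.symm⟩
    · rw [b1_comm_mul c.ab hyN hqU hu₀, hyq, one_mul] at huy
      exact absurd huy hy0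
    · rw [b1_comm_mul c.ab hyN hqU hu₁, hyq, one_mul] at huy
      exact absurd huy hy1
    · rw [b1_comm_mul c.ab hyN hqU hu₂, hyq, one_mul] at huy
      exact absurd huy hy2
  exact c.no_rank_two h3 hyT hyU hsqy hrky

end SC

end Cfsg.Agent.Lib.Helper4.Ngp
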