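import Mathlib
import Cfsg.Agent.Lib.Helper8.SmTwoDefs
import Cfsg.Agent.Lib.Helper8.SmTwoB
import Cfsg.Agent.Lib.Helper4.NgpDefs
import Cfsg.Agent.Lib.Helper4.NgpB1
import Cfsg.Agent.Lib.Helper4.NgpB2
import Cfsg.Agent.Lib.Helper4.NgpB3

set_option autoImplicit false

/-! S1904, package NB2b, part 6: an `x` with `x² ∈ U` that does not centralize `Ω₂(U)` inverts
`Ω₂(U)` when `U` has exponent at least `8`, contradicting (★). -/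

namespace Cfsg.Agent.Lib.Helper4.Ngp

open Cfsg.Agent.Lib.Helper8.SmTwo
open scoped commutatorElement

universe u

variable {G : Type u} [Group G]

namespace SC

variable {X A U : Subgroup G} {σ : G}

/-- (T2') the elements of `E` are `1, e₀, e₁, e₀e₁` for distinct involutions `e₀, e₁` -/
theorem E_elts' [Finite G] (c : SC X A U σ) {e₀ e₁ f : G} (he₀ : e₀ ∈ om U 1)
    (he₁ : e₁ ∈ om U 1) (h0 : e₀ ≠ 1) (h1 : e₁ ≠ 1) (h01 : e₀ ≠ e₁) (hf : f ∈ om U 1) :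
    f = 1 ∨ f = e₀ ∨ f = e₁ ∨ f = e₀ * e₁ := by
  have ha : σ * e₀ * σ⁻¹ ∈ om U 1 := c.conj_mem_E he₀
  have hb : σ⁻¹ * e₀ * σ ∈ om U 1 := c.conj_inv_mem_E he₀
  have htr := c.trace_eq_one (c.mem_E.mp he₀).1
  have hsq : ∀ g ∈ om U 1, g⁻¹ = g := by
    intro g hg
    rw [inv_eq_iff_mul_eq_one, ← pow_two]; exact (c.mem_E.mp hg).2
  -- b = e₀ * a
  have hb' : σ⁻¹ * e₀ * σ = e₀ * (σ * e₀ * σ⁻¹) := by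
    have h := eq_inv_of_mul_eq_one_right htr
    rw [h, hsq _ (Subgroup.mul_mem _ he₀ ha)]
  have ha' : σ * e₀ * σ⁻¹ = e₀ * (σ⁻¹ * e₀ * σ) := by
    rw [hb', ← mul_assoc, ← pow_two, (c.mem_E.mp he₀).2, one_mul]
  rcases c.E_elts he₀ h0 he₁ with h | h | h | h
  · exact absurd h h1
  · exact absurd h.symm h01
  · rcases c.E_elts he₀ h0 hf with h' | h' | h' | h'
    · exact Or.inl h'
    · exact Or.inr (Or.inl h')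
    · exact Or.inr (Or.inr (Or.inl (by rw [h', h])))
    · exact Or.inr (Or.inr (Or.inr (by rw [h', h, hb'])))
  · rcases c.E_elts he₀ h0 hf with h' | h' | h' | h'
    · exact Or.inl h'
    · exact Or.inr (Or.inl h')
    · exact Or.inr (Or.inr (Or.inr (by rw [h', h, ha'])))
    · exact Or.inr (Or.inr (Or.inl (by rw [h', h])))

theorem no_moving_om2 [Finite G] (c : SC X A U σ) (h3 : ∃ u ∈ U, u ^ 4 ≠ 1) {x : G}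
    (hx : x ∈ X) (hx2 : x ^ 2 ∈ U) (hmove : ∃ w ∈ U, w ^ 4 = 1 ∧ ⁅x, w⁆ ≠ 1) : False := by
  obtain ⟨w₁, hw₁, hw₁4, hxw₁⟩ := hmove
  have hxN := c.XU hx
  have hinj : ∀ w ∈ U, w ^ 4 = 1 → ⁅x, w⁆ = 1 → w ^ 2 = 1 := by
    intro w hw hw4 hxw
    by_contra h2
    exact hxw₁ (c.centralizes_om2 hx hw hw4 h2 hxw hw₁ hw₁4)
  have hw₁2 : w₁ ^ 2 ≠ 1 := by
    intro h
    exact hxw₁ (c.comm_E hx (c.mem_E.mpr ⟨hw₁, h⟩))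
  have hne2 : ∃ u ∈ U, u ^ (2 ^ 2) ≠ 1 := by simpa using h3
  obtain ⟨u₀, hu₀, hu₀w⟩ := c.exists_sq 2 hne2 hw₁ (by simpa using hw₁4)
  have hu₀8 : u₀ ^ 8 = 1 := by
    rw [show (8 : ℕ) = 2 * 4 from rfl, pow_mul, hu₀w, hw₁4]
  have hu₁ : σ * u₀ * σ⁻¹ ∈ U := c.conj_mem hu₀
  have hu₁8 : (σ * u₀ * σ⁻¹) ^ 8 = 1 := by rw [conj_pow, hu₀8, mul_one, mul_inv_cancel]
  have hw₂ : σ * w₁ * σ⁻¹ ∈ U := c.conj_mem hw₁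
  have hw₂4 : (σ * w₁ * σ⁻¹) ^ 4 = 1 := by rw [conj_pow, hw₁4, mul_one, mul_inv_cancel]
  have hu₁w : (σ * u₀ * σ⁻¹) ^ 2 = σ * w₁ * σ⁻¹ := by rw [conj_pow, hu₀w]
  -- `r := δ(u) ∈ Ω₂(U)` for `u ∈ Ω₃(U)`
  have hr4 : ∀ u ∈ U, u ^ 8 = 1 → ⁅x, u⁆ ^ 4 = 1 := by
    intro u hu hu8
    rw [← b1_comm_pow c.ab hxN hu]
    apply c.comm_E hx
    rw [c.mem_E]
    refine ⟨U.pow_mem hu 4, ?_⟩
    rw [← pow_mul]; exact hu8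
  -- the key step
  have key : ∀ u ∈ U, u ^ 8 = 1 → ∀ w ∈ U, w ^ 4 = 1 → w ^ 2 = ⁅x, u⁆ ^ 2 →
      ⁅x, w⁆ = (w ^ 2)⁻¹ := by
    intro u hu hu8 w hw hw4 hws
    have hs : ⁅x, u⁆ ∈ U := c.comm_mem hx hu
    have hqU : w * (⁅x, u⁆)⁻¹ ∈ U := U.mul_mem hw (U.inv_mem hs)
    have hq2 : (w * (⁅x, u⁆)⁻¹) ^ 2 = 1 := by
      have hc : Commute w (⁅x, u⁆)⁻¹ := c.ab w hw _ (U.inv_mem hs)
      rw [hc.mul_pow, hws, inv_pow, mul_inv_cancel]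
    have hq0 : ⁅x, w * (⁅x, u⁆)⁻¹⁆ = 1 := c.comm_E hx (c.mem_E.mpr ⟨hqU, hq2⟩)
    have hw' : w = (w * (⁅x, u⁆)⁻¹) * ⁅x, u⁆ := by group
    rw [hw', b1_comm_mul c.ab hxN hqU hs, hq0, one_mul, c.comm_comm hx hx2 hu, ← hw', hws]
  -- the involutions `e₀ = δ(w₁)` and `e₁ = δ(w₁^σ)`
  have he₀ : ⁅x, w₁⁆ ∈ om U 1 := c.comm_mem_E hx hw₁ hw₁4
  have he₁ : ⁅x, σ * w₁ * σ⁻¹⁆ ∈ om U 1 := c.comm_mem_E hx hw₂ hw₂4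
  have hw₂2 : (σ * w₁ * σ⁻¹) ^ 2 ≠ 1 := by
    intro h
    apply hw₁2
    rw [conj_pow] at h
    calc w₁ ^ 2 = σ⁻¹ * (σ * w₁ ^ 2 * σ⁻¹) * σ := by group
      _ = 1 := by rw [h]; group
  have he₁1 : ⁅x, σ * w₁ * σ⁻¹⁆ ≠ 1 := fun h => hw₂2 (hinj _ hw₂ hw₂4 h)
  have he01 : ⁅x, w₁⁆ ≠ ⁅x, σ * w₁ * σ⁻¹⁆ := by
    intro h
    have hzU : w₁ * (σ * w₁ * σ⁻¹)⁻¹ ∈ U := U.mul_mem hw₁ (U.inv_mem hw₂)
    have hc : Commute w₁ (σ * w₁ * σ⁻¹)⁻¹ := c.ab w₁ hw₁ _ (U.inv_mem hw₂)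
    have hz4 : (w₁ * (σ * w₁ * σ⁻¹)⁻¹) ^ 4 = 1 := by
      rw [hc.mul_pow, hw₁4, inv_pow, hw₂4, inv_one, one_mul]
    have hz0 : ⁅x, w₁ * (σ * w₁ * σ⁻¹)⁻¹⁆ = 1 := by
      rw [b1_comm_mul c.ab hxN hw₁ (U.inv_mem hw₂), b1_comm_inv c.ab hxN hw₂, h, mul_inv_cancel]
    have hz2 := hinj _ hzU hz4 hz0
    rw [hc.mul_pow, inv_pow, mul_inv_eq_one] at hz2
    -- `w₁² = (w₁²)^σ`
    apply hw₁2
    apply c.fix_eq_one (U.pow_mem hw₁ 2)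
    rw [← conj_pow]; exact hz2.symm
  -- `x` inverts `Ω₂(U)`
  have hinv : ∀ w ∈ U, w ^ 4 = 1 → ⁅x, w⁆ = (w ^ 2)⁻¹ := by
    intro w hw hw4
    have hr₀2 : ⁅x, u₀⁆ ^ 2 = ⁅x, w₁⁆ := by rw [← b1_comm_pow c.ab hxN hu₀, hu₀w]
    have hr₁2 : ⁅x, σ * u₀ * σ⁻¹⁆ ^ 2 = ⁅x, σ * w₁ * σ⁻¹⁆ := by
      rw [← b1_comm_pow c.ab hxN hu₁, hu₁w]
    rcases c.E_elts' he₀ he₁ hxw₁ he₁1 he01 (c.sq_mem_E hw hw4) with h | h | h | h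
    · -- `w ∈ E`
      rw [h, inv_one]
      exact c.comm_E hx (c.mem_E.mpr ⟨hw, h⟩)
    · exact key u₀ hu₀ hu₀8 w hw hw4 (by rw [h, hr₀2])
    · exact key _ hu₁ hu₁8 w hw hw4 (by rw [h, hr₁2])
    · have hu01 : u₀ * (σ * u₀ * σ⁻¹) ∈ U := U.mul_mem hu₀ hu₁
      have hc : Commute u₀ (σ * u₀ * σ⁻¹) := c.ab u₀ hu₀ _ hu₁
      have hu018 : (u₀ * (σ * u₀ * σ⁻¹)) ^ 8 = 1 := by
        rw [hc.mul_pow, hu₀8, hu₁8, one_mul]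
      refine key _ hu01 hu018 w hw hw4 ?_
      have hc' : Commute ⁅x, u₀⁆ ⁅x, σ * u₀ * σ⁻¹⁆ :=
        c.ab _ (c.comm_mem hx hu₀) _ (c.comm_mem hx hu₁)
      rw [h, b1_comm_mul c.ab hxN hu₀ hu₁, hc'.mul_pow, hr₀2, hr₁2]
  -- contradiction with (★) at `w₁`
  have hstar := c.star hx hw₁ hw₁4
  unfold tr at hstar
  have e1 : ⁅σ * x * σ⁻¹, w₁⁆ = (w₁ ^ 2)⁻¹ := by
    have h : ⁅σ * x * σ⁻¹, w₁⁆ = σ * ⁅x, σ⁻¹ * w₁ * σ⁆ * σ⁻¹ := by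
      simp only [commutatorElement_def]; group
    have hm : σ⁻¹ * w₁ * σ ∈ U := c.conj_inv_mem hw₁
    have hm4 : (σ⁻¹ * w₁ * σ) ^ 4 = 1 := by
      have : σ⁻¹ * w₁ * σ = σ⁻¹ * w₁ * σ⁻¹⁻¹ := by rw [inv_inv]
      rw [this, conj_pow, hw₁4, mul_one, mul_inv_cancel]
    rw [h, hinv _ hm hm4]
    simp only [pow_two]; group
  have e2 : ⁅σ⁻¹ * x * σ, w₁⁆ = (w₁ ^ 2)⁻¹ := by
    have h : ⁅σ⁻¹ * x * σ, w₁⁆ = σ⁻¹ * ⁅x, σ * w₁ * σ⁻¹⁆ * σ := by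
      simp only [commutatorElement_def]; group
    rw [h, hinv _ hw₂ hw₂4]
    simp only [pow_two]; group
  rw [hinv w₁ hw₁ hw₁4, e1, e2] at hstar
  apply hw₁2
  have h6 : (w₁ ^ 2)⁻¹ * (w₁ ^ 2)⁻¹ * (w₁ ^ 2)⁻¹ = (w₁ ^ 4)⁻¹ * (w₁ ^ 2)⁻¹ := by
    simp only [pow_succ, pow_zero]; group
  rw [h6, hw₁4, inv_one, one_mul, inv_eq_one] at hstar
  exact hstar

end SC

end Cfsg.Agent.Lib.Helper4.Ngp
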