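import Mathlib
import Cfsg.Agent.Lib.Helper8.SmTwoDefs
import Cfsg.Agent.Lib.Helper8.SmTwoB
import Cfsg.Agent.Lib.Helper4.NgpDefs
import Cfsg.Agent.Lib.Helper4.NgpB1
import Cfsg.Agent.Lib.Helper4.NgpB2
import Cfsg.Agent.Lib.Helper4.NgpB3
import Cfsg.Agent.Lib.Helper4.NgpB4
import Cfsg.Agent.Lib.Helper4.NgpB5
import Cfsg.Agent.Lib.Helper4.NgpB6
import Cfsg.Agent.Lib.Helper4.NgpNG
import Cfsg.Agent.Lib.Helper4.NgpNCS
import Cfsg.Agent.Lib.Helper7.NgpNL

set_option autoImplicit false

/-! S1904, package NB2b, part 7: `|A| = 3`, the exponent of `U` is `4`, and the endgame: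
`X` is special with centre of order `4`. -/

namespace Cfsg.Agent.Lib.Helper4.Ngp

open Cfsg.Agent.Lib.Helper8.SmTwo
open scoped commutatorElement

universe u

variable {G : Type u} [Group G]

/-- an odd-order `a` with `a x a⁻¹ = w x`, `a w a⁻¹ = w`, `w` a `2`-element: `w = 1` -/
theorem b7_stable {a x w : G} (hodd : Odd (orderOf a)) (h1 : a * x * a⁻¹ = w * x)
    (h2 : a * w * a⁻¹ = w) (hw : ∃ m : ℕ, w ^ (2 ^ m) = 1) : w = 1 := by
  have hc : ∀ n : ℕ, a * w ^ n * a⁻¹ = w ^ n := by
    intro n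
    rw [← conj_pow, h2]
  have key : ∀ n : ℕ, a ^ n * x * (a ^ n)⁻¹ = w ^ n * x := by
    intro n
    induction n with
    | zero => simp
    | succ n ih =>
      have e : a ^ (n + 1) * x * (a ^ (n + 1))⁻¹ = a * (a ^ n * x * (a ^ n)⁻¹) * a⁻¹ := by
        rw [pow_succ']; group
      rw [e, ih]
      have e2 : a * (w ^ n * x) * a⁻¹ = (a * w ^ n * a⁻¹) * (a * x * a⁻¹) := by group
      rw [e2, h1, hc n, ← mul_assoc, ← pow_succ]
  have h4 := key (orderOf a)
  rw [pow_orderOf_eq_one] at h4
  simp only [one_mul, inv_one, mul_one] at h4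
  have h5 : w ^ orderOf a = 1 := by
    have := congrArg (fun t => t * x⁻¹) h4
    simpa using this.symm
  obtain ⟨m, hm⟩ := hw
  have hd1 : orderOf w ∣ orderOf a := orderOf_dvd_of_pow_eq_one h5
  have hd2 : orderOf w ∣ 2 ^ m := orderOf_dvd_of_pow_eq_one hm
  have hcop : Nat.Coprime (orderOf a) (2 ^ m) := by
    apply Nat.Coprime.pow_right
    exact hodd.coprime_two_right
  have h1' : orderOf w ∣ 1 := by
    rw [← hcop]; exact Nat.dvd_gcd hd1 hd2
  exact orderOf_eq_one_iff.mp (Nat.dvd_one.mp h1')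

/-- `A` acts faithfully on a self-centralizing invariant abelian `U` -/
theorem b7_faithful [Finite G] (X A U : Subgroup G) (h : Hyp X A) (hU : Inv X A U)
    (hself : X ⊓ Subgroup.centralizer (U : Set G) = U) :
    A ⊓ Subgroup.centralizer (U : Set G) = ⊥ := by
  rw [eq_bot_iff]
  intro a ha
  obtain ⟨haA, haC⟩ := Subgroup.mem_inf.mp ha
  rw [← h.hfaith]
  refine Subgroup.mem_inf.mpr ⟨haA, ?_⟩
  rw [Subgroup.mem_centralizer_iff]
  intro x hx
  have hacomm : ∀ u ∈ U, a * u * a⁻¹ = u := by
    intro u hu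
    have := Subgroup.mem_centralizer_iff.mp haC u hu
    rw [← this]; group
  have hodd : Odd (orderOf a) := Odd.of_dvd_nat h.hodd (Subgroup.orderOf_dvd_natCard A haA)
  have hwX : a * x * a⁻¹ * x⁻¹ ∈ X :=
    X.mul_mem (conj_mem_of_mem_normalizer (h.hAX haA) hx) (X.inv_mem hx)
  have hwU : a * x * a⁻¹ * x⁻¹ ∈ U := by
    rw [← hself]
    refine Subgroup.mem_inf.mpr ⟨hwX, ?_⟩
    rw [Subgroup.mem_centralizer_iff]
    intro u hu
    have hu' : x⁻¹ * u * x ∈ U := conj_inv_mem_of_mem_normalizer (hU.2.1 hx) hu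
    have h1 := hacomm _ hu'
    have h1' : a⁻¹ * (x⁻¹ * u * x) * a = x⁻¹ * u * x := by
      calc a⁻¹ * (x⁻¹ * u * x) * a = a⁻¹ * (a * (x⁻¹ * u * x) * a⁻¹) * a := by rw [h1]
        _ = x⁻¹ * u * x := by group
    have h2 := hacomm u hu
    calc u * (a * x * a⁻¹ * x⁻¹) = (a * u * a⁻¹) * (a * x * a⁻¹ * x⁻¹) := by rw [h2]
      _ = a * x * (x⁻¹ * u * x) * a⁻¹ * x⁻¹ := by group
      _ = a * x * (a⁻¹ * (x⁻¹ * u * x) * a) * a⁻¹ * x⁻¹ := by rw [h1']
      _ = a * x * a⁻¹ * x⁻¹ * u := by group
  have hw2 : ∃ m : ℕ, (a * x * a⁻¹ * x⁻¹) ^ (2 ^ m) = 1 := by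
    obtain ⟨m, hm⟩ := h.hX ⟨_, hwX⟩
    exact ⟨m, by simpa using congrArg Subtype.val hm⟩
  have hw1 := b7_stable (a := a) (x := x) (w := a * x * a⁻¹ * x⁻¹) hodd (by group)
    (hacomm _ hwU) hw2
  calc x * a = (a * x * a⁻¹ * x⁻¹)⁻¹ * a * x := by group
    _ = a * x := by rw [hw1]; group

/-- the four elements of a four-group -/
theorem b7_v4_elts [Finite G] {W : Subgroup G} (hW : IsV4 W) {e f g : G} (he : e ∈ W)
    (hf : f ∈ W) (hg : g ∈ W) (he1 : e ≠ 1) (hf1 : f ≠ 1) (hef : e ≠ f) :
    g = 1 ∨ g = e ∨ g = f ∨ g = e * f := by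
  classical
  by_contra hcon
  push Not at hcon
  obtain ⟨hg1, hge, hgf, hgef⟩ := hcon
  have he2 : e ^ 2 = 1 := hW.2 e he
  have hef1 : e * f ≠ 1 := by
    intro h
    apply hef
    have : f = e⁻¹ := (eq_inv_of_mul_eq_one_right h)
    rw [this, eq_comm, inv_eq_iff_mul_eq_one, ← pow_two]; exact he2
  have hefe : e * f ≠ e := fun h => hf1 (by simpa using h)
  have heff : e * f ≠ f := fun h => he1 (by simpa using h)
  let S : Finset G := {1, e, f, e * f, g}
  have hS : S.card = 5 := by
    simp only [S]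
    rw [Finset.card_insert_of_notMem, Finset.card_insert_of_notMem, Finset.card_insert_of_notMem,
      Finset.card_insert_of_notMem, Finset.card_singleton]
    · simp only [Finset.mem_singleton]; exact fun h => hgef h.symm
    · simp only [Finset.mem_insert, Finset.mem_singleton, not_or]
      exact ⟨fun h => heff h.symm, fun h => hgf h.symm⟩
    · simp only [Finset.mem_insert, Finset.mem_singleton, not_or]
      exact ⟨hef, fun h => hefe h.symm, fun h => hge h.symm⟩
    · simp only [Finset.mem_insert, Finset.mem_singleton, not_or]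
      exact ⟨fun h => he1 h.symm, fun h => hf1 h.symm, fun h => hef1 h.symm, fun h => hg1 h.symm⟩
  have hsub : (S : Set G) ⊆ (W : Set G) := by
    intro x hx
    simp only [S, Finset.coe_insert, Finset.coe_singleton, Set.mem_insert_iff,
      Set.mem_singleton_iff] at hx
    rcases hx with rfl | rfl | rfl | rfl | rfl
    · exact W.one_mem
    · exact he
    · exact hf
    · exact W.mul_mem he hf
    · exact hg
  have hle : (S : Set G).ncard ≤ (W : Set G).ncard := Set.ncard_le_ncard hsub (Set.toFinite _)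
  rw [Set.ncard_coe_finset, hS] at hle
  have h4' : (W : Set G).ncard = 4 := by
    have := hW.1
    rwa [← Nat.card_coe_set_eq]
  omega

/-- the self-centralizing case: `A = ⟨σ⟩` has order three -/
theorem exists_SC [Finite G] (X A U : Subgroup G) (h : Hyp X A) (hU : Inv X A U) (hab : IsAb U)
    (hself : X ⊓ Subgroup.centralizer (U : Set G) = U) : ∃ σ : G, SC X A U σ := by
  classical
  -- `U` is not central
  have hUnc : ¬ U ≤ Subgroup.centralizer (X : Set G) := by
    intro hc
    apply h.hna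
    have hXU : X ≤ U := by
      rw [← hself]
      refine le_inf le_rfl ?_
      intro x hx
      rw [Subgroup.mem_centralizer_iff]
      intro u hu
      exact (Subgroup.mem_centralizer_iff.mp (hc hu) x hx).symm
    intro a ha b hb
    exact hab a (hXU ha) b (hXU hb)
  have hnc : ¬ A ≤ Subgroup.centralizer (U : Set G) := fun hc =>
    hUnc (le_centralizer_of_le_centralizer X A U h.hcomm hU hc)
  have L := lemma_L X A U h hU hab hnc
  have hfaithU := b7_faithful X A U h hU hself
  have hAE : ∀ a ∈ A, a ∈ Subgroup.centralizer (om U 1 : Set G) → a = 1 := by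
    intro a ha hc
    have : a ∈ A ⊓ Subgroup.centralizer (U : Set G) := Subgroup.mem_inf.mpr ⟨ha, L.faith a ha hc⟩
    rw [hfaithU] at this
    exact Subgroup.mem_bot.mp this
  have hAEn : A ≤ Subgroup.normalizer (om U 1 : Set G) := (hU.om 1).2.2
  -- fixed point argument
  have hFP : ∀ c ∈ A, ∀ e ∈ om U 1, e ≠ 1 → c * e * c⁻¹ = e → c = 1 := by
    intro c hc e he he1 hce
    apply hAE c hc
    rw [Subgroup.mem_centralizer_iff]
    intro f hf
    have hodd : Odd (orderOf c) := Odd.of_dvd_nat h.hodd (Subgroup.orderOf_dvd_natCard A hc)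
    have hcomm_of : c * f * c⁻¹ = f → f * c = c * f := by
      intro h'
      calc f * c = (c * f * c⁻¹) * c := by rw [h']
        _ = c * f := by group
    by_cases hf1 : f = 1
    · rw [hf1]; simp
    by_cases hfe : f = e
    · rw [hfe]
      calc e * c = (c * e * c⁻¹) * c := by rw [hce]
        _ = c * e := by group
    have hcf : c * f * c⁻¹ ∈ om U 1 := conj_mem_of_mem_normalizer (hAEn hc) hf
    rcases b7_v4_elts L.v4 he hf hcf he1 hf1 (fun h' => hfe h'.symm) with h' | h' | h' | h'
    · exfalso; apply hf1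
      calc f = c⁻¹ * (c * f * c⁻¹) * c := by group
        _ = 1 := by rw [h']; group
    · exfalso; apply hfe
      have : c * f * c⁻¹ = c * e * c⁻¹ := by rw [h', hce]
      calc f = c⁻¹ * (c * f * c⁻¹) * c := by group
        _ = c⁻¹ * (c * e * c⁻¹) * c := by rw [this]
        _ = e := by group
    · exact hcomm_of h'
    · exfalso
      have hef : e * f = f * e := L.v4.comm e he f hf
      rw [hef] at h'
      exact he1 (nl_odd_key hodd h' hce (L.v4.2 e he))
  -- an involution of `E`
  obtain ⟨e, he, he1⟩ : ∃ e ∈ om U 1, e ≠ 1 := by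
    have hne : om U 1 ≠ ⊥ := L.v4.ne_bot
    obtain ⟨⟨e, he⟩, he1⟩ := (Subgroup.ne_bot_iff_exists_ne_one).mp hne
    exact ⟨e, he, fun h' => he1 (Subtype.ext h')⟩
  -- `|A| ≤ 3`
  have hcard_le : Nat.card A ≤ 3 := by
    let φ : Option A → om U 1 := fun o => match o with
      | none => ⟨1, Subgroup.one_mem _⟩
      | some a => ⟨(a : G) * e * (a : G)⁻¹, conj_mem_of_mem_normalizer (hAEn a.2) he⟩
    have hφ : Function.Injective φ := by
      intro o₁ o₂ ho
      cases o₁ with
      | none =>
        cases o₂ with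
        | none => rfl
        | some b =>
          exfalso
          have hb : (1 : G) = (b : G) * e * (b : G)⁻¹ := congrArg Subtype.val ho
          apply he1
          calc e = (b : G)⁻¹ * ((b : G) * e * (b : G)⁻¹) * (b : G) := by group
            _ = 1 := by rw [← hb]; group
      | some a =>
        cases o₂ with
        | none =>
          exfalso
          have ha : (a : G) * e * (a : G)⁻¹ = 1 := congrArg Subtype.val ho
          apply he1
          calc e = (a : G)⁻¹ * ((a : G) * e * (a : G)⁻¹) * (a : G) := by group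
            _ = 1 := by rw [ha]; group
        | some b =>
          have hab' : (a : G) * e * (a : G)⁻¹ = (b : G) * e * (b : G)⁻¹ := congrArg Subtype.val ho
          have hc : ((b : G)⁻¹ * (a : G)) * e * ((b : G)⁻¹ * (a : G))⁻¹ = e := by
            calc ((b : G)⁻¹ * (a : G)) * e * ((b : G)⁻¹ * (a : G))⁻¹
                = (b : G)⁻¹ * ((a : G) * e * (a : G)⁻¹) * (b : G) := by group
              _ = (b : G)⁻¹ * ((b : G) * e * (b : G)⁻¹) * (b : G) := by rw [hab']
              _ = e := by group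
          have h1 := hFP _ (A.mul_mem (A.inv_mem b.2) a.2) e he he1 hc
          have : (a : G) = (b : G) := by
            calc (a : G) = (b : G) * ((b : G)⁻¹ * (a : G)) := by group
              _ = (b : G) := by rw [h1, mul_one]
          exact congrArg some (Subtype.ext this)
    have h1 := Nat.card_le_card_of_injective φ hφ
    rw [Finite.card_option, L.v4.1] at h1
    omega
  have hAne : A ≠ ⊥ := by
    intro hbot
    apply hnc
    rw [hbot]; exact bot_le
  have hcard3 : Nat.card A = 3 := by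
    have hodd := h.hodd
    have h1 : Nat.card A ≠ 1 := fun h1 => hAne ((Subgroup.card_eq_one).mp h1)
    have h0 : 0 < Nat.card A := Nat.card_pos
    have h2 : Nat.card A ≠ 2 := by
      intro h2; rw [h2] at hodd; exact absurd hodd (by decide)
    omega
  obtain ⟨⟨σ, hσA⟩, hσ1'⟩ := (Subgroup.ne_bot_iff_exists_ne_one).mp hAne
  have hσ1 : σ ≠ 1 := fun h' => hσ1' (Subtype.ext h')
  have hord : orderOf σ = 3 := by
    have hd : orderOf σ ∣ 3 := by
      rw [← hcard3]; exact Subgroup.orderOf_dvd_natCard A hσA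
    rcases (Nat.dvd_prime Nat.prime_three).mp hd with h1 | h3
    · exact absurd (orderOf_eq_one_iff.mp h1) hσ1
    · exact h3
  have hσ3 : σ ^ 3 = 1 := by rw [← hord]; exact pow_orderOf_eq_one σ
  have hzp : Subgroup.zpowers σ = A := by
    apply Subgroup.eq_of_le_of_card_ge
    · rw [Subgroup.zpowers_le]; exact hσA
    · rw [Nat.card_zpowers, hord, hcard3]
  refine ⟨σ, ⟨h, hU, hab, hself, L, hσA, hσ3, ?_⟩⟩
  intro a ha
  rw [← hzp, mem_zpowers_iff_mem_range_orderOf, hord] at ha
  simp only [Finset.mem_image, Finset.mem_range] at ha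
  obtain ⟨k, hk, rfl⟩ := ha
  interval_cases k
  · left; simp
  · right; left; simp
  · right; right; rfl

end Cfsg.Agent.Lib.Helper4.Ngp
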