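import Mathlib
import Cfsg.Agent.Lib.Helper8.SmTwoDefs
import Cfsg.Agent.Lib.Helper8.SmTwoB
import Cfsg.Agent.Lib.Helper4.NgpDefs
import Cfsg.Agent.Lib.Helper4.NgpB1
import Cfsg.Agent.Lib.Helper4.NgpB2
import Cfsg.Agent.Lib.Helper4.NgpB3
import Cfsg.Agent.Lib.Helper4.NgpB4
import Cfsg.Agent.Lib.Helper4.NgpB5
import Cfsg.Agent.Lib.Helper4.NgpB6
import Cfsg.Agent.Lib.Helper4.NgpB7
import Cfsg.Agent.Lib.Helper4.NgpNCS

set_option autoImplicit false

/-! S1904, package NB2b: the self-centralizing case gives a special group with centre of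
order `4`. -/

namespace Cfsg.Agent.Lib.Helper4.Ngp

open Cfsg.Agent.Lib.Helper8.SmTwo
open scoped commutatorElement

universe u

variable {G : Type u} [Group G]

/-- the normalizer of `X` normalizes `⁅X, X⁆` -/
theorem nb2b_normalizer_commutator (X : Subgroup G) :
    Subgroup.normalizer (X : Set G) ≤ Subgroup.normalizer ((⁅X, X⁆ : Subgroup G) : Set G) := by
  have key : ∀ g ∈ Subgroup.normalizer (X : Set G), ∀ k ∈ ⁅X, X⁆, g * k * g⁻¹ ∈ ⁅X, X⁆ := by
    intro g hg k hk
    rw [Subgroup.commutator_def] at hk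
    induction hk using Subgroup.closure_induction with
    | mem y hy =>
      obtain ⟨a, ha, b, hb, rfl⟩ := hy
      rw [b1_conj_comm]
      exact Subgroup.commutator_mem_commutator (conj_mem_of_mem_normalizer hg ha)
        (conj_mem_of_mem_normalizer hg hb)
    | one => simp
    | mul a b _ _ iha ihb =>
      have e : g * (a * b) * g⁻¹ = (g * a * g⁻¹) * (g * b * g⁻¹) := by group
      rw [e]; exact Subgroup.mul_mem _ iha ihb
    | inv a _ iha =>
      have e : g * a⁻¹ * g⁻¹ = (g * a * g⁻¹)⁻¹ := by group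
      rw [e]; exact Subgroup.inv_mem _ iha
  intro g hg
  refine mem_normalizer_of_conj_mem (key g hg) (fun k hk => ?_)
  have := key g⁻¹ (Subgroup.inv_mem _ hg) k hk
  simpa using this

namespace SC

variable {X A U : Subgroup G} {σ : G}

/-- the exponent of `U` is `4` -/
theorem exp_four [Finite G] (c : SC X A U σ) : ∀ u ∈ U, u ^ 4 = 1 := by
  by_contra hcon
  push Not at hcon
  have hUX : U ≠ X := fun h => c.hyp.hna (h ▸ c.ab)
  obtain ⟨x, hxX, hxU, hx2, hxc⟩ := exists_central_section_elt X U X c.hyp.hX c.inv.1 le_rfl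
    c.inv.2.1 Subgroup.le_normalizer hUX
  have hxT : InT X U x := ⟨hxX, hx2, hxc⟩
  by_cases hmove : ∃ w ∈ U, w ^ 4 = 1 ∧ ⁅x, w⁆ ≠ 1
  · exact c.no_moving_om2 hcon hxX hx2 hmove
  · push Not at hmove
    exact c.no_centralizing_squares hcon hxT hxU
      (fun u hu => c.centralizes_sq hxX hx2 hmove hu)

/-- the endgame -/
theorem special [Finite G] (c : SC X A U σ) : SpecialData X 4 := by
  have h4 := c.exp_four
  have hUX : U ≠ X := fun h => c.hyp.hna (h ▸ c.ab)
  -- an element of `X ∖ U`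
  obtain ⟨g₀, hg₀X, hg₀U⟩ : ∃ g ∈ X, g ∉ U := by
    by_contra hcon
    push Not at hcon
    exact hUX (le_antisymm c.inv.1 hcon)
  -- zero or injective
  have hZI : ∀ g ∈ X, g ∉ U → ∀ w ∈ U, ⁅g, w⁆ = 1 → w ^ 2 = 1 := by
    intro g hg hgU w hw hgw
    by_contra hw2
    apply hgU
    rw [← c.self]
    refine Subgroup.mem_inf.mpr ⟨hg, ?_⟩
    rw [Subgroup.mem_centralizer_iff]
    intro u hu
    have := c.centralizes_om2 hg hw (h4 w hw) hw2 hgw hu (h4 u hu)
    exact ((b1_comm_eq_one_iff g u).mp this).symm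
  -- squares lie in `U`, even in `E`
  have hsqU : ∀ g ∈ X, g ^ 2 ∈ U := by
    intro g hg
    rw [← c.self]
    refine Subgroup.mem_inf.mpr ⟨X.pow_mem hg 2, ?_⟩
    rw [Subgroup.mem_centralizer_iff]
    intro u hu
    have h1 : ⁅g * g, u⁆ = ⁅g, u⁆ * ⁅g, u⁆ := c.comm_mul_left hg hg hu (h4 u hu)
    have h2 : ⁅g, u⁆ ^ 2 = 1 := (c.mem_E.mp (c.comm_mem_E hg hu (h4 u hu))).2
    rw [← pow_two, ← pow_two ⁅g, u⁆, h2] at h1
    exact ((b1_comm_eq_one_iff _ u).mp h1).symm
  have hsqE : ∀ g ∈ X, g ^ 2 ∈ om U 1 := by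
    intro g hg
    rw [c.mem_E]
    refine ⟨hsqU g hg, ?_⟩
    by_cases hgU : g ∈ U
    · rw [← pow_mul]; exact h4 g hgU
    · apply hZI g hg hgU _ (hsqU g hg)
      rw [commutatorElement_def]; simp only [pow_two]; group
  have hEX : om U 1 ≤ X := (om_le U 1).trans c.inv.1
  -- the commutator subgroup lies in `E`
  have hcommE : ⁅X, X⁆ ≤ om U 1 := by
    rw [Subgroup.commutator_le]
    intro x hx y hy
    have e : ⁅x, y⁆ = x ^ 2 * (x⁻¹ * y) ^ 2 * (y⁻¹) ^ 2 := by
      rw [commutatorElement_def]; simp only [pow_two]; group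
    rw [e]
    exact Subgroup.mul_mem _ (Subgroup.mul_mem _ (hsqE x hx)
      (hsqE _ (X.mul_mem (X.inv_mem hx) hy))) (hsqE _ (X.inv_mem hy))
  -- the centre is `E`
  have hZE : X ⊓ Subgroup.centralizer (X : Set G) = om U 1 := by
    apply le_antisymm
    · intro z hz
      obtain ⟨hzX, hzC⟩ := Subgroup.mem_inf.mp hz
      have hzU : z ∈ U := by
        rw [← c.self]
        refine Subgroup.mem_inf.mpr ⟨hzX, ?_⟩
        rw [Subgroup.mem_centralizer_iff]
        intro u hu
        exact Subgroup.mem_centralizer_iff.mp hzC u (c.inv.1 hu)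
      rw [c.mem_E]
      refine ⟨hzU, hZI g₀ hg₀X hg₀U z hzU ?_⟩
      rw [b1_comm_eq_one_iff]
      exact Subgroup.mem_centralizer_iff.mp hzC g₀ hg₀X
    · intro e he
      refine Subgroup.mem_inf.mpr ⟨hEX he, ?_⟩
      rw [Subgroup.mem_centralizer_iff]
      intro x hx
      exact (Subgroup.mem_centralizer_iff.mp (c.L.cent hx) e he).symm
  -- the commutator subgroup is `E`
  have hcomm_eq : ⁅X, X⁆ = om U 1 := by
    apply le_antisymm hcommE
    apply c.L.min _ (hcommE.trans (om_le U 1))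
      (c.hyp.hAX.trans (nb2b_normalizer_commutator X))
    intro hbot
    apply c.hyp.hna
    intro a ha b hb
    have : ⁅a, b⁆ ∈ (⊥ : Subgroup G) := by
      rw [← hbot]; exact Subgroup.commutator_mem_commutator ha hb
    rw [Subgroup.mem_bot] at this
    exact (b1_comm_eq_one_iff a b).mp this
  refine ⟨by rw [hcomm_eq, hZE], fun x hx => by rw [hcomm_eq]; exact hsqE x hx, ?_⟩
  rw [hZE]; exact c.L.v4.1

end SC

/-- (NB2b) the self-centralizing case -/
theorem special_of_self_centralizing [Finite G] (X A U : Subgroup G) (h : Hyp X A)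
    (hU : Inv X A U) (hab : IsAb U) (hself : X ⊓ Subgroup.centralizer (U : Set G) = U) :
    SpecialData X 4 := by
  obtain ⟨σ, c⟩ := exists_SC X A U h hU hab hself
  exact c.special

end Cfsg.Agent.Lib.Helper4.Ngp
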