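import Mathlib
import Cfsg.Agent.Lib.Helper8.SmTwoB
import Cfsg.Agent.Lib.Helper4.NgpDefs
import Cfsg.Agent.Lib.Helper4.NgpNG
import Cfsg.Agent.Lib.Helper4.NgpNB2b
import Cfsg.Agent.Lib.Helper3.NgpNC
import Cfsg.Agent.Lib.Helper5.NgpNB2a
import Cfsg.Agent.Lib.Helper5.NgpNE1
import Cfsg.Agent.Lib.Helper7.NgpNE2

set_option autoImplicit false

/-! S1904: the main theorem in internal form (glue of the packages NG, NC, NB2a, NB2b, NE1,
NE2). -/

namespace Cfsg.Agent.Lib.Helper4.Ngp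

open Cfsg.Agent.Lib.Helper8.SmTwo

universe u

variable {G : Type u} [Group G]

theorem main [Finite G] (X A : Subgroup G) (h : Hyp X A) :
    Nonempty (↥X ≃* QuaternionGroup 2) ∨
      (SpecialData X 4 ∧ Nat.card X = 64 ∧ Nat.card {t : G // t ∈ X ∧ orderOf t = 2} = 3 ∧
        ∀ t ∈ X, orderOf t = 2 → t ∈ Subgroup.centralizer (X : Set G)) ∨
      (SpecialData X 2 ∧ Nat.card X = 32 ∧
        Nat.card {t : G // t ∈ X ∧ orderOf t = 2} = 11) := by
  have four : SpecialData X 4 → (Nonempty (↥X ≃* QuaternionGroup 2) ∨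
      (SpecialData X 4 ∧ Nat.card X = 64 ∧ Nat.card {t : G // t ∈ X ∧ orderOf t = 2} = 3 ∧
        ∀ t ∈ X, orderOf t = 2 → t ∈ Subgroup.centralizer (X : Set G)) ∨
      (SpecialData X 2 ∧ Nat.card X = 32 ∧
        Nat.card {t : G // t ∈ X ∧ orderOf t = 2} = 11)) := fun hs =>
    Or.inr (Or.inl ⟨hs, card_of_special_four X A h hs⟩)
  by_cases hall : ∀ K : Subgroup G, Inv X A K → IsAb K → K ≤ Subgroup.centralizer (X : Set G)
  · rcases special_of_central X A h hall with hs | hs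
    · rcases of_special_two X A h hs with hq | hq
      · exact Or.inl hq
      · exact Or.inr (Or.inr ⟨hs, hq⟩)
    · exact four hs
  · push Not at hall
    obtain ⟨K, hK, hKab, hKnc⟩ := hall
    obtain ⟨U, hU, hKU⟩ := exists_isMaxInvAb X A K hK hKab
    have hUnc : ¬ U ≤ Subgroup.centralizer (X : Set G) := fun hc => hKnc (hKU.trans hc)
    have hself := centralizer_eq_of_isMaxInvAb X A U h hU hUnc
    exact four (special_of_self_centralizing X A U h hU.1 hU.2.1 hself)

end Cfsg.Agent.Lib.Helper4.Ngp
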