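import Mathlib
import Cfsg.Prelude.Def_Blocks
import Cfsg.Prelude.Def_BlockRank
import Cfsg.Prelude.Def_BrauerPairs
import Cfsg.Agent.Lib.Helper4.NilB5
import Cfsg.Agent.Lib.Helper4.VirtualChar
import Cfsg.Agent.Lib.Lead.PosGenChar

/-!
# Nilpotent blocks: the diagonal contributions of a character of height zero
-/

set_option autoImplicit false

namespace Cfsg.Agent.Lib.Helper4.NilB

open scoped ComplexConjugate
open Cfsg Cfsg.Agent.Lib.Helper1 Cfsg.Agent.Lib.Helper4 Cfsg.Agent.Lib.Helper8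
  Cfsg.Agent.Lib.Helper8.BPS
  Cfsg.Agent.Lib.Helper8.MJ Cfsg.Agent.Lib.Helper8.BHI Cfsg.Agent.Lib.Helper8.VK

universe u

variable {G : Type u} [Group G] [Fintype G] {M : Ideal AlgInt} {p : ℕ} [Fact p.Prime]

/-- invariance of the normalized contributions under the defect group -/
theorem phi_conj (hM : IsPModular p M) {B : Set (IrrCharacter G)}
    {D : Subgroup G} {eD : Set (IrrCharacter ↥(Subgroup.centralizer (D : Set G)))}
    (hmax : IsMaximalBrauerPair p M B D eD) {ζ ξ : G → ℂ} (hζ : IsClassFunction G ζ)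
    (hξ : IsClassFunction G ξ) {d v : G} (hd : d ∈ D) (hv : v ∈ D) :
    phi p M D eD ζ ξ (d * v * d⁻¹) = phi p M D eD ζ ξ v := by
  have hd' : d ∈ carrP p M D eD (aOf p M D eD v) := by
    rw [mem_carrP_iff]
    have := subpairRel_pairConj d (aOf_le hM hmax hv)
    rwa [pairConj_eq_self_of_mem D eD hd] at this
  have e := pairConj_eq_aOf hM hmax (a := aOf p M D eD v) rfl hd'
  unfold phi
  rw [← e, mm_pairConj d _ v hζ hξ, card_carrP_pairConj]

omit [Fintype G] in
theorem exists_orderOf_eq_of_mem {D : Subgroup G} (hD : IsPGroup p D) {v : G} (hv : v ∈ D) :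
    ∃ k : ℕ, orderOf v = p ^ k := by
  obtain ⟨k, hk⟩ := IsPGroup.iff_orderOf.1 hD ⟨v, hv⟩
  exact ⟨k, by rw [← hk, Subgroup.orderOf_mk]⟩

/-- the number of elements carrying `aOf v` into the maximal pair is positive -/
theorem card_carrP_aOf_pos (hM : IsPModular p M) {B : Set (IrrCharacter G)}
    {D : Subgroup G} {eD : Set (IrrCharacter ↥(Subgroup.centralizer (D : Set G)))}
    (hmax : IsMaximalBrauerPair p M B D eD) {v : G} (hv : v ∈ D) :
    0 < Nat.card ↥(carrP p M D eD (aOf p M D eD v)) := by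
  have : Nonempty ↥(carrP p M D eD (aOf p M D eD v)) := ⟨⟨1, one_mem_carrP_aOf hM hmax hv⟩⟩
  exact Nat.card_pos

/-- **positivity** of the normalized diagonal contributions of a character of height zero -/
theorem phi_self_pos (hM : IsPModular p M) {B : Set (IrrCharacter G)}
    {D : Subgroup G} {eD : Set (IrrCharacter ↥(Subgroup.centralizer (D : Set G)))}
    (hmax : IsMaximalBrauerPair p M B D eD) {χ : IrrCharacter G} (hχ : χ ∈ B)
    (h0 : blockHeight p B (χ : G → ℂ) = 0) {v : G} (hv : v ∈ D) :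
    ∃ r : ℝ, 0 < r ∧ phi p M D eD (χ : G → ℂ) (χ : G → ℂ) v = (r : ℂ) := by
  classical
  have : Fintype ↥(cent v) := Fintype.ofFinite _
  have hMp := isPModular_isPrime hM
  have hχcf : IsClassFunction G (χ : G → ℂ) := isClassFunction_of_isCharacter (isCharacter_of_irr χ.2)
  have hC : ∀ t, t ∈ cent v ↔ t * v = v * t := fun t => mem_cent_iff
  have hpair := aOf_isBrauerPairOf hM hmax hv
  have hb : IsPBlock M (subB p M D eD (Subgroup.zpowers v)) := hpair.1.2
  have hind := induced_of_pair_zpowers hM hpair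
  have hu := exists_orderOf_eq_of_mem hmax.1.1.1 hv
  have h1 := contrib_self_eq_re hM (cent v) hC hb hχcf
  have h2 := contrib_self_re_nonneg (p := p) hM (cent v) hC hb hχcf
  have h3 := not_memLocalIdeal_pow_mul_contrib hM (cent v) hC hu hind hχ hχ h0 h0
  have hre : (contrib p (cent v) (subB p M D eD (Subgroup.zpowers v)) v (χ : G → ℂ)
      (χ : G → ℂ)).re ≠ 0 := by
    intro h
    apply h3
    rw [h1, h, Complex.ofReal_zero, mul_zero]
    exact memLocalIdeal_zero hMp.ne_top
  have hN := card_carrP_aOf_pos hM hmax hv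
  have hC0 : 0 < Nat.card ↥(cent v) := Nat.card_pos
  refine ⟨(Nat.card ↥(cent v) : ℝ) * (contrib p (cent v) (subB p M D eD (Subgroup.zpowers v)) v
    (χ : G → ℂ) (χ : G → ℂ)).re / (Nat.card ↥(carrP p M D eD (aOf p M D eD v)) : ℝ), ?_, ?_⟩
  · apply div_pos
    · apply mul_pos
      · exact_mod_cast hC0
      · exact lt_of_le_of_ne h2 (Ne.symm hre)
    · exact_mod_cast hN
  · unfold phi mm
    show (Nat.card ↥(cent v) : ℂ) * contribF p (cent v) (subB p M D eD (Subgroup.zpowers v)) v
      (χ : G → ℂ) (χ : G → ℂ) / _ = _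
    rw [contribF_eq, h1]
    push_cast
    rfl

/-- the additive group of the rational integers inside `ℂ` -/
noncomputable def intSub : AddSubgroup ℂ := (Int.castAddHom ℂ).range

theorem mem_intSub {z : ℂ} : z ∈ intSub ↔ ∃ n : ℤ, z = (n : ℂ) := by
  unfold intSub
  rw [AddMonoidHom.mem_range]
  constructor
  · rintro ⟨n, hn⟩
    exact ⟨n, hn.symm⟩
  · rintro ⟨n, hn⟩
    exact ⟨n, hn.symm⟩

/-- **Application of the Broué–Puig theorem** to an irreducible character of the defect group. -/
theorem tstar_apply (hT : TstarStatement p M G) (hM : IsPModular p M) {B : Set (IrrCharacter G)}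
    {D : Subgroup G} {eD : Set (IrrCharacter ↥(Subgroup.centralizer (D : Set G)))} [Fintype D]
    (hmax : IsMaximalBrauerPair p M B D eD) (hnil : IsNilpotentBlock p M B)
    (η : IrrCharacter D) {χ : IrrCharacter G} (hχ : χ ∈ B) :
    IsClassFunction G (starFun p M (wOf p M D eD (η : D → ℂ)) (χ : G → ℂ)) ∧
      ∀ ψ : IrrCharacter G, ∃ n : ℤ,
        classInner (starFun p M (wOf p M D eD (η : D → ℂ)) (χ : G → ℂ)) (ψ : G → ℂ) = (n : ℂ) := by
  classical
  have hηcf : IsClassFunction D (η : D → ℂ) := isClassFunction_of_isCharacter (isCharacter_of_irr η.2)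
  have hint : ∀ ψ : IrrCharacter D, classInner (η : D → ℂ) (ψ : D → ℂ) ∈ intSub := by
    intro ψ
    rw [mem_intSub, classInner_irr η.2 ψ.2]
    by_cases h : (η : D → ℂ) = (ψ : D → ℂ)
    · exact ⟨1, by rw [if_pos h, Int.cast_one]⟩
    · exact ⟨0, by rw [if_neg h, Int.cast_zero]⟩
  obtain ⟨h1, h2⟩ := hT B D eD hmax intSub (η : D → ℂ) hηcf hint _
    (isStarWeight_wOf hM hmax hnil hηcf) χ hχ
  exact ⟨h1, fun ψ => mem_intSub.1 (h2 ψ)⟩

/-- a class function with integral multiplicities is a generalized character -/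
theorem isGenChar_of_int_inner {H : Type*} [Group H] [Fintype H] (θ : H → ℂ)
    (hθ : IsClassFunction H θ)
    (h : ∀ ξ : IrrCharacter H, ∃ z : ℤ, classInner θ (ξ : H → ℂ) = z) :
    IsGeneralizedCharacter H θ := by
  classical
  have : Fintype (IrrCharacter H) := Fintype.ofFinite _
  rw [class_function_expansion θ hθ]
  apply isGenChar_sum
  intro ξ _
  obtain ⟨z, hz⟩ := h ξ
  rw [hz]
  have h1 : ((z : ℂ) • (ξ : H → ℂ)) = z • (ξ : H → ℂ) := by
    funext g
    simp
  rw [h1]
  have key : ∀ m : ℤ, IsGeneralizedCharacter H (m • (ξ : H → ℂ)) := by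
    intro m
    induction m using Int.induction_on with
    | zero => rw [zero_smul]; exact isGenChar_zero
    | succ n ih => rw [add_smul, one_smul]; exact isGenChar_add ih (isGenChar_of_irr ξ.2)
    | pred n ih => rw [sub_smul, one_smul]; exact isGenChar_sub ih (isGenChar_of_irr ξ.2)
  exact key z

end Cfsg.Agent.Lib.Helper4.NilB
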