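import Mathlib
import Cfsg.Prelude.Def_Blocks
import Cfsg.Prelude.Def_BlockRank
import Cfsg.Prelude.Def_BrauerPairs
import Cfsg.Prelude.Def_BlockFusion
import Cfsg.Agent.Lib.Helper4.NilB11
import Cfsg.Agent.Lib.Helper4.NilB6

/-!
# Fusion-stable functions on the defect group and their weight systems
-/

set_option autoImplicit false

namespace Cfsg.Agent.Lib.Helper4.NilB

open scoped ComplexConjugate
open Cfsg Cfsg.Agent.Lib.Helper1 Cfsg.Agent.Lib.Helper4 Cfsg.Agent.Lib.Helper8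
  Cfsg.Agent.Lib.Helper8.BPS
  Cfsg.Agent.Lib.Helper8.MJ Cfsg.Agent.Lib.Helper8.BHI Cfsg.Agent.Lib.Helper8.VK

universe u

variable {G : Type u} [Group G] [Fintype G] {M : Ideal AlgInt} {p : ℕ} [Fact p.Prime]

/-- the function `η` on `D` is stable under the fusion of the Brauer pairs below `(D, eD)` -/
def IsStableFun (p : ℕ) (M : Ideal AlgInt) (D : Subgroup G)
    (eD : Set (IrrCharacter ↥(Subgroup.centralizer (D : Set G)))) (η : D → ℂ) : Prop :=
  ∀ (a : BrauerPairIdx G) (g g' : G) (hg : g ∈ carrP p M D eD a) (hg' : g' ∈ carrP p M D eD a)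
    (q : G) (hq : q ∈ a.1),
    η ⟨g' * q * g'⁻¹, conj_mem_of_mem_carrP hg' hq⟩ = η ⟨g * q * g⁻¹, conj_mem_of_mem_carrP hg hq⟩

omit [Fintype G] [Fact p.Prime] in
theorem isStableFun_const {D : Subgroup G}
    {eD : Set (IrrCharacter ↥(Subgroup.centralizer (D : Set G)))} (c : ℂ) :
    IsStableFun p M D eD (fun _ => c) := fun _ _ _ _ _ _ _ => rfl

omit [Fintype G] [Fact p.Prime] in
theorem IsStableFun.mul {D : Subgroup G}
    {eD : Set (IrrCharacter ↥(Subgroup.centralizer (D : Set G)))} {η η' : D → ℂ}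
    (h : IsStableFun p M D eD η) (h' : IsStableFun p M D eD η') :
    IsStableFun p M D eD (fun v => η v * η' v) := by
  intro a g g' hg hg' q hq
  show η _ * η' _ = η _ * η' _
  rw [h a g g' hg hg' q hq, h' a g g' hg hg' q hq]

/-- in a nilpotent block every class function of the defect group is stable -/
theorem isStableFun_of_nilpotent (hM : IsPModular p M) {B : Set (IrrCharacter G)}
    {D : Subgroup G} {eD : Set (IrrCharacter ↥(Subgroup.centralizer (D : Set G)))}
    (hmax : IsMaximalBrauerPair p M B D eD) (hnil : IsNilpotentBlock p M B)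
    {η : D → ℂ} (hη : IsClassFunction D η) : IsStableFun p M D eD η := by
  intro a g g' hg hg' q hq
  obtain ⟨d, hd, hdq⟩ := exists_conj_of_mem_carrP hM hmax hnil hg hg'
  have h1 := hdq q hq
  have h2 : (⟨g' * q * g'⁻¹, conj_mem_of_mem_carrP hg' hq⟩ : D) =
      (⟨d, hd⟩ : D) * ⟨g * q * g⁻¹, conj_mem_of_mem_carrP hg hq⟩ * (⟨d, hd⟩ : D)⁻¹ := by
    apply Subtype.ext
    exact h1
  rw [h2, hη]

omit [Fact p.Prime] in
/-- the value of the weight of a stable function -/
theorem wOf_eq_of_stable {D : Subgroup G}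
    {eD : Set (IrrCharacter ↥(Subgroup.centralizer (D : Set G)))}
    {η : D → ℂ} (hη : IsStableFun p M D eD η) {u : G} {b : Set (IrrCharacter ↥(cent u))} {g : G}
    (hg : g ∈ carrP p M D eD ⟨Subgroup.zpowers u, b⟩) (hgu : g * u * g⁻¹ ∈ D) :
    wOf p M D eD η u b = η ⟨g * u * g⁻¹, hgu⟩ := by
  classical
  have h : ∃ g : G, g ∈ carrP p M D eD ⟨Subgroup.zpowers u, b⟩ := ⟨g, hg⟩
  unfold wOf
  rw [dif_pos h]
  exact (hη ⟨Subgroup.zpowers u, b⟩ h.choose g h.choose_spec hg u (Subgroup.mem_zpowers u)).symm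

omit [Fact p.Prime] in
theorem isStarWeight_wOf_of_stable {B : Set (IrrCharacter G)} {D : Subgroup G}
    {eD : Set (IrrCharacter ↥(Subgroup.centralizer (D : Set G)))}
    {η : D → ℂ} (hη : IsStableFun p M D eD η) : IsStarWeight p M B D eD η (wOf p M D eD η) := by
  intro u b _ _ g hg hle
  exact wOf_eq_of_stable hη hle hg

omit [Fact p.Prime] in
/-- weights are multiplicative in `η` -/
theorem wOf_mul {D : Subgroup G}
    {eD : Set (IrrCharacter ↥(Subgroup.centralizer (D : Set G)))} (η η' : D → ℂ) (u : G)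
    (b : Set (IrrCharacter ↥(cent u))) :
    wOf p M D eD (fun v => η v * η' v) u b = wOf p M D eD η u b * wOf p M D eD η' u b := by
  classical
  unfold wOf
  by_cases h : ∃ g : G, g ∈ carrP p M D eD ⟨Subgroup.zpowers u, b⟩
  · rw [dif_pos h, dif_pos h, dif_pos h]
  · rw [dif_neg h, dif_neg h, dif_neg h, mul_zero]

/-- the weight of a stable function at an element of the defect group -/
theorem wOf_aOf (hM : IsPModular p M) {B : Set (IrrCharacter G)} {D : Subgroup G}
    {eD : Set (IrrCharacter ↥(Subgroup.centralizer (D : Set G)))}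
    (hmax : IsMaximalBrauerPair p M B D eD) {η : D → ℂ} (hη : IsStableFun p M D eD η) {v : G}
    (hv : v ∈ D) : wOf p M D eD η v (subB p M D eD (Subgroup.zpowers v)) = η ⟨v, hv⟩ := by
  have h1 : (1 : G) ∈ carrP p M D eD ⟨Subgroup.zpowers v, subB p M D eD (Subgroup.zpowers v)⟩ :=
    one_mem_carrP_aOf hM hmax hv
  have h2 : 1 * v * (1 : G)⁻¹ ∈ D := by
    rw [one_mul, inv_one, mul_one]
    exact hv
  rw [wOf_eq_of_stable hη h1 h2]
  congr 1
  apply Subtype.ext
  show 1 * v * (1 : G)⁻¹ = v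
  rw [one_mul, inv_one, mul_one]

/-- the weight of a stable function is `η` at some element of `D`, or zero on a subsection not
belonging to the block -/
theorem wOf_cases (hM : IsPModular p M) {B : Set (IrrCharacter G)} {D : Subgroup G}
    {eD : Set (IrrCharacter ↥(Subgroup.centralizer (D : Set G)))}
    (hmax : IsMaximalBrauerPair p M B D eD) {η : D → ℂ} (hη : IsStableFun p M D eD η) (u : G)
    (b : Set (IrrCharacter ↥(cent u))) :
    (∃ v : D, wOf p M D eD η u b = η v) ∨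
      (¬ IsBrauerPairOf p M B (Subgroup.zpowers u) b ∧ wOf p M D eD η u b = 0) := by
  by_cases hne : ∃ g, g ∈ carrP p M D eD ⟨Subgroup.zpowers u, b⟩
  · obtain ⟨g, hg⟩ := hne
    have hgu : g * u * g⁻¹ ∈ D := conj_mem_of_mem_carrP hg (Subgroup.mem_zpowers u)
    exact Or.inl ⟨⟨g * u * g⁻¹, hgu⟩, wOf_eq_of_stable hη hg hgu⟩
  · refine Or.inr ⟨?_, wOf_of_isEmpty η hne⟩
    intro hpair
    obtain ⟨x, hx⟩ := exists_conj_subpairLE hM hmax hpair
    exact hne ⟨x, hx⟩

/-- **values on the `p`-regular elements**, for a stable function -/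
theorem starFun_wOf_pRegular_of_stable (hM : IsPModular p M) {B : Set (IrrCharacter G)}
    {D : Subgroup G} {eD : Set (IrrCharacter ↥(Subgroup.centralizer (D : Set G)))}
    (hmax : IsMaximalBrauerPair p M B D eD)
    {η : D → ℂ} (hη : IsStableFun p M D eD η) {χ : IrrCharacter G} (hχ : χ ∈ B) {s : G}
    (hs : ¬ p ∣ orderOf s) :
    starFun p M (wOf p M D eD η) (χ : G → ℂ) s = η 1 * (χ : G → ℂ) s := by
  classical
  have hχcf : IsClassFunction G (χ : G → ℂ) := isClassFunction_of_isCharacter (isCharacter_of_irr χ.2)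
  have hu1 : ∃ k : ℕ, orderOf (1 : G) = p ^ k := ⟨0, by rw [orderOf_one, pow_zero]⟩
  have hpp : IsPPart p s 1 := ⟨s, one_mul s, Commute.one_left s, hu1, hs⟩
  rw [starFun_eq _ _ hpp]
  have h1 : ∀ b ∈ blocksFinset M ↥(cent (1 : G)),
      wOf p M D eD η 1 b * secPart p (cent 1) b 1 (χ : G → ℂ)
        ⟨(1 : G)⁻¹ * s, inv_mul_mem_cent_of_isPPart hpp⟩ =
      η 1 * secPart p (cent 1) b 1 (χ : G → ℂ)
        ⟨(1 : G)⁻¹ * s, inv_mul_mem_cent_of_isPPart hpp⟩ := by
    intro b hb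
    rw [mem_blocksFinset] at hb
    by_cases hne : ∃ g, g ∈ carrP p M D eD ⟨Subgroup.zpowers (1 : G), b⟩
    · obtain ⟨g, hg⟩ := hne
      have hgu : g * 1 * g⁻¹ ∈ D := conj_mem_of_mem_carrP hg (Subgroup.mem_zpowers (1 : G))
      rw [wOf_eq_of_stable hη hg hgu]
      congr 2
      apply Subtype.ext
      show g * 1 * g⁻¹ = 1
      rw [mul_one, mul_inv_cancel]
    · have hnot : ¬ IsBrauerPairOf p M B (Subgroup.zpowers (1 : G)) b := by
        intro hpair
        obtain ⟨x, hx⟩ := exists_conj_subpairLE hM hmax hpair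
        exact hne ⟨x, hx⟩
      rw [secPart_eq_zero_of_not_pair hM hmax.1.2.1 hu1 hb hnot hχ, mul_zero, mul_zero]
  rw [Finset.sum_congr rfl h1, ← Finset.mul_sum,
    sum_blocks_secPart hM hχcf 1 (not_dvd_orderOf_cofactor hpp)]
  show η 1 * (χ : G → ℂ) (1 * ((1 : G)⁻¹ * s)) = _
  rw [inv_one, one_mul, one_mul]

/-- `1 * χ = χ` -/
theorem starFun_wOf_one (hM : IsPModular p M) {B : Set (IrrCharacter G)}
    {D : Subgroup G} {eD : Set (IrrCharacter ↥(Subgroup.centralizer (D : Set G)))}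
    (hmax : IsMaximalBrauerPair p M B D eD)
    {χ : IrrCharacter G} (hχ : χ ∈ B) (g : G) :
    starFun p M (wOf p M D eD (fun _ => (1 : ℂ))) (χ : G → ℂ) g = (χ : G → ℂ) g := by
  classical
  have hp : p.Prime := Fact.out
  have hχcf : IsClassFunction G (χ : G → ℂ) := isClassFunction_of_isCharacter (isCharacter_of_irr χ.2)
  have hη : IsStableFun p M D eD (fun _ : D => (1 : ℂ)) := isStableFun_const 1
  obtain ⟨u, hu⟩ := exists_isPPart hp g
  have hu1 : ∃ k : ℕ, orderOf u = p ^ k := by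
    obtain ⟨y, -, -, hk, -⟩ := hu
    exact hk
  rw [starFun_eq _ _ hu]
  have h1 : ∀ b ∈ blocksFinset M ↥(cent u),
      wOf p M D eD (fun _ => (1 : ℂ)) u b * secPart p (cent u) b u (χ : G → ℂ)
        ⟨u⁻¹ * g, inv_mul_mem_cent_of_isPPart hu⟩ =
      secPart p (cent u) b u (χ : G → ℂ) ⟨u⁻¹ * g, inv_mul_mem_cent_of_isPPart hu⟩ := by
    intro b hb
    rw [mem_blocksFinset] at hb
    rcases wOf_cases hM hmax hη u b with ⟨v, hv⟩ | ⟨hnot, -⟩
    · rw [hv, one_mul]
    · rw [secPart_eq_zero_of_not_pair hM hmax.1.2.1 hu1 hb hnot hχ, mul_zero]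
  rw [Finset.sum_congr rfl h1, sum_blocks_secPart hM hχcf u (not_dvd_orderOf_cofactor hu)]
  show (χ : G → ℂ) (u * (u⁻¹ * g)) = _
  rw [mul_inv_cancel_left]

omit [Fact p.Prime] in
/-- **Application of the Broué–Puig theorem** to a stable irreducible character of the defect
group. -/
theorem tstar_apply_of_stable (hT : TstarStatement p M G) {B : Set (IrrCharacter G)}
    {D : Subgroup G} {eD : Set (IrrCharacter ↥(Subgroup.centralizer (D : Set G)))} [Fintype D]
    (hmax : IsMaximalBrauerPair p M B D eD) (η : IrrCharacter D)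
    (hη : IsStableFun p M D eD (η : D → ℂ)) {χ : IrrCharacter G} (hχ : χ ∈ B) :
    IsClassFunction G (starFun p M (wOf p M D eD (η : D → ℂ)) (χ : G → ℂ)) ∧
      ∀ ψ : IrrCharacter G, ∃ n : ℤ,
        classInner (starFun p M (wOf p M D eD (η : D → ℂ)) (χ : G → ℂ)) (ψ : G → ℂ) = (n : ℂ) := by
  classical
  have hηcf : IsClassFunction D (η : D → ℂ) := isClassFunction_of_isCharacter (isCharacter_of_irr η.2)
  have hint : ∀ ψ : IrrCharacter D, classInner (η : D → ℂ) (ψ : D → ℂ) ∈ intSub := by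
    intro ψ
    rw [mem_intSub, classInner_irr η.2 ψ.2]
    by_cases h : (η : D → ℂ) = (ψ : D → ℂ)
    · exact ⟨1, by rw [if_pos h, Int.cast_one]⟩
    · exact ⟨0, by rw [if_neg h, Int.cast_zero]⟩
  obtain ⟨h1, h2⟩ := hT B D eD hmax intSub (η : D → ℂ) hηcf hint _
    (isStarWeight_wOf_of_stable hη) χ hχ
  exact ⟨h1, fun ψ => mem_intSub.1 (h2 ψ)⟩

end Cfsg.Agent.Lib.Helper4.NilB
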