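import Mathlib
import Cfsg.Prelude.Def_Blocks
import Cfsg.Prelude.Def_BlockRank
import Cfsg.Prelude.Def_BrauerPairs
import Cfsg.Agent.Lib.Helper4.NilB6
import Cfsg.Agent.Lib.Helper8.MJ10
import Cfsg.Agent.Lib.Helper8.BHI6

/-!
# Nilpotent blocks: the isometry `η ↦ η * χ` and the bijection with the characters of the
defect group
-/

set_option autoImplicit false

namespace Cfsg.Agent.Lib.Helper4.NilB

open scoped ComplexConjugate
open Cfsg Cfsg.Agent.Lib.Helper1 Cfsg.Agent.Lib.Helper4 Cfsg.Agent.Lib.Helper8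
  Cfsg.Agent.Lib.Helper8.BPS
  Cfsg.Agent.Lib.Helper8.MJ Cfsg.Agent.Lib.Helper8.BHI Cfsg.Agent.Lib.Helper8.VK

universe u

variable {G : Type u} [Group G] [Fintype G] {M : Ideal AlgInt} {p : ℕ} [Fact p.Prime]

/-- `1 * χ = χ` -/
theorem starFun_wOf_const_one (hM : IsPModular p M) {B : Set (IrrCharacter G)}
    {D : Subgroup G} {eD : Set (IrrCharacter ↥(Subgroup.centralizer (D : Set G)))}
    (hmax : IsMaximalBrauerPair p M B D eD) (hnil : IsNilpotentBlock p M B)
    {χ : IrrCharacter G} (hχ : χ ∈ B) (g : G) :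
    starFun p M (wOf p M D eD (fun _ => (1 : ℂ))) (χ : G → ℂ) g = (χ : G → ℂ) g := by
  classical
  have hp : p.Prime := Fact.out
  have hχcf : IsClassFunction G (χ : G → ℂ) := isClassFunction_of_isCharacter (isCharacter_of_irr χ.2)
  have hη : IsClassFunction D (fun _ : D => (1 : ℂ)) := fun _ _ => rfl
  obtain ⟨u, hu⟩ := exists_isPPart hp g
  have hu1 : ∃ k : ℕ, orderOf u = p ^ k := by
    obtain ⟨y, -, -, hk, -⟩ := hu
    exact hk
  rw [starFun_eq _ _ hu]
  have h1 : ∀ b ∈ blocksFinset M ↥(cent u),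
      wOf p M D eD (fun _ => (1 : ℂ)) u b * secPart p (cent u) b u (χ : G → ℂ)
        ⟨u⁻¹ * g, inv_mul_mem_cent_of_isPPart hu⟩ =
      secPart p (cent u) b u (χ : G → ℂ) ⟨u⁻¹ * g, inv_mul_mem_cent_of_isPPart hu⟩ := by
    intro b hb
    rw [mem_blocksFinset] at hb
    by_cases hne : ∃ g, g ∈ carrP p M D eD ⟨Subgroup.zpowers u, b⟩
    · obtain ⟨x, hx⟩ := hne
      have hxu : x * u * x⁻¹ ∈ D := conj_mem_of_mem_carrP hx (Subgroup.mem_zpowers u)
      rw [wOf_eq hM hmax hnil hη hx hxu, one_mul]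
    · have hnot : ¬ IsBrauerPairOf p M B (Subgroup.zpowers u) b := by
        intro hpair
        obtain ⟨x, hx⟩ := exists_conj_subpairLE hM hmax hpair
        exact hne ⟨x, hx⟩
      rw [secPart_eq_zero_of_not_pair hM hmax.1.2.1 hu1 hb hnot hχ, mul_zero]
  rw [Finset.sum_congr rfl h1, sum_blocks_secPart hM hχcf u (not_dvd_orderOf_cofactor hu)]
  show (χ : G → ℂ) (u * (u⁻¹ * g)) = _
  rw [mul_inv_cancel_left]

/-- the normalized diagonal contributions sum to one -/
theorem sum_phi_self (hM : IsPModular p M) {B : Set (IrrCharacter G)}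
    {D : Subgroup G} {eD : Set (IrrCharacter ↥(Subgroup.centralizer (D : Set G)))} [Fintype D]
    (hmax : IsMaximalBrauerPair p M B D eD) (hnil : IsNilpotentBlock p M B)
    {χ : IrrCharacter G} (hχ : χ ∈ B) :
    ∑ v : D, phi p M D eD (χ : G → ℂ) (χ : G → ℂ) (v : G) = 1 := by
  have hχcf : IsClassFunction G (χ : G → ℂ) := isClassFunction_of_isCharacter (isCharacter_of_irr χ.2)
  have hη : IsClassFunction D (fun _ : D => (1 : ℂ)) := fun _ _ => rfl
  have h1 := classInner_starFun_wOf hM hmax hnil hη hχ hχcf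
  have h2 : starFun p M (wOf p M D eD (fun _ => (1 : ℂ))) (χ : G → ℂ) = (χ : G → ℂ) :=
    funext fun g => starFun_wOf_const_one hM hmax hnil hχ g
  rw [h2, classInner_irr_self χ.2] at h1
  rw [h1]
  refine Finset.sum_congr rfl fun v _ => ?_
  rw [one_mul]

/-- **The normalized diagonal contributions of a character of height zero are all equal to
`1 / |D|`.** -/
theorem phi_self_eq (hT : TstarStatement p M G) (hM : IsPModular p M) {B : Set (IrrCharacter G)}
    {D : Subgroup G} {eD : Set (IrrCharacter ↥(Subgroup.centralizer (D : Set G)))} [Fintype D]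
    (hmax : IsMaximalBrauerPair p M B D eD) (hnil : IsNilpotentBlock p M B)
    {χ : IrrCharacter G} (hχ : χ ∈ B) (h0 : blockHeight p B (χ : G → ℂ) = 0) (v : D) :
    phi p M D eD (χ : G → ℂ) (χ : G → ℂ) (v : G) = (Nat.card D : ℂ)⁻¹ := by
  classical
  have hχcf : IsClassFunction G (χ : G → ℂ) := isClassFunction_of_isCharacter (isCharacter_of_irr χ.2)
  have hD0 : (Nat.card D : ℂ) ≠ 0 := Nat.cast_ne_zero.2 Nat.card_pos.ne'
  set mu : D → ℂ := fun v => (Nat.card D : ℂ) * phi p M D eD (χ : G → ℂ) (χ : G → ℂ) (v : G)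
    with hmu
  have hcf : IsClassFunction D mu := by
    intro g h
    show (Nat.card D : ℂ) * phi p M D eD (χ : G → ℂ) (χ : G → ℂ) ((h * g * h⁻¹ : D) : G) =
      (Nat.card D : ℂ) * phi p M D eD (χ : G → ℂ) (χ : G → ℂ) (g : G)
    rw [Subgroup.coe_mul, Subgroup.coe_mul, Subgroup.coe_inv, phi_conj hM hmax hχcf hχcf h.2 g.2]
  have hreal : ∀ w : D, conj (phi p M D eD (χ : G → ℂ) (χ : G → ℂ) (w : G)) =
      phi p M D eD (χ : G → ℂ) (χ : G → ℂ) (w : G) := by
    intro w
    obtain ⟨r, -, hr⟩ := phi_self_pos hM hmax hχ h0 w.2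
    rw [hr, Complex.conj_ofReal]
  have hint : ∀ η : IrrCharacter D, ∃ z : ℤ, classInner mu (η : D → ℂ) = z := by
    intro η
    have hηcf : IsClassFunction D (η : D → ℂ) :=
      isClassFunction_of_isCharacter (isCharacter_of_irr η.2)
    obtain ⟨-, h2⟩ := tstar_apply hT hM hmax hnil η hχ
    obtain ⟨n, hn⟩ := h2 χ
    rw [classInner_starFun_wOf hM hmax hnil hηcf hχ hχcf] at hn
    refine ⟨n, ?_⟩
    have h3 : classInner mu (η : D → ℂ) =
        conj (∑ w : D, (η : D → ℂ) w * phi p M D eD (χ : G → ℂ) (χ : G → ℂ) (w : G)) := by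
      rw [classInner_def, map_sum, Finset.mul_sum]
      refine Finset.sum_congr rfl fun w _ => ?_
      rw [map_mul, hreal w, hmu]
      show (Nat.card D : ℂ)⁻¹ * ((Nat.card D : ℂ) * phi p M D eD (χ : G → ℂ) (χ : G → ℂ) (w : G) *
        conj ((η : D → ℂ) w)) = _
      field_simp
    rw [h3, hn, map_intCast]
  have hgen := isGenChar_of_int_inner mu hcf hint
  have hpos : ∀ w : D, ∃ r : ℝ, 0 < r ∧ mu w = (r : ℂ) := by
    intro w
    obtain ⟨r, hr0, hr⟩ := phi_self_pos hM hmax hχ h0 w.2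
    refine ⟨(Nat.card D : ℝ) * r, mul_pos (by exact_mod_cast Nat.card_pos) hr0, ?_⟩
    rw [hmu]
    show (Nat.card D : ℂ) * phi p M D eD (χ : G → ℂ) (χ : G → ℂ) (w : G) = _
    rw [hr]
    push_cast
    rfl
  have hsum : ∑ w : D, mu w = (Fintype.card D : ℂ) := by
    rw [hmu]
    show ∑ w : D, (Nat.card D : ℂ) * phi p M D eD (χ : G → ℂ) (χ : G → ℂ) (w : G) = _
    rw [← Finset.mul_sum, sum_phi_self hM hmax hnil hχ, mul_one, Nat.card_eq_fintype_card]
  have h1 := Cfsg.Agent.Lib.Lead.eq_one_of_pos_genChar mu hgen hpos hsum v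
  rw [hmu] at h1
  have h2 : (Nat.card D : ℂ) * phi p M D eD (χ : G → ℂ) (χ : G → ℂ) (v : G) = 1 := h1
  exact eq_inv_of_mul_eq_one_right h2

/-- **The isometry**: `[η * χ, η' * χ]_G = [η, η']_D`. -/
theorem classInner_starFun_eq (hT : TstarStatement p M G) (hM : IsPModular p M)
    {B : Set (IrrCharacter G)}
    {D : Subgroup G} {eD : Set (IrrCharacter ↥(Subgroup.centralizer (D : Set G)))} [Fintype D]
    (hmax : IsMaximalBrauerPair p M B D eD) (hnil : IsNilpotentBlock p M B)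
    {χ : IrrCharacter G} (hχ : χ ∈ B) (h0 : blockHeight p B (χ : G → ℂ) = 0)
    {η η' : D → ℂ} (hη : IsClassFunction D η) (hη' : IsClassFunction D η') :
    classInner (starFun p M (wOf p M D eD η) (χ : G → ℂ))
      (starFun p M (wOf p M D eD η') (χ : G → ℂ)) = classInner η η' := by
  have hχcf : IsClassFunction G (χ : G → ℂ) := isClassFunction_of_isCharacter (isCharacter_of_irr χ.2)
  rw [classInner_starFun_wOf_wOf hM hmax hnil hη hη' hχ hχcf, classInner_def, Finset.mul_sum]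
  refine Finset.sum_congr rfl fun v _ => ?_
  rw [phi_self_eq hT hM hmax hnil hχ h0 v]
  ring

end Cfsg.Agent.Lib.Helper4.NilB
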