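import Mathlib
import Cfsg.Prelude.Def_Blocks
import Cfsg.Prelude.Def_BlockRank
import Cfsg.Prelude.Def_BrauerPairs
import Cfsg.Agent.Lib.Helper4.NilB7

/-!
# Nilpotent blocks: the bijection `Irr(D) → Irr(B)`, `η ↦ η * χ`
-/

set_option autoImplicit false

namespace Cfsg.Agent.Lib.Helper4.NilB

open scoped ComplexConjugate
open Cfsg Cfsg.Agent.Lib.Helper1 Cfsg.Agent.Lib.Helper4 Cfsg.Agent.Lib.Helper8
  Cfsg.Agent.Lib.Helper8.BPS
  Cfsg.Agent.Lib.Helper8.MJ Cfsg.Agent.Lib.Helper8.BHI Cfsg.Agent.Lib.Helper8.VK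

universe u

variable {G : Type u} [Group G] [Fintype G] {M : Ideal AlgInt} {p : ℕ} [Fact p.Prime]

/-- vanishing of the normalized contributions against a character outside the block -/
theorem phi_eq_zero_of_not_mem (hM : IsPModular p M) {B : Set (IrrCharacter G)}
    {D : Subgroup G} {eD : Set (IrrCharacter ↥(Subgroup.centralizer (D : Set G)))}
    (hmax : IsMaximalBrauerPair p M B D eD) {χ ψ : IrrCharacter G} (hψ : ψ ∉ B) {v : G}
    (hv : v ∈ D) : phi p M D eD (χ : G → ℂ) (ψ : G → ℂ) v = 0 := by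
  classical
  have : Fintype ↥(cent v) := Fintype.ofFinite _
  have hχcf : IsClassFunction G (χ : G → ℂ) := isClassFunction_of_isCharacter (isCharacter_of_irr χ.2)
  have hψcf : IsClassFunction G (ψ : G → ℂ) := isClassFunction_of_isCharacter (isCharacter_of_irr ψ.2)
  have hC : ∀ t, t ∈ cent v ↔ t * v = v * t := fun t => mem_cent_iff
  have hpair := aOf_isBrauerPairOf hM hmax hv
  have hb : IsPBlock M (subB p M D eD (Subgroup.zpowers v)) := hpair.1.2
  have hind := induced_of_pair_zpowers hM hpair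
  have hu := exists_orderOf_eq_of_mem hmax.1.1.1 hv
  have hsec : secPart p (cent v) (subB p M D eD (Subgroup.zpowers v)) v (ψ : G → ℂ) = 0 := by
    funext c
    by_cases hc : p ∣ orderOf c
    · exact (secPart_spec (p := p) (cent v) _ v (ψ : G → ℂ)).2 c hc
    · unfold secPart
      rw [pRegularPart_of_not_dvd _ hc]
      exact blockPart_section_eq_zero hM (cent v) hC hu hind hψ hc
  unfold phi mm
  show (Nat.card ↥(cent v) : ℂ) * contribF p (cent v) (subB p M D eD (Subgroup.zpowers v)) v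
    (χ : G → ℂ) (ψ : G → ℂ) / _ = 0
  rw [contribF_eq, contrib_eq_classInner hM (cent v) hC hb hχcf hψcf, hsec, classInner_zero_right,
    mul_zero, zero_div]

/-- nonvanishing of the normalized contributions at the identity -/
theorem phi_one_ne_zero (hM : IsPModular p M) {B : Set (IrrCharacter G)}
    {D : Subgroup G} {eD : Set (IrrCharacter ↥(Subgroup.centralizer (D : Set G)))}
    (hmax : IsMaximalBrauerPair p M B D eD) {χ ψ : IrrCharacter G} (hχ : χ ∈ B)
    (h0 : blockHeight p B (χ : G → ℂ) = 0) (hψ : ψ ∈ B) :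
    phi p M D eD (χ : G → ℂ) (ψ : G → ℂ) 1 ≠ 0 := by
  classical
  have : Fintype ↥(cent (1 : G)) := Fintype.ofFinite _
  have hC : ∀ t, t ∈ cent (1 : G) ↔ t * 1 = 1 * t := fun t => mem_cent_iff
  have h1D : (1 : G) ∈ D := D.one_mem
  obtain ⟨-, -, hind, hdef⟩ := central_subsection hM hmax h1D (fun d _ => by rw [mul_one, one_mul])
  have hu1 : ∃ k : ℕ, orderOf (1 : G) = p ^ k := ⟨0, by rw [orderOf_one, pow_zero]⟩
  have hne := contrib_ne_zero_of_height_zero hM (cent (1 : G)) hC hu1 hind hdef hχ h0 hψ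
  have hN := card_carrP_aOf_pos hM hmax h1D
  have hC0 : (Nat.card ↥(cent (1 : G)) : ℂ) ≠ 0 := Nat.cast_ne_zero.2 Nat.card_pos.ne'
  unfold phi mm
  show (Nat.card ↥(cent (1 : G)) : ℂ) * contribF p (cent 1) (subB p M D eD (Subgroup.zpowers 1)) 1
    (χ : G → ℂ) (ψ : G → ℂ) / _ ≠ 0
  rw [contribF_eq]
  apply div_ne_zero (mul_ne_zero hC0 hne)
  exact Nat.cast_ne_zero.2 hN.ne'

/-- `η * χ` is an irreducible character in the block -/
theorem exists_irr_eq_starFun (hT : TstarStatement p M G) (hM : IsPModular p M)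
    {B : Set (IrrCharacter G)}
    {D : Subgroup G} {eD : Set (IrrCharacter ↥(Subgroup.centralizer (D : Set G)))} [Fintype D]
    (hmax : IsMaximalBrauerPair p M B D eD) (hnil : IsNilpotentBlock p M B)
    {χ : IrrCharacter G} (hχ : χ ∈ B) (h0 : blockHeight p B (χ : G → ℂ) = 0)
    (η : IrrCharacter D) :
    ∃ ψ : IrrCharacter G, ψ ∈ B ∧
      (ψ : G → ℂ) = starFun p M (wOf p M D eD (η : D → ℂ)) (χ : G → ℂ) := by
  classical
  have hp : p.Prime := Fact.out
  have hηcf : IsClassFunction D (η : D → ℂ) := isClassFunction_of_isCharacter (isCharacter_of_irr η.2)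
  obtain ⟨hθcf, hθint⟩ := tstar_apply hT hM hmax hnil η hχ
  set θ := starFun p M (wOf p M D eD (η : D → ℂ)) (χ : G → ℂ) with hθ
  have hgen := isGenChar_of_int_inner θ hθcf hθint
  have hnorm : classInner θ θ = 1 := by
    rw [hθ, classInner_starFun_eq hT hM hmax hnil hχ h0 hηcf hηcf, classInner_irr_self η.2]
  obtain ⟨ψ, hψ, hor⟩ := genChar_norm_one hgen hnorm
  have hθ1 : θ 1 = (η : D → ℂ) 1 * (χ : G → ℂ) 1 := by
    rw [hθ]
    apply starFun_wOf_pRegular hM hmax hnil hηcf hχ
    rw [orderOf_one, Nat.dvd_one]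
    exact hp.ne_one
  obtain ⟨n, hn0, hn⟩ := irr_apply_one_pos η.2
  obtain ⟨m, hm0, hm⟩ := irr_apply_one_pos χ.2
  obtain ⟨k, hk0, hk⟩ := irr_apply_one_pos hψ
  have hθψ : θ = ψ := by
    rcases hor with h | h
    · exact h
    · exfalso
      have h1 : θ 1 = -ψ 1 := by rw [h]; rfl
      rw [hθ1, hn, hm, hk] at h1
      have h2 : ((n * m + k : ℕ) : ℂ) = 0 := by
        push_cast
        rw [h1]
        ring
      have h3 : n * m + k = 0 := by exact_mod_cast h2
      have : 0 < n * m := Nat.mul_pos hn0 hm0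
      omega
  refine ⟨⟨ψ, hψ⟩, ?_, hθψ.symm⟩
  by_contra hmem
  have h1 : classInner θ ψ = 0 := by
    rw [hθ, classInner_starFun_wOf hM hmax hnil hηcf hχ
      (isClassFunction_of_isCharacter (isCharacter_of_irr hψ))]
    refine Finset.sum_eq_zero fun v _ => ?_
    rw [phi_eq_zero_of_not_mem hM hmax (ψ := ⟨ψ, hψ⟩) hmem v.2, mul_zero]
  rw [hθψ, classInner_irr_self hψ] at h1
  exact one_ne_zero h1

/-- distinct characters of the defect group give distinct characters of the block -/
theorem starFun_ne_of_ne (hT : TstarStatement p M G) (hM : IsPModular p M)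
    {B : Set (IrrCharacter G)}
    {D : Subgroup G} {eD : Set (IrrCharacter ↥(Subgroup.centralizer (D : Set G)))} [Fintype D]
    (hmax : IsMaximalBrauerPair p M B D eD) (hnil : IsNilpotentBlock p M B)
    {χ : IrrCharacter G} (hχ : χ ∈ B) (h0 : blockHeight p B (χ : G → ℂ) = 0)
    {η η' : IrrCharacter D} (hne : η ≠ η') :
    starFun p M (wOf p M D eD (η : D → ℂ)) (χ : G → ℂ) ≠
      starFun p M (wOf p M D eD (η' : D → ℂ)) (χ : G → ℂ) := by
  intro h
  have hηcf : IsClassFunction D (η : D → ℂ) := isClassFunction_of_isCharacter (isCharacter_of_irr η.2)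
  have hηcf' : IsClassFunction D (η' : D → ℂ) :=
    isClassFunction_of_isCharacter (isCharacter_of_irr η'.2)
  have h1 := classInner_starFun_eq hT hM hmax hnil hχ h0 hηcf hηcf'
  have h2 := classInner_starFun_eq hT hM hmax hnil hχ h0 hηcf hηcf
  rw [← h, h2, classInner_irr_self η.2,
    classInner_irr_ne η.2 η'.2 (fun h' => hne (Subtype.ext h'))] at h1
  exact one_ne_zero h1

/-- every character of the block is of the form `η * χ` -/
theorem exists_starFun_eq (hT : TstarStatement p M G) (hM : IsPModular p M)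
    {B : Set (IrrCharacter G)}
    {D : Subgroup G} {eD : Set (IrrCharacter ↥(Subgroup.centralizer (D : Set G)))} [Fintype D]
    (hmax : IsMaximalBrauerPair p M B D eD) (hnil : IsNilpotentBlock p M B)
    {χ : IrrCharacter G} (hχ : χ ∈ B) (h0 : blockHeight p B (χ : G → ℂ) = 0)
    {ψ : IrrCharacter G} (hψ : ψ ∈ B) :
    ∃ η : IrrCharacter D,
      (ψ : G → ℂ) = starFun p M (wOf p M D eD (η : D → ℂ)) (χ : G → ℂ) := by
  classical
  have : Fintype (IrrCharacter D) := Fintype.ofFinite _
  have hχcf : IsClassFunction G (χ : G → ℂ) := isClassFunction_of_isCharacter (isCharacter_of_irr χ.2)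
  have hψcf : IsClassFunction G (ψ : G → ℂ) := isClassFunction_of_isCharacter (isCharacter_of_irr ψ.2)
  by_contra hcon
  push Not at hcon
  -- all the inner products vanish
  have hzero : ∀ η : IrrCharacter D,
      ∑ v : D, (η : D → ℂ) v * phi p M D eD (χ : G → ℂ) (ψ : G → ℂ) (v : G) = 0 := by
    intro η
    have hηcf : IsClassFunction D (η : D → ℂ) :=
      isClassFunction_of_isCharacter (isCharacter_of_irr η.2)
    obtain ⟨ψ', -, hψ'⟩ := exists_irr_eq_starFun hT hM hmax hnil hχ h0 η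
    rw [← classInner_starFun_wOf hM hmax hnil hηcf hχ hψcf, ← hψ']
    apply classInner_irr_ne ψ'.2 ψ.2
    intro h
    exact hcon η (h ▸ hψ')
  -- the class function `A = conj φ` on `D` is orthogonal to all irreducible characters
  set A : D → ℂ := fun v => conj (phi p M D eD (χ : G → ℂ) (ψ : G → ℂ) (v : G)) with hA
  have hAcf : IsClassFunction D A := by
    intro g h
    show conj (phi p M D eD (χ : G → ℂ) (ψ : G → ℂ) ((h * g * h⁻¹ : D) : G)) =
      conj (phi p M D eD (χ : G → ℂ) (ψ : G → ℂ) (g : G))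
    rw [Subgroup.coe_mul, Subgroup.coe_mul, Subgroup.coe_inv, phi_conj hM hmax hχcf hψcf h.2 g.2]
  have hAorth : ∀ η : IrrCharacter D, classInner A (η : D → ℂ) = 0 := by
    intro η
    have h1 : classInner A (η : D → ℂ) = (Nat.card D : ℂ)⁻¹ *
        conj (∑ v : D, (η : D → ℂ) v * phi p M D eD (χ : G → ℂ) (ψ : G → ℂ) (v : G)) := by
      rw [classInner_def, map_sum]
      congr 1
      refine Finset.sum_congr rfl fun v _ => ?_
      rw [map_mul, hA, mul_comm]
    rw [h1, hzero η, map_zero, mul_zero]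
  have hA0 : A = 0 := by
    rw [class_function_expansion A hAcf]
    refine Finset.sum_eq_zero fun η _ => ?_
    rw [hAorth η, zero_smul]
  have h1 : A 1 = 0 := by rw [hA0]; rfl
  have h2 : phi p M D eD (χ : G → ℂ) (ψ : G → ℂ) 1 = 0 := by
    have : conj (phi p M D eD (χ : G → ℂ) (ψ : G → ℂ) ((1 : D) : G)) = 0 := h1
    rw [Subgroup.coe_one] at this
    have h3 := congrArg conj this
    rwa [Complex.conj_conj, map_zero] at h3
  exact phi_one_ne_zero hM hmax hχ h0 hψ h2

end Cfsg.Agent.Lib.Helper4.NilB
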