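import Mathlib
import Cfsg.Prelude.Def_Blocks
import Cfsg.Prelude.Def_BlockRank
import Cfsg.Prelude.Def_BrauerPairs
import Cfsg.Agent.Lib.Helper4.NilB12
import Cfsg.Agent.Lib.Helper4.NilB8

/-!
# The action of the stable linear characters of the defect group on the characters of a block
-/

set_option autoImplicit false

namespace Cfsg.Agent.Lib.Helper4.NilB

open scoped ComplexConjugate
open Cfsg Cfsg.Agent.Lib.Helper1 Cfsg.Agent.Lib.Helper4 Cfsg.Agent.Lib.Helper8
  Cfsg.Agent.Lib.Helper8.BPS
  Cfsg.Agent.Lib.Helper8.MJ Cfsg.Agent.Lib.Helper8.BHI Cfsg.Agent.Lib.Helper8.VK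

universe u

variable {G : Type u} [Group G] [Fintype G] {M : Ideal AlgInt} {p : ℕ} [Fact p.Prime]

/-- the order of the centralizer times the diagonal contribution of a subsection -/
noncomputable def yy (p : ℕ) (χ : G → ℂ) (u : G) (b : Set (IrrCharacter ↥(cent u))) : ℂ :=
  (Nat.card ↥(cent u) : ℂ) * contribF p (cent u) b u χ χ

omit [Fact p.Prime] in
/-- the diagonal contributions are real and nonnegative -/
theorem yy_real (hM : IsPModular p M) {χ : G → ℂ} (hχ : IsClassFunction G χ) (u : G)
    {b : Set (IrrCharacter ↥(cent u))} (hb : IsPBlock M b) :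
    yy p χ u b = ((yy p χ u b).re : ℂ) ∧ 0 ≤ (yy p χ u b).re := by
  classical
  have : Fintype ↥(cent u) := Fintype.ofFinite _
  have hC : ∀ t, t ∈ cent u ↔ t * u = u * t := fun t => mem_cent_iff
  have h1 := contrib_self_eq_re hM (cent u) hC hb hχ
  have h2 := contrib_self_re_nonneg (p := p) hM (cent u) hC hb hχ
  unfold yy
  rw [contribF_eq, h1]
  have h3 : ((Nat.card ↥(cent u) : ℂ) * ((contrib p (cent u) b u χ χ).re : ℂ)).re =
      (Nat.card ↥(cent u) : ℝ) * (contrib p (cent u) b u χ χ).re := by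
    rw [← Complex.ofReal_natCast, ← Complex.ofReal_mul, Complex.ofReal_re]
  constructor
  · rw [h3]
    push_cast
    rfl
  · rw [h3]
    exact mul_nonneg (Nat.cast_nonneg _) h2

/-- vanishing of the contributions against a character outside the block -/
theorem contribF_eq_zero_of_not_mem (hM : IsPModular p M) {B : Set (IrrCharacter G)}
    (hB : IsPBlock M B) {u : G} (hu : ∃ k : ℕ, orderOf u = p ^ k)
    {b : Set (IrrCharacter ↥(cent u))} (hb : IsPBlock M b) {χ ψ : IrrCharacter G} (hχ : χ ∈ B)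
    (hψ : ψ ∉ B) : contribF p (cent u) b u (χ : G → ℂ) (ψ : G → ℂ) = 0 := by
  classical
  have : Fintype ↥(cent u) := Fintype.ofFinite _
  have hχcf : IsClassFunction G (χ : G → ℂ) := isClassFunction_of_isCharacter (isCharacter_of_irr χ.2)
  have hψcf : IsClassFunction G (ψ : G → ℂ) := isClassFunction_of_isCharacter (isCharacter_of_irr ψ.2)
  have hC : ∀ t, t ∈ cent u ↔ t * u = u * t := fun t => mem_cent_iff
  by_cases hpair : IsBrauerPairOf p M B (Subgroup.zpowers u) b
  · have hind := induced_of_pair_zpowers hM hpair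
    have hsec : secPart p (cent u) b u (ψ : G → ℂ) = 0 := by
      funext c
      by_cases hc : p ∣ orderOf c
      · exact (secPart_spec (p := p) (cent u) _ u (ψ : G → ℂ)).2 c hc
      · unfold secPart
        rw [pRegularPart_of_not_dvd _ hc]
        exact blockPart_section_eq_zero hM (cent u) hC hu hind hψ hc
    rw [contribF_eq, contrib_eq_classInner hM (cent u) hC hb hχcf hψcf, hsec,
      classInner_zero_right]
  · exact contribF_eq_zero_of_not_pair hM hB hu hb hpair hχ _

/-- the inner product of a `*`-function of a stable weight with a class function -/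
theorem sum_starFun_wOf_mul_conj (hM : IsPModular p M) {D : Subgroup G}
    {eD : Set (IrrCharacter ↥(Subgroup.centralizer (D : Set G)))} (η : D → ℂ)
    {χ ξ : G → ℂ} (hχ : IsClassFunction G χ) (hξ : IsClassFunction G ξ) :
    ∑ g : G, starFun p M (wOf p M D eD η) χ g * conj (ξ g) =
      ∑ u ∈ pElts p G, ∑ b ∈ blocksFinset M ↥(cent u),
        wOf p M D eD η u b * ((Nat.card ↥(cent u) : ℂ) * contribF p (cent u) b u χ ξ) := by
  have h1 : ∑ g : G, starFun p M (wOf p M D eD η) χ g * conj (ξ g) =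
      ∑ g : G, starFun p M (wOf p M D eD η) χ g *
        conj (starFun p M (fun _ _ => (1 : ℂ)) ξ g) := by
    refine Finset.sum_congr rfl fun g _ => ?_
    rw [starFun_const_one hM hξ g]
  rw [h1, sum_starFun_mul_conj hM _ _ hχ hξ]
  refine Finset.sum_congr rfl fun u _ => Finset.sum_congr rfl fun b _ => ?_
  rw [map_one, mul_one]

/-- the same for the character itself -/
theorem sum_mul_conj_eq (hM : IsPModular p M) {χ ξ : G → ℂ} (hχ : IsClassFunction G χ)
    (hξ : IsClassFunction G ξ) :
    ∑ g : G, χ g * conj (ξ g) =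
      ∑ u ∈ pElts p G, ∑ b ∈ blocksFinset M ↥(cent u),
        ((Nat.card ↥(cent u) : ℂ) * contribF p (cent u) b u χ ξ) := by
  have h1 : ∑ g : G, χ g * conj (ξ g) =
      ∑ g : G, starFun p M (fun _ _ => (1 : ℂ)) χ g *
        conj (starFun p M (fun _ _ => (1 : ℂ)) ξ g) := by
    refine Finset.sum_congr rfl fun g _ => ?_
    rw [starFun_const_one hM hξ g, starFun_const_one hM hχ g]
  rw [h1, sum_starFun_mul_conj hM _ _ hχ hξ]
  refine Finset.sum_congr rfl fun u _ => Finset.sum_congr rfl fun b _ => ?_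
  rw [map_one, mul_one, one_mul]

/-- **the norm** of `η * χ` for a stable function `η` of absolute value one -/
theorem classInner_starFun_self_of_unit (hM : IsPModular p M) {B : Set (IrrCharacter G)}
    {D : Subgroup G} {eD : Set (IrrCharacter ↥(Subgroup.centralizer (D : Set G)))}
    (hmax : IsMaximalBrauerPair p M B D eD) {η : D → ℂ} (hη : IsStableFun p M D eD η)
    (hunit : ∀ v : D, η v * conj (η v) = 1) {χ : IrrCharacter G} (hχ : χ ∈ B) :
    classInner (starFun p M (wOf p M D eD η) (χ : G → ℂ))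
      (starFun p M (wOf p M D eD η) (χ : G → ℂ)) = 1 := by
  have hχcf : IsClassFunction G (χ : G → ℂ) := isClassFunction_of_isCharacter (isCharacter_of_irr χ.2)
  rw [← classInner_irr_self χ.2, classInner_def, classInner_def, sum_starFun_mul_conj hM _ _ hχcf hχcf,
    sum_mul_conj_eq hM hχcf hχcf]
  congr 1
  refine Finset.sum_congr rfl fun u hu => Finset.sum_congr rfl fun b hb => ?_
  rw [mem_pElts] at hu
  rw [mem_blocksFinset] at hb
  rcases wOf_cases hM hmax hη u b with ⟨v, hv⟩ | ⟨hnot, -⟩
  · rw [hv, hunit v, one_mul]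
  · rw [contribF_eq_zero_of_not_pair hM hmax.1.2.1 hu hb hnot hχ, mul_zero, mul_zero]

/-- **`η * χ` is an irreducible character of the block with the degree of `χ`**, for a stable
linear character `η` of the defect group -/
theorem exists_irr_eq_starFun_of_unit (hT : TstarStatement p M G) (hM : IsPModular p M)
    {B : Set (IrrCharacter G)}
    {D : Subgroup G} {eD : Set (IrrCharacter ↥(Subgroup.centralizer (D : Set G)))} [Fintype D]
    (hmax : IsMaximalBrauerPair p M B D eD) (η : IrrCharacter D)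
    (hη : IsStableFun p M D eD (η : D → ℂ))
    (hunit : ∀ v : D, (η : D → ℂ) v * conj ((η : D → ℂ) v) = 1) (h1 : (η : D → ℂ) 1 = 1)
    {χ : IrrCharacter G} (hχ : χ ∈ B) :
    ∃ ψ : IrrCharacter G, ψ ∈ B ∧
      (ψ : G → ℂ) = starFun p M (wOf p M D eD (η : D → ℂ)) (χ : G → ℂ) ∧
      (ψ : G → ℂ) 1 = (χ : G → ℂ) 1 := by
  classical
  have hp : p.Prime := Fact.out
  have hχcf : IsClassFunction G (χ : G → ℂ) := isClassFunction_of_isCharacter (isCharacter_of_irr χ.2)
  obtain ⟨hθcf, hθint⟩ := tstar_apply_of_stable hT hmax η hη hχ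
  set θ := starFun p M (wOf p M D eD (η : D → ℂ)) (χ : G → ℂ) with hθ
  have hgen := isGenChar_of_int_inner θ hθcf hθint
  have hnorm : classInner θ θ = 1 := classInner_starFun_self_of_unit hM hmax hη hunit hχ
  obtain ⟨ψ, hψ, hor⟩ := genChar_norm_one hgen hnorm
  have hθ1 : θ 1 = (χ : G → ℂ) 1 := by
    rw [hθ, starFun_wOf_pRegular_of_stable hM hmax hη hχ, h1, one_mul]
    rw [orderOf_one, Nat.dvd_one]
    exact hp.ne_one
  obtain ⟨m, hm0, hm⟩ := irr_apply_one_pos χ.2
  obtain ⟨k, hk0, hk⟩ := irr_apply_one_pos hψ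
  have hθψ : θ = ψ := by
    rcases hor with h | h
    · exact h
    · exfalso
      have h2 : θ 1 = -ψ 1 := by rw [h]; rfl
      rw [hθ1, hm, hk] at h2
      have h3 : ((m + k : ℕ) : ℂ) = 0 := by
        push_cast
        rw [h2]
        ring
      have h4 : m + k = 0 := by exact_mod_cast h3
      omega
  refine ⟨⟨ψ, hψ⟩, ?_, hθψ.symm, ?_⟩
  · by_contra hmem
    have h2 : classInner θ ψ = 0 := by
      have hψcf : IsClassFunction G ψ := isClassFunction_of_isCharacter (isCharacter_of_irr hψ)
      rw [hθ, classInner_def, sum_starFun_wOf_mul_conj hM _ hχcf hψcf]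
      rw [Finset.sum_eq_zero, mul_zero]
      intro u hu
      rw [mem_pElts] at hu
      refine Finset.sum_eq_zero fun b hb => ?_
      rw [mem_blocksFinset] at hb
      rw [contribF_eq_zero_of_not_mem hM hmax.1.2.1 hu hb hχ (ψ := ⟨ψ, hψ⟩) hmem, mul_zero, mul_zero]
    rw [hθψ, classInner_irr_self hψ] at h2
    exact one_ne_zero h2
  · show ψ 1 = _
    rw [← hθψ, hθ1]

/-- **a fixed point forces the value one**: if `η * χ = χ` then `η v = 1` at every `v ∈ D` whose
subsection has a positive diagonal contribution at `χ` -/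
theorem eq_one_of_fixed (hM : IsPModular p M) {B : Set (IrrCharacter G)}
    {D : Subgroup G} {eD : Set (IrrCharacter ↥(Subgroup.centralizer (D : Set G)))}
    (hmax : IsMaximalBrauerPair p M B D eD) {η : D → ℂ} (hη : IsStableFun p M D eD η)
    (hunit : ∀ v : D, η v * conj (η v) = 1) {χ : IrrCharacter G}
    (hfix : ∀ g, starFun p M (wOf p M D eD η) (χ : G → ℂ) g = (χ : G → ℂ) g) {v : G} (hv : v ∈ D)
    (hpos : 0 < (yy p (χ : G → ℂ) v (subB p M D eD (Subgroup.zpowers v))).re) :
    η ⟨v, hv⟩ = 1 := by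
  classical
  have hχcf : IsClassFunction G (χ : G → ℂ) := isClassFunction_of_isCharacter (isCharacter_of_irr χ.2)
  have h1 := sum_starFun_wOf_mul_conj (p := p) (M := M) hM (eD := eD) η hχcf hχcf
  have h2 := sum_mul_conj_eq (p := p) (M := M) hM hχcf hχcf
  have h3 : ∑ g : G, starFun p M (wOf p M D eD η) (χ : G → ℂ) g * conj ((χ : G → ℂ) g) =
      ∑ g : G, (χ : G → ℂ) g * conj ((χ : G → ℂ) g) :=
    Finset.sum_congr rfl fun g _ => by rw [hfix g]
  rw [h1, h2] at h3
  -- the real parts
  have hle : ∀ u ∈ pElts p G, ∀ b ∈ blocksFinset M ↥(cent u),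
      0 ≤ (1 - (wOf p M D eD η u b).re) * (yy p (χ : G → ℂ) u b).re := by
    intro u _ b hb
    rw [mem_blocksFinset] at hb
    apply mul_nonneg _ (yy_real hM hχcf u hb).2
    rcases wOf_cases hM hmax hη u b with ⟨w, hw⟩ | ⟨-, h0⟩
    · rw [hw]
      have hn : ‖η w‖ = 1 := by
        have := hunit w
        rw [Complex.mul_conj] at this
        have h5 : Complex.normSq (η w) = 1 := by exact_mod_cast this
        rw [Complex.normSq_eq_norm_sq] at h5
        have h6 : (‖η w‖ - 1) * (‖η w‖ + 1) = 0 := by ring_nf; rw [h5]; ring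
        rcases mul_eq_zero.1 h6 with h7 | h7
        · linarith
        · have := norm_nonneg (η w)
          linarith
      have := Complex.re_le_norm (η w)
      linarith
    · rw [h0, Complex.zero_re]
      linarith
  have hsum : ∑ u ∈ pElts p G, ∑ b ∈ blocksFinset M ↥(cent u),
      (1 - (wOf p M D eD η u b).re) * (yy p (χ : G → ℂ) u b).re = 0 := by
    have h4 := congrArg Complex.re h3
    rw [Complex.re_sum, Complex.re_sum] at h4
    have h5 : ∀ u ∈ pElts p G, (∑ b ∈ blocksFinset M ↥(cent u),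
        (1 - (wOf p M D eD η u b).re) * (yy p (χ : G → ℂ) u b).re) =
        (∑ b ∈ blocksFinset M ↥(cent u), ((Nat.card ↥(cent u) : ℂ) *
          contribF p (cent u) b u (χ : G → ℂ) (χ : G → ℂ))).re -
        (∑ b ∈ blocksFinset M ↥(cent u), wOf p M D eD η u b * ((Nat.card ↥(cent u) : ℂ) *
          contribF p (cent u) b u (χ : G → ℂ) (χ : G → ℂ))).re := by
      intro u _
      rw [Complex.re_sum, Complex.re_sum, ← Finset.sum_sub_distrib]
      refine Finset.sum_congr rfl fun b hb => ?_
      rw [mem_blocksFinset] at hb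
      have hr := (yy_real hM hχcf u hb).1
      show _ = (yy p (χ : G → ℂ) u b).re - (wOf p M D eD η u b * yy p (χ : G → ℂ) u b).re
      rw [Complex.mul_re]
      have him : (yy p (χ : G → ℂ) u b).im = 0 := by
        rw [hr, Complex.ofReal_im]
      rw [him]
      ring
    rw [Finset.sum_congr rfl h5, Finset.sum_sub_distrib, h4, sub_self]
  have hvp : v ∈ pElts p G := mem_pElts.2 (exists_orderOf_eq_of_mem hmax.1.1.1 hv)
  have hbv : subB p M D eD (Subgroup.zpowers v) ∈ blocksFinset M ↥(cent v) :=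
    (mem_blocksFinset _).2 (aOf_isBrauerPairOf hM hmax hv).1.2
  have h6 := (Finset.sum_eq_zero_iff_of_nonneg
    (fun u hu => Finset.sum_nonneg (hle u hu))).1 hsum v hvp
  have h7 := (Finset.sum_eq_zero_iff_of_nonneg (hle v hvp)).1 h6 _ hbv
  rw [wOf_aOf hM hmax hη hv] at h7
  have hre : (η ⟨v, hv⟩).re = 1 := by
    rcases mul_eq_zero.1 h7 with h8 | h8
    · linarith
    · exact absurd h8 hpos.ne'
  have hns : Complex.normSq (η ⟨v, hv⟩) = 1 := by
    have := hunit ⟨v, hv⟩
    rw [Complex.mul_conj] at this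
    exact_mod_cast this
  have him : (η ⟨v, hv⟩).im = 0 := by
    rw [Complex.normSq_apply, hre] at hns
    have : (η ⟨v, hv⟩).im * (η ⟨v, hv⟩).im = 0 := by linarith
    exact mul_self_eq_zero.1 this
  apply Complex.ext
  · rw [hre, Complex.one_re]
  · rw [him, Complex.one_im]

end Cfsg.Agent.Lib.Helper4.NilB
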