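import Mathlib

/-!
# Counting lemmas: duals of finite abelian quotients, and actions with controlled stabilizers
-/

set_option autoImplicit false

namespace Cfsg.Agent.Lib.Helper4.NilB

open scoped commutatorElement

/-- if all the stabilizers of an action on a finite set lie in `K`, the index of `K` divides the
number of points -/
theorem index_dvd_card_of_stabilizer_le {Λ X : Type*} [Group Λ] [MulAction Λ X] [Finite X]
    (K : Subgroup Λ) (h : ∀ x : X, MulAction.stabilizer Λ x ≤ K) : K.index ∣ Nat.card X := by
  classical
  have : Fintype (MulAction.orbitRel.Quotient Λ X) := Fintype.ofFinite _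
  have e := MulAction.selfEquivSigmaOrbitsQuotientStabilizer Λ X
  have hfinS : Finite (Σ ω : MulAction.orbitRel.Quotient Λ X,
      Λ ⧸ MulAction.stabilizer Λ ω.out) := Finite.of_equiv X e
  have hfin : ∀ ω : MulAction.orbitRel.Quotient Λ X,
      Finite (Λ ⧸ MulAction.stabilizer Λ ω.out) := fun ω =>
    Finite.of_injective (fun q : Λ ⧸ MulAction.stabilizer Λ ω.out =>
      (⟨ω, q⟩ : Σ ω : MulAction.orbitRel.Quotient Λ X, Λ ⧸ MulAction.stabilizer Λ ω.out))
      (fun a b hab => eq_of_heq (Sigma.mk.inj_iff.1 hab).2)
  rw [Nat.card_congr e, Nat.card_sigma]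
  apply Finset.dvd_sum
  intro ω _
  rw [← Subgroup.index_eq_card]
  exact Subgroup.index_dvd_of_le (h ω.out)

/-- a subgroup containing the commutator subgroup is normal -/
theorem normal_of_commutator_le {H : Type*} [Group H] {N : Subgroup H}
    (hN : commutator H ≤ N) : N.Normal := by
  constructor
  intro n hn g
  have h1 : ⁅g, n⁆ ∈ N := by
    apply hN
    rw [commutator_def]
    exact Subgroup.commutator_mem_commutator (Subgroup.mem_top g) (Subgroup.mem_top n)
  have h2 : g * n * g⁻¹ = ⁅g, n⁆ * n := by
    rw [commutatorElement_def]
    group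
  rw [h2]
  exact N.mul_mem h1 hn

/-- the homomorphisms to `ℂˣ` which are trivial on a subgroup `N` containing the commutator
subgroup are as many as the index of `N` -/
theorem card_hom_trivial_on {H : Type*} [Group H] [Finite H] (N : Subgroup H)
    (hN : commutator H ≤ N) :
    Nat.card {f : H →* ℂˣ // ∀ x ∈ N, f x = 1} = N.index := by
  have : N.Normal := normal_of_commutator_le hN
  let _ : CommGroup (H ⧸ N) :=
    { (inferInstance : Group (H ⧸ N)) with
      mul_comm := by
        intro a b
        induction a using QuotientGroup.induction_on with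
        | H a =>
          induction b using QuotientGroup.induction_on with
          | H b =>
            rw [← QuotientGroup.mk_mul, ← QuotientGroup.mk_mul, QuotientGroup.eq]
            apply hN
            rw [commutator_def]
            have : (a * b)⁻¹ * (b * a) = ⁅b⁻¹, a⁻¹⁆ := by
              rw [commutatorElement_def]
              group
            rw [this]
            exact Subgroup.commutator_mem_commutator (Subgroup.mem_top _) (Subgroup.mem_top _) }
  have e : {f : H →* ℂˣ // ∀ x ∈ N, f x = 1} ≃ (H ⧸ N →* ℂˣ) :=
    { toFun := fun f => QuotientGroup.lift N f.1 (fun x hx => f.2 x hx)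
      invFun := fun μ => ⟨μ.comp (QuotientGroup.mk' N), fun x hx => by
        rw [MonoidHom.comp_apply, QuotientGroup.mk'_apply, (QuotientGroup.eq_one_iff x).2 hx,
          map_one]⟩
      left_inv := by
        intro f
        apply Subtype.ext
        ext x
        rfl
      right_inv := by
        intro μ
        ext x
        rfl }
  rw [Nat.card_congr e]
  have : NeZero (Monoid.exponent (H ⧸ N)) := ⟨Monoid.exponent_ne_zero_of_finite⟩
  rw [CommGroup.card_monoidHom_of_hasEnoughRootsOfUnity (H ⧸ N) ℂ]
  exact (Subgroup.index_eq_card N).symm

end Cfsg.Agent.Lib.Helper4.NilB
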