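import Mathlib
import Cfsg.Prelude.Def_Blocks
import Cfsg.Prelude.Def_BlockRank
import Cfsg.Prelude.Def_BrauerPairs
import Cfsg.Prelude.Def_BlockFusion
import Cfsg.Agent.Lib.Helper4.NilB13
import Cfsg.Agent.Lib.Helper4.NilB14
import Cfsg.Agent.Lib.Helper1.LinearChar

/-!
# The linear characters of the defect group trivial on the focal subgroup act on the block
-/

set_option autoImplicit false

namespace Cfsg.Agent.Lib.Helper4.NilB

open scoped ComplexConjugate
open Cfsg Cfsg.Agent.Lib.Helper1 Cfsg.Agent.Lib.Helper4 Cfsg.Agent.Lib.Helper8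
  Cfsg.Agent.Lib.Helper8.BPS
  Cfsg.Agent.Lib.Helper8.MJ Cfsg.Agent.Lib.Helper8.BHI Cfsg.Agent.Lib.Helper8.VK

open scoped commutatorElement

universe u

variable {G : Type u} [Group G] [Fintype G] {M : Ideal AlgInt} {p : ℕ} [Fact p.Prime]

/-- positivity of the diagonal contribution of a character of height zero at any subsection of
the defect group -/
theorem yy_pos_of_height_zero (hM : IsPModular p M) {B : Set (IrrCharacter G)}
    {D : Subgroup G} {eD : Set (IrrCharacter ↥(Subgroup.centralizer (D : Set G)))}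
    (hmax : IsMaximalBrauerPair p M B D eD) {χ : IrrCharacter G} (hχ : χ ∈ B)
    (h0 : blockHeight p B (χ : G → ℂ) = 0) {v : G} (hv : v ∈ D) :
    0 < (yy p (χ : G → ℂ) v (subB p M D eD (Subgroup.zpowers v))).re := by
  classical
  have : Fintype ↥(cent v) := Fintype.ofFinite _
  have hMp := isPModular_isPrime hM
  have hχcf : IsClassFunction G (χ : G → ℂ) := isClassFunction_of_isCharacter (isCharacter_of_irr χ.2)
  have hC : ∀ t, t ∈ cent v ↔ t * v = v * t := fun t => mem_cent_iff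
  have hpair := aOf_isBrauerPairOf hM hmax hv
  have hb : IsPBlock M (subB p M D eD (Subgroup.zpowers v)) := hpair.1.2
  have hind := induced_of_pair_zpowers hM hpair
  have hu := exists_orderOf_eq_of_mem hmax.1.1.1 hv
  have h1 := contrib_self_eq_re hM (cent v) hC hb hχcf
  have h3 := not_memLocalIdeal_pow_mul_contrib hM (cent v) hC hu hind hχ hχ h0 h0
  obtain ⟨hr, hnn⟩ := yy_real hM hχcf v hb
  apply lt_of_le_of_ne hnn
  intro h
  apply h3
  have h4 : yy p (χ : G → ℂ) v (subB p M D eD (Subgroup.zpowers v)) = 0 := by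
    rw [hr, ← h, Complex.ofReal_zero]
  unfold yy at h4
  rw [contribF_eq] at h4
  have hC0 : (Nat.card ↥(cent v) : ℂ) ≠ 0 := Nat.cast_ne_zero.2 Nat.card_pos.ne'
  rcases mul_eq_zero.1 h4 with h5 | h5
  · exact absurd h5 hC0
  · rw [h5, mul_zero]
    exact memLocalIdeal_zero hMp.ne_top

/-- positivity of the diagonal contribution of any character of the block at a central element of
the defect group -/
theorem yy_pos_of_central (hM : IsPModular p M) {B : Set (IrrCharacter G)}
    {D : Subgroup G} {eD : Set (IrrCharacter ↥(Subgroup.centralizer (D : Set G)))}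
    (hmax : IsMaximalBrauerPair p M B D eD) {χ : IrrCharacter G} (hχ : χ ∈ B) {v : G} (hv : v ∈ D)
    (hcomm : ∀ d ∈ D, d * v = v * d) :
    0 < (yy p (χ : G → ℂ) v (subB p M D eD (Subgroup.zpowers v))).re := by
  classical
  have : Fintype ↥(cent v) := Fintype.ofFinite _
  have hC : ∀ t, t ∈ cent v ↔ t * v = v * t := fun t => mem_cent_iff
  obtain ⟨-, -, hind, hdef⟩ := central_subsection hM hmax hv hcomm
  have hu := exists_orderOf_eq_of_mem hmax.1.1.1 hv
  have h1 := contrib_self_re_pos hM (cent v) hC hu hind hdef hχ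
  unfold yy
  rw [contribF_eq]
  have hC0 : (0 : ℝ) < (Nat.card ↥(cent v) : ℝ) := by exact_mod_cast Nat.card_pos
  have h2 : ((Nat.card ↥(cent v) : ℂ) * contrib p (cent v) (subB p M D eD (Subgroup.zpowers v)) v
      (χ : G → ℂ) (χ : G → ℂ)).re = (Nat.card ↥(cent v) : ℝ) *
      (contrib p (cent v) (subB p M D eD (Subgroup.zpowers v)) v (χ : G → ℂ) (χ : G → ℂ)).re := by
    rw [Complex.mul_re, Complex.natCast_re, Complex.natCast_im, zero_mul, sub_zero]
  rw [h2]
  exact mul_pos hC0 h1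

section Dual

variable {P : Subgroup G}

/-- the complex function attached to a homomorphism to `ℂˣ` -/
def chOf (l : P →* ℂˣ) : P → ℂ := fun x => ((l x : ℂˣ) : ℂ)

omit [Fintype G] in
theorem chOf_apply (l : P →* ℂˣ) (x : P) : chOf l x = ((l x : ℂˣ) : ℂ) := rfl

omit [Fintype G] in
theorem chOf_mul (l l' : P →* ℂˣ) : chOf (l * l') = fun v => chOf l v * chOf l' v := by
  funext v
  rw [chOf_apply, MonoidHom.mul_apply, Units.val_mul]
  rfl

omit [Fintype G] in
theorem chOf_one : chOf (1 : P →* ℂˣ) = fun _ => (1 : ℂ) := by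
  funext v
  rw [chOf_apply, MonoidHom.one_apply, Units.val_one]

omit [Fintype G] in
theorem chOf_map_one (l : P →* ℂˣ) : chOf l 1 = 1 := by
  rw [chOf_apply, map_one, Units.val_one]

omit [Fintype G] in
theorem chOf_map_mul (l : P →* ℂˣ) (a b : P) : chOf l (a * b) = chOf l a * chOf l b := by
  rw [chOf_apply, map_mul, Units.val_mul]
  rfl

theorem chOf_unit (l : P →* ℂˣ) (v : P) : chOf l v * conj (chOf l v) = 1 := by
  have h1 : (chOf l v) ^ orderOf v = 1 := by
    rw [chOf_apply, ← Units.val_pow_eq_pow_val, ← map_pow, pow_orderOf_eq_one, map_one,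
      Units.val_one]
  have h2 : ‖chOf l v‖ = 1 := Complex.norm_eq_one_of_pow_eq_one h1 (orderOf_pos v).ne'
  rw [Complex.mul_conj, Complex.normSq_eq_norm_sq, h2]
  norm_num

omit [Fintype G] in
theorem isIrrCharacter_chOf (l : P →* ℂˣ) : IsIrrCharacter P (chOf l) := isIrrCharacter_of_hom l

/-- the homomorphisms to `ℂˣ` trivial on `N` -/
def focDual (P N : Subgroup G) : Subgroup (P →* ℂˣ) where
  carrier := {l | ∀ x : P, (x : G) ∈ N → l x = 1}
  mul_mem' := by
    intro a b ha hb x hx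
    rw [MonoidHom.mul_apply, ha x hx, hb x hx, one_mul]
  one_mem' := fun _ _ => rfl
  inv_mem' := by
    intro a ha x hx
    rw [MonoidHom.inv_apply, ha x hx, inv_one]

omit [Fintype G] in
theorem mem_focDual {N : Subgroup G} {l : P →* ℂˣ} :
    l ∈ focDual P N ↔ ∀ x : P, (x : G) ∈ N → l x = 1 := Iff.rfl

/-- the order of the dual -/
theorem card_focDual {N : Subgroup G} (hN : commutator P ≤ N.subgroupOf P) :
    Nat.card ↥(focDual P N) = (N.subgroupOf P).index := by
  rw [← card_hom_trivial_on (N.subgroupOf P) hN]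
  apply Nat.card_congr
  apply Equiv.subtypeEquivRight
  intro l
  rw [mem_focDual]
  constructor
  · intro h x hx
    exact h x (Subgroup.mem_subgroupOf.1 hx)
  · intro h x hx
    exact h x (Subgroup.mem_subgroupOf.2 hx)

end Dual

omit [Fintype G] in
/-- the commutator subgroup of the defect group lies in the focal subgroup -/
theorem commutator_le_focal {P : Subgroup G} (F : FusionSystem P) :
    commutator P ≤ F.focalSubgroup.subgroupOf P := by
  rw [commutator_def, Subgroup.commutator_le]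
  intro a _ b _
  rw [Subgroup.mem_subgroupOf]
  apply Subgroup.subset_closure
  refine ⟨P, conjHom P (b : G), ⟨((a : P)⁻¹ : P), (a⁻¹).2⟩, F.conj_mem le_rfl b.2, ?_⟩
  show ((⁅a, b⁆ : P) : G) = (((a : P)⁻¹ : P) : G)⁻¹ * ((b : G) * (((a : P)⁻¹ : P) : G) * (b : G)⁻¹)
  rw [commutatorElement_def]
  simp only [Subgroup.coe_mul, Subgroup.coe_inv, inv_inv]
  group

omit [Fintype G] [Fact p.Prime] in
/-- a homomorphism trivial on the focal subgroup is a stable function -/
theorem isStableFun_chOf {B : Set (IrrCharacter G)} {P : Subgroup G}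
    {e : Set (IrrCharacter ↥(Subgroup.centralizer (P : Set G)))} {F : FusionSystem P}
    (hF : IsBlockFusionSystemOn p M B P e F) {l : P →* ℂˣ}
    (hl : l ∈ focDual P F.focalSubgroup) : IsStableFun p M P e (chOf l) := by
  intro a g g' hg hg' q hq
  obtain ⟨Q₀, f₀⟩ := a
  set Q : Subgroup G := Q₀.map (MulAut.conj g).toMonoidHom with hQ
  set f := conjBlock Q₀ g f₀ with hf
  have hle : SubpairLE p M Q f P e := hg
  have hleg : SubpairLE p M (Q.map (MulAut.conj (g' * g⁻¹)).toMonoidHom)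
      (conjBlock Q (g' * g⁻¹) f) P e := by
    show Relation.ReflTransGen (NormalSubpairRel p M)
      (pairConj (g' * g⁻¹) (pairConj g ⟨Q₀, f₀⟩)) ⟨P, e⟩
    rw [← pairConj_mul, inv_mul_cancel_right]
    exact hg'
  have hmem : conjHom Q (g' * g⁻¹) ∈ F.Hom Q :=
    (hF.2 Q _).2 ⟨subpairLE_le hle, g' * g⁻¹, fun _ => rfl, subpairLE_le hleg, f, hle, hleg⟩
  have hy : g * q * g⁻¹ ∈ Q := ⟨q, hq, rfl⟩
  have hz : (g * q * g⁻¹)⁻¹ * (g' * q * g'⁻¹) ∈ F.focalSubgroup := by
    apply Subgroup.subset_closure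
    refine ⟨Q, conjHom Q (g' * g⁻¹), ⟨g * q * g⁻¹, hy⟩, hmem, ?_⟩
    show _ = (g * q * g⁻¹)⁻¹ * (g' * g⁻¹ * (g * q * g⁻¹) * (g' * g⁻¹)⁻¹)
    group
  have h1 := conj_mem_of_mem_carrP hg hq
  have h2 := conj_mem_of_mem_carrP hg' hq
  have hzP : (g * q * g⁻¹)⁻¹ * (g' * q * g'⁻¹) ∈ P := P.mul_mem (P.inv_mem h1) h2
  have h3 : (⟨g' * q * g'⁻¹, h2⟩ : P) = ⟨g * q * g⁻¹, h1⟩ * ⟨_, hzP⟩ := by
    apply Subtype.ext
    show g' * q * g'⁻¹ = g * q * g⁻¹ * ((g * q * g⁻¹)⁻¹ * (g' * q * g'⁻¹))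
    group
  show chOf l ⟨g' * q * g'⁻¹, h2⟩ = chOf l ⟨g * q * g⁻¹, h1⟩
  rw [h3, chOf_map_mul, chOf_apply l ⟨_, hzP⟩, hl ⟨_, hzP⟩ hz, Units.val_one, mul_one]

end Cfsg.Agent.Lib.Helper4.NilB
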