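import Mathlib
import Cfsg.Prelude.Def_Blocks
import Cfsg.Prelude.Def_BlockRank
import Cfsg.Prelude.Def_BrauerPairs
import Cfsg.Prelude.Def_BlockFusion
import Cfsg.Agent.Lib.Helper4.NilB15

/-!
# Divisibility of the numbers of characters of given height by the index of the focal subgroup
(conditional on the Broué–Puig theorem)
-/

set_option autoImplicit false

namespace Cfsg.Agent.Lib.Helper4.NilB

open scoped ComplexConjugate
open Cfsg Cfsg.Agent.Lib.Helper1 Cfsg.Agent.Lib.Helper4 Cfsg.Agent.Lib.Helper8
  Cfsg.Agent.Lib.Helper8.BPS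
  Cfsg.Agent.Lib.Helper8.MJ Cfsg.Agent.Lib.Helper8.BHI Cfsg.Agent.Lib.Helper8.VK

universe u

variable {G : Type u} [Group G] [Fintype G] {M : Ideal AlgInt} {p : ℕ} [Fact p.Prime]

/-- the `*`-function attached to a homomorphism `l : P →* ℂˣ` -/
noncomputable def actFun (p : ℕ) (M : Ideal AlgInt) (P : Subgroup G)
    (e : Set (IrrCharacter ↥(Subgroup.centralizer (P : Set G)))) (l : P →* ℂˣ) (χ : G → ℂ) :
    G → ℂ :=
  starFun p M (wOf p M P e (chOf l)) χ

theorem act_spec (hT : TstarStatement p M G) (hM : IsPModular p M) {B : Set (IrrCharacter G)}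
    {P : Subgroup G} {e : Set (IrrCharacter ↥(Subgroup.centralizer (P : Set G)))}
    (hmax : IsMaximalBrauerPair p M B P e) {F : FusionSystem P}
    (hF : IsBlockFusionSystemOn p M B P e F) {l : P →* ℂˣ} (hl : l ∈ focDual P F.focalSubgroup)
    {χ : IrrCharacter G} (hχ : χ ∈ B) :
    ∃ h : IsIrrCharacter G (actFun p M P e l (χ : G → ℂ)),
      (⟨actFun p M P e l (χ : G → ℂ), h⟩ : IrrCharacter G) ∈ B ∧
        actFun p M P e l (χ : G → ℂ) 1 = (χ : G → ℂ) 1 := by
  classical
  have : Fintype P := Fintype.ofFinite _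
  obtain ⟨ψ, hψB, hψ, hψ1⟩ := exists_irr_eq_starFun_of_unit hT hM hmax
    ⟨chOf l, isIrrCharacter_chOf l⟩ (isStableFun_chOf hF hl) (chOf_unit l) (chOf_map_one l) hχ
  have h : IsIrrCharacter G (actFun p M P e l (χ : G → ℂ)) := by
    unfold actFun
    rw [← hψ]
    exact ψ.2
  refine ⟨h, ?_, ?_⟩
  · have : (⟨actFun p M P e l (χ : G → ℂ), h⟩ : IrrCharacter G) = ψ := Subtype.ext hψ.symm
    rw [this]
    exact hψB
  · unfold actFun
    rw [← hψ]
    exact hψ1

omit [Fintype G] [Fact p.Prime] in
theorem blockHeight_eq_of_apply_one {B : Set (IrrCharacter G)} {χ ψ : G → ℂ} (h : ψ 1 = χ 1) :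
    blockHeight p B ψ = blockHeight p B χ := by
  unfold blockHeight charDegree
  rw [h]

/-- the characters of the block of height `h` -/
abbrev HtSet (p : ℕ) (B : Set (IrrCharacter G)) (h : ℕ) : Type u :=
  {χ : IrrCharacter G // χ ∈ B ∧ blockHeight p B (χ : G → ℂ) = h}

/-- the action on the characters of height `h` -/
noncomputable def actX (hT : TstarStatement p M G) (hM : IsPModular p M)
    {B : Set (IrrCharacter G)}
    {P : Subgroup G} {e : Set (IrrCharacter ↥(Subgroup.centralizer (P : Set G)))}
    (hmax : IsMaximalBrauerPair p M B P e) {F : FusionSystem P}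
    (hF : IsBlockFusionSystemOn p M B P e F) (h : ℕ) (l : ↥(focDual P F.focalSubgroup))
    (χ : HtSet p B h) : HtSet p B h :=
  ⟨⟨actFun p M P e (l : P →* ℂˣ) ((χ : IrrCharacter G) : G → ℂ),
    (act_spec hT hM hmax hF l.2 χ.2.1).choose⟩,
    (act_spec hT hM hmax hF l.2 χ.2.1).choose_spec.1, by
      show blockHeight p B (actFun p M P e (l : P →* ℂˣ) ((χ : IrrCharacter G) : G → ℂ)) = h
      rw [blockHeight_eq_of_apply_one (act_spec hT hM hmax hF l.2 χ.2.1).choose_spec.2]
      exact χ.2.2⟩

theorem actX_coe (hT : TstarStatement p M G) (hM : IsPModular p M)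
    {B : Set (IrrCharacter G)}
    {P : Subgroup G} {e : Set (IrrCharacter ↥(Subgroup.centralizer (P : Set G)))}
    (hmax : IsMaximalBrauerPair p M B P e) {F : FusionSystem P}
    (hF : IsBlockFusionSystemOn p M B P e F) (h : ℕ) (l : ↥(focDual P F.focalSubgroup))
    (χ : HtSet p B h) :
    (((actX hT hM hmax hF h l χ : HtSet p B h) : IrrCharacter G) : G → ℂ) =
      actFun p M P e (l : P →* ℂˣ) ((χ : IrrCharacter G) : G → ℂ) := rfl

/-- the action of the dual of `P / foc` on the characters of height `h` of the block -/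
noncomputable def focAction (hT : TstarStatement p M G) (hM : IsPModular p M)
    {B : Set (IrrCharacter G)}
    {P : Subgroup G} {e : Set (IrrCharacter ↥(Subgroup.centralizer (P : Set G)))}
    (hmax : IsMaximalBrauerPair p M B P e) {F : FusionSystem P}
    (hF : IsBlockFusionSystemOn p M B P e F) (h : ℕ) :
    MulAction ↥(focDual P F.focalSubgroup) (HtSet p B h) where
  smul := actX hT hM hmax hF h
  one_smul := by
    intro χ
    apply Subtype.ext
    apply Subtype.ext
    funext g
    show actFun p M P e ((1 : ↥(focDual P F.focalSubgroup)) : P →* ℂˣ)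
      ((χ : IrrCharacter G) : G → ℂ) g = _
    unfold actFun
    rw [Subgroup.coe_one, chOf_one]
    exact starFun_wOf_one hM hmax χ.2.1 g
  mul_smul := by
    intro l l' χ
    apply Subtype.ext
    apply Subtype.ext
    funext g
    show actFun p M P e ((l * l' : ↥(focDual P F.focalSubgroup)) : P →* ℂˣ)
      ((χ : IrrCharacter G) : G → ℂ) g =
      actFun p M P e (l : P →* ℂˣ) (actFun p M P e (l' : P →* ℂˣ)
        ((χ : IrrCharacter G) : G → ℂ)) g
    unfold actFun
    rw [Subgroup.coe_mul, chOf_mul, starFun_starFun hM]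
    congr 1
    funext u b
    exact wOf_mul _ _ u b

/-- a fixed point: the homomorphism is trivial at the elements with positive contribution -/
theorem apply_eq_one_of_smul_eq (hT : TstarStatement p M G) (hM : IsPModular p M)
    {B : Set (IrrCharacter G)}
    {P : Subgroup G} {e : Set (IrrCharacter ↥(Subgroup.centralizer (P : Set G)))}
    (hmax : IsMaximalBrauerPair p M B P e) {F : FusionSystem P}
    (hF : IsBlockFusionSystemOn p M B P e F) (h : ℕ) (l : ↥(focDual P F.focalSubgroup))
    (χ : HtSet p B h) (hfix : actX hT hM hmax hF h l χ = χ) (v : P)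
    (hpos : 0 < (yy p ((χ : IrrCharacter G) : G → ℂ) (v : G)
      (subB p M P e (Subgroup.zpowers (v : G)))).re) : (l : P →* ℂˣ) v = 1 := by
  have hfix' : ∀ g, starFun p M (wOf p M P e (chOf (l : P →* ℂˣ)))
      ((χ : IrrCharacter G) : G → ℂ) g = ((χ : IrrCharacter G) : G → ℂ) g := by
    intro g
    have := congrArg (fun ψ : HtSet p B h => ((ψ : IrrCharacter G) : G → ℂ) g) hfix
    exact this
  have h1 := eq_one_of_fixed hM hmax (isStableFun_chOf hF l.2) (chOf_unit (l : P →* ℂˣ)) hfix'
    v.2 hpos
  apply Units.ext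
  rw [Units.val_one]
  exact h1

/-- **the index of the focal subgroup divides the number of characters of height zero**
(conditional on the Broué–Puig theorem) -/
theorem s4684_of_tstar (hM : IsPModular p M) (hT : TstarStatement p M G)
    {B : Set (IrrCharacter G)}
    {P : Subgroup G} {e : Set (IrrCharacter ↥(Subgroup.centralizer (P : Set G)))}
    (hmax : IsMaximalBrauerPair p M B P e) {F : FusionSystem P}
    (hF : IsBlockFusionSystemOn p M B P e F) :
    (F.focalSubgroup.subgroupOf P).index ∣
      Nat.card {χ : IrrCharacter G // χ ∈ B ∧ blockHeight p B (χ : G → ℂ) = 0} := by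
  classical
  letI := focAction hT hM hmax hF 0
  have key := index_dvd_card_of_stabilizer_le (Λ := ↥(focDual P F.focalSubgroup))
    (X := HtSet p B 0) ⊥ (fun χ => by
      intro l hl
      rw [Subgroup.mem_bot]
      have hfix : actX hT hM hmax hF 0 l χ = χ := hl
      apply Subtype.ext
      apply MonoidHom.ext
      intro v
      exact apply_eq_one_of_smul_eq hT hM hmax hF 0 l χ hfix v
        (yy_pos_of_height_zero hM hmax χ.2.1 χ.2.2 v.2))
  rw [Subgroup.index_bot, card_focDual (commutator_le_focal F)] at key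
  exact key

/-- **the index of `Z(P) ∩ foc` in `Z(P)` divides the number of characters of each height**
(conditional on the Broué–Puig theorem) -/
theorem s4685_of_tstar (hM : IsPModular p M) (hT : TstarStatement p M G)
    {B : Set (IrrCharacter G)}
    {P : Subgroup G} {e : Set (IrrCharacter ↥(Subgroup.centralizer (P : Set G)))}
    (hmax : IsMaximalBrauerPair p M B P e) {F : FusionSystem P}
    (hF : IsBlockFusionSystemOn p M B P e F) (h : ℕ) :
    ((P ⊓ Subgroup.centralizer (P : Set G) ⊓ F.focalSubgroup).subgroupOf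
      (P ⊓ Subgroup.centralizer (P : Set G))).index ∣
      Nat.card {χ : IrrCharacter G // χ ∈ B ∧ blockHeight p B (χ : G → ℂ) = h} := by
  classical
  letI := focAction hT hM hmax hF h
  set Z : Subgroup G := P ⊓ Subgroup.centralizer (P : Set G) with hZ
  set N : Subgroup P := F.focalSubgroup.subgroupOf P with hN
  set Z' : Subgroup P := Z.subgroupOf P with hZ'
  have hcomm : commutator P ≤ N := commutator_le_focal F
  haveI : N.Normal := normal_of_commutator_le hcomm
  -- the subgroup of the homomorphisms trivial on `Z`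
  let K : Subgroup ↥(focDual P F.focalSubgroup) := (focDual P Z).subgroupOf _
  have hstab : ∀ χ : HtSet p B h,
      MulAction.stabilizer ↥(focDual P F.focalSubgroup) χ ≤ K := by
    intro χ l hl
    have hfix : actX hT hM hmax hF h l χ = χ := hl
    show (l : P →* ℂˣ) ∈ focDual P Z
    intro v hv
    apply apply_eq_one_of_smul_eq hT hM hmax hF h l χ hfix v
    apply yy_pos_of_central hM hmax χ.2.1 v.2
    intro d hd
    have := Subgroup.mem_centralizer_iff.1 hv.2 d hd
    exact this
  have key := index_dvd_card_of_stabilizer_le K hstab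
  -- the index of `K`
  have hK : K.index = ((P ⊓ Subgroup.centralizer (P : Set G) ⊓ F.focalSubgroup).subgroupOf
      (P ⊓ Subgroup.centralizer (P : Set G))).index := by
    have h1 : K.index * Nat.card K = Nat.card ↥(focDual P F.focalSubgroup) :=
      Subgroup.index_mul_card K
    have h2 : Nat.card ↥(focDual P F.focalSubgroup) = N.index :=
      card_focDual (commutator_le_focal F)
    have h3 : Nat.card K = (N ⊔ Z').index := by
      rw [← card_hom_trivial_on (N ⊔ Z') (hcomm.trans le_sup_left)]
      apply Nat.card_congr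
      refine
        { toFun := fun k => ⟨((k : ↥(focDual P F.focalSubgroup)) : P →* ℂˣ), ?_⟩
          invFun := fun f => ⟨⟨f.1, ?_⟩, ?_⟩
          left_inv := fun k => rfl
          right_inv := fun f => rfl }
      · intro x hx
        have hker : N ⊔ Z' ≤ ((k : ↥(focDual P F.focalSubgroup)) : P →* ℂˣ).ker := by
          rw [sup_le_iff]
          constructor
          · intro y hy
            rw [MonoidHom.mem_ker]
            exact (k : ↥(focDual P F.focalSubgroup)).2 y (Subgroup.mem_subgroupOf.1 hy)
          · intro y hy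
            rw [MonoidHom.mem_ker]
            exact k.2 y (Subgroup.mem_subgroupOf.1 hy)
        exact MonoidHom.mem_ker.1 (hker hx)
      · intro x hx
        exact f.2 x (le_sup_left (a := N) (b := Z') (Subgroup.mem_subgroupOf.2 hx))
      · show f.1 ∈ focDual P Z
        intro x hx
        exact f.2 x (le_sup_right (a := N) (b := Z') (Subgroup.mem_subgroupOf.2 hx))
    have h4 : N.relIndex (N ⊔ Z') * (N ⊔ Z').index = N.index :=
      Subgroup.relIndex_mul_index le_sup_left
    have h5 : N.relIndex (N ⊔ Z') = F.focalSubgroup.relIndex Z := by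
      rw [Subgroup.relIndex_sup_left, hN, hZ', Subgroup.relIndex_subgroupOf inf_le_left]
    have h6 : ((Z ⊓ F.focalSubgroup).subgroupOf Z).index = F.focalSubgroup.relIndex Z := by
      show (Z ⊓ F.focalSubgroup).relIndex Z = _
      rw [Subgroup.inf_relIndex_left]
    have h7 : (N ⊔ Z').index ≠ 0 := Subgroup.index_ne_zero_of_finite
    rw [h6, ← h5]
    rw [h2, h3, ← h4] at h1
    exact Nat.eq_of_mul_eq_mul_right (Nat.pos_of_ne_zero h7) h1
  rw [hK] at key
  exact key

end Cfsg.Agent.Lib.Helper4.NilB
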