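import Mathlib
import Cfsg.Prelude.Def_Blocks
import Cfsg.Prelude.Def_BlockRank
import Cfsg.Prelude.Def_BrauerPairs
import Cfsg.Agent.Lib.Helper4.NilB8
import Cfsg.Agent.Lib.Helper8.DC1
import Cfsg.Agent.Lib.Helper8.BlockFirstMain3
import Cfsg.Agent.Lib.Helper8.Deflation

/-!
# Nilpotent blocks: one Brauer character, and the heights (conditional on the Broué–Puig theorem)
-/

set_option autoImplicit false

namespace Cfsg.Agent.Lib.Helper4.NilB

open scoped ComplexConjugate
open Cfsg Cfsg.Agent.Lib.Helper1 Cfsg.Agent.Lib.Helper4 Cfsg.Agent.Lib.Helper8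
  Cfsg.Agent.Lib.Helper8.BPS
  Cfsg.Agent.Lib.Helper8.MJ Cfsg.Agent.Lib.Helper8.BHI Cfsg.Agent.Lib.Helper8.VK

universe u

variable {G : Type u} [Group G] [Fintype G] {M : Ideal AlgInt} {p : ℕ} [Fact p.Prime]

omit [Fintype G] [Fact p.Prime] in
/-- a nonempty set of irreducible characters has a member of height zero, whose `p`-valuation is
the minimum -/
theorem exists_height_zero' {B : Set (IrrCharacter G)} (hB : B.Nonempty) :
    ∃ χ₀ ∈ B, blockHeight p B (χ₀ : G → ℂ) = 0 ∧
      sInf ((fun ψ : IrrCharacter G => (charDegree (ψ : G → ℂ)).factorization p) '' B) =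
        (charDegree (χ₀ : G → ℂ)).factorization p := by
  set S := (fun ψ : IrrCharacter G => (charDegree (ψ : G → ℂ)).factorization p) '' B with hS
  have hSne : S.Nonempty := hB.image _
  obtain ⟨χ₀, hχ₀, h⟩ := Nat.sInf_mem hSne
  refine ⟨χ₀, hχ₀, ?_, h.symm⟩
  unfold blockHeight
  rw [← hS, ← h]
  exact Nat.sub_self _

/-- values of the characters of a nilpotent block on the `p`-regular elements -/
theorem exists_pRegular_eq (hT : TstarStatement p M G) (hM : IsPModular p M)
    {B : Set (IrrCharacter G)}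
    {D : Subgroup G} {eD : Set (IrrCharacter ↥(Subgroup.centralizer (D : Set G)))} [Fintype D]
    (hmax : IsMaximalBrauerPair p M B D eD) (hnil : IsNilpotentBlock p M B)
    {χ : IrrCharacter G} (hχ : χ ∈ B) (h0 : blockHeight p B (χ : G → ℂ) = 0)
    {ψ : IrrCharacter G} (hψ : ψ ∈ B) :
    ∃ d : ℕ, ∀ x : G, pRegularPart p (ψ : G → ℂ) x = (d : ℂ) * pRegularPart p (χ : G → ℂ) x := by
  obtain ⟨η, hη⟩ := exists_starFun_eq hT hM hmax hnil hχ h0 hψ
  have hηcf : IsClassFunction D (η : D → ℂ) := isClassFunction_of_isCharacter (isCharacter_of_irr η.2)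
  obtain ⟨d, -, hd⟩ := irr_apply_one_pos η.2
  refine ⟨d, fun x => ?_⟩
  by_cases hx : p ∣ orderOf x
  · rw [pRegularPart_of_dvd _ hx, pRegularPart_of_dvd _ hx, mul_zero]
  · rw [pRegularPart_of_not_dvd _ hx, pRegularPart_of_not_dvd _ hx, hη,
      starFun_wOf_pRegular hM hmax hnil hηcf hχ hx, hd]

/-- **Nilpotent blocks have exactly one irreducible Brauer character** (conditional on the
Broué–Puig theorem). -/
theorem s4689_of_tstar (hM : IsPModular p M) (hT : TstarStatement p M G)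
    {B : Set (IrrCharacter G)} (hnil : IsNilpotentBlock p M B) :
    blockRank p B = 1 ∧ ∃ χ₀ ∈ B, ∀ χ ∈ B, ∃ d : ℕ, ∀ x : G,
      pRegularPart p (χ : G → ℂ) x = (d : ℂ) * pRegularPart p (χ₀ : G → ℂ) x := by
  classical
  have hp : p.Prime := Fact.out
  have hMp := isPModular_isPrime hM
  have hB : IsPBlock M B := hnil.1
  obtain ⟨D, hD⟩ := exists_isDefectGroup (p := p) hMp hB
  obtain ⟨eD, hmax⟩ := exists_isMaximalBrauerPair_defectGroup hM hB hD
  have : Fintype D := Fintype.ofFinite _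
  obtain ⟨χ₁, hχ₁⟩ := isPBlock_nonempty hMp hB
  obtain ⟨χ₀, hχ₀, h0, -⟩ := exists_height_zero' (p := p) (B := B) ⟨χ₁, hχ₁⟩
  have key : ∀ ψ ∈ B, ∃ d : ℕ, ∀ x : G,
      pRegularPart p (ψ : G → ℂ) x = (d : ℂ) * pRegularPart p (χ₀ : G → ℂ) x :=
    fun ψ hψ => exists_pRegular_eq hT hM hmax hnil hχ₀ h0 hψ
  refine ⟨?_, χ₀, hχ₀, key⟩
  -- the rank
  have hspan : Submodule.span ℂ ((fun χ : IrrCharacter G => pRegularPart p (χ : G → ℂ)) '' B) =
      Submodule.span ℂ {pRegularPart p (χ₀ : G → ℂ)} := by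
    apply le_antisymm
    · rw [Submodule.span_le]
      rintro _ ⟨ψ, hψ, rfl⟩
      obtain ⟨d, hd⟩ := key ψ hψ
      have : pRegularPart p (ψ : G → ℂ) = (d : ℂ) • pRegularPart p (χ₀ : G → ℂ) := by
        funext x
        rw [hd x]
        rfl
      show pRegularPart p (ψ : G → ℂ) ∈ _
      rw [this]
      exact Submodule.smul_mem _ _ (Submodule.subset_span rfl)
    · rw [Submodule.span_le]
      rintro _ rfl
      exact Submodule.subset_span ⟨χ₀, hχ₀, rfl⟩
  unfold blockRank
  rw [hspan]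
  apply finrank_span_singleton
  intro h
  have h1 := congrFun h 1
  have hreg : ¬ p ∣ orderOf (1 : G) := by
    rw [orderOf_one, Nat.dvd_one]
    exact hp.ne_one
  rw [pRegularPart_of_not_dvd _ hreg] at h1
  exact irr_apply_one_ne_zero χ₀.2 h1

/-- **The characters of a nilpotent block correspond to the characters of a defect group, the
heights being the `p`-parts of the degrees** (conditional on the Broué–Puig theorem). -/
theorem s4690_of_tstar (hM : IsPModular p M) (hT : TstarStatement p M G)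
    {B : Set (IrrCharacter G)} (hnil : IsNilpotentBlock p M B) {P : Subgroup G}
    (hP : IsDefectGroup p M B P) :
    ∃ Φ : B ≃ IrrCharacter P, ∀ χ : B,
      blockHeight p B ((χ : IrrCharacter G) : G → ℂ) =
        (charDegree ((Φ χ : IrrCharacter P) : P → ℂ)).factorization p := by
  classical
  have hp : p.Prime := Fact.out
  have hMp := isPModular_isPrime hM
  have hB : IsPBlock M B := hnil.1
  obtain ⟨eD, hmax⟩ := exists_isMaximalBrauerPair_defectGroup hM hB hP
  have : Fintype P := Fintype.ofFinite _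
  obtain ⟨χ₁, hχ₁⟩ := isPBlock_nonempty hMp hB
  obtain ⟨χ₀, hχ₀, h0, hinf⟩ := exists_height_zero' (p := p) (B := B) ⟨χ₁, hχ₁⟩
  -- the map
  have hex : ∀ η : IrrCharacter P, ∃ ψ : B,
      ((ψ : IrrCharacter G) : G → ℂ) = starFun p M (wOf p M P eD (η : P → ℂ)) (χ₀ : G → ℂ) := by
    intro η
    obtain ⟨ψ, hψ, h⟩ := exists_irr_eq_starFun hT hM hmax hnil hχ₀ h0 η
    exact ⟨⟨ψ, hψ⟩, h⟩
  choose f hf using hex
  have hinj : Function.Injective f := by
    intro η η' h
    by_contra hne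
    apply starFun_ne_of_ne hT hM hmax hnil hχ₀ h0 hne
    rw [← hf η, ← hf η', h]
  have hsurj : Function.Surjective f := by
    intro ψ
    obtain ⟨η, hη⟩ := exists_starFun_eq hT hM hmax hnil hχ₀ h0 ψ.2
    refine ⟨η, ?_⟩
    apply Subtype.ext
    apply Subtype.ext
    rw [hf η, hη]
  refine ⟨(Equiv.ofBijective f ⟨hinj, hsurj⟩).symm, fun χ => ?_⟩
  set η := (Equiv.ofBijective f ⟨hinj, hsurj⟩).symm χ with hη
  have hfη : f η = χ := (Equiv.ofBijective f ⟨hinj, hsurj⟩).apply_symm_apply χ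
  have hηcf : IsClassFunction P (η : P → ℂ) := isClassFunction_of_isCharacter (isCharacter_of_irr η.2)
  have h1 : ((χ : IrrCharacter G) : G → ℂ) 1 = (η : P → ℂ) 1 * (χ₀ : G → ℂ) 1 := by
    rw [← hfη, hf η]
    apply starFun_wOf_pRegular hM hmax hnil hηcf hχ₀
    rw [orderOf_one, Nat.dvd_one]
    exact hp.ne_one
  obtain ⟨e1, e1pos⟩ := irr_apply_one_eq_charDegree (χ : IrrCharacter G).2
  obtain ⟨e2, e2pos⟩ := irr_apply_one_eq_charDegree η.2
  obtain ⟨e3, e3pos⟩ := irr_apply_one_eq_charDegree χ₀.2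
  have h2 : charDegree ((χ : IrrCharacter G) : G → ℂ) =
      charDegree (η : P → ℂ) * charDegree (χ₀ : G → ℂ) := by
    rw [e1, e2, e3] at h1
    exact_mod_cast h1
  unfold blockHeight
  rw [hinf, h2, Nat.factorization_mul e2pos.ne' e3pos.ne']
  show (charDegree (η : P → ℂ)).factorization p + (charDegree (χ₀ : G → ℂ)).factorization p -
    (charDegree (χ₀ : G → ℂ)).factorization p = _
  rw [Nat.add_sub_cancel]

end Cfsg.Agent.Lib.Helper4.NilB
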