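import Mathlib
import Cfsg.Agent.Lib.Lead.Gaschutz4

set_option autoImplicit false

/-! The norm (relative trace) map: for an abelian normal `p`-subgroup `B` of a finite group `Γ` and a subgroup
`T` of index prime to `p`, the `Γ`-fixed points of `B` form a direct factor of the `T`-fixed points. -/

namespace Cfsg.Agent.Lib.Helper4

open Cfsg.Agent.Lib.Lead

variable {Γ : Type*} [Group Γ]

theorem norm_split [Finite Γ] {p : ℕ} [Fact p.Prime] (T B : Subgroup Γ) [hBn : B.Normal]
    (hBc : ∀ a ∈ B, ∀ b ∈ B, a * b = b * a) (hBp : IsPGroup p B) (hT : (T.index).Coprime p) :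
    ∃ K : Subgroup Γ, K ≤ B ⊓ Subgroup.centralizer (T : Set Γ) ∧
      (B ⊓ Subgroup.center Γ) ⊓ K = ⊥ ∧
      (B ⊓ Subgroup.center Γ) ⊔ K = B ⊓ Subgroup.centralizer (T : Set Γ) := by
  classical
  have hp : p.Prime := Fact.out
  letI : CommGroup B :=
    { (inferInstance : Group B) with
      mul_comm := fun a b => Subtype.ext (hBc a a.2 b b.2) }
  haveI : Fintype (Γ ⧸ T) := Fintype.ofFinite _
  set m : ℕ := Fintype.card (Γ ⧸ T) with hm
  have hmidx : m = T.index := by
    rw [hm, Subgroup.index, Nat.card_eq_fintype_card]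
  have hmcop : m.Coprime p := by rw [hmidx]; exact hT
  have hact : ∀ (g : Γ) (b : B), ((MulAut.conjNormal g b : B) : Γ) = g * b * g⁻¹ := by
    intro g b; rw [MulAut.conjNormal_apply]
  -- the norm map
  set ν : B →* B := ∏ q : Γ ⧸ T, (MulAut.conjNormal (Quotient.out q) : MulAut B).toMonoidHom with hν
  have hνapp : ∀ b : B, ν b = ∏ q : Γ ⧸ T, MulAut.conjNormal (Quotient.out q) b := by
    intro b
    rw [hν, MonoidHom.finset_prod_apply]
    rfl
  -- well-definedness on cosets for T-fixed elements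
  have hfix : ∀ b : B, (b : Γ) ∈ Subgroup.centralizer (T : Set Γ) → ∀ x y : Γ, x⁻¹ * y ∈ T →
      (MulAut.conjNormal x b : B) = MulAut.conjNormal y b := by
    intro b hb x y hxy
    apply Subtype.ext
    rw [hact, hact]
    have h1 := Subgroup.mem_centralizer_iff.mp hb _ hxy
    have h2 : y = x * (x⁻¹ * y) := by group
    rw [h2]
    calc x * ↑b * x⁻¹ = x * (↑b * (x⁻¹ * y) * (x⁻¹ * y)⁻¹) * x⁻¹ := by group
      _ = x * ((x⁻¹ * y) * ↑b * (x⁻¹ * y)⁻¹) * x⁻¹ := by rw [h1]
      _ = x * (x⁻¹ * y) * ↑b * (x * (x⁻¹ * y))⁻¹ := by group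
  -- invariance of the norm
  have hinv : ∀ b : B, (b : Γ) ∈ Subgroup.centralizer (T : Set Γ) → ∀ g : Γ,
      MulAut.conjNormal g (ν b) = ν b := by
    intro b hb g
    rw [hνapp, map_prod]
    have h1 : ∀ q : Γ ⧸ T, MulAut.conjNormal g (MulAut.conjNormal (Quotient.out q) b) =
        (fun x : Γ => (MulAut.conjNormal x b : B)) (g * Quotient.out q) := by
      intro q
      show _ = MulAut.conjNormal (g * Quotient.out q) b
      rw [map_mul]; rfl
    rw [Finset.prod_congr rfl (fun q _ => h1 q)]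
    exact Gaschutz.prod_out_mul T (fun x : Γ => (MulAut.conjNormal x b : B)) (hfix b hb) g
  have hνcen : ∀ b : B, (b : Γ) ∈ Subgroup.centralizer (T : Set Γ) →
      ((ν b : B) : Γ) ∈ Subgroup.center Γ := by
    intro b hb
    rw [Subgroup.mem_center_iff]
    intro g
    have h1 := congrArg (fun z : B => (z : Γ)) (hinv b hb g)
    simp only [hact] at h1
    calc g * ↑(ν b) = (g * ↑(ν b) * g⁻¹) * g := by group
      _ = ↑(ν b) * g := by rw [h1]
  -- on central elements the norm is the m-th power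
  have hνpow : ∀ b : B, (b : Γ) ∈ Subgroup.center Γ → ν b = b ^ m := by
    intro b hb
    rw [hνapp, hm, ← Finset.card_univ, ← Finset.prod_const]
    apply Finset.prod_congr rfl
    intro q _
    apply Subtype.ext
    rw [hact]
    have := Subgroup.mem_center_iff.mp hb (Quotient.out q)
    rw [this, mul_inv_cancel_right]
  set A : Subgroup Γ := B ⊓ Subgroup.centralizer (T : Set Γ) with hA
  set W : Subgroup Γ := B ⊓ Subgroup.center Γ with hW
  have hWA : W ≤ A := by
    intro w hw
    refine Subgroup.mem_inf.mpr ⟨hw.1, ?_⟩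
    rw [Subgroup.mem_centralizer_iff]
    intro t _
    exact Subgroup.mem_center_iff.mp hw.2 t
  set K : Subgroup Γ := A ⊓ (ν.ker).map B.subtype with hK
  refine ⟨K, inf_le_left, ?_, ?_⟩
  · rw [eq_bot_iff]
    intro x hx
    obtain ⟨hxW, hxK⟩ := Subgroup.mem_inf.mp hx
    obtain ⟨b, hbker, hbx⟩ := (Subgroup.mem_inf.mp hxK).2
    have hbx' : (b : Γ) = x := hbx
    have hbcen : (b : Γ) ∈ Subgroup.center Γ := by rw [hbx']; exact hxW.2
    have h1 : b ^ m = 1 := by rw [← hνpow b hbcen]; exact hbker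
    obtain ⟨k, hk⟩ := (IsPGroup.iff_orderOf.mp hBp) b
    have h2 : orderOf b ∣ m := orderOf_dvd_of_pow_eq_one h1
    have h3 : orderOf b = 1 := by
      have hc : (orderOf b).Coprime (orderOf b) := by
        apply Nat.Coprime.coprime_dvd_left h2
        rw [hk]; exact Nat.Coprime.pow_right k hmcop
      exact (Nat.coprime_self _).mp hc
    rw [orderOf_eq_one_iff] at h3
    rw [Subgroup.mem_bot, ← hbx', h3]; rfl
  · apply le_antisymm
    · exact sup_le hWA inf_le_left
    · intro a ha
      obtain ⟨haB, haT⟩ := Subgroup.mem_inf.mp ha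
      set b : B := ⟨a, haB⟩ with hb
      have hνW : ((ν b : B) : Γ) ∈ W := Subgroup.mem_inf.mpr ⟨(ν b).2, hνcen b haT⟩
      -- m-th root inside W
      have hWp : IsPGroup p W := hBp.to_le inf_le_left
      have hcopW : (Nat.card W).Coprime m := by
        obtain ⟨k, hk⟩ := IsPGroup.iff_card.mp hWp
        rw [hk]
        exact Nat.Coprime.pow_left k hmcop.symm
      obtain ⟨u, hu⟩ := (Nat.Coprime.pow_left_bijective hcopW).2 ⟨(ν b : B), hνW⟩
      have hu' : (u : Γ) ^ m = ((ν b : B) : Γ) := by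
        have := congrArg (fun z : W => (z : Γ)) hu
        simpa using this
      have huB : (u : Γ) ∈ B := u.2.1
      have hucen : (u : Γ) ∈ Subgroup.center Γ := u.2.2
      set ub : B := ⟨(u : Γ), huB⟩ with hub
      have hνu : ν ub = ν b := by
        rw [hνpow ub hucen]
        apply Subtype.ext
        rw [Subgroup.coe_pow]
        exact hu'
      have hker : ub⁻¹ * b ∈ ν.ker := by
        rw [MonoidHom.mem_ker, map_mul, map_inv, hνu, inv_mul_cancel]
      have hmemK : (u : Γ)⁻¹ * a ∈ K := by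
        refine Subgroup.mem_inf.mpr ⟨A.mul_mem (A.inv_mem (hWA u.2)) ha, ?_⟩
        exact ⟨ub⁻¹ * b, hker, by simp [hub, hb]⟩
      have : a = (u : Γ) * ((u : Γ)⁻¹ * a) := by group
      rw [this]
      exact Subgroup.mul_mem _ (Subgroup.mem_sup_left u.2) (Subgroup.mem_sup_right hmemK)

end Cfsg.Agent.Lib.Helper4
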