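import Mathlib
import Cfsg.Agent.Lib.Helper2.PConstrained
import Cfsg.Agent.Lib.Helper3.PComp1
import Cfsg.Agent.Lib.Helper4.SolvBalance
import Cfsg.Agent.Lib.Helper9.Hyperfocal1

set_option autoImplicit false

/-!
# `G = N_G(S) O_{p'}(G)` iff `G` is `p`-constrained and `N_G(S)` controls fusion in `S`
-/

namespace Cfsg.Agent.Lib.Helper4.NormSylowFact

open Cfsg

/-- a normal Sylow `p`-subgroup of a group with `O_{p'} = 1` is self-centralizing -/
theorem centralizer_le_of_normal_sylow {H : Type*} [Group H] [Finite H] {p : ℕ} [Fact p.Prime]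
    (S : Sylow p H) [hSn : (S : Subgroup H).Normal] (hO : pPrimeCore p H = ⊥) :
    Subgroup.centralizer ((S : Subgroup H) : Set H) ≤ (S : Subgroup H) := by
  classical
  set C : Subgroup H := Subgroup.centralizer ((S : Subgroup H) : Set H) with hCdef
  have hCn : C.Normal := Subgroup.normal_centralizer
  obtain ⟨P⟩ : Nonempty (Sylow p ↥C) := inferInstance
  have hPS : ∀ q : ↥C, q ∈ (P : Subgroup ↥C) → (q : H) ∈ (S : Subgroup H) := by
    intro q hq
    have h1 : IsPGroup p ↥((P : Subgroup ↥C).map C.subtype ⊔ (S : Subgroup H)) :=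
      IsPGroup.to_sup_of_normal_right (P.isPGroup'.map _) S.isPGroup'
    have h2 := S.is_maximal' h1 le_sup_right
    have h3 : (q : H) ∈ (P : Subgroup ↥C).map C.subtype ⊔ (S : Subgroup H) :=
      Subgroup.mem_sup_left ⟨q, hq, rfl⟩
    rwa [h2] at h3
  have hP : Subgroup.normalizer ((P : Subgroup ↥C) : Set ↥C) ≤
      Subgroup.centralizer ((P : Subgroup ↥C) : Set ↥C) := by
    intro c _
    rw [Subgroup.mem_centralizer_iff]
    intro q hq
    apply Subtype.ext
    have hc : (c : H) ∈ Subgroup.centralizer ((S : Subgroup H) : Set H) := c.2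
    rw [Subgroup.mem_centralizer_iff] at hc
    exact hc (q : H) (hPS q hq)
  set Y : Subgroup ↥C := (MonoidHom.transferSylow P hP).ker with hYdef
  have hcomp : Y.IsComplement' (P : Subgroup ↥C) := MonoidHom.ker_transferSylow_isComplement' P hP
  have hcard : Nat.card ↥Y * Nat.card ↥(P : Subgroup ↥C) = Nat.card ↥C := hcomp.card_mul_card
  have hidx : Nat.card ↥Y = (P : Subgroup ↥C).index := by
    have h1 := (P : Subgroup ↥C).card_mul_index
    have h2 : Nat.card ↥Y * Nat.card ↥(P : Subgroup ↥C) =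
        (P : Subgroup ↥C).index * Nat.card ↥(P : Subgroup ↥C) := by
      rw [hcard, ← h1, mul_comm]
    exact Nat.eq_of_mul_eq_mul_right Nat.card_pos h2
  have hYcop : (Nat.card ↥Y).Coprime p := by
    rw [hidx, Nat.coprime_comm]
    exact (Nat.Prime.coprime_iff_not_dvd Fact.out).mpr P.not_dvd_index
  have hYle : Y ≤ pPrimeCore p ↥C :=
    Cfsg.Agent.Lib.Helper6.le_pPrimeCore (MonoidHom.normal_ker _) hYcop
  have hOC : pPrimeCore p ↥C = ⊥ := by
    have h2 : (pPrimeCore p ↥C).map C.subtype ≤ pPrimeCore p H :=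
      Cfsg.Agent.Lib.Helper3.pPrimeCore_map_subtype_le_of_isSubnormal
        (Subgroup.Normal.isSubnormal hCn)
    rw [hO, le_bot_iff] at h2
    exact (Subgroup.map_eq_bot_iff_of_injective _ C.subtype_injective).mp h2
  have hY1 : Nat.card ↥Y = 1 := by
    rw [hOC, le_bot_iff] at hYle
    rw [hYle, Subgroup.card_bot]
  rw [hY1, one_mul] at hcard
  have hPtop : (P : Subgroup ↥C) = ⊤ := Subgroup.card_eq_iff_eq_top _ |>.mp hcard
  intro c hc
  have : (⟨c, hc⟩ : ↥C) ∈ (P : Subgroup ↥C) := by rw [hPtop]; trivial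
  exact hPS _ this

variable {G : Type*} [Group G] [Finite G] {p : ℕ} [Fact p.Prime]

theorem forward (S : Sylow p G)
    (h : Subgroup.normalizer ((S : Subgroup G) : Set G) ⊔ Cfsg.pPrimeCore p G = ⊤) :
    Cfsg.IsPConstrained p G ∧
      ∀ Q : Subgroup G, Q ≤ (S : Subgroup G) → ∀ g : G,
        Q.map (MulAut.conj g).toMonoidHom ≤ (S : Subgroup G) →
          ∃ n ∈ Subgroup.normalizer ((S : Subgroup G) : Set G),
            ∃ c ∈ Subgroup.centralizer (Q : Set G), g = n * c := by
  classical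
  set K := Cfsg.pPrimeCore p G with hK
  have hKn : K.Normal := inferInstance
  set π := QuotientGroup.mk' K with hπ
  have hπs : Function.Surjective π := QuotientGroup.mk'_surjective K
  have hdecomp : ∀ g : G, ∃ n ∈ Subgroup.normalizer ((S : Subgroup G) : Set G), ∃ k ∈ K,
      n * k = g := by
    intro g
    have hg : g ∈ Subgroup.normalizer ((S : Subgroup G) : Set G) ⊔ K := by rw [h]; trivial
    exact Subgroup.mem_sup_of_normal_right.mp hg
  constructor
  · rw [Cfsg.Agent.Lib.Helper2.PConstrained.isPConstrained_iff_quot]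
    -- the image of `S` is a normal Sylow subgroup of the quotient
    set Sb : Sylow p (G ⧸ K) := S.mapSurjective hπs with hSb
    have hSbn : (Sb : Subgroup (G ⧸ K)).Normal := by
      rw [Sylow.coe_mapSurjective]
      refine ⟨?_⟩
      rintro _ ⟨s, hs, rfl⟩ gb
      obtain ⟨g, rfl⟩ := hπs gb
      obtain ⟨n, hn, k, hk, rfl⟩ := hdecomp g
      have h1 : π (n * k) = π n := by
        rw [map_mul]
        have : π k = 1 := (QuotientGroup.eq_one_iff k).mpr hk
        rw [this, mul_one]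
      rw [h1, ← map_inv, ← map_mul, ← map_mul]
      exact ⟨n * s * n⁻¹, (Subgroup.mem_normalizer_iff.mp hn s).mp hs, rfl⟩
    have hcore : pCore p (G ⧸ K) = (Sb : Subgroup (G ⧸ K)) :=
      le_antisymm (Cfsg.Agent.Lib.Helper6.pCore_le_sylow Sb)
        (Cfsg.Agent.Lib.Helper6.le_pCore hSbn Sb.isPGroup')
    rw [hcore]
    exact centralizer_le_of_normal_sylow Sb (pPrimeCore_quotient_self p)
  · intro Q hQS g hg
    obtain ⟨n, hn, k, hk, rfl⟩ := hdecomp g
    refine ⟨n, hn, k, ?_, rfl⟩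
    rw [Subgroup.mem_centralizer_iff]
    intro x hx
    have h1 : n * k * x * (n * k)⁻¹ ∈ (S : Subgroup G) := hg ⟨x, hx, rfl⟩
    have h2 : k * x * k⁻¹ ∈ (S : Subgroup G) := by
      rw [Subgroup.mem_normalizer_iff] at hn
      rw [hn (k * x * k⁻¹)]
      have e : n * (k * x * k⁻¹) * n⁻¹ = n * k * x * (n * k)⁻¹ := by group
      rw [e]; exact h1
    have h3 : k * x * k⁻¹ * x⁻¹ ∈ (S : Subgroup G) ⊓ K := by
      refine ⟨Subgroup.mul_mem _ h2 (Subgroup.inv_mem _ (hQS hx)), ?_⟩
      have h4 : x * k⁻¹ * x⁻¹ ∈ K := hKn.conj_mem _ (K.inv_mem hk) x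
      have e : k * x * k⁻¹ * x⁻¹ = k * (x * k⁻¹ * x⁻¹) := by group
      rw [e]; exact K.mul_mem hk h4
    rw [Cfsg.Agent.Lib.Helper6.isPGroup_inf_coprime_eq_bot
      (Cfsg.Agent.Lib.Helper6.pPrimeCore_coprime p) S.isPGroup', Subgroup.mem_bot] at h3
    have h5 : k * x * k⁻¹ = x := by
      have := mul_inv_eq_one.mp h3
      exact this
    calc x * k = (k * x * k⁻¹) * k := by rw [h5]
      _ = k * x := by group

theorem backward (S : Sylow p G) (hc : Cfsg.IsPConstrained p G)
    (hf : ∀ Q : Subgroup G, Q ≤ (S : Subgroup G) → ∀ g : G,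
        Q.map (MulAut.conj g).toMonoidHom ≤ (S : Subgroup G) →
          ∃ n ∈ Subgroup.normalizer ((S : Subgroup G) : Set G),
            ∃ c ∈ Subgroup.centralizer (Q : Set G), g = n * c) :
    Subgroup.normalizer ((S : Subgroup G) : Set G) ⊔ Cfsg.pPrimeCore p G = ⊤ := by
  classical
  set K := Cfsg.pPrimeCore p G with hK
  set L := Cfsg.pPrimePCore p G with hL
  have hLn : L.Normal := Cfsg.Agent.Lib.Helper2.PConstrained.pPrimePCore_normal
  set π := QuotientGroup.mk' K with hπ
  obtain ⟨T, hT⟩ := Cfsg.Agent.Lib.Helper9.exists_sylow_map_eq_inf S L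
  have hcT := hc T
  rw [hT] at hcT
  have hfr : Subgroup.normalizer (((T : Subgroup ↥L).map L.subtype : Subgroup G) : Set G) ⊔ L = ⊤ :=
    Sylow.normalizer_sup_eq_top T
  rw [hT] at hfr
  have hmap := Cfsg.Agent.S0629.map_sylow_pPrimePCore T
  rw [hT] at hmap
  set M := Subgroup.normalizer ((S : Subgroup G) : Set G) ⊔ K with hM
  have hSM : (S : Subgroup G) ≤ M := Subgroup.le_normalizer.trans le_sup_left
  have hLM : L ≤ M := by
    intro x hx
    have h1 : π x ∈ pCore p (G ⧸ K) := hx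
    rw [← hmap] at h1
    obtain ⟨y, hy, hyx⟩ := h1
    have h2 : y⁻¹ * x ∈ K := QuotientGroup.eq.mp hyx
    have e : x = y * (y⁻¹ * x) := by group
    rw [e]
    exact M.mul_mem (hSM hy.1) (Subgroup.mem_sup_right h2)
  have hNM : Subgroup.normalizer ((((S : Subgroup G) ⊓ L : Subgroup G)) : Set G) ≤ M := by
    intro g hg
    have h1 : ((S : Subgroup G) ⊓ L).map (MulAut.conj g).toMonoidHom ≤ (S : Subgroup G) := by
      rintro _ ⟨y, hy, rfl⟩
      exact ((Subgroup.mem_normalizer_iff.mp hg y).mp hy).1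
    obtain ⟨n, hn, c, hc', rfl⟩ := hf _ inf_le_left g h1
    exact M.mul_mem (Subgroup.mem_sup_left hn) (hLM (hcT hc'))
  rw [eq_top_iff, ← hfr]
  exact sup_le hNM hLM

end Cfsg.Agent.Lib.Helper4.NormSylowFact
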