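import Mathlib
import Cfsg.Agent.Lib.Helper8.GA3
import Cfsg.Agent.Lib.Helper8.GL23
import Cfsg.Agent.Lib.Helper8.GL3
import Cfsg.Agent.Lib.Helper8.PC6
import Cfsg.Agent.Lib.Helper6.PRes
import Cfsg.Agent.Lib.Lead.Residual
import Cfsg.Agent.Lib.Lead.TateA
import Cfsg.Agent.Lib.Lead.AbelianResidual1
import Cfsg.Agent.S0867

set_option autoImplicit false

/-! `|O^p(G)|` is congruent mod `p` to the sum of the squares of the degrees of the
irreducible characters of `p'`-degree and `p'`-determinantal order. -/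

namespace Cfsg.Agent.Lib.Helper4.OP

open Cfsg Cfsg.Agent.Lib.Helper1 Cfsg.Agent.Lib.Helper4 Cfsg.Agent.Lib.Helper8
open Cfsg.Agent.Lib.Helper2.DetChar Cfsg.Agent.Lib.Helper2.LinExt

universe u

/-- A group generated by its `p'`-elements has no character of determinantal order divisible
by `p`. -/
theorem not_dvd_detOrder {N : Type u} [Group N] [Finite N] (p : ℕ) [hp : Fact p.Prime]
    (hN : Cfsg.pResidual p N = ⊤) {θ : N → ℂ} (hθ : IsCharacter N θ) :
    ¬ p ∣ detOrder θ := by
  classical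
  haveI : Fintype N := Fintype.ofFinite N
  intro hdvd
  obtain ⟨δ, hδ⟩ := exists_detHom hθ
  have hord : detOrder θ = orderOf δ := by
    unfold detOrder
    rw [hδ]
    exact orderOf_injective (coeHom N) coeHom_injective δ
  have hcard : detOrder θ ∣ Nat.card N := detOrder_dvd_card hθ
  rw [hord] at hdvd hcard
  have hpos : 0 < orderOf δ := Nat.pos_of_dvd_of_pos hcard Nat.card_pos
  obtain ⟨m, hm⟩ := hdvd
  have hm0 : m ≠ 0 := by
    rintro rfl
    rw [mul_zero] at hm
    omega
  have hmlt : m < orderOf δ := by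
    rw [hm]
    have := hp.out.two_le
    nlinarith [Nat.pos_of_ne_zero hm0]
  have hne : δ ^ m ≠ 1 := pow_ne_one_of_lt_orderOf hm0 hmlt
  apply hne
  have hle : Cfsg.pResidual p N ≤ (δ ^ m).ker := by
    unfold Cfsg.pResidual
    rw [Subgroup.closure_le]
    intro g hg
    have hg' : (orderOf g).Coprime p := hg
    show g ∈ (δ ^ m).ker
    rw [MonoidHom.mem_ker, MonoidHom.pow_apply]
    have h1 : (δ g ^ m) ^ p = 1 := by
      rw [← pow_mul, mul_comm, ← hm, ← MonoidHom.pow_apply, pow_orderOf_eq_one]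
      rfl
    have h2 : (δ g ^ m) ^ orderOf g = 1 := by
      rw [← pow_mul, mul_comm, pow_mul, ← map_pow, pow_orderOf_eq_one, map_one, one_pow]
    have h3 := pow_gcd_eq_one.2 ⟨h2, h1⟩
    rw [Nat.Coprime.gcd_eq_one hg', pow_one] at h3
    exact h3
  rw [hN] at hle
  ext g
  have := hle (Subgroup.mem_top g)
  rw [MonoidHom.mem_ker] at this
  rw [this]
  rfl

end Cfsg.Agent.Lib.Helper4.OP
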