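import Mathlib
import Cfsg.Agent.Lib.Helper4.OP1

set_option autoImplicit false

namespace Cfsg.Agent.Lib.Helper4.OP

open Cfsg Cfsg.Agent.Lib.Helper1 Cfsg.Agent.Lib.Helper4 Cfsg.Agent.Lib.Helper8
open Cfsg.Agent.Lib.Helper2.DetChar Cfsg.Agent.Lib.Helper2.LinExt

universe u

section

variable {G : Type u} [Group G] [Finite G]

/-- The canonical extension from `O^p(G)`. -/
theorem exists_unique_ext (p : ℕ) [hp : Fact p.Prime]
    (hNn : (Cfsg.pResidual p G).Normal) (θ : Cfsg.pResidual p G → ℂ)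
    (hθ : IsIrrCharacter (Cfsg.pResidual p G) θ)
    (hinv : ∀ (g : G) (n : Cfsg.pResidual p G), θ ⟨g * n * g⁻¹, hNn.conj_mem (n : G) n.2 g⟩ = θ n)
    (hpd : ¬ p ∣ charDegree θ) :
    ∃ χ : G → ℂ, (IsIrrCharacter G χ ∧ (∀ n : Cfsg.pResidual p G, χ n = θ n) ∧
        ¬ p ∣ detOrder χ) ∧
      ∀ χ' : G → ℂ, IsIrrCharacter G χ' → (∀ n : Cfsg.pResidual p G, χ' n = θ n) →
        ¬ p ∣ detOrder χ' → χ' = χ := by
  classical
  obtain ⟨k, hk⟩ := Cfsg.Agent.Lib.Lead.pResidual_index (G := G) p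
  obtain ⟨d, hd0, hd⟩ := irr_apply_one_pos hθ
  have hdeg : charDegree θ = d := charDegree_of_apply_one hd
  rw [hdeg] at hpd
  have hdet : ¬ p ∣ detOrder θ :=
    not_dvd_detOrder p (Cfsg.Agent.Lib.Lead.pResidual_self_eq_top p) (isCharacter_of_irr hθ)
  have hcop : Nat.Coprime (Cfsg.pResidual p G).index (detOrder θ * d) := by
    rw [hk]
    apply Nat.Coprime.pow_left
    apply Nat.Coprime.mul_right
    · exact (Nat.Prime.coprime_iff_not_dvd hp.out).2 hdet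
    · exact (Nat.Prime.coprime_iff_not_dvd hp.out).2 hpd
  obtain ⟨χ, ⟨h1, h2, h3⟩, huniq⟩ :=
    Cfsg.Agent.S0867.result (Cfsg.pResidual p G) θ hθ hinv d hd hcop
  refine ⟨χ, ⟨h1, h2, ?_⟩, ?_⟩
  · rw [h3]
    exact hdet
  · intro χ' hχ' hres hdet'
    apply huniq χ' hχ' hres
    rw [hk]
    apply Nat.Coprime.pow_left
    exact (Nat.Prime.coprime_iff_not_dvd hp.out).2 hdet'

end

end Cfsg.Agent.Lib.Helper4.OP
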