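import Mathlib
import Cfsg.Agent.Lib.Helper4.OP2

set_option autoImplicit false

namespace Cfsg.Agent.Lib.Helper4.OP

open Cfsg Cfsg.Agent.Lib.Helper1 Cfsg.Agent.Lib.Helper4 Cfsg.Agent.Lib.Helper8
open Cfsg.Agent.Lib.Helper2.DetChar Cfsg.Agent.Lib.Helper2.LinExt

universe u

section

variable {G : Type u} [Group G] [Finite G]

theorem charDegree_restrict (N : Subgroup G) (χ : G → ℂ) :
    charDegree (fun n : N => χ n) = charDegree χ := by
  unfold charDegree
  rfl

theorem card_pResidual_modEq (p : ℕ) [hp : Fact p.Prime] :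
    (Nat.card (Cfsg.pResidual p G) : ℤ) ≡
      (∑ᶠ χ ∈ {χ : Cfsg.IrrCharacter G | ¬ p ∣ Cfsg.charDegree (χ : G → ℂ) ∧
        ¬ p ∣ Cfsg.detOrder (χ : G → ℂ)}, (Cfsg.charDegree (χ : G → ℂ) : ℤ) ^ 2) [ZMOD p] := by
  classical
  haveI : Fintype G := Fintype.ofFinite G
  have hNn : (Cfsg.pResidual p G).Normal := Cfsg.Agent.Lib.Lead.pResidual_normal p
  haveI := hNn
  haveI : Fintype (Cfsg.pResidual p G) := Fintype.ofFinite _
  haveI : Fintype (IrrCharacter (Cfsg.pResidual p G)) := Fintype.ofFinite _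
  haveI : Fintype (IrrCharacter G) := Fintype.ofFinite _
  obtain ⟨k, hk⟩ := Cfsg.Agent.Lib.Lead.pResidual_index (G := G) p
  let P : Sylow p G := default
  have hnorm : ∀ x ∈ (P : Subgroup G), Normalizes x (Cfsg.pResidual p G) := by
    intro x _ g
    constructor
    · intro h; exact hNn.conj_mem g h x
    · intro h
      have := hNn.conj_mem _ h x⁻¹
      simpa [mul_assoc] using this
  letI act : MulAction (P : Subgroup G) (IrrCharacter (Cfsg.pResidual p G)) :=
    irrAct (P : Subgroup G) (Cfsg.pResidual p G) hnorm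
  have hPg : IsPGroup p (P : Subgroup G) := P.isPGroup'
  have hfix : ∀ φ : IrrCharacter (Cfsg.pResidual p G),
      InvS (P : Subgroup G) (Cfsg.pResidual p G) (φ : Cfsg.pResidual p G → ℂ) ↔
        ∀ x : (P : Subgroup G), x • φ = φ :=
    fun φ => irrAct_fixed_iff (P : Subgroup G) (Cfsg.pResidual p G) hnorm φ
  have hF : ∀ (x : (P : Subgroup G)) (φ : IrrCharacter (Cfsg.pResidual p G)),
      ((charDegree ((x • φ : IrrCharacter (Cfsg.pResidual p G)) : Cfsg.pResidual p G → ℂ) : ℤ)) ^ 2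
        = (charDegree (φ : Cfsg.pResidual p G → ℂ) : ℤ) ^ 2 := by
    intro x φ
    have e0 : ((x • φ : IrrCharacter (Cfsg.pResidual p G)) : Cfsg.pResidual p G → ℂ) 1 =
        (φ : Cfsg.pResidual p G → ℂ) 1 := by
      show (φ : Cfsg.pResidual p G → ℂ) (conjE _ 1) = (φ : Cfsg.pResidual p G → ℂ) 1
      rw [map_one]
    unfold charDegree
    rw [e0]
  have hsum := sum_modEq_sum_fixedPoints hPg
    (fun φ : IrrCharacter (Cfsg.pResidual p G) =>
      InvS (P : Subgroup G) (Cfsg.pResidual p G) (φ : Cfsg.pResidual p G → ℂ)) hfix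
    (fun φ => (charDegree (φ : Cfsg.pResidual p G → ℂ) : ℤ) ^ 2) hF
  have hcardN : (∑ φ : IrrCharacter (Cfsg.pResidual p G),
      (charDegree (φ : Cfsg.pResidual p G → ℂ) : ℤ) ^ 2) = (Nat.card (Cfsg.pResidual p G) : ℤ) := by
    have := sum_charDegree_sq (Cfsg.pResidual p G)
    exact_mod_cast this
  rw [hcardN] at hsum
  refine hsum.trans ?_
  -- G-invariance
  have hGinv : ∀ φ : IrrCharacter (Cfsg.pResidual p G),
      InvS (P : Subgroup G) (Cfsg.pResidual p G) (φ : Cfsg.pResidual p G → ℂ) →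
      ∀ (g : G) (n : Cfsg.pResidual p G),
        (φ : Cfsg.pResidual p G → ℂ) ⟨g * n * g⁻¹, hNn.conj_mem (n : G) n.2 g⟩ =
          (φ : Cfsg.pResidual p G → ℂ) n := by
    intro φ hφ g n
    have htop : Cfsg.pResidual p G ⊔ (P : Subgroup G) = ⊤ :=
      Cfsg.Agent.Lib.Helper6.pResidual_sup_sylow P
    have hg : g ∈ Cfsg.pResidual p G ⊔ (P : Subgroup G) := by rw [htop]; trivial
    rw [← SetLike.mem_coe, Subgroup.normal_mul] at hg
    obtain ⟨a, ha, b, hb, rfl⟩ := Set.mem_mul.1 hg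
    have h1 : (φ : Cfsg.pResidual p G → ℂ) ⟨b * n * b⁻¹, hNn.conj_mem (n : G) n.2 b⟩ =
        (φ : Cfsg.pResidual p G → ℂ) n := hφ b hb n _ rfl
    have h2 := isClassFunction_irr φ.2 ⟨b * n * b⁻¹, hNn.conj_mem (n : G) n.2 b⟩ ⟨a, ha⟩
    rw [← h1, ← h2]
    refine congrArg (φ : Cfsg.pResidual p G → ℂ) (Subtype.ext ?_)
    simp [mul_assoc]
  -- drop the p-singular ones
  have hdrop : ∑ φ ∈ Finset.univ.filter (fun φ : IrrCharacter (Cfsg.pResidual p G) =>
        InvS (P : Subgroup G) (Cfsg.pResidual p G) (φ : Cfsg.pResidual p G → ℂ)),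
        (charDegree (φ : Cfsg.pResidual p G → ℂ) : ℤ) ^ 2 ≡
      ∑ φ ∈ Finset.univ.filter (fun φ : IrrCharacter (Cfsg.pResidual p G) =>
        InvS (P : Subgroup G) (Cfsg.pResidual p G) (φ : Cfsg.pResidual p G → ℂ) ∧
          ¬ p ∣ charDegree (φ : Cfsg.pResidual p G → ℂ)),
        (charDegree (φ : Cfsg.pResidual p G → ℂ) : ℤ) ^ 2 [ZMOD p] := by
    rw [Finset.sum_filter, Finset.sum_filter, Int.modEq_iff_dvd, ← Finset.sum_sub_distrib]
    apply Finset.dvd_sum
    intro φ _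
    by_cases h1 : InvS (P : Subgroup G) (Cfsg.pResidual p G) (φ : Cfsg.pResidual p G → ℂ)
    · by_cases h2 : p ∣ charDegree (φ : Cfsg.pResidual p G → ℂ)
      · rw [if_pos h1, if_neg (by tauto), zero_sub, dvd_neg]
        exact dvd_pow (Int.natCast_dvd_natCast.2 h2) two_ne_zero
      · rw [if_pos h1, if_pos ⟨h1, h2⟩, sub_self]
        exact dvd_zero _
    · rw [if_neg h1, if_neg (by tauto), sub_self]
      exact dvd_zero _
  refine hdrop.trans ?_
  have hS : {χ : IrrCharacter G | ¬ p ∣ charDegree (χ : G → ℂ) ∧ ¬ p ∣ detOrder (χ : G → ℂ)} =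
      ↑(Finset.univ.filter (fun χ : IrrCharacter G =>
        ¬ p ∣ charDegree (χ : G → ℂ) ∧ ¬ p ∣ detOrder (χ : G → ℂ))) := by
    ext χ; simp
  rw [hS, finsum_mem_coe_finset]
  have hcopS : ∀ χ : IrrCharacter G, ¬ p ∣ charDegree (χ : G → ℂ) →
      (charDegree (χ : G → ℂ)).Coprime (Cfsg.pResidual p G).index := by
    intro χ h
    rw [hk]
    exact Nat.Coprime.pow_right k ((Nat.Prime.coprime_iff_not_dvd hp.out).2 h).symm
  have heq : (∑ χ ∈ Finset.univ.filter (fun χ : IrrCharacter G =>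
        ¬ p ∣ charDegree (χ : G → ℂ) ∧ ¬ p ∣ detOrder (χ : G → ℂ)),
        (charDegree (χ : G → ℂ) : ℤ) ^ 2) =
      ∑ φ ∈ Finset.univ.filter (fun φ : IrrCharacter (Cfsg.pResidual p G) =>
        InvS (P : Subgroup G) (Cfsg.pResidual p G) (φ : Cfsg.pResidual p G → ℂ) ∧
          ¬ p ∣ charDegree (φ : Cfsg.pResidual p G → ℂ)),
        (charDegree (φ : Cfsg.pResidual p G → ℂ) : ℤ) ^ 2 := by
    refine Finset.sum_bij (fun χ hχ =>
      (⟨fun n : Cfsg.pResidual p G => (χ : G → ℂ) n,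
        restrict_irr_of_coprime (Cfsg.pResidual p G) χ.2
          (hcopS χ (Finset.mem_filter.1 hχ).2.1)⟩ : IrrCharacter (Cfsg.pResidual p G))) ?_ ?_ ?_ ?_
    · intro χ hχ
      rw [Finset.mem_filter]
      refine ⟨Finset.mem_univ _, ?_, ?_⟩
      · intro s _ g g' hgg
        show (χ : G → ℂ) g' = (χ : G → ℂ) g
        rw [hgg]
        exact isClassFunction_irr χ.2 _ _
      · show ¬ p ∣ charDegree (fun n : Cfsg.pResidual p G => (χ : G → ℂ) n)
        rw [charDegree_restrict]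
        exact (Finset.mem_filter.1 hχ).2.1
    · intro χ₁ h₁ χ₂ h₂ h12
      have h12' : (fun n : Cfsg.pResidual p G => (χ₁ : G → ℂ) n) =
          fun n : Cfsg.pResidual p G => (χ₂ : G → ℂ) n := congrArg Subtype.val h12
      have hirr := restrict_irr_of_coprime (Cfsg.pResidual p G) χ₁.2
          (hcopS χ₁ (Finset.mem_filter.1 h₁).2.1)
      obtain ⟨χ₀, -, huniq⟩ := exists_unique_ext p hNn
        (fun n : Cfsg.pResidual p G => (χ₁ : G → ℂ) n) hirr
        (fun g n => isClassFunction_irr χ₁.2 _ _)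
        (by rw [charDegree_restrict]; exact (Finset.mem_filter.1 h₁).2.1)
      have e1 := huniq χ₁ χ₁.2 (fun n => rfl) (Finset.mem_filter.1 h₁).2.2
      have e2 := huniq χ₂ χ₂.2 (fun n => (congrFun h12' n).symm) (Finset.mem_filter.1 h₂).2.2
      apply Subtype.ext
      rw [e1, e2]
    · intro φ hφ
      obtain ⟨-, hφinv, hφp⟩ := Finset.mem_filter.1 hφ
      obtain ⟨χ, ⟨h1, h2, h3⟩, -⟩ := exists_unique_ext p hNn (φ : Cfsg.pResidual p G → ℂ) φ.2
        (hGinv φ hφinv) hφp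
      have hdeg : charDegree χ = charDegree (φ : Cfsg.pResidual p G → ℂ) := by
        rw [← charDegree_restrict (Cfsg.pResidual p G) χ]
        congr 1
        funext n
        exact h2 n
      refine ⟨⟨χ, h1⟩, ?_, ?_⟩
      · rw [Finset.mem_filter]
        refine ⟨Finset.mem_univ _, ?_, h3⟩
        show ¬ p ∣ charDegree χ
        rw [hdeg]
        exact hφp
      · apply Subtype.ext
        funext n
        exact h2 n
    · intro χ hχ
      show (charDegree (χ : G → ℂ) : ℤ) ^ 2 =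
        (charDegree (fun n : Cfsg.pResidual p G => (χ : G → ℂ) n) : ℤ) ^ 2
      rw [charDegree_restrict]
  rw [heq]

end

end Cfsg.Agent.Lib.Helper4.OP
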