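import Mathlib
import Cfsg.Agent.Lib.Helper4.OS1

set_option autoImplicit false

/-! S4176: a Sylow-fixed vector with spanning orbit in a `p`-soluble group. -/

namespace Cfsg.Agent.Lib.Helper4.OS

section main

variable {k V H : Type*} [Field k] [AddCommGroup V] [Module k V] [Group H] [Finite H]
  (ρ : Representation k H V)

theorem exists_rep_eq (K P : Subgroup H) (hKP : ∀ h : H, ∃ κ ∈ K, ∃ π ∈ P, h = κ * π) (a : V)
    (hP : ∀ x ∈ P, ρ x a = a) (h : H) : ∃ κ ∈ K, ρ h a = ρ κ a := by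
  obtain ⟨κ, hκ, π, hπ, rfl⟩ := hKP h
  refine ⟨κ, hκ, ?_⟩
  rw [map_mul, Module.End.mul_apply, hP π hπ]

theorem rho_T_of_complement (K P : Subgroup H) [Fintype K]
    (hKP : ∀ h : H, ∃ κ ∈ K, ∃ π ∈ P, h = κ * π)
    (hd : K ⊓ P = ⊥) (a : V) (hP : ∀ x ∈ P, ρ x a = a) (g : H) :
    ρ g (T ρ K a) = T ρ K a := by
  classical
  rw [T_apply, map_sum]
  have hex : ∀ κ : K, ∃ κ' : K, ∃ π ∈ P, g * (κ : H) = (κ' : H) * π := by
    intro κ
    obtain ⟨κ', hκ', π, hπ, h⟩ := hKP (g * κ)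
    exact ⟨⟨κ', hκ'⟩, π, hπ, h⟩
  choose f hf using hex
  have hinj : Function.Injective f := by
    intro κ1 κ2 h12
    obtain ⟨π1, hπ1, h1⟩ := hf κ1
    obtain ⟨π2, hπ2, h2⟩ := hf κ2
    rw [h12] at h1
    have h3 : (κ1 : H)⁻¹ * κ2 = π1⁻¹ * π2 := by
      have e1 : (κ1 : H) = g⁻¹ * ((f κ2 : H) * π1) := by rw [← h1]; group
      have e2 : (κ2 : H) = g⁻¹ * ((f κ2 : H) * π2) := by rw [← h2]; group
      rw [e1, e2]; group
    have h4 : (κ1 : H)⁻¹ * κ2 ∈ K ⊓ P := by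
      refine Subgroup.mem_inf.2 ⟨K.mul_mem (K.inv_mem κ1.2) κ2.2, ?_⟩
      rw [h3]; exact P.mul_mem (P.inv_mem hπ1) hπ2
    rw [hd, Subgroup.mem_bot] at h4
    apply Subtype.ext
    exact inv_mul_eq_one.1 h4
  have hbij : Function.Bijective f := Finite.injective_iff_bijective.1 hinj
  refine Fintype.sum_bijective f hbij _ _ ?_
  intro κ
  obtain ⟨π, hπ, h1⟩ := hf κ
  rw [← Module.End.mul_apply, ← map_mul, h1, map_mul, Module.End.mul_apply, hP π hπ]

theorem T_mem_span (K P : Subgroup H) (hKP : ∀ h : H, ∃ κ ∈ K, ∃ π ∈ P, h = κ * π) (a : V)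
    (hP : ∀ x ∈ P, ρ x a = a) (L : Subgroup H) [Fintype L]
    (hLK : ∀ κ ∈ K, ∃ β ∈ L, ∃ α : H, ρ α a = a ∧ κ = β * α)
    (hspan : Submodule.span k {u : V | ∃ h : H, ρ h a = u} = ⊤) (v : V) :
    T ρ L v ∈ Submodule.span k {T ρ L a} := by
  have h1 : Submodule.span k {u : V | ∃ h : H, ρ h a = u} ≤
      (Submodule.span k {T ρ L a}).comap (T ρ L) := by
    rw [Submodule.span_le]
    rintro u ⟨h, rfl⟩
    obtain ⟨κ, hκ, e⟩ := exists_rep_eq ρ K P hKP a hP h
    obtain ⟨β, hβ, α, hα, rfl⟩ := hLK κ hκ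
    show T ρ L (ρ h a) ∈ Submodule.span k {T ρ L a}
    rw [e, map_mul, Module.End.mul_apply, hα, T_rho ρ L β hβ]
    exact Submodule.mem_span_singleton_self _
  have h2 : v ∈ Submodule.span k {u : V | ∃ h : H, ρ h a = u} := by
    rw [hspan]; exact Submodule.mem_top
  exact h1 h2

theorem cast_card_ne_zero (p : ℕ) [hp : Fact p.Prime] [CharP k p] (K : Subgroup H)
    (hK : (Nat.card K).Coprime p) : (Nat.card K : k) ≠ 0 := by
  intro h
  rw [CharP.cast_eq_zero_iff k p] at h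
  have := Nat.Coprime.eq_one_of_dvd hK.symm h
  exact hp.out.one_lt.ne' this

theorem invariants_le (p : ℕ) [hp : Fact p.Prime] [CharP k p] (K P : Subgroup H) [Fintype K]
    (hKP : ∀ h : H, ∃ κ ∈ K, ∃ π ∈ P, h = κ * π) (a : V)
    (hP : ∀ x ∈ P, ρ x a = a) (hK : (Nat.card K).Coprime p)
    (hspan : Submodule.span k {u : V | ∃ h : H, ρ h a = u} = ⊤) :
    ρ.invariants ≤ Submodule.span k {T ρ K a} := by
  intro v hv
  rw [Representation.mem_invariants] at hv
  have h1 := T_mem_span ρ K P hKP a hP K (fun κ hκ => ⟨κ, hκ, 1, by simp, by simp⟩) hspan v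
  rw [T_of_fixed ρ K v (fun g _ => hv g)] at h1
  have hne := cast_card_ne_zero (k := k) p K hK
  have h2 : v = (Nat.card K : k)⁻¹ • ((Nat.card K : k) • v) := by
    rw [smul_smul, inv_mul_cancel₀ hne, one_smul]
  rw [h2]
  exact Submodule.smul_mem _ _ h1

theorem finrank_invariants_le (p : ℕ) [hp : Fact p.Prime] [CharP k p] (K P : Subgroup H)
    (hKP : ∀ h : H, ∃ κ ∈ K, ∃ π ∈ P, h = κ * π) (a : V)
    (hP : ∀ x ∈ P, ρ x a = a) (hK : (Nat.card K).Coprime p)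
    (hspan : Submodule.span k {u : V | ∃ h : H, ρ h a = u} = ⊤) :
    Module.finrank k ρ.invariants ≤ 1 := by
  classical
  haveI : Fintype K := Fintype.ofFinite K
  have h1 := invariants_le ρ p K P hKP a hP hK hspan
  have h2 : Module.finrank k ρ.invariants ≤ Module.finrank k (Submodule.span k {T ρ K a}) :=
    Submodule.finrank_mono h1
  have h3 : Module.finrank k (Submodule.span k {T ρ K a}) ≤ 1 := by
    have := finrank_span_le_card (R := k) ({T ρ K a} : Set V)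
    simpa using this
  exact h2.trans h3

theorem fixed_of_factor (p : ℕ) [hp : Fact p.Prime] [CharP k p] (K P : Subgroup H)
    (hKP : ∀ h : H, ∃ κ ∈ K, ∃ π ∈ P, h = κ * π) (hd : K ⊓ P = ⊥) (a : V)
    (hP : ∀ x ∈ P, ρ x a = a) (hK : (Nat.card K).Coprime p)
    (hspan : Submodule.span k {u : V | ∃ h : H, ρ h a = u} = ⊤)
    (L : Subgroup H) (hL : L ≤ K)
    (hLK : ∀ κ ∈ K, ∃ β ∈ L, ∃ α : H, ρ α a = a ∧ κ = β * α)
    (b : V) (hb : ∀ β ∈ L, ρ β b = b) (h : H) : ρ h b = b := by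
  classical
  haveI : Fintype K := Fintype.ofFinite K
  haveI : Fintype L := Fintype.ofFinite L
  have hw : ∀ g : H, ρ g (T ρ K a) = T ρ K a := rho_T_of_complement ρ K P hKP hd a hP
  have hKne := cast_card_ne_zero (k := k) p K hK
  have hLne : (Nat.card L : k) ≠ 0 :=
    cast_card_ne_zero (k := k) p L (Nat.Coprime.coprime_dvd_left (Subgroup.card_dvd_of_le hL) hK)
  -- E2
  have hE2 : T ρ L (T ρ K a) = (Nat.card K : k) • T ρ L a := by
    rw [T_apply ρ K, map_sum]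
    have h1 : ∀ κ ∈ (Finset.univ : Finset K), T ρ L (ρ (κ : H) a) = T ρ L a := by
      intro κ _
      obtain ⟨β, hβ, α, hα, e⟩ := hLK κ κ.2
      rw [e, map_mul, Module.End.mul_apply, hα, T_rho ρ L β hβ]
    rw [Finset.sum_congr rfl h1, Finset.sum_const, Finset.card_univ, Nat.card_eq_fintype_card,
      Nat.cast_smul_eq_nsmul]
  have hE3 : T ρ L (T ρ K a) = (Nat.card L : k) • T ρ K a :=
    T_of_fixed ρ L _ (fun g _ => hw g)
  have hTa : T ρ L a = (Nat.card K : k)⁻¹ • ((Nat.card L : k) • T ρ K a) := by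
    rw [← hE3, hE2, smul_smul, inv_mul_cancel₀ hKne, one_smul]
  have hTb : T ρ L b = (Nat.card L : k) • b := T_of_fixed ρ L b hb
  have hmem := T_mem_span ρ K P hKP a hP L hLK hspan b
  rw [Submodule.mem_span_singleton] at hmem
  obtain ⟨c, hc⟩ := hmem
  have hbw : b = ((Nat.card L : k)⁻¹ * c * (Nat.card K : k)⁻¹ * (Nat.card L : k)) • T ρ K a := by
    have : b = (Nat.card L : k)⁻¹ • ((Nat.card L : k) • b) := by
      rw [smul_smul, inv_mul_cancel₀ hLne, one_smul]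
    rw [this, ← hTb, ← hc, hTa]
    simp only [smul_smul]
    congr 1
    ring
  rw [hbw, map_smul, hw]

end main

end Cfsg.Agent.Lib.Helper4.OS
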