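import Mathlib
import Cfsg.Agent.Lib.Helper4.OS2

set_option autoImplicit false

/-! S4176: choice of a `p`-complement adapted to two subgroups of coprime index. -/

namespace Cfsg.Agent.Lib.Helper4.OS

open Cfsg Cfsg.Agent.Lib.Helper7

section grp

universe u

variable {H : Type u} [Group H] [Finite H]

/-- a `p`-complement and a Sylow `p`-subgroup are complements of each other. -/
theorem complement_of_isPCompl (p : ℕ) [hp : Fact p.Prime] (K : Subgroup H) (hK : IsPCompl p K)
    (P : Sylow p H) :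
    (∀ h : H, ∃ κ ∈ K, ∃ π ∈ (P : Subgroup H), h = κ * π) ∧ K ⊓ (P : Subgroup H) = ⊥ := by
  obtain ⟨hcop, n, hn⟩ := hK
  have hcard : Nat.card K * p ^ n = Nat.card H := by rw [← hn]; exact K.card_mul_index
  have hKpos : Nat.card K ≠ 0 := Nat.card_pos.ne'
  have hnd : ¬ p ∣ Nat.card K := by
    intro h
    have := Nat.Coprime.eq_one_of_dvd hcop.symm h
    exact hp.out.one_lt.ne' this
  have hfac : (Nat.card H).factorization p = n := by
    rw [← hcard, Nat.factorization_mul hKpos (pow_ne_zero _ hp.out.pos.ne'),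
      Nat.factorization_pow]
    simp [Nat.factorization_eq_zero_of_not_dvd hnd, hp.out.factorization_self]
  have hP : Nat.card (P : Subgroup H) = p ^ n := by
    rw [Sylow.card_eq_multiplicity, hfac]
  have h1 : Nat.card K * Nat.card (P : Subgroup H) = Nat.card H := by rw [hP, hcard]
  have h2 : (Nat.card K).Coprime (Nat.card (P : Subgroup H)) := by
    rw [hP]; exact Nat.Coprime.pow_right n hcop
  have hc := Subgroup.isComplement'_of_coprime h1 h2
  refine ⟨?_, disjoint_iff.1 hc.disjoint⟩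
  intro h
  obtain ⟨⟨x, y⟩, hxy⟩ := hc.2 h
  exact ⟨x.1, x.2, y.1, y.2, hxy.symm⟩

theorem relIndex_eq_index_of_factor (K A : Subgroup H)
    (hKA : ∀ h : H, ∃ κ ∈ K, ∃ π ∈ A, h = κ * π) : A.relIndex K = A.index := by
  let emb := Subgroup.quotientSubgroupOfEmbeddingOfLE A (le_top : K ≤ ⊤)
  have hsurj : Function.Surjective emb := by
    intro q
    induction q using QuotientGroup.induction_on with
    | H x =>
      obtain ⟨κ, hκ, π, hπ, e⟩ := hKA (x : H)
      refine ⟨QuotientGroup.mk (⟨κ, hκ⟩ : K), ?_⟩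
      have hq' : emb (QuotientGroup.mk (⟨κ, hκ⟩ : K)) =
          QuotientGroup.mk (Subgroup.inclusion le_top (⟨κ, hκ⟩ : K)) :=
        Subgroup.quotientSubgroupOfEmbeddingOfLE_apply_mk A le_top _
      rw [hq', QuotientGroup.eq, Subgroup.mem_subgroupOf]
      have : ((Subgroup.inclusion le_top (⟨κ, hκ⟩ : K) : ↥(⊤ : Subgroup H))⁻¹ * x : ↥(⊤ : Subgroup H)).1
          = π := by
        simp only [Subgroup.coe_mul, Subgroup.coe_inv, Subgroup.coe_inclusion]
        rw [e]; group
      rw [this]; exact hπ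
  have h1 : Nat.card (↥K ⧸ A.subgroupOf K) = Nat.card (↥(⊤ : Subgroup H) ⧸ A.subgroupOf ⊤) :=
    Nat.card_eq_of_bijective emb ⟨emb.injective, hsurj⟩
  have e1 : Nat.card (↥(⊤ : Subgroup H) ⧸ A.subgroupOf ⊤) = A.relIndex ⊤ := rfl
  have e2 : Nat.card (↥K ⧸ A.subgroupOf K) = A.relIndex K := rfl
  rw [e1, e2, Subgroup.relIndex_top_right] at h1
  exact h1

/-- In a `p`-soluble group, for subgroups `A ⊇ P` (a Sylow `p`-subgroup) and `B` of coprime index,
there is a `p`-complement `K` with `K = (K ∩ B)(K ∩ A)`. -/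
theorem exists_pcompl (p : ℕ) [hp : Fact p.Prime] (hsol : IsPSolvable p H) (P : Sylow p H)
    (A B : Subgroup H) (hPA : (P : Subgroup H) ≤ A) (hcop : A.index.Coprime B.index) :
    ∃ K : Subgroup H, (Nat.card K).Coprime p ∧
      (∀ h : H, ∃ κ ∈ K, ∃ π ∈ (P : Subgroup H), h = κ * π) ∧ K ⊓ (P : Subgroup H) = ⊥ ∧
      ∀ κ ∈ K, ∃ β ∈ K ⊓ B, ∃ α ∈ A, κ = β * α := by
  have hB : IsPSolvable p ↥B := PLen.isPSolvable_subgroup' hsol B
  obtain ⟨⟨KB, hKB⟩, -, -⟩ := hallP_of_isPSolvable p hB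
  set U : Subgroup H := KB.map B.subtype with hU
  have hUcard : Nat.card U = Nat.card KB := Subgroup.card_map_of_injective B.subtype_injective
  have hUcop : (Nat.card U).Coprime p := by rw [hUcard]; exact hKB.1
  have hUB : U ≤ B := Subgroup.map_subtype_le KB
  obtain ⟨-, -, hdom⟩ := hallP_of_isPSolvable p hsol
  obtain ⟨K, hK, hUK⟩ := hdom U hUcop
  obtain ⟨hKP, hd⟩ := complement_of_isPCompl p K hK P
  refine ⟨K, hK.1, hKP, hd, ?_⟩
  -- indices
  have hA : A.relIndex K = A.index :=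
    relIndex_eq_index_of_factor K A (fun h => by
      obtain ⟨κ, hκ, π, hπ, e⟩ := hKP h
      exact ⟨κ, hκ, π, hPA hπ, e⟩)
  have hBdvd : B.relIndex K ∣ B.index := by
    have h1 : B.relIndex K ∣ U.relIndex K := Subgroup.relIndex_dvd_of_le_left K hUB
    refine h1.trans ?_
    obtain ⟨x, hx⟩ := hK.2
    obtain ⟨y, hy⟩ := hKB.2
    have h2 : U.relIndex K * K.index = U.index := Subgroup.relIndex_mul_index hUK
    have h3 : U.relIndex B * B.index = U.index := Subgroup.relIndex_mul_index hUB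
    have h4 : U.relIndex B = KB.index := by
      have : U.subgroupOf B = KB := Subgroup.comap_map_eq_self_of_injective B.subtype_injective KB
      unfold Subgroup.relIndex
      rw [this]
    have h5 : (U.relIndex K).Coprime (p ^ y) := by
      apply Nat.Coprime.pow_right
      exact Nat.Coprime.coprime_dvd_left (Subgroup.relIndex_dvd_card U K) hK.1
    have h6 : U.relIndex K ∣ p ^ y * B.index := by
      rw [← hy, ← h4, h3, ← h2]
      exact dvd_mul_right _ _
    exact h5.dvd_of_dvd_mul_left h6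
  have hcop' : (A.subgroupOf K).index.Coprime (B.subgroupOf K).index := by
    have e1 : (A.subgroupOf K).index = A.relIndex K := rfl
    have e2 : (B.subgroupOf K).index = B.relIndex K := rfl
    rw [e1, e2, hA]
    exact Nat.Coprime.coprime_dvd_right hBdvd hcop
  intro κ hκ
  obtain ⟨y, hy, x, hx, e⟩ := exists_mul_of_coprime_index (A.subgroupOf K) (B.subgroupOf K) hcop'
    (⟨κ, hκ⟩ : K)
  rw [Subgroup.mem_subgroupOf] at hy hx
  refine ⟨(y : H), Subgroup.mem_inf.2 ⟨y.2, hy⟩, (x : H), hx, ?_⟩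
  have := congrArg (fun z : K => (z : H)) e
  simpa using this

end grp

section final

variable {k V H : Type*} [Field k] [AddCommGroup V] [Module k V] [Group H] [Finite H]

theorem main (p : ℕ) [Fact p.Prime] [CharP k p] (hsol : Cfsg.IsPSolvable p H)
    (ρ : Representation k H V) (a : V)
    (hfix : ∃ P : Sylow p H, ∀ x : H, x ∈ (P : Subgroup H) → ρ x a = a)
    (hspan : Submodule.span k {u : V | ∃ h : H, ρ h a = u} = ⊤) :
    Module.finrank k ρ.invariants ≤ 1 ∧
    ∀ b : V, (Nat.card {u : V | ∃ h : H, ρ h a = u}).Coprime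
      (Nat.card {u : V | ∃ h : H, ρ h b = u}) → ∀ h : H, ρ h b = b := by
  obtain ⟨P, hP⟩ := hfix
  constructor
  · obtain ⟨⟨K, hK⟩, -, -⟩ := hallP_of_isPSolvable p hsol
    obtain ⟨hKP, -⟩ := complement_of_isPCompl p K hK P
    exact finrank_invariants_le ρ p K (P : Subgroup H) hKP a hP hK.1 hspan
  · intro b hcop h
    rw [card_orbit, card_orbit] at hcop
    have hPA : (P : Subgroup H) ≤ stab ρ a := fun x hx => hP x hx
    obtain ⟨K, hKc, hKP, hd, hfac⟩ := exists_pcompl p hsol P (stab ρ a) (stab ρ b) hPA hcop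
    refine fixed_of_factor ρ p K (P : Subgroup H) hKP hd a hP hKc hspan (K ⊓ stab ρ b) inf_le_left
      ?_ b ?_ h
    · intro κ hκ
      obtain ⟨β, hβ, α, hα, e⟩ := hfac κ hκ
      exact ⟨β, hβ, α, hα, e⟩
    · intro β hβ
      exact (Subgroup.mem_inf.1 hβ).2

end final

end Cfsg.Agent.Lib.Helper4.OS
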