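import Mathlib
import Cfsg.Prelude
import Cfsg.Agent.Lib.Helper7.OmTwoB

set_option autoImplicit false

/-! PK-B2 of S2415 (helper7's root-group chase): stages `Last` and `Neg`. -/

namespace Cfsg.Agent.Lib.Helper7.OmTwo

open Matrix Cfsg.Agent.H9Orth Cfsg.Agent.Lib.Helper2.CDG

variable {F : Type*} [Field F] {ι : Type} [Fintype ι] [DecidableEq ι]
variable {Q : QuadraticForm F (ι → F)}

set_option linter.unusedSectionVars false

variable {hQ : (QuadraticMap.polarBilin Q).Nondegenerate}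
  {K : Subgroup ↥(Cfsg.isometryGroup F ⇑Q)}
  {l : ℕ} {e f : ℕ → ι → F} {z₁ z₂ : ι → F} {N₀ g t : F} {y : ↥(Cfsg.isometryGroup F ⇑Q)}

theorem b2_fe (fr : Fr Q l e f z₁ z₂ N₀) (i j : ℕ) (hi : i ≤ l) (hj : j ≤ l) :
    QuadraticMap.polar (⇑Q) (f i) (e j) = if j = i then 1 else 0 := by
  rw [QuadraticMap.polar_comm]
  exact fr.ef j i hj hi

theorem b2_polar3 (x a b c : ι → F) (r s : F) :
    QuadraticMap.polar (⇑Q) x (r • a + b - s • c) =
      r * QuadraticMap.polar (⇑Q) x a + QuadraticMap.polar (⇑Q) x b -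
        s * QuadraticMap.polar (⇑Q) x c := by
  rw [QuadraticMap.polar_sub_right, QuadraticMap.polar_add_right,
    QuadraticMap.polar_smul_right, QuadraticMap.polar_smul_right, smul_eq_mul, smul_eq_mul]

theorem chase_last (hl : 2 ≤ l) (fr : Fr Q l e f z₁ z₂ N₀) (ya : YAct l e f z₁ z₂ N₀ g t y)
    (hy : y ∈ K) (hu : Upper hQ K l e f) : Last hQ K l e f z₁ N₀ g := by
  have hg := ya.hg
  have hN := fr.hN
  have L1 : ∀ c : F, EK hQ K (e l) (c • (g⁻¹ • e 0 + z₁ - (N₀ * g) • f 0)) := by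
    intro c
    have h1 := hu.2 (l - 1) l (by omega) le_rfl hl c
    have h2 := ek_conj y hy h1
    refine ek_congr h2 ?_ ?_
    · rw [ya.ye (l - 1) (by omega)]
      congr 1
      omega
    · rw [Matrix.mulVec_smul, ya.yfl]
  refine ⟨L1, ?_⟩
  intro j hj0 hjl c
  have h' := hu.1 0 j hj0 (by omega)
  have hh := L1 (-c / (N₀ * g))
  have hc := ek_comm h' hh (fr.ee 0 l (by omega) le_rfl)
    (by rw [b2_fe fr j l (by omega) le_rfl, if_neg (by omega)])
  have s1 : QuadraticMap.polar (⇑Q) (e 0)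
      ((-c / (N₀ * g)) • (g⁻¹ • e 0 + z₁ - (N₀ * g) • f 0)) = c := by
    rw [QuadraticMap.polar_smul_right, b2_polar3, fr.ee 0 0 (by omega) (by omega),
      fr.ez₁ 0 (by omega), fr.ef 0 0 (by omega) (by omega), if_pos rfl, smul_eq_mul]
    field_simp
    ring
  have s2 : QuadraticMap.polar (⇑Q) (f j)
      ((-c / (N₀ * g)) • (g⁻¹ • e 0 + z₁ - (N₀ * g) • f 0)) = 0 := by
    rw [QuadraticMap.polar_smul_right, b2_polar3, b2_fe fr j 0 (by omega) (by omega),
      if_neg (by omega), fr.fz₁ j (by omega), fr.ff j 0 (by omega) (by omega), smul_eq_mul]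
    ring
  rw [s1, s2, fr.qf j (by omega)] at hc
  refine ek_congr hc rfl ?_
  rw [zero_smul, zero_mul, zero_smul, sub_zero, sub_zero]

theorem chase_neg (hl : 2 ≤ l) (fr : Fr Q l e f z₁ z₂ N₀) (ya : YAct l e f z₁ z₂ N₀ g t y)
    (hy : y ∈ K) (hu : Upper hQ K l e f) (hla : Last hQ K l e f z₁ N₀ g) :
    Neg hQ K l e f z₂ N₀ g := by
  have hg := ya.hg
  have hN := fr.hN
  have N1 : ∀ c : F, EK hQ K (f 0) (c • (g • z₂ + e 1 - (N₀ * g ^ 2) • f 1)) := by
    intro c
    have h1 := hla.1 c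
    have h2 := ek_conj y hy h1
    have h3 : EK hQ K (g • f 0)
        (c • (g⁻¹ • e 1 + (z₂ + t • f 0) - (N₀ * g) • f 1)) := by
      refine ek_congr h2 ya.yel ?_
      rw [Matrix.mulVec_smul, Matrix.mulVec_sub, Matrix.mulVec_add, Matrix.mulVec_smul,
        Matrix.mulVec_smul, ya.ye 0 (by omega), ya.yf 0 (by omega), ya.yz]
    have h4 := ek_shift (ek_smul_left hg h3) (-(c * g * t))
    refine ek_congr h4 rfl ?_
    match_scalars
    all_goals (try field_simp)
    all_goals (try ring)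
  have N2 : ∀ j, 2 ≤ j → j ≤ l → ∀ c : F, EK hQ K (f 0) (c • f j) := by
    intro j hj2 hjl c
    have h' := hu.2 1 j (by omega) hjl hj2 (-c / (N₀ * g ^ 2))
    have hh := N1 1
    rw [one_smul] at hh
    have hc := ek_comm h' hh
      (by rw [fr.ef 1 0 (by omega) (by omega), if_neg (by omega)])
      (by rw [QuadraticMap.polar_smul_left, fr.ff j 0 hjl (by omega), smul_zero])
    have s1 : QuadraticMap.polar (⇑Q) (e 1) (g • z₂ + e 1 - (N₀ * g ^ 2) • f 1)
        = -(N₀ * g ^ 2) := by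
      rw [b2_polar3, fr.ez₂ 1 (by omega), fr.ee 1 1 (by omega) (by omega),
        fr.ef 1 1 (by omega) (by omega), if_pos rfl]
      ring
    have s2 : QuadraticMap.polar (⇑Q) ((-c / (N₀ * g ^ 2)) • f j)
        (g • z₂ + e 1 - (N₀ * g ^ 2) • f 1) = 0 := by
      rw [QuadraticMap.polar_smul_left, b2_polar3, fr.fz₂ j hjl,
        b2_fe fr j 1 hjl (by omega), if_neg (by omega), fr.ff j 1 hjl (by omega), smul_eq_mul]
      ring
    have s3 : Q ((-c / (N₀ * g ^ 2)) • f j) = 0 := by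
      rw [QuadraticMap.map_smul, fr.qf j hjl, smul_zero]
    rw [s1, s2, s3] at hc
    refine ek_congr hc rfl ?_
    rw [zero_smul, zero_mul, zero_smul, sub_zero, sub_zero, smul_smul]
    congr 1
    field_simp
  refine ⟨N1, ?_⟩
  intro j hj1 hjl c
  rcases Nat.lt_or_ge j 2 with hj | hj
  · have hj' : j = 1 := by omega
    subst hj'
    have h' := hla.2 1 (by omega) (by omega) c
    have hh := N2 l hl le_rfl 1
    rw [one_smul] at hh
    have hc := ek_comm h' hh
      (by rw [fr.ef l 0 le_rfl (by omega), if_neg (by omega)])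
      (by rw [QuadraticMap.polar_smul_left, fr.ff 1 0 (by omega) (by omega), smul_zero])
    have s2 : QuadraticMap.polar (⇑Q) (c • f 1) (f l) = 0 := by
      rw [QuadraticMap.polar_smul_left, fr.ff 1 l (by omega) le_rfl, smul_zero]
    have s3 : Q (c • f 1) = 0 := by
      rw [QuadraticMap.map_smul, fr.qf 1 (by omega), smul_zero]
    rw [fr.ef l l le_rfl le_rfl, if_pos rfl, s2, s3] at hc
    refine ek_congr hc rfl ?_
    rw [zero_smul, zero_mul, zero_smul, sub_zero, sub_zero, one_smul]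
  · exact N2 j hj hjl c

end Cfsg.Agent.Lib.Helper7.OmTwo
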