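import Mathlib

/-!
# S2493 swarm, packages K2a and K2a': involutions in `Perm α`
-/

set_option autoImplicit false

namespace Cfsg.Agent.Lib.Lead.Ore

open Equiv Equiv.Perm

variable {α : Type*} [Fintype α] [DecidableEq α]

/-- **K2a**. cycle type of an involution. -/
theorem cycleType_of_mul_self (ι : Perm α) (h : ι * ι = 1) :
    ι.cycleType = Multiset.replicate (ι.support.card / 2) 2 ∧ Even ι.support.card ∧
      Perm.sign ι = (-1) ^ (ι.support.card / 2) := by
  have hpow : ι ^ 2 = 1 := by rw [pow_two]; exact h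
  have hord : orderOf ι ∣ 2 := orderOf_dvd_of_pow_eq_one hpow
  have hall : ∀ k ∈ ι.cycleType, k = 2 := by
    intro k hk
    have h1 : k ∣ 2 := (Equiv.Perm.dvd_of_mem_cycleType hk).trans hord
    have h2 : 2 ≤ k := Equiv.Perm.two_le_of_mem_cycleType hk
    exact Nat.le_antisymm (Nat.le_of_dvd (by norm_num) h1) h2
  have hrep : ι.cycleType = Multiset.replicate (Multiset.card ι.cycleType) 2 :=
    Multiset.eq_replicate.mpr ⟨rfl, hall⟩
  have hsum : ι.support.card = 2 * Multiset.card ι.cycleType := by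
    rw [← Equiv.Perm.sum_cycleType]
    conv_lhs => rw [hrep]
    rw [Multiset.sum_replicate, smul_eq_mul, mul_comm]
  have hhalf : ι.support.card / 2 = Multiset.card ι.cycleType := by omega
  refine ⟨?_, ⟨Multiset.card ι.cycleType, by omega⟩, ?_⟩
  · rw [hhalf]; exact hrep
  · rw [Equiv.Perm.sign_of_cycleType, Equiv.Perm.sum_cycleType, hhalf, hsum]
    rw [pow_add, pow_mul]
    simp

/-- **K2a'**. an involution moving at least four points has two disjoint transpositions. -/
theorem exists_two_swaps (ι : Perm α) (h : ι * ι = 1) (hc : 4 ≤ ι.support.card) :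
    ∃ a b c d : α, a ≠ b ∧ a ≠ c ∧ a ≠ d ∧ b ≠ c ∧ b ≠ d ∧ c ≠ d ∧
      ι a = b ∧ ι b = a ∧ ι c = d ∧ ι d = c := by
  have hsq : ∀ x, ι (ι x) = x := by
    intro x
    have h2 : (ι * ι) x = x := by rw [h]; rfl
    rwa [Equiv.Perm.mul_apply] at h2
  have hne : ι.support.Nonempty := by rw [← Finset.card_pos]; omega
  obtain ⟨a, ha⟩ := hne
  have hab : ι a ≠ a := Equiv.Perm.mem_support.mp ha
  have hpair : ({a, ι a} : Finset α).card = 2 := Finset.card_pair (Ne.symm hab)
  obtain ⟨c, hcs, hcn⟩ := Finset.exists_mem_notMem_of_card_lt_card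
    (s := ({a, ι a} : Finset α)) (t := ι.support) (by rw [hpair]; omega)
  have hca : c ≠ a := fun e => hcn (e ▸ Finset.mem_insert_self _ _)
  have hcb : c ≠ ι a := fun e =>
    hcn (e ▸ Finset.mem_insert_of_mem (Finset.mem_singleton_self _))
  have hcd : ι c ≠ c := Equiv.Perm.mem_support.mp hcs
  have hda : ι c ≠ a := by
    intro e
    apply hcb
    rw [← e, hsq]
  have hdb : ι c ≠ ι a := fun e => hca (ι.injective e)
  exact ⟨a, ι a, c, ι c, Ne.symm hab, Ne.symm hca, Ne.symm hda, Ne.symm hcb, Ne.symm hdb,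
    Ne.symm hcd, rfl, hsq a, rfl, hsq c⟩

end Cfsg.Agent.Lib.Lead.Ore
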