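import Mathlib
import Cfsg.Agent.Lib.Helper4.Ore_K2a

/-!
# S2493 swarm, packages K2b and K2b': the `(p q)`-trick
-/

set_option autoImplicit false

namespace Cfsg.Agent.Lib.Lead.Ore

open Equiv Equiv.Perm

variable {α : Type*} [Fintype α] [DecidableEq α]

omit [Fintype α] in
/-- two transpositions of an involution inside an invariant set of moved points -/
theorem exists_two_swaps_in (ι : Perm α) (h : ι * ι = 1) (A : Finset α)
    (hA : ∀ x ∈ A, ι x ≠ x ∧ ι x ∈ A) (hc : 4 ≤ A.card) :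
    ∃ a b c d : α, a ∈ A ∧ b ∈ A ∧ c ∈ A ∧ d ∈ A ∧ a ≠ b ∧ a ≠ c ∧ a ≠ d ∧ b ≠ c ∧ b ≠ d ∧
      c ≠ d ∧ ι a = b ∧ ι b = a ∧ ι c = d ∧ ι d = c := by
  have hsq : ∀ x, ι (ι x) = x := by
    intro x
    have h2 : (ι * ι) x = x := by rw [h]; rfl
    rwa [Equiv.Perm.mul_apply] at h2
  have hne : A.Nonempty := by rw [← Finset.card_pos]; omega
  obtain ⟨a, ha⟩ := hne
  have hab : ι a ≠ a := (hA a ha).1
  have hpair : ({a, ι a} : Finset α).card = 2 := Finset.card_pair (Ne.symm hab)
  obtain ⟨c, hcs, hcn⟩ := Finset.exists_mem_notMem_of_card_lt_card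
    (s := ({a, ι a} : Finset α)) (t := A) (by rw [hpair]; omega)
  have hca : c ≠ a := fun e => hcn (e ▸ Finset.mem_insert_self _ _)
  have hcb : c ≠ ι a := fun e =>
    hcn (e ▸ Finset.mem_insert_of_mem (Finset.mem_singleton_self _))
  have hcd : ι c ≠ c := (hA c hcs).1
  have hda : ι c ≠ a := by
    intro e
    apply hcb
    rw [← e, hsq]
  have hdb : ι c ≠ ι a := fun e => hca (ι.injective e)
  exact ⟨a, ι a, c, ι c, ha, (hA a ha).2, hcs, (hA c hcs).2, Ne.symm hab, Ne.symm hca,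
    Ne.symm hda, Ne.symm hcb, Ne.symm hdb, Ne.symm hcd, rfl, hsq a, rfl, hsq c⟩

/-- **K2b**. the `(p q)`-trick: a fixed point `p` and a moved point `q`. -/
theorem cycleType_mul_swap (ι : Perm α) (h : ι * ι = 1) (p q : α) (hp : ι p = p) (hq : ι q ≠ q) :
    (ι * swap p q).cycleType = {3} + Multiset.replicate (ι.support.card / 2 - 1) 2 ∧
      Perm.sign (ι * swap p q) = (-1) ^ (ι.support.card / 2 - 1) := by
  have hsq : ∀ x, ι (ι x) = x := by
    intro x
    have h2 : (ι * ι) x = x := by rw [h]; rfl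
    rwa [Equiv.Perm.mul_apply] at h2
  obtain ⟨hct, -, hsign⟩ := cycleType_of_mul_self ι h
  have hpq : p ≠ q := fun e => hq (e ▸ hp)
  have hpq' : p ≠ ι q := by
    intro e
    apply hq
    have : ι p = ι (ι q) := by rw [← e]
    rw [hp, hsq] at this
    rw [← this]; exact hp
  have hqq' : q ≠ ι q := Ne.symm hq
  have hcard2 : 2 ≤ ι.support.card := by
    have h1 : q ∈ ι.support := Equiv.Perm.mem_support.mpr hq
    have h2 : ι q ∈ ι.support := Equiv.Perm.apply_mem_support.mpr h1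
    have h3 : ({q, ι q} : Finset α) ⊆ ι.support := by
      intro x hx
      rcases Finset.mem_insert.mp hx with e | e
      · rw [e]; exact h1
      · rw [Finset.mem_singleton] at e; rw [e]; exact h2
    have h4 := Finset.card_le_card h3
    rwa [Finset.card_pair hqq'] at h4
  -- κ
  set κ : Perm α := swap q (ι q) * ι with hκ
  have hκq : κ q = q := by
    rw [hκ, Equiv.Perm.mul_apply, Equiv.swap_apply_right]
  have hκq' : κ (ι q) = ι q := by
    rw [hκ, Equiv.Perm.mul_apply, hsq, Equiv.swap_apply_left]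
  have hκp : κ p = p := by
    rw [hκ, Equiv.Perm.mul_apply, hp, Equiv.swap_apply_of_ne_of_ne hpq hpq']
  have hι : ι = swap q (ι q) * κ := by
    rw [hκ, ← mul_assoc, Equiv.swap_mul_self, one_mul]
  have hdisj1 : Equiv.Perm.Disjoint (swap q (ι q)) κ := by
    intro x
    by_cases hx1 : x = q
    · right; rw [hx1]; exact hκq
    by_cases hx2 : x = ι q
    · right; rw [hx2]; exact hκq'
    left; exact Equiv.swap_apply_of_ne_of_ne hx1 hx2
  -- cycle type of κ
  have hκct : κ.cycleType = Multiset.replicate (ι.support.card / 2 - 1) 2 := by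
    have h1 : ι.cycleType = (swap q (ι q)).cycleType + κ.cycleType := by
      conv_lhs => rw [hι]
      exact Equiv.Perm.Disjoint.cycleType_mul hdisj1
    rw [hct, Equiv.Perm.isSwap_iff_cycleType.mp (Equiv.Perm.swap_isSwap_iff.mpr hqq')] at h1
    have h2 : ι.support.card / 2 = (ι.support.card / 2 - 1) + 1 := by omega
    rw [h2, Multiset.replicate_succ] at h1
    have h3 : ({2} : Multiset ℕ) + κ.cycleType = 2 ::ₘ κ.cycleType := by
      rw [← Multiset.singleton_add]
    rw [h3] at h1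
    have h4 := (Multiset.cons_inj_right 2).mp h1
    rw [← h4]
  -- the three-cycle
  set τ : Perm α := swap q (ι q) * swap p q with hτ
  have hτ3 : τ.IsThreeCycle := by
    rw [hτ, Equiv.swap_comm p q]
    exact Equiv.Perm.isThreeCycle_swap_mul_swap_same hqq' (Ne.symm hpq) (Ne.symm hpq')
  have hdisj2 : Equiv.Perm.Disjoint κ τ := by
    intro x
    by_cases hx1 : x = q
    · left; rw [hx1]; exact hκq
    by_cases hx2 : x = ι q
    · left; rw [hx2]; exact hκq'
    by_cases hx3 : x = p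
    · left; rw [hx3]; exact hκp
    right
    rw [hτ, Equiv.Perm.mul_apply, Equiv.swap_apply_of_ne_of_ne hx3 hx1,
      Equiv.swap_apply_of_ne_of_ne hx1 hx2]
  have hprod : ι * swap p q = κ * τ := by
    rw [hτ, ← mul_assoc, ← (Equiv.Perm.Disjoint.commute hdisj1).eq, ← hι]
  refine ⟨?_, ?_⟩
  · rw [hprod, Equiv.Perm.Disjoint.cycleType_mul hdisj2, hκct, hτ3.cycleType, add_comm]
  · rw [Equiv.Perm.sign_mul, hsign, Equiv.Perm.sign_swap hpq]
    have h2 : ι.support.card / 2 = (ι.support.card / 2 - 1) + 1 := by omega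
    conv_lhs => rw [h2, pow_succ]
    simp

/-- **K2b'**. two transpositions surviving the `(p q)`-trick. -/
theorem exists_two_swaps_mul_swap (ι : Perm α) (h : ι * ι = 1) (p q : α) (hp : ι p = p)
    (hq : ι q ≠ q) (hc : 6 ≤ ι.support.card) :
    ∃ a b c d : α, a ≠ b ∧ a ≠ c ∧ a ≠ d ∧ b ≠ c ∧ b ≠ d ∧ c ≠ d ∧
      (ι * swap p q) a = b ∧ (ι * swap p q) b = a ∧ (ι * swap p q) c = d ∧
      (ι * swap p q) d = c := by
  have hsq : ∀ x, ι (ι x) = x := by
    intro x
    have h2 : (ι * ι) x = x := by rw [h]; rfl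
    rwa [Equiv.Perm.mul_apply] at h2
  have hqq' : q ≠ ι q := Ne.symm hq
  have hqs : q ∈ ι.support := Equiv.Perm.mem_support.mpr hq
  have hq's : ι q ∈ ι.support := Equiv.Perm.apply_mem_support.mpr hqs
  have hsub : ({q, ι q} : Finset α) ⊆ ι.support := by
    intro x hx
    rcases Finset.mem_insert.mp hx with e | e
    · rw [e]; exact hqs
    · rw [Finset.mem_singleton] at e; rw [e]; exact hq's
  have hAcard : (ι.support \ {q, ι q}).card = ι.support.card - 2 := by
    rw [Finset.card_sdiff_of_subset hsub, Finset.card_pair hqq']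
  have hA : ∀ x ∈ ι.support \ {q, ι q}, ι x ≠ x ∧ ι x ∈ ι.support \ {q, ι q} := by
    intro x hx
    obtain ⟨hx1, hx2⟩ := Finset.mem_sdiff.mp hx
    have hx3 : x ≠ q := fun e => hx2 (e ▸ Finset.mem_insert_self _ _)
    have hx4 : x ≠ ι q := fun e =>
      hx2 (e ▸ Finset.mem_insert_of_mem (Finset.mem_singleton_self _))
    refine ⟨Equiv.Perm.mem_support.mp hx1, Finset.mem_sdiff.mpr
      ⟨Equiv.Perm.apply_mem_support.mpr hx1, ?_⟩⟩
    intro hmem
    rcases Finset.mem_insert.mp hmem with e | e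
    · apply hx4
      rw [← e, hsq]
    · rw [Finset.mem_singleton] at e
      exact hx3 (ι.injective e)
  obtain ⟨a, b, c, d, ha, hb, hc', hd, hab, hac, had, hbc, hbd, hcd, h1, h2, h3, h4⟩ :=
    exists_two_swaps_in ι h (ι.support \ {q, ι q}) hA (by rw [hAcard]; omega)
  have key : ∀ x ∈ ι.support \ {q, ι q}, (ι * swap p q) x = ι x := by
    intro x hx
    obtain ⟨hx1, hx2⟩ := Finset.mem_sdiff.mp hx
    have hx3 : x ≠ q := fun e => hx2 (e ▸ Finset.mem_insert_self _ _)
    have hx5 : x ≠ p := fun e => (Equiv.Perm.mem_support.mp hx1) (e ▸ hp)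
    rw [Equiv.Perm.mul_apply, Equiv.swap_apply_of_ne_of_ne hx5 hx3]
  exact ⟨a, b, c, d, hab, hac, had, hbc, hbd, hcd, by rw [key a ha, h1], by rw [key b hb, h2],
    by rw [key c hc', h3], by rw [key d hd, h4]⟩

end Cfsg.Agent.Lib.Lead.Ore
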