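import Mathlib
import Cfsg.Agent.Lib.Helper4.PA3
import Cfsg.Agent.Lib.Lead.CoprimeAction

set_option autoImplicit false

/-! Prime action (Bender–Glauberman 6.3-type statement): `[K, R] ≤ F(K)`. -/

namespace Cfsg.Agent.Lib.Helper4.PA

open Cfsg Cfsg.Agent.Lib.Helper4.BG8 Cfsg.Agent.Lib.Helper4.HH Cfsg.Agent.Lib.Lead
open Cfsg.Agent.Lib.Helper4.ThreeStep

open scoped commutatorElement Pointwise

universe u

variable {G : Type u} [Group G] [Finite G]

theorem prime_action_main [Group.IsSolvable G] (hodd : Odd (Nat.card G)) (K R : Subgroup G)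
    [hKn : K.Normal] (hcop : (Nat.card K).Coprime (Nat.card R))
    (hprime : ∀ x ∈ R, x ≠ 1 →
      K ⊓ Subgroup.centralizer ({x} : Set G) = (K ⊓ Subgroup.centralizer (R : Set G)))
    (hF : Cfsg.fittingOf K ⊓ Subgroup.centralizer (R : Set G) = ⊥) :
    ⁅K, R⁆ ≤ Cfsg.fittingOf K := by
  have hFn := fittingOf_normal K
  have hK : Group.IsSolvable K := inferInstance
  rw [Subgroup.commutator_le]
  intro k hk a ha
  by_cases ha1 : a = 1
  · rw [ha1, commutatorElement_def]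
    simp
  have hord : orderOf a ≠ 1 := by
    intro h
    exact ha1 (orderOf_eq_one_iff.mp h)
  obtain ⟨r, hr, hra⟩ := Nat.exists_prime_and_dvd hord
  haveI : Fact r.Prime := ⟨hr⟩
  obtain ⟨m, hm⟩ := hra
  have hopos : 0 < orderOf a := orderOf_pos a
  have hmpos : 0 < m := by
    rcases Nat.eq_zero_or_pos m with h | h
    · rw [h, mul_zero] at hm; omega
    · exact h
  have hmlt : m < orderOf a := by
    rw [hm]
    have := hr.two_le
    nlinarith
  obtain ⟨x, hxdef⟩ : ∃ x : G, x = a ^ m := ⟨_, rfl⟩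
  have hxR : x ∈ R := by rw [hxdef]; exact R.pow_mem ha m
  have hx1 : x ≠ 1 := by
    rw [hxdef]
    exact pow_ne_one_of_lt_orderOf hmpos.ne' hmlt
  have hxr : x ^ r = 1 := by
    rw [hxdef, ← pow_mul, mul_comm, ← hm, pow_orderOf_eq_one]
  have hrR : r ∣ Nat.card R := by
    have h1 : r ∣ orderOf a := ⟨m, hm⟩
    exact h1.trans (Subgroup.orderOf_dvd_natCard R ha)
  have hrK : ¬ r ∣ Nat.card K := by
    intro h
    have := Nat.dvd_gcd h hrR
    rw [hcop] at this
    exact hr.one_lt.ne' (Nat.dvd_one.mp this)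
  -- every nontrivial element of order `r` of `R`
  have T : ∀ y ∈ R, y ≠ 1 → y ^ r = 1 → ∀ k ∈ K, y * k * y⁻¹ * k⁻¹ ∈ fittingOf K := by
    intro y hyR hy1 hyr
    apply prime_elt hodd K hK y r hr hyr hrK
    apply le_bot_iff.mp
    rw [← hF]
    apply le_inf inf_le_left
    have h1 : fittingOf K ⊓ Subgroup.centralizer ((Subgroup.zpowers y : Subgroup G) : Set G) ≤
        K ⊓ Subgroup.centralizer ({y} : Set G) := by
      apply inf_le_inf (fittingOf_le K)
      apply Subgroup.centralizer_le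
      intro z hz
      rw [Set.mem_singleton_iff] at hz
      rw [hz]
      exact Subgroup.mem_zpowers y
    rw [hprime y hyR hy1] at h1
    exact h1.trans inf_le_right
  have hXR : Subgroup.zpowers x ≤ R := by rw [Subgroup.zpowers_le]; exact hxR
  have hfix : ∀ y ∈ Subgroup.zpowers x, y * k * y⁻¹ * k⁻¹ ∈ fittingOf K := by
    intro y hy
    by_cases hy1 : y = 1
    · rw [hy1]; simp
    · apply T y (hXR hy) hy1 _ k hk
      obtain ⟨i, rfl⟩ := Subgroup.mem_zpowers_iff.mp hy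
      rw [← zpow_natCast, ← zpow_mul, mul_comm, zpow_mul, zpow_natCast, hxr, one_zpow]
  have hXK : Subgroup.zpowers x ≤ Subgroup.normalizer (K : Set G) := by
    rw [Subgroup.normalizer_eq_top_iff.mpr hKn]; exact le_top
  have hXF : Subgroup.zpowers x ≤ Subgroup.normalizer (fittingOf K : Set G) := by
    rw [Subgroup.normalizer_eq_top_iff.mpr hFn]; exact le_top
  have hKF : K ≤ Subgroup.normalizer (fittingOf K : Set G) := by
    rw [Subgroup.normalizer_eq_top_iff.mpr hFn]; exact le_top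
  have hcopX : (Nat.card (Subgroup.zpowers x)).Coprime (Nat.card K) :=
    Nat.Coprime.coprime_dvd_left (Subgroup.card_dvd_of_le hXR) hcop.symm
  obtain ⟨c, hc, hkc⟩ := coprime_fixed_coset (Subgroup.zpowers x) K hXK hcopX (Or.inr hK)
    (fittingOf K) (fittingOf_le K) hKF hXF k hk hfix
  have hc2 : c ∈ K ⊓ Subgroup.centralizer ({x} : Set G) := by
    refine ⟨hc.1, ?_⟩
    apply Subgroup.centralizer_le _ hc.2
    intro z hz
    rw [Set.mem_singleton_iff] at hz
    rw [hz]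
    exact Subgroup.mem_zpowers x
  rw [hprime x hxR hx1] at hc2
  have hca : a * c = c * a := Subgroup.mem_centralizer_iff.mp hc2.2 a ha
  have hca' : a⁻¹ * c⁻¹ = c⁻¹ * a⁻¹ := by
    rw [← mul_inv_rev, ← mul_inv_rev, hca]
  have hf' : (k⁻¹ * c)⁻¹ ∈ fittingOf K := (fittingOf K).inv_mem hkc
  have h1 : (k⁻¹ * c)⁻¹ * (a * (k⁻¹ * c) * a⁻¹) ∈ fittingOf K :=
    (fittingOf K).mul_mem hf' (hFn.conj_mem _ hkc a)
  have h2 := hFn.conj_mem _ h1 c
  have e : ⁅k, a⁆ = c * ((k⁻¹ * c)⁻¹ * (a * (k⁻¹ * c) * a⁻¹)) * c⁻¹ := by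
    rw [commutatorElement_def]
    have : c * ((k⁻¹ * c)⁻¹ * (a * (k⁻¹ * c) * a⁻¹)) * c⁻¹ = k * a * k⁻¹ * c * (a⁻¹ * c⁻¹) := by
      group
    rw [this, hca']
    group
  rw [e]
  exact h2

end Cfsg.Agent.Lib.Helper4.PA
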