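import Mathlib
import Cfsg.Agent.Lib.Lead.Frattini

/-! S4587 package P2 (Lemma K). -/

set_option autoImplicit false

namespace Cfsg.Agent.Lib.Helper2.PAb

namespace K

/-- A subgroup of index `1` or a prime has a cyclic supplement. -/
theorem exists_zpowers_sup_eq_top {Q : Type*} [Group Q] {p : ℕ} (hp : p.Prime) (M : Subgroup Q)
    (hM : M.index = 1 ∨ M.index = p) : ∃ y : Q, Subgroup.zpowers y ⊔ M = ⊤ := by
  rcases hM with h1 | hpidx
  · refine ⟨1, ?_⟩
    rw [Subgroup.index_eq_one.1 h1]; simp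
  · have hco : IsCoatom M := Cfsg.Agent.Lib.Lead.isCoatom_of_index_prime (hpidx ▸ hp)
    have hMtop : M ≠ ⊤ := hco.1
    obtain ⟨y, hy⟩ : ∃ y : Q, y ∉ M := by
      by_contra hcon
      push Not at hcon
      exact hMtop (top_unique fun x _ => hcon x)
    refine ⟨y, ?_⟩
    by_contra hne
    have hlt : M < Subgroup.zpowers y ⊔ M := by
      refine lt_of_le_of_ne le_sup_right ?_
      intro heq
      apply hy
      rw [heq]
      exact (le_sup_left : Subgroup.zpowers y ≤ _) (Subgroup.mem_zpowers y)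
    exact hne (hco.2 _ hlt)

/-- If a normal subgroup has a cyclic supplement then it contains the commutator subgroup. -/
theorem commutator_le_of_zpowers_sup {Q : Type*} [Group Q] (R : Subgroup Q) [R.Normal] (y : Q)
    (hy : Subgroup.zpowers y ⊔ R = ⊤) : commutator Q ≤ R := by
  have hcomm : ∀ a b : Q ⧸ R, a * b = b * a := by
    have hz : Subgroup.zpowers (QuotientGroup.mk' R y) = ⊤ := by
      have hmap : (Subgroup.zpowers y ⊔ R).map (QuotientGroup.mk' R) = ⊤ := by
        rw [hy, ← MonoidHom.range_eq_map, MonoidHom.range_eq_top]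
        exact QuotientGroup.mk'_surjective R
      rw [Subgroup.map_sup, MonoidHom.map_zpowers] at hmap
      have hRbot : R.map (QuotientGroup.mk' R) = ⊥ := by
        rw [Subgroup.map_eq_bot_iff, QuotientGroup.ker_mk']
      simpa [hRbot] using hmap
    intro a b
    have ha : a ∈ Subgroup.zpowers (QuotientGroup.mk' R y) := hz ▸ Subgroup.mem_top a
    have hb : b ∈ Subgroup.zpowers (QuotientGroup.mk' R y) := hz ▸ Subgroup.mem_top b
    obtain ⟨i, rfl⟩ := ha
    obtain ⟨j, rfl⟩ := hb
    simp only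
    rw [← zpow_add, ← zpow_add, add_comm]
  exact Cfsg.Agent.Lib.Lead.commutator_le_of_quotient_comm R hcomm

/-- Type-level version of Lemma K. -/
theorem typeK {Q : Type*} [Group Q] [Finite Q] {p : ℕ} [Fact p.Prime] (hQ : IsPGroup p Q)
    (hidx : (commutator Q).index = p ^ 2) (R : Subgroup Q) [R.Normal] (hR : ¬ R ≤ commutator Q) :
    commutator Q ≤ R ∧ (R.index = 1 ∨ R.index = p) := by
  have hp : p.Prime := Fact.out
  set D : Subgroup Q := commutator Q with hD
  have hDfr : D ≤ frattini Q := Cfsg.Agent.Lib.Lead.commutator_le_frattini_of_isPGroup hQ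
  set M : Subgroup Q := R ⊔ D with hM
  have hDM : D ≤ M := le_sup_right
  have hRM : R ≤ M := le_sup_left
  have hMne : M ≠ D := by
    intro h
    exact hR (h ▸ hRM)
  -- index of M divides p^2 and is smaller
  have hdvd : M.index ∣ p ^ 2 := by
    rw [← hidx]; exact Subgroup.index_dvd_of_le hDM
  have hMidx : M.index = 1 ∨ M.index = p := by
    obtain ⟨k, hk, hk2⟩ := (Nat.dvd_prime_pow hp).1 hdvd
    interval_cases k
    · left; simpa using hk2
    · right; simpa using hk2
    · exfalso
      apply hMne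
      have h1 : D.relIndex M = 1 := by
        have := Subgroup.relIndex_mul_index hDM
        rw [hidx, hk2] at this
        have hpos : 0 < p ^ 2 := pow_pos hp.pos 2
        exact Nat.eq_of_mul_eq_mul_right hpos (by rw [this, one_mul])
      exact le_antisymm (Subgroup.relIndex_eq_one.1 h1) hDM
  -- key: there is y with zpowers y ⊔ R = ⊤
  obtain ⟨y, h2⟩ := exists_zpowers_sup_eq_top hp M hMidx
  have hy : Subgroup.zpowers y ⊔ R = ⊤ := by
    have h3 : (Subgroup.zpowers y ⊔ R) ⊔ frattini Q = ⊤ := by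
      apply top_unique
      rw [← h2, hM, ← sup_assoc]
      exact sup_le_sup_left hDfr _
    exact frattini_nongenerating h3
  have hDR : D ≤ R := commutator_le_of_zpowers_sup R y hy
  refine ⟨hDR, ?_⟩
  have hMR : M = R := sup_eq_left.2 hDR
  rw [← hMR]; exact hMidx

/-- `⁅P, P⁆` seen inside `↥P` is the commutator subgroup of `↥P`. -/
theorem commutator_subgroupOf {G : Type*} [Group G] (P : Subgroup G) :
    (⁅P, P⁆ : Subgroup G).subgroupOf P = commutator ↥P := by
  rw [← Subgroup.map_subtype_commutator, Subgroup.subgroupOf,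
    Subgroup.comap_map_eq_self_of_injective P.subtype_injective]

end K

variable {G : Type*} [Group G]

/-- **P2 (K)**: `|P : P'| = p²`, `R ⊴ P`, `R ≰ P'` ⟹ `P' ≤ R` and `|P : R| ∈ {1, p}`. -/
theorem lemmaK [Finite G] {p : ℕ} [Fact p.Prime] (P : Subgroup G) (hP : IsPGroup p P)
    (hidx : (⁅P, P⁆).relIndex P = p ^ 2) (R : Subgroup G) (hRP : R ≤ P)
    (hnorm : P ≤ Subgroup.normalizer (R : Set G)) (hR : ¬ R ≤ ⁅P, P⁆) :
    ⁅P, P⁆ ≤ R ∧ (R.relIndex P = 1 ∨ R.relIndex P = p) := by
  haveI : (R.subgroupOf P).Normal := (Subgroup.normal_subgroupOf_iff_le_normalizer hRP).2 hnorm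
  have hDP : (⁅P, P⁆ : Subgroup G) ≤ P := by
    rw [← Subgroup.map_subtype_commutator]; exact Subgroup.map_subtype_le _
  have hle : ∀ {A B : Subgroup G}, A ≤ P → A.subgroupOf P ≤ B.subgroupOf P → A ≤ B := by
    intro A B hA h x hx
    exact h (show (⟨x, hA hx⟩ : ↥P) ∈ A.subgroupOf P from hx)
  have hidx' : (commutator ↥P).index = p ^ 2 := by
    rw [← K.commutator_subgroupOf]; exact hidx
  have hR' : ¬ R.subgroupOf P ≤ commutator ↥P := by
    rw [← K.commutator_subgroupOf]
    intro h
    exact hR (hle hRP h)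
  obtain ⟨h1, h2⟩ := K.typeK hP hidx' (R.subgroupOf P) hR'
  refine ⟨?_, h2⟩
  rw [← K.commutator_subgroupOf] at h1
  exact hle hDP h1

end Cfsg.Agent.Lib.Helper2.PAb
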