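import Mathlib
import Cfsg.Agent.Lib.Helper4.PAb_K

/-! S4587 package P9 (two independent normal subgroups). -/

set_option autoImplicit false

namespace Cfsg.Agent.Lib.Helper2.PAb

namespace P9

/-- Type-level: one of two independent normal subgroups with small joint index is not inside `Q'`. -/
theorem not_le_commutator {Q : Type*} [Group Q] [Finite Q] {p : ℕ} [Fact p.Prime] (hQ : IsPGroup p Q)
    (A B : Subgroup Q) [A.Normal] [B.Normal] (hAB : A ⊓ B = ⊥) (hA1 : A ≠ ⊥)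
    (hcyc : (A ⊔ B).index = 1 ∨ (A ⊔ B).index = p) : ¬ A ≤ commutator Q := by
  have hp : p.Prime := Fact.out
  intro hA
  have hDfr : commutator Q ≤ frattini Q := Cfsg.Agent.Lib.Lead.commutator_le_frattini_of_isPGroup hQ
  obtain ⟨y, h2⟩ := K.exists_zpowers_sup_eq_top hp (A ⊔ B) hcyc
  have hy : Subgroup.zpowers y ⊔ B = ⊤ := by
    have h3 : (Subgroup.zpowers y ⊔ B) ⊔ frattini Q = ⊤ := by
      apply top_unique
      rw [← h2]
      have : A ≤ frattini Q := hA.trans hDfr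
      calc Subgroup.zpowers y ⊔ (A ⊔ B) = (Subgroup.zpowers y ⊔ B) ⊔ A := by
            rw [sup_comm A B, sup_assoc]
        _ ≤ (Subgroup.zpowers y ⊔ B) ⊔ frattini Q := sup_le_sup_left this _
    exact frattini_nongenerating h3
  have hDB : commutator Q ≤ B := K.commutator_le_of_zpowers_sup B y hy
  have : A ≤ A ⊓ B := le_inf le_rfl (hA.trans hDB)
  rw [hAB] at this
  exact hA1 (le_bot_iff.1 this)

/-- Type-level version of P9. -/
theorem typeP9 {Q : Type*} [Group Q] [Finite Q] {p : ℕ} [Fact p.Prime] (hQ : IsPGroup p Q)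
    (hidx : (commutator Q).index = p ^ 2)
    (A B : Subgroup Q) [A.Normal] [B.Normal] (hAB : A ⊓ B = ⊥) (hA1 : A ≠ ⊥) (hB1 : B ≠ ⊥)
    (hcyc : (A ⊔ B).index = 1 ∨ (A ⊔ B).index = p) : commutator Q = ⊥ := by
  have hA := not_le_commutator hQ A B hAB hA1 hcyc
  have hB := not_le_commutator hQ B A (by rw [inf_comm]; exact hAB) hB1 (by rw [sup_comm]; exact hcyc)
  have h1 := (K.typeK hQ hidx A hA).1
  have h2 := (K.typeK hQ hidx B hB).1
  have : commutator Q ≤ A ⊓ B := le_inf h1 h2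
  rw [hAB] at this
  exact le_bot_iff.1 this

end P9

variable {G : Type*} [Group G]

/-- **P9 (two independent normal subgroups)**: pure `p`-group lemma (uses P2 + frattini_nongenerating). -/
theorem commutator_eq_bot_of_two_normal [Finite G] {p : ℕ} [Fact p.Prime] (P : Subgroup G)
    (hP : IsPGroup p P) (hidx : (⁅P, P⁆).relIndex P = p ^ 2) (Ra Rb : Subgroup G)
    (hRa : Ra ≤ P) (hRb : Rb ≤ P) (hna : P ≤ Subgroup.normalizer (Ra : Set G)) (hnb : P ≤ Subgroup.normalizer (Rb : Set G))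
    (hab : Ra ⊓ Rb = ⊥) (ha1 : Ra ≠ ⊥) (hb1 : Rb ≠ ⊥)
    (hcyc : (Ra ⊔ Rb).relIndex P = 1 ∨ (Ra ⊔ Rb).relIndex P = p) : ⁅P, P⁆ = ⊥ := by
  haveI : (Ra.subgroupOf P).Normal := (Subgroup.normal_subgroupOf_iff_le_normalizer hRa).2 hna
  haveI : (Rb.subgroupOf P).Normal := (Subgroup.normal_subgroupOf_iff_le_normalizer hRb).2 hnb
  have hidx' : (commutator ↥P).index = p ^ 2 := by
    rw [← K.commutator_subgroupOf]; exact hidx
  have hAB : Ra.subgroupOf P ⊓ Rb.subgroupOf P = ⊥ := by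
    rw [eq_bot_iff]
    rintro ⟨x, hxP⟩ ⟨hxa, hxb⟩
    have hx : x ∈ Ra ⊓ Rb := ⟨hxa, hxb⟩
    rw [hab, Subgroup.mem_bot] at hx
    rw [Subgroup.mem_bot]
    exact Subtype.ext hx
  have hA1 : Ra.subgroupOf P ≠ ⊥ := by
    intro h
    apply ha1
    rw [eq_bot_iff]
    intro x hx
    have : (⟨x, hRa hx⟩ : ↥P) ∈ Ra.subgroupOf P := hx
    rw [h, Subgroup.mem_bot] at this
    rw [Subgroup.mem_bot]
    exact congrArg Subtype.val this
  have hB1 : Rb.subgroupOf P ≠ ⊥ := by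
    intro h
    apply hb1
    rw [eq_bot_iff]
    intro x hx
    have : (⟨x, hRb hx⟩ : ↥P) ∈ Rb.subgroupOf P := hx
    rw [h, Subgroup.mem_bot] at this
    rw [Subgroup.mem_bot]
    exact congrArg Subtype.val this
  have hcyc' : (Ra.subgroupOf P ⊔ Rb.subgroupOf P).index = 1 ∨
      (Ra.subgroupOf P ⊔ Rb.subgroupOf P).index = p := by
    rw [← Subgroup.subgroupOf_sup hRa hRb]; exact hcyc
  have h := P9.typeP9 hP hidx' (Ra.subgroupOf P) (Rb.subgroupOf P) hAB hA1 hB1 hcyc'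
  rw [← Subgroup.map_subtype_commutator, h, Subgroup.map_bot]

end Cfsg.Agent.Lib.Helper2.PAb
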