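import Mathlib
import Cfsg.Agent.Lib.Helper4.PC7
import Cfsg.Agent.Lib.Helper7.PiClass1

set_option autoImplicit false

/-! S4003: the number of elements of order `p ^ s * m` in a group with noncyclic Sylow
`p`-subgroups (`p` odd, `s ≥ 2`, `p ∤ m`) is divisible by `p ^ s`. -/

namespace Cfsg.Agent.Lib.Helper4.PC

open scoped Pointwise
open Cfsg.Agent.Lib.Helper7.PiClass

section count

universe u

variable {G : Type u} [Group G] [Finite G]

/-- number of cyclic subgroups of order `d` centralizing `v`. -/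
noncomputable def zc (d : ℕ) (v : G) : ℕ :=
  Nat.card {Z : Subgroup G // Z ≤ Subgroup.centralizer ({v} : Set G) ∧ IsCyclic Z ∧ Nat.card Z = d}

theorem card_commute_orderOf (d : ℕ) (hd : 0 < d) (v : G) :
    Nat.card {u : G // Commute u v ∧ orderOf u = d} = Nat.totient d * zc d v := by
  have e : {u : G // Commute u v ∧ orderOf u = d} ≃
      {u' : ↥(Subgroup.centralizer ({v} : Set G)) // orderOf u' = d} :=
    { toFun := fun u => ⟨⟨u.1, by
          rw [Subgroup.mem_centralizer_singleton_iff]; exact u.2.1.eq⟩, by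
          rw [← Subgroup.orderOf_coe]; exact u.2.2⟩
      invFun := fun u' => ⟨(u'.1 : G), by
          have := u'.1.2
          rw [Subgroup.mem_centralizer_singleton_iff] at this
          exact this, by
          rw [Subgroup.orderOf_coe]; exact u'.2⟩
      left_inv := fun u => rfl
      right_inv := fun u' => rfl }
  rw [Nat.card_congr e, card_orderOf_eq d hd, zc,
    Nat.card_congr (cyclicSubEquiv (Subgroup.centralizer ({v} : Set G)) d)]

theorem zc_conj (d : ℕ) (x v : G) : zc d (x * v * x⁻¹) = zc d v := by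
  unfold zc
  symm
  refine Nat.card_congr ?_
  have hcent : ∀ (y w : G) (Z : Subgroup G), Z ≤ Subgroup.centralizer ({w} : Set G) →
      MulAut.conj y • Z ≤ Subgroup.centralizer ({y * w * y⁻¹} : Set G) := by
    intro y w Z hZ z hz
    rw [Subgroup.mem_pointwise_smul_iff_inv_smul_mem] at hz
    have h1 := hZ hz
    rw [Subgroup.mem_centralizer_singleton_iff, MulAut.smul_def, ← map_inv, MulAut.conj_apply]
      at h1
    rw [Subgroup.mem_centralizer_singleton_iff]
    have h2 : y * w * y⁻¹ * z = y * (w * (y⁻¹ * z * y⁻¹⁻¹)) * y⁻¹ := by group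
    have h3 : z * (y * w * y⁻¹) = y * ((y⁻¹ * z * y⁻¹⁻¹) * w) * y⁻¹ := by group
    rw [h3, h2, h1]
  have hprop : ∀ (y : G) (Z : Subgroup G),
      (IsCyclic ↥(MulAut.conj y • Z) ∧ Nat.card ↥(MulAut.conj y • Z) = d) ↔
        (IsCyclic Z ∧ Nat.card Z = d) := by
    intro y Z
    let e := Subgroup.equivSMul (MulAut.conj y) Z
    have hc : Nat.card ↥(MulAut.conj y • Z) = Nat.card Z := (Nat.card_congr e.toEquiv).symm
    rw [hc]
    constructor
    · rintro ⟨h1, h2⟩
      haveI := h1
      exact ⟨isCyclic_of_surjective e.symm.toMonoidHom e.symm.surjective, h2⟩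
    · rintro ⟨h1, h2⟩
      haveI := h1
      exact ⟨isCyclic_of_surjective e.toMonoidHom e.surjective, h2⟩
  exact
    { toFun := fun Z => ⟨MulAut.conj x • Z.1, hcent x v Z.1 Z.2.1, (hprop x Z.1).2 Z.2.2⟩
      invFun := fun Z => ⟨MulAut.conj x⁻¹ • Z.1, by
          have := hcent x⁻¹ (x * v * x⁻¹) Z.1 Z.2.1
          have h2 : x⁻¹ * (x * v * x⁻¹) * x⁻¹⁻¹ = v := by group
          rwa [h2] at this, (hprop x⁻¹ Z.1).2 Z.2.2⟩
      left_inv := fun Z => by
        apply Subtype.ext
        show MulAut.conj x⁻¹ • MulAut.conj x • Z.1 = Z.1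
        rw [map_inv, inv_smul_smul]
      right_inv := fun Z => by
        apply Subtype.ext
        show MulAut.conj x • MulAut.conj x⁻¹ • Z.1 = Z.1
        rw [map_inv, smul_inv_smul] }

/-- the key divisibility: summing over elements `v` of a fixed order. -/
theorem dvd_sum_zc (p : ℕ) [hp : Fact p.Prime] (hodd : p ≠ 2) (P : Sylow p G)
    (hP : ¬ IsCyclic ↥(P : Subgroup G)) (s : ℕ) (hs : 2 ≤ s) (m : ℕ) :
    letI : Fintype G := Fintype.ofFinite G
    (p : ℤ) ∣ ∑ v : G, (if orderOf v = m then (zc (p ^ s) v : ℤ) else 0) := by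
  classical
  letI : Fintype G := Fintype.ofFinite G
  letI : MulAction ↥(P : Subgroup G) G :=
    MulAction.compHom G ((MulAut.conj : G →* MulAut G).comp (P : Subgroup G).subtype)
  have hsmul : ∀ (x : ↥(P : Subgroup G)) (v : G), x • v = (x : G) * v * (x : G)⁻¹ := fun _ _ => rfl
  have hPp : IsPGroup p ↥(P : Subgroup G) := P.isPGroup'
  let F : G → ℤ := fun v => if orderOf v = m then (zc (p ^ s) v : ℤ) else 0
  have hF : ∀ (x : ↥(P : Subgroup G)) (v : G), F (x • v) = F v := by
    intro x v
    simp only [F]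
    rw [hsmul, zc_conj]
    have : orderOf ((x : G) * v * (x : G)⁻¹) = orderOf v :=
      MulEquiv.orderOf_eq (MulAut.conj (x : G)) v
    rw [this]
  let Fix : G → Prop := fun v => ∀ x : ↥(P : Subgroup G), x • v = v
  have h1 := Cfsg.Agent.Lib.Helper8.sum_modEq_sum_fixedPoints hPp Fix (fun _ => Iff.rfl) F hF
  have h2 : ∑ v ∈ Finset.univ.filter Fix, F v ≡ 0 [ZMOD p] := by
    rw [Int.modEq_zero_iff_dvd]
    apply Finset.dvd_sum
    intro v hv
    rw [Finset.mem_filter] at hv
    have hfix : ∀ x : ↥(P : Subgroup G), x • v = v := hv.2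
    simp only [F]
    split_ifs with ho
    · -- `P` centralizes `v`
      have hPC : (P : Subgroup G) ≤ Subgroup.centralizer ({v} : Set G) := by
        intro x hx
        rw [Subgroup.mem_centralizer_singleton_iff]
        have := hfix ⟨x, hx⟩
        rw [hsmul] at this
        have h3 : x * v = (x * v * x⁻¹) * x := by group
        rw [h3, this]
      let P' : Sylow p ↥(Subgroup.centralizer ({v} : Set G)) := P.subtype hPC
      have hP' : ¬ IsCyclic ↥(P' : Subgroup ↥(Subgroup.centralizer ({v} : Set G))) := by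
        intro hc
        apply hP
        have e : ↥((P : Subgroup G).subgroupOf (Subgroup.centralizer ({v} : Set G))) ≃*
            ↥(P : Subgroup G) := Subgroup.subgroupOfEquivOfLe hPC
        have hc' : IsCyclic ↥((P : Subgroup G).subgroupOf (Subgroup.centralizer ({v} : Set G))) := hc
        haveI := hc'
        exact isCyclic_of_surjective e.toMonoidHom e.surjective
      have := card_cyclic_dvd p hodd P' hP' s hs
      rw [← Nat.card_congr (cyclicSubEquiv (Subgroup.centralizer ({v} : Set G)) (p ^ s))] at this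
      exact Int.natCast_dvd_natCast.2 this
    · exact dvd_zero _
  exact (Int.modEq_zero_iff_dvd).1 (h1.trans h2)

end count

end Cfsg.Agent.Lib.Helper4.PC
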