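import Mathlib
import Cfsg.Agent.Lib.Helper4.PC8

set_option autoImplicit false

/-! S4003: final assembly. -/

namespace Cfsg.Agent.Lib.Helper4.PC

open Cfsg.Agent.Lib.Helper7.PiClass

section arith

theorem pow_mul_eq_pow_mul (p e s w m : ℕ) (hp : p.Prime) (hw : p.Coprime w) (hm : p.Coprime m)
    (h : p ^ e * w = p ^ s * m) : e = s ∧ w = m := by
  have h1 : p ^ e ∣ p ^ s := by
    have : p ^ e ∣ p ^ s * m := ⟨w, h.symm⟩
    exact (Nat.Coprime.pow_left e hm).dvd_of_dvd_mul_right this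
  have h2 : p ^ s ∣ p ^ e := by
    have : p ^ s ∣ p ^ e * w := ⟨m, h⟩
    exact (Nat.Coprime.pow_left s hw).dvd_of_dvd_mul_right this
  have h3 : e ≤ s := (Nat.pow_dvd_pow_iff_le_right hp.one_lt).1 h1
  have h4 : s ≤ e := (Nat.pow_dvd_pow_iff_le_right hp.one_lt).1 h2
  have h5 : e = s := le_antisymm h3 h4
  subst h5
  exact ⟨rfl, Nat.eq_of_mul_eq_mul_left (pow_pos hp.pos e) h⟩

end arith

section bij

variable {G : Type*} [Group G] [Finite G]

theorem isPi_of_orderOf (p s : ℕ) (hp : p.Prime) (u : G) (hu : orderOf u = p ^ s) :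
    IsPi ({p} : Set ℕ) u := by
  intro q hq hqd
  rw [hu] at hqd
  exact (Nat.prime_dvd_prime_iff_eq hq hp).1 (hq.dvd_of_dvd_pow hqd)

theorem isPi'_of_orderOf (p m : ℕ) (hp : p.Prime) (hm : p.Coprime m) (v : G)
    (hv : orderOf v = m) : IsPi' ({p} : Set ℕ) v := by
  intro q _ hqd hqp
  rw [hv] at hqd
  have hqp' : q = p := hqp
  rw [hqp'] at hqd
  have := Nat.Coprime.eq_one_of_dvd hm hqd
  exact hp.one_lt.ne' this

theorem orderOf_parts (p s m : ℕ) (hp : p.Prime) (hm : p.Coprime m) (g : G)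
    (hg : orderOf g = p ^ s * m) :
    orderOf (piPart ({p} : Set ℕ) g) = p ^ s ∧ orderOf (piPart' ({p} : Set ℕ) g) = m := by
  set u := piPart ({p} : Set ℕ) g with hu
  set v := piPart' ({p} : Set ℕ) g with hv
  have hpi : IsPi ({p} : Set ℕ) u := isPi_piPart _ g
  have hpi' : IsPi' ({p} : Set ℕ) v := isPi'_piPart' _ g
  have hcomm : Commute u v := commute_piPart_piPart' _ g
  have hcop : (orderOf u).Coprime (orderOf v) := coprime_of_pi hpi hpi'
  have hmul : orderOf (u * v) = orderOf u * orderOf v :=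
    hcomm.orderOf_mul_eq_mul_orderOf_of_coprime hcop
  rw [piPart_mul_piPart', hg] at hmul
  obtain ⟨e, he⟩ : ∃ e, orderOf u = p ^ e := by
    refine ⟨_, Nat.eq_prime_pow_of_unique_prime_dvd (orderOf_pos u).ne' ?_⟩
    intro q hq hqd
    exact hpi q hq hqd
  have hw : p.Coprime (orderOf v) := by
    rw [Nat.Prime.coprime_iff_not_dvd hp]
    intro h
    exact hpi' p hp h rfl
  rw [he] at hmul
  obtain ⟨h1, h2⟩ := pow_mul_eq_pow_mul p e s (orderOf v) m hp hw hm hmul.symm
  exact ⟨by rw [he, h1], h2⟩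

/-- elements of order `p ^ s * m` correspond to commuting pairs. -/
noncomputable def pairEquiv (p s m : ℕ) (hp : p.Prime) (hm : p.Coprime m) :
    {g : G // orderOf g = p ^ s * m} ≃
      {w : G × G // Commute w.1 w.2 ∧ orderOf w.1 = p ^ s ∧ orderOf w.2 = m} where
  toFun g := ⟨(piPart ({p} : Set ℕ) g.1, piPart' ({p} : Set ℕ) g.1),
    commute_piPart_piPart' _ g.1, (orderOf_parts p s m hp hm g.1 g.2).1,
    (orderOf_parts p s m hp hm g.1 g.2).2⟩
  invFun w := ⟨w.1.1 * w.1.2, by
    obtain ⟨⟨u, v⟩, hc, hu, hv⟩ := w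
    simp only at hc hu hv ⊢
    rw [hc.orderOf_mul_eq_mul_orderOf_of_coprime (by rw [hu, hv]; exact Nat.Coprime.pow_left s hm),
      hu, hv]⟩
  left_inv g := by
    apply Subtype.ext
    exact piPart_mul_piPart' _ g.1
  right_inv w := by
    obtain ⟨⟨u, v⟩, hc, hu, hv⟩ := w
    apply Subtype.ext
    simp only at hc hu hv ⊢
    have h1 := isPi_of_orderOf p s hp u hu
    have h2 := isPi'_of_orderOf p m hp hm v hv
    exact Prod.ext (piPart_mul hc h1 h2) (piPart'_mul hc h1 h2)

end bij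

section final

universe u

variable {G : Type u} [Group G] [Finite G]

theorem card_pairs (d m : ℕ) :
    letI : Fintype G := Fintype.ofFinite G
    Nat.card {w : G × G // Commute w.1 w.2 ∧ orderOf w.1 = d ∧ orderOf w.2 = m} =
      ∑ v : G, (if orderOf v = m then Nat.card {u : G // Commute u v ∧ orderOf u = d} else 0) := by
  classical
  letI : Fintype G := Fintype.ofFinite G
  set W : Finset (G × G) :=
    Finset.univ.filter (fun w => Commute w.1 w.2 ∧ orderOf w.1 = d ∧ orderOf w.2 = m) with hW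
  set T : Finset G := Finset.univ.filter (fun v => orderOf v = m) with hT
  have hmap : ∀ w ∈ W, w.2 ∈ T := by
    intro w hw
    rw [hW, Finset.mem_filter] at hw
    rw [hT, Finset.mem_filter]
    exact ⟨Finset.mem_univ _, hw.2.2.2⟩
  have hcard := Finset.card_eq_sum_card_fiberwise hmap
  have hfib : ∀ v ∈ T, (W.filter (fun w => w.2 = v)).card =
      Nat.card {u : G // Commute u v ∧ orderOf u = d} := by
    intro v hv
    rw [hT, Finset.mem_filter] at hv
    rw [Nat.card_eq_fintype_card, Fintype.card_subtype]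
    symm
    apply Finset.card_bij (fun (u : G) _ => ((u, v) : G × G))
    · intro u hu
      rw [Finset.mem_filter] at hu
      rw [Finset.mem_filter, hW, Finset.mem_filter]
      exact ⟨⟨Finset.mem_univ _, hu.2.1, hu.2.2, hv.2⟩, rfl⟩
    · intro a _ b _ hab
      exact (Prod.ext_iff.1 hab).1
    · rintro ⟨u, v'⟩ hw
      rw [Finset.mem_filter, hW, Finset.mem_filter] at hw
      obtain ⟨⟨-, hc, hu, -⟩, hv'⟩ := hw
      simp only at hc hu hv'
      subst hv'
      refine ⟨u, ?_, rfl⟩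
      rw [Finset.mem_filter]
      exact ⟨Finset.mem_univ _, hc, hu⟩
  rw [Finset.sum_congr rfl hfib] at hcard
  rw [Nat.card_eq_fintype_card, Fintype.card_subtype, hcard, hT, Finset.sum_filter]

/-- **S4003.** -/
theorem main_count (p : ℕ) [hp : Fact p.Prime] (hodd : p ≠ 2) (P : Sylow p G)
    (hP : ¬ IsCyclic ↥(P : Subgroup G)) (s m : ℕ) (hs : 1 < s) (hm : Nat.Coprime p m) :
    p ^ s ∣ Nat.card {g : G // orderOf g = p ^ s * m} := by
  classical
  letI : Fintype G := Fintype.ofFinite G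
  rw [Nat.card_congr (pairEquiv p s m hp.out hm), card_pairs]
  have hd : 0 < p ^ s := pow_pos hp.out.pos s
  have h1 : ∀ v : G, (if orderOf v = m then Nat.card {u : G // Commute u v ∧ orderOf u = p ^ s}
      else 0) = Nat.totient (p ^ s) * (if orderOf v = m then zc (p ^ s) v else 0) := by
    intro v
    split_ifs
    · exact card_commute_orderOf (p ^ s) hd v
    · rw [mul_zero]
  rw [Finset.sum_congr rfl (fun v _ => h1 v), ← Finset.mul_sum]
  have h2 := dvd_sum_zc p hodd P hP s hs m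
  have h3 : p ∣ ∑ v : G, (if orderOf v = m then zc (p ^ s) v else 0) := by
    rw [← Int.natCast_dvd_natCast]
    push_cast
    convert h2 using 2
  have h4 : Nat.totient (p ^ s) = p ^ (s - 1) * (p - 1) :=
    Nat.totient_prime_pow hp.out (by omega)
  rw [h4]
  obtain ⟨k, hk⟩ := h3
  rw [hk]
  have h5 : p ^ s = p ^ (s - 1) * p := by
    rw [← pow_succ]; congr 1; omega
  rw [h5]
  exact ⟨(p - 1) * k, by ring⟩

end final

end Cfsg.Agent.Lib.Helper4.PC
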