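import Mathlib
import Cfsg.Agent.Lib.Helper4.OQ1

set_option autoImplicit false
set_option linter.style.haveILetI false
set_option linter.unusedSectionVars false
set_option maxHeartbeats 800000

/-! `p`-central groups (every element of order `p` is central), `p` odd: the quotient by `Ω₁` is
again `p`-central, and `|Ω₁(R/Ω₁(R))| ≤ |Ω₁(R)|`. -/

namespace Cfsg.Agent.Lib.Helper4.PCh

open scoped commutatorElement
open Cfsg.Agent.Lib.Helper4.OQ

universe u

/-- every element of order dividing `p` is central -/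
def PCentral (p : ℕ) (R : Type*) [Group R] : Prop :=
  ∀ x : R, x ^ p = 1 → x ∈ Subgroup.center R

section basic

variable {p : ℕ} [hp : Fact p.Prime]

theorem PCentral.subgroup {R : Type*} [Group R] (h : PCentral p R) (M : Subgroup R) :
    PCentral p ↥M := by
  intro x hx
  rw [Subgroup.mem_center_iff]
  intro g
  have h1 : (x : R) ^ p = 1 := by
    have := congrArg Subtype.val hx
    simpa using this
  have h2 := Subgroup.mem_center_iff.mp (h (x : R) h1) (g : R)
  exact Subtype.ext (by simpa using h2)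

/-- the key commutator computation -/
theorem comm_pow_aux (hp2 : p ≠ 2) (n : ℕ) :
    ∀ (R : Type u) [Group R] [Finite R], Nat.card R = n → IsPGroup p R → PCentral p R →
      ∀ x y : R, x ^ (p ^ 2) = 1 → ⁅x⁻¹, y⁆ ^ p = 1 := by
  induction n using Nat.strong_induction_on with
  | _ n ih =>
  intro R _ _ hn hR hc x y hx
  haveI : Group.IsNilpotent R := hR.isNilpotent
  rcases eq_top_or_exists_le_coatom (Subgroup.zpowers x) with htop | ⟨M, hM, hxM⟩
  · have hy : y ∈ Subgroup.zpowers x := by rw [htop]; trivial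
    obtain ⟨k, rfl⟩ := Subgroup.mem_zpowers_iff.mp hy
    have : ⁅x⁻¹, x ^ k⁆ = 1 := by
      rw [commutatorElement_eq_one_iff_commute]
      exact ((Commute.refl x).inv_left).zpow_right k
    rw [this, one_pow]
  · haveI hMn : M.Normal :=
      Subgroup.NormalizerCondition.normal_of_coatom M Group.normalizerCondition_of_isNilpotent hM
    have hxM' : x ∈ M := hxM (Subgroup.mem_zpowers x)
    have hbM : y * x * y⁻¹ ∈ M := hMn.conj_mem x hxM' y
    have hlt : Nat.card ↥M < n := by
      rw [← hn]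
      apply lt_of_le_of_ne (Subgroup.card_le_card_group M)
      intro h
      exact hM.1 ((Subgroup.card_eq_iff_eq_top M).mp h)
    -- apply the induction hypothesis in `M` to `x⁻¹` and `y x y⁻¹`
    have hxinv : (⟨x⁻¹, M.inv_mem hxM'⟩ : ↥M) ^ (p ^ 2) = 1 := by
      apply Subtype.ext
      simp [hx]
    have h1 := ih _ hlt ↥M rfl (hR.to_subgroup M) (hc.subgroup M) ⟨x⁻¹, M.inv_mem hxM'⟩
      ⟨y * x * y⁻¹, hbM⟩ hxinv
    have h2 : ⁅x, y * x * y⁻¹⁆ ^ p = 1 := by
      have h1' := congrArg Subtype.val h1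
      rw [Subgroup.coe_pow, Subgroup.coe_one] at h1'
      have e : ((⁅(⟨x⁻¹, M.inv_mem hxM'⟩ : ↥M)⁻¹, ⟨y * x * y⁻¹, hbM⟩⁆ : ↥M) : R) =
          ⁅x, y * x * y⁻¹⁆ := by
        simp [commutatorElement_def]
      rwa [e] at h1'
    set b := y * x * y⁻¹ with hb
    set c := ⁅x, b⁆ with hcdef
    have hcc : c ∈ Subgroup.center R := hc c h2
    have hxp : x ^ p ∈ Subgroup.center R := by
      apply hc
      rw [← pow_mul, ← sq]; exact hx
    -- `[b, x⁻¹] = c`
    have e1 : ⁅b, x⁻¹⁆ = c := by
      have : ⁅b, x⁻¹⁆ = x⁻¹ * c * x := by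
        rw [hcdef, commutatorElement_def, commutatorElement_def]; group
      rw [this, mul_assoc, ← (Subgroup.mem_center_iff.mp hcc) x]
      group
    have e2 : x⁻¹ * b = ⁅x⁻¹, y⁆ := by
      rw [hb, commutatorElement_def]; group
    rw [← e2, mul_pow_prime_of_comm_central hp2 x⁻¹ b]
    · have e3 : b ^ p = x ^ p := by
        rw [hb, conj_pow]
        rw [(Subgroup.mem_center_iff.mp hxp) y]
        group
      rw [e3, inv_pow, inv_mul_cancel]
    · intro g
      rw [e1]
      exact (Subgroup.mem_center_iff.mp hcc) g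
    · rw [e1]; exact h2

theorem comm_pow (hp2 : p ≠ 2) {R : Type u} [Group R] [Finite R] (hR : IsPGroup p R)
    (hc : PCentral p R) (x y : R) (hx : x ^ (p ^ 2) = 1) : ⁅x, y⁆ ^ p = 1 := by
  have h := comm_pow_aux hp2 (Nat.card R) R rfl hR hc x⁻¹ y (by rw [inv_pow, hx, inv_one])
  rwa [inv_inv] at h

/-- the commutator of an element of order dividing `p ^ 2` with anything is central -/
theorem comm_mem_center (hp2 : p ≠ 2) {R : Type u} [Group R] [Finite R] (hR : IsPGroup p R)
    (hc : PCentral p R) (x y : R) (hx : x ^ (p ^ 2) = 1) : ⁅x, y⁆ ∈ Subgroup.center R :=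
  hc _ (comm_pow hp2 hR hc x y hx)

end basic

end Cfsg.Agent.Lib.Helper4.PCh
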