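import Mathlib
import Cfsg.Agent.Lib.Helper4.PCh1

set_option autoImplicit false
set_option linter.style.haveILetI false
set_option linter.unusedSectionVars false
set_option maxHeartbeats 800000

/-! `p`-central groups, `p` odd, with `|Ω₁| ≤ p ^ 2`: a proper "power" subgroup of index at most
`p ^ 2`. -/

namespace Cfsg.Agent.Lib.Helper4.PCh

open scoped commutatorElement
open Cfsg.Agent.Lib.Helper4.OQ

universe u

section om

variable {p : ℕ} [hp : Fact p.Prime]

/-- `Ω₁` of a `p`-central group -/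
def om (p : ℕ) (R : Type*) [Group R] (hc : PCentral p R) : Subgroup R where
  carrier := {x | x ^ p = 1}
  one_mem' := one_pow p
  mul_mem' := by
    intro a b ha hb
    have hab : Commute a b := ((Subgroup.mem_center_iff.mp (hc a ha)) b).symm
    show (a * b) ^ p = 1
    rw [hab.mul_pow, show a ^ p = 1 from ha, show b ^ p = 1 from hb, one_mul]
  inv_mem' := by
    intro a ha
    show a⁻¹ ^ p = 1
    rw [inv_pow, show a ^ p = 1 from ha, inv_one]

theorem mem_om {R : Type*} [Group R] (hc : PCentral p R) (x : R) : x ∈ om p R hc ↔ x ^ p = 1 :=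
  Iff.rfl

theorem om_le_center {R : Type*} [Group R] (hc : PCentral p R) : om p R hc ≤ Subgroup.center R :=
  fun x hx => hc x hx

instance om_normal {R : Type*} [Group R] (hc : PCentral p R) : (om p R hc).Normal := by
  constructor
  intro x hx g
  have h1 := (Subgroup.mem_center_iff.mp (hc x hx)) g
  have : g * x * g⁻¹ = x := by rw [h1]; group
  rw [this]; exact hx

theorem pcentral_quotient (hp2 : p ≠ 2) {R : Type u} [Group R] [Finite R] (hR : IsPGroup p R)
    (hc : PCentral p R) : PCentral p (R ⧸ om p R hc) := by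
  intro q hq
  obtain ⟨x, rfl⟩ := QuotientGroup.mk'_surjective (om p R hc) q
  have h1 : x ^ p ∈ om p R hc := by
    rw [← QuotientGroup.eq_one_iff]
    rw [QuotientGroup.mk'_apply] at hq
    rw [QuotientGroup.mk_pow]; exact hq
  have hx : x ^ (p ^ 2) = 1 := by
    rw [sq, pow_mul]; exact h1
  rw [Subgroup.mem_center_iff]
  intro g
  obtain ⟨y, rfl⟩ := QuotientGroup.mk'_surjective (om p R hc) g
  have h2 : ⁅x, y⁆ ∈ om p R hc := comm_pow hp2 hR hc x y hx
  rw [QuotientGroup.mk'_apply, QuotientGroup.mk'_apply, ← QuotientGroup.mk_mul,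
    ← QuotientGroup.mk_mul, QuotientGroup.eq]
  have e : (y * x)⁻¹ * (x * y) = ⁅x⁻¹, y⁻¹⁆ := by
    rw [commutatorElement_def]; group
  rw [e]
  have hx' : x⁻¹ ^ (p ^ 2) = 1 := by rw [inv_pow, hx, inv_one]
  exact comm_pow hp2 hR hc x⁻¹ y⁻¹ hx'

theorem card_om_quotient_le (hp2 : p ≠ 2) {R : Type u} [Group R] [Finite R] (hR : IsPGroup p R)
    (hc : PCentral p R) :
    Nat.card {q : R ⧸ om p R hc // q ^ p = 1} ≤ Nat.card ↥(om p R hc) := by
  classical
  have hout : ∀ q : {q : R ⧸ om p R hc // q ^ p = 1},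
      (Quotient.out (q : R ⧸ om p R hc) : R) ^ p ∈ om p R hc := by
    intro q
    rw [← QuotientGroup.eq_one_iff, QuotientGroup.mk_pow]
    have : ((Quotient.out (q : R ⧸ om p R hc) : R) : R ⧸ om p R hc) = q :=
      QuotientGroup.out_eq' _
    rw [this]; exact q.2
  let f : {q : R ⧸ om p R hc // q ^ p = 1} → ↥(om p R hc) := fun q => ⟨_, hout q⟩
  apply Nat.card_le_card_of_injective f
  intro q q' hqq
  have h1 : (Quotient.out (q : R ⧸ om p R hc) : R) ^ p =
      (Quotient.out (q' : R ⧸ om p R hc) : R) ^ p := congrArg Subtype.val hqq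
  set x := (Quotient.out (q : R ⧸ om p R hc) : R) with hx
  set y := (Quotient.out (q' : R ⧸ om p R hc) : R) with hy
  have hy2 : y⁻¹ ^ (p ^ 2) = 1 := by
    rw [inv_pow, sq, pow_mul]
    have := hout q'
    rw [mem_om] at this
    rw [this, inv_one]
  have hcomm := comm_pow hp2 hR hc y⁻¹ x hy2
  have hcen := hc _ hcomm
  have h2 : (x * y⁻¹) ^ p = 1 := by
    rw [mul_pow_prime_of_comm_central hp2 x y⁻¹
      (fun g => (Subgroup.mem_center_iff.mp hcen) g) hcomm, inv_pow, h1, mul_inv_cancel]
  have h3 : (x : R ⧸ om p R hc) = (y : R ⧸ om p R hc) := by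
    rw [QuotientGroup.eq]
    have : x⁻¹ * y = (y⁻¹ * (x * y⁻¹) * y)⁻¹ := by group
    rw [this]
    apply Subgroup.inv_mem
    exact (om_normal hc).conj_mem' _ h2 y |> fun h => by simpa using h
  apply Subtype.ext
  have e1 : ((x : R) : R ⧸ om p R hc) = q := QuotientGroup.out_eq' _
  have e2 : ((y : R) : R ⧸ om p R hc) = q' := QuotientGroup.out_eq' _
  rw [← e1, ← e2]; exact h3

end om

section main

variable {p : ℕ} [hp : Fact p.Prime]

theorem exists_pow_subgroup_aux (hp2 : p ≠ 2) (n : ℕ) :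
    ∀ (R : Type u) [Group R] [Finite R], Nat.card R = n → IsPGroup p R → PCentral p R →
      Nat.card {x : R // x ^ p = 1} ≤ p ^ 2 → Nontrivial R →
      ∃ (k : ℕ) (T : Subgroup R), T ≠ ⊤ ∧ (∀ x, x ∈ T ↔ x ^ (p ^ k) = 1) ∧ T.index ≤ p ^ 2 := by
  induction n using Nat.strong_induction_on with
  | _ n ih =>
  intro R _ _ hn hR hc hcard hnt
  have hE : Nat.card ↥(om p R hc) = Nat.card {x : R // x ^ p = 1} := rfl
  by_cases htop : om p R hc = ⊤
  · refine ⟨0, ⊥, ?_, ?_, ?_⟩
    · exact bot_ne_top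
    · intro x
      rw [Subgroup.mem_bot, pow_zero, pow_one]
    · rw [Subgroup.index_bot]
      have : Nat.card R = Nat.card ↥(om p R hc) := by rw [htop, Subgroup.card_top]
      rw [this, hE]; exact hcard
  · -- the quotient
    have hEne : om p R hc ≠ ⊥ := by
      intro hbot
      have hpR : p ∣ Nat.card R := by
        obtain ⟨k, hk⟩ := (IsPGroup.iff_card).mp hR
        rw [hk]
        apply dvd_pow_self
        intro h0
        rw [h0, pow_zero] at hk
        have := (Nat.card_eq_one_iff_unique.mp hk).1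
        exact not_subsingleton R this
      obtain ⟨x, hx⟩ := exists_prime_orderOf_dvd_card' p hpR
      have hxE : x ∈ om p R hc := by
        rw [mem_om, ← hx]; exact pow_orderOf_eq_one x
      rw [hbot, Subgroup.mem_bot] at hxE
      rw [hxE, orderOf_one] at hx
      exact hp.out.one_lt.ne hx
    have hmul := Subgroup.card_eq_card_quotient_mul_card_subgroup (om p R hc)
    have hE2 : 2 ≤ Nat.card ↥(om p R hc) := by
      have h1 : Nat.card ↥(om p R hc) ≠ 1 := fun h => hEne (Subgroup.card_eq_one.mp h)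
      have h0 : 0 < Nat.card ↥(om p R hc) := Nat.card_pos
      omega
    have hQpos : 0 < Nat.card (R ⧸ om p R hc) := Nat.card_pos
    have hlt : Nat.card (R ⧸ om p R hc) < n := by
      rw [← hn, hmul]; nlinarith
    have hQnt : Nontrivial (R ⧸ om p R hc) := by
      by_contra hnot
      rw [not_nontrivial_iff_subsingleton] at hnot
      apply htop
      rw [← Subgroup.index_eq_one]
      rw [Subgroup.index_eq_card]
      exact Nat.card_eq_one_iff_unique.mpr ⟨hnot, ⟨1⟩⟩
    have hQcard : Nat.card {q : R ⧸ om p R hc // q ^ p = 1} ≤ p ^ 2 :=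
      (card_om_quotient_le hp2 hR hc).trans (hE ▸ hcard)
    obtain ⟨k, T, hT, hmem, hidx⟩ := ih _ hlt (R ⧸ om p R hc) rfl (hR.to_quotient _)
      (pcentral_quotient hp2 hR hc) hQcard hQnt
    refine ⟨k + 1, T.comap (QuotientGroup.mk' (om p R hc)), ?_, ?_, ?_⟩
    · intro h
      apply hT
      rw [eq_top_iff]
      intro q _
      obtain ⟨x, rfl⟩ := QuotientGroup.mk'_surjective (om p R hc) q
      have : x ∈ T.comap (QuotientGroup.mk' (om p R hc)) := by rw [h]; trivial
      exact this
    · intro x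
      rw [Subgroup.mem_comap, hmem, QuotientGroup.mk'_apply, ← QuotientGroup.mk_pow,
        QuotientGroup.eq_one_iff, mem_om, ← pow_mul, ← pow_succ]
    · rw [Subgroup.index_comap_of_surjective T (QuotientGroup.mk'_surjective _)]
      exact hidx

theorem exists_pow_subgroup (hp2 : p ≠ 2) {R : Type u} [Group R] [Finite R] (hR : IsPGroup p R)
    (hc : PCentral p R) (hcard : Nat.card {x : R // x ^ p = 1} ≤ p ^ 2) (hnt : Nontrivial R) :
    ∃ (k : ℕ) (T : Subgroup R), T ≠ ⊤ ∧ (∀ x, x ∈ T ↔ x ^ (p ^ k) = 1) ∧ T.index ≤ p ^ 2 :=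
  exists_pow_subgroup_aux hp2 (Nat.card R) R rfl hR hc hcard hnt

end main

end Cfsg.Agent.Lib.Helper4.PCh
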