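import Mathlib
import Cfsg.Agent.Lib.Helper4.PCh2
import Cfsg.Agent.Lib.Helper4.Rk2f
import Cfsg.Agent.Lib.Helper4.BG22a
import Cfsg.Agent.Lib.Lead.CentralizerBound
import Cfsg.Agent.Lib.Lead.RankTwoAut2
import Cfsg.Agent.S0126

set_option autoImplicit false
set_option linter.style.haveILetI false
set_option linter.unusedSectionVars false
set_option maxHeartbeats 800000

/-! Normal elementary abelian subgroups of order `p ^ 2` in a `p`-group of rank at most `2`. -/

namespace Cfsg.Agent.Lib.Helper4.PCh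

open scoped commutatorElement
open Cfsg

universe u

variable {Γ : Type u} [Group Γ] {p : ℕ} [hp : Fact p.Prime]

/-- `E` is a normal elementary abelian subgroup of order `p ^ 2` of `S` -/
def IsNE (p : ℕ) (S E : Subgroup Γ) : Prop :=
  E ≤ S ∧ S ≤ Subgroup.normalizer (E : Set Γ) ∧ IsMulCommutative ↥E ∧ (∀ a ∈ E, a ^ p = 1) ∧
    Nat.card ↥E = p ^ 2

theorem relIndex_ne_zero' [Finite Γ] (A B : Subgroup Γ) : A.relIndex B ≠ 0 := by
  unfold Subgroup.relIndex
  exact Subgroup.index_ne_zero_of_finite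

theorem IsNE.conj {S E : Subgroup Γ} (h : IsNE p S E) {n : Γ}
    (hn : n ∈ Subgroup.normalizer (S : Set Γ)) :
    IsNE p S (E.map (MulAut.conj n).toMonoidHom) := by
  obtain ⟨hES, hSE, hEc, hEe, hEcard⟩ := h
  have hn' : ∀ s : Γ, s ∈ S → n⁻¹ * s * n ∈ S := by
    intro s hs
    have := (Subgroup.mem_normalizer_iff.mp (Subgroup.inv_mem _ hn) s).mp hs
    simpa using this
  refine ⟨?_, ?_, ?_, ?_, ?_⟩
  · rintro _ ⟨e, he, rfl⟩
    exact (Subgroup.mem_normalizer_iff.mp hn e).mp (hES he)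
  · apply Cfsg.Agent.Lib.Helper4.Rk2.le_normalizer_of_conj_mem
    rintro s hs _ ⟨e, he, rfl⟩
    refine ⟨(n⁻¹ * s * n) * e * (n⁻¹ * s * n)⁻¹, ?_, ?_⟩
    · exact (Subgroup.mem_normalizer_iff.mp (hSE (hn' s hs)) e).mp he
    · simp only [MulEquiv.coe_toMonoidHom, MulAut.conj_apply]; group
  · refine ⟨⟨?_⟩⟩
    rintro ⟨_, ⟨a, ha, rfl⟩⟩ ⟨_, ⟨b, hb, rfl⟩⟩
    apply Subtype.ext
    have hab : a * b = b * a := by
      have := hEc.is_comm.comm (⟨a, ha⟩ : ↥E) ⟨b, hb⟩
      exact congrArg Subtype.val this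
    simp only [MulEquiv.coe_toMonoidHom, MulAut.conj_apply, Subgroup.coe_mul]
    calc n * a * n⁻¹ * (n * b * n⁻¹) = n * (a * b) * n⁻¹ := by group
      _ = n * (b * a) * n⁻¹ := by rw [hab]
      _ = n * b * n⁻¹ * (n * a * n⁻¹) := by group
  · rintro _ ⟨e, he, rfl⟩
    simp only [MulEquiv.coe_toMonoidHom, MulAut.conj_apply]
    rw [conj_pow, hEe e he]; group
  · rw [Subgroup.card_map_of_injective (MulAut.conj n).injective, hEcard]

/-- the join of two elementwise commuting elementary abelian subgroups -/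
theorem sup_elementary {A B : Subgroup Γ} (hA : IsMulCommutative ↥A) (hB : IsMulCommutative ↥B)
    (hAe : ∀ a ∈ A, a ^ p = 1) (hBe : ∀ b ∈ B, b ^ p = 1)
    (hAB : ∀ a ∈ A, ∀ b ∈ B, a * b = b * a) :
    IsMulCommutative ↥(A ⊔ B) ∧ ∀ c ∈ A ⊔ B, c ^ p = 1 := by
  have hAN : A ≤ Subgroup.normalizer (B : Set Γ) := by
    refine le_trans ?_ (Subgroup.centralizer_le_normalizer (B : Set Γ))
    intro a ha
    apply Subgroup.mem_centralizer_iff.mpr
    intro b hb
    exact (hAB a ha b hb).symm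
  have hmul : ∀ c ∈ A ⊔ B, ∃ a ∈ A, ∃ b ∈ B, c = a * b := by
    intro c hc
    rw [← SetLike.mem_coe, Subgroup.coe_mul_of_left_le_normalizer_right A B hAN, Set.mem_mul] at hc
    obtain ⟨a, ha, b, hb, rfl⟩ := hc
    exact ⟨a, ha, b, hb, rfl⟩
  have hAc : ∀ a ∈ A, ∀ a' ∈ A, a * a' = a' * a := by
    intro a ha a' ha'
    exact congrArg Subtype.val (hA.is_comm.comm (⟨a, ha⟩ : ↥A) ⟨a', ha'⟩)
  have hBc : ∀ b ∈ B, ∀ b' ∈ B, b * b' = b' * b := by
    intro b hb b' hb'
    exact congrArg Subtype.val (hB.is_comm.comm (⟨b, hb⟩ : ↥B) ⟨b', hb'⟩)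
  constructor
  · refine ⟨⟨?_⟩⟩
    rintro ⟨c, hc⟩ ⟨d, hd⟩
    apply Subtype.ext
    obtain ⟨a, ha, b, hb, rfl⟩ := hmul c hc
    obtain ⟨a', ha', b', hb', rfl⟩ := hmul d hd
    show a * b * (a' * b') = a' * b' * (a * b)
    calc a * b * (a' * b') = a * (b * a') * b' := by group
      _ = a * (a' * b) * b' := by rw [(hAB a' ha' b hb).symm]
      _ = (a * a') * (b * b') := by group
      _ = (a' * a) * (b' * b) := by rw [hAc a ha a' ha', hBc b hb b' hb']
      _ = a' * (a * b') * b := by group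
      _ = a' * (b' * a) * b := by rw [hAB a ha b' hb']
      _ = a' * b' * (a * b) := by group
  · intro c hc
    obtain ⟨a, ha, b, hb, rfl⟩ := hmul c hc
    have : Commute a b := hAB a ha b hb
    rw [this.mul_pow, hAe a ha, hBe b hb, one_mul]

/-- an element of order `p` centralizing a normal `E_{p²}` lies in it (rank at most two) -/
theorem IsNE.mem_of_centralizes [Finite Γ] (hr : PRankLE p 2 Γ) {S E : Subgroup Γ}
    (hE : IsNE p S E) {x : Γ} (hxp : x ^ p = 1)
    (hxc : x ∈ Subgroup.centralizer (E : Set Γ)) : x ∈ E := by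
  obtain ⟨hES, hSE, hEc, hEe, hEcard⟩ := hE
  have hZc : IsMulCommutative ↥(Subgroup.zpowers x) := inferInstance
  have hZe : ∀ b ∈ Subgroup.zpowers x, b ^ p = 1 := by
    intro b hb
    obtain ⟨k, rfl⟩ := Subgroup.mem_zpowers_iff.mp hb
    rw [← zpow_natCast, ← zpow_mul, mul_comm, zpow_mul, zpow_natCast, hxp, one_zpow]
  have hcomm : ∀ a ∈ E, ∀ b ∈ Subgroup.zpowers x, a * b = b * a := by
    intro a ha b hb
    obtain ⟨k, rfl⟩ := Subgroup.mem_zpowers_iff.mp hb
    have h1 : Commute a x := (Subgroup.mem_centralizer_iff.mp hxc a ha)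
    exact (h1.zpow_right k)
  obtain ⟨h1, h2⟩ := sup_elementary hEc hZc hEe hZe hcomm
  have h3 := hr _ h1 h2
  have h4 : E = E ⊔ Subgroup.zpowers x := by
    apply Subgroup.eq_of_le_of_card_ge le_sup_left
    rw [hEcard]; exact h3
  rw [h4]
  exact Subgroup.mem_sup_right (Subgroup.mem_zpowers x)

/-- the centralizer in `S` of a normal `E_{p²}` has index at most `p` -/
theorem IsNE.relIndex_centralizer_le [Finite Γ] {S E : Subgroup Γ} (hS : IsPGroup p ↥S)
    (hE : IsNE p S E) :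
    (S ⊓ Subgroup.centralizer (E : Set Γ)).relIndex S ≤ p := by
  obtain ⟨hES, hSE, hEc, hEe, hEcard⟩ := hE
  rw [Subgroup.inf_relIndex_left]
  haveI hn : (E.subgroupOf S).Normal := by
    constructor
    intro e he s
    rw [Subgroup.mem_subgroupOf] at he ⊢
    have := (Subgroup.mem_normalizer_iff.mp (hSE s.2) (e : Γ)).mp he
    simpa using this
  have hcard : Nat.card ↥(E.subgroupOf S) = p ^ 2 := by
    rw [← hEcard]
    exact Nat.card_congr (Subgroup.subgroupOfEquivOfLe hES).toEquiv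
  have h1 := Cfsg.Agent.Lib.Lead.index_centralizer_le hS 2 (E.subgroupOf S) hcard
  have e : (Subgroup.centralizer (E : Set Γ)).subgroupOf S =
      Subgroup.centralizer ((E.subgroupOf S : Subgroup ↥S) : Set ↥S) := by
    ext x
    rw [Subgroup.mem_subgroupOf, Subgroup.mem_centralizer_iff, Subgroup.mem_centralizer_iff]
    constructor
    · intro h y hy
      apply Subtype.ext
      exact h (y : Γ) hy
    · intro h y hy
      have := h ⟨y, hES hy⟩ (by rw [SetLike.mem_coe, Subgroup.mem_subgroupOf]; exact hy)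
      exact congrArg Subtype.val this
  unfold Subgroup.relIndex
  rw [e]
  simpa using h1

theorem exists_ne [Finite Γ] (hp2 : p ≠ 2) {S : Subgroup Γ} (hS : IsPGroup p ↥S)
    (hnc : ¬ IsCyclic ↥S) : ∃ E : Subgroup Γ, IsNE p S E := by
  obtain ⟨A, hAn, ⟨hAc, hAe⟩, hAcard⟩ := Cfsg.Agent.S0126.result hp2 hS hnc
  refine ⟨A.map S.subtype, Subgroup.map_subtype_le A, ?_, ?_, ?_, ?_⟩
  · apply Cfsg.Agent.Lib.Helper4.Rk2.le_normalizer_of_conj_mem
    rintro s hs _ ⟨a, ha, rfl⟩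
    refine ⟨(⟨s, hs⟩ : ↥S) * a * (⟨s, hs⟩ : ↥S)⁻¹, hAn.conj_mem a ha _, ?_⟩
    simp
  · refine ⟨⟨?_⟩⟩
    rintro ⟨_, ⟨a, ha, rfl⟩⟩ ⟨_, ⟨b, hb, rfl⟩⟩
    apply Subtype.ext
    have hab := hAc.is_comm.comm (⟨a, ha⟩ : ↥A) ⟨b, hb⟩
    have hab' : a * b = b * a := congrArg Subtype.val hab
    show (S.subtype a) * (S.subtype b) = (S.subtype b) * (S.subtype a)
    rw [← map_mul, ← map_mul, hab']
  · rintro _ ⟨a, ha, rfl⟩
    rw [← map_pow, hAe a ha, map_one]
  · rw [Subgroup.card_map_of_injective S.subtype_injective, hAcard]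

end Cfsg.Agent.Lib.Helper4.PCh
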