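import Mathlib
import Cfsg.Agent.Lib.Helper4.PCh3

set_option autoImplicit false
set_option linter.style.haveILetI false
set_option linter.unusedSectionVars false
set_option maxHeartbeats 800000

/-! Two distinct normal `E_{p²}`'s generate a subgroup containing all of them; the power subgroup
of a `p`-central subgroup. -/

namespace Cfsg.Agent.Lib.Helper4.PCh

open scoped commutatorElement
open Cfsg

universe u

variable {Γ : Type u} [Group Γ] [Finite Γ] {p : ℕ} [hp : Fact p.Prime]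

theorem relIndex_mul_card' {H L : Subgroup Γ} (h : H ≤ L) :
    H.relIndex L * Nat.card ↥H = Nat.card ↥L := by
  have h1 := Subgroup.card_mul_index (H.subgroupOf L)
  rw [Nat.card_congr (Subgroup.subgroupOfEquivOfLe h).toEquiv] at h1
  unfold Subgroup.relIndex
  rw [mul_comm]; exact h1

/-- the join of two normal `E_{p²}`'s has exponent `p` -/
theorem IsNE.sup_exponent (hp2 : p ≠ 2) {S E₁ E₂ : Subgroup Γ} (h₁ : IsNE p S E₁)
    (h₂ : IsNE p S E₂) : ∀ t ∈ E₁ ⊔ E₂, t ^ p = 1 := by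
  obtain ⟨h1S, hS1, h1c, h1e, h1card⟩ := h₁
  obtain ⟨h2S, hS2, h2c, h2e, h2card⟩ := h₂
  intro t ht
  rw [← SetLike.mem_coe, Subgroup.coe_mul_of_left_le_normalizer_right E₁ E₂ (h1S.trans hS2),
    Set.mem_mul] at ht
  obtain ⟨a, ha, b, hb, rfl⟩ := ht
  have hc1 : ⁅b, a⁆ ∈ E₁ := by
    rw [commutatorElement_def]
    have h := (Subgroup.mem_normalizer_iff.mp (hS1 (h2S hb)) a).mp ha
    have e : b * a * b⁻¹ * a⁻¹ = (b * a * b⁻¹) * a⁻¹ := by group
    rw [e]
    exact E₁.mul_mem h (E₁.inv_mem ha)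
  have hc2 : ⁅b, a⁆ ∈ E₂ := by
    rw [commutatorElement_def]
    have h := (Subgroup.mem_normalizer_iff.mp (hS2 (h1S ha)) b⁻¹).mp (E₂.inv_mem hb)
    have e : b * a * b⁻¹ * a⁻¹ = b * (a * b⁻¹ * a⁻¹) := by group
    rw [e]
    exact E₂.mul_mem hb h
  have hx : Commute a ⁅b, a⁆ :=
    congrArg Subtype.val (h1c.is_comm.comm (⟨a, ha⟩ : ↥E₁) ⟨_, hc1⟩)
  have hy : Commute b ⁅b, a⁆ :=
    congrArg Subtype.val (h2c.is_comm.comm (⟨b, hb⟩ : ↥E₂) ⟨_, hc2⟩)
  exact Cfsg.Agent.Lib.Lead.RankTwoAut.mul_pow_prime_eq_one hp.out hp2 a b hx hy (h1e a ha) (h2e b hb)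

/-- every normal `E_{p²}` lies in the join of two distinct ones -/
theorem IsNE.le_sup (hp2 : p ≠ 2) (hr : PRankLE p 2 Γ) {S E₁ E₂ E₃ : Subgroup Γ}
    (hS : IsPGroup p ↥S) (h₁ : IsNE p S E₁) (h₂ : IsNE p S E₂) (h₃ : IsNE p S E₃)
    (hne : E₁ ≠ E₂) : E₃ ≤ E₁ ⊔ E₂ := by
  set T := E₁ ⊔ E₂ with hT
  have hTS : T ≤ S := sup_le h₁.1 h₂.1
  have hTe := IsNE.sup_exponent hp2 h₁ h₂
  set Y := S ⊓ Subgroup.centralizer (E₃ : Set Γ) with hY
  have hYidx := h₃.relIndex_centralizer_le hS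
  -- `T ⊓ Y ≤ E₃`
  have hle : T ⊓ Y ≤ E₃ := by
    intro x hx
    exact h₃.mem_of_centralizes hr (hTe x hx.1) hx.2.2
  -- `|T| ≥ p ^ 3`
  have hTp : IsPGroup p ↥T := hS.to_le hTS
  obtain ⟨k, hk⟩ := (IsPGroup.iff_card).mp hTp
  have hlt : E₁ < T := by
    refine lt_of_le_of_ne le_sup_left ?_
    intro h
    apply hne
    have h2 : E₂ ≤ E₁ := by rw [h]; exact le_sup_right
    exact (Subgroup.eq_of_le_of_card_ge h2 (by rw [h₁.2.2.2.2, h₂.2.2.2.2])).symm
  have hk3 : 3 ≤ k := by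
    have h1 : Nat.card ↥E₁ < Nat.card ↥T := by
      apply lt_of_le_of_ne (Subgroup.card_le_of_le hlt.le)
      intro h
      exact hlt.ne (Subgroup.eq_of_le_of_card_ge hlt.le h.ge)
    rw [h₁.2.2.2.2, hk] at h1
    by_contra hcon
    have : k ≤ 2 := by omega
    have := Nat.pow_le_pow_right hp.out.pos this
    omega
  -- `|T| ≤ p * |T ⊓ Y|`
  have h1 : (T ⊓ Y).relIndex T ≤ p := by
    rw [Subgroup.inf_relIndex_left]
    refine (Subgroup.relIndex_le_of_le_right hTS (relIndex_ne_zero' _ _)).trans ?_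
    rw [Subgroup.inf_relIndex_left] at hYidx ⊢
    exact hYidx
  have h2 : (T ⊓ Y).relIndex T * Nat.card ↥(T ⊓ Y) = Nat.card ↥T :=
    relIndex_mul_card' inf_le_left
  have h3 : p ^ 2 ≤ Nat.card ↥(T ⊓ Y) := by
    have h4 : p ^ 3 ≤ Nat.card ↥T := by
      rw [hk]; exact Nat.pow_le_pow_right hp.out.pos hk3
    have h5 : Nat.card ↥T ≤ p * Nat.card ↥(T ⊓ Y) := by
      rw [← h2]; exact Nat.mul_le_mul_right _ h1
    have h6 : p ^ 3 = p * p ^ 2 := by ring
    rw [h6] at h4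
    exact Nat.le_of_mul_le_mul_left (h4.trans h5) hp.out.pos
  have h4 : T ⊓ Y = E₃ := by
    apply Subgroup.eq_of_le_of_card_ge hle
    rw [h₃.2.2.2.2]; exact h3
  rw [← h4]; exact inf_le_left

/-- the power subgroup of a `p`-central subgroup of rank at most two -/
theorem exists_pow_subgroup' (hp2 : p ≠ 2) (hr : PRankLE p 2 Γ) {S : Subgroup Γ}
    (hS : IsPGroup p ↥S) (hS1 : S ≠ ⊥)
    (hc : ∀ x ∈ S, x ^ p = 1 → x ∈ Subgroup.centralizer (S : Set Γ)) :
    ∃ (k : ℕ) (T : Subgroup Γ), T ≤ S ∧ T ≠ S ∧ (∀ x, x ∈ T ↔ x ∈ S ∧ x ^ (p ^ k) = 1) ∧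
      T.relIndex S ≤ p ^ 2 := by
  have hc' : PCentral p ↥S := by
    intro x hx
    rw [Subgroup.mem_center_iff]
    intro g
    have h1 : (x : Γ) ^ p = 1 := by
      have := congrArg Subtype.val hx
      simpa using this
    have h2 := Subgroup.mem_centralizer_iff.mp (hc x x.2 h1) g g.2
    exact Subtype.ext h2
  have hcard : Nat.card {x : ↥S // x ^ p = 1} ≤ p ^ 2 := by
    have h1 : Nat.card {x : ↥S // x ^ p = 1} = Nat.card ↥((om p ↥S hc').map S.subtype) := by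
      rw [Subgroup.card_map_of_injective S.subtype_injective]
      rfl
    rw [h1]
    apply hr
    · refine ⟨⟨?_⟩⟩
      rintro ⟨_, ⟨a, ha, rfl⟩⟩ ⟨_, ⟨b, hb, rfl⟩⟩
      apply Subtype.ext
      have hab : a * b = b * a :=
        ((Subgroup.mem_center_iff.mp (hc' a ha)) b).symm
      show (S.subtype a) * (S.subtype b) = (S.subtype b) * (S.subtype a)
      rw [← map_mul, ← map_mul, hab]
    · rintro _ ⟨a, ha, rfl⟩
      rw [← map_pow, show a ^ p = 1 from ha, map_one]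
  have hnt : Nontrivial ↥S := by
    rw [Subgroup.nontrivial_iff_ne_bot]; exact hS1
  obtain ⟨k, T, hT, hmem, hidx⟩ := exists_pow_subgroup hp2 hS hc' hcard hnt
  refine ⟨k, T.map S.subtype, Subgroup.map_subtype_le T, ?_, ?_, ?_⟩
  · intro h
    apply hT
    rw [eq_top_iff]
    intro x _
    have : (x : Γ) ∈ T.map S.subtype := by rw [h]; exact x.2
    obtain ⟨y, hy, hyx⟩ := this
    have : y = x := Subtype.ext hyx
    rw [← this]; exact hy
  · intro x
    constructor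
    · rintro ⟨y, hy, rfl⟩
      refine ⟨y.2, ?_⟩
      have := (hmem y).mp hy
      have h2 := congrArg Subtype.val this
      simpa using h2
    · rintro ⟨hxS, hxk⟩
      refine ⟨⟨x, hxS⟩, (hmem _).mpr ?_, rfl⟩
      apply Subtype.ext
      simpa using hxk
  · unfold Subgroup.relIndex
    have : (T.map S.subtype).subgroupOf S = T := by
      ext x
      rw [Subgroup.mem_subgroupOf]
      constructor
      · rintro ⟨y, hy, hyx⟩
        have : y = x := Subtype.ext hyx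
        rw [← this]; exact hy
      · intro hx
        exact ⟨x, hx, rfl⟩
    rw [this]; exact hidx

end Cfsg.Agent.Lib.Helper4.PCh
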