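import Mathlib
import Cfsg.Agent.Lib.Helper4.PCh4

set_option autoImplicit false
set_option linter.style.haveILetI false
set_option linter.unusedSectionVars false
set_option maxHeartbeats 1600000

/-! Main lemma: an irreducible quotient of a `p`-group of rank at most two (`p` odd) under a group
of operators has order at most `p ^ 2`. -/

namespace Cfsg.Agent.Lib.Helper4.PCh

open scoped commutatorElement
open Cfsg

universe u

variable {Γ : Type u} [Group Γ] {p : ℕ} [hp : Fact p.Prime]

theorem le_normalizer_sup'' {A B C : Subgroup Γ} (hB : A ≤ Subgroup.normalizer (B : Set Γ))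
    (hC : A ≤ Subgroup.normalizer (C : Set Γ)) :
    A ≤ Subgroup.normalizer ((B ⊔ C : Subgroup Γ) : Set Γ) := by
  intro b hb
  have e1 := Subgroup.mem_normalizer_iff_map_conj_eq.mp (hB hb)
  have e2 := Subgroup.mem_normalizer_iff_map_conj_eq.mp (hC hb)
  rw [Subgroup.mem_normalizer_iff_map_conj_eq, Subgroup.map_sup, e1, e2]

theorem normalizer_le_normalizer_centralizer' (A : Subgroup Γ) :
    Subgroup.normalizer (A : Set Γ) ≤
      Subgroup.normalizer ((Subgroup.centralizer (A : Set Γ) : Subgroup Γ) : Set Γ) := by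
  apply Cfsg.Agent.Lib.Helper4.Rk2.le_normalizer_of_conj_mem
  intro h hh c hc
  apply Subgroup.mem_centralizer_iff.mpr
  intro a ha
  have ha' : h⁻¹ * a * h ∈ A := by
    have := (Subgroup.mem_normalizer_iff.mp (Subgroup.inv_mem _ hh) a).mp ha
    simpa using this
  have h1 := Subgroup.mem_centralizer_iff.mp hc _ ha'
  calc a * (h * c * h⁻¹) = h * ((h⁻¹ * a * h) * c) * h⁻¹ := by group
    _ = h * (c * (h⁻¹ * a * h)) * h⁻¹ := by rw [h1]
    _ = h * c * h⁻¹ * a := by group

variable [Finite Γ]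

theorem main_aux (hp2 : p ≠ 2) (hr : PRankLE p 2 Γ) (N : Subgroup Γ) (n : ℕ) :
    ∀ S S₀ : Subgroup Γ, Nat.card ↥S = n → IsPGroup p ↥S → S ≤ N →
      N ≤ Subgroup.normalizer (S : Set Γ) → S₀ ≤ S → N ≤ Subgroup.normalizer (S₀ : Set Γ) →
      (∀ L : Subgroup Γ, S₀ ≤ L → L ≤ S → N ≤ Subgroup.normalizer (L : Set Γ) →
        L = S₀ ∨ L = S) →
      S₀.relIndex S ≤ p ^ 2 := by
  induction n using Nat.strong_induction_on with
  | _ n ih =>
  intro S S₀ hn hS hSN hNS hS₀ hNS₀ hirr
  have hp1 : 1 ≤ p ^ 2 := Nat.one_le_pow _ _ hp.out.pos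
  by_cases hS0S : S₀ = S
  · rw [hS0S, Subgroup.relIndex_self]; exact hp1
  have key : ∀ T : Subgroup Γ, T ≤ S → N ≤ Subgroup.normalizer (T : Set Γ) → T ≠ S →
      T ≤ S₀ ∨ S₀.relIndex S ≤ p ^ 2 := by
    intro T hTS hNT hTne
    rcases hirr (T ⊔ S₀) le_sup_right (sup_le hTS hS₀) (le_normalizer_sup'' hNT hNS₀) with h | h
    · left; rw [← h]; exact le_sup_left
    · right
      have hTN : T ≤ N := hTS.trans hSN
      have hTS₀ : T ≤ Subgroup.normalizer (S₀ : Set Γ) := hTN.trans hNS₀
      have hlt : Nat.card ↥T < n := by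
        rw [← hn]
        apply lt_of_le_of_ne (Subgroup.card_le_of_le hTS)
        intro hc
        exact hTne (Subgroup.eq_of_le_of_card_ge hTS hc.ge)
      have h1 := ih _ hlt T (T ⊓ S₀) rfl (hS.to_le hTS) hTN hNT inf_le_left
        ((le_inf hNT hNS₀).trans Subgroup.inf_normalizer_le_normalizer_inf) ?_
      · rw [Subgroup.inf_relIndex_left,
          ← Cfsg.Agent.Lib.Lead.relIndex_sup_of_le_normalizer T S₀ hTS₀, h] at h1
        exact h1
      · intro L hL1 hL2 hNL
        rcases hirr (L ⊔ S₀) le_sup_right (sup_le (hL2.trans hTS) hS₀)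
          (le_normalizer_sup'' hNL hNS₀) with h' | h'
        · left
          apply le_antisymm _ hL1
          exact le_inf hL2 (by rw [← h']; exact le_sup_left)
        · right
          apply le_antisymm hL2
          intro x hx
          have hxS : x ∈ L ⊔ S₀ := by rw [h']; exact hTS hx
          have hLn : L ≤ Subgroup.normalizer (S₀ : Set Γ) := (hL2.trans hTN).trans hNS₀
          rw [← SetLike.mem_coe, Subgroup.coe_mul_of_left_le_normalizer_right L S₀ hLn,
            Set.mem_mul] at hxS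
          obtain ⟨l, hl, s, hs, rfl⟩ := hxS
          have hsT : s ∈ T := by
            have : s = l⁻¹ * (l * s) := by group
            rw [this]; exact T.mul_mem (T.inv_mem (hL2 hl)) hx
          exact L.mul_mem hl (hL1 ⟨hsT, hs⟩)
  have bound : ∀ T : Subgroup Γ, T ≤ S → N ≤ Subgroup.normalizer (T : Set Γ) → T ≠ S →
      ∀ m : ℕ, T.relIndex S ≤ m → m ≤ p ^ 2 → S₀.relIndex S ≤ p ^ 2 := by
    intro T hTS hNT hTne m hm hmp
    rcases key T hTS hNT hTne with h | h
    · exact ((Subgroup.relIndex_le_of_le_left h (relIndex_ne_zero' _ _)).trans hm).trans hmp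
    · exact h
  by_cases hpc : ∀ x ∈ S, x ^ p = 1 → x ∈ Subgroup.centralizer (S : Set Γ)
  · have hS1 : S ≠ ⊥ := by
      intro h
      apply hS0S
      rw [h] at hS₀ ⊢
      exact le_antisymm hS₀ bot_le
    obtain ⟨k, T, hTS, hTne, hmem, hidx⟩ := exists_pow_subgroup' hp2 hr hS hS1 hpc
    refine bound T hTS ?_ hTne _ hidx le_rfl
    apply Cfsg.Agent.Lib.Helper4.Rk2.le_normalizer_of_conj_mem
    intro g hg y hy
    rw [hmem] at hy ⊢
    refine ⟨(Subgroup.mem_normalizer_iff.mp (hNS hg) y).mp hy.1, ?_⟩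
    rw [conj_pow, hy.2]; group
  · push Not at hpc
    obtain ⟨x, hxS, hxp, hxc⟩ := hpc
    have hnc : ¬ IsCyclic ↥S := by
      intro hcyc
      apply hxc
      apply Subgroup.mem_centralizer_iff.mpr
      intro s hs
      obtain ⟨g, hg⟩ := hcyc.exists_generator
      obtain ⟨i, hi⟩ := Subgroup.mem_zpowers_iff.mp (hg ⟨s, hs⟩)
      obtain ⟨j, hj⟩ := Subgroup.mem_zpowers_iff.mp (hg ⟨x, hxS⟩)
      have h1 : (⟨s, hs⟩ : ↥S) * ⟨x, hxS⟩ = ⟨x, hxS⟩ * ⟨s, hs⟩ := by
        rw [← hi, ← hj]
        exact ((Commute.refl g).zpow_zpow i j)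
      exact congrArg Subtype.val h1
    obtain ⟨E, hE⟩ := exists_ne hp2 hS hnc
    by_cases huniq : ∀ E' : Subgroup Γ, IsNE p S E' → E' = E
    · have hNE : N ≤ Subgroup.normalizer (E : Set Γ) := by
        intro g hg
        rw [Subgroup.mem_normalizer_iff_map_conj_eq]
        exact huniq _ (hE.conj (hNS hg))
      have hNC : N ≤ Subgroup.normalizer
          ((S ⊓ Subgroup.centralizer (E : Set Γ) : Subgroup Γ) : Set Γ) :=
        (le_inf hNS (hNE.trans (normalizer_le_normalizer_centralizer' E))).trans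
          Subgroup.inf_normalizer_le_normalizer_inf
      have hCne : S ⊓ Subgroup.centralizer (E : Set Γ) ≠ S := by
        intro h
        apply hxc
        have hSE : S ≤ Subgroup.centralizer (E : Set Γ) := by rw [← h]; exact inf_le_right
        have hxE : x ∈ E := hE.mem_of_centralizes hr hxp (hSE hxS)
        apply Subgroup.mem_centralizer_iff.mpr
        intro s hs
        exact ((Subgroup.mem_centralizer_iff.mp (hSE hs)) x hxE).symm
      refine bound _ inf_le_left hNC hCne p (hE.relIndex_centralizer_le hS) ?_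
      calc p = p ^ 1 := (pow_one p).symm
        _ ≤ p ^ 2 := Nat.pow_le_pow_right hp.out.pos (by norm_num)
    · push Not at huniq
      obtain ⟨E', hE', hne⟩ := huniq
      have hall : ∀ E'' : Subgroup Γ, IsNE p S E'' → E'' ≤ E ⊔ E' :=
        fun E'' h => IsNE.le_sup hp2 hr hS hE hE' h (Ne.symm hne)
      have hNT : N ≤ Subgroup.normalizer ((E ⊔ E' : Subgroup Γ) : Set Γ) := by
        apply Cfsg.Agent.Lib.Helper4.Rk2.le_normalizer_of_conj_mem
        intro g hg y hy
        have h1 : (E ⊔ E').map (MulAut.conj g).toMonoidHom ≤ E ⊔ E' := by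
          rw [Subgroup.map_sup]
          exact sup_le (hall _ (hE.conj (hNS hg))) (hall _ (hE'.conj (hNS hg)))
        exact h1 ⟨y, hy, rfl⟩
      have hCeq : S ⊓ Subgroup.centralizer ((E ⊔ E' : Subgroup Γ) : Set Γ) =
          (S ⊓ Subgroup.centralizer (E : Set Γ)) ⊓ (S ⊓ Subgroup.centralizer (E' : Set Γ)) := by
        rw [Cfsg.Agent.Lib.Helper4.BG22.centralizer_sup_eq]
        ext y
        simp only [Subgroup.mem_inf]
        tauto
      have hidx : (S ⊓ Subgroup.centralizer ((E ⊔ E' : Subgroup Γ) : Set Γ)).relIndex S ≤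
          p ^ 2 := by
        rw [hCeq]
        refine (Subgroup.relIndex_inf_le).trans ?_
        rw [sq]
        exact Nat.mul_le_mul (hE.relIndex_centralizer_le hS) (hE'.relIndex_centralizer_le hS)
      have hNC : N ≤ Subgroup.normalizer
          ((S ⊓ Subgroup.centralizer ((E ⊔ E' : Subgroup Γ) : Set Γ) : Subgroup Γ) : Set Γ) :=
        (le_inf hNS (hNT.trans (normalizer_le_normalizer_centralizer' _))).trans
          Subgroup.inf_normalizer_le_normalizer_inf
      have hCne : S ⊓ Subgroup.centralizer ((E ⊔ E' : Subgroup Γ) : Set Γ) ≠ S := by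
        intro h
        have hST : S ≤ Subgroup.centralizer ((E ⊔ E' : Subgroup Γ) : Set Γ) := by
          rw [← h]; exact inf_le_right
        have hTS : E ⊔ E' ≤ S := sup_le hE.1 hE'.1
        have hTc : IsMulCommutative ↥(E ⊔ E') := by
          refine ⟨⟨?_⟩⟩
          rintro ⟨a, ha⟩ ⟨b, hb⟩
          apply Subtype.ext
          exact ((Subgroup.mem_centralizer_iff.mp (hST (hTS hb))) a ha)
        have h1 := hr _ hTc (IsNE.sup_exponent hp2 hE hE')
        have h2 : E = E ⊔ E' := by
          apply Subgroup.eq_of_le_of_card_ge le_sup_left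
          rw [hE.2.2.2.2]; exact h1
        apply hne
        have h3 : E' ≤ E := by rw [h2]; exact le_sup_right
        exact Subgroup.eq_of_le_of_card_ge h3 (by rw [hE.2.2.2.2, hE'.2.2.2.2])
      exact bound _ inf_le_left hNC hCne _ hidx le_rfl

/-- **Main lemma.** -/
theorem main (hp2 : p ≠ 2) (hr : PRankLE p 2 Γ) (N S S₀ : Subgroup Γ) (hS : IsPGroup p ↥S)
    (hSN : S ≤ N) (hNS : N ≤ Subgroup.normalizer (S : Set Γ)) (hS₀ : S₀ ≤ S)
    (hNS₀ : N ≤ Subgroup.normalizer (S₀ : Set Γ))
    (hirr : ∀ L : Subgroup Γ, S₀ ≤ L → L ≤ S → N ≤ Subgroup.normalizer (L : Set Γ) →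
      L = S₀ ∨ L = S) :
    S₀.relIndex S ≤ p ^ 2 :=
  main_aux hp2 hr N _ S S₀ rfl hS hSN hNS hS₀ hNS₀ hirr

end Cfsg.Agent.Lib.Helper4.PCh
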