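import Mathlib
import Cfsg.Agent.Lib.Helper4.PL3

set_option autoImplicit false
open scoped commutatorElement

/-! Groups of exponent dividing six: `3`-length one. -/

namespace Cfsg.Agent.Lib.Helper4.PL

open Cfsg Cfsg.Agent.Lib.Helper4

universe u

/-- The matrix of order four in `SL₂(3)`. -/
def w3 : Matrix.SpecialLinearGroup (Fin 2) (ZMod 3) :=
  ⟨!![0, 1; -1, 0], by simp [Matrix.det_fin_two]⟩

theorem w3_mul_self : w3 * w3 = Cfsg.Agent.Lib.Lead.QdLib.z0 3 := by
  apply Subtype.ext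
  rw [Matrix.SpecialLinearGroup.coe_mul]
  ext i j
  fin_cases i <;> fin_cases j <;>
    simp [w3, Cfsg.Agent.Lib.Lead.QdLib.z0, Matrix.mul_apply, Fin.sum_univ_two]

theorem qf_of_exp_six {X : Type u} [Group X] (h : ∀ x : X, x ^ 6 = 1) :
    Cfsg.Agent.Lib.Lead.SCF.QF 3 X := by
  haveI : Fact (Nat.Prime 3) := Nat.fact_prime_three
  rintro ⟨K, f, hf⟩
  obtain ⟨k, hk⟩ := hf (Cfsg.Agent.Lib.Lead.QdLib.deltaQ 3 w3)
  have h1 : k ^ 6 = 1 := by
    apply Subtype.ext
    rw [Subgroup.coe_pow]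
    exact h _
  have h2 : (Cfsg.Agent.Lib.Lead.QdLib.deltaQ 3 w3) ^ 6 = 1 := by
    rw [← hk, ← map_pow, h1, map_one]
  have h3 := congrArg (Cfsg.Agent.Lib.Lead.QdLib.beta 3) h2
  rw [map_pow, Cfsg.Agent.Lib.Lead.QdLib.beta_deltaQ, map_one] at h3
  have h4 : w3 ^ 6 = Cfsg.Agent.Lib.Lead.QdLib.z0 3 := by
    have : w3 ^ 6 = (w3 * w3) ^ 3 := by rw [← pow_two, ← pow_mul]
    rw [this, w3_mul_self, pow_succ, pow_two, Cfsg.Agent.Lib.Lead.QdLib.z0_mul_self, one_mul]
  rw [h4] at h3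
  exact Cfsg.Agent.Lib.Lead.OddStable.z0_ne_one (p := 3) (by decide) h3

section

variable {Y : Type u} [Group Y] [Finite Y]

theorem pow_three_of_mem_sylow (hexp : ∀ x : Y, x ^ 6 = 1) (T : Subgroup Y) (hT : IsPGroup 3 T)
    {x : Y} (hx : x ∈ T) : x ^ 3 = 1 := by
  obtain ⟨k, hk⟩ := hT ⟨x, hx⟩
  have hk' : x ^ 3 ^ k = 1 := by
    have := congrArg Subtype.val hk
    simpa using this
  have h1 : orderOf x ∣ 2 * 3 := orderOf_dvd_of_pow_eq_one (hexp x)
  have h2 : orderOf x ∣ 3 ^ k := orderOf_dvd_of_pow_eq_one hk'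
  have h3 : (orderOf x).Coprime 2 := by
    apply Nat.Coprime.coprime_dvd_left h2
    apply Nat.Coprime.pow_left
    decide
  have h4 : orderOf x ∣ 3 := Nat.Coprime.dvd_of_dvd_mul_left h3 h1
  exact orderOf_dvd_iff_pow_eq_one.1 h4

theorem mem_zpowers_cases {t s : Y} (ht : t ^ 3 = 1) (hs : s ∈ Subgroup.zpowers t) :
    s = 1 ∨ s = t ∨ s = t⁻¹ := by
  obtain ⟨i, rfl⟩ := Subgroup.mem_zpowers_iff.1 hs
  have h1 : t ^ i = t ^ (i % 3) := by
    conv_lhs => rw [← Int.emod_add_mul_ediv i 3]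
    rw [zpow_add, zpow_mul]
    have : t ^ (3 : ℤ) = 1 := by
      have := ht
      exact_mod_cast this
    rw [this, one_zpow, mul_one]
  have h2 := Int.emod_nonneg i (by norm_num : (3 : ℤ) ≠ 0)
  have h3 := Int.emod_lt_of_pos i (by norm_num : (0 : ℤ) < 3)
  rw [h1]
  have h4 : i % 3 = 0 ∨ i % 3 = 1 ∨ i % 3 = 2 := by omega
  rcases h4 with h | h | h
  · left; rw [h, zpow_zero]
  · right; left; rw [h, zpow_one]
  · right; right
    rw [h]
    have h5 : t ^ (2 : ℤ) * t = 1 := by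
      have : t ^ (2 : ℤ) * t = t ^ 3 := by
        rw [show (2 : ℤ) = ((2 : ℕ) : ℤ) from rfl, zpow_natCast]
        rw [pow_succ t 2]
      rw [this, ht]
    exact eq_inv_of_mul_eq_one_left h5

theorem sylow_le_pCore_of_exp_six [Group.IsSolvable Y] (hexp : ∀ x : Y, x ^ 6 = 1)
    (hred : pPrimeCore 3 Y = ⊥) [Fact (Nat.Prime 3)] (T : Sylow 3 Y) :
    (T : Subgroup Y) ≤ pCore 3 Y := by
  have hps : ∀ (N : Subgroup Y) (hN : N.Normal), IsNormalizerPStable 3 (Y ⧸ N) := by
    intro N hN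
    apply Cfsg.Agent.Lib.Lead.SCF.isNormalizerPStable_of_qf (by decide)
    apply qf_of_exp_six
    intro x
    obtain ⟨y, rfl⟩ := QuotientGroup.mk_surjective x
    rw [← QuotientGroup.mk_pow, hexp, QuotientGroup.mk_one]
  have hc := Cfsg.Agent.Lib.Lead.OddStable.centralizer_pCore_le_of_solvable (p := 3) hred
  obtain ⟨A, hAT, hAn, -, hTA, hCA⟩ := exists_critical_pCore Y 3
  haveI := hAn
  have hT3 : ∀ x ∈ (T : Subgroup Y), x ^ 3 = 1 := fun x hx =>
    pow_three_of_mem_sylow hexp (T : Subgroup Y) T.isPGroup' hx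
  intro t ht
  have ht3 : t ^ 3 = 1 := hT3 t ht
  apply mem_pCore_of_quadratic_chief hps hc A hAT hTA hCA t
  intro U V hch hUA
  haveI hVn : V.Normal := hch.2.2.1
  haveI hUn : U.Normal := hch.2.1
  have hUT : U ≤ T := hUA.trans (hAT.trans (Cfsg.Agent.Lib.Helper6.pCore_le_sylow T))
  have hUp : IsPGroup 3 U := T.isPGroup'.to_le hUT
  have hUU : ⁅U, U⁆ ≤ V := chief_commutator_le_of_isPGroup hch U hUp le_rfl
  set π := QuotientGroup.mk' V with hπ
  have hcommU : ∀ x ∈ U, ∀ y ∈ U, π x * π y = π y * π x := by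
    intro x hx y hy
    have h1 : ⁅x, y⁆ ∈ V := hUU (Subgroup.commutator_mem_commutator hx hy)
    have h2 : π ⁅x, y⁆ = 1 := (QuotientGroup.eq_one_iff _).2 h1
    rw [map_commutatorElement, commutatorElement_eq_one_iff_commute] at h2
    exact h2
  -- the subgroup of U centralizing t modulo V
  set C' : Subgroup Y := U ⊓ (Subgroup.centralizer ({π t} : Set (Y ⧸ V))).comap π with hC'
  have hmemC' : ∀ x : Y, x ∈ C' ↔ x ∈ U ∧ π t * π x = π x * π t := by
    intro x
    rw [hC', Subgroup.mem_inf, Subgroup.mem_comap, Subgroup.mem_centralizer_iff]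
    constructor
    · rintro ⟨h1, h2⟩
      exact ⟨h1, h2 _ (Set.mem_singleton _)⟩
    · rintro ⟨h1, h2⟩
      refine ⟨h1, fun z hz => ?_⟩
      rw [Set.mem_singleton_iff] at hz
      rw [hz]
      exact h2
  -- (i)
  have hi : ∀ u ∈ U, ⁅u, t⁆ ∈ C' := by
    intro u hu
    rw [hmemC']
    have hut : t * u * t⁻¹ ∈ U := hUn.conj_mem u hu t
    have hutt : t * (t * u * t⁻¹) * t⁻¹ ∈ U := hUn.conj_mem _ hut t
    refine ⟨?_, ?_⟩
    · rw [commutatorElement_def]
      have : u * t * u⁻¹ * t⁻¹ = u * (t * u⁻¹ * t⁻¹) := by group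
      rw [this]
      exact U.mul_mem hu (hUn.conj_mem _ (U.inv_mem hu) t)
    · have hab := hcommU u hu _ hut
      have hN : π u * π (t * u * t⁻¹) * π (t * (t * u * t⁻¹) * t⁻¹) = 1 := by
        have h1 : (u * t) * (u * t) * (u * t) = 1 := by
          have := hT3 _ (Subgroup.mul_mem _ (hUT hu) ht)
          rwa [pow_succ, pow_two] at this
        have ht3' : t * t * t = 1 := by
          have := ht3
          rwa [pow_succ, pow_two] at this
        have h2 : u * (t * u * t⁻¹) * (t * (t * u * t⁻¹) * t⁻¹) =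
            ((u * t) * (u * t) * (u * t)) * (t * t * t)⁻¹ := by
          group
        rw [← map_mul, ← map_mul, h2, h1, ht3', inv_one, mul_one, map_one]
      have hd : π u * π (t * u * t⁻¹) = (π (t * (t * u * t⁻¹) * t⁻¹))⁻¹ :=
        eq_inv_of_mul_eq_one_left hN
      have hb3 : π (t * u * t⁻¹) * π (t * u * t⁻¹) = (π (t * u * t⁻¹))⁻¹ := by
        apply eq_inv_of_mul_eq_one_left
        rw [← map_mul, ← map_mul]
        have := hT3 _ (hUT hut)
        rw [pow_succ, pow_two] at this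
        rw [this, map_one]
      rw [map_commutatorElement, commutatorElement_def]
      calc π t * (π u * π t * (π u)⁻¹ * (π t)⁻¹)
          = π (t * u * t⁻¹) * (π (t * (t * u * t⁻¹) * t⁻¹))⁻¹ * π t := by
            simp only [map_mul, map_inv]; group
        _ = π (t * u * t⁻¹) * (π u * π (t * u * t⁻¹)) * π t := by rw [hd]
        _ = π u * (π (t * u * t⁻¹) * π (t * u * t⁻¹)) * π t := by
            rw [← mul_assoc (π (t * u * t⁻¹)) (π u), ← hab, mul_assoc (π u)]
        _ = π u * (π (t * u * t⁻¹))⁻¹ * π t := by rw [hb3]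
        _ = π u * π t * (π u)⁻¹ * (π t)⁻¹ * π t := by
            simp only [map_mul, map_inv]; group
  -- conjugation by t⁻¹ preserves C'
  have hconj : ∀ x ∈ C', t⁻¹ * x * t ∈ C' := by
    intro x hx
    rw [hmemC'] at hx ⊢
    obtain ⟨hxU, hxt⟩ := hx
    refine ⟨?_, ?_⟩
    · have := hUn.conj_mem x hxU t⁻¹
      rwa [inv_inv] at this
    · have h1 : π (t⁻¹ * x * t) = π x := by
        rw [map_mul, map_mul, map_inv]
        calc (π t)⁻¹ * π x * π t = (π t)⁻¹ * (π x * π t) := by group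
          _ = (π t)⁻¹ * (π t * π x) := by rw [hxt]
          _ = π x := by group
      rw [h1]
      exact hxt
  -- (i')
  have hi' : ⁅U, Subgroup.zpowers t⁆ ≤ C' := by
    rw [Subgroup.commutator_le]
    intro u hu s hs
    rcases mem_zpowers_cases ht3 hs with rfl | rfl | rfl
    · rw [commutatorElement_def]
      have : u * 1 * u⁻¹ * (1 : Y)⁻¹ = 1 := by group
      rw [this]
      exact C'.one_mem
    · exact hi u hu
    · have h1 : ⁅u, t⁻¹⁆ = t⁻¹ * ⁅u, t⁆⁻¹ * t := by
        rw [commutatorElement_def, commutatorElement_def]; group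
      rw [h1]
      exact hconj _ (C'.inv_mem (hi u hu))
  -- (ii)
  have hii : ⁅C', Subgroup.zpowers t⁆ ≤ V := by
    rw [Subgroup.commutator_le]
    intro x hx s hs
    obtain ⟨i, rfl⟩ := Subgroup.mem_zpowers_iff.1 hs
    rw [hmemC'] at hx
    have h1 : Commute (π x) (π t) := hx.2.symm
    have h2 : π ⁅x, t ^ i⁆ = 1 := by
      rw [map_commutatorElement, map_zpow, commutatorElement_eq_one_iff_commute]
      exact h1.zpow_right i
    exact (QuotientGroup.eq_one_iff _).1 h2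
  exact (Subgroup.commutator_mono hi' le_rfl).trans hii

end

end Cfsg.Agent.Lib.Helper4.PL
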