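import Mathlib
import Cfsg.Agent.Lib.Helper4.PL4
import Cfsg.Agent.S0144

set_option autoImplicit false
open scoped commutatorElement

/-! Groups of exponent dividing six have `2`-length and `3`-length at most one. -/

namespace Cfsg.Agent.Lib.Helper4.PL

open Cfsg Cfsg.Agent.Lib.Helper4

universe u

section

variable {G : Type u} [Group G] [Finite G]

theorem prime_dvd_card_of_exp_six (h : ∀ x : G, x ^ 6 = 1) {q : ℕ} (hq : q.Prime)
    (hdvd : q ∣ Nat.card G) : q = 2 ∨ q = 3 := by
  haveI : Fact q.Prime := ⟨hq⟩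
  obtain ⟨x, hx⟩ := exists_prime_orderOf_dvd_card' q hdvd
  have h1 : q ∣ 2 * 3 := by
    rw [← hx]
    exact orderOf_dvd_of_pow_eq_one (h x)
  rcases (Nat.Prime.dvd_mul hq).1 h1 with h2 | h2
  · left; exact (Nat.prime_dvd_prime_iff_eq hq Nat.prime_two).1 h2
  · right; exact (Nat.prime_dvd_prime_iff_eq hq Nat.prime_three).1 h2

theorem isSolvable_of_exp_six (h : ∀ x : G, x ^ 6 = 1) : Group.IsSolvable G := by
  have hn : Nat.card G ≠ 0 := Nat.card_pos.ne'
  obtain ⟨a, m, hm2, hnm⟩ := Nat.exists_eq_pow_mul_and_not_dvd hn 2 (by norm_num)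
  have hm0 : m ≠ 0 := by
    rintro rfl
    rw [mul_zero] at hnm
    exact hn hnm
  obtain ⟨b, m', hm3, hmm⟩ := Nat.exists_eq_pow_mul_and_not_dvd hm0 3 (by norm_num)
  have hm'1 : m' = 1 := by
    by_contra hne
    obtain ⟨q, hq, hqm⟩ := Nat.exists_prime_and_dvd hne
    have hqm2 : q ∣ m := by rw [hmm]; exact Dvd.dvd.mul_left hqm _
    have hqn : q ∣ Nat.card G := by rw [hnm]; exact Dvd.dvd.mul_left hqm2 _
    rcases prime_dvd_card_of_exp_six h hq hqn with rfl | rfl
    · exact hm2 hqm2
    · exact hm3 hqm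
  rw [hm'1, mul_one] at hmm
  rw [hmm] at hnm
  exact Cfsg.Agent.S0144.result 2 3 a b Nat.prime_two Nat.prime_three hnm

theorem exp_six_pLength (h : ∀ x : G, x ^ 6 = 1) : PLengthLE 2 1 G ∧ PLengthLE 3 1 G := by
  haveI : Group.IsSolvable G := isSolvable_of_exp_six h
  haveI : Fact (Nat.Prime 2) := Nat.fact_prime_two
  haveI : Fact (Nat.Prime 3) := Nat.fact_prime_three
  constructor
  · let P : Sylow 2 G := default
    apply pLengthLE_one_of_abelian P
    have hsq : ∀ x ∈ (P : Subgroup G), x * x = 1 := by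
      intro x hx
      obtain ⟨k, hk⟩ := P.isPGroup' ⟨x, hx⟩
      have hk' : x ^ 2 ^ k = 1 := by
        have := congrArg Subtype.val hk
        simpa using this
      have h1 : orderOf x ∣ 3 * 2 := orderOf_dvd_of_pow_eq_one (h x)
      have h2 : orderOf x ∣ 2 ^ k := orderOf_dvd_of_pow_eq_one hk'
      have h3 : (orderOf x).Coprime 3 := by
        apply Nat.Coprime.coprime_dvd_left h2
        apply Nat.Coprime.pow_left
        decide
      have h4 : orderOf x ∣ 2 := Nat.Coprime.dvd_of_dvd_mul_left h3 h1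
      have := orderOf_dvd_iff_pow_eq_one.1 h4
      rwa [pow_two] at this
    intro a ha b hb
    have h1 := hsq (a * b) (Subgroup.mul_mem _ ha hb)
    have h2 := hsq a ha
    have h3 := hsq b hb
    calc a * b = a * (a * b * (a * b)) * b := by rw [h1, mul_one]
      _ = (a * a) * (b * a) * (b * b) := by group
      _ = b * a := by rw [h2, h3, one_mul, mul_one]
  · let P : Sylow 3 G := default
    apply pLengthLE_one_of_normal P
    apply sup_sylow_normal_of_quotient P
    intro T
    haveI hKn : (pPrimeCore 3 G).Normal := Cfsg.Agent.Lib.Helper7.SylNorm.pPrimeCore_normal' 3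
    have hred : pPrimeCore 3 (G ⧸ pPrimeCore 3 G) = ⊥ := pPrimeCore_quotient_self 3
    apply sylow_le_pCore_of_exp_six _ hred T
    intro x
    obtain ⟨y, rfl⟩ := QuotientGroup.mk_surjective x
    rw [← QuotientGroup.mk_pow, h, QuotientGroup.mk_one]

end

end Cfsg.Agent.Lib.Helper4.PL
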