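import Mathlib

/-!
# Two small tools on actions

* `subAct B W hB` : the action of a subgroup `B ≤ T` on an additive subgroup `W ≤ V` stabilized by `B`;
* `FQ L N` : the quotient of `L` by the kernel of its action on `N`, acting faithfully on `N`.
-/

set_option autoImplicit false
set_option linter.unusedSectionVars false
set_option linter.unusedVariables false
set_option linter.style.haveILetI false

namespace Cfsg.Agent.Lib.Helper4.PQX

universe u w

section subact

variable {V : Type u} [AddCommGroup V] {T : Type w} [Group T] [DistribMulAction T V]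

/-- the action of a subgroup `B` of `T` on an additive subgroup `W` of `V` which it stabilizes -/
@[reducible] def subAct (B : Subgroup T) (W : AddSubgroup V) (hB : ∀ b ∈ B, ∀ w ∈ W, b • w ∈ W) :
    DistribMulAction ↥B ↥W where
  smul b w := ⟨(b : T) • (w : V), hB b b.2 w w.2⟩
  one_smul w := Subtype.ext (one_smul T (w : V))
  mul_smul b b' w := Subtype.ext (mul_smul (b : T) (b' : T) (w : V))
  smul_zero b := Subtype.ext (smul_zero (b : T))
  smul_add b w w' := Subtype.ext (smul_add (b : T) (w : V) (w' : V))

theorem subAct_coe (B : Subgroup T) (W : AddSubgroup V) (hB : ∀ b ∈ B, ∀ w ∈ W, b • w ∈ W)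
    (b : B) (w : W) :
    (((subAct B W hB).toMulAction.toSMul.smul b w : W) : V) = (b : T) • (w : V) := rfl

end subact

section fq

variable (L : Type w) [Group L] (N : Type u) [AddCommGroup N] [DistribMulAction L N]

/-- the kernel of the action of `L` on `N` -/
def actKer : Subgroup L := (MulAction.toPermHom L N).ker

instance actKer_normal : (actKer L N).Normal := MonoidHom.normal_ker _

theorem mem_actKer {g : L} : g ∈ actKer L N ↔ ∀ n : N, g • n = n := by
  unfold actKer
  rw [MonoidHom.mem_ker]
  constructor
  · intro h n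
    have := congrArg (fun σ : Equiv.Perm N => σ n) h
    simpa using this
  · intro h
    ext n
    simpa using h n

/-- the faithful quotient of `L` acting on `N` -/
def FQ : Type w := L ⧸ actKer L N

instance : Group (FQ L N) := inferInstanceAs (Group (L ⧸ actKer L N))

instance [Finite L] : Finite (FQ L N) := inferInstanceAs (Finite (L ⧸ actKer L N))

/-- the projection -/
def FQ.mk : L →* FQ L N := QuotientGroup.mk' (actKer L N)

theorem FQ.mk_surjective : Function.Surjective (FQ.mk L N) := QuotientGroup.mk'_surjective _

theorem FQ.mk_eq_one_iff {g : L} : FQ.mk L N g = 1 ↔ ∀ n : N, g • n = n := by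
  exact (QuotientGroup.eq_one_iff (N := actKer L N) g).trans (mem_actKer L N)

theorem FQ.mk_eq_mk_iff {g g' : L} : FQ.mk L N g = FQ.mk L N g' ↔ ∀ n : N, g • n = g' • n := by
  rw [← mul_inv_eq_one, ← map_inv, ← map_mul, FQ.mk_eq_one_iff]
  constructor
  · intro h n
    have := h (g' • n)
    rwa [mul_smul, inv_smul_smul] at this
  · intro h n
    rw [mul_smul, h, smul_inv_smul]

/-- the permutation of `N` attached to an element of the quotient -/
def FQ.perm : FQ L N →* Equiv.Perm N :=
  QuotientGroup.lift (actKer L N) (MulAction.toPermHom L N) (fun _ h => h)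

theorem FQ.perm_mk (g : L) (n : N) : FQ.perm L N (FQ.mk L N g) n = g • n := rfl

instance : DistribMulAction (FQ L N) N where
  smul l n := FQ.perm L N l n
  one_smul n := by
    show FQ.perm L N 1 n = n
    rw [map_one]; rfl
  mul_smul l l' n := by
    show FQ.perm L N (l * l') n = FQ.perm L N l (FQ.perm L N l' n)
    rw [map_mul]; rfl
  smul_zero l := by
    obtain ⟨g, rfl⟩ := FQ.mk_surjective L N l
    show FQ.perm L N (FQ.mk L N g) 0 = 0
    rw [FQ.perm_mk, smul_zero]
  smul_add l n n' := by
    obtain ⟨g, rfl⟩ := FQ.mk_surjective L N l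
    show FQ.perm L N (FQ.mk L N g) (n + n') =
      FQ.perm L N (FQ.mk L N g) n + FQ.perm L N (FQ.mk L N g) n'
    rw [FQ.perm_mk, FQ.perm_mk, FQ.perm_mk, smul_add]

theorem FQ.mk_smul (g : L) (n : N) : FQ.mk L N g • n = g • n := rfl

theorem FQ.faithful (l : FQ L N) (h : ∀ n : N, l • n = n) : l = 1 := by
  obtain ⟨g, rfl⟩ := FQ.mk_surjective L N l
  rw [FQ.mk_eq_one_iff]
  intro n
  exact h n

end fq

end Cfsg.Agent.Lib.Helper4.PQX
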