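import Mathlib
import Cfsg.Agent.Lib.Helper4.HH17
import Cfsg.Agent.Lib.Helper4.S3HH
import Cfsg.Agent.Lib.Helper4.PQDefs
import Cfsg.Agent.Lib.Helper4.PQX0

/-!
# The extraspecial Hall–Higman statement (`HH.hh_extra_act` = S3764) for a non-faithful action on a
submodule

`P` a `q`-group normalized by `x` of prime order `r`, both stabilizing `W ≤ V` with `C_W(x) = 0`;
`K₀ = C_P(W)`; `Z/K₀ = Z(P/K₀) = (P/K₀)'` of order `q`, `P/Z` of exponent `q`, `C_{P/K₀}(x) = Z/K₀ ≠ P/K₀`.
Then `q = 2`, `r = 2^j + 1` and `|P : Z| = 2^{2j}`.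
-/

set_option autoImplicit false
set_option linter.unusedSectionVars false
set_option linter.unusedVariables false
set_option linter.style.haveILetI false

namespace Cfsg.Agent.Lib.Helper4.PQX

open Cfsg.Agent.Lib.Helper4.PQ
open scoped commutatorElement

universe u w

variable {V : Type u} [AddCommGroup V] [Finite V] {T : Type w} [Group T] [Finite T]
  [DistribMulAction T V]

/-- an element of finite order mapping `W` into itself maps `W` onto itself -/
theorem inv_smul_mem_of_pow {x : T} {r : ℕ} (hr : 0 < r) (hx : x ^ r = 1) (W : AddSubgroup V)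
    (hWx : ∀ w ∈ W, x • w ∈ W) : ∀ w ∈ W, x⁻¹ • w ∈ W := by
  have hpow : ∀ k : ℕ, ∀ w ∈ W, x ^ k • w ∈ W := by
    intro k
    induction k with
    | zero => intro w hw; simpa using hw
    | succ k ih => intro w hw; rw [pow_succ', mul_smul]; exact hWx _ (ih w hw)
  intro w hw
  have h1 : x⁻¹ = x ^ (r - 1) := by
    rw [inv_eq_iff_mul_eq_one, ← pow_succ', Nat.sub_add_cancel hr, hx]
  rw [h1]
  exact hpow _ w hw

theorem sup_zpowers_stab (P : Subgroup T) (x : T) {r : ℕ} (hr : 0 < r) (hx : x ^ r = 1)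
    (W : AddSubgroup V) (hWP : ∀ u ∈ P, ∀ w ∈ W, u • w ∈ W) (hWx : ∀ w ∈ W, x • w ∈ W) :
    ∀ b ∈ P ⊔ Subgroup.zpowers x, ∀ w ∈ W, b • w ∈ W := by
  let St : Subgroup T :=
    { carrier := {g | ∀ w, w ∈ W ↔ g • w ∈ W}
      mul_mem' := by
        intro a b ha hb w
        rw [mul_smul]
        exact (hb w).trans (ha _)
      one_mem' := by intro w; rw [one_smul]
      inv_mem' := by
        intro a ha w
        have := ha (a⁻¹ • w)
        rw [smul_inv_smul] at this
        exact this.symm }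
  have hP : P ≤ St := by
    intro u hu w
    constructor
    · exact hWP u hu w
    · intro h
      have := hWP u⁻¹ (P.inv_mem hu) _ h
      rwa [inv_smul_smul] at this
  have hxS : x ∈ St := by
    intro w
    constructor
    · exact hWx w
    · intro h
      have := inv_smul_mem_of_pow hr hx W hWx _ h
      rwa [inv_smul_smul] at this
  have hle : P ⊔ Subgroup.zpowers x ≤ St := sup_le hP ((Subgroup.zpowers_le).2 hxS)
  intro b hb w hw
  exact ((hle hb) w).1 hw

theorem hh_extra_sub {ℓ q r : ℕ} (hℓ : ℓ.Prime) (hq : q.Prime) (hr : r.Prime)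
    (hqr : q ≠ r) (hqℓ : q ≠ ℓ) (hrℓ : r ≠ ℓ) (hVℓ : ∀ v : V, ℓ • v = 0)
    (P Z : Subgroup T) (x : T) (W : AddSubgroup V)
    (hP : IsPGroup q P) (hx : x ^ r = 1) (hxP : ∀ m ∈ P, x * m * x⁻¹ ∈ P)
    (hWP : ∀ u ∈ P, ∀ w ∈ W, u • w ∈ W) (hWx : ∀ w ∈ W, x • w ∈ W)
    (hWfix : ∀ w ∈ W, x • w = w → w = 0)
    (z0 : CW P W ≤ Z) (z1 : Z ≤ P)
    (z2 : ∀ z ∈ Z, ∀ w ∈ W, (x * z) • w = (z * x) • w)
    (z3 : ∀ z ∈ Z, ∀ m ∈ P, ∀ w ∈ W, (z * m) • w = (m * z) • w)
    (z4 : ∀ u ∈ P, ∀ v ∈ P, u * v * u⁻¹ * v⁻¹ ∈ Z)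
    (z5 : (CW P W).relIndex Z = q) (z6 : ∀ m ∈ P, m ^ q ∈ Z)
    (z7 : ∀ v ∈ P, (∀ u ∈ P, ∀ w ∈ W, (u * v) • w = (v * u) • w) → v ∈ Z)
    (z8 : ∀ m ∈ P, (∀ w ∈ W, (x * m) • w = (m * x) • w) → m ∈ Z) (z9 : Z ≠ P) :
    q = 2 ∧ ∃ j : ℕ, r = 2 ^ j + 1 ∧ Z.relIndex P = 2 ^ (2 * j) := by
  classical
  haveI : Fact ℓ.Prime := ⟨hℓ⟩
  set B : Subgroup T := P ⊔ Subgroup.zpowers x with hBdef
  have hPB : P ≤ B := le_sup_left
  have hxB : x ∈ B := Subgroup.mem_sup_right (Subgroup.mem_zpowers x)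
  have hZB : Z ≤ B := z1.trans hPB
  have hB : ∀ b ∈ B, ∀ w ∈ W, b • w ∈ W := sup_zpowers_stab P x hr.pos hx W hWP hWx
  letI iact : DistribMulAction ↥B ↥W := subAct B W hB
  have hcoe : ∀ (b : B) (w : W), ((b • w : W) : V) = (b : T) • (w : V) := fun b w => rfl
  let π : ↥B →* FQ ↥B ↥W := FQ.mk ↥B ↥W
  have hπeq : ∀ b b' : B, π b = π b' ↔ ∀ w ∈ W, (b : T) • w = (b' : T) • w := by
    intro b b'
    rw [FQ.mk_eq_mk_iff]
    constructor
    · intro h w hw
      have := congrArg Subtype.val (h ⟨w, hw⟩)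
      simpa [hcoe] using this
    · intro h n
      apply Subtype.ext
      rw [hcoe, hcoe]
      exact h n n.2
  have hπone : ∀ b : B, π b = 1 ↔ ∀ w ∈ W, (b : T) • w = w := by
    intro b
    rw [← map_one π, hπeq]
    simp
  -- the three objects in the quotient
  set P' : Subgroup ↥B := P.subgroupOf B with hP'
  set Z' : Subgroup ↥B := Z.subgroupOf B with hZ'
  let xB : ↥B := ⟨x, hxB⟩
  have hZ'P' : Z' ≤ P' := fun b hb => z1 hb
  -- membership of images
  have hmemZ : ∀ m : B, (m : T) ∈ P → π m ∈ Z'.map π → (m : T) ∈ Z := by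
    intro m hm hmz
    obtain ⟨z, hz, hzm⟩ := hmz
    have hz' : (z : T) ∈ Z := hz
    have h1 : ∀ w ∈ W, (z : T) • w = (m : T) • w := (hπeq z m).1 hzm
    have h2 : (m : T) * (z : T)⁻¹ ∈ CW P W := by
      refine ⟨P.mul_mem hm (P.inv_mem (z1 hz')), ?_⟩
      intro w hw
      have hw' : (z : T)⁻¹ • w ∈ W := hB _ (B.inv_mem z.2) w hw
      rw [mul_smul, ← h1 _ hw', smul_inv_smul]
    have h3 := Z.mul_mem (z0 h2) hz'
    rwa [inv_mul_cancel_right] at h3
  -- the multiplicative form of the action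
  letI imul : MulDistribMulAction (FQ ↥B ↥W) (Multiplicative ↥W) :=
    Cfsg.Agent.Lib.Helper4.S3HH.mulAct (FQ ↥B ↥W) ↥W
  have hmulsmul : ∀ (a : FQ ↥B ↥W) (v : Multiplicative ↥W),
      a • v = Multiplicative.ofAdd (a • Multiplicative.toAdd v) := fun a v => rfl
  have hzn : ∀ e ∈ Subgroup.zpowers x, ∀ m ∈ P, e * m * e⁻¹ ∈ P := by
    have hle : Subgroup.zpowers x ≤ Subgroup.normalizer (P : Set T) := by
      rw [Subgroup.zpowers_le, Subgroup.mem_normalizer_iff]
      intro m
      constructor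
      · exact hxP m
      · intro h
        -- x⁻¹ = x^(r-1) normalizes too
        have hpow : ∀ k : ℕ, ∀ m ∈ P, x ^ k * m * (x ^ k)⁻¹ ∈ P := by
          intro k
          induction k with
          | zero => intro m hm; simpa using hm
          | succ k ih =>
            intro m hm
            have : x ^ (k + 1) * m * (x ^ (k + 1))⁻¹ = x * (x ^ k * m * (x ^ k)⁻¹) * x⁻¹ := by
              rw [pow_succ']; group
            rw [this]
            exact hxP _ (ih m hm)
        have h1 : x⁻¹ = x ^ (r - 1) := by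
          rw [inv_eq_iff_mul_eq_one, ← pow_succ', Nat.sub_add_cancel hr.pos, hx]
        have h2 := hpow (r - 1) _ h
        rw [← h1] at h2
        have h3 : x⁻¹ * (x * m * x⁻¹) * x⁻¹⁻¹ = m := by group
        rwa [h3] at h2
    intro e he m hm
    exact (Subgroup.mem_normalizer_iff.1 (hle he) m).1 hm
  haveI hP'n : P'.Normal := Cfsg.Agent.Lib.Helper4.FM.normal_subgroupOf_sup P (Subgroup.zpowers x) hzn
  haveI hQn : (P'.map π).Normal := hP'n.map π (FQ.mk_surjective ↥B ↥W)
  -- `W ≠ 0`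
  have hWne : ∃ w ∈ W, w ≠ 0 := by
    by_contra hcon
    simp only [not_exists, not_and, not_not] at hcon
    apply z9
    apply le_antisymm z1
    intro m hm
    apply z0
    refine ⟨hm, ?_⟩
    intro w hw
    rw [hcon w hw, smul_zero]
  have hres := Cfsg.Agent.Lib.Helper4.HH.hh_extra_act (A := FQ ↥B ↥W) (V := Multiplicative ↥W) ℓ
    (fun a b => mul_comm a b)
    (by
      intro a
      show Multiplicative.ofAdd (ℓ • Multiplicative.toAdd a) = 1
      have : ℓ • Multiplicative.toAdd a = 0 := by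
        apply Subtype.ext
        simpa using hVℓ ((Multiplicative.toAdd a : W) : V)
      rw [this]; rfl)
    (by
      intro a ha
      apply FQ.faithful
      intro n
      have := ha (Multiplicative.ofAdd n)
      rw [hmulsmul] at this
      exact Multiplicative.ofAdd.injective this)
    (P'.map π) (π xB) q r hq hr hqr hqℓ hrℓ
    ((hP.comap_subtype (K := B)).map π)
    (by rw [← map_pow]; have : xB ^ r = 1 := Subtype.ext (by simpa using hx); rw [this, map_one])
    (by
      intro h1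
      obtain ⟨w, hw, hw0⟩ := hWne
      apply hw0
      apply hWfix w hw
      exact (hπone xB).1 h1 w hw)
    (by
      intro S hQS hxS
      rw [eq_top_iff]
      intro g _
      obtain ⟨b, rfl⟩ := FQ.mk_surjective ↥B ↥W g
      have hle : B ≤ (S.comap π).map B.subtype := by
        apply sup_le
        · intro m hm
          exact ⟨⟨m, hPB hm⟩, hQS ⟨⟨m, hPB hm⟩, hm, rfl⟩, rfl⟩
        · rw [Subgroup.zpowers_le]
          exact ⟨xB, hxS, rfl⟩
      obtain ⟨b', hb', hbb'⟩ := hle b.2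
      have : b' = b := Subtype.ext hbb'
      rw [this] at hb'
      exact hb')
    (Z'.map π)
    (Subgroup.map_mono hZ'P')
    (by
      rintro _ ⟨z, hz, rfl⟩
      rw [← map_mul, ← map_mul, hπeq]
      intro w hw
      exact z2 _ hz w hw)
    (by
      rintro _ ⟨z, hz, rfl⟩ _ ⟨m, hm, rfl⟩
      rw [← map_mul, ← map_mul, hπeq]
      intro w hw
      exact z3 _ hz _ hm w hw)
    (by
      rintro _ ⟨u, hu, rfl⟩ _ ⟨v, hv, rfl⟩
      refine ⟨⁅u, v⁆, ?_, by rw [map_commutatorElement]⟩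
      show ((⁅u, v⁆ : B) : T) ∈ Z
      have h1 := z4 _ hu _ hv
      have h2 : ((⁅u, v⁆ : B) : T) = (u : T) * v * (u : T)⁻¹ * (v : T)⁻¹ := by
        rw [commutatorElement_def]
        simp
      rw [h2]
      exact h1)
    (by
      -- card of the image of `Z`
      rw [← Subgroup.relIndex_ker, ← Subgroup.inf_relIndex_right]
      have hk : π.ker ⊓ Z' = (CW P W).subgroupOf B := by
        ext b
        rw [Subgroup.mem_inf, MonoidHom.mem_ker, hπone, Subgroup.mem_subgroupOf]
        constructor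
        · rintro ⟨h1, h2⟩
          exact ⟨z1 h2, h1⟩
        · intro h1
          exact ⟨h1.2, z0 h1⟩
      rw [hk, Subgroup.relIndex_subgroupOf hZB]
      exact z5)
    (by
      rintro _ ⟨m, hm, rfl⟩
      refine ⟨m ^ q, ?_, by rw [map_pow]⟩
      show ((m ^ q : B) : T) ∈ Z
      rw [Subgroup.coe_pow]
      exact z6 _ hm)
    (by
      rintro _ ⟨v, hv, rfl⟩ h
      refine ⟨v, ?_, rfl⟩
      apply z7 _ hv
      intro u hu w hw
      have h1 := h (π ⟨u, hPB hu⟩) ⟨⟨u, hPB hu⟩, hu, rfl⟩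
      rw [← map_mul, ← map_mul, hπeq] at h1
      exact h1 w hw)
    (by
      rintro _ ⟨m, hm, rfl⟩ h
      refine ⟨m, ?_, rfl⟩
      apply z8 _ hm
      intro w hw
      rw [← map_mul, ← map_mul, hπeq] at h
      exact h w hw)
    (by
      intro h
      apply z9
      apply le_antisymm z1
      intro m hm
      have h1 : π ⟨m, hPB hm⟩ ∈ P'.map π := ⟨⟨m, hPB hm⟩, hm, rfl⟩
      rw [← h] at h1
      exact hmemZ ⟨m, hPB hm⟩ hm h1)
    (by
      intro v hv
      rw [hmulsmul] at hv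
      have h1 : (π xB) • Multiplicative.toAdd v = Multiplicative.toAdd v :=
        Multiplicative.ofAdd.injective hv
      have h2 : x • ((Multiplicative.toAdd v : W) : V) = ((Multiplicative.toAdd v : W) : V) := by
        have := congrArg Subtype.val h1
        simpa [π, FQ.mk_smul, hcoe, xB] using this
      have h3 := hWfix _ (Multiplicative.toAdd v).2 h2
      have h4 : Multiplicative.toAdd v = 0 := Subtype.ext h3
      exact Multiplicative.toAdd.injective h4)
  obtain ⟨hq2, j, hrj, hidx⟩ := hres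
  refine ⟨hq2, j, hrj, ?_⟩
  -- index computation
  have hkP : π.ker ⊓ P' = (CW P W).subgroupOf B := by
    ext b
    rw [Subgroup.mem_inf, MonoidHom.mem_ker, hπone, Subgroup.mem_subgroupOf]
    constructor
    · rintro ⟨h1, h2⟩
      exact ⟨h2, h1⟩
    · intro h1
      exact ⟨h1.2, h1.1⟩
  have hkZ : π.ker ⊓ Z' = (CW P W).subgroupOf B := by
    ext b
    rw [Subgroup.mem_inf, MonoidHom.mem_ker, hπone, Subgroup.mem_subgroupOf]
    constructor
    · rintro ⟨h1, h2⟩
      exact ⟨z1 h2, h1⟩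
    · intro h1
      exact ⟨h1.2, z0 h1⟩
  have hcQ : Nat.card (P'.map π) = (CW P W).relIndex P := by
    rw [← Subgroup.relIndex_ker, ← Subgroup.inf_relIndex_right, hkP,
      Subgroup.relIndex_subgroupOf hPB]
  have hcZ : Nat.card (Z'.map π) = q := by
    rw [← Subgroup.relIndex_ker, ← Subgroup.inf_relIndex_right, hkZ,
      Subgroup.relIndex_subgroupOf hZB]
    exact z5
  have h1 : (CW P W).relIndex Z * Z.relIndex P = (CW P W).relIndex P :=
    Subgroup.relIndex_mul_relIndex _ _ _ z0 z1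
  have h2 : Nat.card (Z'.map π) * (Z'.map π).relIndex (P'.map π) = Nat.card (P'.map π) := by
    have := Subgroup.relIndex_mul_relIndex ⊥ (Z'.map π) (P'.map π) bot_le (Subgroup.map_mono hZ'P')
    rwa [Subgroup.relIndex_bot_left, Subgroup.relIndex_bot_left] at this
  have h3 : (Z'.map π).relIndex (P'.map π) = 2 ^ (2 * j) := hidx
  rw [hcZ, hcQ, ← h1, z5, h3] at h2
  exact (Nat.eq_of_mul_eq_mul_left hq.pos h2).symm

end Cfsg.Agent.Lib.Helper4.PQX
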