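import Mathlib
import Cfsg.Agent.Lib.Helper4.SecMod

/-!
# Module lemmas for Theorem X of the S4306 swarm

* `fixA a`, `commA a` : fixed points and commutator (`= (a - 1) N`) of an operator; `|C_N(a)| · |[N,a]| = |N|`,
  `C_N(a) ∩ [N,a] = 0` for `a` of order prime to `|N|`;
* `mem_of_dHom_mem` : a fixed-point-free operator on a finite module acts fixed-point-freely on every
  quotient by an invariant subgroup;
* `Sec.card_pre` : `|B| = |pre B : U|` for the preimage of an additive subgroup of a section module.
-/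

set_option autoImplicit false
set_option linter.unusedSectionVars false
set_option linter.unusedVariables false
set_option linter.style.haveILetI false

namespace Cfsg.Agent.Lib.Helper4.PQX

universe u w

section fixcomm

variable {N : Type u} [AddCommGroup N] {L : Type w} [Group L] [DistribMulAction L N]

/-- `n ↦ a • n - n` -/
def dHom (a : L) : N →+ N := DistribSMul.toAddMonoidHom N a - AddMonoidHom.id N

theorem dHom_apply (a : L) (n : N) : dHom a n = a • n - n := rfl

/-- `C_N(a)` -/
def fixA (a : L) : AddSubgroup N := (dHom (N := N) a).ker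

/-- `[N,a]` -/
def commA (a : L) : AddSubgroup N := (dHom (N := N) a).range

theorem mem_fixA {a : L} {n : N} : n ∈ fixA (N := N) a ↔ a • n = n := by
  unfold fixA
  rw [AddMonoidHom.mem_ker, dHom_apply, sub_eq_zero]

theorem mem_commA {a : L} {n : N} : n ∈ commA (N := N) a ↔ ∃ m : N, a • m - m = n := by
  unfold commA
  rw [AddMonoidHom.mem_range]
  rfl

theorem card_fixA_mul_card_commA [Finite N] (a : L) :
    Nat.card (fixA (N := N) a) * Nat.card (commA (N := N) a) = Nat.card N := by
  unfold fixA commA
  rw [← AddSubgroup.index_ker, AddSubgroup.card_mul_index]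

theorem smul_mem_commA (a : L) {n : N} (hn : n ∈ commA (N := N) a) : a • n ∈ commA (N := N) a := by
  rw [mem_commA] at hn ⊢
  obtain ⟨m, rfl⟩ := hn
  exact ⟨a • m, by rw [smul_sub]⟩

theorem sum_pow_dHom (a : L) (m : N) (k : ℕ) :
    ∑ i ∈ Finset.range k, a ^ i • (a • m - m) = a ^ k • m - m := by
  induction k with
  | zero => simp
  | succ k ih =>
    rw [Finset.sum_range_succ, ih, smul_sub, ← mul_smul, ← pow_succ]
    abel

theorem fixA_inf_commA [Finite N] (a : L) {p : ℕ} (ha : a ^ p = 1)
    (hcop : (Nat.card N).Coprime p) : fixA (N := N) a ⊓ commA (N := N) a = ⊥ := by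
  rw [eq_bot_iff]
  intro n hn
  rw [AddSubgroup.mem_bot]
  obtain ⟨h0, h2⟩ := AddSubgroup.mem_inf.1 hn
  rw [mem_fixA] at h0
  rw [mem_commA] at h2
  obtain ⟨m, hm⟩ := h2
  have hpow : ∀ i : ℕ, a ^ i • n = n := by
    intro i
    induction i with
    | zero => simp
    | succ i ih => rw [pow_succ, mul_smul, h0, ih]
  have h1 : ∑ i ∈ Finset.range p, a ^ i • n = p • n := by
    rw [Finset.sum_congr rfl (fun i _ => hpow i), Finset.sum_const, Finset.card_range]
  have h3 : ∑ i ∈ Finset.range p, a ^ i • n = 0 := by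
    rw [← hm, sum_pow_dHom, ha, one_smul, sub_self]
  rw [h1] at h3
  have h4 : addOrderOf n ∣ p := addOrderOf_dvd_of_nsmul_eq_zero h3
  have h5 : addOrderOf n ∣ Nat.card N := addOrderOf_dvd_natCard n
  have h6 : addOrderOf n = 1 := Nat.eq_one_of_dvd_coprimes hcop h5 h4
  exact AddMonoid.addOrderOf_eq_one_iff.1 h6

/-- a fixed-point-free operator stays fixed-point-free modulo an invariant subgroup -/
theorem mem_of_dHom_mem [Finite N] (a : L) (hfix : ∀ n : N, a • n = n → n = 0) (D : AddSubgroup N)
    (hD : ∀ d ∈ D, a • d ∈ D) {b : N} (hb : a • b - b ∈ D) : b ∈ D := by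
  have hinj : Function.Injective (dHom (N := N) a) := by
    rw [injective_iff_map_eq_zero]
    intro n hn
    rw [dHom_apply, sub_eq_zero] at hn
    exact hfix n hn
  let f : D → D := fun d => ⟨dHom a d, by
    rw [dHom_apply]
    exact D.sub_mem (hD d d.2) d.2⟩
  have hfinj : Function.Injective f := by
    intro d d' h
    apply Subtype.ext
    apply hinj
    exact congrArg Subtype.val h
  have hfsurj : Function.Surjective f := Finite.injective_iff_surjective.1 hfinj
  obtain ⟨d, hd⟩ := hfsurj ⟨a • b - b, hb⟩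
  have h1 : dHom a (d : N) = dHom a b := congrArg Subtype.val hd
  have h2 := hinj h1
  rw [← h2]
  exact d.2

end fixcomm

section secmod

open Cfsg.Agent.Lib.Helper4.SecMod

variable {T : Type w} [Group T] {X U L : Subgroup T}

/-- the class map as a group homomorphism -/
def clsHom (h : Sec X U L) : ↥X →* Multiplicative h.M where
  toFun x := Multiplicative.ofAdd (h.cls x x.2)
  map_one' := rfl
  map_mul' x y := rfl

theorem clsHom_surjective (h : Sec X U L) : Function.Surjective (clsHom h) := by
  intro m
  obtain ⟨x, hx, hxm⟩ := h.cls_surj (Multiplicative.toAdd m)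
  exact ⟨⟨x, hx⟩, by show Multiplicative.ofAdd (h.cls x hx) = m; rw [hxm]; rfl⟩

theorem clsHom_ker (h : Sec X U L) : (clsHom h).ker = U.subgroupOf X := by
  ext x
  rw [MonoidHom.mem_ker, Subgroup.mem_subgroupOf]
  show Multiplicative.ofAdd (h.cls x x.2) = 1 ↔ _
  rw [← h.cls_eq_zero x.2]
  exact Iff.rfl

theorem Sec.card_pre (h : Sec X U L) (B : AddSubgroup h.M) :
    Nat.card B = U.relIndex (h.pre B) := by
  have h1 : (AddSubgroup.toSubgroup B).comap (clsHom h) = (h.pre B).subgroupOf X := by
    ext x
    rw [Subgroup.mem_comap, Subgroup.mem_subgroupOf, h.mem_pre_iff x.2]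
    rfl
  have h2 := Subgroup.relIndex_ker (K := (AddSubgroup.toSubgroup B).comap (clsHom h)) (clsHom h)
  rw [Subgroup.map_comap_eq_self_of_surjective (clsHom_surjective h), clsHom_ker, h1,
    Subgroup.relIndex_subgroupOf (h.pre_le B)] at h2
  rw [h2]
  rfl

end secmod

end Cfsg.Agent.Lib.Helper4.PQX
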