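import Mathlib
import Cfsg.Agent.Lib.Helper4.PQDefs
import Cfsg.Agent.Lib.Helper4.SecMod
import Cfsg.Agent.Lib.Helper4.PQX0
import Cfsg.Agent.Lib.Helper4.PQX1
import Cfsg.Agent.Lib.Helper4.PQX2
import Cfsg.Agent.Lib.Helper7.PQHH

/-!
# Theorem X of the S4306 swarm, part 1: the data, the section module `N = Q/Z₁`, the case `[N,h] = 0`
-/

set_option autoImplicit false
set_option linter.unusedSectionVars false
set_option linter.unusedVariables false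
set_option linter.style.haveILetI false

namespace Cfsg.Agent.Lib.Helper4.PQX

open Cfsg.Agent.Lib.Helper4.PQ Cfsg.Agent.Lib.Helper4.SecMod

universe u w

variable {V : Type u} [AddCommGroup V] [Finite V] {T : Type w} [Group T] [Finite T]
  [DistribMulAction T V]

/-- the hypotheses of Theorem X -/
structure XData (V : Type u) [AddCommGroup V] {T : Type w} [Group T] [DistribMulAction T V]
    (r t s p : ℕ) (Q S Z₁ : Subgroup T) (h : T) (W : AddSubgroup V) : Prop where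
  hr : r.Prime
  ht : t.Prime
  hs : s.Prime
  hp : p.Prime
  htr : t ≠ r
  hpr : p ≠ r
  hpt : p ≠ t
  hps : p ≠ s
  hts : t ≠ s
  hVr : ∀ v : V, r • v = 0
  hQ : IsPGroup t Q
  hS : IsPGroup s S
  hSQ : ∀ c ∈ S, ∀ u ∈ Q, c * u * c⁻¹ ∈ Q
  hhQ : ∀ u ∈ Q, h * u * h⁻¹ ∈ Q
  hhS : ∀ c ∈ S, h * c * h⁻¹ ∈ S
  hh : h ^ p = 1
  hWQ : ∀ u ∈ Q, ∀ w ∈ W, u • w ∈ W
  hWS : ∀ c ∈ S, ∀ w ∈ W, c • w ∈ W
  hWh : ∀ w ∈ W, h • w ∈ W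
  hWfix : ∀ w ∈ W, h • w = w → w = 0
  hKZ₁ : CW Q W ≤ Z₁
  hZ₁Q : Z₁ ≤ Q
  hidx : (CW Q W).relIndex Z₁ = t
  hcomm : ∀ u ∈ Q, ∀ v ∈ Q, u * v * u⁻¹ * v⁻¹ ∈ Z₁
  hcent : ∀ z ∈ Z₁, ∀ u ∈ Q, z * u * z⁻¹ * u⁻¹ ∈ CW Q W
  hcenter : ∀ u ∈ Q, (∀ v ∈ Q, u * v * u⁻¹ * v⁻¹ ∈ CW Q W) → u ∈ Z₁
  hpow : ∀ u ∈ Q, u ^ t ∈ Z₁
  hSZ₁ : ∀ c ∈ S, ∀ z ∈ Z₁, c * z * c⁻¹ * z⁻¹ ∈ CW Q W
  hhZ₁ : ∀ z ∈ Z₁, h * z * h⁻¹ * z⁻¹ ∈ CW Q W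
  hCS : ∀ u ∈ Q, (∀ c ∈ S, c * u * c⁻¹ * u⁻¹ ∈ Z₁) → u ∈ Z₁
  hSab : ∀ c ∈ S, ∀ d ∈ S, c * d * c⁻¹ * d⁻¹ ∈ CS Q S
  hSexp : ∀ c ∈ S, c ^ s ∈ CS Q S
  hSfpf : ∀ c ∈ S, h * c * h⁻¹ * c⁻¹ ∈ CS Q S → c ∈ CS Q S
  hSsurj : ∀ c ∈ S, ∃ d ∈ S, ∃ e ∈ CS Q S, c = (h * d * h⁻¹ * d⁻¹) * e

/-- an element of finite order conjugating `X` into itself normalizes `X` -/
theorem mem_normalizer_of_pow (X : Subgroup T) (g : T) {n : ℕ} (hn : 0 < n) (hg : g ^ n = 1)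
    (hX : ∀ x ∈ X, g * x * g⁻¹ ∈ X) : g ∈ Subgroup.normalizer (X : Set T) := by
  rw [Subgroup.mem_normalizer_iff]
  intro m
  constructor
  · exact hX m
  · intro h
    have hpow : ∀ k : ℕ, ∀ m ∈ X, g ^ k * m * (g ^ k)⁻¹ ∈ X := by
      intro k
      induction k with
      | zero => intro m hm; simpa using hm
      | succ k ih =>
        intro m hm
        have : g ^ (k + 1) * m * (g ^ (k + 1))⁻¹ = g * (g ^ k * m * (g ^ k)⁻¹) * g⁻¹ := by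
          rw [pow_succ']; group
        rw [this]
        exact hX _ (ih m hm)
    have h1 : g⁻¹ = g ^ (n - 1) := by
      rw [inv_eq_iff_mul_eq_one, ← pow_succ', Nat.sub_add_cancel hn, hg]
    have h2 := hpow (n - 1) _ h
    rw [← h1] at h2
    have h3 : g⁻¹ * (g * m * g⁻¹) * g⁻¹⁻¹ = m := by group
    rwa [h3] at h2

variable {r t s p : ℕ} {Q S Z₁ : Subgroup T} {h : T} {W : AddSubgroup V}

namespace XData

theorem S_norm_Z₁ (d : XData V r t s p Q S Z₁ h W) : ∀ c ∈ S, ∀ z ∈ Z₁, c * z * c⁻¹ ∈ Z₁ := by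
  intro c hc z hz
  have h1 := d.hKZ₁ (d.hSZ₁ c hc z hz)
  have h2 := Z₁.mul_mem h1 hz
  rwa [inv_mul_cancel_right] at h2

theorem h_norm_Z₁ (d : XData V r t s p Q S Z₁ h W) : ∀ z ∈ Z₁, h * z * h⁻¹ ∈ Z₁ := by
  intro z hz
  have h1 := d.hKZ₁ (d.hhZ₁ z hz)
  have h2 := Z₁.mul_mem h1 hz
  rwa [inv_mul_cancel_right] at h2

/-- the acting group -/
def L₀ (Q Z₁ : Subgroup T) : Subgroup T :=
  Subgroup.normalizer (Q : Set T) ⊓ Subgroup.normalizer (Z₁ : Set T)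

theorem S_le (d : XData V r t s p Q S Z₁ h W) : S ≤ L₀ Q Z₁ :=
  le_inf (le_normalizer_of_conj_mem S Q d.hSQ) (le_normalizer_of_conj_mem S Z₁ d.S_norm_Z₁)

theorem h_mem (d : XData V r t s p Q S Z₁ h W) : h ∈ L₀ Q Z₁ :=
  Subgroup.mem_inf.2 ⟨mem_normalizer_of_pow Q h d.hp.pos d.hh d.hhQ,
    mem_normalizer_of_pow Z₁ h d.hp.pos d.hh d.h_norm_Z₁⟩

theorem sec (d : XData V r t s p Q S Z₁ h W) : Sec Q Z₁ (L₀ Q Z₁) :=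
  Sec.ofNormalizer Q Z₁ d.hZ₁Q d.hcomm

/-- elements of `C_S(Q)` act trivially on `N = Q/Z₁` -/
theorem CS_smul (d : XData V r t s p Q S Z₁ h W) {e : T} (he : e ∈ CS Q S) (n : d.sec.M) :
    (⟨e, d.S_le he.1⟩ : L₀ Q Z₁) • n = n := by
  obtain ⟨u, hu, rfl⟩ := d.sec.cls_surj n
  rw [d.sec.smul_cls_eq_iff]
  have h1 : e * u * e⁻¹ * u⁻¹ = 1 := by
    have := (mem_CS.1 he).2 u hu
    calc e * u * e⁻¹ * u⁻¹ = (u * e) * e⁻¹ * u⁻¹ := by rw [this]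
      _ = 1 := by group
  rw [h1]
  exact Z₁.one_mem

/-- `C_N(S) = 0` -/
theorem fix_S (d : XData V r t s p Q S Z₁ h W) (n : d.sec.M)
    (hn : ∀ c (hc : c ∈ S), (⟨c, d.S_le hc⟩ : L₀ Q Z₁) • n = n) : n = 0 := by
  obtain ⟨u, hu, rfl⟩ := d.sec.cls_surj n
  rw [d.sec.cls_eq_zero]
  apply d.hCS u hu
  intro c hc
  exact (d.sec.smul_cls_eq_iff (d.S_le hc) hu).1 (hn c hc)

/-- **Step A**: if `h` acts trivially on `N` then `Z₁ = Q`. -/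
theorem eq_of_trivial (d : XData V r t s p Q S Z₁ h W)
    (htriv : ∀ n : d.sec.M, (⟨h, d.h_mem⟩ : L₀ Q Z₁) • n = n) : Z₁ = Q := by
  apply le_antisymm d.hZ₁Q
  intro u hu
  rw [← d.sec.cls_eq_zero hu]
  apply d.fix_S
  intro c hc
  obtain ⟨d', hd', e, he, hce⟩ := d.hSsurj c hc
  have hinv : ∀ n : d.sec.M, (⟨h, d.h_mem⟩ : L₀ Q Z₁)⁻¹ • n = n := by
    intro n
    rw [inv_smul_eq_iff, htriv]
  have h1 : (⟨c, d.S_le hc⟩ : L₀ Q Z₁) =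
      (⟨h, d.h_mem⟩ : L₀ Q Z₁) * ⟨d', d.S_le hd'⟩ * (⟨h, d.h_mem⟩ : L₀ Q Z₁)⁻¹ *
        (⟨d', d.S_le hd'⟩ : L₀ Q Z₁)⁻¹ * ⟨e, d.S_le he.1⟩ := by
    apply Subtype.ext
    simp only [Subgroup.coe_mul, Subgroup.coe_inv]
    exact hce
  rw [h1, mul_smul, mul_smul, mul_smul, mul_smul, d.CS_smul he, htriv, hinv, smul_inv_smul]

end XData

end Cfsg.Agent.Lib.Helper4.PQX
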