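import Mathlib
import Cfsg.Agent.Lib.Helper4.PQX3

/-!
# Theorem X of the S4306 swarm, part 2: if `h` acts non-trivially on `N = Q/Z₁` then `t = 2`,
`p = 2^j + 1` and `|[N,h]| = 2^{2j}`  (the extraspecial Hall–Higman statement on `Q₂ =` preimage of `[N,h]`)
-/

set_option autoImplicit false
set_option linter.unusedSectionVars false
set_option linter.unusedVariables false
set_option linter.style.haveILetI false

namespace Cfsg.Agent.Lib.Helper4.PQX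

open Cfsg.Agent.Lib.Helper4.PQ Cfsg.Agent.Lib.Helper4.SecMod

universe u w

variable {V : Type u} [AddCommGroup V] [Finite V] {T : Type w} [Group T] [Finite T]
  [DistribMulAction T V]

section gen

variable {Q : Subgroup T} {W : AddSubgroup V}

theorem smul_eq_of_comm_mem {a b : T} (hk : a * b * a⁻¹ * b⁻¹ ∈ CW Q W)
    (hW : ∀ w ∈ W, (b * a) • w ∈ W) : ∀ w ∈ W, (a * b) • w = (b * a) • w := by
  intro w hw
  have h1 : a * b = (a * b * a⁻¹ * b⁻¹) * (b * a) := by group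
  rw [h1, mul_smul, hk.2 _ (hW w hw)]

theorem comm_mem_of_smul_eq {a b : T} (hab : a * b * a⁻¹ * b⁻¹ ∈ Q)
    (h : ∀ w ∈ W, (a * b) • w = (b * a) • w) (hW : ∀ w ∈ W, (b * a)⁻¹ • w ∈ W) :
    a * b * a⁻¹ * b⁻¹ ∈ CW Q W := by
  refine ⟨hab, ?_⟩
  intro w hw
  have h1 : a * b * a⁻¹ * b⁻¹ = (a * b) * (b * a)⁻¹ := by group
  rw [h1, mul_smul, h _ (hW w hw), smul_inv_smul]

end gen

variable {r t s p : ℕ} {Q S Z₁ : Subgroup T} {h : T} {W : AddSubgroup V}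

namespace XData

/-- `h` as an element of the acting group -/
def h₀ (d : XData V r t s p Q S Z₁ h W) : L₀ Q Z₁ := ⟨h, d.h_mem⟩

theorem h₀_pow (d : XData V r t s p Q S Z₁ h W) : d.h₀ ^ p = 1 := by
  apply Subtype.ext
  simpa [h₀] using d.hh

theorem card_M_pow (d : XData V r t s p Q S Z₁ h W) : ∃ k : ℕ, Nat.card d.sec.M = t ^ k := by
  haveI : Fact t.Prime := ⟨d.ht⟩
  obtain ⟨k, hk⟩ := d.hQ.exists_card_eq
  have h1 := d.sec.card_dvd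
  rw [hk] at h1
  obtain ⟨j, _, hj⟩ := (Nat.dvd_prime_pow d.ht).1 h1
  exact ⟨j, hj⟩

theorem coprime_M (d : XData V r t s p Q S Z₁ h W) {m : ℕ} (hm : m.Prime) (htm : t ≠ m) :
    (Nat.card d.sec.M).Coprime m := by
  obtain ⟨k, hk⟩ := d.card_M_pow
  rw [hk]
  exact Nat.Coprime.pow_left k ((Nat.coprime_primes d.ht hm).2 htm)

/-- `C_N(h)` -/
noncomputable def N₀ (d : XData V r t s p Q S Z₁ h W) : AddSubgroup d.sec.M := fixA (N := d.sec.M) d.h₀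

/-- `[N,h]` -/
noncomputable def N₂ (d : XData V r t s p Q S Z₁ h W) : AddSubgroup d.sec.M := commA (N := d.sec.M) d.h₀

theorem card_N₀_mul_card_N₂ (d : XData V r t s p Q S Z₁ h W) :
    Nat.card d.N₀ * Nat.card d.N₂ = Nat.card d.sec.M :=
  card_fixA_mul_card_commA (N := d.sec.M) d.h₀

theorem N₀_inf_N₂ (d : XData V r t s p Q S Z₁ h W) : d.N₀ ⊓ d.N₂ = ⊥ :=
  fixA_inf_commA (N := d.sec.M) d.h₀ d.h₀_pow (d.coprime_M d.hp d.hpt.symm)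

/-- the preimage of `[N,h]` in `Q` -/
noncomputable def Q₂ (d : XData V r t s p Q S Z₁ h W) : Subgroup T := d.sec.pre d.N₂

theorem Q₂_le (d : XData V r t s p Q S Z₁ h W) : d.Q₂ ≤ Q := d.sec.pre_le _

theorem le_Q₂ (d : XData V r t s p Q S Z₁ h W) : Z₁ ≤ d.Q₂ := d.sec.le_pre _

theorem comm_mem_Q₂ (d : XData V r t s p Q S Z₁ h W) {u : T} (hu : u ∈ Q) :
    h * u * h⁻¹ * u⁻¹ ∈ d.Q₂ := by
  have hQ1 : h * u * h⁻¹ ∈ Q := d.hhQ u hu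
  have hQ2 : h * u * h⁻¹ * u⁻¹ ∈ Q := Q.mul_mem hQ1 (Q.inv_mem hu)
  rw [Q₂, d.sec.mem_pre_iff hQ2]
  show _ ∈ commA (N := d.sec.M) d.h₀
  rw [mem_commA]
  refine ⟨d.sec.cls u hu, ?_⟩
  rw [show d.h₀ = (⟨h, d.h_mem⟩ : L₀ Q Z₁) from rfl, d.sec.smul_cls', sub_eq_add_neg,
    ← d.sec.cls_inv hu, ← d.sec.cls_mul]

theorem h_norm_Q₂ (d : XData V r t s p Q S Z₁ h W) : ∀ u ∈ d.Q₂, h * u * h⁻¹ ∈ d.Q₂ := by
  intro u hu
  have huQ := d.Q₂_le hu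
  have h1 : d.sec.cls u huQ ∈ d.N₂ := (d.sec.mem_pre_iff huQ).1 hu
  have h2 := smul_mem_commA (N := d.sec.M) d.h₀ h1
  rw [show d.h₀ = (⟨h, d.h_mem⟩ : L₀ Q Z₁) from rfl, d.sec.smul_cls'] at h2
  exact (d.sec.mem_pre_iff (d.hhQ u huQ)).2 h2

/-- `C_{Q₂/Z₁}(h) = 1` -/
theorem mem_Z₁_of_comm (d : XData V r t s p Q S Z₁ h W) {m : T} (hm : m ∈ d.Q₂)
    (hc : h * m * h⁻¹ * m⁻¹ ∈ Z₁) : m ∈ Z₁ := by
  have hmQ := d.Q₂_le hm
  have h1 : d.sec.cls m hmQ ∈ d.N₂ := (d.sec.mem_pre_iff hmQ).1 hm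
  have h0 : d.sec.cls m hmQ ∈ d.N₀ := by
    show _ ∈ fixA (N := d.sec.M) d.h₀
    rw [mem_fixA, show d.h₀ = (⟨h, d.h_mem⟩ : L₀ Q Z₁) from rfl, d.sec.smul_cls_eq_iff]
    exact hc
  have h2 : d.sec.cls m hmQ ∈ d.N₀ ⊓ d.N₂ := AddSubgroup.mem_inf.2 ⟨h0, h1⟩
  rw [d.N₀_inf_N₂, AddSubgroup.mem_bot, d.sec.cls_eq_zero] at h2
  exact h2

theorem CW_Q₂ (d : XData V r t s p Q S Z₁ h W) : CW d.Q₂ W = CW Q W := by
  ext u
  rw [mem_CW, mem_CW]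
  constructor
  · rintro ⟨h1, h2⟩
    exact ⟨d.Q₂_le h1, h2⟩
  · rintro ⟨h1, h2⟩
    exact ⟨d.le_Q₂ (d.hKZ₁ ⟨h1, h2⟩), h2⟩

theorem hinv_W (d : XData V r t s p Q S Z₁ h W) : ∀ w ∈ W, h⁻¹ • w ∈ W :=
  inv_smul_mem_of_pow d.hp.pos d.hh W d.hWh

/-- the centre of `Q₂` modulo the kernel on `W` -/
noncomputable def Z₂ (d : XData V r t s p Q S Z₁ h W) : Subgroup T where
  carrier := {v | v ∈ d.Q₂ ∧ ∀ u ∈ d.Q₂, ∀ w ∈ W, u • v • w = v • u • w}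
  one_mem' := ⟨Subgroup.one_mem _, fun u _ w _ => by rw [one_smul, one_smul]⟩
  mul_mem' := by
    rintro a b ⟨ha, ha'⟩ ⟨hb, hb'⟩
    refine ⟨Subgroup.mul_mem _ ha hb, ?_⟩
    intro u hu w hw
    rw [mul_smul, ha' u hu _ (d.hWQ b (d.Q₂_le hb) w hw), hb' u hu w hw, mul_smul]
  inv_mem' := by
    rintro a ⟨ha, ha'⟩
    refine ⟨Subgroup.inv_mem _ ha, ?_⟩
    intro u hu w hw
    have hw' : a⁻¹ • w ∈ W := d.hWQ _ (Q.inv_mem (d.Q₂_le ha)) w hw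
    have h1 := ha' u hu _ hw'
    rw [smul_inv_smul] at h1
    rw [eq_inv_smul_iff, ← h1]

theorem Z₂_le (d : XData V r t s p Q S Z₁ h W) : d.Z₂ ≤ d.Q₂ := fun _ hv => hv.1

theorem h_norm_Z₂ (d : XData V r t s p Q S Z₁ h W) : ∀ v ∈ d.Z₂, h * v * h⁻¹ ∈ d.Z₂ := by
  rintro v ⟨hv, hv'⟩
  refine ⟨d.h_norm_Q₂ v hv, ?_⟩
  intro u hu w hw
  have hn : h ∈ Subgroup.normalizer (d.Q₂ : Set T) :=
    mem_normalizer_of_pow d.Q₂ h d.hp.pos d.hh d.h_norm_Q₂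
  have hu' : h⁻¹ * u * h ∈ d.Q₂ := by
    have := (Subgroup.mem_normalizer_iff.1 (Subgroup.inv_mem _ hn) u).1 hu
    rwa [inv_inv] at this
  have hw' : h⁻¹ • w ∈ W := d.hinv_W w hw
  have h1 := hv' _ hu' _ hw'
  have e1 : u • (h * v * h⁻¹) • w = h • ((h⁻¹ * u * h) • v • h⁻¹ • w) := by
    simp only [mul_smul, smul_inv_smul]
  have e2 : (h * v * h⁻¹) • u • w = h • (v • (h⁻¹ * u * h) • h⁻¹ • w) := by
    simp only [mul_smul, smul_inv_smul]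
  rw [e1, e2, h1]

/-- `h` centralizes `Z₂` modulo the kernel on `W` (Hall–Higman, abelian case) -/
theorem Z₂_le_Z₁ (d : XData V r t s p Q S Z₁ h W) : d.Z₂ ≤ Z₁ := by
  intro v hv
  have hmain := Cfsg.Agent.Lib.Helper7.PQHH.hh_sub_exc (V := V) (T := T) d.hr d.ht d.hp d.hVr
    d.htr.symm d.hpr.symm d.hpt.symm d.Z₂ (d.hQ.to_le (d.Z₂_le.trans d.Q₂_le)) h d.hh d.h_norm_Z₂ W
    (fun x hx w hw => d.hWQ x (d.Q₂_le (d.Z₂_le hx)) w hw) d.hWh d.hWfix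
    (fun _ _ x hx y hy w hw => hy.2 x (d.Z₂_le hx) w hw)
  have hvQ := d.Q₂_le hv.1
  have h1 : h * v * h⁻¹ * v⁻¹ ∈ CW Q W :=
    ⟨Q.mul_mem (d.hhQ v hvQ) (Q.inv_mem hvQ), hmain v hv⟩
  exact d.mem_Z₁_of_comm hv.1 (d.hKZ₁ h1)

/-- **Step B** -/
theorem fermat_of_nontrivial (d : XData V r t s p Q S Z₁ h W)
    (hnt : ∃ u ∈ Q, h * u * h⁻¹ * u⁻¹ ∉ Z₁) :
    t = 2 ∧ ∃ j : ℕ, p = 2 ^ j + 1 ∧ Nat.card d.N₂ = 2 ^ (2 * j) := by
  have hres := hh_extra_sub (V := V) (T := T) d.hr d.ht d.hp d.hpt.symm d.htr d.hpr d.hVr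
    d.Q₂ Z₁ h W (d.hQ.to_le d.Q₂_le) d.hh d.h_norm_Q₂
    (fun u hu w hw => d.hWQ u (d.Q₂_le hu) w hw) d.hWh d.hWfix
    (by rw [d.CW_Q₂]; exact d.hKZ₁) d.le_Q₂
    (by
      intro z hz w hw
      apply smul_eq_of_comm_mem (d.hhZ₁ z hz) _ w hw
      intro w hw
      rw [mul_smul]
      exact d.hWQ z (d.hZ₁Q hz) _ (d.hWh w hw))
    (by
      intro z hz m hm w hw
      apply smul_eq_of_comm_mem (d.hcent z hz m (d.Q₂_le hm)) _ w hw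
      intro w hw
      rw [mul_smul]
      exact d.hWQ m (d.Q₂_le hm) _ (d.hWQ z (d.hZ₁Q hz) w hw))
    (fun u hu v hv => d.hcomm u (d.Q₂_le hu) v (d.Q₂_le hv))
    (by rw [d.CW_Q₂]; exact d.hidx)
    (fun m hm => d.hpow m (d.Q₂_le hm))
    (by
      intro v hv hc
      apply d.Z₂_le_Z₁
      refine ⟨hv, ?_⟩
      intro u hu w hw
      have := hc u hu w hw
      rwa [mul_smul, mul_smul] at this)
    (by
      intro m hm hc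
      apply d.mem_Z₁_of_comm hm
      apply d.hKZ₁
      have hmQ := d.Q₂_le hm
      apply comm_mem_of_smul_eq (Q.mul_mem (d.hhQ m hmQ) (Q.inv_mem hmQ)) hc
      intro w hw
      rw [mul_inv_rev, mul_smul]
      exact d.hinv_W _ (d.hWQ _ (Q.inv_mem hmQ) w hw))
    (by
      intro heq
      obtain ⟨u, hu, hnu⟩ := hnt
      apply hnu
      rw [heq]
      exact d.comm_mem_Q₂ hu)
  obtain ⟨h2, j, hj, hidx⟩ := hres
  refine ⟨h2, j, hj, ?_⟩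
  rw [← hidx]
  exact Cfsg.Agent.Lib.Helper4.PQX.Sec.card_pre d.sec d.N₂

end XData

end Cfsg.Agent.Lib.Helper4.PQX
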