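import Mathlib
import Cfsg.Agent.Lib.Helper4.PQX4
import Cfsg.Agent.Lib.Helper2.PQFrob
import Cfsg.Agent.Lib.Lead.PQN2

/-!
# Theorem X of the S4306 swarm, part 3: the Frobenius group `S̄⟨h⟩` on `N = Q/Z₁`, the count and the
arithmetic.  The Frobenius count `frob_count` enters as the hypothesis `CountStatement`.
-/

set_option autoImplicit false
set_option linter.unusedSectionVars false
set_option linter.unusedVariables false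
set_option linter.style.haveILetI false

namespace Cfsg.Agent.Lib.Helper4.PQX

open Cfsg.Agent.Lib.Helper4.PQ Cfsg.Agent.Lib.Helper4.SecMod

universe u w

/-- the statement of the Frobenius count (`frob_count` of the skeleton) in universe `w` -/
def CountStatement : Prop :=
  ∀ {N : Type w} [AddCommGroup N] [Finite N] {L : Type w} [Group L] [Finite L]
    [DistribMulAction L N] {p s : ℕ} (_ : p.Prime) (_ : s.Prime) (K : Subgroup L) (a : L)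
    (_ : a ^ p = 1) (_ : ∀ k ∈ K, a * k * a⁻¹ ∈ K)
    (_ : ∀ k ∈ K, ∀ k' ∈ K, k * k' = k' * k) (_ : ∀ k ∈ K, k ^ s = 1)
    (_ : (Nat.card N).Coprime (s * p)) (_ : ∀ k ∈ K, a * k = k * a → k = 1)
    (_ : ∀ n : N, (∀ k ∈ K, k • n = n) → n = 0),
    Nat.card {n : N // a • n = n} ^ p ≤ Nat.card N

variable {V : Type u} [AddCommGroup V] [Finite V] {T : Type w} [Group T] [Finite T]
  [DistribMulAction T V]

variable {r t s p : ℕ} {Q S Z₁ : Subgroup T} {h : T} {W : AddSubgroup V}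

namespace XData

/-- the group acting on `S/C_S(Q)` -/
def LS (Q S : Subgroup T) : Subgroup T :=
  Subgroup.normalizer (S : Set T) ⊓ Subgroup.normalizer (CS Q S : Set T)

theorem h_norm_CS (d : XData V r t s p Q S Z₁ h W) : ∀ e ∈ CS Q S, h * e * h⁻¹ ∈ CS Q S := by
  intro e he
  refine mem_CS.2 ⟨d.hhS e he.1, ?_⟩
  intro u hu
  have hu' : h⁻¹ * u * h ∈ Q := by
    have := (Subgroup.mem_normalizer_iff.1 (Subgroup.inv_mem _ d.h_mem.1) u).1 hu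
    rwa [inv_inv] at this
  have h1 := (mem_CS.1 he).2 _ hu'
  calc u * (h * e * h⁻¹) = h * ((h⁻¹ * u * h) * e) * h⁻¹ := by group
    _ = h * (e * (h⁻¹ * u * h)) * h⁻¹ := by rw [h1]
    _ = h * e * h⁻¹ * u := by group

theorem h_mem_LS (d : XData V r t s p Q S Z₁ h W) : h ∈ LS Q S :=
  Subgroup.mem_inf.2 ⟨mem_normalizer_of_pow S h d.hp.pos d.hh d.hhS,
    mem_normalizer_of_pow (CS Q S) h d.hp.pos d.hh d.h_norm_CS⟩

theorem secS (d : XData V r t s p Q S Z₁ h W) : Sec S (CS Q S) (LS Q S) :=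
  Sec.ofNormalizer S (CS Q S) (fun _ he => he.1) d.hSab

/-- **(C1)** for `S/C_S(Q)`: if `[h,c]` acts trivially on `N` then so does `c`. -/
theorem S_triv_of_comm_triv (d : XData V r t s p Q S Z₁ h W) {c : T} (hc : c ∈ S)
    (hcn : ∀ n : d.sec.M,
      (⟨h * c * h⁻¹ * c⁻¹, d.S_le (S.mul_mem (d.hhS c hc) (S.inv_mem hc))⟩ : L₀ Q Z₁) • n = n) :
    ∀ n : d.sec.M, (⟨c, d.S_le hc⟩ : L₀ Q Z₁) • n = n := by
  -- the subgroup of `S/C_S(Q)` acting trivially on `N`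
  let D : AddSubgroup d.secS.M :=
    { carrier := {b | ∃ c, ∃ hc : c ∈ S, d.secS.cls c hc = b ∧
        ∀ n : d.sec.M, (⟨c, d.S_le hc⟩ : L₀ Q Z₁) • n = n}
      zero_mem' := ⟨1, S.one_mem, d.secS.cls_one, fun n => one_smul _ n⟩
      add_mem' := by
        rintro _ _ ⟨c₁, hc₁, rfl, h₁⟩ ⟨c₂, hc₂, rfl, h₂⟩
        refine ⟨c₁ * c₂, S.mul_mem hc₁ hc₂, d.secS.cls_mul hc₁ hc₂, ?_⟩
        intro n
        have e : (⟨c₁ * c₂, d.S_le (S.mul_mem hc₁ hc₂)⟩ : L₀ Q Z₁) =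
            ⟨c₁, d.S_le hc₁⟩ * ⟨c₂, d.S_le hc₂⟩ := rfl
        rw [e, mul_smul, h₂, h₁]
      neg_mem' := by
        rintro _ ⟨c₁, hc₁, rfl, h₁⟩
        refine ⟨c₁⁻¹, S.inv_mem hc₁, d.secS.cls_inv hc₁, ?_⟩
        intro n
        have e : (⟨c₁⁻¹, d.S_le (S.inv_mem hc₁)⟩ : L₀ Q Z₁) = (⟨c₁, d.S_le hc₁⟩ : L₀ Q Z₁)⁻¹ := rfl
        rw [e, inv_smul_eq_iff, h₁] }
  let aS : LS Q S := ⟨h, d.h_mem_LS⟩
  have hfix : ∀ b : d.secS.M, aS • b = b → b = 0 := by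
    intro b hb
    obtain ⟨c', hc', rfl⟩ := d.secS.cls_surj b
    rw [d.secS.cls_eq_zero]
    apply d.hSfpf c' hc'
    exact (d.secS.smul_cls_eq_iff d.h_mem_LS hc').1 hb
  have hD : ∀ b ∈ D, aS • b ∈ D := by
    rintro _ ⟨c', hc', rfl, h'⟩
    refine ⟨h * c' * h⁻¹, d.hhS c' hc', (d.secS.smul_cls' d.h_mem_LS hc').symm, ?_⟩
    intro n
    have e : (⟨h * c' * h⁻¹, d.S_le (d.hhS c' hc')⟩ : L₀ Q Z₁) =
        d.h₀ * ⟨c', d.S_le hc'⟩ * d.h₀⁻¹ := rfl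
    rw [e, mul_smul, mul_smul, h', smul_inv_smul]
  have hb : aS • d.secS.cls c hc - d.secS.cls c hc ∈ D := by
    refine ⟨h * c * h⁻¹ * c⁻¹, S.mul_mem (d.hhS c hc) (S.inv_mem hc), ?_, hcn⟩
    rw [d.secS.cls_mul (d.hhS c hc) (S.inv_mem hc), d.secS.cls_inv hc, ← sub_eq_add_neg]
    rfl
  obtain ⟨c', hc', hcc', h'⟩ := mem_of_dHom_mem (N := d.secS.M) aS hfix D hD hb
  -- `c = c' * e` with `e ∈ C_S(Q)`
  have he : c'⁻¹ * c ∈ CS Q S := (d.secS.cls_eq_cls hc' hc).1 hcc'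
  intro n
  have e : (⟨c, d.S_le hc⟩ : L₀ Q Z₁) = ⟨c', d.S_le hc'⟩ * ⟨c'⁻¹ * c, d.S_le he.1⟩ := by
    apply Subtype.ext
    simp
  rw [e, mul_smul, d.CS_smul he, h']

/-- the faithful quotient acting on `N` -/
abbrev Lq (d : XData V r t s p Q S Z₁ h W) : Type w := FQ ↥(L₀ Q Z₁) d.sec.M

/-- the image of `S` -/
noncomputable def K (d : XData V r t s p Q S Z₁ h W) : Subgroup d.Lq :=
  (S.subgroupOf (L₀ Q Z₁)).map (FQ.mk ↥(L₀ Q Z₁) d.sec.M)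

/-- the image of `h` -/
noncomputable def a (d : XData V r t s p Q S Z₁ h W) : d.Lq := FQ.mk ↥(L₀ Q Z₁) d.sec.M d.h₀

theorem mem_K (d : XData V r t s p Q S Z₁ h W) {k : d.Lq} :
    k ∈ d.K ↔ ∃ c, ∃ hc : c ∈ S, FQ.mk ↥(L₀ Q Z₁) d.sec.M ⟨c, d.S_le hc⟩ = k := by
  constructor
  · rintro ⟨c₀, hc₀, rfl⟩
    exact ⟨c₀, hc₀, rfl⟩
  · rintro ⟨c, hc, rfl⟩
    exact ⟨⟨c, d.S_le hc⟩, hc, rfl⟩

theorem a_pow (d : XData V r t s p Q S Z₁ h W) : d.a ^ p = 1 := by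
  unfold a
  rw [← map_pow, d.h₀_pow, map_one]

theorem a_smul (d : XData V r t s p Q S Z₁ h W) (n : d.sec.M) : d.a • n = d.h₀ • n := rfl

theorem a_norm_K (d : XData V r t s p Q S Z₁ h W) : ∀ k ∈ d.K, d.a * k * d.a⁻¹ ∈ d.K := by
  intro k hk
  obtain ⟨c, hc, rfl⟩ := d.mem_K.1 hk
  refine d.mem_K.2 ⟨h * c * h⁻¹, d.hhS c hc, ?_⟩
  unfold a
  rw [← map_inv, ← map_mul, ← map_mul]
  rfl

theorem K_comm (d : XData V r t s p Q S Z₁ h W) : ∀ k ∈ d.K, ∀ k' ∈ d.K, k * k' = k' * k := by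
  intro k hk k' hk'
  obtain ⟨c, hc, rfl⟩ := d.mem_K.1 hk
  obtain ⟨c', hc', rfl⟩ := d.mem_K.1 hk'
  rw [← map_mul, ← map_mul, FQ.mk_eq_mk_iff]
  intro n
  have he := d.hSab c hc c' hc'
  have e : (⟨c, d.S_le hc⟩ : L₀ Q Z₁) * ⟨c', d.S_le hc'⟩ =
      ⟨c * c' * c⁻¹ * c'⁻¹, d.S_le he.1⟩ * (⟨c', d.S_le hc'⟩ * ⟨c, d.S_le hc⟩) := by
    apply Subtype.ext
    simp only [Subgroup.coe_mul]
    group
  rw [e, mul_smul, d.CS_smul he]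

theorem K_pow (d : XData V r t s p Q S Z₁ h W) : ∀ k ∈ d.K, k ^ s = 1 := by
  intro k hk
  obtain ⟨c, hc, rfl⟩ := d.mem_K.1 hk
  rw [← map_pow, FQ.mk_eq_one_iff]
  intro n
  exact d.CS_smul (d.hSexp c hc) n

theorem K_fpf (d : XData V r t s p Q S Z₁ h W) : ∀ k ∈ d.K, d.a * k = k * d.a → k = 1 := by
  intro k hk hak
  obtain ⟨c, hc, rfl⟩ := d.mem_K.1 hk
  rw [FQ.mk_eq_one_iff]
  apply d.S_triv_of_comm_triv hc
  intro n
  unfold a at hak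
  rw [← map_mul, ← map_mul, FQ.mk_eq_mk_iff] at hak
  have e : (⟨h * c * h⁻¹ * c⁻¹, d.S_le (S.mul_mem (d.hhS c hc) (S.inv_mem hc))⟩ : L₀ Q Z₁) =
      (d.h₀ * ⟨c, d.S_le hc⟩) * (⟨c, d.S_le hc⟩ * d.h₀)⁻¹ := by
    apply Subtype.ext
    simp only [Subgroup.coe_mul, Subgroup.coe_inv, h₀]
    group
  rw [e, mul_smul, hak, smul_inv_smul]

theorem K_fix (d : XData V r t s p Q S Z₁ h W) :
    ∀ n : d.sec.M, (∀ k ∈ d.K, k • n = n) → n = 0 := by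
  intro n hn
  apply d.fix_S
  intro c hc
  exact hn _ (d.mem_K.2 ⟨c, hc, rfl⟩)

theorem K_pgroup (d : XData V r t s p Q S Z₁ h W) : IsPGroup s d.K :=
  (d.hS.comap_subtype (K := L₀ Q Z₁)).map _

theorem card_fix_eq (d : XData V r t s p Q S Z₁ h W) :
    Nat.card {n : d.sec.M // d.a • n = n} = Nat.card d.N₀ := by
  apply Nat.card_congr
  apply Equiv.subtypeEquivRight
  intro n
  rw [d.a_smul]
  exact (mem_fixA (N := d.sec.M)).symm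

/-- **Step C**: the Frobenius count -/
theorem count_ineq (d : XData V r t s p Q S Z₁ h W) (hcount : CountStatement.{w}) :
    Nat.card d.N₀ ^ p ≤ Nat.card d.sec.M := by
  rw [← d.card_fix_eq]
  exact hcount d.hp d.hs d.K d.a d.a_pow d.a_norm_K d.K_comm d.K_pow
    (Nat.Coprime.mul_right (d.coprime_M d.hs d.hts) (d.coprime_M d.hp d.hpt.symm)) d.K_fpf d.K_fix

/-- **Step D**: `C_N(h) ≠ 0` -/
theorem card_N₀_ne_one (d : XData V r t s p Q S Z₁ h W) (hne : ∃ n : d.sec.M, n ≠ 0) :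
    Nat.card d.N₀ ≠ 1 := by
  haveI : Fact s.Prime := ⟨d.hs⟩
  have hcop : (Nat.card d.sec.M).Coprime (Nat.card d.K) := by
    obtain ⟨k, hk⟩ := d.K_pgroup.exists_card_eq
    rw [hk]
    exact Nat.Coprime.pow_right k (d.coprime_M d.hs d.hts)
  obtain ⟨v, hv0, hv⟩ := Cfsg.Agent.Lib.Helper2.PQFrob.l_frob_top (V := d.sec.M) (T := d.Lq) d.hp
    d.K d.a d.a_pow d.a_norm_K d.K_fpf hcop d.K_fix hne
  intro h1
  have hv' : v ∈ d.N₀ := by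
    show v ∈ fixA (N := d.sec.M) d.h₀
    rw [mem_fixA]
    exact hv
  have h2 := Nat.card_eq_one_iff_unique.1 h1
  have h3 := h2.1.elim (⟨v, hv'⟩ : d.N₀) ⟨0, d.N₀.zero_mem⟩
  exact hv0 (congrArg Subtype.val h3)

theorem CW_normal (d : XData V r t s p Q S Z₁ h W) :
    ∀ u ∈ Q, ∀ k ∈ CW Q W, u * k * u⁻¹ ∈ CW Q W := by
  intro u hu k hk
  refine ⟨Q.mul_mem (Q.mul_mem hu hk.1) (Q.inv_mem hu), ?_⟩
  intro w hw
  have hw' : u⁻¹ • w ∈ W := d.hWQ _ (Q.inv_mem hu) w hw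
  rw [mul_smul, mul_smul, hk.2 _ hw', smul_inv_smul]

/-- the arithmetic of the Fermat case -/
theorem fermat_arith_false {c j m P : ℕ} (hP : P = 2 ^ j + 1) (hcm : c + 2 * j = 2 * m) (hc : 1 ≤ c)
    (hle : (2 ^ c) ^ P ≤ 2 ^ (2 * m)) : False := by
  have hc2 : 2 ≤ c := by omega
  rw [← pow_mul] at hle
  have h1 : c * P ≤ 2 * m := (Nat.pow_le_pow_iff_right (by norm_num)).1 hle
  rw [hP, ← hcm, mul_add, mul_one] at h1
  have h2 : c * 2 ^ j ≤ 2 * j := by omega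
  have h3 : 2 * 2 ^ j ≤ c * 2 ^ j := Nat.mul_le_mul_right _ hc2
  have h4 : j < 2 ^ j := Nat.lt_two_pow_self
  omega

/-- **Theorem X** modulo the Frobenius count -/
theorem eq_of_count (d : XData V r t s p Q S Z₁ h W) (hcount : CountStatement.{w}) : Z₁ = Q := by
  by_cases htriv : ∀ u ∈ Q, h * u * h⁻¹ * u⁻¹ ∈ Z₁
  · apply d.eq_of_trivial
    intro n
    obtain ⟨u, hu, rfl⟩ := d.sec.cls_surj n
    rw [d.sec.smul_cls_eq_iff]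
    exact htriv u hu
  · exfalso
    simp only [not_forall] at htriv
    obtain ⟨u, hu, hnu⟩ := htriv
    obtain ⟨ht2, j, hpj, hN₂⟩ := d.fermat_of_nontrivial ⟨u, hu, hnu⟩
    subst ht2
    obtain ⟨m, hm⟩ := Cfsg.Agent.Lib.Lead.PQN2.x3 Q Z₁ (CW Q W) d.hKZ₁ d.hZ₁Q d.CW_normal d.hidx
      d.hcomm d.hcent d.hcenter d.hpow
    have hcardN : Nat.card d.sec.M = 2 ^ (2 * m) := by rw [d.sec.card_eq, hm]
    have hprod := d.card_N₀_mul_card_N₂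
    rw [hN₂, hcardN] at hprod
    -- `|N₀| = 2^c`
    have hdvd : Nat.card d.N₀ ∣ 2 ^ (2 * m) := Dvd.intro _ hprod
    obtain ⟨c, _, hc⟩ := (Nat.dvd_prime_pow Nat.prime_two).1 hdvd
    rw [hc, ← pow_add] at hprod
    have hcm : c + 2 * j = 2 * m := Nat.pow_right_injective (le_refl 2) hprod
    have hne : ∃ n : d.sec.M, n ≠ 0 := by
      refine ⟨d.sec.cls u hu, ?_⟩
      intro h0
      apply hnu
      have hu2 : d.sec.cls (h * u * h⁻¹ * u⁻¹) (Q.mul_mem (d.hhQ u hu) (Q.inv_mem hu)) = 0 := by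
        rw [d.sec.cls_mul (d.hhQ u hu) (Q.inv_mem hu), d.sec.cls_inv hu, h0, neg_zero, add_zero,
          ← d.sec.smul_cls' d.h_mem hu, h0, smul_zero]
      exact (d.sec.cls_eq_zero _).1 hu2
    have hc1 : 1 ≤ c := by
      have := d.card_N₀_ne_one hne
      rw [hc] at this
      by_contra hcon
      have : c = 0 := by omega
      subst this
      simp at *
    have hle := d.count_ineq hcount
    rw [hc, hcardN] at hle
    exact fermat_arith_false hpj hcm hc1 hle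

end XData

/-- **Theorem X** (`extraspecial_false` of `notes/S4306_skeleton.lean.txt`) modulo the Frobenius count. -/
theorem extraspecial_false_of_count (hcount : CountStatement.{w})
    {r t s p : ℕ} (hr : r.Prime) (ht : t.Prime) (hs : s.Prime) (hp : p.Prime)
    (htr : t ≠ r) (hpr : p ≠ r) (hpt : p ≠ t) (hps : p ≠ s) (hts : t ≠ s)
    (hVr : ∀ v : V, r • v = 0)
    (Q S Z₁ : Subgroup T) (h : T) (W : AddSubgroup V)
    (hQ : IsPGroup t Q) (hS : IsPGroup s S)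
    (hSQ : ∀ c ∈ S, ∀ u ∈ Q, c * u * c⁻¹ ∈ Q) (hhQ : ∀ u ∈ Q, h * u * h⁻¹ ∈ Q)
    (hhS : ∀ c ∈ S, h * c * h⁻¹ ∈ S) (hh : h ^ p = 1) (hh1 : h ≠ 1)
    (hWQ : ∀ u ∈ Q, ∀ w ∈ W, u • w ∈ W) (hWS : ∀ c ∈ S, ∀ w ∈ W, c • w ∈ W)
    (hWh : ∀ w ∈ W, h • w ∈ W) (hWfix : ∀ w ∈ W, h • w = w → w = 0)
    (hKZ₁ : CW Q W ≤ Z₁) (hZ₁Q : Z₁ ≤ Q) (hidx : (CW Q W).relIndex Z₁ = t)
    (hcomm : ∀ u ∈ Q, ∀ v ∈ Q, u * v * u⁻¹ * v⁻¹ ∈ Z₁)
    (hcent : ∀ z ∈ Z₁, ∀ u ∈ Q, z * u * z⁻¹ * u⁻¹ ∈ CW Q W)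
    (hcenter : ∀ u ∈ Q, (∀ v ∈ Q, u * v * u⁻¹ * v⁻¹ ∈ CW Q W) → u ∈ Z₁)
    (hpow : ∀ u ∈ Q, u ^ t ∈ Z₁)
    (hSZ₁ : ∀ c ∈ S, ∀ z ∈ Z₁, c * z * c⁻¹ * z⁻¹ ∈ CW Q W)
    (hhZ₁ : ∀ z ∈ Z₁, h * z * h⁻¹ * z⁻¹ ∈ CW Q W)
    (hCS : ∀ u ∈ Q, (∀ c ∈ S, c * u * c⁻¹ * u⁻¹ ∈ Z₁) → u ∈ Z₁)
    (hSab : ∀ c ∈ S, ∀ d ∈ S, c * d * c⁻¹ * d⁻¹ ∈ CS Q S) (hSexp : ∀ c ∈ S, c ^ s ∈ CS Q S)
    (hSfpf : ∀ c ∈ S, h * c * h⁻¹ * c⁻¹ ∈ CS Q S → c ∈ CS Q S)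
    (hSsurj : ∀ c ∈ S, ∃ d ∈ S, ∃ e ∈ CS Q S, c = (h * d * h⁻¹ * d⁻¹) * e) :
    Z₁ = Q :=
  XData.eq_of_count (V := V) (r := r) (t := t) (s := s) (p := p) (W := W)
    ⟨hr, ht, hs, hp, htr, hpr, hpt, hps, hts, hVr, hQ, hS, hSQ, hhQ, hhS, hh, hWQ, hWS, hWh, hWfix,
      hKZ₁, hZ₁Q, hidx, hcomm, hcent, hcenter, hpow, hSZ₁, hhZ₁, hCS, hSab, hSexp, hSfpf, hSsurj⟩
    hcount

end Cfsg.Agent.Lib.Helper4.PQX
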