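import Mathlib
import Cfsg.Agent.Lib.Helper4.PQX5
import Cfsg.Agent.Lib.Helper6.PQTools2

/-!
# Theorem X of the S4306 swarm (`extraspecial_false` of `notes/S4306_skeleton.lean.txt`), final form
-/

set_option autoImplicit false
set_option linter.unusedSectionVars false
set_option linter.unusedVariables false

namespace Cfsg.Agent.Lib.Helper4.PQX

open Cfsg.Agent.Lib.Helper4.PQ

universe u w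

theorem countStatement : CountStatement.{w} :=
  fun hp hs K a ha haK hKc hKs hcop hfpf hCK =>
    Cfsg.Agent.Lib.Helper6.PQTools.frob_count hp hs K a ha haK hKc hKs hcop hfpf hCK

variable {V : Type u} [AddCommGroup V] [Finite V] {T : Type w} [Group T] [Finite T]
  [DistribMulAction T V]

/-- **Theorem X**.  `Q` a `t`-group, `S` an `s`-group normalizing `Q`, `h` of prime order `p` normalizing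
`Q` and `S`; all of them stabilize `W ≤ V` and `C_W(h) = 0`.  `K₀ = C_Q(W)`, `Z₁/K₀ = Z(Q/K₀) = (Q/K₀)'`
of order `t`, `Q/Z₁` of exponent `t`; `S` and `h` centralize `Z₁/K₀`; `C_{Q/Z₁}(S) = 1`; `S/C_S(Q)` is
abelian of exponent `s` and `h` acts on it without fixed points.  Then `Z₁ = Q`. -/
theorem extraspecial_false {r t s p : ℕ} (hr : r.Prime) (ht : t.Prime) (hs : s.Prime) (hp : p.Prime)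
    (htr : t ≠ r) (hpr : p ≠ r) (hpt : p ≠ t) (hps : p ≠ s) (hts : t ≠ s)
    (hVr : ∀ v : V, r • v = 0)
    (Q S Z₁ : Subgroup T) (h : T) (W : AddSubgroup V)
    (hQ : IsPGroup t Q) (hS : IsPGroup s S)
    (hSQ : ∀ c ∈ S, ∀ u ∈ Q, c * u * c⁻¹ ∈ Q) (hhQ : ∀ u ∈ Q, h * u * h⁻¹ ∈ Q)
    (hhS : ∀ c ∈ S, h * c * h⁻¹ ∈ S) (hh : h ^ p = 1) (hh1 : h ≠ 1)
    (hWQ : ∀ u ∈ Q, ∀ w ∈ W, u • w ∈ W) (hWS : ∀ c ∈ S, ∀ w ∈ W, c • w ∈ W)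
    (hWh : ∀ w ∈ W, h • w ∈ W) (hWfix : ∀ w ∈ W, h • w = w → w = 0)
    (hKZ₁ : CW Q W ≤ Z₁) (hZ₁Q : Z₁ ≤ Q) (hidx : (CW Q W).relIndex Z₁ = t)
    (hcomm : ∀ u ∈ Q, ∀ v ∈ Q, u * v * u⁻¹ * v⁻¹ ∈ Z₁)
    (hcent : ∀ z ∈ Z₁, ∀ u ∈ Q, z * u * z⁻¹ * u⁻¹ ∈ CW Q W)
    (hcenter : ∀ u ∈ Q, (∀ v ∈ Q, u * v * u⁻¹ * v⁻¹ ∈ CW Q W) → u ∈ Z₁)
    (hpow : ∀ u ∈ Q, u ^ t ∈ Z₁)
    (hSZ₁ : ∀ c ∈ S, ∀ z ∈ Z₁, c * z * c⁻¹ * z⁻¹ ∈ CW Q W)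
    (hhZ₁ : ∀ z ∈ Z₁, h * z * h⁻¹ * z⁻¹ ∈ CW Q W)
    (hCS : ∀ u ∈ Q, (∀ c ∈ S, c * u * c⁻¹ * u⁻¹ ∈ Z₁) → u ∈ Z₁)
    (hSab : ∀ c ∈ S, ∀ d ∈ S, c * d * c⁻¹ * d⁻¹ ∈ CS Q S) (hSexp : ∀ c ∈ S, c ^ s ∈ CS Q S)
    (hSfpf : ∀ c ∈ S, h * c * h⁻¹ * c⁻¹ ∈ CS Q S → c ∈ CS Q S)
    (hSsurj : ∀ c ∈ S, ∃ d ∈ S, ∃ e ∈ CS Q S, c = (h * d * h⁻¹ * d⁻¹) * e) :
    Z₁ = Q :=
  extraspecial_false_of_count countStatement.{w} hr ht hs hp htr hpr hpt hps hts hVr Q S Z₁ h W hQ hS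
    hSQ hhQ hhS hh hh1 hWQ hWS hWh hWfix hKZ₁ hZ₁Q hidx hcomm hcent hcenter hpow hSZ₁ hhZ₁ hCS hSab
    hSexp hSfpf hSsurj

end Cfsg.Agent.Lib.Helper4.PQX
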