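import Mathlib

set_option autoImplicit false

/-! The derived series of a subgroup, computed inside the ambient group. -/

namespace Cfsg.Agent.Lib.Helper4.PS

universe u

section Dser

variable {G : Type u} [Group G]

/-- The derived series of the subgroup `P`, as subgroups of the ambient group. -/
def dser (P : Subgroup G) : ℕ → Subgroup G
  | 0 => P
  | (k + 1) => ⁅dser P k, dser P k⁆

@[simp] theorem dser_zero (P : Subgroup G) : dser P 0 = P := rfl

theorem dser_succ (P : Subgroup G) (k : ℕ) : dser P (k + 1) = ⁅dser P k, dser P k⁆ := rfl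

theorem dser_succ_le (P : Subgroup G) (k : ℕ) : dser P (k + 1) ≤ dser P k := by
  rw [dser_succ, Subgroup.commutator_le]
  intro a ha b hb
  rw [commutatorElement_def]
  exact Subgroup.mul_mem _ (Subgroup.mul_mem _ (Subgroup.mul_mem _ ha hb) (Subgroup.inv_mem _ ha))
    (Subgroup.inv_mem _ hb)

theorem dser_antitone (P : Subgroup G) {k l : ℕ} (h : k ≤ l) : dser P l ≤ dser P k := by
  induction l with
  | zero =>
    have : k = 0 := by omega
    subst this
    exact le_rfl
  | succ l ih =>
    by_cases hk : k = l + 1
    · subst hk; exact le_rfl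
    · exact (dser_succ_le P l).trans (ih (by omega))

theorem dser_le (P : Subgroup G) (k : ℕ) : dser P k ≤ P := dser_antitone P (Nat.zero_le k)

theorem dser_mono {P Q : Subgroup G} (h : P ≤ Q) (k : ℕ) : dser P k ≤ dser Q k := by
  induction k with
  | zero => exact h
  | succ k ih =>
    rw [dser_succ, dser_succ]
    exact Subgroup.commutator_mono ih ih

theorem dser_map {H : Type*} [Group H] (f : G →* H) (P : Subgroup G) (k : ℕ) :
    (dser P k).map f = dser (P.map f) k := by
  induction k with
  | zero => rfl
  | succ k ih =>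
    rw [dser_succ, dser_succ, Subgroup.map_commutator, ih]

theorem dser_add (P : Subgroup G) (a b : ℕ) : dser P (a + b) = dser (dser P a) b := by
  induction b with
  | zero => rfl
  | succ b ih =>
    rw [← add_assoc, dser_succ, dser_succ, ih]

theorem map_derivedSeries_subtype (P : Subgroup G) (k : ℕ) :
    (derivedSeries ↥P k).map P.subtype = dser P k := by
  induction k with
  | zero =>
    rw [derivedSeries_zero, dser_zero, ← MonoidHom.range_eq_map, Subgroup.range_subtype]
  | succ k ih =>
    rw [derivedSeries_succ, dser_succ, Subgroup.map_commutator, ih]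

theorem derivedSeries_eq_bot_iff (P : Subgroup G) (k : ℕ) :
    derivedSeries ↥P k = ⊥ ↔ dser P k = ⊥ := by
  rw [← map_derivedSeries_subtype]
  constructor
  · intro h
    rw [h, Subgroup.map_bot]
  · intro h
    exact (Subgroup.map_eq_bot_iff_of_injective _ P.subtype_injective).1 h

theorem dser_one_eq_bot_of_comm (P : Subgroup G) (h : ∀ a ∈ P, ∀ b ∈ P, a * b = b * a) :
    dser P 1 = ⊥ := by
  rw [dser_succ, dser_zero, eq_bot_iff, Subgroup.commutator_le]
  intro a ha b hb
  rw [Subgroup.mem_bot, commutatorElement_def, h a ha b hb]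
  group

theorem dser_le_of_map_eq_bot (N : Subgroup G) [N.Normal] (P : Subgroup G) (k : ℕ)
    (h : dser (P.map (QuotientGroup.mk' N)) k = ⊥) : dser P k ≤ N := by
  rw [← dser_map] at h
  intro x hx
  have : QuotientGroup.mk' N x ∈ (dser P k).map (QuotientGroup.mk' N) :=
    Subgroup.mem_map_of_mem _ hx
  rw [h, Subgroup.mem_bot] at this
  exact (QuotientGroup.eq_one_iff x).1 this

theorem dser_one_le_of_commutators (P A : Subgroup G)
    (h : ∀ x ∈ P, ∀ y ∈ P, x * y * x⁻¹ * y⁻¹ ∈ A) : dser P 1 ≤ A := by
  rw [dser_succ, dser_zero, Subgroup.commutator_le]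
  intro a ha b hb
  rw [commutatorElement_def]
  exact h a ha b hb

end Dser

end Cfsg.Agent.Lib.Helper4.PS
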