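import Mathlib
import Cfsg.Agent.Lib.Helper4.TE1

set_option autoImplicit false

/-! The number of `p`-singular irreducible characters and quotients. -/

namespace Cfsg.Agent.Lib.Helper4.PS

open Cfsg Cfsg.Agent.Lib.Helper1 Cfsg.Agent.Lib.Helper4

universe u

/-- The number of irreducible characters of degree divisible by `p`. -/
noncomputable def nSing (p : ℕ) (G : Type u) [Group G] : ℕ :=
  Nat.card {χ : Cfsg.IrrCharacter G // p ∣ Cfsg.charDegree (χ : G → ℂ)}

section Q

variable {G : Type u} [Group G] [Finite G] (p : ℕ)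

/-- Inflation of `p`-singular characters. -/
noncomputable def inflSing (N : Subgroup G) [N.Normal] :
    {ψ : Cfsg.IrrCharacter (G ⧸ N) // p ∣ Cfsg.charDegree (ψ : G ⧸ N → ℂ)} →
      {χ : Cfsg.IrrCharacter G // p ∣ Cfsg.charDegree (χ : G → ℂ)} :=
  fun ψ => ⟨⟨fun g => (ψ.1 : G ⧸ N → ℂ) (QuotientGroup.mk g),
    Cfsg.Agent.Lib.Helper8.isIrrCharacter_inflation N ψ.1.2⟩, ψ.2⟩

theorem inflSing_injective (N : Subgroup G) [N.Normal] : Function.Injective (inflSing p N) := by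
  intro ψ ψ' h
  apply Subtype.ext
  apply Subtype.ext
  funext q
  obtain ⟨g, rfl⟩ := QuotientGroup.mk_surjective q
  have h1 := congrArg (fun x => (x.1 : G → ℂ) g) h
  exact h1

theorem nSing_quotient_le (N : Subgroup G) [N.Normal] : nSing p (G ⧸ N) ≤ nSing p G := by
  haveI : Finite (Cfsg.IrrCharacter G) := inferInstance
  exact Nat.card_le_card_of_injective (inflSing p N) (inflSing_injective p N)

theorem nSing_quotient_lt (N : Subgroup G) [N.Normal] (χ : G → ℂ)
    (hχ : Cfsg.IsIrrCharacter G χ) (hp : p ∣ Cfsg.charDegree χ) (hN : ∃ a ∈ N, χ a ≠ χ 1) :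
    nSing p (G ⧸ N) < nSing p G := by
  classical
  haveI : Fintype (Cfsg.IrrCharacter G) := Fintype.ofFinite _
  haveI : Fintype (Cfsg.IrrCharacter (G ⧸ N)) := Fintype.ofFinite _
  unfold nSing
  rw [Nat.card_eq_fintype_card, Nat.card_eq_fintype_card]
  apply Fintype.card_lt_of_injective_of_notMem (inflSing p N) (inflSing_injective p N)
    (b := ⟨⟨χ, hχ⟩, hp⟩)
  rintro ⟨ψ, hψ⟩
  obtain ⟨a, ha, hne⟩ := hN
  apply hne
  have h1 := congrArg (fun x => (x.1 : G → ℂ)) hψ
  simp only at h1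
  rw [← h1]
  show (ψ.1 : G ⧸ N → ℂ) (QuotientGroup.mk a) = (ψ.1 : G ⧸ N → ℂ) (QuotientGroup.mk 1)
  rw [(QuotientGroup.eq_one_iff a).2 ha, QuotientGroup.mk_one]

end Q

end Cfsg.Agent.Lib.Helper4.PS
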