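import Mathlib
import Cfsg.Agent.Lib.Helper2.TransferExt

set_option autoImplicit false

/-! Extending a linear character from a subgroup of coprime index by transfer. -/

namespace Cfsg.Agent.Lib.Helper4.PS

universe u

section Ext

variable {X : Type u} [Group X] [Finite X]

theorem exists_extension_of_index_coprime (N H : Subgroup X) [hN : N.Normal] (hNH : N ≤ H)
    (μ : H →* ℂˣ)
    (hinv : ∀ (t : X) (n : X) (hn : n ∈ N),
      μ ⟨t⁻¹ * n * t, hNH (by simpa using hN.conj_mem n hn t⁻¹)⟩ = μ ⟨n, hNH hn⟩)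
    (b : ℕ) (hb0 : 0 < b) (hb : ∀ (n : X) (hn : n ∈ N), μ ⟨n, hNH hn⟩ ^ b = 1)
    (hcop : Nat.Coprime H.index b) :
    ∃ ψ : X →* ℂˣ, ∀ (n : X) (hn : n ∈ N), ψ n = μ ⟨n, hNH hn⟩ := by
  by_cases hb1 : b = 1
  · refine ⟨1, fun n hn => ?_⟩
    have := hb n hn
    rw [hb1, pow_one] at this
    rw [this]
    rfl
  · have hb2 : 1 < b := by omega
    obtain ⟨m, -, hm⟩ := Nat.exists_mul_mod_eq_one_of_coprime hcop hb2
    let τ : X →* ℂˣ := MonoidHom.transfer μ
    have hτ : ∀ (n : X) (hn : n ∈ N), τ n = μ ⟨n, hNH hn⟩ ^ H.index := fun n hn =>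
      Cfsg.Agent.Lib.Helper2.TransferExt.transfer_apply_of_invariant H N hNH μ hinv n hn
    refine ⟨τ ^ m, fun n hn => ?_⟩
    rw [MonoidHom.pow_apply, hτ n hn, ← pow_mul]
    have h1 : H.index * m = b * (H.index * m / b) + 1 := by
      have := Nat.div_add_mod (H.index * m) b
      rw [hm] at this
      exact this.symm
    rw [h1, pow_succ, pow_mul, hb n hn, one_pow, one_mul]

end Ext

end Cfsg.Agent.Lib.Helper4.PS
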