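import Mathlib
import Cfsg.Agent.Lib.Helper4.TE1
import Cfsg.Agent.S0148

set_option autoImplicit false

/-! A character of degree prime to `p` has a linear constituent on every `p`-subgroup. -/

namespace Cfsg.Agent.Lib.Helper4.PS

open Cfsg Cfsg.Agent.Lib.Helper1 Cfsg.Agent.Lib.Helper4 Cfsg.Agent.Lib.Helper4.TD

universe u

section Lin

variable {G : Type u} [Group G] [Finite G]

theorem exists_linear_constituent (p : ℕ) [hp : Fact p.Prime] (P : Subgroup G) [Fintype P]
    (hP : IsPGroup p P) {χ : G → ℂ} (hχ : Cfsg.IsCharacter G χ) (d : ℕ) (hd : χ 1 = d)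
    (hpd : ¬ p ∣ d) :
    ∃ μ : P →* ℂˣ, ∃ m : ℕ, 0 < m ∧
      Cfsg.classInner (fun x : P => χ x) (fun x : P => ((μ x : ℂˣ) : ℂ)) = m := by
  classical
  haveI : Fintype (Cfsg.IrrCharacter P) := Fintype.ofFinite _
  have hres : Cfsg.IsCharacter P (fun x : P => χ x) :=
    Cfsg.Agent.S0148.isCharacter_restrict P hχ
  by_contra hcon
  push Not at hcon
  apply hpd
  have hexp := class_function_expansion _ (isClassFunction_of_isCharacter hres)
  have h1 := congrFun hexp 1
  simp only [Finset.sum_apply, Pi.smul_apply, smul_eq_mul] at h1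
  -- each term is a natural number divisible by p
  have hterm : ∀ μ : Cfsg.IrrCharacter P, ∃ k : ℕ,
      Cfsg.classInner (fun x : P => χ x) (μ : P → ℂ) * (μ : P → ℂ) 1 = ((p * k : ℕ) : ℂ) := by
    intro μ
    obtain ⟨m, hm⟩ := classInner_char_irr_nat hres μ.2
    obtain ⟨e, he, he0, hedvd⟩ := irr_degree μ.2
    rcases Nat.eq_zero_or_pos m with rfl | hm0
    · refine ⟨0, ?_⟩
      rw [hm]
      simp
    · have hne1 : (μ : P → ℂ) 1 ≠ 1 := by
        intro h1'
        obtain ⟨f, hf⟩ := exists_hom_of_isIrrCharacter μ.2 h1'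
        have := hcon f m hm0
        apply this
        rw [← hf]
        exact hm
      obtain ⟨n, hn⟩ := (IsPGroup.iff_card (p := p) (G := P)).1 hP
      rw [hn] at hedvd
      obtain ⟨j, -, hj⟩ := (Nat.dvd_prime_pow hp.out).1 hedvd
      have hj0 : j ≠ 0 := by
        rintro rfl
        apply hne1
        rw [he, hj]
        simp
      obtain ⟨j', rfl⟩ := Nat.exists_eq_succ_of_ne_zero hj0
      refine ⟨m * p ^ j', ?_⟩
      rw [hm, he, hj, pow_succ]
      push_cast
      ring
  choose kf hkf using hterm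
  have h2 : (d : ℂ) = ((p * ∑ μ : Cfsg.IrrCharacter P, kf μ : ℕ) : ℂ) := by
    rw [← hd]
    have h0 : χ 1 = χ ((1 : P) : G) := rfl
    rw [h0, h1, Finset.mul_sum]
    push_cast
    apply Finset.sum_congr rfl
    intro μ _
    rw [hkf μ]
    push_cast
    ring
  have h3 : d = p * ∑ μ : Cfsg.IrrCharacter P, kf μ := by exact_mod_cast h2
  exact ⟨_, h3⟩

end Lin

end Cfsg.Agent.Lib.Helper4.PS
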