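import Mathlib
import Cfsg.Agent.Lib.Helper4.TE1
import Cfsg.Agent.Lib.Helper4.CliffordInd
import Cfsg.Agent.S0146
import Cfsg.Agent.S0148
import Cfsg.Agent.S0170

set_option autoImplicit false

/-! Characters of the inertia group lying over a linear character: degrees prime to `p`. -/

namespace Cfsg.Agent.Lib.Helper4.PS

open Cfsg Cfsg.Agent.Lib.Helper1 Cfsg.Agent.Lib.Helper4 Cfsg.Agent.Lib.Helper4.TD
open scoped ComplexConjugate

universe u

section Cliff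

variable {G : Type u} [Group G] [Fintype G]

theorem not_dvd_of_over (p : ℕ) (A : Subgroup G) [hA : A.Normal] [Fintype A]
    (lam : A →* ℂˣ) (hlam : ∃ a : A, lam a ≠ 1)
    (H3 : ∀ χ : G → ℂ, Cfsg.IsIrrCharacter G χ → (∃ a ∈ A, χ a ≠ χ 1) →
      ¬ p ∣ Cfsg.charDegree χ)
    (T : Subgroup G) [Fintype T] (hT : T = inertia A (fun a => ((lam a : ℂˣ) : ℂ)))
    (hAT : A ≤ T) (ψ : T → ℂ) (hψ : Cfsg.IsIrrCharacter T ψ)
    (hover : ∀ a : A, ψ ⟨a, hAT a.2⟩ = ψ 1 * ((lam a : ℂˣ) : ℂ)) :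
    ¬ p ∣ Cfsg.charDegree ψ := by
  classical
  set θ : A → ℂ := fun a => ((lam a : ℂˣ) : ℂ) with hθdef
  have hθ : Cfsg.IsIrrCharacter A θ := isIrrCharacter_of_hom lam
  obtain ⟨hind, -⟩ := clifford_induction A θ hθ T hT hAT
  haveI : Fintype (A.subgroupOf T) := Fintype.ofFinite _
  set θ' : A.subgroupOf T → ℂ :=
    fun x => θ ⟨((x : T) : G), Subgroup.mem_subgroupOf.mp x.2⟩ with hθ'def
  have hθ' : Cfsg.IsIrrCharacter (A.subgroupOf T) θ' :=
    isIrrCharacter_comp_mulEquiv hθ (Subgroup.subgroupOfEquivOfLe hAT)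
  have hψ1 : ψ 1 ≠ 0 := irr_apply_one_ne_zero hψ
  have hψcl : Cfsg.IsClassFunction T ψ := isClassFunction_of_isCharacter (isCharacter_of_irr hψ)
  have hne : Cfsg.classInner (Cfsg.indFun (A.subgroupOf T) θ') ψ ≠ 0 := by
    rw [Cfsg.Agent.S0146.result (A.subgroupOf T) θ' ψ hψcl]
    have h1 : (fun h : A.subgroupOf T => ψ (h : T)) = ψ 1 • θ' := by
      funext h
      have := hover ⟨((h : T) : G), Subgroup.mem_subgroupOf.mp h.2⟩
      rw [Pi.smul_apply, smul_eq_mul]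
      exact this
    rw [h1, classInner_smul_right, classInner_irr_self hθ', mul_one]
    intro h
    apply hψ1
    have := congrArg conj h
    simpa using this
  set Ψ : G → ℂ := Cfsg.indFun T ψ with hΨdef
  have hΨ : Cfsg.IsIrrCharacter G Ψ := hind ψ hψ hne
  have hΨcl : Cfsg.IsClassFunction G Ψ := isClassFunction_of_isCharacter (isCharacter_of_irr hΨ)
  have hnt : ∃ a ∈ A, Ψ a ≠ Ψ 1 := by
    by_contra hcon
    push Not at hcon
    have h1 := Cfsg.Agent.S0146.result T ψ Ψ hΨcl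
    rw [classInner_irr_self hΨ] at h1
    have h2 : Cfsg.classInner (fun t : T => Ψ t) ψ = ((1 : ℕ) : ℂ) := by
      rw [← classInner_conj_symm, ← h1]
      simp
    have hres : Cfsg.IsCharacter T (fun t : T => Ψ t) :=
      Cfsg.Agent.S0148.isCharacter_restrict T (isCharacter_of_irr hΨ)
    obtain ⟨a, ha⟩ := hlam
    apply ha
    have h3 := constituent_apply_eq hres hψ Nat.one_pos h2 ⟨a, hAT a.2⟩ (hcon a a.2)
    rw [hover a] at h3
    have h4 : ψ 1 * (((lam a : ℂˣ) : ℂ) - 1) = 0 := by rw [mul_sub, h3, mul_one, sub_self]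
    rcases mul_eq_zero.1 h4 with h | h
    · exact absurd h hψ1
    · exact Units.ext (sub_eq_zero.1 h)
  have hnd := H3 Ψ hΨ hnt
  intro hdvd
  apply hnd
  obtain ⟨hΨ1, -⟩ := Cfsg.Agent.Lib.Helper8.irr_apply_one_eq_charDegree hΨ
  obtain ⟨hψd, -⟩ := Cfsg.Agent.Lib.Helper8.irr_apply_one_eq_charDegree hψ
  have h5 : Ψ 1 = (Nat.card T : ℂ)⁻¹ * ((Nat.card G : ℂ) * ψ 1) :=
    Cfsg.Agent.S0170.indFun_one T ψ
  have h6 : (Nat.card G : ℂ) = (Nat.card T : ℂ) * (T.index : ℂ) := by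
    rw [← Subgroup.card_mul_index T]
    push_cast
    ring
  have hT0 : (Nat.card T : ℂ) ≠ 0 := Nat.cast_ne_zero.mpr Nat.card_pos.ne'
  have h7 : ((Cfsg.charDegree Ψ : ℕ) : ℂ) = ((T.index * Cfsg.charDegree ψ : ℕ) : ℂ) := by
    rw [← hΨ1, h5, h6, hψd]
    push_cast
    field_simp
  have h8 : Cfsg.charDegree Ψ = T.index * Cfsg.charDegree ψ := by exact_mod_cast h7
  rw [h8]
  exact Dvd.dvd.mul_left hdvd _

end Cliff

end Cfsg.Agent.Lib.Helper4.PS
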