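import Mathlib
import Cfsg.Agent.Lib.Helper4.PS3
import Cfsg.Agent.Lib.Helper4.TE1
import Cfsg.Agent.Lib.Helper7.PSolvable
import Cfsg.Agent.S4713

set_option autoImplicit false

/-! An invariant linear character of a normal `p`-subgroup that extends to a Sylow `p`-subgroup,
all characters over it having degree prime to `p`: the Sylow subgroup is abelian modulo the
normal subgroup. -/

namespace Cfsg.Agent.Lib.Helper4.PS

open Cfsg Cfsg.Agent.Lib.Helper1 Cfsg.Agent.Lib.Helper4 Cfsg.Agent.Lib.Helper4.TD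
open scoped ComplexConjugate

universe u

section Inv

variable {X : Type u} [Group X] [Finite X]

theorem commutator_mem_of_invariant (p : ℕ) [hp : Fact p.Prime] (hsolv : Cfsg.IsPSolvable p X)
    (A : Subgroup X) [hA : A.Normal] (hAp : IsPGroup p A) (P : Sylow p X)
    (hAP : A ≤ (P : Subgroup X)) (μ : (P : Subgroup X) →* ℂˣ)
    (hinv : ∀ (t : X) (a : X) (ha : a ∈ A),
      μ ⟨t⁻¹ * a * t, hAP (by simpa using hA.conj_mem a ha t⁻¹)⟩ = μ ⟨a, hAP ha⟩)
    (H3 : ∀ ψ : X → ℂ, Cfsg.IsIrrCharacter X ψ →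
      (∀ (a : X) (ha : a ∈ A), ψ a = ψ 1 * ((μ ⟨a, hAP ha⟩ : ℂˣ) : ℂ)) →
      ¬ p ∣ Cfsg.charDegree ψ) :
    ∀ x ∈ (P : Subgroup X), ∀ y ∈ (P : Subgroup X), x * y * x⁻¹ * y⁻¹ ∈ A := by
  classical
  haveI : Fintype X := Fintype.ofFinite X
  set b := Nat.card A with hb
  have hb0 : 0 < b := Nat.card_pos
  have hbpow : ∀ (a : X) (ha : a ∈ A), μ ⟨a, hAP ha⟩ ^ b = 1 := by
    intro a ha
    rw [← map_pow]
    have h1 : (⟨a, ha⟩ : A) ^ Nat.card A = 1 := pow_card_eq_one'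
    have h2 : (⟨a, hAP ha⟩ : (P : Subgroup X)) ^ b = 1 := by
      apply Subtype.ext
      have h3 : a ^ Nat.card A = 1 := congrArg Subtype.val h1
      exact h3
    rw [h2, map_one]
  have hcop : Nat.Coprime (P : Subgroup X).index b := by
    obtain ⟨k, hk⟩ := (IsPGroup.iff_card (p := p) (G := A)).1 hAp
    rw [hb, hk]
    apply Nat.Coprime.pow_right
    exact ((Nat.Prime.coprime_iff_not_dvd hp.out).2 P.not_dvd_index).symm
  obtain ⟨lamh, hlamh⟩ := exists_extension_of_index_coprime A (P : Subgroup X) hAP μ hinv b hb0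
    hbpow hcop
  have hdeg : ∀ β : Cfsg.IrrCharacter (X ⧸ A), ¬ p ∣ Cfsg.charDegree (β : X ⧸ A → ℂ) := by
    intro β
    have hβ' := Cfsg.Agent.Lib.Helper8.isIrrCharacter_inflation A β.2
    have hψ := isIrrCharacter_hom_mul lamh hβ'
    have h1 := H3 _ hψ (by
      intro a ha
      show ((lamh a : ℂˣ) : ℂ) * (β : X ⧸ A → ℂ) (QuotientGroup.mk a) =
        ((lamh 1 : ℂˣ) : ℂ) * (β : X ⧸ A → ℂ) (QuotientGroup.mk 1) * _
      rw [(QuotientGroup.eq_one_iff a).2 ha, QuotientGroup.mk_one, map_one, hlamh a ha]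
      simp
      ring)
    have h2 : Cfsg.charDegree (fun x : X => ((lamh x : ℂˣ) : ℂ) *
        (β : X ⧸ A → ℂ) (QuotientGroup.mk x)) = Cfsg.charDegree (β : X ⧸ A → ℂ) := by
      unfold Cfsg.charDegree
      simp
    rw [h2] at h1
    exact h1
  have hsolvQ : Cfsg.IsPSolvable p (X ⧸ A) :=
    Cfsg.Agent.Lib.Helper7.isPSolvable_quotient hsolv A
  set Pq : Sylow p (X ⧸ A) := P.mapSurjective (QuotientGroup.mk'_surjective A) with hPq
  obtain ⟨-, hcomm⟩ := (Cfsg.Agent.S4713.result p hsolvQ Pq).2 hdeg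
  intro x hx y hy
  have hxq : QuotientGroup.mk' A x ∈ (Pq : Subgroup (X ⧸ A)) := Subgroup.mem_map_of_mem _ hx
  have hyq : QuotientGroup.mk' A y ∈ (Pq : Subgroup (X ⧸ A)) := Subgroup.mem_map_of_mem _ hy
  have h3 := congrArg Subtype.val (hcomm.is_comm.comm
    (⟨_, hxq⟩ : (Pq : Subgroup (X ⧸ A))) ⟨_, hyq⟩)
  have h4 : (QuotientGroup.mk' A x) * (QuotientGroup.mk' A y) =
      (QuotientGroup.mk' A y) * (QuotientGroup.mk' A x) := h3
  rw [← QuotientGroup.eq_one_iff]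
  have h5 : ((x * y * x⁻¹ * y⁻¹ : X) : X ⧸ A) =
      (QuotientGroup.mk' A x) * (QuotientGroup.mk' A y) * (QuotientGroup.mk' A x)⁻¹ *
        (QuotientGroup.mk' A y)⁻¹ := by
    simp
  rw [h5, h4]
  group

end Inv

end Cfsg.Agent.Lib.Helper4.PS
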