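import Mathlib
import Cfsg.Agent.Lib.Helper4.PS5
import Cfsg.Agent.Lib.Helper4.PS6
import Cfsg.Agent.Lib.Helper7.PLen1

set_option autoImplicit false

/-! A normal `p`-subgroup all characters over which have degree prime to `p`, with a linear
character of a Sylow subgroup nontrivial on it: the Sylow subgroup is abelian modulo it. -/

namespace Cfsg.Agent.Lib.Helper4.PS

open Cfsg Cfsg.Agent.Lib.Helper1 Cfsg.Agent.Lib.Helper4 Cfsg.Agent.Lib.Helper4.TD
open scoped ComplexConjugate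

universe u

section Case3

variable {G : Type u} [Group G] [Finite G]

theorem commutator_mem_of_case3 (p : ℕ) [hp : Fact p.Prime] (hsolv : Cfsg.IsPSolvable p G)
    (A : Subgroup G) [hA : A.Normal] (hAp : IsPGroup p A) (P : Sylow p G)
    (hAP : A ≤ (P : Subgroup G)) (μ : (P : Subgroup G) →* ℂˣ)
    (hμ : ∃ (a : G) (ha : a ∈ A), μ ⟨a, hAP ha⟩ ≠ 1)
    (H3 : ∀ χ : G → ℂ, Cfsg.IsIrrCharacter G χ → (∃ a ∈ A, χ a ≠ χ 1) →
      ¬ p ∣ Cfsg.charDegree χ) :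
    ∀ x ∈ (P : Subgroup G), ∀ y ∈ (P : Subgroup G), x * y * x⁻¹ * y⁻¹ ∈ A := by
  classical
  haveI : Fintype G := Fintype.ofFinite G
  haveI : Fintype A := Fintype.ofFinite A
  set lam : A →* ℂˣ := μ.comp (Subgroup.inclusion hAP) with hlamdef
  have hlam_apply : ∀ a : A, lam a = μ ⟨(a : G), hAP a.2⟩ := fun a => rfl
  have hlam : ∃ a : A, lam a ≠ 1 := by
    obtain ⟨a, ha, hne⟩ := hμ
    exact ⟨⟨a, ha⟩, hne⟩
  set θ : A → ℂ := fun a => ((lam a : ℂˣ) : ℂ) with hθdef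
  have hθ : Cfsg.IsIrrCharacter A θ := isIrrCharacter_of_hom lam
  set T : Subgroup G := inertia A θ with hTdef
  haveI : Fintype T := Fintype.ofFinite T
  have hAT : A ≤ T := le_inertia A (isClassFunction_of_isCharacter (isCharacter_of_irr hθ))
  have hPT : (P : Subgroup G) ≤ T := by
    intro x hx
    rw [hTdef, mem_inertia]
    funext a
    show θ ⟨x * a * x⁻¹, _⟩ = θ a
    rw [hθdef]
    simp only
    rw [hlam_apply, hlam_apply]
    have h1 : (⟨x * (a : G) * x⁻¹, hAP (hA.conj_mem a a.2 x)⟩ : (P : Subgroup G)) =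
        ⟨x, hx⟩ * ⟨(a : G), hAP a.2⟩ * ⟨x, hx⟩⁻¹ := rfl
    rw [h1, map_mul, map_mul, map_inv, mul_comm, ← mul_assoc, inv_mul_cancel, one_mul]
  -- the situation inside T
  have hsolvT : Cfsg.IsPSolvable p T := Cfsg.Agent.Lib.Helper7.PLen.isPSolvable_subgroup' hsolv T
  set AT : Subgroup T := A.subgroupOf T with hATdef
  have hATn : AT.Normal := Subgroup.Normal.subgroupOf hA T
  have hATp : IsPGroup p AT := hAp.comap_subtype
  let PT : Sylow p T := P.subtype hPT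
  have hPTcoe : (PT : Subgroup T) = (P : Subgroup G).subgroupOf T := rfl
  have hAPT : AT ≤ (PT : Subgroup T) := by
    intro a ha
    rw [hPTcoe, Subgroup.mem_subgroupOf]
    exact hAP (Subgroup.mem_subgroupOf.1 ha)
  let e : ((PT : Subgroup T)) →* (P : Subgroup G) :=
    { toFun := fun x => ⟨((x : T) : G), Subgroup.mem_subgroupOf.1
        (show (x : T) ∈ (P : Subgroup G).subgroupOf T from x.2)⟩
      map_one' := rfl
      map_mul' := fun _ _ => rfl }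
  set μT : (PT : Subgroup T) →* ℂˣ := μ.comp e with hμTdef
  have hμT_apply : ∀ (a : T) (ha : a ∈ AT), μT ⟨a, hAPT ha⟩ =
      lam ⟨(a : G), Subgroup.mem_subgroupOf.1 ha⟩ := fun a ha => rfl
  have hinvT : ∀ (t : T) (a : T) (ha : a ∈ AT),
      μT ⟨t⁻¹ * a * t, hAPT (by simpa using hATn.conj_mem a ha t⁻¹)⟩ = μT ⟨a, hAPT ha⟩ := by
    intro t a ha
    have ht : ((t⁻¹ : T) : G) ∈ inertia A θ := (t⁻¹).2
    rw [mem_inertia] at ht
    have h1 := congrFun ht ⟨(a : G), Subgroup.mem_subgroupOf.1 ha⟩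
    have h2 : ((μ ⟨((t⁻¹ : T) : G) * (a : G) * ((t⁻¹ : T) : G)⁻¹,
        hAP (hA.conj_mem _ (Subgroup.mem_subgroupOf.1 ha) _)⟩ : ℂˣ) : ℂ) =
        ((μ ⟨(a : G), hAP (Subgroup.mem_subgroupOf.1 ha)⟩ : ℂˣ) : ℂ) := h1
    have h3 := Units.ext h2
    have h4 : (⟨((t⁻¹ : T) : G) * (a : G) * ((t⁻¹ : T) : G)⁻¹,
        hAP (hA.conj_mem _ (Subgroup.mem_subgroupOf.1 ha) _)⟩ : (P : Subgroup G)) =
        e ⟨t⁻¹ * a * t, hAPT (by simpa using hATn.conj_mem a ha t⁻¹)⟩ := by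
      apply Subtype.ext
      simp [e]
    show μ (e ⟨t⁻¹ * a * t, _⟩) = μ (e ⟨a, _⟩)
    rw [← h4]
    exact h3
  have H3T : ∀ ψ : T → ℂ, Cfsg.IsIrrCharacter T ψ →
      (∀ (a : T) (ha : a ∈ AT), ψ a = ψ 1 * ((μT ⟨a, hAPT ha⟩ : ℂˣ) : ℂ)) →
      ¬ p ∣ Cfsg.charDegree ψ := by
    intro ψ hψ hover
    apply not_dvd_of_over p A lam hlam H3 T hTdef hAT ψ hψ
    intro a
    have h1 := hover ⟨(a : G), hAT a.2⟩ (Subgroup.mem_subgroupOf.2 a.2)
    rw [h1, hμT_apply _ (Subgroup.mem_subgroupOf.2 a.2)]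
  have hres := commutator_mem_of_invariant p hsolvT AT hATp PT hAPT μT hinvT H3T
  intro x hx y hy
  have hxT : (⟨x, hPT hx⟩ : T) ∈ (PT : Subgroup T) := by
    rw [hPTcoe, Subgroup.mem_subgroupOf]
    exact hx
  have hyT : (⟨y, hPT hy⟩ : T) ∈ (PT : Subgroup T) := by
    rw [hPTcoe, Subgroup.mem_subgroupOf]
    exact hy
  have := hres _ hxT _ hyT
  rw [hATdef, Subgroup.mem_subgroupOf] at this
  exact this

end Case3

end Cfsg.Agent.Lib.Helper4.PS
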