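import Mathlib
import Cfsg.Agent.Lib.Helper4.PS4
import Cfsg.Agent.Lib.Helper2.CliffordDeg
import Cfsg.Agent.Lib.Helper8.GP2

set_option autoImplicit false

/-! Existence of a linear character of a Sylow subgroup, nontrivial on a given abelian normal
`p`-subgroup, when all characters not containing it in their kernel have degree prime to `p`. -/

namespace Cfsg.Agent.Lib.Helper4.PS

open Cfsg Cfsg.Agent.Lib.Helper1 Cfsg.Agent.Lib.Helper4 Cfsg.Agent.Lib.Helper4.TD
open scoped ComplexConjugate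

universe u

section Ex

variable {G : Type u} [Group G] [Finite G]

theorem exists_linear_nontrivial (p : ℕ) [hp : Fact p.Prime]
    (A : Subgroup G) [hA : A.Normal] (hAab : ∀ a ∈ A, ∀ b ∈ A, a * b = b * a) (hA1 : A ≠ ⊥)
    (P : Sylow p G) (hAP : A ≤ (P : Subgroup G))
    (H3 : ∀ χ : G → ℂ, Cfsg.IsIrrCharacter G χ → (∃ a ∈ A, χ a ≠ χ 1) →
      ¬ p ∣ Cfsg.charDegree χ) :
    ∃ μ : (P : Subgroup G) →* ℂˣ, ∃ (a : G) (ha : a ∈ A), μ ⟨a, hAP ha⟩ ≠ 1 := by
  classical
  haveI : Fintype G := Fintype.ofFinite G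
  haveI : Fintype A := Fintype.ofFinite A
  haveI : Fintype (P : Subgroup G) := Fintype.ofFinite _
  -- a nontrivial linear character of A
  let instA : CommGroup A :=
    { (inferInstance : Group A) with
      mul_comm := fun a b => Subtype.ext (hAab a a.2 b b.2) }
  obtain ⟨a₀, ha₀1⟩ := (Subgroup.ne_bot_iff_exists_ne_one).1 hA1
  have hne : NeZero (Monoid.exponent A) := ⟨Monoid.exponent_ne_zero_of_finite⟩
  obtain ⟨lam0, hlam0⟩ := CommGroup.exists_apply_ne_one_of_hasEnoughRootsOfUnity A ℂ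
    (a := a₀) ha₀1
  set θ₀ : A → ℂ := fun a => ((lam0 a : ℂˣ) : ℂ) with hθ₀def
  have hθ₀ : Cfsg.IsIrrCharacter A θ₀ := isIrrCharacter_of_hom lam0
  set one : A → ℂ := fun a => (((1 : A →* ℂˣ) a : ℂˣ) : ℂ) with honedef
  have hone : Cfsg.IsIrrCharacter A one := isIrrCharacter_of_hom (1 : A →* ℂˣ)
  have hone_apply : ∀ a : A, one a = 1 := fun a => rfl
  have hθ₀ne : θ₀ ≠ one := by
    intro h
    apply hlam0
    have := congrFun h a₀
    rw [hone_apply] at this
    exact Units.ext this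
  obtain ⟨χ, hχ, hcon⟩ := Cfsg.Agent.Lib.Helper2.CliffordDeg.exists_irr_over A hθ₀
  -- χ is nontrivial on A
  have hχA : ∃ a ∈ A, χ a ≠ χ 1 := by
    by_contra hc
    push Not at hc
    apply hcon
    have h1 : (fun n : A => χ n) = χ 1 • one := by
      funext n
      rw [Pi.smul_apply, smul_eq_mul, hone_apply, mul_one]
      exact hc n n.2
    rw [h1, classInner_smul_left, classInner_irr_ne hone hθ₀ (Ne.symm hθ₀ne), mul_zero]
  have hpd := H3 χ hχ hχA
  obtain ⟨hd, -⟩ := Cfsg.Agent.Lib.Helper8.irr_apply_one_eq_charDegree hχ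
  obtain ⟨μ, m, hm, hin⟩ := exists_linear_constituent p (P : Subgroup G) P.2
    (isCharacter_of_irr hχ) _ hd hpd
  refine ⟨μ, ?_⟩
  by_contra hcon2
  push Not at hcon2
  -- then the trivial character of A is a constituent of χ restricted to A
  set μc : ↥(P : Subgroup G) → ℂ := fun x => ((μ x : ℂˣ) : ℂ) with hμc
  have hμirr : Cfsg.IsIrrCharacter (P : Subgroup G) μc := isIrrCharacter_of_hom μ
  have hresP : Cfsg.IsCharacter (P : Subgroup G) (fun x : (P : Subgroup G) => χ x) :=
    Cfsg.Agent.S0148.isCharacter_restrict _ (isCharacter_of_irr hχ)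
  have hσ := isCharacter_sub_irr hresP hμirr hm hin
  -- restrict σ to A (as a subgroup of P)
  set AP : Subgroup (P : Subgroup G) := A.subgroupOf (P : Subgroup G) with hAPdef
  have hσA : Cfsg.IsCharacter AP (fun x : AP => ((fun x : (P : Subgroup G) => χ x) - μc) x) :=
    Cfsg.Agent.S0148.isCharacter_restrict AP hσ
  let e : A ≃* AP := (Subgroup.subgroupOfEquivOfLe hAP).symm
  have hσA' : Cfsg.IsCharacter A
      (fun a : A => ((fun x : (P : Subgroup G) => χ x) - μc) ((e a : AP) : (P : Subgroup G))) :=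
    isCharacter_comp_hom hσA e.toMonoidHom
  have heq : (fun n : A => χ n) = one + (fun a : A =>
      ((fun x : (P : Subgroup G) => χ x) - μc) ((e a : AP) : (P : Subgroup G))) := by
    funext a
    have hea : (((e a : AP) : (P : Subgroup G)) : G) = (a : G) := rfl
    rw [Pi.add_apply, hone_apply]
    show χ a = 1 + (χ (((e a : AP) : (P : Subgroup G)) : G) - μc ((e a : AP) : (P : Subgroup G)))
    have h2 : μc ((e a : AP) : (P : Subgroup G)) = 1 := by
      rw [hμc]
      have := hcon2 (a : G) a.2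
      have h3 : ((e a : AP) : (P : Subgroup G)) = ⟨(a : G), hAP a.2⟩ := Subtype.ext hea
      simp only
      rw [h3, this, Units.val_one]
    rw [h2, hea]
    ring
  obtain ⟨k, hk⟩ := classInner_char_irr_nat hσA' hone
  have hin1 : Cfsg.classInner (fun n : A => χ n) one ≠ 0 := by
    rw [heq, classInner_add_left, classInner_irr_self hone, hk]
    have : ((1 : ℂ) + (k : ℂ)) = ((1 + k : ℕ) : ℂ) := by push_cast; ring
    rw [this]
    exact_mod_cast (by omega : 1 + k ≠ 0)
  obtain ⟨F, -, -, hFconj, -, hFmem⟩ := Cfsg.Agent.Lib.Helper8.clifford_set A hχ hone hin1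
  have hθ₀F : θ₀ ∈ F := (hFmem θ₀ hθ₀).1 hcon
  obtain ⟨g, hg⟩ := hFconj θ₀ hθ₀F
  apply hθ₀ne
  rw [hg]
  funext a
  rfl

end Ex

end Cfsg.Agent.Lib.Helper4.PS
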