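import Mathlib
import Cfsg.Agent.Lib.Helper4.PS1
import Cfsg.Agent.Lib.Helper4.PS2
import Cfsg.Agent.Lib.Helper4.PS7
import Cfsg.Agent.Lib.Helper4.PS8
import Cfsg.Agent.Lib.Helper7.PSolvable
import Cfsg.Agent.S4713

set_option autoImplicit false

/-! The derived length of a Sylow `p`-subgroup of a `p`-solvable group is at most one more than
the number of `p`-singular irreducible characters. -/

namespace Cfsg.Agent.Lib.Helper4.PS

open Cfsg Cfsg.Agent.Lib.Helper1 Cfsg.Agent.Lib.Helper4

universe u

theorem dser_sylow_eq_bot (p : ℕ) [hp : Fact p.Prime] :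
    ∀ m : ℕ, ∀ (G : Type u) [Group G] [Finite G], Nat.card G = m → Cfsg.IsPSolvable p G →
      ∀ P : Sylow p G, dser (P : Subgroup G) (nSing p G + 1) = ⊥ := by
  intro m
  induction m using Nat.strong_induction_on with
  | _ m IH =>
  intro G _ _ hcard hsolv P
  classical
  -- case nSing = 0
  by_cases h0 : nSing p G = 0
  · rw [h0]
    have hempty : IsEmpty {χ : Cfsg.IrrCharacter G // p ∣ Cfsg.charDegree (χ : G → ℂ)} := by
      haveI : Finite (Cfsg.IrrCharacter G) := inferInstance
      unfold nSing at h0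
      rcases Nat.card_eq_zero.1 h0 with h | h
      · exact h
      · exact absurd (inferInstance : Finite _) (not_finite_iff_infinite.2 h)
    have hall : ∀ χ : Cfsg.IrrCharacter G, ¬ p ∣ Cfsg.charDegree (χ : G → ℂ) := by
      intro χ hdvd
      exact hempty.false ⟨χ, hdvd⟩
    obtain ⟨_, hcomm⟩ := (Cfsg.Agent.S4713.result p hsolv P).2 hall
    apply dser_one_eq_bot_of_comm
    intro a ha b hb
    exact congrArg Subtype.val (hcomm.is_comm.comm (⟨a, ha⟩ : (P : Subgroup G)) ⟨b, hb⟩)
  have hn1 : 1 ≤ nSing p G := Nat.one_le_iff_ne_zero.2 h0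
  -- G nontrivial
  by_cases hsub : Subsingleton G
  · apply (Subgroup.eq_bot_iff_forall _).2
    intro x _
    exact Subsingleton.elim x 1
  haveI : Nontrivial G := not_subsingleton_iff_nontrivial.1 hsub
  obtain ⟨N, hNn, hN1, hNcase⟩ := Cfsg.Agent.Lib.Helper7.exists_normal_of_isPSolvable hsolv
  haveI := hNn
  have hNcard : 1 < Nat.card N := by
    rcases Nat.lt_or_ge 1 (Nat.card N) with h | h
    · exact h
    · exfalso
      apply hN1
      have h1 : Nat.card N = 1 := le_antisymm h Nat.card_pos
      exact Subgroup.card_eq_one.1 h1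
  -- general: quotient is smaller
  have hquot_lt : ∀ (K : Subgroup G) [K.Normal], 1 < Nat.card K → Nat.card (G ⧸ K) < m := by
    intro K _ hK
    have h1 := Subgroup.card_eq_card_quotient_mul_card_subgroup K
    rw [hcard] at h1
    have hpos : 0 < Nat.card (G ⧸ K) := Nat.card_pos
    rw [h1]
    nlinarith
  -- IH applied to a quotient: dser P (nSing (G/K) + 1) ≤ K
  have hIHq : ∀ (K : Subgroup G) [K.Normal], 1 < Nat.card K →
      dser (P : Subgroup G) (nSing p (G ⧸ K) + 1) ≤ K := by
    intro K _ hK
    have hsq := Cfsg.Agent.Lib.Helper7.isPSolvable_quotient hsolv K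
    have h1 := IH (Nat.card (G ⧸ K)) (hquot_lt K hK) (G ⧸ K) rfl hsq
      (P.mapSurjective (QuotientGroup.mk'_surjective K))
    apply dser_le_of_map_eq_bot K
    exact h1
  rcases hNcase with ⟨k, hk⟩ | hcop
  · -- p-group case
    have hNp : IsPGroup p N := IsPGroup.of_card hk
    set A : Subgroup G := (Subgroup.center N).map N.subtype with hAdef
    haveI hAn : A.Normal := by
      rw [hAdef]
      infer_instance
    have hAab : ∀ a ∈ A, ∀ b ∈ A, a * b = b * a := by
      rintro a ⟨a', ha', rfl⟩ b ⟨b', hb', rfl⟩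
      have := Subgroup.mem_center_iff.1 ha' b'
      have h2 := congrArg (N.subtype) this
      simp only [map_mul] at h2
      exact h2.symm
    have hA1 : A ≠ ⊥ := by
      haveI : Nontrivial N := by
        rw [← Finite.one_lt_card_iff_nontrivial]
        exact hNcard
      haveI := hNp.center_nontrivial
      obtain ⟨z, hz⟩ := exists_ne (1 : Subgroup.center N)
      intro hbot
      apply hz
      have hz' : N.subtype (z : N) ∈ A := ⟨z, z.2, rfl⟩
      rw [hbot, Subgroup.mem_bot] at hz'
      apply Subtype.ext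
      apply Subtype.ext
      exact hz'
    have hAN : A ≤ N := by
      rintro a ⟨a', _, rfl⟩
      exact a'.2
    have hAp : IsPGroup p A := hNp.to_le hAN
    have hAP : A ≤ (P : Subgroup G) := hAp.le_sylow_of_normal P
    have hAcard : 1 < Nat.card A := by
      rcases Nat.lt_or_ge 1 (Nat.card A) with h | h
      · exact h
      · exfalso
        apply hA1
        have h1 : Nat.card A = 1 := le_antisymm h Nat.card_pos
        exact Subgroup.card_eq_one.1 h1
    by_cases hex : ∃ χ : G → ℂ, Cfsg.IsIrrCharacter G χ ∧ (∃ a ∈ A, χ a ≠ χ 1) ∧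
        p ∣ Cfsg.charDegree χ
    · obtain ⟨χ, hχ, hχA, hχp⟩ := hex
      have hlt := nSing_quotient_lt p A χ hχ hχp hχA
      have h1 := hIHq A hAcard
      -- dser P (nSing (G/A) + 2) = ⊥
      have h2 : dser (P : Subgroup G) (nSing p (G ⧸ A) + 1 + 1) = ⊥ := by
        rw [dser_add]
        apply le_bot_iff.1
        calc dser (dser (P : Subgroup G) (nSing p (G ⧸ A) + 1)) 1 ≤ dser A 1 := dser_mono h1 1
          _ = ⊥ := dser_one_eq_bot_of_comm A hAab
      apply le_bot_iff.1
      rw [← h2]
      apply dser_antitone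
      omega
    · -- all characters nontrivial on A have p'-degree
      have H3 : ∀ χ : G → ℂ, Cfsg.IsIrrCharacter G χ → (∃ a ∈ A, χ a ≠ χ 1) →
          ¬ p ∣ Cfsg.charDegree χ := by
        intro χ hχ hχA hdvd
        exact hex ⟨χ, hχ, hχA, hdvd⟩
      obtain ⟨μ, hμ⟩ := exists_linear_nontrivial p A hAab hA1 P hAP H3
      have hcomm := commutator_mem_of_case3 p hsolv A hAp P hAP μ hμ H3
      have h1 : dser (P : Subgroup G) 1 ≤ A := dser_one_le_of_commutators _ A hcomm
      have h2 : dser (P : Subgroup G) (1 + 1) = ⊥ := by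
        rw [dser_add]
        apply le_bot_iff.1
        calc dser (dser (P : Subgroup G) 1) 1 ≤ dser A 1 := dser_mono h1 1
          _ = ⊥ := dser_one_eq_bot_of_comm A hAab
      apply le_bot_iff.1
      rw [← h2]
      apply dser_antitone
      omega
  · -- p'-group case
    have h1 := hIHq N hNcard
    have hdis : N ⊓ (P : Subgroup G) = ⊥ := by
      apply Subgroup.inf_eq_bot_of_coprime
      obtain ⟨e, he⟩ := IsPGroup.iff_card.1 P.isPGroup'
      rw [he]
      exact Nat.Coprime.pow_right e hcop
    have h2 : dser (P : Subgroup G) (nSing p (G ⧸ N) + 1) = ⊥ := by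
      apply le_bot_iff.1
      rw [← hdis]
      exact le_inf h1 (dser_le _ _)
    apply le_bot_iff.1
    rw [← h2]
    apply dser_antitone
    have := nSing_quotient_le p N
    omega

end Cfsg.Agent.Lib.Helper4.PS
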