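import Mathlib

/-! Trace of `g A g⁻¹ B` for `g = 1 + u φᵀ` (for S2272). -/

namespace Cfsg.Agent.Lib.Helper4.PSLProd

open Matrix

variable {n : Type*} [Fintype n] [DecidableEq n] {R : Type*} [CommRing R]

theorem trace_vecMulVec_mul (u φ : n → R) (Y : Matrix n n R) :
    trace (vecMulVec u φ * Y) = φ ⬝ᵥ (Y *ᵥ u) := by
  rw [vecMulVec_mul, trace_vecMulVec, dotProduct_mulVec, dotProduct_comm]

theorem one_add_mul_one_sub (u φ : n → R) (h : φ ⬝ᵥ u = 0) :
    (1 + vecMulVec u φ) * (1 - vecMulVec u φ) = 1 := by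
  have : vecMulVec u φ * vecMulVec u φ = 0 := by
    rw [vecMulVec_mul_vecMulVec, h, zero_smul]
    ext i j
    simp [vecMulVec_apply]
  rw [add_mul, mul_sub, mul_sub, this]
  simp

theorem det_one_add_vecMulVec' (u φ : n → R) (h : φ ⬝ᵥ u = 0) :
    det (1 + vecMulVec u φ) = 1 := by
  rw [vecMulVec_eq Unit, det_one_add_replicateCol_mul_replicateRow, h, add_zero]

/-- the trace formula. -/
theorem trace_conj_mul (u φ : n → R) (h : φ ⬝ᵥ u = 0) (M B : Matrix n n R) :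
    trace ((1 + vecMulVec u φ) * M * (1 - vecMulVec u φ) * B) =
      trace (M * B) + φ ⬝ᵥ ((M * B - B * M) *ᵥ u) - (φ ⬝ᵥ (M *ᵥ u)) * (φ ⬝ᵥ (B *ᵥ u)) := by
  have e1 : (1 + vecMulVec u φ) * M * (1 - vecMulVec u φ) * B =
      M * B + vecMulVec u φ * (M * B) - M * (vecMulVec u φ * B)
        - vecMulVec u φ * M * vecMulVec u φ * B := by
    noncomm_ring
  have e2 : trace (M * (vecMulVec u φ * B)) = φ ⬝ᵥ ((B * M) *ᵥ u) := by
    rw [trace_mul_comm, Matrix.mul_assoc, trace_vecMulVec_mul]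
  have e3 : vecMulVec u φ * M * vecMulVec u φ * B =
      (φ ⬝ᵥ (M *ᵥ u)) • (vecMulVec u φ * B) := by
    rw [vecMulVec_mul, vecMulVec_mul_vecMulVec, ← dotProduct_mulVec]
    ext i j
    simp [Matrix.mul_apply, vecMulVec_apply, Finset.mul_sum, mul_assoc, mul_left_comm]
  rw [e1, trace_sub, trace_sub, trace_add, trace_vecMulVec_mul, e2, e3, trace_smul,
    trace_vecMulVec_mul, sub_mulVec, dotProduct_sub, smul_eq_mul]
  ring

end Cfsg.Agent.Lib.Helper4.PSLProd
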