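import Cfsg.Agent.Lib.Helper4.PSLProd1

/-! For non-central `A, B ∈ SL_d(F)`, `d ≥ 3`, `tr (g A g⁻¹ B)` takes every value (for S2272). -/

namespace Cfsg.Agent.Lib.Helper4.PSLProd

open Matrix

variable {n : Type*} [Fintype n] [DecidableEq n] {F : Type*} [Field F]

theorem two_single_dotProduct (i1 i2 : n) (x y : F) (v : n → F) :
    (x • (Pi.single i1 (1 : F) : n → F) + y • (Pi.single i2 (1 : F) : n → F)) ⬝ᵥ v
      = x * v i1 + y * v i2 := by
  rw [add_dotProduct, smul_dotProduct, smul_dotProduct, single_dotProduct, single_dotProduct]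
  simp

/-- the transvection-like element `1 + u φᵀ` of `SL`. -/
noncomputable def tv (u φ : n → F) (h : φ ⬝ᵥ u = 0) : Matrix.SpecialLinearGroup n F :=
  ⟨1 + vecMulVec u φ, det_one_add_vecMulVec' u φ h⟩

theorem tv_coe (u φ : n → F) (h : φ ⬝ᵥ u = 0) :
    ((tv u φ h : Matrix.SpecialLinearGroup n F) : Matrix n n F) = 1 + vecMulVec u φ := rfl

theorem tv_inv_coe (u φ : n → F) (h : φ ⬝ᵥ u = 0) :
    (((tv u φ h)⁻¹ : Matrix.SpecialLinearGroup n F) : Matrix n n F) = 1 - vecMulVec u φ := by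
  have h1 : ((tv u φ h : Matrix.SpecialLinearGroup n F) : Matrix n n F) * (1 - vecMulVec u φ) = 1 :=
    one_add_mul_one_sub u φ h
  have h2 : (((tv u φ h)⁻¹ : Matrix.SpecialLinearGroup n F) : Matrix n n F) *
      ((tv u φ h : Matrix.SpecialLinearGroup n F) : Matrix n n F) = 1 := by
    rw [← Matrix.SpecialLinearGroup.coe_mul, inv_mul_cancel, Matrix.SpecialLinearGroup.coe_one]
  calc (((tv u φ h)⁻¹ : Matrix.SpecialLinearGroup n F) : Matrix n n F)
      = (((tv u φ h)⁻¹ : Matrix.SpecialLinearGroup n F) : Matrix n n F) *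
          (((tv u φ h : Matrix.SpecialLinearGroup n F) : Matrix n n F) * (1 - vecMulVec u φ)) := by
        rw [h1, Matrix.mul_one]
    _ = 1 - vecMulVec u φ := by rw [← Matrix.mul_assoc, h2, Matrix.one_mul]

/-- normalised situation: `A e₀ = c e₂`, `B e₀ = c' e₁`. -/
theorem exists_trace_eq_of_normal (A B : Matrix.SpecialLinearGroup n F) (i0 i1 i2 : n)
    (h01 : i0 ≠ i1) (h02 : i0 ≠ i2) (h12 : i1 ≠ i2) (c c' : F) (hc : c ≠ 0) (hc' : c' ≠ 0)
    (hA : (A : Matrix n n F) *ᵥ Pi.single i0 1 = c • Pi.single i2 1)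
    (hB : (B : Matrix n n F) *ᵥ Pi.single i0 1 = c' • Pi.single i1 1) (t : F) :
    ∃ g : Matrix.SpecialLinearGroup n F, trace ((g * A * g⁻¹ * B : Matrix.SpecialLinearGroup n F) :
      Matrix n n F) = t := by
  set u : n → F := Pi.single i0 1 with hu
  set w : n → F := ((A : Matrix n n F) * (B : Matrix n n F) -
    (B : Matrix n n F) * (A : Matrix n n F)) *ᵥ u with hw
  set t₀ : F := trace ((A : Matrix n n F) * (B : Matrix n n F)) with ht₀
  set y : F := (w i1 - 1) / (c * c') with hy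
  set x : F := t - t₀ - y * w i2 with hx
  set φ : n → F := x • (Pi.single i1 (1 : F) : n → F) + y • (Pi.single i2 (1 : F) : n → F)
    with hφ
  have hφu : φ ⬝ᵥ u = 0 := by
    rw [hφ, two_single_dotProduct, hu]
    simp [Pi.single_apply, h01, h02]
  refine ⟨tv u φ hφu, ?_⟩
  have hcoe : ((tv u φ hφu * A * (tv u φ hφu)⁻¹ * B : Matrix.SpecialLinearGroup n F) : Matrix n n F) =
      (1 + vecMulVec u φ) * (A : Matrix n n F) * (1 - vecMulVec u φ) * (B : Matrix n n F) := by
    rw [Matrix.SpecialLinearGroup.coe_mul, Matrix.SpecialLinearGroup.coe_mul, Matrix.SpecialLinearGroup.coe_mul,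
      tv_inv_coe, tv_coe]
  rw [hcoe, trace_conj_mul u φ hφu, hA, hB, ← hw, ← ht₀, hφ, two_single_dotProduct,
    two_single_dotProduct, two_single_dotProduct]
  have hcc : c * c' ≠ 0 := mul_ne_zero hc hc'
  simp only [Pi.smul_apply, Pi.single_apply, smul_eq_mul, if_true, h12, h12.symm, if_false,
    mul_zero, mul_one, zero_add, add_zero]
  rw [hx, hy]
  field_simp
  ring

end Cfsg.Agent.Lib.Helper4.PSLProd
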