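import Cfsg.Agent.Lib.Helper4.PSLProd2

/-! Normalisation via 2-transitivity on projective space, and the trace-value theorem
(for S2272). -/

namespace Cfsg.Agent.Lib.Helper4.PSLProd

open Matrix
open scoped LinearAlgebra.Projectivization

variable {n : Type*} [Fintype n] [DecidableEq n] {F : Type*} [Field F]

theorem single_ne_zero' (i : n) : (Pi.single i (1 : F) : n → F) ≠ 0 := by
  intro h
  have := congrFun h i
  simp at this

theorem mk_single_ne (i k : n) (h : i ≠ k) :
    Projectivization.mk F (Pi.single i (1 : F) : n → F) (single_ne_zero' i) ≠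
      Projectivization.mk F (Pi.single k (1 : F) : n → F) (single_ne_zero' k) := by
  intro he
  rw [Projectivization.mk_eq_mk_iff'] at he
  obtain ⟨a, ha⟩ := he
  have := congrFun ha i
  simp [Pi.single_apply, h, h.symm] at this

theorem exists_moved_point (A : Matrix.SpecialLinearGroup n F)
    (hA : A ∉ Subgroup.center (Matrix.SpecialLinearGroup n F)) :
    ∃ P : ℙ F (n → F), A • P ≠ P := by
  by_contra hcon
  push_neg at hcon
  apply hA
  rw [← Projectivization.SL_mulAction_ker, MonoidHom.mem_ker]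
  ext P
  exact hcon P

theorem exists_conj_normal (A : Matrix.SpecialLinearGroup n F)
    (hA : A ∉ Subgroup.center (Matrix.SpecialLinearGroup n F)) (i0 k : n) (h : i0 ≠ k) :
    ∃ (g : Matrix.SpecialLinearGroup n F) (c : F), c ≠ 0 ∧
      ((g * A * g⁻¹ : Matrix.SpecialLinearGroup n F) : Matrix n n F) *ᵥ Pi.single i0 1
        = c • Pi.single k 1 := by
  obtain ⟨P, hP⟩ := exists_moved_point A hA
  have h2 : MulAction.IsMultiplyPretransitive (Matrix.SpecialLinearGroup n F) (ℙ F (n → F)) 2 :=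
    inferInstance
  rw [MulAction.is_two_pretransitive_iff] at h2
  obtain ⟨g, hg1, hg2⟩ := h2 (Ne.symm hP) (mk_single_ne (F := F) i0 k h)
  have hmove : (g * A * g⁻¹) • Projectivization.mk F (Pi.single i0 (1 : F) : n → F)
      (single_ne_zero' i0) = Projectivization.mk F (Pi.single k (1 : F) : n → F)
      (single_ne_zero' k) := by
    rw [← hg1, mul_smul, mul_smul, inv_smul_smul, hg2]
  rw [Projectivization.smul_mk, Projectivization.mk_eq_mk_iff] at hmove
  obtain ⟨a, ha⟩ := hmove
  refine ⟨g, (a : F), a.ne_zero, ?_⟩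
  rw [← Matrix.smul_eq_mulVec, ← Matrix.SpecialLinearGroup.smul_def, ← ha]
  rfl


theorem trace_conj_SL (g X : Matrix.SpecialLinearGroup n F) :
    trace ((g⁻¹ * X * g : Matrix.SpecialLinearGroup n F) : Matrix n n F) =
      trace (X : Matrix n n F) := by
  rw [Matrix.SpecialLinearGroup.coe_mul, Matrix.SpecialLinearGroup.coe_mul, trace_mul_comm,
    ← Matrix.mul_assoc, ← Matrix.SpecialLinearGroup.coe_mul, mul_inv_cancel,
    Matrix.SpecialLinearGroup.coe_one, Matrix.one_mul]

/-- **Trace values**: for non-central `A, B ∈ SL_n(F)` (with at least three indices) the traces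
`tr (g A g⁻¹ B)` take every value of `F`. -/
theorem exists_trace_eq (A B : Matrix.SpecialLinearGroup n F)
    (hA : A ∉ Subgroup.center (Matrix.SpecialLinearGroup n F))
    (hB : B ∉ Subgroup.center (Matrix.SpecialLinearGroup n F))
    (i0 i1 i2 : n) (h01 : i0 ≠ i1) (h02 : i0 ≠ i2) (h12 : i1 ≠ i2) (t : F) :
    ∃ g : Matrix.SpecialLinearGroup n F,
      trace ((g * A * g⁻¹ * B : Matrix.SpecialLinearGroup n F) : Matrix n n F) = t := by
  obtain ⟨gA, c, hc, hcA⟩ := exists_conj_normal A hA i0 i2 h02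
  obtain ⟨gB, c', hc', hcB⟩ := exists_conj_normal B hB i0 i1 h01
  obtain ⟨k, hk⟩ := exists_trace_eq_of_normal (gA * A * gA⁻¹) (gB * B * gB⁻¹) i0 i1 i2 h01 h02 h12
    c c' hc hc' hcA hcB t
  refine ⟨gB⁻¹ * k * gA, ?_⟩
  have key : gB⁻¹ * k * gA * A * (gB⁻¹ * k * gA)⁻¹ * B =
      gB⁻¹ * (k * (gA * A * gA⁻¹) * k⁻¹ * (gB * B * gB⁻¹)) * gB := by
    group
  rw [key, trace_conj_SL, hk]

end Cfsg.Agent.Lib.Helper4.PSLProd
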