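import Cfsg.Agent.Lib.Helper4.PSLProd3

/-! Conjugacy in `PSL` and traces; the final statement for S2272. -/

namespace Cfsg.Agent.Lib.Helper4.PSLProd

open Matrix

variable {n : Type*} [Fintype n] [DecidableEq n] {F : Type*} [Field F]

/-- conjugate elements of `PSL` have lifts whose traces differ by a nonzero scalar. -/
theorem trace_of_isConj_mk [Nonempty n] (X Y : Matrix.SpecialLinearGroup n F)
    (h : IsConj (QuotientGroup.mk X : Matrix.ProjectiveSpecialLinearGroup n F)
      (QuotientGroup.mk Y)) :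
    ∃ r : F, r ≠ 0 ∧ trace (Y : Matrix n n F) = r * trace (X : Matrix n n F) := by
  rw [isConj_iff] at h
  obtain ⟨c, hc⟩ := h
  obtain ⟨k, rfl⟩ := QuotientGroup.mk_surjective c
  rw [← QuotientGroup.mk_inv, ← QuotientGroup.mk_mul, ← QuotientGroup.mk_mul,
    QuotientGroup.eq] at hc
  rw [Matrix.SpecialLinearGroup.mem_center_iff] at hc
  obtain ⟨r, hr1, hr2⟩ := hc
  have hr0 : r ≠ 0 := by
    intro h0
    rw [h0, zero_pow Fintype.card_ne_zero] at hr1
    exact zero_ne_one hr1
  refine ⟨r, hr0, ?_⟩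
  have hY : Y = (k * X * k⁻¹) * ((k * X * k⁻¹)⁻¹ * Y) := by group
  have hYc : (Y : Matrix n n F) =
      ((k * X * k⁻¹ : Matrix.SpecialLinearGroup n F) : Matrix n n F) * scalar n r := by
    conv_lhs => rw [hY]
    rw [Matrix.SpecialLinearGroup.coe_mul, hr2]
  have htr : trace ((k * X * k⁻¹ : Matrix.SpecialLinearGroup n F) : Matrix n n F) =
      trace (X : Matrix n n F) := by
    have := trace_conj_SL (k⁻¹) X
    rwa [inv_inv] at this
  rw [hYc, ← htr]
  rw [show (scalar n r : Matrix n n F) = r • (1 : Matrix n n F) from by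
    ext i j; simp [Matrix.one_apply, Matrix.diagonal_apply], Matrix.mul_smul, Matrix.mul_one,
    trace_smul, smul_eq_mul]

/-- **S2272 core**: in `PSL_n(F)` with `|n| ≥ 3`, the product of two non-trivial classes is not a
single class. -/
theorem psl_class_product (a b : Matrix.ProjectiveSpecialLinearGroup n F) (ha : a ≠ 1)
    (hb : b ≠ 1) (i0 i1 i2 : n) (h01 : i0 ≠ i1) (h02 : i0 ≠ i2) (h12 : i1 ≠ i2) :
    ∃ g h : Matrix.ProjectiveSpecialLinearGroup n F,
      ¬ IsConj (a * b) (g * a * g⁻¹ * (h * b * h⁻¹)) := by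
  haveI : Nonempty n := ⟨i0⟩
  obtain ⟨A, rfl⟩ := QuotientGroup.mk_surjective a
  obtain ⟨B, rfl⟩ := QuotientGroup.mk_surjective b
  have hA : A ∉ Subgroup.center (Matrix.SpecialLinearGroup n F) :=
    fun h => ha ((QuotientGroup.eq_one_iff A).mpr h)
  have hB : B ∉ Subgroup.center (Matrix.SpecialLinearGroup n F) :=
    fun h => hb ((QuotientGroup.eq_one_iff B).mpr h)
  obtain ⟨g0, h0⟩ := exists_trace_eq A B hA hB i0 i1 i2 h01 h02 h12 (0 : F)
  obtain ⟨g1, h1⟩ := exists_trace_eq A B hA hB i0 i1 i2 h01 h02 h12 (1 : F)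
  by_contra hcon
  push Not at hcon
  have c0 := hcon (QuotientGroup.mk g0) 1
  have c1 := hcon (QuotientGroup.mk g1) 1
  simp only [one_mul, inv_one, mul_one] at c0 c1
  rw [← QuotientGroup.mk_inv, ← QuotientGroup.mk_mul, ← QuotientGroup.mk_mul,
    ← QuotientGroup.mk_mul, ← QuotientGroup.mk_mul] at c0 c1
  obtain ⟨r0, hr0, e0⟩ := trace_of_isConj_mk _ _ c0
  obtain ⟨r1, hr1, e1⟩ := trace_of_isConj_mk _ _ c1
  rw [h0] at e0
  rw [h1] at e1
  have : trace ((A * B : Matrix.SpecialLinearGroup n F) : Matrix n n F) = 0 := by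
    rcases mul_eq_zero.mp e0.symm with h | h
    · exact absurd h hr0
    · exact h
  rw [this, mul_zero] at e1
  exact one_ne_zero e1

end Cfsg.Agent.Lib.Helper4.PSLProd
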