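import Mathlib
import Cfsg.Agent.Lib.Lead.PSingDefs
import Cfsg.Agent.Lib.Helper6.PSingQ1

/-!
# S4321, package Q2: `dich_of_hypE`

`v` a `p`-element with `p ∤ n(v) = b > 1` and hypothesis (E) relative to `v` give the
dichotomy `Dich G p`.  The proof passes to `H = C_G(v)` and applies `camina` (package Q1).
-/

set_option autoImplicit false
set_option linter.unusedSectionVars false

namespace Cfsg.Agent.Lib.Helper4.PSing

open Cfsg.Agent.Lib.Lead.PSing

universe u

variable {G : Type u} [Group G] [Finite G] {p : ℕ} [Fact p.Prime]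

/-- Class sizes are invariant under conjugation. -/
theorem q2_cs_conj (g w : G) : cs (g * w * g⁻¹) = cs w := by
  have h : Subgroup.centralizer ({g * w * g⁻¹} : Set G)
      = (Subgroup.centralizer ({w} : Set G)).map (MulAut.conj g).toMonoidHom := by
    ext x
    simp only [Subgroup.mem_centralizer_iff_commutator_eq_one, Subgroup.mem_map,
      MulEquiv.coe_toMonoidHom, MulAut.conj_apply, Set.mem_singleton_iff, forall_eq]
    constructor
    · intro hx
      refine ⟨g⁻¹ * x * g, ?_, by group⟩
      have e : w * (g⁻¹ * x * g) * w⁻¹ * (g⁻¹ * x * g)⁻¹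
          = g⁻¹ * (g * w * g⁻¹ * x * (g * w * g⁻¹)⁻¹ * x⁻¹) * g := by group
      rw [commutatorElement_def] at hx ⊢
      rw [e, hx]; group
    · rintro ⟨y, hy, rfl⟩
      have e : g * w * g⁻¹ * (g * y * g⁻¹) * (g * w * g⁻¹)⁻¹ * (g * y * g⁻¹)⁻¹
          = g * (w * y * w⁻¹ * y⁻¹) * g⁻¹ := by group
      rw [commutatorElement_def] at hy ⊢
      rw [e, hy]; group
  unfold cs
  rw [h]
  exact Subgroup.index_map_equiv _ (MulAut.conj g)

/-- `IsPEl` is invariant under conjugation. -/
theorem q2_isPEl_conj (g w : G) (hw : IsPEl p w) : IsPEl p (g * w * g⁻¹) := by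
  obtain ⟨k, hk⟩ := hw
  refine ⟨k, ?_⟩
  have : g * w * g⁻¹ = MulAut.conj g w := by simp [MulAut.conj_apply]
  rw [this, MulEquiv.orderOf_eq, hk]

/-- The centralizer of a product of commuting elements of coprime orders. -/
theorem q2_centralizer_mul (v y : G) (h : Commute v y)
    (hc : (orderOf v).Coprime (orderOf y)) :
    Subgroup.centralizer ({v * y} : Set G)
      = Subgroup.centralizer ({v} : Set G) ⊓ Subgroup.centralizer ({y} : Set G) := by
  apply le_antisymm
  · intro g hg
    rw [Subgroup.mem_centralizer_singleton_iff] at hg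
    have hcomm : Commute g (v * y) := hg
    have hpow : ∀ n : ℕ, Commute g ((v * y) ^ n) := fun n => hcomm.pow_right n
    -- `v` is a power of `v * y`
    have hv : ∃ n : ℕ, (v * y) ^ n = v := by
      obtain ⟨m, hm⟩ := exists_pow_eq_self_of_coprime (x := v) (n := orderOf y) hc.symm
      refine ⟨orderOf y * m, ?_⟩
      rw [pow_mul, h.mul_pow, pow_orderOf_eq_one, mul_one, hm]
    have hy : ∃ n : ℕ, (v * y) ^ n = y := by
      obtain ⟨m, hm⟩ := exists_pow_eq_self_of_coprime (x := y) (n := orderOf v) hc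
      refine ⟨orderOf v * m, ?_⟩
      rw [pow_mul, h.mul_pow, pow_orderOf_eq_one, one_mul, hm]
    obtain ⟨n1, hn1⟩ := hv
    obtain ⟨n2, hn2⟩ := hy
    refine Subgroup.mem_inf.mpr ⟨?_, ?_⟩
    · rw [Subgroup.mem_centralizer_singleton_iff]
      have := hpow n1
      rw [hn1] at this
      exact this.eq
    · rw [Subgroup.mem_centralizer_singleton_iff]
      have := hpow n2
      rw [hn2] at this
      exact this.eq
  · intro g hg
    obtain ⟨hg1, hg2⟩ := Subgroup.mem_inf.mp hg
    rw [Subgroup.mem_centralizer_singleton_iff] at hg1 hg2 ⊢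
    calc g * (v * y) = g * v * y := by group
      _ = v * g * y := by rw [hg1]
      _ = v * (g * y) := by group
      _ = v * (y * g) := by rw [hg2]
      _ = v * y * g := by group

/-- The class size inside a subgroup `H`, computed in `G`. -/
theorem q2_cs_subgroup (H : Subgroup G) (y : H) :
    cs y = (Subgroup.centralizer ({(y : G)} : Set G)).relIndex H := by
  have h : Subgroup.centralizer ({y} : Set H)
      = (Subgroup.centralizer ({(y : G)} : Set G)).subgroupOf H := by
    ext x
    simp only [Subgroup.mem_centralizer_singleton_iff, Subgroup.mem_subgroupOf, Subtype.ext_iff,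
      Subgroup.coe_mul]
  unfold cs
  rw [h]
  rfl

/-- `IsPEl` for an element of a subgroup. -/
theorem q2_isPEl_subgroup (H : Subgroup G) (y : H) : IsPEl p y ↔ IsPEl p (y : G) := by
  unfold IsPEl
  rw [Subgroup.orderOf_coe]

/-- Every `p`-element of `G` is conjugate into a subgroup of index prime to `p`. -/
theorem q2_exists_conj_mem (K : Subgroup G) (hK : ¬ p ∣ K.index) (w : G) (hw : IsPEl p w) :
    ∃ g : G, g * w * g⁻¹ ∈ K := by
  obtain ⟨Q, -, hQK⟩ := Cfsg.Agent.Lib.Helper6.PSing.exists_sylow_le K hK ⊥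
    (IsPGroup.of_bot) bot_le
  have hz : IsPGroup p (Subgroup.zpowers w) := by
    obtain ⟨k, hk⟩ := hw
    rw [IsPGroup.iff_card, Nat.card_zpowers, hk]
    exact ⟨k, rfl⟩
  obtain ⟨P', hP'⟩ := hz.exists_le_sylow
  obtain ⟨g, hg⟩ := MulAction.exists_smul_eq G P' Q
  refine ⟨g, hQK ?_⟩
  have hwP : w ∈ (P' : Subgroup G) := hP' (Subgroup.mem_zpowers w)
  have : g * w * g⁻¹ ∈ ((g • P' : Sylow p G) : Subgroup G) := by
    rw [Sylow.coe_subgroup_smul]
    have := Subgroup.smul_mem_pointwise_smul w (MulAut.conj g) (P' : Subgroup G) hwP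
    simpa [MulAut.smul_def, MulAut.conj_apply] using this
  rw [hg] at this
  exact this

/-- **Q2.**  `v` a `p`-element, `p ∤ n(v) = b > 1`, and (E) relative to `v` give `Dich G p`. -/
theorem dich_of_hypE (v : G) (hv : IsPEl p v) (hvp : ¬ p ∣ cs v) (hb : 1 < cs v)
    (hE : HypE G p v) : Dich G p := by
  have hp : p.Prime := Fact.out
  set H : Subgroup G := Subgroup.centralizer ({v} : Set G) with hH
  -- `p ∣ orderOf v`
  have hv1 : v ≠ 1 := by
    rintro rfl
    have : cs (1 : G) = 1 := by
      unfold cs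
      have : Subgroup.centralizer ({(1 : G)} : Set G) = ⊤ := by
        ext x; simp [Subgroup.mem_centralizer_singleton_iff]
      rw [this, Subgroup.index_top]
    omega
  have hpv : p ∣ orderOf v := by
    obtain ⟨k, hk⟩ := hv
    rcases Nat.eq_zero_or_pos k with rfl | hk0
    · rw [pow_zero, orderOf_eq_one_iff] at hk
      exact absurd hk hv1
    · rw [hk]; exact dvd_pow_self p hk0.ne'
  -- (1) `p'`-elements of `H` have class size (in `H`) prime to `p`
  have h1 : ∀ y : H, (orderOf y).Coprime p → ¬ p ∣ cs y := by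
    intro y hy hpy
    have hyG : (orderOf (y : G)).Coprime p := by rwa [Subgroup.orderOf_coe]
    have hcomm : Commute v (y : G) := by
      have h0 : (y : G) ∈ Subgroup.centralizer ({v} : Set G) := y.2
      rw [Subgroup.mem_centralizer_singleton_iff] at h0
      exact h0.symm
    have hcop : (orderOf v).Coprime (orderOf (y : G)) := by
      obtain ⟨k, hk⟩ := hv
      rw [hk]
      exact Nat.Coprime.pow_left k hyG.symm
    have hord : orderOf (v * (y : G)) = orderOf v * orderOf (y : G) :=
      hcomm.orderOf_mul_eq_mul_orderOf_of_coprime hcop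
    have hsing : p ∣ orderOf (v * (y : G)) := by
      rw [hord]; exact dvd_mul_of_dvd_left hpv _
    have hcent := q2_centralizer_mul v (y : G) hcomm hcop
    have hcs : cs (v * (y : G)) = cs y * cs v := by
      rw [q2_cs_subgroup H y]
      unfold cs
      rw [hcent, inf_comm, ← Subgroup.inf_relIndex_right, Subgroup.relIndex_mul_index inf_le_right]
    have hdiv : p ∣ cs (v * (y : G)) := by
      rw [hcs]; exact dvd_mul_of_dvd_left hpy _
    have hco := hE _ hsing hdiv
    have hbdiv : cs v ∣ cs (v * (y : G)) := by rw [hcs]; exact dvd_mul_left _ _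
    have : cs v = 1 := Nat.eq_one_of_dvd_coprimes hco hbdiv dvd_rfl
    omega
  -- (2) `camina` on `H`
  have h2 := Cfsg.Agent.Lib.Helper6.PSing.camina (H := H) (p := p) h1
  -- the dichotomy
  intro w hw hpw
  -- (3) conjugate `w` into `H`
  obtain ⟨g, hg⟩ := q2_exists_conj_mem H hvp w hw
  set w' : G := g * w * g⁻¹ with hw'
  have hcsw : cs w' = cs w := q2_cs_conj g w
  have hw'P : IsPEl p w' := q2_isPEl_conj g w hw
  have hpw' : p ∣ cs w' := by rw [hcsw]; exact hpw
  -- (4)
  have hw'1 : w' ≠ 1 := by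
    intro h1'
    have : cs w' = 1 := by
      rw [h1']
      unfold cs
      have : Subgroup.centralizer ({(1 : G)} : Set G) = ⊤ := by
        ext x; simp [Subgroup.mem_centralizer_singleton_iff]
      rw [this, Subgroup.index_top]
    rw [this] at hpw'
    exact hp.one_lt.ne' (Nat.dvd_one.mp hpw')
  have hpo : p ∣ orderOf w' := by
    obtain ⟨k, hk⟩ := hw'P
    rcases Nat.eq_zero_or_pos k with rfl | hk0
    · rw [pow_zero, orderOf_eq_one_iff] at hk
      exact absurd hk hw'1
    · rw [hk]; exact dvd_pow_self p hk0.ne'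
  have hco : Nat.Coprime (cs w') (cs v) := hE w' hpo hpw'
  obtain ⟨j, hj⟩ := h2 ⟨w', hg⟩ ((q2_isPEl_subgroup H ⟨w', hg⟩).mpr hw'P)
  rw [q2_cs_subgroup H ⟨w', hg⟩] at hj
  -- `cs w' ∣ relIndex`
  have hkey : (Subgroup.centralizer ({w'} : Set G)).relIndex H * H.index
      = H.relIndex (Subgroup.centralizer ({w'} : Set G))
        * (Subgroup.centralizer ({w'} : Set G)).index := by
    rw [← Subgroup.inf_relIndex_right, Subgroup.relIndex_mul_index inf_le_right,
      ← Subgroup.inf_relIndex_left, Subgroup.relIndex_mul_index inf_le_left]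
  have hdvd : cs w' ∣ (Subgroup.centralizer ({w'} : Set G)).relIndex H := by
    have h3 : cs w' ∣ (Subgroup.centralizer ({w'} : Set G)).relIndex H * cs v := by
      show (Subgroup.centralizer ({w'} : Set G)).index ∣ _
      rw [show cs v = H.index from rfl, hkey]
      exact dvd_mul_left _ _
    exact hco.dvd_of_dvd_mul_right h3
  simp only [Subgroup.coe_mk] at hj
  rw [hj] at hdvd
  obtain ⟨i, -, hi⟩ := (Nat.dvd_prime_pow hp).mp hdvd
  exact ⟨i, by rw [← hcsw, hi]⟩

end Cfsg.Agent.Lib.Helper4.PSing
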