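import Mathlib
import Cfsg.Agent.Lib.Helper4.PStab4
import Cfsg.Agent.Lib.Helper4.Sect6
import Cfsg.Agent.Lib.Lead.Qd6

set_option autoImplicit false
open scoped commutatorElement

/-! The K-infinity subgroups control strong fusion in every section of a group all of whose sections are `p`-stable. -/

namespace Cfsg.Agent.Lib.Helper4

open Cfsg Cfsg.Agent.Lib.Helper7

universe u v

theorem fchain_mem' {X : Type v} [Group X] {𝓥 : Set (Subgroup X → Subgroup X)} {H T M : Subgroup X}
    {A : Set X} {c : X} (h : FChain 𝓥 H T A c)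
    (hM : ∀ W' ∈ 𝓥, Subgroup.normalizer ((W' T : Subgroup X) : Set X) ≤ M) : c ∈ M := by
  induction h with
  | nil _ => exact M.one_mem
  | step c y _ h2 _ ih =>
    obtain ⟨W', hW', hy⟩ := h2
    exact M.mul_mem (hM W' hW' hy.2) ih

variable {G : Type u} [Group G] [Finite G] {p : ℕ} [hp : Fact p.Prime]

/-- a functor which is normal in all the `p`-constrained sections controls strong fusion in all sections -/
theorem csf_of_sections_normal (W : ∀ (Q : Type u) [Group Q], Subgroup Q) (hW : IsCharPFunctor.{u} p W)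
    (hloc : ∀ (K R : Subgroup G) [hR : (R.subgroupOf K).Normal],
      Subgroup.centralizer ((pCore p (↥K ⧸ R.subgroupOf K) : Subgroup (↥K ⧸ R.subgroupOf K)) :
        Set (↥K ⧸ R.subgroupOf K)) ≤ pCore p (↥K ⧸ R.subgroupOf K) →
      ∀ T : Sylow p (↥K ⧸ R.subgroupOf K),
        (inducedFunctor (G := (↥K ⧸ R.subgroupOf K)) W ((T : Subgroup (↥K ⧸ R.subgroupOf K)))).Normal)
    (X : Type u) [Group X] [Finite X] (hX : IsSectionOf G X) (T : Sylow p X) :
    ControlsStrongFusion p (inducedFunctor (G := X) W (T : Subgroup X)) := by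
  have h𝓦 : ∀ W' ∈ ({W} : Set (∀ (Q : Type u) [Group Q], Subgroup Q)), IsCharPFunctor.{u} p W' := by
    intro W' hW'
    rw [Set.mem_singleton_iff.mp hW']; exact hW
  have hloc' : ∀ (K R : Subgroup G) [hR : (R.subgroupOf K).Normal],
      Subgroup.centralizer ((pCore p (↥K ⧸ R.subgroupOf K) : Subgroup (↥K ⧸ R.subgroupOf K)) :
        Set (↥K ⧸ R.subgroupOf K)) ≤ pCore p (↥K ⧸ R.subgroupOf K) →
      FamilyControlsStrongFusionIn p (indFam {W} (↥K ⧸ R.subgroupOf K)) ⊤ := by
    intro K R hR hc
    obtain ⟨T⟩ : Nonempty (Sylow p (↥K ⧸ R.subgroupOf K)) := inferInstance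
    apply fcsf_top_of_reach T
    intro A h hA hhA
    apply Reach.single hA ?_ hhA
    refine ⟨inducedFunctor W, ⟨W, rfl, rfl⟩, ⟨Subgroup.mem_top _, ?_⟩⟩
    have hn := hloc K R hc T
    rw [Subgroup.normalizer_eq_top_iff.mpr hn]
    exact Subgroup.mem_top _
  have hmain := fcsf_of_sections (G := G) h𝓦 hloc' X hX
  refine ⟨T, inducedFunctor_le _, ?_⟩
  intro A hA
  refine ⟨hA, ?_⟩
  intro g hgA
  have hTi : ¬ p ∣ (T : Subgroup X).relIndex ⊤ := by
    rw [Subgroup.relIndex_top_right]; exact T.not_dvd_index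
  obtain ⟨c, hc, hceq⟩ := reach_of_familyControls (indFam_isConjugacyFunctor h𝓦) hmain le_top
    T.isPGroup' hTi A g (Subgroup.mem_top _) hA hgA
  refine ⟨c, ?_, fun a ha => (hceq a ha).symm⟩
  apply fchain_mem' hc
  rintro _ ⟨W', hW', rfl⟩
  rw [Set.mem_singleton_iff.mp hW']

/-- all sections are `p`-stable -/
theorem pstable_of_section
    (hst : ∀ (K R : Subgroup G) [hR : (R.subgroupOf K).Normal], IsNormalizerPStable p (↥K ⧸ R.subgroupOf K))
    (X : Type u) [Group X] (hX : IsSectionOf G X) : IsNormalizerPStable p X := by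
  obtain ⟨K, R, hR, ⟨e⟩⟩ := hX.exists_equiv
  exact Cfsg.Agent.Lib.Lead.QdLib.isNormalizerPStable_of_mulEquiv e.symm (hst K R)

/-- **the K-infinity subgroups control strong fusion** in the sections of a group all of whose sections are `p`-stable -/
theorem kInf_csf_of_pstable_sections
    (hst : ∀ (K R : Subgroup G) [hR : (R.subgroupOf K).Normal], IsNormalizerPStable p (↥K ⧸ R.subgroupOf K))
    (X : Type u) [Group X] [Finite X] (hX : IsSectionOf G X) (T : Sylow p X) :
    ControlsStrongFusion p (inducedFunctor (G := X) kInfLower (T : Subgroup X)) ∧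
      ControlsStrongFusion p (inducedFunctor (G := X) kInfUpper (T : Subgroup X)) := by
  have hq : ∀ (K R : Subgroup G) [hR : (R.subgroupOf K).Normal]
      (N : Subgroup (↥K ⧸ R.subgroupOf K)) (hN : N.Normal),
      IsNormalizerPStable p ((↥K ⧸ R.subgroupOf K) ⧸ N) := by
    intro K R hR N hN
    exact pstable_of_section hst _ ((isSectionOf_quotient_subgroupOf K R).quotient N)
  constructor
  · apply csf_of_sections_normal kInfLower (isCharPFunctor_kInfLower p) ?_ X hX T
    intro K R hR hc T'
    exact (kInf_normal_of_pstable (hq K R) hc T').1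
  · apply csf_of_sections_normal kInfUpper (isCharPFunctor_kInfUpper p) ?_ X hX T
    intro K R hR hc T'
    exact (kInf_normal_of_pstable (hq K R) hc T').2

end Cfsg.Agent.Lib.Helper4
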