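import Mathlib

set_option autoImplicit false

/-! Wielandt-type counting: general lemmas on orbits and stabilizers of subsets of a group. -/

namespace Cfsg.Agent.Lib.Helper4.PW

open scoped Pointwise

section orbits

variable {G Ω : Type*} [Group G] [MulAction G Ω]

/-- An invariant finite set all of whose orbits have size divisible by `r` has size divisible
by `r`. -/
theorem dvd_card_of_invariant [DecidableEq Ω] (r : ℕ) (n : ℕ) :
    ∀ 𝒴 : Finset Ω, 𝒴.card = n → (∀ g : G, ∀ x ∈ 𝒴, g • x ∈ 𝒴) →
      (∀ x ∈ 𝒴, r ∣ Nat.card (MulAction.orbit G x)) → r ∣ 𝒴.card := by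
  classical
  induction n using Nat.strong_induction_on with
  | _ n ih =>
  intro 𝒴 hn hinv horb
  rcases 𝒴.eq_empty_or_nonempty with rfl | ⟨x, hx⟩
  · simp
  set O := 𝒴.filter (fun y => y ∈ MulAction.orbit G x) with hO
  set 𝒴' := 𝒴.filter (fun y => ¬ y ∈ MulAction.orbit G x) with h𝒴'
  have hsplit : O.card + 𝒴'.card = 𝒴.card := Finset.card_filter_add_card_filter_not _
  have hOset : (O : Set Ω) = MulAction.orbit G x := by
    ext y
    rw [hO, Finset.coe_filter]
    constructor
    · rintro ⟨-, h⟩; exact h
    · intro h
      refine ⟨?_, h⟩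
      obtain ⟨g, rfl⟩ := h
      exact hinv g x hx
  have hOcard : Nat.card (MulAction.orbit G x) = O.card := by
    rw [← hOset]; simp
  have hxO : x ∈ O := by
    rw [hO, Finset.mem_filter]; exact ⟨hx, MulAction.mem_orbit_self x⟩
  have hlt : 𝒴'.card < n := by
    have : 0 < O.card := Finset.card_pos.2 ⟨x, hxO⟩
    omega
  have h1 : r ∣ 𝒴'.card := by
    apply ih _ hlt 𝒴' rfl
    · intro g y hy
      rw [h𝒴', Finset.mem_filter] at hy ⊢
      refine ⟨hinv g y hy.1, ?_⟩
      intro h
      apply hy.2
      have : y = g⁻¹ • (g • y) := by rw [inv_smul_smul]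
      rw [this]
      exact MulAction.mem_orbit_of_mem_orbit g⁻¹ h
    · intro y hy
      rw [h𝒴', Finset.mem_filter] at hy
      exact horb y hy.1
  have h2 : r ∣ O.card := by rw [← hOcard]; exact horb x hx
  rw [← hsplit]
  exact dvd_add h2 h1

end orbits

section stab

variable {G : Type*} [Group G] [DecidableEq G]

/-- the stabilizer of a nonempty finite subset under left multiplication has order dividing the
size of the subset. -/
theorem card_stabilizer_dvd (X : Finset G) :
    Nat.card (MulAction.stabilizer G X) ∣ X.card := by
  set S := MulAction.stabilizer G X with hS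
  apply dvd_card_of_invariant (G := S) (Ω := G) (Nat.card S) X.card X rfl
  · intro g x hx
    have hg : (g : G) • X = X := g.2
    rw [← hg]
    exact Finset.smul_mem_smul_finset hx
  · intro x _
    have hinj : Function.Injective (fun s : S => s • x) := by
      intro s t hst
      apply Subtype.ext
      have : (s : G) * x = (t : G) * x := hst
      exact mul_right_cancel this
    have : MulAction.orbit S x = Set.range (fun s : S => s • x) := rfl
    rw [this, Nat.card_range_of_injective hinj]

theorem card_orbit_finset [Finite G] (X : Finset G) :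
    Nat.card (MulAction.orbit G X) * Nat.card (MulAction.stabilizer G X) = Nat.card G := by
  rw [Nat.card_coe_set_eq, ← MulAction.index_stabilizer]
  exact Subgroup.index_mul_card _

theorem stabilizer_smul_card (g : G) (X : Finset G) :
    Nat.card (MulAction.stabilizer G (g • X)) = Nat.card (MulAction.stabilizer G X) := by
  rw [MulAction.stabilizer_smul_eq_stabilizer_map_conj]
  exact Subgroup.card_map_of_injective (MulAut.conj g).injective

end stab

end Cfsg.Agent.Lib.Helper4.PW
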