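import Mathlib
import Cfsg.Agent.Lib.Helper4.PW1

set_option autoImplicit false

/-! Counting the subsets of a group that are invariant under left multiplication by a subgroup. -/

namespace Cfsg.Agent.Lib.Helper4.PW

open scoped Pointwise Classical

noncomputable section inv

variable {G : Type*} [Group G] [Fintype G] (K : Subgroup G)

/-- the union of the right cosets `K g` with `g⁻¹ K ∈ Y`. -/
def liftSet (Y : Finset (G ⧸ K)) : Finset G :=
  Finset.univ.filter (fun g : G => (QuotientGroup.mk g⁻¹ : G ⧸ K) ∈ Y)

theorem mem_liftSet (Y : Finset (G ⧸ K)) (g : G) :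
    g ∈ liftSet K Y ↔ (QuotientGroup.mk g⁻¹ : G ⧸ K) ∈ Y := by
  unfold liftSet
  rw [Finset.mem_filter]
  simp

theorem card_fiber (x : G) :
    (Finset.univ.filter (fun g : G => (QuotientGroup.mk g⁻¹ : G ⧸ K) = QuotientGroup.mk x)).card =
      Nat.card K := by
  have e : {g : G // (QuotientGroup.mk g⁻¹ : G ⧸ K) = QuotientGroup.mk x} ≃ K :=
    { toFun := fun g => ⟨g.1 * x, by
        have := g.2
        rw [QuotientGroup.eq, inv_inv] at this
        exact this⟩
      invFun := fun κ => ⟨κ.1 * x⁻¹, by
        rw [QuotientGroup.eq, inv_inv]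
        have : κ.1 * x⁻¹ * x = κ.1 := by group
        rw [this]; exact κ.2⟩
      left_inv := fun g => by
        apply Subtype.ext
        simp
      right_inv := fun κ => by
        apply Subtype.ext
        simp }
  rw [← Nat.card_congr e, Nat.card_eq_fintype_card, Fintype.card_subtype]

theorem card_liftSet (Y : Finset (G ⧸ K)) : (liftSet K Y).card = Nat.card K * Y.card := by
  have hmap : ∀ g ∈ liftSet K Y, (QuotientGroup.mk g⁻¹ : G ⧸ K) ∈ Y :=
    fun g hg => (mem_liftSet K Y g).1 hg
  rw [Finset.card_eq_sum_card_fiberwise hmap]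
  have hfib : ∀ q ∈ Y, ((liftSet K Y).filter (fun g => (QuotientGroup.mk g⁻¹ : G ⧸ K) = q)).card =
      Nat.card K := by
    intro q hq
    induction q using QuotientGroup.induction_on with
    | H x =>
      rw [← card_fiber K x]
      congr 1
      ext g
      rw [Finset.mem_filter, Finset.mem_filter, mem_liftSet]
      constructor
      · rintro ⟨-, h⟩; exact ⟨Finset.mem_univ _, h⟩
      · rintro ⟨-, h⟩; exact ⟨by rw [h]; exact hq, h⟩
  rw [Finset.sum_congr rfl hfib, Finset.sum_const, smul_eq_mul, mul_comm]

theorem le_stabilizer_liftSet (Y : Finset (G ⧸ K)) : K ≤ MulAction.stabilizer G (liftSet K Y) := by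
  intro κ hκ
  rw [MulAction.mem_stabilizer_finset']
  intro g hg
  rw [mem_liftSet] at hg ⊢
  have : (QuotientGroup.mk (κ • g)⁻¹ : G ⧸ K) = QuotientGroup.mk g⁻¹ := by
    rw [QuotientGroup.eq, smul_eq_mul, inv_inv]
    have : κ * g * g⁻¹ = κ := by group
    rw [this]; exact hκ
  rw [this]; exact hg

theorem liftSet_injective : Function.Injective (liftSet K) := by
  intro Y Y' h
  ext q
  induction q using QuotientGroup.induction_on with
  | H x =>
    have h1 := mem_liftSet K Y x⁻¹
    have h2 := mem_liftSet K Y' x⁻¹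
    rw [inv_inv] at h1 h2
    rw [← h1, ← h2, h]

theorem eq_liftSet_of_le_stabilizer (X : Finset G) (hX : K ≤ MulAction.stabilizer G X) :
    X = liftSet K (X.image (fun g => (QuotientGroup.mk g⁻¹ : G ⧸ K))) := by
  ext g
  rw [mem_liftSet, Finset.mem_image]
  constructor
  · intro hg
    exact ⟨g, hg, rfl⟩
  · rintro ⟨x, hx, hxg⟩
    rw [QuotientGroup.eq, inv_inv] at hxg
    have h1 := hX (K.inv_mem hxg)
    rw [MulAction.mem_stabilizer_finset'] at h1
    have h2 := h1 hx
    have h3 : (x * g⁻¹)⁻¹ • x = g := by
      rw [smul_eq_mul]; group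
    rw [h3] at h2
    exact h2

/-- The number of `K`-invariant subsets of size `k |K|`. -/
theorem card_invariant_subsets (k : ℕ) :
    ((Finset.univ : Finset (Finset G)).filter
      (fun X : Finset G => X.card = k * Nat.card K ∧ K ≤ MulAction.stabilizer G X)).card =
      (Nat.card (G ⧸ K)).choose k := by
  letI : Fintype (G ⧸ K) := Fintype.ofFinite _
  have hKpos : 0 < Nat.card K := Nat.card_pos
  have hset : (Finset.univ : Finset (Finset G)).filter
      (fun X : Finset G => X.card = k * Nat.card K ∧ K ≤ MulAction.stabilizer G X) =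
      (Finset.powersetCard k (Finset.univ : Finset (G ⧸ K))).image (liftSet K) := by
    ext X
    rw [Finset.mem_filter, Finset.mem_image]
    constructor
    · rintro ⟨-, hcard, hstab⟩
      refine ⟨X.image (fun g => (QuotientGroup.mk g⁻¹ : G ⧸ K)), ?_, ?_⟩
      · rw [Finset.mem_powersetCard]
        refine ⟨Finset.subset_univ _, ?_⟩
        have h1 := eq_liftSet_of_le_stabilizer K X hstab
        have h2 := card_liftSet K (X.image (fun g => (QuotientGroup.mk g⁻¹ : G ⧸ K)))
        have h3 : (liftSet K (X.image (fun g => (QuotientGroup.mk g⁻¹ : G ⧸ K)))).card = X.card :=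
          congrArg Finset.card h1.symm
        rw [h3, hcard, mul_comm] at h2
        exact (Nat.eq_of_mul_eq_mul_left hKpos h2).symm
      · exact (eq_liftSet_of_le_stabilizer K X hstab).symm
    · rintro ⟨Y, hY, rfl⟩
      rw [Finset.mem_powersetCard] at hY
      refine ⟨Finset.mem_univ _, ?_, le_stabilizer_liftSet K Y⟩
      rw [card_liftSet, hY.2, mul_comm]
  rw [hset, Finset.card_image_of_injective _ (liftSet_injective K), Finset.card_powersetCard,
    Finset.card_univ, Nat.card_eq_fintype_card]

end inv

end Cfsg.Agent.Lib.Helper4.PW
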