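import Mathlib
import Cfsg.Agent.Lib.Helper4.PW1
import Cfsg.Agent.Lib.Helper4.PW2

set_option autoImplicit false

/-! Wielandt-type counting: the subsets of size `p ^ a` of a finite group sorted by the order of
their stabilizer. -/

namespace Cfsg.Agent.Lib.Helper4.PW

open scoped Pointwise Classical

noncomputable section count

variable {G : Type*} [Group G] [Fintype G] [Fintype (Subgroup G)]

/-- subsets of size `k`. -/
def subsetsOfCard (k : ℕ) : Finset (Finset G) := Finset.univ.filter (fun X => X.card = k)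

/-- subgroups of order `k`. -/
def subgroupsOfCard (k : ℕ) : Finset (Subgroup G) :=
  Finset.univ.filter (fun H : Subgroup G => Nat.card H = k)

/-- subsets of size `k` whose stabilizer has order `s`. -/
def stabCard (k s : ℕ) : Finset (Finset G) :=
  Finset.univ.filter (fun X => X.card = k ∧ Nat.card (MulAction.stabilizer G X) = s)

theorem mem_subsetsOfCard (k : ℕ) (X : Finset G) : X ∈ subsetsOfCard (G := G) k ↔ X.card = k := by
  unfold subsetsOfCard
  rw [Finset.mem_filter]
  simp

theorem mem_subgroupsOfCard (k : ℕ) (H : Subgroup G) :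
    H ∈ subgroupsOfCard (G := G) k ↔ Nat.card H = k := by
  unfold subgroupsOfCard
  rw [Finset.mem_filter]
  simp

theorem mem_stabCard (k s : ℕ) (X : Finset G) :
    X ∈ stabCard (G := G) k s ↔ X.card = k ∧ Nat.card (MulAction.stabilizer G X) = s := by
  unfold stabCard
  rw [Finset.mem_filter]
  simp

theorem card_subsetsOfCard (k : ℕ) :
    (subsetsOfCard (G := G) k).card = (Nat.card G).choose k := by
  have : subsetsOfCard (G := G) k = Finset.powersetCard k Finset.univ := by
    ext X
    rw [mem_subsetsOfCard, Finset.mem_powersetCard]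
    simp
  rw [this, Finset.card_powersetCard, Finset.card_univ, Nat.card_eq_fintype_card]

theorem card_stabilizer_eq_pow (p a : ℕ) (hp : p.Prime) (X : Finset G) (hX : X.card = p ^ a) :
    ∃ j ≤ a, Nat.card (MulAction.stabilizer G X) = p ^ j := by
  have h := card_stabilizer_dvd X
  rw [hX] at h
  exact (Nat.dvd_prime_pow hp).1 h

theorem card_quotient_eq (k m : ℕ) (hk : 0 < k) (hN : Nat.card G = k * m) (H : Subgroup G)
    (hH : Nat.card H = k) : Nat.card (G ⧸ H) = m := by
  have h2 := Subgroup.card_eq_card_quotient_mul_card_subgroup H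
  rw [hN, hH, mul_comm] at h2
  exact (Nat.eq_of_mul_eq_mul_right hk h2).symm

theorem card_fix_top (p a m : ℕ) (hp : p.Prime) (hN : Nat.card G = p ^ a * m) (H : Subgroup G)
    (hH : Nat.card H = p ^ a) :
    (Finset.univ.filter
      (fun X : Finset G => X.card = p ^ a ∧ H ≤ MulAction.stabilizer G X)).card = m := by
  have h := card_invariant_subsets H 1
  rw [one_mul, hH, Nat.choose_one_right] at h
  rw [h]
  exact card_quotient_eq (p ^ a) m (pow_pos hp.pos a) hN H hH

theorem card_fix_sub (p b m : ℕ) (hp : p.Prime) (hN : Nat.card G = p ^ (b + 1) * m)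
    (K : Subgroup G) (hK : Nat.card K = p ^ b) :
    (Finset.univ.filter
      (fun X : Finset G => X.card = p ^ (b + 1) ∧ K ≤ MulAction.stabilizer G X)).card =
      (p * m).choose p := by
  have h := card_invariant_subsets K p
  rw [hK, ← pow_succ'] at h
  rw [h]
  congr 1
  apply card_quotient_eq (p ^ b) (p * m) (pow_pos hp.pos b) _ K hK
  rw [hN, pow_succ]
  ring

theorem stabilizer_eq_of_le (p a : ℕ) (hp : p.Prime) (X : Finset G) (hX : X.card = p ^ a)
    (H : Subgroup G) (hH : Nat.card H = p ^ a) (hle : H ≤ MulAction.stabilizer G X) :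
    MulAction.stabilizer G X = H := by
  symm
  apply Subgroup.eq_of_le_of_card_ge hle
  rw [hH]
  apply Nat.le_of_dvd (pow_pos hp.pos a)
  have := card_stabilizer_dvd X
  rwa [hX] at this

theorem stabCard_fiber (p a : ℕ) (hp : p.Prime) (H : Subgroup G) (hH : Nat.card H = p ^ a) :
    (stabCard (G := G) (p ^ a) (p ^ a)).filter (fun X => MulAction.stabilizer G X = H) =
      Finset.univ.filter
        (fun X : Finset G => X.card = p ^ a ∧ H ≤ MulAction.stabilizer G X) := by
  ext X
  rw [Finset.mem_filter, mem_stabCard, Finset.mem_filter]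
  constructor
  · rintro ⟨⟨hc, -⟩, h⟩
    exact ⟨Finset.mem_univ _, hc, h.symm.le⟩
  · rintro ⟨-, hc, hle⟩
    have h := stabilizer_eq_of_le p a hp X hc H hH hle
    exact ⟨⟨hc, by rw [h]; exact hH⟩, h⟩

theorem stabCard_mapsTo (a : ℕ) :
    ∀ X ∈ stabCard (G := G) a a, MulAction.stabilizer G X ∈ subgroupsOfCard (G := G) a := by
  intro X hX
  rw [mem_stabCard] at hX
  rw [mem_subgroupsOfCard]
  exact hX.2

theorem card_stabCard_top (p a m : ℕ) (hp : p.Prime) (hN : Nat.card G = p ^ a * m) :
    (stabCard (G := G) (p ^ a) (p ^ a)).card = m * (subgroupsOfCard (G := G) (p ^ a)).card := by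
  rw [Finset.card_eq_sum_card_fiberwise (f := fun X => MulAction.stabilizer G X)
    (stabCard_mapsTo (G := G) (p ^ a))]
  have h : ∀ H ∈ subgroupsOfCard (G := G) (p ^ a),
      ((stabCard (G := G) (p ^ a) (p ^ a)).filter
        (fun X => MulAction.stabilizer G X = H)).card = m := by
    intro H hH
    rw [mem_subgroupsOfCard] at hH
    rw [stabCard_fiber p a hp H hH]
    exact card_fix_top p a m hp hN H hH
  rw [Finset.sum_congr rfl h, Finset.sum_const, smul_eq_mul, mul_comm]

/-- weighted version of the previous count. -/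
theorem sum_stabCard_top (p a m : ℕ) (hp : p.Prime) (hN : Nat.card G = p ^ a * m)
    (μ : Subgroup G → ℕ) :
    ∑ X ∈ stabCard (G := G) (p ^ a) (p ^ a), μ (MulAction.stabilizer G X) =
      m * ∑ H ∈ subgroupsOfCard (G := G) (p ^ a), μ H := by
  rw [← Finset.sum_fiberwise_of_maps_to (g := fun X => MulAction.stabilizer G X)
    (stabCard_mapsTo (G := G) (p ^ a)), Finset.mul_sum]
  apply Finset.sum_congr rfl
  intro H hH
  rw [mem_subgroupsOfCard] at hH
  have h1 : ∀ X ∈ (stabCard (G := G) (p ^ a) (p ^ a)).filter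
      (fun X => MulAction.stabilizer G X = H), μ (MulAction.stabilizer G X) = μ H := by
    intro X hX
    rw [Finset.mem_filter] at hX
    rw [hX.2]
  rw [Finset.sum_congr rfl h1, Finset.sum_const, smul_eq_mul, stabCard_fiber p a hp H hH,
    card_fix_top p a m hp hN H hH]

/-- orbit sizes. -/
theorem dvd_card_orbit (p a m j e : ℕ) (hp : p.Prime) (hN : Nat.card G = p ^ a * m)
    (X : Finset G) (hj : Nat.card (MulAction.stabilizer G X) = p ^ j) (hje : j + e ≤ a) :
    m * p ^ e ∣ Nat.card (MulAction.orbit G X) := by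
  have h := card_orbit_finset X
  rw [hj, hN] at h
  have h1 : p ^ a = p ^ j * p ^ (a - j) := by
    rw [← pow_add]; congr 1; omega
  rw [h1] at h
  have h2 : Nat.card (MulAction.orbit G X) = p ^ (a - j) * m := by
    apply Nat.eq_of_mul_eq_mul_right (pow_pos hp.pos j)
    rw [h]; ring
  rw [h2, mul_comm]
  exact Nat.mul_dvd_mul_right (pow_dvd_pow p (by omega)) m

/-- the subsets with small stabilizer. -/
def smallStab (k : ℕ) (P : ℕ → Prop) : Finset (Finset G) :=
  Finset.univ.filter (fun X => X.card = k ∧ P (Nat.card (MulAction.stabilizer G X)))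

theorem mem_smallStab (k : ℕ) (P : ℕ → Prop) (X : Finset G) :
    X ∈ smallStab (G := G) k P ↔ X.card = k ∧ P (Nat.card (MulAction.stabilizer G X)) := by
  unfold smallStab
  rw [Finset.mem_filter]
  simp

theorem dvd_card_smallStab (p a m e : ℕ) (hp : p.Prime) (hN : Nat.card G = p ^ a * m)
    (P : ℕ → Prop) (hP : ∀ j, j ≤ a → P (p ^ j) → j + e ≤ a) :
    m * p ^ e ∣ (smallStab (G := G) (p ^ a) P).card := by
  apply dvd_card_of_invariant (G := G) (m * p ^ e) _ _ rfl
  · intro g X hX
    rw [mem_smallStab] at hX ⊢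
    rw [Finset.card_smul_finset, stabilizer_smul_card]
    exact hX
  · intro X hX
    rw [mem_smallStab] at hX
    obtain ⟨j, hja, hj⟩ := card_stabilizer_eq_pow p a hp X hX.1
    have := hX.2
    rw [hj] at this
    exact dvd_card_orbit p a m j e hp hN X hj (hP j hja this)

/-- first decomposition: by whether the stabilizer has full order. -/
theorem card_subsets_split_one (p a m : ℕ) (hp : p.Prime) (hN : Nat.card G = p ^ a * m) :
    ∃ y, (Nat.card G).choose (p ^ a) =
      m * (subgroupsOfCard (G := G) (p ^ a)).card + m * p * y := by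
  have h1 : (subsetsOfCard (G := G) (p ^ a)).card =
      (stabCard (G := G) (p ^ a) (p ^ a)).card +
        (smallStab (G := G) (p ^ a) (fun s => s ≠ p ^ a)).card := by
    rw [← Finset.card_filter_add_card_filter_not
      (s := subsetsOfCard (G := G) (p ^ a))
      (fun X => Nat.card (MulAction.stabilizer G X) = p ^ a)]
    congr 2
    · ext X
      rw [Finset.mem_filter, mem_subsetsOfCard, mem_stabCard]
    · ext X
      rw [Finset.mem_filter, mem_subsetsOfCard, mem_smallStab]
  have h2 : m * p ^ 1 ∣ (smallStab (G := G) (p ^ a) (fun s => s ≠ p ^ a)).card := by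
    apply dvd_card_smallStab p a m 1 hp hN
    intro j hja hj
    have : j ≠ a := fun h => hj (by rw [h])
    omega
  obtain ⟨y, hy⟩ := h2
  refine ⟨y, ?_⟩
  rw [← card_subsetsOfCard, h1, card_stabCard_top p a m hp hN, hy, pow_one]

end count

end Cfsg.Agent.Lib.Helper4.PW
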