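import Mathlib
import Cfsg.Agent.Lib.Helper4.PW3

set_option autoImplicit false

/-! Wielandt-type counting: the second identity, counting pairs `(K, X)` with `K` a subgroup of
order `p ^ b` stabilizing a subset `X` of size `p ^ (b + 1)`. -/

namespace Cfsg.Agent.Lib.Helper4.PW

open scoped Pointwise Classical

noncomputable section count

variable {G : Type*} [Group G] [Fintype G] [Fintype (Subgroup G)]

/-- the number of subgroups of order `k` contained in `H`. -/
def subsBelow (k : ℕ) (H : Subgroup G) : ℕ :=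
  ((subgroupsOfCard (G := G) k).filter (fun K => K ≤ H)).card

theorem subsBelow_of_card_eq (k : ℕ) (H : Subgroup G) (hH : Nat.card H = k) :
    subsBelow k H = 1 := by
  unfold subsBelow
  rw [Finset.card_eq_one]
  refine ⟨H, ?_⟩
  ext K
  rw [Finset.mem_filter, mem_subgroupsOfCard, Finset.mem_singleton]
  constructor
  · rintro ⟨hK, hle⟩
    exact Subgroup.eq_of_le_of_card_ge hle (by rw [hK, hH])
  · rintro rfl
    exact ⟨hH, le_refl _⟩

theorem subsBelow_of_card_lt (k : ℕ) (H : Subgroup G) (hH : Nat.card H < k) :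
    subsBelow k H = 0 := by
  unfold subsBelow
  rw [Finset.card_eq_zero, Finset.filter_eq_empty_iff]
  intro K hK hle
  rw [mem_subgroupsOfCard] at hK
  have := Subgroup.card_le_of_le hle
  omega

theorem subsBelow_split (p b : ℕ) (hp : p.Prime) (X : Finset G) (hX : X.card = p ^ (b + 1)) :
    subsBelow (p ^ b) (MulAction.stabilizer G X) =
      (if Nat.card (MulAction.stabilizer G X) = p ^ (b + 1) then
        subsBelow (p ^ b) (MulAction.stabilizer G X) else 0) +
      (if Nat.card (MulAction.stabilizer G X) = p ^ b then 1 else 0) := by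
  obtain ⟨j, hj, hc⟩ := card_stabilizer_eq_pow p (b + 1) hp X hX
  have hinj := Nat.pow_right_injective hp.two_le
  rcases Nat.lt_or_ge j b with h | h
  · have h1 : p ^ j ≠ p ^ (b + 1) := fun h' => by have := hinj h'; omega
    have h2 : p ^ j ≠ p ^ b := fun h' => by have := hinj h'; omega
    have h3 : Nat.card (MulAction.stabilizer G X) < p ^ b := by
      rw [hc]; exact Nat.pow_lt_pow_right hp.one_lt h
    rw [subsBelow_of_card_lt _ _ h3, hc, if_neg h1, if_neg h2]
  · rcases Nat.eq_or_lt_of_le h with h | h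
    · subst h
      have h1 : p ^ b ≠ p ^ (b + 1) := fun h' => by have := hinj h'; omega
      rw [subsBelow_of_card_eq _ _ hc, hc, if_neg h1, if_pos rfl]
    · have hjb : j = b + 1 := by omega
      subst hjb
      have h1 : p ^ (b + 1) ≠ p ^ b := fun h' => by have := hinj h'; omega
      rw [hc, if_pos rfl, if_neg h1, add_zero]

theorem pairs_count (p b m : ℕ) (hp : p.Prime) (hN : Nat.card G = p ^ (b + 1) * m) :
    (subgroupsOfCard (G := G) (p ^ b)).card * (p * m).choose p =
      m * ∑ H ∈ subgroupsOfCard (G := G) (p ^ (b + 1)), subsBelow (p ^ b) H +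
        (stabCard (G := G) (p ^ (b + 1)) (p ^ b)).card := by
  have hdc := Finset.sum_card_bipartiteAbove_eq_sum_card_bipartiteBelow
    (fun (K : Subgroup G) (X : Finset G) => K ≤ MulAction.stabilizer G X)
    (s := subgroupsOfCard (G := G) (p ^ b)) (t := subsetsOfCard (G := G) (p ^ (b + 1)))
  have hL : ∀ K ∈ subgroupsOfCard (G := G) (p ^ b),
      (Finset.bipartiteAbove (fun (K : Subgroup G) (X : Finset G) =>
        K ≤ MulAction.stabilizer G X) (subsetsOfCard (G := G) (p ^ (b + 1))) K).card =
        (p * m).choose p := by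
    intro K hK
    rw [mem_subgroupsOfCard] at hK
    rw [← card_fix_sub p b m hp hN K hK]
    congr 1
    ext X
    rw [Finset.mem_bipartiteAbove, mem_subsetsOfCard, Finset.mem_filter]
    simp
  have hR : ∀ X ∈ subsetsOfCard (G := G) (p ^ (b + 1)),
      (Finset.bipartiteBelow (fun (K : Subgroup G) (X : Finset G) =>
        K ≤ MulAction.stabilizer G X) (subgroupsOfCard (G := G) (p ^ b)) X).card =
      (if Nat.card (MulAction.stabilizer G X) = p ^ (b + 1) then
        subsBelow (p ^ b) (MulAction.stabilizer G X) else 0) +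
      (if Nat.card (MulAction.stabilizer G X) = p ^ b then 1 else 0) := by
    intro X hX
    rw [mem_subsetsOfCard] at hX
    rw [← subsBelow_split p b hp X hX]
    rfl
  rw [Finset.sum_congr rfl hL, Finset.sum_congr rfl hR, Finset.sum_const, smul_eq_mul,
    Finset.sum_add_distrib, ← Finset.sum_filter, ← Finset.sum_filter, Finset.sum_const,
    smul_eq_mul, mul_one] at hdc
  rw [hdc, ← sum_stabCard_top p (b + 1) m hp hN]
  congr 2
  · ext X
    rw [Finset.mem_filter, mem_subsetsOfCard, mem_stabCard]
  · ext X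
    rw [Finset.mem_filter, mem_subsetsOfCard, mem_stabCard]

theorem card_subsets_split_two (p b m : ℕ) (hp : p.Prime)
    (hN : Nat.card G = p ^ (b + 1) * m) :
    ∃ y, (Nat.card G).choose (p ^ (b + 1)) =
      m * (subgroupsOfCard (G := G) (p ^ (b + 1))).card +
        (stabCard (G := G) (p ^ (b + 1)) (p ^ b)).card + m * p ^ 2 * y := by
  have hinj := Nat.pow_right_injective hp.two_le
  have h1 : (subsetsOfCard (G := G) (p ^ (b + 1))).card =
      (stabCard (G := G) (p ^ (b + 1)) (p ^ (b + 1))).card +
        (smallStab (G := G) (p ^ (b + 1)) (fun s => s ≠ p ^ (b + 1))).card := by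
    rw [← Finset.card_filter_add_card_filter_not
      (s := subsetsOfCard (G := G) (p ^ (b + 1)))
      (fun X => Nat.card (MulAction.stabilizer G X) = p ^ (b + 1))]
    congr 2
    · ext X
      rw [Finset.mem_filter, mem_subsetsOfCard, mem_stabCard]
    · ext X
      rw [Finset.mem_filter, mem_subsetsOfCard, mem_smallStab]
  have h2 : (smallStab (G := G) (p ^ (b + 1)) (fun s => s ≠ p ^ (b + 1))).card =
      (stabCard (G := G) (p ^ (b + 1)) (p ^ b)).card +
        (smallStab (G := G) (p ^ (b + 1)) (fun s => s ≠ p ^ (b + 1) ∧ s ≠ p ^ b)).card := by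
    rw [← Finset.card_filter_add_card_filter_not
      (s := smallStab (G := G) (p ^ (b + 1)) (fun s => s ≠ p ^ (b + 1)))
      (fun X => Nat.card (MulAction.stabilizer G X) = p ^ b)]
    congr 2
    · ext X
      rw [Finset.mem_filter, mem_smallStab, mem_stabCard]
      constructor
      · rintro ⟨⟨h, -⟩, h'⟩; exact ⟨h, h'⟩
      · rintro ⟨h, h'⟩
        refine ⟨⟨h, ?_⟩, h'⟩
        rw [h']
        intro h''
        have := hinj h''
        omega
    · ext X
      rw [Finset.mem_filter, mem_smallStab, mem_smallStab]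
      tauto
  have h3 : m * p ^ 2 ∣
      (smallStab (G := G) (p ^ (b + 1)) (fun s => s ≠ p ^ (b + 1) ∧ s ≠ p ^ b)).card := by
    apply dvd_card_smallStab p (b + 1) m 2 hp hN
    intro j hja hj
    have h4 : j ≠ b + 1 := fun h => hj.1 (by rw [h])
    have h5 : j ≠ b := fun h => hj.2 (by rw [h])
    omega
  obtain ⟨y, hy⟩ := h3
  refine ⟨y, ?_⟩
  rw [← card_subsetsOfCard, h1, h2, card_stabCard_top p (b + 1) m hp hN, hy]
  ring

/-- The main identity. -/
theorem main_identity (p b m : ℕ) (hp : p.Prime) (hN : Nat.card G = p ^ (b + 1) * m) :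
    ∃ y, (Nat.card G).choose (p ^ (b + 1)) +
        m * ∑ H ∈ subgroupsOfCard (G := G) (p ^ (b + 1)), subsBelow (p ^ b) H =
      m * (subgroupsOfCard (G := G) (p ^ (b + 1))).card +
        (subgroupsOfCard (G := G) (p ^ b)).card * (p * m).choose p + m * p ^ 2 * y := by
  obtain ⟨y, hy⟩ := card_subsets_split_two (G := G) p b m hp hN
  refine ⟨y, ?_⟩
  rw [hy, pairs_count p b m hp hN]
  ring

end count

end Cfsg.Agent.Lib.Helper4.PW
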