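import Mathlib
import Cfsg.Agent.Lib.Helper4.PC2
import Cfsg.Agent.Lib.Helper4.CyclicUnique

set_option autoImplicit false

/-! The number of maximal subgroups of a nontrivial finite `p`-group modulo `p ^ 2`. -/

namespace Cfsg.Agent.Lib.Helper4.PW

open Cfsg.Agent.Lib.Helper4.PC

section mu

variable {Q : Type*} [Group Q] [Finite Q] (p : ℕ) [hp : Fact p.Prime]

theorem card_maximal_of_cyclic (hQ : IsPGroup p Q) (hnt : Nontrivial Q) (hc : IsCyclic Q) :
    Nat.card {M : Subgroup Q // M.index = p ∧ (⊥ : Subgroup Q) ≤ M} = 1 := by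
  have h2 := card_index_p_modEq p hQ (⊥ : Subgroup Q) bot_ne_top
  have hss : Subsingleton {M : Subgroup Q // M.index = p ∧ (⊥ : Subgroup Q) ≤ M} := by
    constructor
    rintro ⟨M₁, h₁, -⟩ ⟨M₂, h₂, -⟩
    apply Subtype.ext
    apply cyclic_subgroup_eq_of_card_eq
    have e1 := Subgroup.card_mul_index M₁
    have e2 := Subgroup.card_mul_index M₂
    rw [h₁] at e1
    rw [h₂, ← e1] at e2
    exact (Nat.eq_of_mul_eq_mul_right hp.out.pos e2).symm
  have hle := Finite.card_le_one_iff_subsingleton.2 hss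
  rcases Nat.lt_or_ge (Nat.card {M : Subgroup Q // M.index = p ∧ (⊥ : Subgroup Q) ≤ M}) 1 with
    h | h
  · exfalso
    have h0 : Nat.card {M : Subgroup Q // M.index = p ∧ (⊥ : Subgroup Q) ≤ M} = 0 := by omega
    rw [h0] at h2
    have := h2.symm
    rw [Nat.modEq_zero_iff_dvd] at this
    exact hp.out.one_lt.ne' (Nat.dvd_one.1 this)
  · omega

theorem isCyclic_of_card_maximal_eq_one (hQ : IsPGroup p Q)
    (h1 : Nat.card {M : Subgroup Q // M.index = p ∧ (⊥ : Subgroup Q) ≤ M} = 1) :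
    IsCyclic Q := by
  obtain ⟨hss, ⟨M₀, hM₀, -⟩⟩ := Nat.card_eq_one_iff_unique.1 h1
  have hne : M₀ ≠ ⊤ := by
    intro h
    rw [h, Subgroup.index_top] at hM₀
    exact hp.out.one_lt.ne hM₀
  obtain ⟨x, hx⟩ : ∃ x : Q, x ∉ M₀ := by
    by_contra hcon
    push Not at hcon
    exact hne (eq_top_iff.2 fun x _ => hcon x)
  rw [isCyclic_iff_exists_zpowers_eq_top]
  refine ⟨x, ?_⟩
  by_contra hxt
  have h2 := card_index_p_modEq p hQ (Subgroup.zpowers x) hxt
  have hpos : Nat.card {M : Subgroup Q // M.index = p ∧ Subgroup.zpowers x ≤ M} ≠ 0 := by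
    intro h0
    rw [h0] at h2
    have := h2.symm
    rw [Nat.modEq_zero_iff_dvd] at this
    exact hp.out.one_lt.ne' (Nat.dvd_one.1 this)
  haveI : Nonempty {M : Subgroup Q // M.index = p ∧ Subgroup.zpowers x ≤ M} := by
    by_contra hemp
    rw [not_nonempty_iff] at hemp
    exact hpos Nat.card_of_isEmpty
  obtain ⟨M, hM, hxM⟩ := Classical.arbitrary
    {M : Subgroup Q // M.index = p ∧ Subgroup.zpowers x ≤ M}
  have heq : (⟨M, hM, bot_le⟩ : {M : Subgroup Q // M.index = p ∧ (⊥ : Subgroup Q) ≤ M}) =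
      ⟨M₀, hM₀, bot_le⟩ := Subsingleton.elim _ _
  have hMM : M = M₀ := congrArg Subtype.val heq
  apply hx
  rw [← hMM]
  exact hxM (Subgroup.mem_zpowers x)

/-- The number of maximal subgroups of a nontrivial `p`-group is `1` if it is cyclic and is
congruent to `1 + p` modulo `p ^ 2` otherwise. -/
theorem card_maximal_modEq (hQ : IsPGroup p Q) (hnt : Nontrivial Q) (hc : ¬ IsCyclic Q) :
    Nat.card {M : Subgroup Q // M.index = p ∧ (⊥ : Subgroup Q) ≤ M} ≡ 1 + p [MOD p ^ 2] := by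
  set μ := Nat.card {M : Subgroup Q // M.index = p ∧ (⊥ : Subgroup Q) ≤ M} with hμ
  have h1 : Nat.card (homs p (⊥ : Subgroup Q)) = 1 + (p - 1) * μ := card_homs p hQ ⊥
  have h2 : μ ≡ 1 [MOD p] := card_index_p_modEq p hQ (⊥ : Subgroup Q) bot_ne_top
  obtain ⟨d, hd⟩ := IsPGroup.iff_card.1 (isPGroup_homs p (⊥ : Subgroup Q))
  obtain ⟨q, hq⟩ : ∃ q, p = q + 1 := ⟨p - 1, by have := hp.out.pos; omega⟩
  have hq1 : 1 ≤ q := by have := hp.out.two_le; omega
  have hμ0 : μ ≠ 0 := by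
    intro h0
    rw [h0] at h2
    have := h2.symm
    rw [Nat.modEq_zero_iff_dvd] at this
    exact hp.out.one_lt.ne' (Nat.dvd_one.1 this)
  have hd2 : 2 ≤ d := by
    by_contra hlt
    push Not at hlt
    have hd01 : d = 0 ∨ d = 1 := by omega
    rcases hd01 with rfl | rfl
    · rw [hd, pow_zero] at h1
      have : (p - 1) * μ = 0 := by omega
      rcases Nat.mul_eq_zero.1 this with h | h
      · omega
      · exact hμ0 h
    · rw [hd, pow_one] at h1
      have h3 : (p - 1) * μ = (p - 1) * 1 := by omega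
      have h4 : μ = 1 := Nat.eq_of_mul_eq_mul_left (by omega) h3
      exact hc (isCyclic_of_card_maximal_eq_one p hQ h4)
  have hdvd : p ^ 2 ∣ 1 + (p - 1) * μ := by
    rw [← h1, hd]
    exact pow_dvd_pow p hd2
  obtain ⟨k, hk⟩ := hdvd
  rw [Nat.modEq_iff_dvd]
  have hpq : p - 1 = q := by omega
  rw [hpq] at hk
  have hk' : (1 : ℤ) + (q : ℤ) * (μ : ℤ) = ((p : ℤ)) ^ 2 * (k : ℤ) := by exact_mod_cast hk
  have hp' : (p : ℤ) = (q : ℤ) + 1 := by exact_mod_cast hq
  refine ⟨(1 + (p : ℤ)) * k - μ, ?_⟩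
  push_cast
  have : ((p : ℤ)) ^ 2 * ((1 + (p : ℤ)) * k - μ) =
      (1 + (p : ℤ)) * ((p : ℤ) ^ 2 * k) - (p : ℤ) ^ 2 * μ := by ring
  rw [this, ← hk', hp']
  ring

end mu

end Cfsg.Agent.Lib.Helper4.PW
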