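import Mathlib
import Cfsg.Agent.Lib.Helper4.PW4
import Cfsg.Agent.Lib.Helper4.PW5

set_option autoImplicit false

/-! Wielandt-type counting: comparison with the cyclic group, the theorem of Frobenius and the
count of subgroups of order `p ^ b` modulo `p ^ 2`. -/

namespace Cfsg.Agent.Lib.Helper4.PW

open scoped Pointwise Classical

noncomputable section cmp

variable {G : Type*} [Group G] [Fintype G] [Fintype (Subgroup G)]

theorem card_subgroupsOfCard (k : ℕ) :
    (subgroupsOfCard (G := G) k).card = Nat.card {H : Subgroup G // Nat.card H = k} := by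
  rw [Nat.card_eq_fintype_card, Fintype.card_subtype]
  rfl

theorem index_subgroupOf_eq (p b : ℕ) (hp : p.Prime) (H : Subgroup G)
    (hH : Nat.card H = p ^ (b + 1)) (K : Subgroup G) (hK : Nat.card K = p ^ b) (hle : K ≤ H) :
    (K.subgroupOf H).index = p := by
  have h1 := Subgroup.card_mul_index (K.subgroupOf H)
  have h2 : Nat.card (K.subgroupOf H) = Nat.card K :=
    Nat.card_congr (Subgroup.subgroupOfEquivOfLe hle).toEquiv
  rw [h2, hK, hH, pow_succ] at h1
  exact Nat.eq_of_mul_eq_mul_left (pow_pos hp.pos b) h1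

theorem card_map_subtype_eq (p b : ℕ) (hp : p.Prime) (H : Subgroup G)
    (hH : Nat.card H = p ^ (b + 1)) (M : Subgroup H) (hM : M.index = p) :
    Nat.card (M.map H.subtype) = p ^ b := by
  rw [Subgroup.card_map_of_injective (Subgroup.subtype_injective H)]
  have h1 := Subgroup.card_mul_index M
  rw [hM, hH, pow_succ] at h1
  exact Nat.eq_of_mul_eq_mul_right hp.pos h1

theorem subsBelow_eq_card (p b : ℕ) (hp : p.Prime) (H : Subgroup G)
    (hH : Nat.card H = p ^ (b + 1)) :
    subsBelow (p ^ b) H =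
      Nat.card {M : Subgroup H // M.index = p ∧ (⊥ : Subgroup H) ≤ M} := by
  unfold subsBelow
  have h1 : ((subgroupsOfCard (G := G) (p ^ b)).filter (fun K => K ≤ H)).card =
      Nat.card {K : Subgroup G // Nat.card K = p ^ b ∧ K ≤ H} := by
    rw [Nat.card_eq_fintype_card, Fintype.card_subtype]
    congr 1
    ext K
    rw [Finset.mem_filter, mem_subgroupsOfCard, Finset.mem_filter]
    simp
  rw [h1]
  apply Nat.card_congr
  exact
    { toFun := fun K => ⟨K.1.subgroupOf H,
        index_subgroupOf_eq p b hp H hH K.1 K.2.1 K.2.2, bot_le⟩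
      invFun := fun M => ⟨M.1.map H.subtype,
        card_map_subtype_eq p b hp H hH M.1 M.2.1, Subgroup.map_subtype_le _⟩
      left_inv := fun K => Subtype.ext (Subgroup.map_subgroupOf_eq_of_le K.2.2)
      right_inv := fun M => Subtype.ext
        (Subgroup.comap_map_eq_self_of_injective (Subgroup.subtype_injective H) M.1) }

theorem nontrivial_of_card (p b : ℕ) (hp : p.Prime) (H : Subgroup G)
    (hH : Nat.card H = p ^ (b + 1)) : Nontrivial H := by
  rw [← Finite.one_lt_card_iff_nontrivial, hH]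
  exact Nat.one_lt_pow (by omega) hp.one_lt

theorem subsBelow_of_cyclic (p b : ℕ) (hp : p.Prime) (H : Subgroup G)
    (hH : Nat.card H = p ^ (b + 1)) (hc : IsCyclic H) : subsBelow (p ^ b) H = 1 := by
  haveI : Fact p.Prime := ⟨hp⟩
  rw [subsBelow_eq_card p b hp H hH]
  exact card_maximal_of_cyclic p (IsPGroup.of_card hH) (nontrivial_of_card p b hp H hH) hc

theorem subsBelow_of_not_cyclic (p b : ℕ) (hp : p.Prime) (H : Subgroup G)
    (hH : Nat.card H = p ^ (b + 1)) (hc : ¬ IsCyclic H) :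
    subsBelow (p ^ b) H ≡ 1 + p [MOD p ^ 2] := by
  haveI : Fact p.Prime := ⟨hp⟩
  rw [subsBelow_eq_card p b hp H hH]
  exact card_maximal_modEq p (IsPGroup.of_card hH) (nontrivial_of_card p b hp H hH) hc

theorem sum_subsBelow_modEq (p b : ℕ) (hp : p.Prime) :
    ∑ H ∈ subgroupsOfCard (G := G) (p ^ (b + 1)), subsBelow (p ^ b) H ≡
      (subgroupsOfCard (G := G) (p ^ (b + 1))).card +
        p * ((subgroupsOfCard (G := G) (p ^ (b + 1))).filter
          (fun H : Subgroup G => ¬ IsCyclic H)).card [MOD p ^ 2] := by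
  have h1 : ∀ H ∈ subgroupsOfCard (G := G) (p ^ (b + 1)),
      subsBelow (p ^ b) H ≡ 1 + p * (if ¬ IsCyclic H then 1 else 0) [MOD p ^ 2] := by
    intro H hH
    rw [mem_subgroupsOfCard] at hH
    by_cases hc : IsCyclic H
    · rw [if_neg (not_not.2 hc), subsBelow_of_cyclic p b hp H hH hc, mul_zero, add_zero]
    · rw [if_pos hc, mul_one]
      exact subsBelow_of_not_cyclic p b hp H hH hc
  refine (Nat.ModEq.sum h1).trans ?_
  rw [Finset.sum_add_distrib, Finset.sum_const, smul_eq_mul, mul_one, ← Finset.mul_sum,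
    Finset.sum_boole]
  rfl

end cmp

noncomputable section cyc

variable {Z : Type*} [Group Z] [Fintype Z] [Fintype (Subgroup Z)] [IsCyclic Z]

theorem cyc_subgroupsOfCard (p k : ℕ) (hp : p.Prime) (hk : p ^ k ∣ Nat.card Z) :
    ∃ H₀ : Subgroup Z, subgroupsOfCard (G := Z) (p ^ k) = {H₀} := by
  haveI : Fact p.Prime := ⟨hp⟩
  obtain ⟨H₀, hH₀⟩ := Sylow.exists_subgroup_card_pow_prime p hk
  refine ⟨H₀, ?_⟩
  ext H
  rw [mem_subgroupsOfCard, Finset.mem_singleton]
  constructor
  · intro h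
    exact cyclic_subgroup_eq_of_card_eq H H₀ (by rw [h, hH₀])
  · rintro rfl
    exact hH₀

theorem cyc_card_subgroupsOfCard (p k : ℕ) (hp : p.Prime) (hk : p ^ k ∣ Nat.card Z) :
    (subgroupsOfCard (G := Z) (p ^ k)).card = 1 := by
  obtain ⟨H₀, h⟩ := cyc_subgroupsOfCard (Z := Z) p k hp hk
  rw [h, Finset.card_singleton]

theorem cyc_sum_subsBelow (p b : ℕ) (hp : p.Prime) (hk : p ^ (b + 1) ∣ Nat.card Z) :
    ∑ H ∈ subgroupsOfCard (G := Z) (p ^ (b + 1)), subsBelow (p ^ b) H = 1 := by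
  obtain ⟨H₀, h⟩ := cyc_subgroupsOfCard (Z := Z) p (b + 1) hp hk
  rw [h, Finset.sum_singleton]
  have hH₀ : Nat.card H₀ = p ^ (b + 1) := by
    rw [← mem_subgroupsOfCard, h]
    exact Finset.mem_singleton_self _
  have hc : IsCyclic H₀ := inferInstance
  exact subsBelow_of_cyclic p b hp H₀ hH₀ hc

end cyc

section binom

theorem card_mulZMod (N : ℕ) : Nat.card (Multiplicative (ZMod N)) = N := by
  have h1 : Nat.card (Multiplicative (ZMod N)) = Nat.card (ZMod N) :=
    Nat.card_congr Multiplicative.toAdd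
  rw [h1, Nat.card_zmod]

theorem binom_congr_one (p a m : ℕ) (hp : p.Prime) (hm : 0 < m) :
    ∃ y, (p ^ a * m).choose (p ^ a) = m + m * p * y := by
  haveI : NeZero (p ^ a * m) := ⟨(Nat.mul_pos (pow_pos hp.pos a) hm).ne'⟩
  letI : Fintype (Subgroup (Multiplicative (ZMod (p ^ a * m)))) := Fintype.ofFinite _
  have hN : Nat.card (Multiplicative (ZMod (p ^ a * m))) = p ^ a * m := card_mulZMod _
  obtain ⟨y, hy⟩ := card_subsets_split_one (G := Multiplicative (ZMod (p ^ a * m))) p a m hp hN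
  refine ⟨y, ?_⟩
  rw [cyc_card_subgroupsOfCard p a hp (by rw [hN]; exact Dvd.intro _ rfl), hN, mul_one] at hy
  exact hy

theorem binom_congr_two (p b m : ℕ) (hp : p.Prime) (hm : 0 < m) :
    ∃ y, (p ^ (b + 1) * m).choose (p ^ (b + 1)) = (p * m).choose p + m * p ^ 2 * y := by
  haveI : NeZero (p ^ (b + 1) * m) := ⟨(Nat.mul_pos (pow_pos hp.pos (b + 1)) hm).ne'⟩
  letI : Fintype (Subgroup (Multiplicative (ZMod (p ^ (b + 1) * m)))) := Fintype.ofFinite _
  have hN : Nat.card (Multiplicative (ZMod (p ^ (b + 1) * m))) = p ^ (b + 1) * m :=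
    card_mulZMod _
  obtain ⟨y, hy⟩ := main_identity (G := Multiplicative (ZMod (p ^ (b + 1) * m))) p b m hp hN
  refine ⟨y, ?_⟩
  have hd1 : p ^ (b + 1) ∣ Nat.card (Multiplicative (ZMod (p ^ (b + 1) * m))) := by
    rw [hN]; exact Dvd.intro _ rfl
  have hd0 : p ^ b ∣ Nat.card (Multiplicative (ZMod (p ^ (b + 1) * m))) :=
    (pow_dvd_pow p (Nat.le_succ b)).trans hd1
  rw [cyc_card_subgroupsOfCard p (b + 1) hp hd1, cyc_card_subgroupsOfCard p b hp hd0,
    cyc_sum_subsBelow p b hp hd1, hN, mul_one, one_mul] at hy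
  omega

theorem choose_eq_mul (p m : ℕ) (hp : p.Prime) (hm : 0 < m) :
    (p * m).choose p = m * (p * m - 1).choose (p - 1) := by
  have h := Nat.add_one_mul_choose_eq (p * m - 1) (p - 1)
  have h1 : p * m - 1 + 1 = p * m := Nat.sub_add_cancel (Nat.mul_pos hp.pos hm)
  have h2 : p - 1 + 1 = p := Nat.sub_add_cancel hp.pos
  rw [h1, h2] at h
  apply Nat.eq_of_mul_eq_mul_right hp.pos
  rw [← h]
  ring

theorem choose_pred_modEq (p m : ℕ) (hp : p.Prime) (hm : 0 < m) :
    (p * m - 1).choose (p - 1) ≡ 1 [MOD p] := by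
  haveI : Fact p.Prime := ⟨hp⟩
  have h := Choose.choose_modEq_choose_mod_mul_choose_div_nat (n := p * m - 1) (k := p - 1)
    (p := p)
  have h1 : p * m - 1 = (p - 1) + p * (m - 1) := by
    obtain ⟨m', rfl⟩ : ∃ m', m = m' + 1 := ⟨m - 1, by omega⟩
    have := hp.pos
    rw [Nat.add_sub_cancel, mul_add, mul_one]
    omega
  have h2 : (p * m - 1) % p = p - 1 := by
    rw [h1, Nat.add_mul_mod_self_left]
    exact Nat.mod_eq_of_lt (Nat.sub_lt hp.pos one_pos)
  have h3 : (p * m - 1) / p = m - 1 := by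
    rw [h1, Nat.add_mul_div_left _ _ hp.pos, Nat.div_eq_of_lt (Nat.sub_lt hp.pos one_pos),
      zero_add]
  have h4 : (p - 1) % p = p - 1 := Nat.mod_eq_of_lt (Nat.sub_lt hp.pos one_pos)
  have h5 : (p - 1) / p = 0 := Nat.div_eq_of_lt (Nat.sub_lt hp.pos one_pos)
  rw [h2, h3, h4, h5, Nat.choose_self, Nat.choose_zero_right] at h
  exact h

end binom

section final

variable (G : Type*) [Group G] [Finite G]

/-- **Frobenius**: the number of subgroups of order `p ^ a` is congruent to `1` modulo `p`. -/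
theorem frobenius (p a : ℕ) (hp : p.Prime) (hdvd : p ^ a ∣ Nat.card G) :
    Nat.card {K : Subgroup G // Nat.card K = p ^ a} ≡ 1 [MOD p] := by
  obtain ⟨m, hm⟩ := hdvd
  have hmpos : 0 < m := by
    rcases Nat.eq_zero_or_pos m with h | h
    · rw [h, mul_zero] at hm
      exact absurd hm Nat.card_pos.ne'
    · exact h
  letI : Fintype G := Fintype.ofFinite G
  letI : Fintype (Subgroup G) := Fintype.ofFinite _
  obtain ⟨y, hy⟩ := card_subsets_split_one (G := G) p a m hp hm
  obtain ⟨z, hz⟩ := binom_congr_one p a m hp hmpos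
  rw [hm, hz, card_subgroupsOfCard] at hy
  set s := Nat.card {K : Subgroup G // Nat.card K = p ^ a} with hs
  have h1 : m * (1 + p * z) = m * (s + p * y) := by
    rw [mul_add, mul_add, mul_one, ← mul_assoc, ← mul_assoc]
    exact hy
  have h2 : 1 + p * z = s + p * y := Nat.eq_of_mul_eq_mul_left hmpos h1
  have h3 : s + p * y ≡ 1 + p * z [MOD p] := by rw [h2]
  have h4 : s + p * y ≡ s [MOD p] := by
    have : p * y ≡ 0 [MOD p] := (Nat.modEq_zero_iff_dvd).2 (Dvd.intro _ rfl)
    simpa using Nat.ModEq.add_left s this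
  have h5 : 1 + p * z ≡ 1 [MOD p] := by
    have : p * z ≡ 0 [MOD p] := (Nat.modEq_zero_iff_dvd).2 (Dvd.intro _ rfl)
    simpa using Nat.ModEq.add_left 1 this
  exact h4.symm.trans (h3.trans h5)

/-- The number of subgroups of order `p ^ b` modulo `p ^ 2`, in terms of the number of noncyclic
subgroups of order `p ^ (b + 1)`. -/
theorem card_subgroups_modEq (p b : ℕ) (hp : p.Prime) (hdvd : p ^ (b + 1) ∣ Nat.card G) :
    Nat.card {K : Subgroup G // Nat.card K = p ^ b} ≡
      1 + p * Nat.card {H : Subgroup G // Nat.card H = p ^ (b + 1) ∧ ¬ IsCyclic H}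
        [MOD p ^ 2] := by
  obtain ⟨m, hm⟩ := hdvd
  have hmpos : 0 < m := by
    rcases Nat.eq_zero_or_pos m with h | h
    · rw [h, mul_zero] at hm
      exact absurd hm Nat.card_pos.ne'
    · exact h
  letI : Fintype G := Fintype.ofFinite G
  letI : Fintype (Subgroup G) := Fintype.ofFinite _
  obtain ⟨y, hy⟩ := main_identity (G := G) p b m hp hm
  obtain ⟨z, hz⟩ := binom_congr_two p b m hp hmpos
  have hsum := sum_subsBelow_modEq (G := G) p b hp
  have hn : ((subgroupsOfCard (G := G) (p ^ (b + 1))).filter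
      (fun H : Subgroup G => ¬ IsCyclic H)).card =
      Nat.card {H : Subgroup G // Nat.card H = p ^ (b + 1) ∧ ¬ IsCyclic H} := by
    rw [Nat.card_eq_fintype_card, Fintype.card_subtype]
    congr 1
    ext H
    rw [Finset.mem_filter, mem_subgroupsOfCard, Finset.mem_filter]
    simp
  rw [hn] at hsum
  rw [hm, hz, choose_eq_mul p m hp hmpos, card_subgroupsOfCard, card_subgroupsOfCard] at hy
  rw [card_subgroupsOfCard] at hsum
  have hC := choose_pred_modEq p m hp hmpos
  set C := (p * m - 1).choose (p - 1) with hCdef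
  set s₁ := Nat.card {H : Subgroup G // Nat.card H = p ^ (b + 1)} with hs₁
  set s₀ := Nat.card {K : Subgroup G // Nat.card K = p ^ b} with hs₀
  set n := Nat.card {H : Subgroup G // Nat.card H = p ^ (b + 1) ∧ ¬ IsCyclic H} with hndef
  set sm := ∑ H ∈ subgroupsOfCard (G := G) (p ^ (b + 1)), subsBelow (p ^ b) H with hsmdef
  have h1 : m * (C + p ^ 2 * z + sm) = m * (s₁ + s₀ * C + p ^ 2 * y) := by
    have e1 : m * (C + p ^ 2 * z + sm) = m * C + m * p ^ 2 * z + m * sm := by ring
    have e2 : m * (s₁ + s₀ * C + p ^ 2 * y) = m * s₁ + s₀ * (m * C) + m * p ^ 2 * y := by ring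
    rw [e1, e2]
    exact hy
  have h2 : C + p ^ 2 * z + sm = s₁ + s₀ * C + p ^ 2 * y := Nat.eq_of_mul_eq_mul_left hmpos h1
  have hz0 : ∀ t : ℕ, p ^ 2 * t ≡ 0 [MOD p ^ 2] := fun t =>
    (Nat.modEq_zero_iff_dvd).2 (Dvd.intro _ rfl)
  have h3 : C + sm ≡ s₁ + s₀ * C [MOD p ^ 2] := by
    have e1 : C + p ^ 2 * z + sm ≡ C + 0 + sm [MOD p ^ 2] :=
      Nat.ModEq.add_right _ (Nat.ModEq.add_left _ (hz0 z))
    have e2 : s₁ + s₀ * C + p ^ 2 * y ≡ s₁ + s₀ * C + 0 [MOD p ^ 2] :=
      Nat.ModEq.add_left _ (hz0 y)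
    rw [add_zero] at e1 e2
    rw [h2] at e1
    exact e1.symm.trans e2
  have h4 : C + (s₁ + p * n) ≡ s₁ + s₀ * C [MOD p ^ 2] :=
    (Nat.ModEq.add_left C hsum).symm.trans h3
  have h5 : s₁ + (C + p * n) ≡ s₁ + s₀ * C [MOD p ^ 2] := by
    have : s₁ + (C + p * n) = C + (s₁ + p * n) := by ring
    rw [this]; exact h4
  have h6 : C + p * n ≡ s₀ * C [MOD p ^ 2] := Nat.ModEq.add_left_cancel' s₁ h5
  -- `C = 1 + p t`
  have hCpos : 1 ≤ C := by
    rcases Nat.eq_zero_or_pos C with h | h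
    · rw [h] at hC
      have := hC.symm
      rw [Nat.modEq_zero_iff_dvd] at this
      exact absurd (Nat.dvd_one.1 this) hp.one_lt.ne'
    · exact h
  obtain ⟨t, ht⟩ : ∃ t, C = 1 + p * t := by
    have := (Nat.modEq_iff_dvd' hCpos).1 hC.symm
    obtain ⟨t, ht⟩ := this
    exact ⟨t, by omega⟩
  have h7 : (1 + p * n) * C ≡ C + p * n [MOD p ^ 2] := by
    have e : (1 + p * n) * C = C + p * n + p ^ 2 * (n * t) := by
      rw [ht]; ring
    rw [e]
    have := Nat.ModEq.add_left (C + p * n) (hz0 (n * t))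
    rwa [add_zero] at this
  have hcop : (p ^ 2).gcd C = 1 := by
    apply Nat.Coprime.pow_left
    rw [Nat.coprime_comm]
    have := hC.gcd_eq
    unfold Nat.Coprime
    rw [this]
    exact Nat.gcd_one_left p
  exact (Nat.ModEq.cancel_right_of_coprime hcop (h7.trans h6)).symm

end final

end Cfsg.Agent.Lib.Helper4.PW
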