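import Mathlib
import Cfsg.Agent.Lib.Helper4.GenFusion
import Cfsg.Agent.Lib.Helper4.WellPlaced
import Cfsg.Agent.Lib.Helper4.Sect3
import Cfsg.Agent.Lib.Lead.CoprimeSylow4

set_option autoImplicit false
open Pointwise

/-! Control of strong fusion by a pair `(W, V)` of a conjugacy functor and a central functor. -/

namespace Cfsg.Agent.Lib.Helper4

open Cfsg Cfsg.Agent.Lib.Helper7

variable {G : Type*} [Group G]

/-- the steps for the pair `(W, V)` relative to the `p`-subgroup `T`: elements of `N(W T)` or `C(V T)` -/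
def pairSteps (W V : Subgroup G → Subgroup G) (T : Subgroup G) : Set G :=
  {y | y ∈ Subgroup.normalizer ((W T : Subgroup G) : Set G) ∨
    y ∈ Subgroup.centralizer ((V T : Subgroup G) : Set G)}

/-- the local steps: elements of `N(H)` that are steps relative to `T` -/
def pairStepsIn (W V : Subgroup G → Subgroup G) (H T : Subgroup G) : Set G :=
  {y | y ∈ Subgroup.normalizer (H : Set G) ∧ y ∈ pairSteps W V T}

variable {W V : Subgroup G → Subgroup G}

theorem pairSteps_inv {T : Subgroup G} : ∀ y ∈ pairSteps W V T, y⁻¹ ∈ pairSteps W V T := by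
  rintro y (hy | hy)
  · exact Or.inl (Subgroup.inv_mem _ hy)
  · exact Or.inr (Subgroup.inv_mem _ hy)

theorem pairStepsIn_inv {H T : Subgroup G} : ∀ y ∈ pairStepsIn W V H T, y⁻¹ ∈ pairStepsIn W V H T := by
  rintro y ⟨hy1, hy2⟩
  exact ⟨Subgroup.inv_mem _ hy1, pairSteps_inv y hy2⟩

theorem pairStepsIn_subset (H T : Subgroup G) : pairStepsIn W V H T ⊆ pairSteps W V T :=
  fun _ hy => hy.2

theorem mem_centralizer_cj {g y : G} {K : Subgroup G} :
    y ∈ Subgroup.centralizer ((cj g K : Subgroup G) : Set G) ↔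
      g⁻¹ * y * g ∈ Subgroup.centralizer (K : Set G) := by
  rw [Subgroup.mem_centralizer_iff, Subgroup.mem_centralizer_iff]
  constructor
  · intro h k hk
    have h1 := h (g * k * g⁻¹) ((mem_cj _ _ _).mpr (by
      have : g⁻¹ * (g * k * g⁻¹) * g = k := by group
      rw [this]; exact hk))
    calc k * (g⁻¹ * y * g) = g⁻¹ * ((g * k * g⁻¹) * y) * g := by group
      _ = g⁻¹ * (y * (g * k * g⁻¹)) * g := by rw [h1]
      _ = g⁻¹ * y * g * k := by group
  · intro h k hk
    have hk' := (mem_cj _ _ _).mp hk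
    have h1 := h _ hk'
    calc k * y = g * ((g⁻¹ * k * g) * (g⁻¹ * y * g)) * g⁻¹ := by group
      _ = g * ((g⁻¹ * y * g) * (g⁻¹ * k * g)) * g⁻¹ := by rw [h1]
      _ = y * k := by group

theorem mem_normalizer_cj {g y : G} {K : Subgroup G} :
    y ∈ Subgroup.normalizer ((cj g K : Subgroup G) : Set G) ↔
      g⁻¹ * y * g ∈ Subgroup.normalizer (K : Set G) := by
  rw [normalizer_cj, mem_cj]

/-- equivariance of the step sets -/
theorem lc_pairSteps {p : ℕ} (hW : IsConjugacyFunctor p W) (hV : IsConjugacyFunctor p V) {T : Subgroup G}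
    (hT : IsPGroup p T) (g : G) : lc g (pairSteps W V T) = pairSteps W V (cj g T) := by
  have hWT : W (cj g T) = cj g (W T) := (hW T hT).2.2 g
  have hVT : V (cj g T) = cj g (V T) := (hV T hT).2.2 g
  ext y
  rw [mem_lc]
  unfold pairSteps
  simp only [Set.mem_ofPred_eq]
  rw [hWT, hVT, mem_normalizer_cj, mem_centralizer_cj]

theorem lc_pairStepsIn {p : ℕ} (hW : IsConjugacyFunctor p W) (hV : IsConjugacyFunctor p V)
    {H T : Subgroup G} (hT : IsPGroup p T) (g : G) :
    lc g (pairStepsIn W V H T) = pairStepsIn W V (cj g H) (cj g T) := by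
  ext y
  rw [mem_lc]
  unfold pairStepsIn
  simp only [Set.mem_ofPred_eq]
  rw [← lc_pairSteps hW hV hT g, mem_lc, mem_normalizer_cj]

theorem pairStepsIn_of_mem_normalizer {H T : Subgroup G} : pairStepsIn W V H T ⊆ Subgroup.normalizer (H : Set G) :=
  fun _ hy => hy.1

/-- `(W, V)` controls strong fusion in `N(H)` with respect to the Sylow subgroup `Q` of `N(H)` -/
def PairLocal (W V : Subgroup G → Subgroup G) (H Q : Subgroup G) : Prop :=
  ∀ (X : Set G) (a : G), X ⊆ Q → a ∈ Subgroup.normalizer (H : Set G) → lc a X ⊆ Q →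
    GReach (pairStepsIn W V H Q) Q X a

theorem PairLocal.conj {p : ℕ} (hW : IsConjugacyFunctor p W) (hV : IsConjugacyFunctor p V)
    {H Q : Subgroup G} (hQ : IsPGroup p Q) (h : PairLocal W V H Q) (g : G) :
    PairLocal W V (cj g H) (cj g Q) := by
  intro X a hX ha haX
  have hX' : lc g⁻¹ X ⊆ Q := by
    have := lc_mono g⁻¹ hX
    rwa [← lc_subgroup, lc_inv_lc] at this
  have ha' : g⁻¹ * a * g ∈ Subgroup.normalizer (H : Set G) := mem_normalizer_cj.mp ha
  have haX' : lc (g⁻¹ * a * g) (lc g⁻¹ X) ⊆ Q := by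
    rw [← lc_mul]
    have e : g⁻¹ * a * g * g⁻¹ = g⁻¹ * a := by group
    rw [e, lc_mul]
    have := lc_mono g⁻¹ haX
    rwa [← lc_subgroup, lc_inv_lc] at this
  have h1 := (h _ _ hX' ha' haX').conj g
  rw [lc_pairStepsIn hW hV hQ, lc_lc_inv] at h1
  have e : g * (g⁻¹ * a * g) * g⁻¹ = a := by group
  rwa [e] at h1

variable [Finite G] {p : ℕ} [hp : Fact p.Prime]

/-- the local control property with respect to any Sylow subgroup of `N(H)` -/
theorem PairLocal.of_sylow (hW : IsConjugacyFunctor p W) (hV : IsConjugacyFunctor p V)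
    {H Q R : Subgroup G} (hQN : Q ≤ Subgroup.normalizer (H : Set G)) (hQ : IsPGroup p Q)
    (hQi : ¬ p ∣ Q.relIndex (Subgroup.normalizer (H : Set G)))
    (hRN : R ≤ Subgroup.normalizer (H : Set G)) (hR : IsPGroup p R)
    (hRi : ¬ p ∣ R.relIndex (Subgroup.normalizer (H : Set G))) (h : PairLocal W V H Q) :
    PairLocal W V H R := by
  obtain ⟨y, hyN, hy⟩ := sylow_conj_rel hQN hQ hQi hRN hR hRi
  have h1 := h.conj hW hV hQ y
  rwa [hy, mem_normalizer_iff_cj.mp hyN] at h1

theorem inf_centralizer_ne_bot {S : Subgroup G} (hS : IsPGroup p S) (hne : S ≠ ⊥) :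
    S ⊓ Subgroup.centralizer (S : Set G) ≠ ⊥ := by
  have : Nontrivial ↥S := (Subgroup.nontrivial_iff_ne_bot S).mpr hne
  have h1 := hS.center_nontrivial
  obtain ⟨z, hz⟩ := exists_ne (1 : ↥(Subgroup.center ↥S))
  intro hbot
  apply hz
  have h2 : ((z : ↥S) : G) ∈ S ⊓ Subgroup.centralizer (S : Set G) := by
    refine ⟨(z : ↥S).2, ?_⟩
    show ((z : ↥S) : G) ∈ Subgroup.centralizer (S : Set G)
    rw [Subgroup.mem_centralizer_iff]
    intro s hs
    have := Subgroup.mem_center_iff.mp z.2 ⟨s, hs⟩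
    exact congrArg Subtype.val this
  rw [hbot, Subgroup.mem_bot] at h2
  apply Subtype.ext
  apply Subtype.ext
  exact h2

omit hp in
/-- from the Alperin–Goldschmidt decomposition to `GReach`, with a bound on the orders -/
theorem greach_of_via {St : Set G} (S : Sylow p G) {A : Set G} {k : G}
    (hv : Via (GoldFam S) A k) (hA : A ⊆ (S : Subgroup G))
    (hstep : ∀ D ∈ GoldFam S, A.ncard ≤ Nat.card D → ∀ x ∈ Subgroup.normalizer (D : Set G),
      GReach St (S : Subgroup G) (D : Set G) x) :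
    GReach St (S : Subgroup G) A k⁻¹ := by
  induction hv with
  | nil A =>
    rw [inv_one]
    exact GReach.refl hA
  | cons A T x g hT hx hAT _ ih =>
    rw [mul_inv_rev]
    have hcard : A.ncard ≤ Nat.card T := by
      have := Set.ncard_le_ncard hAT (Set.toFinite _)
      exact this
    have h1 : GReach St (S : Subgroup G) A x⁻¹ :=
      (hstep T hT hcard x⁻¹ (Subgroup.inv_mem _ hx)).mono hAT
    have e : lc x⁻¹ A = cs x A := by
      unfold lc cs
      rw [inv_inv]
    apply GReach.trans h1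
    rw [e]
    apply ih
    · exact (cs_subset_of_mem_normalizer hx hAT).trans (by exact_mod_cast hT.1)
    · intro D hD hc
      rw [ncard_cs] at hc
      exact hstep D hD hc

/-- it suffices to control the normalizers of the large members of the Alperin–Goldschmidt family -/
theorem greach_of_goldFam {St : Set G} (S : Sylow p G) (U : Subgroup G) (hU : U ≤ (S : Subgroup G))
    (g : G) (hg : lc g (U : Set G) ⊆ (S : Subgroup G))
    (hstep : ∀ D ∈ GoldFam S, Nat.card U ≤ Nat.card D → ∀ x ∈ Subgroup.normalizer (D : Set G),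
      GReach St (S : Subgroup G) (D : Set G) x) :
    GReach St (S : Subgroup G) (U : Set G) g := by
  have h1 : cs g⁻¹ (U : Set G) ⊆ (S : Subgroup G) := by
    have e : cs g⁻¹ (U : Set G) = lc g (U : Set G) := by
      unfold lc cs
      rw [inv_inv]
    rw [e]; exact hg
  obtain ⟨c, g', hc, hgc, hv⟩ := alperin_goldschmidt_subgroup S _ U hU rfl g⁻¹ h1
  have hUS : (U : Set G) ⊆ (S : Subgroup G) := by exact_mod_cast hU
  have h2 := greach_of_via (St := St) S hv hUS (by
    intro D hD hc
    apply hstep D hD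
    have : (U : Set G).ncard = Nat.card U := rfl
    rw [← this]; exact hc)
  apply h2.congr
  intro a ha
  have hca := Subgroup.mem_centralizer_iff.mp hc a ha
  have hg' : g = g'⁻¹ * c⁻¹ := by
    have : g = (g⁻¹)⁻¹ := by group
    rw [this, hgc]; group
  rw [hg']
  have e : c⁻¹ * a * c = a := by
    calc c⁻¹ * a * c = c⁻¹ * (a * c) := by group
      _ = c⁻¹ * (c * a) := by rw [hca]
      _ = a := by group
  calc g'⁻¹ * a * g'⁻¹⁻¹ = g'⁻¹ * (c⁻¹ * a * c) * g'⁻¹⁻¹ := by rw [e]
    _ = g'⁻¹ * c⁻¹ * a * (g'⁻¹ * c⁻¹)⁻¹ := by group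

end Cfsg.Agent.Lib.Helper4
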