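import Mathlib
import Cfsg.Agent.Lib.Helper4.PairFusion1
import Cfsg.Agent.S2014
import Cfsg.Agent.Lib.Helper4.Sect4

set_option autoImplicit false
open Pointwise

/-! The local-to-global theorem for control of strong fusion by a pair `(W, V)`. -/

namespace Cfsg.Agent.Lib.Helper4

open Cfsg Cfsg.Agent.Lib.Helper7

variable {G : Type*} [Group G]
variable {W V : Subgroup G → Subgroup G}

theorem card_lt_of_lt' [Finite G] {A B : Subgroup G} (hAB : A < B) : Nat.card A < Nat.card B := by
  by_contra hcon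
  push Not at hcon
  exact hAB.ne (Subgroup.eq_of_le_of_card_ge hAB.le hcon)

theorem pair_main [Finite G] {p : ℕ} [Fact p.Prime] (S : Sylow p G)
    (hW : IsConjugacyFunctor p W) (hV : IsConjugacyFunctor p V)
    (hWZ : ∀ H : Subgroup G, IsPGroup p ↥H → H ⊓ Subgroup.centralizer ((H : Subgroup G) : Set G) ≤ W H)
    (hVmono : ∀ R : Subgroup G, R ≤ (S : Subgroup G) →
      (S : Subgroup G) ⊓ Subgroup.centralizer ((S : Subgroup G) : Set G) ≤ R → V (S : Subgroup G) ≤ V R)
    (hloc : ∀ H : Subgroup G, (S : Subgroup G) ⊓ Subgroup.centralizer ((S : Subgroup G) : Set G) ≤ H →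
      H ≤ (S : Subgroup G) → ∀ R : Subgroup G, R ≤ Subgroup.normalizer (H : Set G) → IsPGroup p R →
      ¬ p ∣ R.relIndex (Subgroup.normalizer (H : Set G)) → PairLocal W V H R) :
    ∀ d : ℕ,
      (∀ D ∈ GoldFam S, Nat.card (S : Subgroup G) - Nat.card D = d →
        ∀ x ∈ Subgroup.normalizer (D : Set G),
          GReach (pairSteps W V (S : Subgroup G)) (S : Subgroup G) (D : Set G) x) ∧
      (∀ R : Subgroup G, R ≤ (S : Subgroup G) →
        (S : Subgroup G) ⊓ Subgroup.centralizer ((S : Subgroup G) : Set G) ≤ R →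
        Nat.card (S : Subgroup G) - Nat.card R = d →
        ∀ y ∈ pairSteps W V R, ∀ B : Set G, B ⊆ R → lc y B ⊆ R →
          GReach (pairSteps W V (S : Subgroup G)) (S : Subgroup G) B y) := by
  have hSp : IsPGroup p (S : Subgroup G) := S.isPGroup'
  obtain ⟨Z, hZdef⟩ : ∃ Z, Z = (S : Subgroup G) ⊓ Subgroup.centralizer ((S : Subgroup G) : Set G) :=
    ⟨_, rfl⟩
  rw [← hZdef] at hVmono hloc ⊢
  have hZS : Z ≤ (S : Subgroup G) := by rw [hZdef]; exact inf_le_left
  have hZC : Z ≤ Subgroup.centralizer ((S : Subgroup G) : Set G) := by rw [hZdef]; exact inf_le_right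
  have hinv : ∀ y ∈ pairSteps W V (S : Subgroup G), y⁻¹ ∈ pairSteps W V (S : Subgroup G) := pairSteps_inv
  intro d
  induction d using Nat.strong_induction_on with
  | _ d ih =>
  -- consequence of part (a) of the induction hypothesis: large subgroups
  have partC : ∀ M : Subgroup G, M ≤ (S : Subgroup G) →
      Nat.card (S : Subgroup G) - Nat.card M < d → ∀ g : G, lc g (M : Set G) ⊆ (S : Subgroup G) →
      GReach (pairSteps W V (S : Subgroup G)) (S : Subgroup G) (M : Set G) g := by
    intro M hMS hMd g hg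
    apply greach_of_goldFam S M hMS g hg
    intro D hD hcard x hx
    have hDle : Nat.card D ≤ Nat.card (S : Subgroup G) := Subgroup.card_le_of_le hD.1
    exact (ih (Nat.card (S : Subgroup G) - Nat.card D) (by omega)).1 D hD rfl x hx
  -- part (b)
  have partB : ∀ R : Subgroup G, R ≤ (S : Subgroup G) → Z ≤ R →
      Nat.card (S : Subgroup G) - Nat.card R = d →
      ∀ y ∈ pairSteps W V R, ∀ B : Set G, B ⊆ R → lc y B ⊆ R →
        GReach (pairSteps W V (S : Subgroup G)) (S : Subgroup G) B y := by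
    intro R hRS hZR hd y hy B hB hyB
    have hBS : B ⊆ (S : Subgroup G) := hB.trans (by exact_mod_cast hRS)
    have hyBS : lc y B ⊆ (S : Subgroup G) := hyB.trans (by exact_mod_cast hRS)
    rcases hy with hy | hy
    swap
    · -- a `V`-step
      have h1 : V (S : Subgroup G) ≤ V R := hVmono R hRS hZR
      have h2 : y ∈ Subgroup.centralizer ((V (S : Subgroup G) : Subgroup G) : Set G) :=
        Subgroup.centralizer_le (by exact_mod_cast h1) hy
      exact GReach.single hBS (Or.inr h2) hyBS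
    -- a `W`-step
    by_cases hReq : R = (S : Subgroup G)
    · subst hReq
      exact GReach.single hBS (Or.inl hy) hyBS
    have hRlt : R < (S : Subgroup G) := lt_of_le_of_ne hRS hReq
    have hRp : IsPGroup p R := hSp.to_le hRS
    obtain ⟨T', hT'⟩ : ∃ T', T' = W R := ⟨_, rfl⟩
    rw [← hT'] at hy
    have hT'R : T' ≤ R := by rw [hT']; exact (hW R hRp).1
    have hT'S : T' ≤ (S : Subgroup G) := hT'R.trans hRS
    have hZT' : Z ≤ T' := by
      rw [hT']
      refine le_trans ?_ (hWZ R hRp)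
      exact le_inf hZR (hZC.trans (Subgroup.centralizer_le (by exact_mod_cast hRS)))
    obtain ⟨M, hM⟩ : ∃ M, M = (S : Subgroup G) ⊓ Subgroup.normalizer (T' : Set G) := ⟨_, rfl⟩
    have hRM : R < M := by
      rw [hM]
      refine lt_of_lt_of_le (Cfsg.Agent.Lib.Lead.pgroup_normalizer_grows p _ R hSp hRlt) ?_
      intro g hg
      refine ⟨hg.1, ?_⟩
      apply mem_normalizer_iff_cj.mpr
      have h1 : W (cj g R) = cj g (W R) := (hW R hRp).2.2 g
      rw [hT', ← h1, mem_normalizer_iff_cj.mp hg.2]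
    obtain ⟨x, hx1, hx2, hx3⟩ := exists_extremal_conj S T' hT'S
    rw [← hM] at hx3
    obtain ⟨V₀, hV₀⟩ : ∃ V₀, V₀ = cj x T' := ⟨_, rfl⟩
    rw [← hV₀] at hx1 hx2 hx3
    obtain ⟨R', hR'⟩ : ∃ R', R' = (S : Subgroup G) ⊓ Subgroup.normalizer (V₀ : Set G) := ⟨_, rfl⟩
    rw [← hR'] at hx2 hx3
    have hR'S : R' ≤ (S : Subgroup G) := by rw [hR']; exact inf_le_left
    have hR'N : R' ≤ Subgroup.normalizer (V₀ : Set G) := by rw [hR']; exact inf_le_right
    have hR'p : IsPGroup p R' := hSp.to_le hR'S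
    have hMS : M ≤ (S : Subgroup G) := by rw [hM]; exact inf_le_left
    have hMcard : Nat.card R < Nat.card M := card_lt_of_lt' hRM
    have hMle : Nat.card M ≤ Nat.card (S : Subgroup G) := Subgroup.card_le_of_le hMS
    have hR'card : Nat.card M ≤ Nat.card R' := by
      rw [← card_cj x M]; exact Subgroup.card_le_of_le hx3
    have hR'le : Nat.card R' ≤ Nat.card (S : Subgroup G) := Subgroup.card_le_of_le hR'S
    have hlcM : lc x (M : Set G) ⊆ R' := by
      rw [lc_subgroup]; exact hx3
    have hZR' : Z ≤ R' := by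
      rw [hR']
      refine le_inf hZS ?_
      refine le_trans ?_ (Subgroup.centralizer_le_normalizer _)
      exact hZC.trans (Subgroup.centralizer_le (by exact_mod_cast hx1))
    -- GReach M x
    have hMx : GReach (pairSteps W V (S : Subgroup G)) (S : Subgroup G) (M : Set G) x :=
      partC M hMS (by omega) x (hlcM.trans (by exact_mod_cast hR'S))
    have hBM : B ⊆ M := hB.trans (by exact_mod_cast hRM.le)
    have hyBM : lc y B ⊆ M := hyB.trans (by exact_mod_cast hRM.le)
    have hBx := hMx.mono hBM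
    have hyBx := hMx.mono hyBM
    obtain ⟨y', hy'⟩ : ∃ y', y' = x * y * x⁻¹ := ⟨_, rfl⟩
    have hy'V : y' ∈ Subgroup.normalizer (V₀ : Set G) := by
      rw [hV₀, mem_normalizer_cj]
      have e : x⁻¹ * y' * x = y := by rw [hy']; group
      rw [e]; exact hy
    have hB'R' : lc x B ⊆ R' := (lc_mono x hBM).trans hlcM
    have hlceq : lc y' (lc x B) = lc x (lc y B) := by
      rw [← lc_mul, ← lc_mul, hy']
      congr 1
      group
    have hB'y' : lc y' (lc x B) ⊆ R' := by
      rw [hlceq]; exact (lc_mono x hyBM).trans hlcM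
    -- the local hypothesis for `T'`, transported to `V₀`
    have hPL : PairLocal W V V₀ R' := by
      have hR''N : cj x⁻¹ R' ≤ Subgroup.normalizer (T' : Set G) := by
        have := cj_mono x⁻¹ hR'N
        rwa [← normalizer_cj, hV₀, cj_inv_cj] at this
      have hR''i : ¬ p ∣ (cj x⁻¹ R').relIndex (Subgroup.normalizer (T' : Set G)) := by
        have e : Subgroup.normalizer (T' : Set G) = cj x⁻¹ (Subgroup.normalizer (V₀ : Set G)) := by
          rw [← normalizer_cj, hV₀, cj_inv_cj]
        rw [e, relIndex_cj]; exact hx2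
      have h1 := hloc T' hZT' hT'S (cj x⁻¹ R') hR''N (isPGroup_cj _ hR'p) hR''i
      have h2 := h1.conj hW hV (isPGroup_cj _ hR'p) x
      rwa [cj_cj_inv, ← hV₀] at h2
    have hloc1 := hPL (lc x B) y' hB'R' hy'V hB'y'
    have hconv : GReach (pairSteps W V (S : Subgroup G)) (S : Subgroup G) (lc x B) y' := by
      apply greach_of_greach hR'S ?_ hloc1
      intro z hz B' hB' hzB'
      exact (ih (Nat.card (S : Subgroup G) - Nat.card R') (by omega)).2 R' hR'S hZR' rfl z hz.2 B' hB' hzB'
    have h1 := GReach.trans hBx hconv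
    have h2 : GReach (pairSteps W V (S : Subgroup G)) (S : Subgroup G) (lc (y' * x) B) x⁻¹ := by
      rw [lc_mul, hlceq]; exact hyBx.symm hinv
    have h3 := GReach.trans h1 h2
    have e : x⁻¹ * (y' * x) = y := by rw [hy']; group
    rwa [e] at h3
  refine ⟨?_, partB⟩
  -- part (a)
  intro D hD hd x hx
  have hDS : D ≤ (S : Subgroup G) := hD.1
  obtain ⟨R, hR⟩ : ∃ R, R = (S : Subgroup G) ⊓ Subgroup.normalizer (D : Set G) := ⟨_, rfl⟩
  have hRi : ¬ p ∣ R.relIndex (Subgroup.normalizer (D : Set G)) := by rw [hR]; exact hD.2.2.2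
  have hRS : R ≤ (S : Subgroup G) := by rw [hR]; exact inf_le_left
  have hRN : R ≤ Subgroup.normalizer (D : Set G) := by rw [hR]; exact inf_le_right
  have hDR : D ≤ R := by rw [hR]; exact le_inf hDS Subgroup.le_normalizer
  have hZD : Z ≤ D := by
    rw [← inf_LG_eq_of_mem_goldFam hD]
    refine le_inf hZS ?_
    refine le_trans ?_ hD.2.1
    exact hZC.trans (Subgroup.centralizer_le (by exact_mod_cast hDS))
  have hPL := hloc D hZD hDS R hRN (hSp.to_le hRS) hRi
  have hxD : lc x (D : Set G) = D := lc_eq_of_mem_normalizer hx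
  have h1 := hPL (D : Set G) x (by exact_mod_cast hDR) hx (by rw [hxD]; exact_mod_cast hDR)
  apply greach_of_greach hRS ?_ h1
  intro z hz B' hB' hzB'
  have hRle : Nat.card R ≤ Nat.card (S : Subgroup G) := Subgroup.card_le_of_le hRS
  have hDRc : Nat.card D ≤ Nat.card R := Subgroup.card_le_of_le hDR
  by_cases hlev : Nat.card (S : Subgroup G) - Nat.card R = d
  · exact partB R hRS (hZD.trans hDR) hlev z hz.2 B' hB' hzB'
  · exact (ih (Nat.card (S : Subgroup G) - Nat.card R) (by omega)).2 R hRS (hZD.trans hDR) rfl z hz.2 B' hB' hzB'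

/-- from a list of steps with the prefix conditions to a chain -/
theorem gchain_of_list {St : Set G} (hinv : ∀ y ∈ St, y⁻¹ ∈ St) {T : Subgroup G} {X : Set G} :
    ∀ L : List G, (∀ y ∈ L, y ∈ St) →
      (∀ k : ℕ, k ≤ L.length → (fun x => ((L.take k).prod)⁻¹ * x * (L.take k).prod) '' X ⊆ T) →
      GChain St T X ((L.prod)⁻¹) := by
  intro L
  induction L using List.reverseRecOn with
  | nil =>
    intro _ h
    rw [List.prod_nil, inv_one]
    apply GChain.nil
    have := h 0 (Nat.zero_le _)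
    intro x hx
    have h1 := this ⟨x, hx, rfl⟩
    simpa using h1
  | append_singleton L y ih =>
    intro hL h
    have hL' : ∀ z ∈ L, z ∈ St := fun z hz => hL z (List.mem_append_left _ hz)
    have hy : y ∈ St := hL y (List.mem_append_right _ (List.mem_singleton.mpr rfl))
    have h' : ∀ k : ℕ, k ≤ L.length →
        (fun x => ((L.take k).prod)⁻¹ * x * (L.take k).prod) '' X ⊆ T := by
      intro k hk
      have := h k (by rw [List.length_append]; omega)
      rwa [List.take_append_of_le_length hk] at this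
    have h1 := ih hL' h'
    have e : ((L ++ [y]).prod)⁻¹ = y⁻¹ * (L.prod)⁻¹ := by
      rw [List.prod_append, List.prod_singleton, mul_inv_rev]
    rw [e]
    apply GChain.step _ _ _ h1 (hinv y hy)
    have h2 := h (L ++ [y]).length le_rfl
    rw [List.take_length] at h2
    rw [← e]
    intro z hz
    obtain ⟨x, hx, rfl⟩ := hz
    have := h2 ⟨x, hx, rfl⟩
    simpa using this

/-- from a chain to a list of steps with the prefix conditions -/
theorem GChain.exists_list {St : Set G} (hinv : ∀ y ∈ St, y⁻¹ ∈ St) {T : Subgroup G} {X : Set G} {c : G}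
    (h : GChain St T X c) :
    ∃ L : List G, (∀ y ∈ L, y ∈ St) ∧ c = (L.prod)⁻¹ ∧
      ∀ k : ℕ, k ≤ L.length → (fun x => ((L.take k).prod)⁻¹ * x * (L.take k).prod) '' X ⊆ T := by
  induction h with
  | nil hX =>
    refine ⟨[], by simp, by simp, ?_⟩
    intro k _
    rintro _ ⟨x, hx, rfl⟩
    simpa using hX hx
  | step c y _ h2 h3 ih =>
    obtain ⟨L, hL, hc, hk⟩ := ih
    refine ⟨L ++ [y⁻¹], ?_, ?_, ?_⟩
    · intro z hz
      rcases List.mem_append.mp hz with hz | hz
      · exact hL z hz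
      · rw [List.mem_singleton.mp hz]; exact hinv y h2
    · rw [List.prod_append, List.prod_singleton, mul_inv_rev, inv_inv, ← hc]
    · intro k hkl
      rw [List.length_append, List.length_singleton] at hkl
      by_cases hk' : k ≤ L.length
      · rw [List.take_append_of_le_length hk']
        exact hk k hk'
      · have hkeq : k = (L ++ [y⁻¹]).length := by
          rw [List.length_append, List.length_singleton]; omega
        rw [hkeq, List.take_length]
        have e : (L ++ [y⁻¹]).prod = (y * c)⁻¹ := by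
          rw [List.prod_append, List.prod_singleton, mul_inv_rev, hc, inv_inv]
        rw [e, inv_inv]
        rintro _ ⟨x, hx, rfl⟩
        exact h3 ⟨x, hx, rfl⟩

/-- the local hypothesis of the statement gives `PairLocal` -/
theorem pairLocal_of_list {W V : Subgroup G → Subgroup G} {H Q : Subgroup G}
    (h : ∀ (X : Set G) (a : G), X ⊆ Q → a ∈ Subgroup.normalizer ((H : Subgroup G) : Set G) →
      (fun x => a⁻¹ * x * a) '' X ⊆ Q →
      ∃ c ∈ Subgroup.normalizer ((H : Subgroup G) : Set G) ⊓ Subgroup.centralizer X,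
      ∃ (n : ℕ) (b : Fin n → G),
        (∀ i, b i ∈ Subgroup.normalizer ((H : Subgroup G) : Set G) ⊓
            Subgroup.normalizer ((W Q : Subgroup G) : Set G) ∨
          b i ∈ Subgroup.normalizer ((H : Subgroup G) : Set G) ⊓
            Subgroup.centralizer ((V Q : Subgroup G) : Set G)) ∧
        a = c * (List.ofFn b).prod ∧
        ∀ k : ℕ, k ≤ n → (fun x => (((List.ofFn b).take k).prod)⁻¹ * x * ((List.ofFn b).take k).prod) ''
          ((fun x => c⁻¹ * x * c) '' X) ⊆ Q) :
    PairLocal W V H Q := by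
  intro X g hX hg hgX
  have hgX' : (fun x => (g⁻¹)⁻¹ * x * g⁻¹) '' X ⊆ Q := by
    rw [inv_inv]; exact hgX
  obtain ⟨c, hc, n, b, hb, hgc, hk⟩ := h X g⁻¹ hX (Subgroup.inv_mem _ hg) hgX'
  have hcX : ∀ x ∈ X, c⁻¹ * x * c = x := by
    intro x hx
    have := Subgroup.mem_centralizer_iff.mp hc.2 x hx
    calc c⁻¹ * x * c = c⁻¹ * (x * c) := by group
      _ = c⁻¹ * (c * x) := by rw [this]
      _ = x := by group
  have hXc : (fun x => c⁻¹ * x * c) '' X = X := by
    ext x
    constructor
    · rintro ⟨x', hx', rfl⟩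
      show _ * x' * _ ∈ X
      rw [hcX x' hx']; exact hx'
    · intro hx
      exact ⟨x, hx, hcX x hx⟩
  rw [hXc] at hk
  have hL : ∀ y ∈ List.ofFn b, y ∈ pairStepsIn W V H Q := by
    intro y hy
    obtain ⟨i, rfl⟩ := (List.mem_ofFn' b y).mp hy
    rcases hb i with h1 | h1
    · exact ⟨h1.1, Or.inl h1.2⟩
    · exact ⟨h1.1, Or.inr h1.2⟩
  have hch := gchain_of_list (pairStepsIn_inv (W := W) (V := V) (H := H) (T := Q)) (List.ofFn b) hL
    (by intro k hk'; rw [List.length_ofFn] at hk'; exact hk k hk')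
  refine ⟨_, hch, ?_⟩
  intro x hx
  have hg' : g = ((List.ofFn b).prod)⁻¹ * c⁻¹ := by
    have := congrArg (fun t => t⁻¹) hgc
    simpa using this
  rw [hg']
  calc ((List.ofFn b).prod)⁻¹ * x * ((List.ofFn b).prod)⁻¹⁻¹
      = ((List.ofFn b).prod)⁻¹ * (c⁻¹ * x * c) * ((List.ofFn b).prod)⁻¹⁻¹ := by rw [hcX x hx]
    _ = ((List.ofFn b).prod)⁻¹ * c⁻¹ * x * (((List.ofFn b).prod)⁻¹ * c⁻¹)⁻¹ := by group

/-- `GReach` gives the conclusion of the statement -/
theorem list_of_greach {W V : Subgroup G → Subgroup G} {Q : Subgroup G} {X : Set G} {a : G}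
    (h : GReach (pairSteps W V Q) Q X a⁻¹) :
    ∃ c ∈ Subgroup.centralizer X, ∃ (n : ℕ) (b : Fin n → G),
      (∀ i, b i ∈ (⊤ : Subgroup G) ⊓ Subgroup.normalizer ((W Q : Subgroup G) : Set G) ∨
        b i ∈ (⊤ : Subgroup G) ⊓ Subgroup.centralizer ((V Q : Subgroup G) : Set G)) ∧
      a = c * (List.ofFn b).prod ∧
      ∀ k : ℕ, k ≤ n → (fun x => (((List.ofFn b).take k).prod)⁻¹ * x * ((List.ofFn b).take k).prod) ''
        ((fun x => c⁻¹ * x * c) '' X) ⊆ Q := by
  obtain ⟨c₀, hch, hceq⟩ := h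
  obtain ⟨L, hL, hc₀, hk⟩ := hch.exists_list pairSteps_inv
  have hcC : a * c₀ ∈ Subgroup.centralizer X := by
    rw [Subgroup.mem_centralizer_iff]
    intro x hx
    have h1 := hceq x hx
    rw [inv_inv] at h1
    calc x * (a * c₀) = a * (a⁻¹ * x * a) * c₀ := by group
      _ = a * (c₀ * x * c₀⁻¹) * c₀ := by rw [h1]
      _ = a * c₀ * x := by group
  have hcX : ∀ x ∈ X, (a * c₀)⁻¹ * x * (a * c₀) = x := by
    intro x hx
    have := Subgroup.mem_centralizer_iff.mp hcC x hx
    calc (a * c₀)⁻¹ * x * (a * c₀) = (a * c₀)⁻¹ * (x * (a * c₀)) := by group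
      _ = (a * c₀)⁻¹ * ((a * c₀) * x) := by rw [this]
      _ = x := by group
  have hXc : (fun x => (a * c₀)⁻¹ * x * (a * c₀)) '' X = X := by
    ext x
    constructor
    · rintro ⟨x', hx', rfl⟩
      show _ * x' * _ ∈ X
      rw [hcX x' hx']; exact hx'
    · intro hx
      exact ⟨x, hx, hcX x hx⟩
  refine ⟨a * c₀, hcC, L.length, fun i => L.get i, ?_, ?_, ?_⟩
  · intro i
    rcases hL (L.get i) (List.get_mem L i) with h1 | h1
    · exact Or.inl ⟨Subgroup.mem_top _, h1⟩
    · exact Or.inr ⟨Subgroup.mem_top _, h1⟩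
  · rw [List.ofFn_get, hc₀]; group
  · intro k hk'
    rw [List.ofFn_get, hXc]
    exact hk k hk'

end Cfsg.Agent.Lib.Helper4
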