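import Mathlib
import Cfsg.Agent.Lib.Helper4.PairFusion2
import Cfsg.Agent.Lib.Helper4.TransferSect2

set_option autoImplicit false
open Pointwise
open scoped commutatorElement

/-! Control of transfer by a pair `(W, V)` of a conjugacy functor and a central functor. -/

namespace Cfsg.Agent.Lib.Helper4

open Cfsg Cfsg.Agent.Lib.Helper7

variable {G : Type*} [Group G]
variable {W V : Subgroup G → Subgroup G}

theorem centralizer_cj (g : G) (K : Subgroup G) :
    Subgroup.centralizer ((cj g K : Subgroup G) : Set G) = cj g (Subgroup.centralizer (K : Set G)) := by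
  ext y
  rw [mem_centralizer_cj, mem_cj]

/-- the `W`-part of the transfer target in `L` relative to `T` -/
def ptA (W : Subgroup G → Subgroup G) (L T : Subgroup G) : Subgroup G :=
  T ⊓ ⁅L ⊓ Subgroup.normalizer ((W T : Subgroup G) : Set G), L ⊓ Subgroup.normalizer ((W T : Subgroup G) : Set G)⁆

/-- the `V`-part of the transfer target in `L` relative to `T` -/
def ptB (V : Subgroup G → Subgroup G) (L T : Subgroup G) : Subgroup G :=
  T ⊓ ⁅L ⊓ Subgroup.centralizer ((V T : Subgroup G) : Set G), L ⊓ Subgroup.centralizer ((V T : Subgroup G) : Set G)⁆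

/-- `(W, V)` controls transfer in `N(H)` with respect to the Sylow subgroup `Q` of `N(H)` -/
def PairTLocal (W V : Subgroup G → Subgroup G) (H Q : Subgroup G) : Prop :=
  Q ⊓ ⁅Subgroup.normalizer (H : Set G), Subgroup.normalizer (H : Set G)⁆ ≤
    ptA W (Subgroup.normalizer (H : Set G)) Q ⊔ ptB V (Subgroup.normalizer (H : Set G)) Q

theorem cj_ptA {p : ℕ} (hW : IsConjugacyFunctor p W) {L T : Subgroup G} (hT : IsPGroup p T) (g : G) :
    cj g (ptA W L T) = ptA W (cj g L) (cj g T) := by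
  have hWT : W (cj g T) = cj g (W T) := (hW T hT).2.2 g
  unfold ptA
  rw [cj_inf, cj_commutator, cj_inf, hWT, normalizer_cj]

theorem cj_ptB {p : ℕ} (hV : IsConjugacyFunctor p V) {L T : Subgroup G} (hT : IsPGroup p T) (g : G) :
    cj g (ptB V L T) = ptB V (cj g L) (cj g T) := by
  have hVT : V (cj g T) = cj g (V T) := (hV T hT).2.2 g
  unfold ptB
  rw [cj_inf, cj_commutator, cj_inf, hVT, centralizer_cj]

theorem PairTLocal.conj {p : ℕ} (hW : IsConjugacyFunctor p W) (hV : IsConjugacyFunctor p V)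
    {H Q : Subgroup G} (hQ : IsPGroup p Q) (h : PairTLocal W V H Q) (g : G) :
    PairTLocal W V (cj g H) (cj g Q) := by
  unfold PairTLocal at h ⊢
  have h1 := cj_mono g h
  rw [cj_inf, cj_commutator, cj_sup, cj_ptA hW hQ, cj_ptB hV hQ, ← normalizer_cj] at h1
  exact h1

variable [Finite G] {p : ℕ} [hp : Fact p.Prime]

theorem PairTLocal.of_sylow (hW : IsConjugacyFunctor p W) (hV : IsConjugacyFunctor p V)
    {H Q R : Subgroup G} (hQN : Q ≤ Subgroup.normalizer (H : Set G)) (hQ : IsPGroup p Q)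
    (hQi : ¬ p ∣ Q.relIndex (Subgroup.normalizer (H : Set G)))
    (hRN : R ≤ Subgroup.normalizer (H : Set G)) (hR : IsPGroup p R)
    (hRi : ¬ p ∣ R.relIndex (Subgroup.normalizer (H : Set G))) (h : PairTLocal W V H Q) :
    PairTLocal W V H R := by
  obtain ⟨y, hyN, hy⟩ := sylow_conj_rel hQN hQ hQi hRN hR hRi
  have h1 := h.conj hW hV hQ y
  rwa [hy, mem_normalizer_iff_cj.mp hyN] at h1

omit hp in
/-- the focal computation along an Alperin–Goldschmidt decomposition, with a bound on the orders -/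
theorem via_focal (S : Sylow p G) (D : Subgroup G) {A : Set G} {g : G}
    (hv : Via (GoldFam S) A g)
    (h : ∀ T ∈ GoldFam S, A.ncard ≤ Nat.card T → ∀ x ∈ Subgroup.normalizer (T : Set G), ∀ a ∈ T,
      a⁻¹ * (x * a * x⁻¹) ∈ D) :
    ∀ a ∈ A, a⁻¹ * (g⁻¹ * a * g) ∈ D := by
  induction hv with
  | nil A =>
    intro a _
    simp
  | cons A T x g hT hx hA _ ih =>
    intro a ha
    have hcard : A.ncard ≤ Nat.card T := by
      have := Set.ncard_le_ncard hA (Set.toFinite _)
      exact this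
    have h1 := h T hT hcard x⁻¹ (Subgroup.inv_mem _ hx) a (hA ha)
    rw [inv_inv] at h1
    have h2 := ih (by
      intro T' hT' hc
      rw [ncard_cs] at hc
      exact h T' hT' hc) (x⁻¹ * a * x) ⟨a, ha, rfl⟩
    have e : a⁻¹ * ((x * g)⁻¹ * a * (x * g))
        = (a⁻¹ * (x⁻¹ * a * x)) * ((x⁻¹ * a * x)⁻¹ * (g⁻¹ * (x⁻¹ * a * x) * g)) := by group
    rw [e]
    exact D.mul_mem h1 h2

/-- the focal computation for a subgroup `M` of `S` -/
theorem focal_of_goldFam_subgroup (S : Sylow p G) (D : Subgroup G) (M : Subgroup G)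
    (hM : M ≤ (S : Subgroup G)) (g : G) (hg : lc g (M : Set G) ⊆ (S : Subgroup G))
    (h : ∀ T ∈ GoldFam S, Nat.card M ≤ Nat.card T → ∀ x ∈ Subgroup.normalizer (T : Set G), ∀ a ∈ T,
      a⁻¹ * (x * a * x⁻¹) ∈ D) :
    ∀ a ∈ M, a⁻¹ * (g * a * g⁻¹) ∈ D := by
  have h1 : cs g⁻¹ (M : Set G) ⊆ (S : Subgroup G) := by
    have e : cs g⁻¹ (M : Set G) = lc g (M : Set G) := by
      unfold lc cs
      rw [inv_inv]
    rw [e]; exact hg
  obtain ⟨c, g', hc, hgc, hv⟩ := alperin_goldschmidt_subgroup S _ M hM rfl g⁻¹ h1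
  have h2 := via_focal S D hv (by
    intro T hT hcard
    apply h T hT
    have : (M : Set G).ncard = Nat.card M := rfl
    rw [← this]; exact hcard)
  intro a ha
  have h3 := h2 a ha
  have hca := Subgroup.mem_centralizer_iff.mp hc a ha
  have hg' : g = g'⁻¹ * c⁻¹ := by
    have : g = (g⁻¹)⁻¹ := by group
    rw [this, hgc]; group
  have e : c⁻¹ * a * c = a := by
    calc c⁻¹ * a * c = c⁻¹ * (a * c) := by group
      _ = c⁻¹ * (c * a) := by rw [hca]
      _ = a := by group
  have e2 : g * a * g⁻¹ = g'⁻¹ * a * g' := by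
    rw [hg']
    calc g'⁻¹ * c⁻¹ * a * (g'⁻¹ * c⁻¹)⁻¹ = g'⁻¹ * (c⁻¹ * a * c) * g' := by group
      _ = g'⁻¹ * a * g' := by rw [e]
  rw [e2]
  exact h3

theorem pair_transfer_main [Finite G] {p : ℕ} [Fact p.Prime] (S : Sylow p G)
    (hW : IsConjugacyFunctor p W) (hV : IsConjugacyFunctor p V)
    (hWZ : ∀ H : Subgroup G, IsPGroup p ↥H → H ⊓ Subgroup.centralizer ((H : Subgroup G) : Set G) ≤ W H)
    (hVmono : ∀ R : Subgroup G, R ≤ (S : Subgroup G) →
      (S : Subgroup G) ⊓ Subgroup.centralizer ((S : Subgroup G) : Set G) ≤ R → V (S : Subgroup G) ≤ V R)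
    (hloc : ∀ H : Subgroup G, (S : Subgroup G) ⊓ Subgroup.centralizer ((S : Subgroup G) : Set G) ≤ H →
      H ≤ (S : Subgroup G) → ∀ R : Subgroup G, R ≤ Subgroup.normalizer (H : Set G) → IsPGroup p R →
      ¬ p ∣ R.relIndex (Subgroup.normalizer (H : Set G)) → PairTLocal W V H R)
    (D : Subgroup G) (hD : D = ptA W ⊤ (S : Subgroup G) ⊔ ptB V ⊤ (S : Subgroup G)) :
    ∀ d : ℕ,
      (∀ D₀ ∈ GoldFam S, Nat.card (S : Subgroup G) - Nat.card D₀ = d →
        ∀ x ∈ Subgroup.normalizer (D₀ : Set G), ∀ a ∈ D₀, a⁻¹ * (x * a * x⁻¹) ∈ D) ∧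
      (∀ R : Subgroup G, R ≤ (S : Subgroup G) →
        (S : Subgroup G) ⊓ Subgroup.centralizer ((S : Subgroup G) : Set G) ≤ R →
        Nat.card (S : Subgroup G) - Nat.card R = d →
        ptA W ⊤ R ⊔ ptB V ⊤ R ≤ D) := by
  have hSp : IsPGroup p (S : Subgroup G) := S.isPGroup'
  obtain ⟨Z, hZdef⟩ : ∃ Z, Z = (S : Subgroup G) ⊓ Subgroup.centralizer ((S : Subgroup G) : Set G) :=
    ⟨_, rfl⟩
  rw [← hZdef] at hVmono hloc ⊢
  have hZS : Z ≤ (S : Subgroup G) := by rw [hZdef]; exact inf_le_left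
  have hZC : Z ≤ Subgroup.centralizer ((S : Subgroup G) : Set G) := by rw [hZdef]; exact inf_le_right
  have hAD : ptA W ⊤ (S : Subgroup G) ≤ D := by rw [hD]; exact le_sup_left
  have hBD : ptB V ⊤ (S : Subgroup G) ≤ D := by rw [hD]; exact le_sup_right
  intro d
  induction d using Nat.strong_induction_on with
  | _ d ih =>
  -- consequence of part (a) of the induction hypothesis: large subgroups
  have partC : ∀ M : Subgroup G, M ≤ (S : Subgroup G) →
      Nat.card (S : Subgroup G) - Nat.card M < d → ∀ g : G, lc g (M : Set G) ⊆ (S : Subgroup G) →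
      ∀ a ∈ M, a⁻¹ * (g * a * g⁻¹) ∈ D := by
    intro M hMS hMd g hg
    apply focal_of_goldFam_subgroup S D M hMS g hg
    intro D₀ hD₀ hcard x hx
    have hDle : Nat.card D₀ ≤ Nat.card (S : Subgroup G) := Subgroup.card_le_of_le hD₀.1
    exact (ih (Nat.card (S : Subgroup G) - Nat.card D₀) (by omega)).1 D₀ hD₀ rfl x hx
  -- part (b)
  have partB : ∀ R : Subgroup G, R ≤ (S : Subgroup G) → Z ≤ R →
      Nat.card (S : Subgroup G) - Nat.card R = d → ptA W ⊤ R ⊔ ptB V ⊤ R ≤ D := by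
    intro R hRS hZR hd
    apply sup_le
    swap
    · -- the `V`-part
      have h1 : V (S : Subgroup G) ≤ V R := hVmono R hRS hZR
      have h2 : Subgroup.centralizer ((V R : Subgroup G) : Set G) ≤
          Subgroup.centralizer ((V (S : Subgroup G) : Subgroup G) : Set G) :=
        Subgroup.centralizer_le (by exact_mod_cast h1)
      refine le_trans ?_ hBD
      unfold ptB
      exact inf_le_inf hRS (Subgroup.commutator_mono (inf_le_inf_left _ h2) (inf_le_inf_left _ h2))
    -- the `W`-part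
    by_cases hReq : R = (S : Subgroup G)
    · subst hReq
      exact hAD
    have hRlt : R < (S : Subgroup G) := lt_of_le_of_ne hRS hReq
    have hRp : IsPGroup p R := hSp.to_le hRS
    obtain ⟨T', hT'⟩ : ∃ T', T' = W R := ⟨_, rfl⟩
    have hT'R : T' ≤ R := by rw [hT']; exact (hW R hRp).1
    have hT'S : T' ≤ (S : Subgroup G) := hT'R.trans hRS
    have hZT' : Z ≤ T' := by
      rw [hT']
      refine le_trans ?_ (hWZ R hRp)
      exact le_inf hZR (hZC.trans (Subgroup.centralizer_le (by exact_mod_cast hRS)))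
    obtain ⟨M, hM⟩ : ∃ M, M = (S : Subgroup G) ⊓ Subgroup.normalizer (T' : Set G) := ⟨_, rfl⟩
    have hRM : R < M := by
      rw [hM]
      refine lt_of_lt_of_le (Cfsg.Agent.Lib.Lead.pgroup_normalizer_grows p _ R hSp hRlt) ?_
      intro g hg
      refine ⟨hg.1, ?_⟩
      apply mem_normalizer_iff_cj.mpr
      have h1 : W (cj g R) = cj g (W R) := (hW R hRp).2.2 g
      rw [hT', ← h1, mem_normalizer_iff_cj.mp hg.2]
    obtain ⟨x, hx1, hx2, hx3⟩ := exists_extremal_conj S T' hT'S
    rw [← hM] at hx3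
    obtain ⟨V₀, hV₀⟩ : ∃ V₀, V₀ = cj x T' := ⟨_, rfl⟩
    rw [← hV₀] at hx1 hx2 hx3
    obtain ⟨R', hR'⟩ : ∃ R', R' = (S : Subgroup G) ⊓ Subgroup.normalizer (V₀ : Set G) := ⟨_, rfl⟩
    rw [← hR'] at hx2 hx3
    have hR'S : R' ≤ (S : Subgroup G) := by rw [hR']; exact inf_le_left
    have hR'N : R' ≤ Subgroup.normalizer (V₀ : Set G) := by rw [hR']; exact inf_le_right
    have hR'p : IsPGroup p R' := hSp.to_le hR'S
    have hMS : M ≤ (S : Subgroup G) := by rw [hM]; exact inf_le_left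
    have hMcard : Nat.card R < Nat.card M := card_lt_of_lt' hRM
    have hMle : Nat.card M ≤ Nat.card (S : Subgroup G) := Subgroup.card_le_of_le hMS
    have hR'card : Nat.card M ≤ Nat.card R' := by
      rw [← card_cj x M]; exact Subgroup.card_le_of_le hx3
    have hR'le : Nat.card R' ≤ Nat.card (S : Subgroup G) := Subgroup.card_le_of_le hR'S
    have hlcM : lc x (M : Set G) ⊆ R' := by
      rw [lc_subgroup]; exact hx3
    have hZR' : Z ≤ R' := by
      rw [hR']
      refine le_inf hZS ?_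
      refine le_trans ?_ (Subgroup.centralizer_le_normalizer _)
      exact hZC.trans (Subgroup.centralizer_le (by exact_mod_cast hx1))
    -- the local hypothesis for `T'`, transported to `V₀`
    have hPL : PairTLocal W V V₀ R' := by
      have hR''N : cj x⁻¹ R' ≤ Subgroup.normalizer (T' : Set G) := by
        have := cj_mono x⁻¹ hR'N
        rwa [← normalizer_cj, hV₀, cj_inv_cj] at this
      have hR''i : ¬ p ∣ (cj x⁻¹ R').relIndex (Subgroup.normalizer (T' : Set G)) := by
        have e : Subgroup.normalizer (T' : Set G) = cj x⁻¹ (Subgroup.normalizer (V₀ : Set G)) := by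
          rw [← normalizer_cj, hV₀, cj_inv_cj]
        rw [e, relIndex_cj]; exact hx2
      have h1 := hloc T' hZT' hT'S (cj x⁻¹ R') hR''N (isPGroup_cj _ hR'p) hR''i
      have h2 := h1.conj hW hV (isPGroup_cj _ hR'p) x
      rwa [cj_cj_inv, ← hV₀] at h2
    have hR'D : R' ⊓ ⁅Subgroup.normalizer (V₀ : Set G), Subgroup.normalizer (V₀ : Set G)⁆ ≤ D := by
      refine le_trans hPL ?_
      have h1 := (ih (Nat.card (S : Subgroup G) - Nat.card R') (by omega)).2 R' hR'S hZR' rfl
      refine le_trans (sup_le_sup ?_ ?_) h1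
      · unfold ptA
        exact inf_le_inf_left _ (Subgroup.commutator_mono (inf_le_inf_right _ le_top)
          (inf_le_inf_right _ le_top))
      · unfold ptB
        exact inf_le_inf_left _ (Subgroup.commutator_mono (inf_le_inf_right _ le_top)
          (inf_le_inf_right _ le_top))
    -- now push down to `R`
    intro z hz
    unfold ptA at hz
    rw [top_inf_eq, ← hT'] at hz
    have hzR : z ∈ R := hz.1
    have hzM : z ∈ M := hRM.le hzR
    have h1 : x * z * x⁻¹ ∈ R' ⊓
        ⁅Subgroup.normalizer (V₀ : Set G), Subgroup.normalizer (V₀ : Set G)⁆ := by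
      refine ⟨hlcM ⟨z, hzM, rfl⟩, ?_⟩
      have h2 : x * z * x⁻¹ ∈ cj x ⁅Subgroup.normalizer (T' : Set G), Subgroup.normalizer (T' : Set G)⁆ := by
        rw [mem_cj]
        have e : x⁻¹ * (x * z * x⁻¹) * x = z := by group
        rw [e]; exact hz.2
      rwa [cj_commutator, ← normalizer_cj, ← hV₀] at h2
    have h3 := hR'D h1
    have h4 := partC M hMS (by omega) x (hlcM.trans (by exact_mod_cast hR'S)) z hzM
    have e : z = (x * z * x⁻¹) * (z⁻¹ * (x * z * x⁻¹))⁻¹ := by group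
    rw [e]
    exact D.mul_mem h3 (D.inv_mem h4)
  refine ⟨?_, partB⟩
  -- part (a)
  intro D₀ hD₀ hd x hx a ha
  have hDS : D₀ ≤ (S : Subgroup G) := hD₀.1
  obtain ⟨R, hR⟩ : ∃ R, R = (S : Subgroup G) ⊓ Subgroup.normalizer (D₀ : Set G) := ⟨_, rfl⟩
  have hRi : ¬ p ∣ R.relIndex (Subgroup.normalizer (D₀ : Set G)) := by rw [hR]; exact hD₀.2.2.2
  have hRS : R ≤ (S : Subgroup G) := by rw [hR]; exact inf_le_left
  have hRN : R ≤ Subgroup.normalizer (D₀ : Set G) := by rw [hR]; exact inf_le_right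
  have hDR : D₀ ≤ R := by rw [hR]; exact le_inf hDS Subgroup.le_normalizer
  have hZD : Z ≤ D₀ := by
    rw [← inf_LG_eq_of_mem_goldFam hD₀]
    refine le_inf hZS ?_
    refine le_trans ?_ hD₀.2.1
    exact hZC.trans (Subgroup.centralizer_le (by exact_mod_cast hDS))
  have hPL := hloc D₀ hZD hDS R hRN (hSp.to_le hRS) hRi
  have hRle : Nat.card R ≤ Nat.card (S : Subgroup G) := Subgroup.card_le_of_le hRS
  have hDRc : Nat.card D₀ ≤ Nat.card R := Subgroup.card_le_of_le hDR
  have hRD : ptA W ⊤ R ⊔ ptB V ⊤ R ≤ D := by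
    by_cases hlev : Nat.card (S : Subgroup G) - Nat.card R = d
    · exact partB R hRS (hZD.trans hDR) hlev
    · exact (ih (Nat.card (S : Subgroup G) - Nat.card R) (by omega)).2 R hRS (hZD.trans hDR) rfl
  have h1 : a⁻¹ * (x * a * x⁻¹) ∈ R ⊓
      ⁅Subgroup.normalizer (D₀ : Set G), Subgroup.normalizer (D₀ : Set G)⁆ := by
    have hxa : x * a * x⁻¹ ∈ D₀ := (Subgroup.mem_normalizer_iff.mp hx a).mp ha
    refine ⟨hDR (D₀.mul_mem (D₀.inv_mem ha) hxa), ?_⟩
    have e : a⁻¹ * (x * a * x⁻¹) = ⁅a⁻¹, x⁆ := by rw [commutatorElement_def]; group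
    rw [e]
    exact Subgroup.commutator_mem_commutator (Subgroup.inv_mem _ (Subgroup.le_normalizer ha)) hx
  apply hRD
  have hmono : ptA W (Subgroup.normalizer (D₀ : Set G)) R ⊔ ptB V (Subgroup.normalizer (D₀ : Set G)) R ≤
      ptA W ⊤ R ⊔ ptB V ⊤ R := by
    apply sup_le_sup
    · unfold ptA
      exact inf_le_inf_left _ (Subgroup.commutator_mono (inf_le_inf_right _ le_top)
        (inf_le_inf_right _ le_top))
    · unfold ptB
      exact inf_le_inf_left _ (Subgroup.commutator_mono (inf_le_inf_right _ le_top)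
        (inf_le_inf_right _ le_top))
  exact hmono (hPL h1)

end Cfsg.Agent.Lib.Helper4
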