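import Mathlib
import Cfsg.Agent.S1467
import Cfsg.Agent.S1466

set_option autoImplicit false

/-!
# The Puig series, internally

For `H ≤ G` we transport the Puig series of `↥H` to subgroups of `G` and describe it without
leaving `G`.
-/

namespace Cfsg.Agent.Lib.Helper4.Puig

open Cfsg

variable {G : Type*} [Group G]

/-- internal Puig step `L_H(X)` -/
def iStep (H X : Subgroup G) : Subgroup G :=
  sSup {A : Subgroup G | IsMulCommutative A ∧ A ≤ H ∧ X ≤ Subgroup.normalizer (A : Set G)}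

/-- internal Puig series -/
def iSeq (H : Subgroup G) (n : ℕ) : Subgroup G := (puigSeq ↥H n).map H.subtype

/-- internal `L(H)` -/
def LI (H : Subgroup G) : Subgroup G := (puigSubgroup ↥H).map H.subtype

/-- internal `L_*(H)` -/
def LS (H : Subgroup G) : Subgroup G := (puigLower ↥H).map H.subtype

theorem iStep_le (H X : Subgroup G) : iStep H X ≤ H := by
  apply sSup_le
  rintro A ⟨_, hA, _⟩
  exact hA

theorem le_iStep {H X A : Subgroup G} (hA : IsMulCommutative A) (hAH : A ≤ H)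
    (hX : X ≤ Subgroup.normalizer (A : Set G)) : A ≤ iStep H X :=
  le_sSup ⟨hA, hAH, hX⟩

theorem iStep_antitone (H : Subgroup G) {X Y : Subgroup G} (h : X ≤ Y) :
    iStep H Y ≤ iStep H X := by
  apply sSup_le_sSup
  rintro A ⟨h1, h2, h3⟩
  exact ⟨h1, h2, h.trans h3⟩

theorem iStep_mono_left {H K : Subgroup G} (h : H ≤ K) (X : Subgroup G) :
    iStep H X ≤ iStep K X := by
  apply sSup_le_sSup
  rintro A ⟨h1, h2, h3⟩
  exact ⟨h1, h2.trans h, h3⟩

theorem iStep_le_of_le {H K X : Subgroup G} (h : iStep K X ≤ H) : iStep K X ≤ iStep H X := by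
  apply sSup_le
  rintro A ⟨h1, h2, h3⟩
  apply le_iStep h1 _ h3
  exact (le_iStep h1 h2 h3).trans h

theorem map_puigStep (H : Subgroup G) (X' : Subgroup ↥H) :
    (puigStep X').map H.subtype = iStep H (X'.map H.subtype) := by
  apply le_antisymm
  · rw [Subgroup.map_le_iff_le_comap]
    apply sSup_le
    rintro A' ⟨hA1, hA2⟩
    rw [← Subgroup.map_le_iff_le_comap]
    apply le_iStep
    · exact Subgroup.map_isMulCommutative A' H.subtype
    · exact Subgroup.map_subtype_le _
    · exact (Subgroup.map_mono hA2).trans (Subgroup.le_normalizer_map _)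
  · apply sSup_le
    rintro A ⟨hA1, hA2, hA3⟩
    have h1 : A = (A.subgroupOf H).map H.subtype := (Subgroup.map_subgroupOf_eq_of_le hA2).symm
    rw [h1]
    apply Subgroup.map_mono
    apply le_sSup
    refine ⟨Subgroup.subgroupOf_isMulCommutative H A, ?_⟩
    intro x hx
    have hx' : (x : G) ∈ Subgroup.normalizer (A : Set G) := hA3 ⟨x, hx, rfl⟩
    rw [Subgroup.mem_normalizer_iff] at hx' ⊢
    intro a
    rw [Subgroup.mem_subgroupOf, Subgroup.mem_subgroupOf]
    exact hx' a

theorem iSeq_zero (H : Subgroup G) : iSeq H 0 = ⊥ := by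
  show (⊥ : Subgroup ↥H).map H.subtype = ⊥
  exact Subgroup.map_bot _

theorem iSeq_succ (H : Subgroup G) (n : ℕ) : iSeq H (n + 1) = iStep H (iSeq H n) :=
  map_puigStep H (puigSeq ↥H n)

theorem iSeq_one (H : Subgroup G) : iSeq H 1 = H := by
  show (puigSeq ↥H 1).map H.subtype = H
  have : puigSeq ↥H 1 = ⊤ := Cfsg.Agent.S1467.puigStep_bot
  rw [this, ← MonoidHom.range_eq_map, Subgroup.range_subtype]

theorem iSeq_le (H : Subgroup G) (n : ℕ) : iSeq H n ≤ H := Subgroup.map_subtype_le _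

theorem LI_le (H : Subgroup G) : LI H ≤ H := Subgroup.map_subtype_le _

theorem LS_le (H : Subgroup G) : LS H ≤ H := Subgroup.map_subtype_le _

theorem LS_le_LI (H : Subgroup G) : LS H ≤ LI H := by
  apply Subgroup.map_mono
  apply iSup_le
  intro n
  apply le_iInf
  intro m
  exact Cfsg.Agent.S1467.even_le_odd n m

theorem iSeq_even_le_LS (H : Subgroup G) (n : ℕ) : iSeq H (2 * n) ≤ LS H :=
  Subgroup.map_mono (le_iSup (fun n => puigSeq ↥H (2 * n)) n)

theorem LI_le_iSeq_odd (H : Subgroup G) (n : ℕ) : LI H ≤ iSeq H (2 * n + 1) :=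
  Subgroup.map_mono (iInf_le (fun n => puigSeq ↥H (2 * n + 1)) n)

theorem exists_stab (H : Subgroup G) [Finite H] : ∃ k : ℕ, ∀ n : ℕ, k ≤ n →
    iSeq H (2 * n) = LS H ∧ iSeq H (2 * n + 1) = LI H := by
  obtain ⟨k, hk⟩ := Cfsg.Agent.S1467.stab (G := ↥H)
  refine ⟨k, fun n hn => ?_⟩
  obtain ⟨h1, h2⟩ := hk n hn
  exact ⟨congrArg (Subgroup.map H.subtype) h1, congrArg (Subgroup.map H.subtype) h2⟩

theorem iStep_LS (H : Subgroup G) [Finite H] : iStep H (LS H) = LI H := by
  rw [LS, ← map_puigStep, LI]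
  congr 1
  exact (Cfsg.Agent.S1467.result (G := ↥H)).2.2.2.2.2.1

theorem iStep_LI (H : Subgroup G) [Finite H] : iStep H (LI H) = LS H := by
  rw [LI, ← map_puigStep, LS]
  congr 1
  exact (Cfsg.Agent.S1467.result (G := ↥H)).2.2.2.2.2.2

theorem LS_le_of_forall {H K : Subgroup G} (h : ∀ n, iSeq H (2 * n) ≤ K) : LS H ≤ K := by
  rw [LS, puigLower, Subgroup.map_iSup]
  exact iSup_le h

theorem le_LI_of_forall {H K : Subgroup G} (h : ∀ n, K ≤ iSeq H (2 * n + 1)) : K ≤ LI H := by
  rw [LI, puigSubgroup, Subgroup.map_iInf _ H.subtype_injective]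
  exact le_iInf h

/-- **B&G B.1(d)**: if `L(K) ≤ H ≤ K` then `L(H) = L(K)` and `L_*(H) = L_*(K)`. -/
theorem LI_eq_of_le {H K : Subgroup G} [Finite K] (hHK : H ≤ K) (hL : LI K ≤ H) :
    LI H = LI K ∧ LS H = LS K := by
  have : Finite H := Finite.of_injective (Subgroup.inclusion hHK) (Subgroup.inclusion_injective hHK)
  have ind1 : ∀ n : ℕ, iSeq K (2 * n) ≤ iSeq H (2 * n) ∧ iSeq H (2 * n + 1) ≤ iSeq K (2 * n + 1) := by
    intro n
    induction n with
    | zero =>
      refine ⟨?_, ?_⟩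
      · rw [Nat.mul_zero, iSeq_zero]; exact bot_le
      · rw [Nat.mul_zero, Nat.zero_add, iSeq_one, iSeq_one]; exact hHK
    | succ n ih =>
      have e1 : 2 * (n + 1) = (2 * n + 1) + 1 := by ring
      have h1 : iSeq K (2 * (n + 1)) ≤ iSeq H (2 * (n + 1)) := by
        have h2 : iSeq K (2 * (n + 1)) ≤ H :=
          ((iSeq_even_le_LS K (n + 1)).trans (LS_le_LI K)).trans hL
        rw [e1] at h2 ⊢
        rw [iSeq_succ K (2 * n + 1)] at h2 ⊢
        rw [iSeq_succ H (2 * n + 1)]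
        exact (iStep_le_of_le h2).trans (iStep_antitone H ih.2)
      refine ⟨h1, ?_⟩
      rw [iSeq_succ H (2 * (n + 1)), iSeq_succ K (2 * (n + 1))]
      exact (iStep_mono_left hHK _).trans (iStep_antitone K h1)
  have ind2 : ∀ n : ℕ, iSeq H (2 * n) ≤ LS K ∧ LI K ≤ iSeq H (2 * n + 1) := by
    intro n
    induction n with
    | zero =>
      refine ⟨?_, ?_⟩
      · rw [Nat.mul_zero, iSeq_zero]; exact bot_le
      · rw [Nat.mul_zero, Nat.zero_add, iSeq_one]; exact hL
    | succ n ih =>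
      have e1 : 2 * (n + 1) = (2 * n + 1) + 1 := by ring
      have h1 : iSeq H (2 * (n + 1)) ≤ LS K := by
        rw [e1, iSeq_succ H (2 * n + 1), ← iStep_LI K]
        exact (iStep_antitone H ih.2).trans (iStep_mono_left hHK _)
      refine ⟨h1, ?_⟩
      rw [iSeq_succ H (2 * (n + 1))]
      refine le_trans ?_ (iStep_antitone H h1)
      have h3 : iStep K (LS K) ≤ H := by rw [iStep_LS]; exact hL
      have h4 := iStep_le_of_le h3
      rwa [iStep_LS] at h4
  refine ⟨le_antisymm ?_ ?_, le_antisymm ?_ ?_⟩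
  · exact le_LI_of_forall fun n => (LI_le_iSeq_odd H n).trans (ind1 n).2
  · exact le_LI_of_forall fun n => (ind2 n).2
  · exact LS_le_of_forall fun n => (ind2 n).1
  · exact LS_le_of_forall fun n => (ind1 n).1.trans (iSeq_even_le_LS H n)

end Cfsg.Agent.Lib.Helper4.Puig
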