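import Mathlib
import Cfsg.Agent.Lib.Helper4.Puig1

set_option autoImplicit false

/-!
# The Puig series under homomorphisms injective on `H`
-/

namespace Cfsg.Agent.Lib.Helper4.Puig

open Cfsg

variable {G : Type*} [Group G] {G' : Type*} [Group G']

theorem map_iStep_le (φ : G →* G') (H X : Subgroup G) :
    (iStep H X).map φ ≤ iStep (H.map φ) (X.map φ) := by
  rw [Subgroup.map_le_iff_le_comap]
  apply sSup_le
  rintro A ⟨hA1, hA2, hA3⟩
  rw [← Subgroup.map_le_iff_le_comap]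
  apply le_iStep
  · exact Subgroup.map_isMulCommutative A φ
  · exact Subgroup.map_mono hA2
  · exact (Subgroup.map_mono hA3).trans (Subgroup.le_normalizer_map _)

theorem map_iStep (φ : G →* G') (H X : Subgroup G) (hinj : Set.InjOn φ (H : Set G))
    (hX : X ≤ H) : (iStep H X).map φ = iStep (H.map φ) (X.map φ) := by
  apply le_antisymm (map_iStep_le φ H X)
  apply sSup_le
  rintro B ⟨hB1, hB2, hB3⟩
  set A : Subgroup G := H ⊓ B.comap φ with hAdef
  have hAB : A.map φ = B := by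
    apply le_antisymm
    · rintro _ ⟨a, ha, rfl⟩
      exact ha.2
    · intro b hb
      obtain ⟨a, ha, rfl⟩ := hB2 hb
      exact ⟨a, ⟨ha, hb⟩, rfl⟩
  rw [← hAB]
  apply Subgroup.map_mono
  apply le_iStep
  · refine ⟨⟨?_⟩⟩
    rintro ⟨a, ha⟩ ⟨b, hb⟩
    apply Subtype.ext
    apply hinj (H.mul_mem ha.1 hb.1) (H.mul_mem hb.1 ha.1)
    rw [map_mul, map_mul]
    have := mul_comm' (⟨φ a, ha.2⟩ : ↥B) ⟨φ b, hb.2⟩
    exact congrArg Subtype.val this
  · exact inf_le_left
  · intro x hx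
    have hxH : x ∈ H := hX hx
    have hφx : φ x ∈ Subgroup.normalizer (B : Set G') := hB3 ⟨x, hx, rfl⟩
    rw [Subgroup.mem_normalizer_iff] at hφx ⊢
    intro a
    constructor
    · rintro ⟨ha1, ha2⟩
      refine ⟨H.mul_mem (H.mul_mem hxH ha1) (H.inv_mem hxH), ?_⟩
      show φ (x * a * x⁻¹) ∈ B
      rw [map_mul, map_mul, map_inv]
      exact (hφx _).mp ha2
    · rintro ⟨ha1, ha2⟩
      have ha : a ∈ H := by
        have : a = x⁻¹ * (x * a * x⁻¹) * x := by group
        rw [this]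
        exact H.mul_mem (H.mul_mem (H.inv_mem hxH) ha1) hxH
      refine ⟨ha, ?_⟩
      show φ a ∈ B
      have h1 : φ (x * a * x⁻¹) ∈ B := ha2
      rw [map_mul, map_mul, map_inv] at h1
      exact (hφx _).mpr h1

theorem map_iSeq (φ : G →* G') (H : Subgroup G) (hinj : Set.InjOn φ (H : Set G)) (n : ℕ) :
    (iSeq H n).map φ = iSeq (H.map φ) n := by
  induction n with
  | zero => rw [iSeq_zero, iSeq_zero, Subgroup.map_bot]
  | succ n ih =>
    rw [iSeq_succ, iSeq_succ, map_iStep φ H _ hinj (iSeq_le H n), ih]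

theorem map_LI [Finite G] [Finite G'] (φ : G →* G') (H : Subgroup G)
    (hinj : Set.InjOn φ (H : Set G)) : (LI H).map φ = LI (H.map φ) := by
  obtain ⟨k1, hk1⟩ := exists_stab H
  obtain ⟨k2, hk2⟩ := exists_stab (H.map φ)
  rw [← (hk1 (max k1 k2) (le_max_left _ _)).2, ← (hk2 (max k1 k2) (le_max_right _ _)).2]
  exact map_iSeq φ H hinj _

theorem map_LS [Finite G] [Finite G'] (φ : G →* G') (H : Subgroup G)
    (hinj : Set.InjOn φ (H : Set G)) : (LS H).map φ = LS (H.map φ) := by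
  obtain ⟨k1, hk1⟩ := exists_stab H
  obtain ⟨k2, hk2⟩ := exists_stab (H.map φ)
  rw [← (hk1 (max k1 k2) (le_max_left _ _)).1, ← (hk2 (max k1 k2) (le_max_right _ _)).1]
  exact map_iSeq φ H hinj _

/-- the internal `Z(L(H))` -/
def ZL (H : Subgroup G) : Subgroup G := LI H ⊓ Subgroup.centralizer (LI H : Set G)

theorem ZL_le_LI (H : Subgroup G) : ZL H ≤ LI H := inf_le_left

theorem mem_ZL_iff (H : Subgroup G) (x : G) :
    x ∈ ZL H ↔ x ∈ LI H ∧ ∀ y ∈ LI H, y * x = x * y := by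
  rw [ZL, Subgroup.mem_inf, Subgroup.mem_centralizer_iff]
  rfl

theorem ZL_eq (H : Subgroup G) :
    ((Subgroup.center ↥(puigSubgroup ↥H)).map (puigSubgroup ↥H).subtype).map H.subtype = ZL H := by
  ext x
  rw [mem_ZL_iff]
  constructor
  · rintro ⟨_, ⟨z, hz, rfl⟩, rfl⟩
    refine ⟨⟨_, z.2, rfl⟩, ?_⟩
    rintro _ ⟨y, hy, rfl⟩
    have h1 := Subgroup.mem_center_iff.mp hz ⟨y, hy⟩
    have h2 := congrArg (fun w : ↥(puigSubgroup ↥H) => ((w : ↥H) : G)) h1
    exact h2
  · rintro ⟨⟨x', hx', rfl⟩, hc⟩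
    refine ⟨x', ⟨⟨x', hx'⟩, ?_, rfl⟩, rfl⟩
    apply Subgroup.mem_center_iff.mpr
    intro w
    apply Subtype.ext
    apply Subtype.ext
    exact hc _ ⟨(w : ↥H), w.2, rfl⟩

instance ZL_comm (H : Subgroup G) : IsMulCommutative ↥(ZL H) := by
  refine ⟨⟨?_⟩⟩
  rintro ⟨a, ha⟩ ⟨b, hb⟩
  apply Subtype.ext
  rw [mem_ZL_iff] at ha hb
  exact hb.2 a ha.1

theorem map_ZL [Finite G] [Finite G'] (φ : G →* G') (H : Subgroup G)
    (hinj : Set.InjOn φ (H : Set G)) : (ZL H).map φ = ZL (H.map φ) := by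
  ext y
  rw [mem_ZL_iff, ← map_LI φ H hinj, Subgroup.mem_map]
  constructor
  · rintro ⟨x, hx, rfl⟩
    rw [mem_ZL_iff] at hx
    refine ⟨⟨x, hx.1, rfl⟩, ?_⟩
    rintro _ ⟨z, hz, rfl⟩
    rw [← map_mul, ← map_mul, hx.2 z hz]
  · rintro ⟨⟨x, hx, rfl⟩, hy2⟩
    refine ⟨x, ?_, rfl⟩
    rw [mem_ZL_iff]
    refine ⟨hx, ?_⟩
    intro z hz
    have h1 := hy2 (φ z) ⟨z, hz, rfl⟩
    rw [← map_mul, ← map_mul] at h1
    exact hinj (H.mul_mem (LI_le H hz) (LI_le H hx)) (H.mul_mem (LI_le H hx) (LI_le H hz)) h1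

/-- the normalizer of `H` normalizes all the internal Puig subgroups of `H` -/
theorem map_conj_eq {H : Subgroup G} {g : G} (hg : g ∈ Subgroup.normalizer (H : Set G)) :
    H.map (MulAut.conj g).toMonoidHom = H := by
  ext x
  rw [Subgroup.mem_map]
  constructor
  · rintro ⟨y, hy, rfl⟩
    exact (Subgroup.mem_normalizer_iff.mp hg y).mp hy
  · intro hx
    refine ⟨g⁻¹ * x * g, ?_, ?_⟩
    · have := (Subgroup.mem_normalizer_iff.mp (Subgroup.inv_mem _ hg) x).mp hx
      rwa [inv_inv] at this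
    · simp [MulAut.conj_apply]; group

theorem mem_normalizer_of_map_conj {K : Subgroup G} {g : G}
    (h : K.map (MulAut.conj g).toMonoidHom = K) : g ∈ Subgroup.normalizer (K : Set G) := by
  rw [Subgroup.mem_normalizer_iff]
  intro x
  constructor
  · intro hx
    rw [← h]
    exact ⟨x, hx, rfl⟩
  · intro hx
    rw [← h] at hx
    obtain ⟨y, hy, hyx⟩ := hx
    have : y = x := by
      have h1 : g * y * g⁻¹ = g * x * g⁻¹ := hyx
      have h2 := mul_right_cancel h1
      exact mul_left_cancel h2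
    rwa [← this]

theorem normalizer_le_normalizer_iSeq (H : Subgroup G) (n : ℕ) :
    Subgroup.normalizer (H : Set G) ≤ Subgroup.normalizer (iSeq H n : Set G) := by
  intro g hg
  apply mem_normalizer_of_map_conj
  rw [map_iSeq _ H ((MulAut.conj g).injective.injOn) n, map_conj_eq hg]

theorem normalizer_le_normalizer_LI [Finite G] (H : Subgroup G) :
    Subgroup.normalizer (H : Set G) ≤ Subgroup.normalizer (LI H : Set G) := by
  intro g hg
  apply mem_normalizer_of_map_conj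
  rw [map_LI _ H ((MulAut.conj g).injective.injOn), map_conj_eq hg]

theorem normalizer_le_normalizer_ZL [Finite G] (H : Subgroup G) :
    Subgroup.normalizer (H : Set G) ≤ Subgroup.normalizer (ZL H : Set G) := by
  intro g hg
  apply mem_normalizer_of_map_conj
  rw [map_ZL _ H ((MulAut.conj g).injective.injOn), map_conj_eq hg]

theorem iSeq_normal (H : Subgroup G) [H.Normal] (n : ℕ) : (iSeq H n).Normal := by
  rw [← Subgroup.normalizer_eq_top_iff, eq_top_iff]
  refine le_trans ?_ (normalizer_le_normalizer_iSeq H n)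
  rw [Subgroup.normalizer_eq_top]

theorem LI_normal [Finite G] (H : Subgroup G) [H.Normal] : (LI H).Normal := by
  rw [← Subgroup.normalizer_eq_top_iff, eq_top_iff]
  refine le_trans ?_ (normalizer_le_normalizer_LI H)
  rw [Subgroup.normalizer_eq_top]

theorem ZL_normal [Finite G] (H : Subgroup G) [H.Normal] : (ZL H).Normal := by
  rw [← Subgroup.normalizer_eq_top_iff, eq_top_iff]
  refine le_trans ?_ (normalizer_le_normalizer_ZL H)
  rw [Subgroup.normalizer_eq_top]

end Cfsg.Agent.Lib.Helper4.Puig
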