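import Mathlib
import Cfsg.Agent.Lib.Helper4.Puig2
import Cfsg.Agent.S1465

set_option autoImplicit false

/-!
# B&G Theorem B.3/B.4: the Puig subgroups of a Sylow subgroup and of `O_p(G)`
-/

namespace Cfsg.Agent.Lib.Helper4.Puig

open Cfsg

variable {G : Type*} [Group G]

theorem iSeq_compare [Finite G] [Group.IsSolvable G] (hodd : Odd (Nat.card G)) (p : ℕ)
    [Fact p.Prime] (hp : p ≠ 2) (hO : Cfsg.pPrimeCore p G = ⊥) (S : Sylow p G) (n : ℕ) :
    iSeq (S : Subgroup G) (2 * n) ≤ iSeq (Cfsg.pCore p G) (2 * n) ∧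
      iSeq (Cfsg.pCore p G) (2 * n + 1) ≤ iSeq (S : Subgroup G) (2 * n + 1) := by
  have hTS : Cfsg.pCore p G ≤ (S : Subgroup G) := Cfsg.Agent.Lib.Helper9.pCore_le_sylow S
  have hTp : IsPGroup p ↥(Cfsg.pCore p G) := Cfsg.Agent.Lib.Helper9.pCore_isPGroup' p
  have hTn : (Cfsg.pCore p G).Normal := Cfsg.Agent.Lib.Helper9.pCore_normal' p
  induction n with
  | zero =>
    refine ⟨?_, ?_⟩
    · rw [Nat.mul_zero, iSeq_zero]; exact bot_le
    · rw [Nat.mul_zero, Nat.zero_add, iSeq_one, iSeq_one]; exact hTS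
  | succ n ih =>
    have e1 : 2 * (n + 1) = (2 * n + 1) + 1 := by ring
    have h1 : iSeq (S : Subgroup G) (2 * (n + 1)) ≤ iSeq (Cfsg.pCore p G) (2 * (n + 1)) := by
      rw [e1, iSeq_succ (S : Subgroup G) (2 * n + 1), iSeq_succ (Cfsg.pCore p G) (2 * n + 1)]
      apply sSup_le
      rintro A ⟨hA1, hA2, hA3⟩
      set P : Subgroup G := iSeq (Cfsg.pCore p G) (2 * n + 1) with hPdef
      have hPn : P.Normal := iSeq_normal _ _
      have hPT : P ≤ Cfsg.pCore p G := iSeq_le _ _
      have hPp : IsPGroup p ↥P := hTp.to_le hPT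
      have hPA : P ≤ Subgroup.normalizer (A : Set G) := ih.2.trans hA3
      by_cases hT1 : Cfsg.pCore p G = ⊥
      · -- then `G` is trivial
        have hc := Cfsg.Agent.Lib.Lead.OddStable.centralizer_pCore_le_of_solvable (p := p) hO
        rw [hT1] at hc
        have htop : (⊤ : Subgroup G) ≤ ⊥ := by
          refine le_trans ?_ hc
          intro x _
          rw [Subgroup.mem_centralizer_iff]
          intro y hy
          rw [Subgroup.coe_bot, Set.mem_singleton_iff] at hy
          rw [hy, one_mul, mul_one]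
        exact (le_top.trans htop).trans bot_le
      · have hnt : Nontrivial ↥(Cfsg.pCore p G) := (Subgroup.nontrivial_iff_ne_bot _).mpr hT1
        have hcent : Cfsg.pCore p G ⊓ Subgroup.centralizer (P : Set G) ≤ P := by
          intro x hx
          rw [Subgroup.mem_inf] at hx
          obtain ⟨hxT, hxC⟩ := hx
          have h2 := ((Cfsg.Agent.S1466.result p hTp).1 (2 * n + 1) (Nat.succ_pos _)).2
          have h3 : (⟨x, hxT⟩ : ↥(Cfsg.pCore p G)) ∈ Subgroup.centralizer
              ((puigSeq ↥(Cfsg.pCore p G) (2 * n + 1) : Subgroup ↥(Cfsg.pCore p G)) :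
                Set ↥(Cfsg.pCore p G)) := by
            rw [Subgroup.mem_centralizer_iff]
            intro y hy
            apply Subtype.ext
            rw [Subgroup.mem_centralizer_iff] at hxC
            exact hxC (y : G) ⟨y, hy, rfl⟩
          exact ⟨⟨x, hxT⟩, h2 h3, rfl⟩
        have h4 := (Cfsg.Agent.S1465.result hodd p hp P hPp {A} (by
          intro B hB
          rw [Set.mem_singleton_iff] at hB
          subst hB
          exact ⟨hA1, S.2.to_le hA2, hPA⟩)).2 hO hcent
        rw [sSup_singleton] at h4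
        exact le_iStep hA1 h4 hPA
    refine ⟨h1, ?_⟩
    rw [iSeq_succ (S : Subgroup G) (2 * (n + 1)), iSeq_succ (Cfsg.pCore p G) (2 * (n + 1))]
    exact (iStep_mono_left hTS _).trans (iStep_antitone _ h1)

/-- **B&G Theorem B.4(a)**: `L_*(S) ≤ L_*(T) ≤ L(T) ≤ L(S)` for `T = O_p(G)`. -/
theorem LS_LI_compare [Finite G] [Group.IsSolvable G] (hodd : Odd (Nat.card G)) (p : ℕ)
    [Fact p.Prime] (hp : p ≠ 2) (hO : Cfsg.pPrimeCore p G = ⊥) (S : Sylow p G) :
    LS (S : Subgroup G) ≤ LS (Cfsg.pCore p G) ∧ LS (Cfsg.pCore p G) ≤ LI (Cfsg.pCore p G) ∧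
      LI (Cfsg.pCore p G) ≤ LI (S : Subgroup G) := by
  refine ⟨?_, LS_le_LI _, ?_⟩
  · exact LS_le_of_forall fun n =>
      (iSeq_compare hodd p hp hO S n).1.trans (iSeq_even_le_LS _ n)
  · exact le_LI_of_forall fun n =>
      (LI_le_iSeq_odd _ n).trans (iSeq_compare hodd p hp hO S n).2

end Cfsg.Agent.Lib.Helper4.Puig
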