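import Mathlib
import Cfsg.Agent.Lib.Helper4.Puig3
import Cfsg.Agent.Lib.Lead.ZJ14
import Cfsg.Agent.Lib.Lead.DStarThm
import Cfsg.Agent.Lib.Helper4.SolvBalance

set_option autoImplicit false

/-!
# B&G Theorem B.4(b): `G = O_{p'}(G) N_G(Z(L(S)))`
-/

namespace Cfsg.Agent.Lib.Helper4.Puig

open Cfsg
open scoped commutatorElement Pointwise

variable {G : Type*} [Group G]

/-- a subgroup `W` of a Sylow `p`-subgroup `P`, normalised by `P`, whose image modulo
`O_{p'}(G)` is normal, satisfies `G = O_{p'}(G) N_G(W)`. -/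
theorem sup_normalizer_eq_top_of_map_normal [Finite G] {p : ℕ} [Fact p.Prime] (P : Sylow p G)
    (W : Subgroup G) (hWP : W ≤ (P : Subgroup G))
    (hPN : (P : Subgroup G) ≤ Subgroup.normalizer (W : Set G))
    (hnb : (W.map (QuotientGroup.mk' (Cfsg.pPrimeCore p G))).Normal) :
    Cfsg.pPrimeCore p G ⊔ Subgroup.normalizer (W : Set G) = ⊤ := by
  classical
  set K := Cfsg.pPrimeCore p G with hK
  set π := QuotientGroup.mk' K with hπ
  have hinj : Set.InjOn π ((P : Subgroup G) : Set G) :=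
    Cfsg.Agent.Lib.Lead.ZJ.injOn_mk_of_isPGroup P.isPGroup'
  rw [eq_top_iff]
  intro g _
  have hπconj : ∀ (h : G) (w : G), w ∈ W → π (h * w * h⁻¹) ∈ W.map π := by
    intro h w hw
    have := hnb.conj_mem (π w) ⟨w, hw, rfl⟩ (π h)
    rw [map_mul, map_mul, map_inv]
    exact this
  have hle : (MulAut.conj g • W : Subgroup G) ≤ (P : Subgroup G) ⊔ K := by
    intro x hx
    rw [Cfsg.Agent.Lib.Helper3.mem_conj_smul_iff] at hx
    have h1 := hπconj g _ hx
    have e : g * (g⁻¹ * x * g) * g⁻¹ = x := by group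
    rw [e] at h1
    obtain ⟨w, hw, hwx⟩ := h1
    have h2 : w⁻¹ * x ∈ K := QuotientGroup.eq.mp hwx
    have e2 : x = w * (w⁻¹ * x) := by group
    rw [e2]
    exact Subgroup.mul_mem _ (Subgroup.mem_sup_left (hWP hw)) (Subgroup.mem_sup_right h2)
  have hWp : IsPGroup p W := P.isPGroup'.to_le hWP
  obtain ⟨y, hy, hyT⟩ := Cfsg.Agent.Lib.Helper3.exists_conj_le_of_le_sylow P
    ((P : Subgroup G) ⊔ K) (MulAut.conj g • W) le_sup_left
    (Cfsg.Agent.Lib.Helper3.isPGroup_conj_smul hWp g) hle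
  have hyg : y * g ∈ Subgroup.normalizer (W : Set G) := by
    apply Subgroup.mem_normalizer_fintype
    intro w hw
    rw [SetLike.mem_coe] at hw
    have h1 : y * g * w * (y * g)⁻¹ ∈ (P : Subgroup G) := by
      apply hyT
      rw [Cfsg.Agent.Lib.Helper3.mem_conj_smul_iff, Cfsg.Agent.Lib.Helper3.mem_conj_smul_iff]
      have e : g⁻¹ * (y⁻¹ * (y * g * w * (y * g)⁻¹) * y) * g = w := by group
      rw [e]; exact hw
    obtain ⟨w', hw', hww⟩ := hπconj (y * g) w hw
    have h2 : w' = y * g * w * (y * g)⁻¹ := hinj (hWP hw') h1 hww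
    show y * g * w * (y * g)⁻¹ ∈ W
    rw [← h2]; exact hw'
  have hyinv : y⁻¹ ∈ K ⊔ (P : Subgroup G) := by
    rw [sup_comm]; exact Subgroup.inv_mem _ hy
  obtain ⟨k, hk, u, hu, hku⟩ := Subgroup.mem_sup_of_normal_left.mp hyinv
  have e : g = k * (u * (y * g)) := by
    rw [← mul_assoc, hku]; group
  rw [e]
  exact Subgroup.mul_mem _ (Subgroup.mem_sup_left hk)
    (Subgroup.mem_sup_right (Subgroup.mul_mem _ (hPN hu) hyg))

/-- **B&G B.4(b)**, reduced case. -/
theorem ZL_normal_of_pPrimeCore_eq_bot [Finite G] [Group.IsSolvable G] (hodd : Odd (Nat.card G))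
    (p : ℕ) [Fact p.Prime] (hp : p ≠ 2) (hO : Cfsg.pPrimeCore p G = ⊥) (S : Sylow p G) :
    (ZL (S : Subgroup G)).Normal := by
  have hTS : Cfsg.pCore p G ≤ (S : Subgroup G) := Cfsg.Agent.Lib.Helper9.pCore_le_sylow S
  have hTp : IsPGroup p ↥(Cfsg.pCore p G) := Cfsg.Agent.Lib.Helper9.pCore_isPGroup' p
  have hTn : (Cfsg.pCore p G).Normal := Cfsg.Agent.Lib.Helper9.pCore_normal' p
  obtain ⟨h468a, _, h468c⟩ := LS_LI_compare hodd p hp hO S
  set T : Subgroup G := Cfsg.pCore p G with hTdef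
  set W : Subgroup G := ZL T with hWdef
  have hWn : W.Normal := ZL_normal T
  have hWT : W ≤ T := (ZL_le_LI T).trans (LI_le T)
  have hWp : IsPGroup p ↥W := hTp.to_le hWT
  -- `S` normalises `ZL S`
  have hSN : (S : Subgroup G) ≤ Subgroup.normalizer (ZL (S : Subgroup G) : Set G) :=
    Subgroup.le_normalizer.trans (normalizer_le_normalizer_ZL _)
  have e2 : iSeq (S : Subgroup G) 2 = iStep (S : Subgroup G) (S : Subgroup G) := by
    rw [iSeq_succ (S : Subgroup G) 1, iSeq_one]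
  -- Claim 1
  have hZ2 : ZL (S : Subgroup G) ≤ iSeq (S : Subgroup G) 2 := by
    rw [e2]
    exact le_iStep (ZL_comm _) ((ZL_le_LI _).trans (LI_le _)) hSN
  have hZW : ZL (S : Subgroup G) ≤ W := by
    intro x hx
    have hx' := hx
    rw [mem_ZL_iff] at hx'
    rw [hWdef, mem_ZL_iff]
    refine ⟨?_, fun y hy => hx'.2 y (h468c hy)⟩
    exact (LS_le_LI T) (h468a ((iSeq_even_le_LS (S : Subgroup G) 1) (hZ2 hx)))
  -- Claim 2
  have hW2 : W ≤ iSeq (S : Subgroup G) 2 := by
    rw [e2]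
    refine le_iStep (ZL_comm _) (hWT.trans hTS) ?_
    rw [Subgroup.normalizer_eq_top]
    exact le_top
  have h3 : iSeq (S : Subgroup G) 3 ≤ Cfsg.Agent.Lib.Lead.DStarThm.LL p W := by
    rw [iSeq_succ (S : Subgroup G) 2]
    have h4 := (Cfsg.Agent.S1465.result hodd p hp W hWp
      {A : Subgroup G | IsMulCommutative A ∧ A ≤ (S : Subgroup G) ∧
        iSeq (S : Subgroup G) 2 ≤ Subgroup.normalizer (A : Set G)} (by
      rintro B ⟨hB1, hB2, hB3⟩
      exact ⟨hB1, S.2.to_le hB2, hW2.trans hB3⟩)).1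
    rw [Subgroup.map_le_iff_le_comap] at h4
    exact h4
  set D : Subgroup G := Cfsg.Agent.Lib.Lead.DStarThm.LL p W with hDdef
  have hLD : LI (S : Subgroup G) ≤ (S : Subgroup G) ⊓ D :=
    le_inf (LI_le _) ((LI_le_iSeq_odd (S : Subgroup G) 1).trans h3)
  have hfin : Finite ↥(S : Subgroup G) := inferInstance
  have heq := (LI_eq_of_le (H := (S : Subgroup G) ⊓ D) (K := (S : Subgroup G)) inf_le_left hLD).1
  have hZeq : ZL ((S : Subgroup G) ⊓ D) = ZL (S : Subgroup G) := by
    rw [ZL, ZL, heq]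
  have hN1 : Subgroup.normalizer (((S : Subgroup G) ⊓ D : Subgroup G) : Set G) ≤
      Subgroup.normalizer (ZL (S : Subgroup G) : Set G) := by
    rw [← hZeq]
    exact normalizer_le_normalizer_ZL _
  have hN2 : Subgroup.centralizer (W : Set G) ≤
      Subgroup.normalizer (ZL (S : Subgroup G) : Set G) := by
    intro c hc
    rw [Subgroup.mem_normalizer_iff]
    rw [Subgroup.mem_centralizer_iff] at hc
    intro z
    constructor
    · intro hz
      have h5 := hc z (hZW hz)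
      have : c * z * c⁻¹ = z := by rw [← h5]; group
      rw [this]; exact hz
    · intro hz
      have h5 := hc _ (hZW hz)
      have : z = c * z * c⁻¹ := by
        have h6 : c * z * c⁻¹ * c = c * (c * z * c⁻¹) := h5
        have h7 : c * z = c * (c * z * c⁻¹) := by rw [← h6]; group
        exact mul_left_cancel h7
      rw [this]; exact hz
  have htop := Cfsg.Agent.Lib.Lead.DStarThm.sup_normalizer_eq_top W S
  rw [← Subgroup.normalizer_eq_top_iff, eq_top_iff, ← htop]
  exact sup_le hN2 hN1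

/-- **B&G Theorem B.4(b)**: `G = O_{p'}(G) N_G(Z(L(S)))`. -/
theorem sup_normalizer_ZL_eq_top [Finite G] [Group.IsSolvable G] (hodd : Odd (Nat.card G))
    (p : ℕ) [Fact p.Prime] (hp : p ≠ 2) (S : Sylow p G) :
    Cfsg.pPrimeCore p G ⊔ Subgroup.normalizer (ZL (S : Subgroup G) : Set G) = ⊤ := by
  set K := Cfsg.pPrimeCore p G with hK
  set π := QuotientGroup.mk' K with hπ
  have hπs : Function.Surjective π := QuotientGroup.mk'_surjective K
  have hinj : Set.InjOn π ((S : Subgroup G) : Set G) :=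
    Cfsg.Agent.Lib.Lead.ZJ.injOn_mk_of_isPGroup S.isPGroup'
  have hoddq : Odd (Nat.card (G ⧸ K)) := by
    have h1 : Nat.card (G ⧸ K) ∣ Nat.card G := Subgroup.card_quotient_dvd_card K
    exact Odd.of_dvd_nat hodd h1
  have hOq : Cfsg.pPrimeCore p (G ⧸ K) = ⊥ := pPrimeCore_quotient_self p
  have hn := ZL_normal_of_pPrimeCore_eq_bot hoddq p hp hOq (S.mapSurjective hπs)
  rw [Sylow.coe_mapSurjective, ← map_ZL π (S : Subgroup G) hinj] at hn
  apply sup_normalizer_eq_top_of_map_normal S _ ((ZL_le_LI _).trans (LI_le _)) _ hn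
  exact Subgroup.le_normalizer.trans (normalizer_le_normalizer_ZL _)

end Cfsg.Agent.Lib.Helper4.Puig
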