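import Mathlib

set_option autoImplicit false

namespace Cfsg.Agent.Lib.Helper4

section Rect
variable {I J : Type*} [Fintype I] [Fintype J] [DecidableEq I] [DecidableEq J]

open Classical in
/-- Matrices satisfying the rectangle rule with few nonzero entries are supported on a single
line, where they are constant. -/
theorem rect_trichotomy (a : I → J → ℂ)
    (hrect : ∀ i i' j j', a i j + a i' j' = a i j' + a i' j)
    (hIJ : Fintype.card I + 2 ≤ Fintype.card J)
    (hfew : ((Finset.univ : Finset (I × J)).filter (fun p => a p.1 p.2 ≠ 0)).card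
      < 2 * Fintype.card I) :
    (∀ i j, a i j = 0) ∨ (∃ j₀ c, ∀ i j, a i j = if j = j₀ then c else 0) ∨
      (∃ i₀ c, ∀ i j, a i j = if i = i₀ then c else 0) := by
  set N := ((Finset.univ : Finset (I × J)).filter (fun p => a p.1 p.2 ≠ 0)) with hN
  by_cases hcol : ∀ i i' j, a i j = a i' j
  · -- columns are constant
    rcases isEmpty_or_nonempty I with hI | ⟨⟨i₀⟩⟩
    · left
      intro i
      exact (hI.false i).elim
    set Kc : Finset J := Finset.univ.filter (fun j => a i₀ j ≠ 0) with hKc
    have hNeq : N = (Finset.univ : Finset I) ×ˢ Kc := by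
      ext ⟨i, j⟩
      simp only [hN, hKc, Finset.mem_filter, Finset.mem_univ, true_and, Finset.mem_product]
      rw [hcol i i₀ j]
    have hcard : N.card = Fintype.card I * Kc.card := by
      rw [hNeq, Finset.card_product, Finset.card_univ]
    rw [hcard] at hfew
    have hI0 : 0 < Fintype.card I := Fintype.card_pos_iff.2 ⟨i₀⟩
    have hK1 : Kc.card ≤ 1 := by
      by_contra h
      push Not at h
      have : Fintype.card I * 2 ≤ Fintype.card I * Kc.card := Nat.mul_le_mul_left _ h
      omega
    rcases Nat.eq_zero_or_pos Kc.card with h0 | hpos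
    · left
      intro i j
      rw [hcol i i₀ j]
      by_contra hne
      have : j ∈ Kc := by rw [hKc, Finset.mem_filter]; exact ⟨Finset.mem_univ _, hne⟩
      rw [Finset.card_eq_zero] at h0
      rw [h0] at this
      exact absurd this (Finset.notMem_empty j)
    · right; left
      have h1 : Kc.card = 1 := by omega
      obtain ⟨j₀, hj₀⟩ := Finset.card_eq_one.1 h1
      refine ⟨j₀, a i₀ j₀, fun i j => ?_⟩
      rw [hcol i i₀ j]
      split_ifs with h
      · rw [h]
      · by_contra hne
        have : j ∈ Kc := by rw [hKc, Finset.mem_filter]; exact ⟨Finset.mem_univ _, hne⟩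
        rw [hj₀, Finset.mem_singleton] at this
        exact h this
  by_cases hrow : ∀ i j j', a i j = a i j'
  · -- rows are constant
    rcases isEmpty_or_nonempty J with hJ | ⟨⟨j₀⟩⟩
    · left
      intro i j
      exact (hJ.false j).elim
    set Kr : Finset I := Finset.univ.filter (fun i => a i j₀ ≠ 0) with hKr
    have hNeq : N = Kr ×ˢ (Finset.univ : Finset J) := by
      ext ⟨i, j⟩
      simp only [hN, hKr, Finset.mem_filter, Finset.mem_univ, true_and, Finset.mem_product,
        and_true]
      rw [hrow i j j₀]
    have hcard : N.card = Kr.card * Fintype.card J := by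
      rw [hNeq, Finset.card_product, Finset.card_univ]
    rw [hcard] at hfew
    have hK1 : Kr.card ≤ 1 := by
      by_contra h
      push Not at h
      have : 2 * Fintype.card J ≤ Kr.card * Fintype.card J := Nat.mul_le_mul_right _ h
      omega
    rcases Nat.eq_zero_or_pos Kr.card with h0 | hpos
    · left
      intro i j
      rw [hrow i j j₀]
      by_contra hne
      have : i ∈ Kr := by rw [hKr, Finset.mem_filter]; exact ⟨Finset.mem_univ _, hne⟩
      rw [Finset.card_eq_zero] at h0
      rw [h0] at this
      exact absurd this (Finset.notMem_empty i)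
    · right; right
      have h1 : Kr.card = 1 := by omega
      obtain ⟨i₁, hi₁⟩ := Finset.card_eq_one.1 h1
      refine ⟨i₁, a i₁ j₀, fun i j => ?_⟩
      rw [hrow i j j₀]
      split_ifs with h
      · rw [h]
      · by_contra hne
        have : i ∈ Kr := by rw [hKr, Finset.mem_filter]; exact ⟨Finset.mem_univ _, hne⟩
        rw [hi₁, Finset.mem_singleton] at this
        exact h this
  -- neither: too many nonzero entries
  exfalso
  push Not at hcol hrow
  obtain ⟨i₁, i₂, js, hi⟩ := hcol
  obtain ⟨is, j₁, j₂, hj⟩ := hrow
  have hi12 : i₁ ≠ i₂ := by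
    rintro rfl
    exact hi rfl
  have hcolne : ∀ j, a i₁ j ≠ 0 ∨ a i₂ j ≠ 0 := by
    intro j
    by_contra h
    push Not at h
    have := hrect i₁ i₂ j js
    rw [h.1, h.2] at this
    apply hi
    linear_combination -this
  have hrowne : ∀ i, a i j₁ ≠ 0 ∨ a i j₂ ≠ 0 := by
    intro i
    by_contra h
    push Not at h
    have := hrect i is j₁ j₂
    rw [h.1, h.2] at this
    apply hj
    linear_combination -this
  -- injection from J ⊕ (I \ {i₁, i₂}) into N
  set S₁ : Finset (I × J) := (Finset.univ : Finset J).image
    (fun j => (if a i₁ j ≠ 0 then i₁ else i₂, j)) with hS₁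
  set S₂ : Finset (I × J) := ((Finset.univ : Finset I).erase i₁ |>.erase i₂).image
    (fun i => (i, if a i j₁ ≠ 0 then j₁ else j₂)) with hS₂
  have hS₁N : S₁ ⊆ N := by
    intro p hp
    obtain ⟨j, _, rfl⟩ := Finset.mem_image.1 hp
    rw [hN, Finset.mem_filter]
    refine ⟨Finset.mem_univ _, ?_⟩
    show a (if a i₁ j ≠ 0 then i₁ else i₂) j ≠ 0
    split_ifs with h
    · exact h
    · push Not at h
      rcases hcolne j with h' | h'
      · exact absurd h h'
      · exact h'
  have hS₂N : S₂ ⊆ N := by
    intro p hp
    obtain ⟨i, _, rfl⟩ := Finset.mem_image.1 hp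
    rw [hN, Finset.mem_filter]
    refine ⟨Finset.mem_univ _, ?_⟩
    show a i (if a i j₁ ≠ 0 then j₁ else j₂) ≠ 0
    split_ifs with h
    · exact h
    · push Not at h
      rcases hrowne i with h' | h'
      · exact absurd h h'
      · exact h'
  have hdisj : Disjoint S₁ S₂ := by
    rw [Finset.disjoint_left]
    intro p hp1 hp2
    obtain ⟨j, _, rfl⟩ := Finset.mem_image.1 hp1
    obtain ⟨i, hi', hp⟩ := Finset.mem_image.1 hp2
    have hfst := congrArg Prod.fst hp
    simp only at hfst
    rw [Finset.mem_erase, Finset.mem_erase] at hi'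
    split_ifs at hfst with h
    · exact hi'.2.1 hfst
    · exact hi'.1 hfst
  have hc1 : S₁.card = Fintype.card J := by
    rw [hS₁, Finset.card_image_of_injective, Finset.card_univ]
    intro j j' h
    exact congrArg Prod.snd h
  have hc2 : S₂.card = Fintype.card I - 2 := by
    rw [hS₂, Finset.card_image_of_injective]
    · rw [Finset.card_erase_of_mem, Finset.card_erase_of_mem (Finset.mem_univ _), Finset.card_univ]
      · omega
      · rw [Finset.mem_erase]
        exact ⟨hi12.symm, Finset.mem_univ _⟩
    · intro i i' h
      exact congrArg Prod.fst h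
  have hle : S₁.card + S₂.card ≤ N.card := by
    rw [← Finset.card_union_of_disjoint hdisj]
    exact Finset.card_le_card (Finset.union_subset hS₁N hS₂N)
  have hI2 : 2 ≤ Fintype.card I := by
    have : ({i₁, i₂} : Finset I).card ≤ Fintype.card I := Finset.card_le_univ _
    rwa [Finset.card_pair hi12] at this
  rw [hc1, hc2] at hle
  omega

end Rect

end Cfsg.Agent.Lib.Helper4
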