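import Mathlib
import Cfsg.Agent.Lib.Helper5.S3452_Base

/-! # S3452 swarm, package MTM : the split torus of `PSL₂(p)` -/

set_option autoImplicit false
set_option linter.unusedSectionVars false

namespace Cfsg.Agent.Lib.S3452

open Matrix Cfsg.Agent.Lib.Helper5

variable (p : ℕ) [Fact p.Prime]

theorem mtm_two_ne_zero (hp : 5 ≤ p) : (2 : ZMod p) ≠ 0 := by
  intro h
  have h2 : ((2 : ℕ) : ZMod p) = 0 := by exact_mod_cast h
  rw [ZMod.natCast_eq_zero_iff] at h2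
  have := Nat.le_of_dvd (by norm_num) h2
  omega

/-- the matrix of `diagHom u` -/
theorem mtm_diagHom_coe (u : (ZMod p)ˣ) :
    ((diagHom u : SLp p) : Matrix (Fin 2) (Fin 2) (ZMod p)) =
      !![(u : ZMod p), 0; 0, ((u⁻¹ : (ZMod p)ˣ) : ZMod p)] := rfl

/-- the second matrix `!![t₀, 1; -1, 0]` -/
def mtmB (t₀ : ZMod p) : SLp p :=
  ⟨!![t₀, 1; -1, 0], by rw [Matrix.det_fin_two_of]; ring⟩

theorem mtm_trace (u : (ZMod p)ˣ) (t₀ : ZMod p) :
    ((diagHom u * mtmB p t₀ : SLp p) : Matrix (Fin 2) (Fin 2) (ZMod p)).trace = (u : ZMod p) * t₀ := by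
  have e : ((diagHom u * mtmB p t₀ : SLp p) : Matrix (Fin 2) (Fin 2) (ZMod p)) =
      !![(u : ZMod p), 0; 0, ((u⁻¹ : (ZMod p)ˣ) : ZMod p)] * !![t₀, 1; -1, 0] := rfl
  rw [e, Matrix.mul_fin_two, Matrix.trace_fin_two_of]
  ring

theorem torus_minus (hp : 5 ≤ p) : ∃ g : PSL p, 2 * orderOf g = p - 1 ∧
    ∀ (k : ℕ) (j₀ : Fin k) (t₀ : ZMod p), t₀ ≠ 0 →
      (∑ i ∈ Finset.range (orderOf g), transl p k (g ^ i) (fc p k (t₀ ^ 2) j₀)) ≠ 0 := by
  classical
  have h2 : (2 : ZMod p) ≠ 0 := mtm_two_ne_zero p hp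
  obtain ⟨ζ, hζ⟩ := IsCyclic.exists_generator (α := (ZMod p)ˣ)
  have hζo : orderOf ζ = p - 1 := by
    rw [orderOf_eq_card_of_forall_mem_zpowers hζ, Nat.card_eq_fintype_card, ZMod.card_units]
  have hodd : Odd p := (Fact.out : p.Prime).odd_of_ne_two (by omega)
  obtain ⟨m, hm⟩ : ∃ m, p - 1 = 2 * m := by
    obtain ⟨c, hc⟩ := hodd
    exact ⟨c, by omega⟩
  have hm2 : 2 ≤ m := by omega
  set D : SLp p := diagHom ζ with hD
  have hDo : orderOf D = p - 1 := by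
    rw [hD, orderOf_injective diagHom diagHom_injective, hζo]
  -- powers of the class
  have hpow : ∀ k : ℕ, cls p D ^ k = 1 ↔ m ∣ k := by
    intro k
    have := mk_pow_eq_one_iff_odd h2 D k
    rw [show cls p D = (QuotientGroup.mk D : ProjectiveSpecialLinearGroup (Fin 2) (ZMod p)) from rfl,
      this, ← orderOf_dvd_iff_pow_eq_one, hDo, hm]
    exact Nat.mul_dvd_mul_iff_left (by norm_num)
  have hgo : orderOf (cls p D) = m := by
    apply Nat.dvd_antisymm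
    · exact orderOf_dvd_of_pow_eq_one ((hpow m).2 dvd_rfl)
    · exact (hpow _).1 (pow_orderOf_eq_one _)
  refine ⟨cls p D, by rw [hgo, hm], ?_⟩
  intro k j₀ t₀ ht₀
  rw [hgo]
  intro hsum
  have hval := congrFun hsum (j₀, cls p (mtmB p t₀))
  rw [Finset.sum_apply] at hval
  -- only the term `i = 0` survives
  have hterm : ∀ i ∈ Finset.range m, i ≠ 0 →
      transl p k (cls p D ^ i) (fc p k (t₀ ^ 2) j₀) (j₀, cls p (mtmB p t₀)) = 0 := by
    intro i hi hi0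
    rw [transl_apply, fc_apply]
    have hcls : (cls p D ^ i)⁻¹ * cls p (mtmB p t₀) = cls p (diagHom (ζ ^ i)⁻¹ * mtmB p t₀) := by
      rw [cls_mul, map_inv, map_pow, cls_inv, cls_pow]
    rw [if_neg]
    rintro ⟨-, htr⟩
    rw [hcls, trsq_cls, mtm_trace, mul_pow] at htr
    have h1 : (((ζ ^ i)⁻¹ : (ZMod p)ˣ) : ZMod p) ^ 2 = 1 := by
      have ht2 : t₀ ^ 2 ≠ 0 := pow_ne_zero 2 ht₀
      have : ((((ζ ^ i)⁻¹ : (ZMod p)ˣ) : ZMod p) ^ 2 - 1) * t₀ ^ 2 = 0 := by rw [sub_mul, htr]; ring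
      rcases mul_eq_zero.1 this with h | h
      · exact sub_eq_zero.1 h
      · exact absurd h ht2
    have h3 : ((ζ ^ i)⁻¹ : (ZMod p)ˣ) ^ 2 = 1 := by
      apply Units.ext
      rw [Units.val_pow_eq_pow_val, h1, Units.val_one]
    have h4 : ζ ^ (i * 2) = 1 := by
      rw [inv_pow, inv_eq_one, ← pow_mul] at h3
      exact h3
    have h5 : (p - 1) ∣ i * 2 := by rw [← hζo]; exact orderOf_dvd_of_pow_eq_one h4
    rw [hm, mul_comm i 2] at h5
    have h6 : m ∣ i := (Nat.mul_dvd_mul_iff_left (by norm_num)).1 h5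
    have := Nat.le_of_dvd (Nat.pos_of_ne_zero hi0) h6
    rw [Finset.mem_range] at hi
    omega
  rw [Finset.sum_eq_single_of_mem 0 (Finset.mem_range.2 (by omega)) hterm] at hval
  rw [pow_zero, transl_apply, fc_apply, inv_one, one_mul, if_pos] at hval
  · rw [Pi.zero_apply] at hval
    exact one_ne_zero hval
  · refine ⟨rfl, ?_⟩
    rw [trsq_cls]
    have : ((mtmB p t₀ : SLp p) : Matrix (Fin 2) (Fin 2) (ZMod p)) = !![t₀, 1; -1, 0] := rfl
    rw [this, Matrix.trace_fin_two_of, add_zero]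

end Cfsg.Agent.Lib.S3452
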