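import Mathlib

/-! # S3452 swarm, package PGLA2 : element orders of `PGL₂(F)`, `|F| = 2` -/

set_option autoImplicit false
set_option linter.unusedSectionVars false
set_option linter.unusedVariables false

namespace Cfsg.Agent.Lib.S3452

open Matrix

section pgl
variable {F : Type*} [Field F] [Fintype F] (p : ℕ) [Fact p.Prime] [CharP F p]

theorem pgla2_cases (hF : Fintype.card F = 2) (a : F) : a = 0 ∨ a = 1 := by
  classical
  by_cases h : a = 0
  · exact Or.inl h
  · right
    have hcard : Fintype.card Fˣ = 1 := by rw [Fintype.card_units, hF]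
    have hsub : Subsingleton Fˣ := Fintype.card_le_one_iff_subsingleton.1 hcard.le
    have := congrArg Units.val (Subsingleton.elim (Units.mk0 a h) 1)
    simpa using this

theorem pgla2_add_self (hF : Fintype.card F = 2) (a : F) : a + a = 0 := by
  have h11 : (1 : F) + 1 = 0 := by
    rcases pgla2_cases hF ((1 : F) + 1) with h | h
    · exact h
    · exact absurd (add_eq_left.1 h) one_ne_zero
  calc a + a = a * (1 + 1) := by ring
    _ = 0 := by rw [h11, mul_zero]

theorem pgla2_cayley (M : Matrix (Fin 2) (Fin 2) F) :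
    M ^ 2 = M.trace • M - M.det • (1 : Matrix (Fin 2) (Fin 2) F) := by
  rw [Matrix.eta_fin_two M, pow_two, Matrix.mul_fin_two, Matrix.trace_fin_two_of,
    Matrix.det_fin_two_of, Matrix.one_fin_two, Matrix.smul_of, Matrix.smul_of]
  ext i j
  fin_cases i <;> fin_cases j <;> simp <;> ring

/-- PGLA2 (det = 1; tr = 0 → g² = 1; tr = 1 → g³ = 1) -/
theorem pgl2_orderOf_dvd_two (hF : Fintype.card F = 2)
    (x : GL (Fin 2) F ⧸ Subgroup.center (GL (Fin 2) F)) : orderOf x ∣ 2 ∨ orderOf x ∣ 3 := by
  obtain ⟨g, rfl⟩ := QuotientGroup.mk_surjective x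
  obtain ⟨M, hM⟩ : ∃ M : Matrix (Fin 2) (Fin 2) F, M = (g : Matrix (Fin 2) (Fin 2) F) := ⟨_, rfl⟩
  have hdet : M.det = 1 := by
    rcases pgla2_cases hF M.det with h | h
    · exfalso
      have hu : IsUnit M := hM ▸ g.isUnit
      have := (Matrix.isUnit_iff_isUnit_det M).1 hu
      rw [h] at this
      exact not_isUnit_zero this
    · exact h
  have hneg : ∀ A : Matrix (Fin 2) (Fin 2) F, -A = A := by
    intro A
    rw [neg_eq_iff_add_eq_zero]
    ext i j
    exact pgla2_add_self hF (A i j)
  have hCH := pgla2_cayley M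
  rw [hdet, one_smul] at hCH
  rcases pgla2_cases hF M.trace with h0 | h1
  · left
    have hM2 : M ^ 2 = 1 := by rw [hCH, h0, zero_smul, zero_sub, hneg]
    apply orderOf_dvd_of_pow_eq_one
    rw [← QuotientGroup.mk_pow]
    have : g ^ 2 = 1 := by
      apply Units.ext
      rw [Units.val_pow_eq_pow_val, ← hM, hM2, Units.val_one]
    rw [this, QuotientGroup.mk_one]
  · right
    have hM2 : M ^ 2 = M + 1 := by rw [hCH, h1, one_smul, sub_eq_add_neg, hneg]
    have hM3 : M ^ 3 = 1 := by
      have hMM : M + M = 0 := by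
        ext i j
        exact pgla2_add_self hF (M i j)
      calc M ^ 3 = M ^ 2 * M := by rw [pow_succ]
        _ = (M + 1) * M := by rw [hM2]
        _ = M ^ 2 + M := by rw [add_mul, one_mul, pow_two]
        _ = (M + M) + 1 := by rw [hM2]; abel
        _ = 1 := by rw [hMM, zero_add]
    apply orderOf_dvd_of_pow_eq_one
    rw [← QuotientGroup.mk_pow]
    have : g ^ 3 = 1 := by
      apply Units.ext
      rw [Units.val_pow_eq_pow_val, ← hM, hM3, Units.val_one]
    rw [this, QuotientGroup.mk_one]

end pgl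

end Cfsg.Agent.Lib.S3452
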