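import Mathlib
import Cfsg.Agent.S2119

/-!
# S3571, package EMB (helper4)

A finite group `G` with a normal subgroup `T ≅ A_m` (`m ≥ 5`, `m ≠ 6`) and `C_G(T) = 1` embeds in
`Perm (Fin m)` by a homomorphism extending the given isomorphism `T ≅ A_m`.
Uses the landed S2119 (`Aut(A_m) = S_m`).
-/

set_option autoImplicit false

namespace Cfsg.Agent.Lib.Helper4.S3571E

open Equiv

/-- transport of an inner automorphism along a group isomorphism -/
theorem congr_conj {A B : Type*} [Group A] [Group B] (e : A ≃* B) (a : A) :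
    MulAut.congr e (MulAut.conj a) = MulAut.conj (e a) := by
  ext b
  simp [MulAut.congr, MulAut.conj_apply]

end Cfsg.Agent.Lib.Helper4.S3571E

namespace Cfsg.Agent.Lib.S3571

open Equiv

theorem exists_embedding {G : Type*} [Group G] [Finite G] (T : Subgroup G) (hT : T.Normal)
    (hTc : Subgroup.centralizer (T : Set G) = ⊥) (m : ℕ) (hm : 5 ≤ m) (h6 : m ≠ 6)
    (eT : ↥T ≃* ↥(alternatingGroup (Fin m))) :
    ∃ ψ : G →* Perm (Fin m), Function.Injective ψ ∧
      ∀ t : T, ψ (t : G) = ((eT t : alternatingGroup (Fin m)) : Perm (Fin m)) := by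
  classical
  have _hTn : T.Normal := hT
  have hbij := Cfsg.Agent.S2119.result m (by omega) h6
  let E : Perm (Fin m) ≃* MulAut (alternatingGroup (Fin m)) := MulEquiv.ofBijective _ hbij
  have hE : ∀ σ : Perm (Fin m), E σ = MulAut.conjNormal σ := fun σ => rfl
  let ψ : G →* Perm (Fin m) :=
    E.symm.toMonoidHom.comp
      ((MulAut.congr eT).toMonoidHom.comp (MulAut.conjNormal : G →* MulAut T))
  have hψ : ∀ g : G, E (ψ g) = MulAut.congr eT (MulAut.conjNormal g : MulAut T) := by
    intro g
    simp [ψ]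
  refine ⟨ψ, ?_, ?_⟩
  · rw [injective_iff_map_eq_one]
    intro g hg
    have h0 : MulAut.congr eT (MulAut.conjNormal g : MulAut T) = 1 := by
      rw [← hψ g, hg, map_one]
    have h1 : (MulAut.conjNormal g : MulAut T) = 1 :=
      (MulEquiv.map_eq_one_iff (MulAut.congr eT)).mp h0
    have hgC : g ∈ Subgroup.centralizer (T : Set G) := by
      rw [Subgroup.mem_centralizer_iff]
      intro t ht
      have h2 : ((MulAut.conjNormal g : MulAut T) ⟨t, ht⟩ : G) = t := by
        rw [h1]; rfl
      rw [MulAut.conjNormal_apply] at h2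
      have h3 : g * t * g⁻¹ = t := h2
      calc t * g = (g * t * g⁻¹) * g := by rw [h3]
        _ = g * t := by group
    rw [hTc] at hgC
    exact Subgroup.mem_bot.mp hgC
  · intro t
    apply E.injective
    rw [hψ, hE, MulAut.conjNormal_val, MulAut.conjNormal_val,
      Cfsg.Agent.Lib.Helper4.S3571E.congr_conj]

end Cfsg.Agent.Lib.S3571
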