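import Mathlib

set_option autoImplicit false

/-! Groups with a self-centralizing element of prime order: basic structure. -/

namespace Cfsg.Agent.Lib.Helper4.SC

universe u

section

variable {G : Type u} [Group G] [Finite G] {p : ℕ} [hp : Fact p.Prime] {x : G}

theorem card_zpowers_eq (hx : orderOf x = p) : Nat.card (Subgroup.zpowers x) = p := by
  rw [Nat.card_zpowers, hx]

/-- A nontrivial element of `⟨x⟩` generates `⟨x⟩`. -/
theorem mem_zpowers_of_ne_one (hx : orderOf x = p) {y : G} (hy : y ∈ Subgroup.zpowers x)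
    (hy1 : y ≠ 1) : x ∈ Subgroup.zpowers y := by
  have hle : Subgroup.zpowers y ≤ Subgroup.zpowers x := by
    rw [Subgroup.zpowers_le]
    exact hy
  have hcard : Nat.card (Subgroup.zpowers x) = p := card_zpowers_eq hx
  have h1 : Nat.card (Subgroup.zpowers y) ∣ p := by
    rw [← hcard]
    exact Subgroup.card_dvd_of_le hle
  rcases (Nat.dvd_prime hp.out).1 h1 with h | h
  · exfalso
    apply hy1
    have := Subgroup.card_eq_one.1 h
    rw [Subgroup.zpowers_eq_bot] at this
    exact this
  · have heq : Subgroup.zpowers y = Subgroup.zpowers x := by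
      apply Subgroup.eq_of_le_of_card_ge hle
      rw [h, hcard]
    rw [heq]
    exact Subgroup.mem_zpowers x

theorem zpowers_eq_of_ne_one (hx : orderOf x = p) {y : G} (hy : y ∈ Subgroup.zpowers x)
    (hy1 : y ≠ 1) : Subgroup.zpowers y = Subgroup.zpowers x := by
  apply le_antisymm
  · rw [Subgroup.zpowers_le]; exact hy
  · rw [Subgroup.zpowers_le]; exact mem_zpowers_of_ne_one hx hy hy1

theorem orderOf_of_mem (hx : orderOf x = p) {y : G} (hy : y ∈ Subgroup.zpowers x)
    (hy1 : y ≠ 1) : orderOf y = p := by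
  rw [← Nat.card_zpowers, zpowers_eq_of_ne_one hx hy hy1, Nat.card_zpowers, hx]

/-- Elements commuting with a nontrivial element of `⟨x⟩` lie in `⟨x⟩`. -/
theorem mem_of_commute (hx : orderOf x = p)
    (hC : Subgroup.centralizer ({x} : Set G) = Subgroup.zpowers x) {y : G}
    (hy : y ∈ Subgroup.zpowers x) (hy1 : y ≠ 1) {g : G} (hg : g * y = y * g) :
    g ∈ Subgroup.zpowers x := by
  have hxy := mem_zpowers_of_ne_one hx hy hy1
  rw [← hC, Subgroup.mem_centralizer_iff]
  intro z hz
  rw [Set.mem_singleton_iff] at hz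
  subst hz
  obtain ⟨k, hk⟩ := Subgroup.mem_zpowers_iff.1 hxy
  rw [← hk]
  have : Commute g y := hg
  exact ((this.zpow_right k).eq).symm

theorem commute_of_mem {y z : G} (hy : y ∈ Subgroup.zpowers x) (hz : z ∈ Subgroup.zpowers x) :
    y * z = z * y := by
  obtain ⟨k, rfl⟩ := Subgroup.mem_zpowers_iff.1 hy
  obtain ⟨l, rfl⟩ := Subgroup.mem_zpowers_iff.1 hz
  rw [← zpow_add, ← zpow_add, add_comm]

/-- `⟨x⟩` is a Sylow `p`-subgroup. -/
theorem exists_sylow (hx : orderOf x = p)
    (hC : Subgroup.centralizer ({x} : Set G) = Subgroup.zpowers x) :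
    ∃ Q : Sylow p G, (Q : Subgroup G) = Subgroup.zpowers x := by
  have hPp : IsPGroup p (Subgroup.zpowers x) := IsPGroup.of_card (n := 1) (by
    rw [card_zpowers_eq hx, pow_one])
  obtain ⟨Q, hQ⟩ := hPp.exists_le_sylow
  refine ⟨Q, le_antisymm ?_ hQ⟩
  have hxQ : x ∈ (Q : Subgroup G) := hQ (Subgroup.mem_zpowers x)
  haveI : Nontrivial (Q : Subgroup G) := by
    refine ⟨⟨⟨x, hxQ⟩, 1, ?_⟩⟩
    intro h
    have h1 : x = 1 := congrArg Subtype.val h
    rw [h1, orderOf_one] at hx
    exact hp.out.one_lt.ne hx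
  haveI := Q.isPGroup'.center_nontrivial
  obtain ⟨z, hz⟩ := exists_ne (1 : Subgroup.center (Q : Subgroup G))
  have hzc : ∀ q : (Q : Subgroup G), q * (z : (Q : Subgroup G)) = (z : (Q : Subgroup G)) * q :=
    fun q => (Subgroup.mem_center_iff.1 z.2 q)
  have hz1 : ((z : (Q : Subgroup G)) : G) ≠ 1 := by
    intro h
    apply hz
    apply Subtype.ext
    apply Subtype.ext
    exact h
  have hzP : ((z : (Q : Subgroup G)) : G) ∈ Subgroup.zpowers x := by
    rw [← hC, Subgroup.mem_centralizer_iff]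
    intro w hw
    rw [Set.mem_singleton_iff] at hw
    subst hw
    have := hzc ⟨w, hxQ⟩
    exact congrArg Subtype.val this
  intro q hq
  apply mem_of_commute hx hC hzP hz1
  exact congrArg Subtype.val (hzc ⟨q, hq⟩)

/-- Fusion of nontrivial elements of `⟨x⟩` is controlled by the normalizer. -/
theorem mem_normalizer_of_conj (hx : orderOf x = p) {y y' g : G}
    (hy : y ∈ Subgroup.zpowers x) (hy1 : y ≠ 1) (hy' : y' ∈ Subgroup.zpowers x)
    (hconj : g * y * g⁻¹ = y') : g ∈ Subgroup.normalizer ((Subgroup.zpowers x : Subgroup G) : Set G) := by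
  have hy'1 : y' ≠ 1 := by
    intro h
    apply hy1
    rw [h] at hconj
    have : y = g⁻¹ * 1 * g := by rw [← hconj]; group
    rw [this]; group
  have key : ∀ w, w ∈ Subgroup.zpowers x → g * w * g⁻¹ ∈ Subgroup.zpowers x := by
    intro w hw
    rw [← zpowers_eq_of_ne_one hx hy hy1] at hw
    obtain ⟨k, rfl⟩ := Subgroup.mem_zpowers_iff.1 hw
    have : g * y ^ k * g⁻¹ = (g * y * g⁻¹) ^ k := by
      rw [conj_zpow]
    rw [this, hconj]
    exact Subgroup.zpow_mem _ hy' k
  rw [Subgroup.mem_normalizer_iff]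
  intro w
  constructor
  · exact key w
  · intro h
    -- conjugation by g is injective on the finite group ⟨x⟩, hence surjective
    have hinj : Function.Injective (fun w : Subgroup.zpowers x =>
        (⟨g * w * g⁻¹, key w w.2⟩ : Subgroup.zpowers x)) := by
      intro a b hab
      have h1 : g * a * g⁻¹ = g * b * g⁻¹ := congrArg Subtype.val hab
      apply Subtype.ext
      have h2 : (a : G) = g⁻¹ * (g * a * g⁻¹) * g := by group
      rw [h2, h1]; group
    obtain ⟨w', hw'⟩ := (Finite.injective_iff_surjective.1 hinj) ⟨g * w * g⁻¹, h⟩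
    have h1 : g * w' * g⁻¹ = g * w * g⁻¹ := congrArg Subtype.val hw'
    have h2 : (w' : G) = w := by
      have h3 : (w' : G) = g⁻¹ * (g * w' * g⁻¹) * g := by group
      rw [h3, h1]; group
    rw [← h2]
    exact w'.2

end

end Cfsg.Agent.Lib.Helper4.SC
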