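import Mathlib
import Cfsg.Agent.Lib.Helper4.SC1

set_option autoImplicit false

/-! Groups with a self-centralizing element of prime order: the Frattini argument. -/

namespace Cfsg.Agent.Lib.Helper4.SC

universe u

section

variable {G : Type u} [Group G] [Finite G] {p : ℕ} [hp : Fact p.Prime] {x : G}

theorem conj_mem_of_mem_normalizer {n : G}
    (hn : n ∈ Subgroup.normalizer ((Subgroup.zpowers x : Subgroup G) : Set G)) :
    ∃ k : ℤ, n * x * n⁻¹ = x ^ k := by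
  have := (Subgroup.mem_normalizer_iff.1 hn x).1 (Subgroup.mem_zpowers x)
  obtain ⟨k, hk⟩ := Subgroup.mem_zpowers_iff.1 this
  exact ⟨k, hk.symm⟩

/-- The commutator of two elements of the normalizer of `⟨x⟩` centralizes `x`. -/
theorem commutator_mem_of_normalizer
    (hC : Subgroup.centralizer ({x} : Set G) = Subgroup.zpowers x) {n n' : G}
    (hn : n ∈ Subgroup.normalizer ((Subgroup.zpowers x : Subgroup G) : Set G))
    (hn' : n' ∈ Subgroup.normalizer ((Subgroup.zpowers x : Subgroup G) : Set G)) :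
    n * n' * n⁻¹ * n'⁻¹ ∈ Subgroup.zpowers x := by
  -- apply the computation to the inverses
  obtain ⟨k, hk⟩ := conj_mem_of_mem_normalizer (Subgroup.inv_mem _ hn)
  obtain ⟨l, hl⟩ := conj_mem_of_mem_normalizer (Subgroup.inv_mem _ hn')
  have e1 : (n⁻¹ * n'⁻¹) * x * (n⁻¹ * n'⁻¹)⁻¹ = x ^ (k * l) := by
    have : (n⁻¹ * n'⁻¹) * x * (n⁻¹ * n'⁻¹)⁻¹ = n⁻¹ * (n'⁻¹ * x * n'⁻¹⁻¹) * n⁻¹⁻¹ := by group
    rw [this, hl, ← conj_zpow, hk, ← zpow_mul]
  have e2 : (n'⁻¹ * n⁻¹) * x * (n'⁻¹ * n⁻¹)⁻¹ = x ^ (k * l) := by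
    have : (n'⁻¹ * n⁻¹) * x * (n'⁻¹ * n⁻¹)⁻¹ = n'⁻¹ * (n⁻¹ * x * n⁻¹⁻¹) * n'⁻¹⁻¹ := by group
    rw [this, hk, ← conj_zpow, hl, ← zpow_mul, mul_comm]
  rw [← hC, Subgroup.mem_centralizer_iff]
  intro z hz
  rw [Set.mem_singleton_iff] at hz
  subst hz
  have e3 : (n⁻¹ * n'⁻¹) * z * (n⁻¹ * n'⁻¹)⁻¹ = (n'⁻¹ * n⁻¹) * z * (n'⁻¹ * n⁻¹)⁻¹ := by
    rw [e1, e2]
  have e4 : z = (n'⁻¹ * n⁻¹)⁻¹ * ((n⁻¹ * n'⁻¹) * z * (n⁻¹ * n'⁻¹)⁻¹) * (n'⁻¹ * n⁻¹) := by
    rw [e3]; group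
  have e5 : (n * n' * n⁻¹ * n'⁻¹) * z * (n * n' * n⁻¹ * n'⁻¹)⁻¹ = z := by
    conv_rhs => rw [e4]
    group
  calc z * (n * n' * n⁻¹ * n'⁻¹)
      = ((n * n' * n⁻¹ * n'⁻¹) * z * (n * n' * n⁻¹ * n'⁻¹)⁻¹) * (n * n' * n⁻¹ * n'⁻¹) := by rw [e5]
    _ = n * n' * n⁻¹ * n'⁻¹ * z := by group

/-- Any normal subgroup containing `⟨x⟩` contains the commutator subgroup. -/
theorem commutator_le_of_normal (hx : orderOf x = p)
    (hC : Subgroup.centralizer ({x} : Set G) = Subgroup.zpowers x)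
    (M : Subgroup G) [hM : M.Normal] (hPM : Subgroup.zpowers x ≤ M) :
    commutator G ≤ M := by
  obtain ⟨Q, hQ⟩ := exists_sylow hx hC
  have hQM : (Q : Subgroup G) ≤ M := by rw [hQ]; exact hPM
  have hfr : Subgroup.normalizer ((Subgroup.zpowers x : Subgroup G) : Set G) ⊔ M = ⊤ := by
    rw [← hQ]
    exact Sylow.normalizer_sup_eq_top' Q hQM
  rw [← Subgroup.Normal.quotient_commutative_iff_commutator_le]
  refine ⟨⟨fun a b => ?_⟩⟩
  obtain ⟨g, rfl⟩ := QuotientGroup.mk_surjective a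
  obtain ⟨h, rfl⟩ := QuotientGroup.mk_surjective b
  have hg : g ∈ Subgroup.normalizer ((Subgroup.zpowers x : Subgroup G) : Set G) ⊔ M := by
    rw [hfr]; trivial
  have hh : h ∈ Subgroup.normalizer ((Subgroup.zpowers x : Subgroup G) : Set G) ⊔ M := by
    rw [hfr]; trivial
  rw [← SetLike.mem_coe, Subgroup.mul_normal] at hg hh
  obtain ⟨n, hn, m, hm, rfl⟩ := Set.mem_mul.1 hg
  obtain ⟨n', hn', m', hm', rfl⟩ := Set.mem_mul.1 hh
  have h1 : ((n * m : G) : G ⧸ M) = (n : G ⧸ M) := by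
    rw [QuotientGroup.mk_mul, (QuotientGroup.eq_one_iff m).2 hm, mul_one]
  have h2 : ((n' * m' : G) : G ⧸ M) = (n' : G ⧸ M) := by
    rw [QuotientGroup.mk_mul, (QuotientGroup.eq_one_iff m').2 hm', mul_one]
  rw [h1, h2]
  have h3 := hPM (commutator_mem_of_normalizer hC hn hn')
  have h4 : ((n * n' * n⁻¹ * n'⁻¹ : G) : G ⧸ M) = 1 := (QuotientGroup.eq_one_iff _).2 h3
  rw [QuotientGroup.mk_mul, QuotientGroup.mk_mul, QuotientGroup.mk_mul, QuotientGroup.mk_inv,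
    QuotientGroup.mk_inv] at h4
  have : (n : G ⧸ M) * (n' : G ⧸ M) =
      ((n : G ⧸ M) * (n' : G ⧸ M) * (n : G ⧸ M)⁻¹ * (n' : G ⧸ M)⁻¹) * ((n' : G ⧸ M) * (n : G ⧸ M)) := by
    group
  rw [this, h4, one_mul]

/-- The index of a normal subgroup containing `⟨x⟩`. -/
theorem index_eq_relIndex (hx : orderOf x = p)
    (hC : Subgroup.centralizer ({x} : Set G) = Subgroup.zpowers x)
    (M : Subgroup G) [hM : M.Normal] (hPM : Subgroup.zpowers x ≤ M) :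
    M.index = M.relIndex (Subgroup.normalizer ((Subgroup.zpowers x : Subgroup G) : Set G)) := by
  obtain ⟨Q, hQ⟩ := exists_sylow hx hC
  have hQM : (Q : Subgroup G) ≤ M := by rw [hQ]; exact hPM
  have hfr : Subgroup.normalizer ((Subgroup.zpowers x : Subgroup G) : Set G) ⊔ M = ⊤ := by
    rw [← hQ]
    exact Sylow.normalizer_sup_eq_top' Q hQM
  rw [← Subgroup.relIndex_top_right, ← hfr, Subgroup.relIndex_sup_right]

theorem index_dvd_relIndex (hx : orderOf x = p)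
    (hC : Subgroup.centralizer ({x} : Set G) = Subgroup.zpowers x)
    (M : Subgroup G) [hM : M.Normal] (hPM : Subgroup.zpowers x ≤ M) :
    M.index ∣ (Subgroup.zpowers x).relIndex
      (Subgroup.normalizer ((Subgroup.zpowers x : Subgroup G) : Set G)) := by
  rw [index_eq_relIndex hx hC M hPM]
  exact Subgroup.relIndex_dvd_of_le_left _ hPM

end

end Cfsg.Agent.Lib.Helper4.SC
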