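import Mathlib
import Cfsg.Agent.Lib.Helper4.SC2

set_option autoImplicit false

/-! Groups with a self-centralizing element of prime order: counting the classes of elements
of order `p`. -/

namespace Cfsg.Agent.Lib.Helper4.SC

universe u

section

variable {G : Type u} [Group G] [Finite G] {p : ℕ} [hp : Fact p.Prime] {x : G}

/-- Every element of order `p` is conjugate to an element of `⟨x⟩`. -/
theorem exists_conj_mem (hx : orderOf x = p)
    (hC : Subgroup.centralizer ({x} : Set G) = Subgroup.zpowers x) {g : G} (hg : orderOf g = p) :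
    ∃ c : G, c * g * c⁻¹ ∈ Subgroup.zpowers x := by
  obtain ⟨Q, hQ⟩ := exists_sylow hx hC
  have hPp : IsPGroup p (Subgroup.zpowers g) := IsPGroup.of_card (n := 1) (by
    rw [card_zpowers_eq hg, pow_one])
  obtain ⟨Q', hQ'⟩ := hPp.exists_le_sylow
  obtain ⟨c, hc⟩ := MulAction.exists_smul_eq G Q' Q
  refine ⟨c, ?_⟩
  rw [← hQ, ← hc, Sylow.smul_def, Sylow.pointwise_smul_def,
    Subgroup.mem_smul_pointwise_iff_exists]
  exact ⟨g, hQ' (Subgroup.mem_zpowers g), by rw [MulAut.smul_def, MulAut.conj_apply]⟩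

/-- The number of nontrivial elements of `⟨x⟩` conjugate to a given one. -/
theorem card_fiber (hx : orderOf x = p)
    (hC : Subgroup.centralizer ({x} : Set G) = Subgroup.zpowers x) {y₀ : G}
    (hy₀ : y₀ ∈ Subgroup.zpowers x) (hy₀1 : y₀ ≠ 1) :
    Nat.card {y : G // y ∈ Subgroup.zpowers x ∧ IsConj y₀ y} =
      (Subgroup.zpowers x).relIndex
        (Subgroup.normalizer ((Subgroup.zpowers x : Subgroup G) : Set G)) := by
  classical
  set N := Subgroup.normalizer ((Subgroup.zpowers x : Subgroup G) : Set G) with hN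
  have hmem : ∀ n : N, (n : G) * y₀ * (n : G)⁻¹ ∈ Subgroup.zpowers x := fun n =>
    (Subgroup.mem_normalizer_iff.1 n.2 y₀).1 hy₀
  let φ : N → {y : G // y ∈ Subgroup.zpowers x ∧ IsConj y₀ y} := fun n =>
    ⟨(n : G) * y₀ * (n : G)⁻¹, hmem n, isConj_iff.2 ⟨n, rfl⟩⟩
  have hφ : ∀ a b : N, φ a = φ b ↔ a⁻¹ * b ∈ (Subgroup.zpowers x).subgroupOf N := by
    intro a b
    rw [Subgroup.mem_subgroupOf]
    constructor
    · intro h
      have h1 : (a : G) * y₀ * (a : G)⁻¹ = (b : G) * y₀ * (b : G)⁻¹ := congrArg Subtype.val h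
      apply mem_of_commute hx hC hy₀ hy₀1
      have h2 : y₀ = (a : G)⁻¹ * ((b : G) * y₀ * (b : G)⁻¹) * (a : G) := by
        rw [← h1]; group
      show ((a⁻¹ * b : N) : G) * y₀ = y₀ * ((a⁻¹ * b : N) : G)
      rw [Subgroup.coe_mul, Subgroup.coe_inv]
      conv_rhs => rw [h2]
      group
    · intro h
      apply Subtype.ext
      show (a : G) * y₀ * (a : G)⁻¹ = (b : G) * y₀ * (b : G)⁻¹
      have h1 := commute_of_mem h hy₀
      rw [Subgroup.coe_mul, Subgroup.coe_inv] at h1
      have h2 : y₀ = ((a : G)⁻¹ * (b : G)) * y₀ * ((a : G)⁻¹ * (b : G))⁻¹ := by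
        rw [h1]; group
      conv_lhs => rw [h2]
      group
  let ψ : N ⧸ (Subgroup.zpowers x).subgroupOf N →
      {y : G // y ∈ Subgroup.zpowers x ∧ IsConj y₀ y} :=
    Quotient.lift φ (fun a b hab => (hφ a b).2 (QuotientGroup.leftRel_apply.1 hab))
  have hψbij : Function.Bijective ψ := by
    constructor
    · intro q q' h
      induction q using Quotient.inductionOn with
      | _ a =>
      induction q' using Quotient.inductionOn with
      | _ b =>
      apply Quotient.sound
      exact QuotientGroup.leftRel_apply.2 ((hφ a b).1 h)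
    · rintro ⟨y, hy, hconj⟩
      obtain ⟨c, hc⟩ := isConj_iff.1 hconj
      have hcN : c ∈ N := mem_normalizer_of_conj hx hy₀ hy₀1 hy hc
      refine ⟨Quotient.mk _ ⟨c, hcN⟩, ?_⟩
      apply Subtype.ext
      exact hc
  rw [← Nat.card_congr (Equiv.ofBijective ψ hψbij)]
  rfl

/-- `t * e = p - 1`. -/
theorem card_classes_mul (hx : orderOf x = p)
    (hC : Subgroup.centralizer ({x} : Set G) = Subgroup.zpowers x) :
    Nat.card {C : ConjClasses G // ∃ g ∈ C.carrier, orderOf g = p} *
      (Subgroup.zpowers x).relIndex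
        (Subgroup.normalizer ((Subgroup.zpowers x : Subgroup G) : Set G)) = p - 1 := by
  classical
  letI : Fintype {C : ConjClasses G // ∃ g ∈ C.carrier, orderOf g = p} := Fintype.ofFinite _
  -- the set of nontrivial elements of ⟨x⟩
  have hX : Nat.card {y : Subgroup.zpowers x // y ≠ 1} = p - 1 := by
    have h1 := Nat.card_congr (Equiv.optionSubtypeNe (1 : Subgroup.zpowers x))
    rw [Finite.card_option, card_zpowers_eq hx] at h1
    omega
  let f : {y : Subgroup.zpowers x // y ≠ 1} →
      {C : ConjClasses G // ∃ g ∈ C.carrier, orderOf g = p} := fun y =>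
    ⟨ConjClasses.mk ((y : Subgroup.zpowers x) : G), ((y : Subgroup.zpowers x) : G),
      ConjClasses.mem_carrier_mk, orderOf_of_mem hx (y : Subgroup.zpowers x).2 (by
        intro h
        apply y.2
        exact Subtype.ext h)⟩
  have hfib : ∀ c : {C : ConjClasses G // ∃ g ∈ C.carrier, orderOf g = p},
      Nat.card {y : {y : Subgroup.zpowers x // y ≠ 1} // f y = c} =
        (Subgroup.zpowers x).relIndex
          (Subgroup.normalizer ((Subgroup.zpowers x : Subgroup G) : Set G)) := by
    rintro ⟨C, g, hgC, hg⟩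
    obtain ⟨c, hc⟩ := exists_conj_mem hx hC hg
    have hc1 : c * g * c⁻¹ ≠ 1 := by
      intro h
      have : g = c⁻¹ * (c * g * c⁻¹) * c := by group
      rw [h] at this
      have h2 : g = 1 := by rw [this]; group
      rw [h2, orderOf_one] at hg
      exact hp.out.one_lt.ne hg
    have hCeq : C = ConjClasses.mk (c * g * c⁻¹) := by
      rw [← ConjClasses.mem_carrier_iff_mk_eq.1 hgC, ConjClasses.mk_eq_mk_iff_isConj]
      exact isConj_iff.2 ⟨c, rfl⟩
    subst hCeq
    rw [← card_fiber hx hC hc hc1]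
    apply Nat.card_congr
    refine ⟨fun y => ⟨((y.1 : {y : Subgroup.zpowers x // y ≠ 1}) : Subgroup.zpowers x),
      ((y.1 : {y : Subgroup.zpowers x // y ≠ 1}) : Subgroup.zpowers x).2, ?_⟩,
      fun y => ⟨⟨⟨y.1, y.2.1⟩, ?_⟩, ?_⟩, ?_, ?_⟩
    · have h1 := congrArg Subtype.val y.2
      simp only [f] at h1
      rw [ConjClasses.mk_eq_mk_iff_isConj] at h1
      exact h1.symm
    · intro h
      have h1 : y.1 = 1 := congrArg Subtype.val h
      have h2 := y.2.2
      rw [h1] at h2
      apply hc1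
      obtain ⟨d, hd⟩ := isConj_iff.1 h2
      have : c * g * c⁻¹ = d⁻¹ * 1 * d := by rw [← hd]; group
      rw [this]; group
    · apply Subtype.ext
      show ConjClasses.mk y.1 = ConjClasses.mk (c * g * c⁻¹)
      rw [ConjClasses.mk_eq_mk_iff_isConj]
      exact y.2.2.symm
    · intro y
      rfl
    · intro y
      rfl
  have h1 := Nat.card_congr (Equiv.sigmaFiberEquiv f)
  rw [Nat.card_sigma, hX] at h1
  rw [← h1, Finset.sum_congr rfl (fun c _ => hfib c), Finset.sum_const, Finset.card_univ,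
    Nat.card_eq_fintype_card, smul_eq_mul]

end

end Cfsg.Agent.Lib.Helper4.SC
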