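import Mathlib
import Cfsg.Agent.Lib.Helper4.SC3

set_option autoImplicit false

/-! Groups with a self-centralizing element of prime order: the commutator subgroup. -/

namespace Cfsg.Agent.Lib.Helper4.SC

universe u

open scoped commutatorElement

section

variable {G : Type u} [Group G] [Finite G] {p : ℕ} [hp : Fact p.Prime] {x : G}

/-- A normal subgroup meeting `⟨x⟩` trivially consists of commutators with `x`. -/
theorem le_commutator_of_inf_eq_bot
    (hC : Subgroup.centralizer ({x} : Set G) = Subgroup.zpowers x)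
    (K : Subgroup G) [hK : K.Normal] (hKP : K ⊓ Subgroup.zpowers x = ⊥) :
    K ≤ commutator G := by
  have hmem : ∀ k : K, (k : G) * x * (k : G)⁻¹ * x⁻¹ ∈ K := by
    intro k
    have h1 : x * (k : G)⁻¹ * x⁻¹ ∈ K := hK.conj_mem _ (K.inv_mem k.2) x
    have h2 : (k : G) * x * (k : G)⁻¹ * x⁻¹ = (k : G) * (x * (k : G)⁻¹ * x⁻¹) := by group
    rw [h2]
    exact K.mul_mem k.2 h1
  have hinj : Function.Injective (fun k : K => (⟨(k : G) * x * (k : G)⁻¹ * x⁻¹, hmem k⟩ : K)) := by
    intro a b hab
    have h1 : (a : G) * x * (a : G)⁻¹ * x⁻¹ = (b : G) * x * (b : G)⁻¹ * x⁻¹ :=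
      congrArg Subtype.val hab
    have h2 : (a : G) * x * (a : G)⁻¹ = (b : G) * x * (b : G)⁻¹ := mul_right_cancel h1
    have h3 : (b : G)⁻¹ * (a : G) ∈ Subgroup.zpowers x := by
      rw [← hC, Subgroup.mem_centralizer_iff]
      intro z hz
      rw [Set.mem_singleton_iff] at hz
      subst hz
      calc z * ((b : G)⁻¹ * (a : G)) = (b : G)⁻¹ * ((b : G) * z * (b : G)⁻¹) * (a : G) := by group
        _ = (b : G)⁻¹ * ((a : G) * z * (a : G)⁻¹) * (a : G) := by rw [h2]
        _ = (b : G)⁻¹ * (a : G) * z := by group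
    have h4 : (b : G)⁻¹ * (a : G) ∈ K ⊓ Subgroup.zpowers x :=
      ⟨K.mul_mem (K.inv_mem b.2) a.2, h3⟩
    rw [hKP, Subgroup.mem_bot] at h4
    apply Subtype.ext
    have : (a : G) = (b : G) * ((b : G)⁻¹ * (a : G)) := by group
    rw [this, h4, mul_one]
  have hsurj := Finite.injective_iff_surjective.1 hinj
  intro k hk
  obtain ⟨k', hk'⟩ := hsurj ⟨k, hk⟩
  have h1 : (k' : G) * x * (k' : G)⁻¹ * x⁻¹ = k := congrArg Subtype.val hk'
  rw [← h1, ← commutatorElement_def, commutator_def]
  exact Subgroup.commutator_mem_commutator (Subgroup.mem_top _) (Subgroup.mem_top _)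

/-- If the normalizer of `⟨x⟩` is bigger than `⟨x⟩`, then `⟨x⟩ ≤ G'`. -/
theorem zpowers_le_commutator (hx : orderOf x = p)
    (hC : Subgroup.centralizer ({x} : Set G) = Subgroup.zpowers x)
    (he : (Subgroup.zpowers x).relIndex
      (Subgroup.normalizer ((Subgroup.zpowers x : Subgroup G) : Set G)) ≠ 1) :
    Subgroup.zpowers x ≤ commutator G := by
  have h1 : ¬ Subgroup.normalizer ((Subgroup.zpowers x : Subgroup G) : Set G) ≤
      Subgroup.zpowers x := fun h => he (Subgroup.relIndex_eq_one.2 h)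
  obtain ⟨n, hn, hnP⟩ := SetLike.not_le_iff_exists.1 h1
  have h2 : n * x * n⁻¹ ∈ Subgroup.zpowers x :=
    (Subgroup.mem_normalizer_iff.1 hn x).1 (Subgroup.mem_zpowers x)
  have h3 : n * x * n⁻¹ * x⁻¹ ∈ Subgroup.zpowers x :=
    Subgroup.mul_mem _ h2 (Subgroup.inv_mem _ (Subgroup.mem_zpowers x))
  have h4 : n * x * n⁻¹ * x⁻¹ ≠ 1 := by
    intro h
    apply hnP
    rw [← hC, Subgroup.mem_centralizer_iff]
    intro z hz
    rw [Set.mem_singleton_iff] at hz
    subst hz
    have h5 : n * z * n⁻¹ = z := by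
      have : n * z * n⁻¹ = (n * z * n⁻¹ * z⁻¹) * z := by group
      rw [this, h, one_mul]
    calc z * n = (n * z * n⁻¹) * n := by rw [h5]
      _ = n * z := by group
  have h5 : n * x * n⁻¹ * x⁻¹ ∈ commutator G := by
    rw [← commutatorElement_def, commutator_def]
    exact Subgroup.commutator_mem_commutator (Subgroup.mem_top _) (Subgroup.mem_top _)
  rw [← zpowers_eq_of_ne_one hx h3 h4, Subgroup.zpowers_le]
  exact h5

/-- The case `N_G(⟨x⟩) = ⟨x⟩`: `G'` is a normal `p`-complement. -/
theorem commutator_of_relIndex_eq_one (hx : orderOf x = p)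
    (hC : Subgroup.centralizer ({x} : Set G) = Subgroup.zpowers x)
    (he : (Subgroup.zpowers x).relIndex
      (Subgroup.normalizer ((Subgroup.zpowers x : Subgroup G) : Set G)) = 1) :
    (commutator G).index = p ∧ commutator G ⊓ Subgroup.zpowers x = ⊥ ∧
      (Nat.card (commutator G)).Coprime p ∧
      (commutator G).IsComplement' (Subgroup.zpowers x) := by
  obtain ⟨Q, hQ⟩ := exists_sylow hx hC
  have hNP : Subgroup.normalizer ((Subgroup.zpowers x : Subgroup G) : Set G) ≤
      Subgroup.zpowers x := Subgroup.relIndex_eq_one.1 he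
  have hP : Subgroup.normalizer ((Q : Subgroup G) : Set G) ≤
      Subgroup.centralizer ((Q : Subgroup G) : Set G) := by
    rw [hQ]
    intro n hn
    have h1 := hNP hn
    rw [Subgroup.mem_centralizer_iff]
    intro z hz
    exact commute_of_mem hz h1
  have hcompl := MonoidHom.ker_transferSylow_isComplement' Q hP
  set K := (MonoidHom.transferSylow Q hP).ker with hKdef
  have hKP : K ⊓ Subgroup.zpowers x = ⊥ := by
    rw [← hQ]
    exact disjoint_iff.1 hcompl.disjoint
  have hle1 : K ≤ commutator G := le_commutator_of_inf_eq_bot hC K hKP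
  have hle2 : commutator G ≤ K := by
    rw [commutator_eq_closure, Subgroup.closure_le]
    rintro g ⟨g₁, g₂, rfl⟩
    show ⁅g₁, g₂⁆ ∈ (MonoidHom.transferSylow Q hP).ker
    rw [MonoidHom.mem_ker, map_commutatorElement, commutatorElement_eq_one_iff_commute]
    apply Subtype.ext
    rw [Subgroup.coe_mul, Subgroup.coe_mul]
    apply commute_of_mem (x := x)
    · rw [← hQ]; exact (MonoidHom.transferSylow Q hP g₁).2
    · rw [← hQ]; exact (MonoidHom.transferSylow Q hP g₂).2
  have heq : commutator G = K := le_antisymm hle2 hle1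
  rw [heq]
  have hidx : K.index = p := by
    rw [hcompl.symm.index_eq_card, hQ, card_zpowers_eq hx]
  have hcard : Nat.card K = (Q : Subgroup G).index := (hcompl.index_eq_card).symm
  refine ⟨hidx, hKP, ?_, ?_⟩
  · rw [hcard]
    have := Sylow.card_coprime_index Q
    rw [show Nat.card (Q : Subgroup G) = p from by rw [hQ]; exact card_zpowers_eq hx] at this
    exact this.symm
  · rw [← hQ]
    exact hcompl

end

end Cfsg.Agent.Lib.Helper4.SC
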