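import Mathlib
import Cfsg.Agent.Lib.Helper4.SC4
import Cfsg.Agent.Lib.Helper3.PComp1
import Cfsg.Agent.Lib.Helper6.PPrimeCore
import Cfsg.Agent.Lib.Helper7.SylNorm1

set_option autoImplicit false

/-! Groups with a self-centralizing element of prime order: `G'/O_{p'}(G)` is simple. -/

namespace Cfsg.Agent.Lib.Helper4.SC

universe u

open scoped commutatorElement

section

variable {G : Type u} [Group G] [Finite G] {p : ℕ} [hp : Fact p.Prime] {x : G}

/-- The hypotheses pass to a subgroup containing `x`. -/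
theorem centralizer_subgroup
    (hC : Subgroup.centralizer ({x} : Set G) = Subgroup.zpowers x)
    (M : Subgroup G) (hxM : x ∈ M) :
    Subgroup.centralizer ({(⟨x, hxM⟩ : M)} : Set M) = Subgroup.zpowers (⟨x, hxM⟩ : M) := by
  ext m
  rw [Subgroup.mem_centralizer_iff]
  constructor
  · intro h
    have h1 : (m : G) ∈ Subgroup.zpowers x := by
      rw [← hC, Subgroup.mem_centralizer_iff]
      intro z hz
      rw [Set.mem_singleton_iff] at hz
      subst hz
      have := h ⟨z, hxM⟩ (Set.mem_singleton _)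
      exact congrArg Subtype.val this
    obtain ⟨k, hk⟩ := Subgroup.mem_zpowers_iff.1 h1
    rw [Subgroup.mem_zpowers_iff]
    refine ⟨k, ?_⟩
    apply Subtype.ext
    rw [Subgroup.coe_zpow]
    exact hk
  · intro h z hz
    rw [Set.mem_singleton_iff] at hz
    subst hz
    obtain ⟨k, hk⟩ := Subgroup.mem_zpowers_iff.1 h
    rw [← hk]
    exact ((Commute.refl (⟨x, hxM⟩ : M)).zpow_right k).eq

/-- In a subgroup `M ∋ x`, every element of order `p` is `M`-conjugate into `⟨x⟩`. -/
theorem exists_conj_mem_subgroup (hx : orderOf x = p)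
    (hC : Subgroup.centralizer ({x} : Set G) = Subgroup.zpowers x)
    (M : Subgroup G) (hxM : x ∈ M) {g : G} (hgM : g ∈ M) (hg : orderOf g = p) :
    ∃ c ∈ M, c * g * c⁻¹ ∈ Subgroup.zpowers x := by
  have hx' : orderOf (⟨x, hxM⟩ : M) = p := by rw [Subgroup.orderOf_mk]; exact hx
  have hg' : orderOf (⟨g, hgM⟩ : M) = p := by rw [Subgroup.orderOf_mk]; exact hg
  obtain ⟨c, hc⟩ := exists_conj_mem hx' (centralizer_subgroup hC M hxM) hg'
  refine ⟨c, c.2, ?_⟩
  obtain ⟨k, hk⟩ := Subgroup.mem_zpowers_iff.1 hc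
  rw [Subgroup.mem_zpowers_iff]
  refine ⟨k, ?_⟩
  have := congrArg Subtype.val hk
  rw [Subgroup.coe_zpow] at this
  exact this

/-- A subgroup `R ≤ G'` normalized by `G'` of order divisible by `p` is `G'`, provided
`N_G(⟨x⟩) ≠ ⟨x⟩`. -/
theorem eq_commutator_of_dvd (hx : orderOf x = p)
    (hC : Subgroup.centralizer ({x} : Set G) = Subgroup.zpowers x)
    (hPM : Subgroup.zpowers x ≤ commutator G)
    (R : Subgroup G) (hRM : R ≤ commutator G)
    (hRn : ∀ m ∈ commutator G, ∀ r ∈ R, m * r * m⁻¹ ∈ R) (hdvd : p ∣ Nat.card R) :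
    R = commutator G := by
  have hxM : x ∈ commutator G := hPM (Subgroup.mem_zpowers x)
  -- an element of order p in R
  obtain ⟨g, hg⟩ := exists_prime_orderOf_dvd_card' p hdvd
  have hg' : orderOf (g : G) = p := by rw [Subgroup.orderOf_coe]; exact hg
  obtain ⟨c, hcM, hc⟩ := exists_conj_mem_subgroup hx hC (commutator G) hxM (hRM g.2) hg'
  have hc1 : c * (g : G) * c⁻¹ ≠ 1 := by
    intro h
    have h2 : (g : G) = c⁻¹ * (c * (g : G) * c⁻¹) * c := by group
    rw [h] at h2
    have h3 : (g : G) = 1 := by rw [h2]; group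
    rw [h3, orderOf_one] at hg'
    exact hp.out.one_lt.ne hg'
  have hcR : c * (g : G) * c⁻¹ ∈ R := hRn c hcM g g.2
  have hPR : Subgroup.zpowers x ≤ R := by
    rw [← zpowers_eq_of_ne_one hx hc hc1, Subgroup.zpowers_le]
    exact hcR
  -- all conjugates of x lie in R
  have hconj : ∀ h : G, h * x * h⁻¹ ∈ R := by
    intro h
    have h1 : h * x * h⁻¹ ∈ commutator G :=
      (inferInstance : (commutator G).Normal).conj_mem x hxM h
    have h2 : orderOf (h * x * h⁻¹) = p := by
      rw [← hx]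
      have h5 := MulEquiv.orderOf_eq (MulAut.conj h) x
      rw [MulAut.conj_apply] at h5
      exact h5
    obtain ⟨d, hdM, hd⟩ := exists_conj_mem_subgroup hx hC (commutator G) hxM h1 h2
    have h3 := hRn d⁻¹ (Subgroup.inv_mem _ hdM) _ (hPR hd)
    have h4 : d⁻¹ * (d * (h * x * h⁻¹) * d⁻¹) * d⁻¹⁻¹ = h * x * h⁻¹ := by group
    rw [h4] at h3
    exact h3
  have hncl : Subgroup.normalClosure ({x} : Set G) ≤ R := by
    unfold Subgroup.normalClosure
    rw [Subgroup.closure_le]
    intro y hy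
    obtain ⟨a, ha, hay⟩ := Group.mem_conjugatesOfSet_iff.1 hy
    rw [Set.mem_singleton_iff] at ha
    subst ha
    obtain ⟨h, hh⟩ := isConj_iff.1 hay
    rw [← hh]
    exact hconj h
  haveI : (Subgroup.normalClosure ({x} : Set G)).Normal := Subgroup.normalClosure_normal
  have hPC : Subgroup.zpowers x ≤ Subgroup.normalClosure ({x} : Set G) := by
    rw [Subgroup.zpowers_le]
    exact Subgroup.subset_normalClosure (Set.mem_singleton x)
  have hle := commutator_le_of_normal hx hC (Subgroup.normalClosure ({x} : Set G)) hPC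
  exact le_antisymm hRM (hle.trans hncl)

end

end Cfsg.Agent.Lib.Helper4.SC
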