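import Mathlib
import Cfsg.Agent.Lib.Helper4.SC5

set_option autoImplicit false

/-! Groups with a self-centralizing element of prime order: `G'/O_{p'}(G)` is simple. -/

namespace Cfsg.Agent.Lib.Helper4.SC

universe u

open scoped commutatorElement

section

variable {G : Type u} [Group G] [Finite G] {p : ℕ} [hp : Fact p.Prime] {x : G}

theorem pPrimeCore_inf_zpowers (hx : orderOf x = p) :
    Cfsg.pPrimeCore p G ⊓ Subgroup.zpowers x = ⊥ := by
  apply Subgroup.inf_eq_bot_of_coprime
  rw [card_zpowers_eq hx]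
  exact Cfsg.Agent.Lib.Helper6.pPrimeCore_coprime p

theorem pPrimeCore_le_commutator (hx : orderOf x = p)
    (hC : Subgroup.centralizer ({x} : Set G) = Subgroup.zpowers x) :
    Cfsg.pPrimeCore p G ≤ commutator G := by
  haveI : (Cfsg.pPrimeCore p G).Normal := Cfsg.Agent.Lib.Helper7.SylNorm.pPrimeCore_normal' p
  exact le_commutator_of_inf_eq_bot hC _ (pPrimeCore_inf_zpowers hx)

theorem isSimpleGroup_quotient (hx : orderOf x = p)
    (hC : Subgroup.centralizer ({x} : Set G) = Subgroup.zpowers x)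
    (he : (Subgroup.zpowers x).relIndex
      (Subgroup.normalizer ((Subgroup.zpowers x : Subgroup G) : Set G)) ≠ 1)
    [h : ((Cfsg.pPrimeCore p G).subgroupOf (commutator G)).Normal] :
    IsSimpleGroup (↥(commutator G) ⧸ (Cfsg.pPrimeCore p G).subgroupOf (commutator G)) := by
  have hPM : Subgroup.zpowers x ≤ commutator G := zpowers_le_commutator hx hC he
  have hxM : x ∈ commutator G := hPM (Subgroup.mem_zpowers x)
  have hSP := pPrimeCore_inf_zpowers (G := G) hx
  have hx1 : x ≠ 1 := by
    intro h1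
    rw [h1, orderOf_one] at hx
    exact hp.out.one_lt.ne hx
  have hxS : x ∉ Cfsg.pPrimeCore p G := by
    intro hxS
    have : x ∈ Cfsg.pPrimeCore p G ⊓ Subgroup.zpowers x := ⟨hxS, Subgroup.mem_zpowers x⟩
    rw [hSP, Subgroup.mem_bot] at this
    exact hx1 this
  haveI : Nontrivial (↥(commutator G) ⧸ (Cfsg.pPrimeCore p G).subgroupOf (commutator G)) := by
    refine ⟨⟨QuotientGroup.mk (⟨x, hxM⟩ : commutator G), 1, ?_⟩⟩
    intro h1
    rw [QuotientGroup.eq_one_iff, Subgroup.mem_subgroupOf] at h1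
    exact hxS h1
  refine ⟨fun Rb hRb => ?_⟩
  haveI := hRb
  set π := QuotientGroup.mk' ((Cfsg.pPrimeCore p G).subgroupOf (commutator G)) with hπ
  have hπs : Function.Surjective π := QuotientGroup.mk'_surjective _
  set R : Subgroup (commutator G) := Rb.comap π with hR
  haveI hRn : R.Normal := Subgroup.Normal.comap hRb π
  have hRb_eq : Rb = R.map π := (Subgroup.map_comap_eq_self_of_surjective hπs Rb).symm
  set R' : Subgroup G := R.map (commutator G).subtype with hR'
  have hR'M : R' ≤ commutator G := Subgroup.map_subtype_le R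
  have hR'sub : R'.subgroupOf (commutator G) = R := by
    rw [hR']
    exact Subgroup.comap_map_eq_self_of_injective (Subgroup.subtype_injective _) R
  have hR'n : ∀ m ∈ commutator G, ∀ r ∈ R', m * r * m⁻¹ ∈ R' := by
    rintro m hm r ⟨r₀, hr₀, rfl⟩
    exact ⟨⟨m, hm⟩ * r₀ * ⟨m, hm⟩⁻¹, hRn.conj_mem r₀ hr₀ ⟨m, hm⟩, rfl⟩
  by_cases hdvd : p ∣ Nat.card R'
  · right
    have h1 := eq_commutator_of_dvd hx hC hPM R' hR'M hR'n hdvd
    have h2 : R = ⊤ := by
      rw [← hR'sub, h1]
      exact Subgroup.subgroupOf_self _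
    rw [hRb_eq, h2]
    exact Subgroup.map_top_of_surjective π hπs
  · left
    have hcop : (Nat.card R').Coprime p :=
      ((Nat.Prime.coprime_iff_not_dvd hp.out).2 hdvd).symm
    have hsub : R'.IsSubnormal := by
      apply Subgroup.IsSubnormal.step R' (commutator G) hR'M
        (Subgroup.Normal.isSubnormal inferInstance)
      rw [hR'sub]
      exact hRn
    have h1 : R' ≤ Cfsg.pPrimeCore p G :=
      Cfsg.Agent.Lib.Helper3.le_pPrimeCore_of_isSubnormal hsub hcop
    have h2 : R ≤ (Cfsg.pPrimeCore p G).subgroupOf (commutator G) := by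
      intro r hr
      rw [Subgroup.mem_subgroupOf]
      exact h1 ⟨r, hr, rfl⟩
    rw [hRb_eq, Subgroup.map_eq_bot_iff, hπ, QuotientGroup.ker_mk']
    exact h2

end

end Cfsg.Agent.Lib.Helper4.SC
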