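import Mathlib
import Cfsg.Agent.Lib.Helper4.SC4

set_option autoImplicit false

/-! Groups with a self-centralizing element of prime order: number of subgroups of order `p`. -/

namespace Cfsg.Agent.Lib.Helper4.SC

universe u

open scoped commutatorElement

section

variable {G : Type u} [Group G] [Finite G] {p : ℕ} [hp : Fact p.Prime] {x : G}

theorem factorization_eq_one (hx : orderOf x = p)
    (hC : Subgroup.centralizer ({x} : Set G) = Subgroup.zpowers x) :
    (Nat.card G).factorization p = 1 := by
  obtain ⟨Q, hQ⟩ := exists_sylow hx hC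
  have h1 := Q.card_eq_multiplicity
  rw [hQ, card_zpowers_eq hx] at h1
  have h2 : p ^ 1 = p ^ (Nat.card G).factorization p := by rw [pow_one]; exact h1
  exact (Nat.pow_right_injective hp.out.two_le h2).symm

/-- The number of subgroups of order `p` is the index of the normalizer of `⟨x⟩`. -/
theorem card_subgroups_eq_index (hx : orderOf x = p)
    (hC : Subgroup.centralizer ({x} : Set G) = Subgroup.zpowers x) :
    Nat.card {H : Subgroup G // Nat.card H = p} =
      (Subgroup.normalizer ((Subgroup.zpowers x : Subgroup G) : Set G)).index := by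
  obtain ⟨Q, hQ⟩ := exists_sylow hx hC
  have hf := factorization_eq_one hx hC
  have h1 : Nat.card (Sylow p G) =
      (Subgroup.normalizer ((Subgroup.zpowers x : Subgroup G) : Set G)).index := by
    rw [← hQ]
    exact Sylow.card_eq_index_normalizer Q
  rw [← h1]
  apply Nat.card_congr
  refine ⟨fun H => Sylow.ofCard H.1 (by rw [hf, pow_one]; exact H.2),
    fun Q' => ⟨(Q' : Subgroup G), by
      have := Q'.card_eq_multiplicity
      rw [hf, pow_one] at this
      exact this⟩, ?_, ?_⟩
  · intro H
    apply Subtype.ext
    have hH : Nat.card (H.1 : Subgroup G) = p ^ (Nat.card G).factorization p := by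
      rw [hf, pow_one]; exact H.2
    exact Sylow.coe_ofCard (p := p) H.1 hH
  · intro Q'
    apply Sylow.ext
    exact Sylow.coe_ofCard (p := p) (Q' : Subgroup G) Q'.card_eq_multiplicity

/-- `|N| = e * p`. -/
theorem card_normalizer (hx : orderOf x = p) :
    Nat.card (Subgroup.normalizer ((Subgroup.zpowers x : Subgroup G) : Set G)) =
      (Subgroup.zpowers x).relIndex
        (Subgroup.normalizer ((Subgroup.zpowers x : Subgroup G) : Set G)) * p := by
  have h := Subgroup.relIndex_mul_relIndex (⊥ : Subgroup G) (Subgroup.zpowers x)
    (Subgroup.normalizer ((Subgroup.zpowers x : Subgroup G) : Set G)) bot_le Subgroup.le_normalizer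
  rw [Subgroup.relIndex_bot_left, Subgroup.relIndex_bot_left, card_zpowers_eq hx] at h
  rw [← h, mul_comm]

/-- The case `e = 1`. -/
theorem card_commutator_of_relIndex_eq_one (hx : orderOf x = p)
    (hC : Subgroup.centralizer ({x} : Set G) = Subgroup.zpowers x)
    (he : (Subgroup.zpowers x).relIndex
      (Subgroup.normalizer ((Subgroup.zpowers x : Subgroup G) : Set G)) = 1) :
    Nat.card (commutator G) =
      (Subgroup.normalizer ((Subgroup.zpowers x : Subgroup G) : Set G)).index ∧
    IsCyclic (G ⧸ commutator G) := by
  obtain ⟨hidx, -, -, hcompl⟩ := commutator_of_relIndex_eq_one hx hC he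
  have hNP : Subgroup.normalizer ((Subgroup.zpowers x : Subgroup G) : Set G) =
      Subgroup.zpowers x :=
    le_antisymm (Subgroup.relIndex_eq_one.1 he) Subgroup.le_normalizer
  constructor
  · rw [hNP]
    exact hcompl.index_eq_card.symm
  · apply isCyclic_of_prime_card (p := p)
    rw [← Subgroup.index_eq_card]
    exact hidx

end

end Cfsg.Agent.Lib.Helper4.SC
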