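import Mathlib
import Cfsg.Agent.Lib.Helper4.SC5
import Cfsg.Agent.Lib.Helper4.SC7

set_option autoImplicit false

/-! Groups with a self-centralizing element of prime order: the case `G'' ≠ G'`. -/

namespace Cfsg.Agent.Lib.Helper4.SC

universe u

open scoped commutatorElement

section

variable {G : Type u} [Group G] [Finite G] {p : ℕ} [hp : Fact p.Prime] {x : G}

/-- A subgroup not containing `⟨x⟩` meets it trivially. -/
theorem inf_zpowers_eq_bot (hx : orderOf x = p) (D : Subgroup G)
    (hD : ¬ Subgroup.zpowers x ≤ D) : D ⊓ Subgroup.zpowers x = ⊥ := by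
  rw [Subgroup.eq_bot_iff_forall]
  rintro y ⟨hyD, hyP⟩
  by_contra hy1
  apply hD
  rw [← zpowers_eq_of_ne_one hx hyP hy1, Subgroup.zpowers_le]
  exact hyD

theorem card_sup_zpowers (hx : orderOf x = p) (D : Subgroup G) [D.Normal]
    (hD : D ⊓ Subgroup.zpowers x = ⊥) :
    Nat.card (D ⊔ Subgroup.zpowers x : Subgroup G) = p * Nat.card D := by
  have h1 : D.relIndex (Subgroup.zpowers x ⊔ D) = p := by
    rw [Subgroup.relIndex_sup_right, ← Subgroup.inf_relIndex_right, hD,
      Subgroup.relIndex_bot_left, card_zpowers_eq hx]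
  have h2 := Subgroup.relIndex_mul_relIndex (⊥ : Subgroup G) D (Subgroup.zpowers x ⊔ D)
    bot_le le_sup_right
  rw [Subgroup.relIndex_bot_left, Subgroup.relIndex_bot_left, h1] at h2
  rw [sup_comm, ← h2, mul_comm]

theorem structure_of_derived_ne (hx : orderOf x = p)
    (hC : Subgroup.centralizer ({x} : Set G) = Subgroup.zpowers x)
    (he : (Subgroup.zpowers x).relIndex
      (Subgroup.normalizer ((Subgroup.zpowers x : Subgroup G) : Set G)) ≠ 1)
    (hne : derivedSeries G 2 ≠ derivedSeries G 1) :
    Nat.card (derivedSeries G 2) =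
      (Subgroup.normalizer ((Subgroup.zpowers x : Subgroup G) : Set G)).index ∧
    Nat.card (commutator G) =
      p * (Subgroup.normalizer ((Subgroup.zpowers x : Subgroup G) : Set G)).index := by
  have hPM : Subgroup.zpowers x ≤ commutator G := zpowers_le_commutator hx hC he
  have hxM : x ∈ commutator G := hPM (Subgroup.mem_zpowers x)
  have hD2 : derivedSeries G 2 = ⁅commutator G, commutator G⁆ := by
    rw [derivedSeries_succ, derivedSeries_one]
  have hD1 : derivedSeries G 1 = commutator G := derivedSeries_one G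
  set D := derivedSeries G 2 with hDdef
  haveI hDn : D.Normal := derivedSeries_normal G 2
  have hDM : D ≤ commutator G := by
    rw [hD2]
    exact Subgroup.commutator_le_left _ _
  -- (i)
  have hPD : ¬ Subgroup.zpowers x ≤ D := by
    intro h
    apply hne
    rw [hD1]
    exact le_antisymm hDM (commutator_le_of_normal hx hC D h)
  have hDP : D ⊓ Subgroup.zpowers x = ⊥ := inf_zpowers_eq_bot hx D hPD
  -- (iii)
  have hncl : Subgroup.normalClosure ({x} : Set G) ≤ D ⊔ Subgroup.zpowers x := by
    unfold Subgroup.normalClosure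
    rw [Subgroup.closure_le]
    intro y hy
    obtain ⟨a, ha, hay⟩ := Group.mem_conjugatesOfSet_iff.1 hy
    rw [Set.mem_singleton_iff] at ha
    subst ha
    obtain ⟨h, hh⟩ := isConj_iff.1 hay
    rw [← hh]
    have h1 : h * a * h⁻¹ ∈ commutator G :=
      (inferInstance : (commutator G).Normal).conj_mem a hxM h
    have h2 : orderOf (h * a * h⁻¹) = p := by
      rw [← hx]
      have h5 := MulEquiv.orderOf_eq (MulAut.conj h) a
      rw [MulAut.conj_apply] at h5
      exact h5
    obtain ⟨c, hcM, hc⟩ := exists_conj_mem_subgroup hx hC (commutator G) hxM h1 h2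
    have h3 : h * a * h⁻¹ = ⁅c⁻¹, c * (h * a * h⁻¹) * c⁻¹⁆ * (c * (h * a * h⁻¹) * c⁻¹) := by
      rw [commutatorElement_def]; group
    rw [h3]
    apply Subgroup.mul_mem
    · apply (le_sup_left : D ≤ D ⊔ Subgroup.zpowers a)
      rw [hD2]
      exact Subgroup.commutator_mem_commutator (Subgroup.inv_mem _ hcM) (hPM hc)
    · exact (le_sup_right : Subgroup.zpowers a ≤ D ⊔ Subgroup.zpowers a) hc
  -- (iv)
  haveI : (Subgroup.normalClosure ({x} : Set G)).Normal := Subgroup.normalClosure_normal
  have hPC : Subgroup.zpowers x ≤ Subgroup.normalClosure ({x} : Set G) := by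
    rw [Subgroup.zpowers_le]
    exact Subgroup.subset_normalClosure (Set.mem_singleton x)
  have hMeq : commutator G = D ⊔ Subgroup.zpowers x := by
    apply le_antisymm
    · exact (commutator_le_of_normal hx hC (Subgroup.normalClosure ({x} : Set G)) hPC).trans hncl
    · exact sup_le hDM hPM
  -- (v)
  have hcardM : Nat.card (commutator G) = p * Nat.card D := by
    rw [hMeq]
    exact card_sup_zpowers hx D hDP
  -- (vi)
  have hMN : commutator G ⊓
      Subgroup.normalizer ((Subgroup.zpowers x : Subgroup G) : Set G) = Subgroup.zpowers x := by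
    apply le_antisymm
    · intro n hn
      have hnM : n ∈ commutator G := (Subgroup.mem_inf.1 hn).1
      have hnN : n ∈ Subgroup.normalizer ((Subgroup.zpowers x : Subgroup G) : Set G) :=
        (Subgroup.mem_inf.1 hn).2
      rw [hMeq, ← SetLike.mem_coe, Subgroup.normal_mul] at hnM
      obtain ⟨d, hd, y, hy, rfl⟩ := Set.mem_mul.1 hnM
      have hdN : d ∈ Subgroup.normalizer ((Subgroup.zpowers x : Subgroup G) : Set G) := by
        have h1 : d = (d * y) * y⁻¹ := by group
        rw [h1]
        exact Subgroup.mul_mem _ hnN (Subgroup.inv_mem _ (Subgroup.le_normalizer hy))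
      have h2 : d * x * d⁻¹ ∈ Subgroup.zpowers x :=
        (Subgroup.mem_normalizer_iff.1 hdN x).1 (Subgroup.mem_zpowers x)
      have h3 : d * x * d⁻¹ * x⁻¹ ∈ D ⊓ Subgroup.zpowers x := by
        constructor
        · have h4 : d * x * d⁻¹ * x⁻¹ = d * (x * d⁻¹ * x⁻¹) := by group
          rw [h4]
          exact D.mul_mem hd (hDn.conj_mem _ (D.inv_mem hd) x)
        · exact Subgroup.mul_mem _ h2 (Subgroup.inv_mem _ (Subgroup.mem_zpowers x))
      rw [hDP, Subgroup.mem_bot] at h3
      have h4 : d ∈ Subgroup.zpowers x := by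
        rw [← hC, Subgroup.mem_centralizer_iff]
        intro z hz
        rw [Set.mem_singleton_iff] at hz
        subst hz
        have h5 : d * z * d⁻¹ = z := by
          have : d * z * d⁻¹ = (d * z * d⁻¹ * z⁻¹) * z := by group
          rw [this, h3, one_mul]
        calc z * d = (d * z * d⁻¹) * d := by rw [h5]
          _ = d * z := by group
      exact Subgroup.mul_mem _ h4 hy
    · exact le_inf hPM Subgroup.le_normalizer
  -- (vii)
  have hidx : (commutator G).index = (Subgroup.zpowers x).relIndex
      (Subgroup.normalizer ((Subgroup.zpowers x : Subgroup G) : Set G)) := by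
    rw [index_eq_relIndex hx hC (commutator G) hPM, ← Subgroup.inf_relIndex_right, hMN]
  -- (viii)
  have h1 := Subgroup.card_mul_index (commutator G)
  have h2 := Subgroup.card_mul_index
    (Subgroup.normalizer ((Subgroup.zpowers x : Subgroup G) : Set G))
  rw [card_normalizer hx] at h2
  rw [hcardM, hidx] at h1
  set e := (Subgroup.zpowers x).relIndex
      (Subgroup.normalizer ((Subgroup.zpowers x : Subgroup G) : Set G)) with hedef
  have hepos : 0 < e := by
    rcases Nat.eq_zero_or_pos e with h | h
    · rw [h, mul_zero] at h1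
      have := Nat.card_pos (α := G)
      omega
    · exact h
  have hp0 : 0 < p := hp.out.pos
  have h3 : Nat.card D =
      (Subgroup.normalizer ((Subgroup.zpowers x : Subgroup G) : Set G)).index := by
    have h4 : (e * p) * Nat.card D = (e * p) *
        (Subgroup.normalizer ((Subgroup.zpowers x : Subgroup G) : Set G)).index := by
      rw [h2, ← h1]; ring
    exact Nat.eq_of_mul_eq_mul_left (Nat.mul_pos hepos hp0) h4
  exact ⟨h3, by rw [hcardM, h3]⟩

end

end Cfsg.Agent.Lib.Helper4.SC
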