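import Mathlib
import Cfsg.Agent.Lib.Helper4.SC8

set_option autoImplicit false

/-! Groups with a self-centralizing element of prime order: a normal subgroup of order the
number of Sylow subgroups forces `G'' ≠ G'`. -/

namespace Cfsg.Agent.Lib.Helper4.SC

universe u

open scoped commutatorElement

section

variable {G : Type u} [Group G] [Finite G] {p : ℕ} [hp : Fact p.Prime] {x : G}

theorem derived_ne_of_normal (hx : orderOf x = p)
    (hC : Subgroup.centralizer ({x} : Set G) = Subgroup.zpowers x)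
    (he : (Subgroup.zpowers x).relIndex
      (Subgroup.normalizer ((Subgroup.zpowers x : Subgroup G) : Set G)) ≠ 1)
    (S : Subgroup G) [hSn : S.Normal]
    (hS : Nat.card S =
      (Subgroup.normalizer ((Subgroup.zpowers x : Subgroup G) : Set G)).index) :
    derivedSeries G 2 ≠ derivedSeries G 1 := by
  have hPM : Subgroup.zpowers x ≤ commutator G := zpowers_le_commutator hx hC he
  obtain ⟨Q, hQ⟩ := exists_sylow hx hC
  set N := Subgroup.normalizer ((Subgroup.zpowers x : Subgroup G) : Set G) with hNdef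
  have hcop : (Nat.card S).Coprime p := by
    rw [hS]
    have h1 : N.index ∣ (Subgroup.zpowers x).index :=
      Subgroup.index_dvd_of_le Subgroup.le_normalizer
    have h2 := Sylow.card_coprime_index Q
    rw [hQ, card_zpowers_eq hx] at h2
    exact Nat.Coprime.coprime_dvd_left h1 h2.symm
  have hSP : S ⊓ Subgroup.zpowers x = ⊥ := by
    apply Subgroup.inf_eq_bot_of_coprime
    rw [card_zpowers_eq hx]
    exact hcop
  have hx1 : x ≠ 1 := by
    intro h1
    rw [h1, orderOf_one] at hx
    exact hp.out.one_lt.ne hx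
  -- N ⊓ S = ⊥
  have hNS : S ⊓ N = ⊥ := by
    rw [Subgroup.eq_bot_iff_forall]
    intro d hd
    have hdS : d ∈ S := (Subgroup.mem_inf.1 hd).1
    have hdN : d ∈ N := (Subgroup.mem_inf.1 hd).2
    have h2 : d * x * d⁻¹ ∈ Subgroup.zpowers x :=
      (Subgroup.mem_normalizer_iff.1 hdN x).1 (Subgroup.mem_zpowers x)
    have h3 : d * x * d⁻¹ * x⁻¹ ∈ S ⊓ Subgroup.zpowers x := by
      constructor
      · have h4 : d * x * d⁻¹ * x⁻¹ = d * (x * d⁻¹ * x⁻¹) := by group
        rw [h4]
        exact S.mul_mem hdS (hSn.conj_mem _ (S.inv_mem hdS) x)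
      · exact Subgroup.mul_mem _ h2 (Subgroup.inv_mem _ (Subgroup.mem_zpowers x))
    rw [hSP, Subgroup.mem_bot] at h3
    have h4 : d ∈ Subgroup.zpowers x := by
      rw [← hC, Subgroup.mem_centralizer_iff]
      intro z hz
      rw [Set.mem_singleton_iff] at hz
      subst hz
      have h5 : d * z * d⁻¹ = z := by
        have : d * z * d⁻¹ = (d * z * d⁻¹ * z⁻¹) * z := by group
        rw [this, h3, one_mul]
      calc z * d = (d * z * d⁻¹) * d := by rw [h5]
        _ = d * z := by group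
    have h5 : d ∈ S ⊓ Subgroup.zpowers x := ⟨hdS, h4⟩
    rw [hSP, Subgroup.mem_bot] at h5
    exact h5
  -- N ⊔ S = ⊤
  have hsup : N ⊔ S = ⊤ := by
    rw [← Subgroup.card_eq_iff_eq_top]
    have h1 : S.relIndex (N ⊔ S) = Nat.card N := by
      rw [Subgroup.relIndex_sup_right, ← Subgroup.inf_relIndex_right, hNS,
        Subgroup.relIndex_bot_left]
    have h2 := Subgroup.relIndex_mul_relIndex (⊥ : Subgroup G) S (N ⊔ S) bot_le le_sup_right
    rw [Subgroup.relIndex_bot_left, Subgroup.relIndex_bot_left, h1, hS] at h2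
    rw [← h2, mul_comm]
    exact Subgroup.card_mul_index N
  -- L' = S ⊔ P is normal
  have hLn : (S ⊔ Subgroup.zpowers x).Normal := by
    refine ⟨fun a ha g => ?_⟩
    have hg : g ∈ N ⊔ S := by rw [hsup]; trivial
    rw [← SetLike.mem_coe, Subgroup.mul_normal] at hg
    obtain ⟨n, hn, s, hs, rfl⟩ := Set.mem_mul.1 hg
    have h1 : s * a * s⁻¹ ∈ S ⊔ Subgroup.zpowers x :=
      Subgroup.mul_mem _ (Subgroup.mul_mem _ ((le_sup_left : S ≤ _) hs) ha)
        (Subgroup.inv_mem _ ((le_sup_left : S ≤ _) hs))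
    have h2 : ∀ b ∈ S ⊔ Subgroup.zpowers x, n * b * n⁻¹ ∈ S ⊔ Subgroup.zpowers x := by
      intro b hb
      rw [← SetLike.mem_coe, Subgroup.normal_mul] at hb
      obtain ⟨s', hs', y, hy, rfl⟩ := Set.mem_mul.1 hb
      have h3 : n * (s' * y) * n⁻¹ = (n * s' * n⁻¹) * (n * y * n⁻¹) := by group
      rw [h3]
      apply Subgroup.mul_mem
      · exact (le_sup_left : S ≤ _) (hSn.conj_mem s' hs' n)
      · exact (le_sup_right : Subgroup.zpowers x ≤ _)
          ((Subgroup.mem_normalizer_iff.1 hn y).1 hy)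
    have h3 : n * s * a * (n * s)⁻¹ = n * (s * a * s⁻¹) * n⁻¹ := by group
    rw [h3]
    exact h2 _ h1
  have hML : commutator G ≤ S ⊔ Subgroup.zpowers x :=
    commutator_le_of_normal hx hC (S ⊔ Subgroup.zpowers x) le_sup_right
  -- ⁅L', L'⁆ ≤ S
  have hLL : ⁅S ⊔ Subgroup.zpowers x, S ⊔ Subgroup.zpowers x⁆ ≤ S := by
    rw [Subgroup.commutator_le]
    intro a ha b hb
    rw [← SetLike.mem_coe, Subgroup.normal_mul] at ha hb
    obtain ⟨s, hs, y, hy, rfl⟩ := Set.mem_mul.1 ha
    obtain ⟨s', hs', y', hy', rfl⟩ := Set.mem_mul.1 hb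
    have hsq : (QuotientGroup.mk' S) s = 1 := (QuotientGroup.eq_one_iff s).2 hs
    have hsq' : (QuotientGroup.mk' S) s' = 1 := (QuotientGroup.eq_one_iff s').2 hs'
    have h1 : (QuotientGroup.mk' S) ⁅s * y, s' * y'⁆ = 1 := by
      rw [map_commutatorElement, map_mul, map_mul, hsq, hsq', one_mul, one_mul,
        ← map_commutatorElement, commutatorElement_eq_one_iff_commute.2 (commute_of_mem hy hy'),
        map_one]
    exact (QuotientGroup.eq_one_iff _).1 h1
  intro heq
  have hD2 : derivedSeries G 2 = ⁅commutator G, commutator G⁆ := by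
    rw [derivedSeries_succ, derivedSeries_one]
  rw [derivedSeries_one] at heq
  have h1 : commutator G ≤ S := by
    rw [← heq, hD2]
    exact (Subgroup.commutator_mono hML hML).trans hLL
  have h2 : x ∈ S ⊓ Subgroup.zpowers x :=
    ⟨h1 (hPM (Subgroup.mem_zpowers x)), Subgroup.mem_zpowers x⟩
  rw [hSP, Subgroup.mem_bot] at h2
  exact hx1 h2

end

end Cfsg.Agent.Lib.Helper4.SC
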