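import Mathlib
import Cfsg.Agent.Lib.Lead.OddStable
import Cfsg.Agent.Lib.Helper2.DSubM3

set_option autoImplicit false

/-! Solvable groups are `p`-stable for `p ≥ 5`. -/

namespace Cfsg.Agent.Lib.Helper4.SCNH

open Cfsg Cfsg.Agent.Lib.Lead

universe u

theorem qf_of_solvable {X : Type u} [Group X] [Group.IsSolvable X] {p : ℕ} [hp : Fact p.Prime]
    (hp5 : 5 ≤ p) : SCF.QF p X := by
  rintro ⟨K, f, hf⟩
  haveI : NeZero p := ⟨hp.out.ne_zero⟩
  have h1 : Group.IsSolvable ↥(Cfsg.qd p) := solvable_of_surjective hf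
  have h2 : Group.IsSolvable (Matrix.SpecialLinearGroup (Fin 2) (ZMod p)) :=
    solvable_of_surjective (QdLib.beta_surjective p)
  have h3 : Group.IsSolvable (Matrix.ProjectiveSpecialLinearGroup (Fin 2) (ZMod p)) :=
    solvable_of_surjective (QuotientGroup.mk'_surjective _)
  apply Cfsg.Agent.Lib.Helper2.DSub.psl_not_solvable (F := ZMod p) _ h3
  rw [ZMod.card]
  omega

theorem isPStableOn_of_solvable {X : Type u} [Group X] [Finite X] [Group.IsSolvable X] {p : ℕ}
    [hp : Fact p.Prime] (hp5 : 5 ≤ p) (V : Subgroup X) [V.Normal] (hV : IsPGroup p V) :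
    Cfsg.IsPStableOn p V := by
  have hp2 : p ≠ 2 := by omega
  exact OddStable.isPStableOn_of_normalizerPStable
    (SCF.isNormalizerPStable_of_qf hp2 (qf_of_solvable hp5)) V hV

end Cfsg.Agent.Lib.Helper4.SCNH
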