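import Mathlib
import Cfsg.Agent.Lib.Helper4.SCNH1
import Cfsg.Agent.Lib.Helper4.PiCore
import Cfsg.Agent.Lib.Helper4.BG8a
import Cfsg.Agent.Lib.Lead.HallDirect4
import Cfsg.Agent.Lib.Lead.CoprimeAction2
import Cfsg.Agent.Lib.Helper3.Gen2

set_option autoImplicit false

/-! Self-centralizing normal subgroups of the Fitting subgroup of a Hall subgroup: the core case
`O_{π'}(S) = 1`. -/

namespace Cfsg.Agent.Lib.Helper4.SCNH

open Cfsg Cfsg.Agent.Lib.Lead Cfsg.Agent.Lib.Helper4 Cfsg.Agent.Lib.Helper4.BG8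

open scoped commutatorElement Pointwise

universe u

variable {S : Type u} [Group S] [Finite S]

theorem le_of_isPiHall {π : Set ℕ} {H N : Subgroup S} (hH : IsPiHall π H) [N.Normal]
    (hN : IsPiNum π (Nat.card N)) : N ≤ H := by
  have hmax := Cfsg.Agent.Lib.Lead.HallDirect.maximal_of_hall π H hH
  have h1 : IsPiSubgroup π (H ⊔ N) := isPiNum_card_sup H N hH.1 hN
  exact le_sup_right.trans (hmax.2 h1 le_sup_left)

/-- an element centralising `W`, acting on `V` like an element of `O_p(S / C_S(V))`, where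
`F(S) ≤ V W`, lies in `F(S)`. -/
theorem mem_fitting_of_stable [Group.IsSolvable S] (p : ℕ) [Fact p.Prime] (V W : Subgroup S)
    [hVn : V.Normal] [hWn : W.Normal]
    (hV : IsPGroup p V) (hVW : fittingSubgroup S ≤ V ⊔ W) (hVF : V ≤ fittingSubgroup S)
    (hWF : W ≤ fittingSubgroup S) (x : S)
    (h1 : x ∈ Subgroup.centralizer (W : Set S))
    (h2 : (QuotientGroup.mk x : S ⧸ Subgroup.centralizer (V : Set S)) ∈
      pCore p (S ⧸ Subgroup.centralizer (V : Set S))) :
    x ∈ fittingSubgroup S := by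
  obtain ⟨Y, hY⟩ : ∃ Y : Subgroup S, Y = (pCore p (S ⧸ Subgroup.centralizer (V : Set S))).comap
      (QuotientGroup.mk' (Subgroup.centralizer (V : Set S))) := ⟨_, rfl⟩
  have hYn : Y.Normal := by
    rw [hY]
    exact Subgroup.Normal.comap (Cfsg.Agent.Lib.Lead.pCore_normal p) _
  have hCWn : (Subgroup.centralizer (W : Set S)).Normal := inferInstance
  obtain ⟨L, hL⟩ : ∃ L : Subgroup S, L = Y ⊓ Subgroup.centralizer (W : Set S) := ⟨_, rfl⟩
  have hLn : L.Normal := by rw [hL]; infer_instance
  have hxL : x ∈ L := by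
    rw [hL, hY]
    exact ⟨h2, h1⟩
  -- every element of `L` has a `p`-power in `W`
  have hpow : ∀ y ∈ L, ∃ n : ℕ, y ^ (p ^ n) ∈ W := by
    intro y hy
    rw [hL, hY] at hy
    obtain ⟨hy1, hy2⟩ := Subgroup.mem_inf.mp hy
    rw [Subgroup.mem_comap] at hy1
    obtain ⟨a, ha⟩ := (pCore_isPGroup (G := S ⧸ Subgroup.centralizer (V : Set S)) p) ⟨_, hy1⟩
    have ha' : (QuotientGroup.mk' (Subgroup.centralizer (V : Set S)) y) ^ (p ^ a) = 1 := by
      have := congrArg Subtype.val ha
      simpa using this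
    rw [← map_pow, QuotientGroup.mk'_apply, QuotientGroup.eq_one_iff] at ha'
    obtain ⟨z, hz⟩ : ∃ z : S, z = y ^ (p ^ a) := ⟨_, rfl⟩
    rw [← hz] at ha'
    have hzW : z ∈ Subgroup.centralizer (W : Set S) := by rw [hz]; exact Subgroup.pow_mem _ hy2 _
    have hzF : z ∈ Subgroup.centralizer (fittingSubgroup S : Set S) := by
      apply Subgroup.centralizer_le (show (fittingSubgroup S : Set S) ⊆ ((V ⊔ W : Subgroup S) : Set S)
        from hVW)
      have hV' : V ≤ Subgroup.centralizer ({z} : Set S) := by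
        intro v hv
        rw [Subgroup.mem_centralizer_singleton_iff]
        exact (Subgroup.mem_centralizer_iff.mp ha' v hv)
      have hW' : W ≤ Subgroup.centralizer ({z} : Set S) := by
        intro w hw
        rw [Subgroup.mem_centralizer_singleton_iff]
        exact (Subgroup.mem_centralizer_iff.mp hzW w hw)
      rw [Subgroup.mem_centralizer_iff]
      intro g hg
      have := (sup_le hV' hW') hg
      rw [Subgroup.mem_centralizer_singleton_iff] at this
      exact this
    have hzF' : z ∈ fittingSubgroup S := Cfsg.Agent.S0044.result hzF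
    have hzVW : z ∈ ((V ⊔ W : Subgroup S) : Set S) := hVW hzF'
    rw [Subgroup.normal_mul] at hzVW
    obtain ⟨v, hv, w, hw, hvw⟩ := Set.mem_mul.mp hzVW
    obtain ⟨b, hb⟩ := hV ⟨v, hv⟩
    have hb' : v ^ (p ^ b) = 1 := by
      have := congrArg Subtype.val hb
      simpa using this
    have hcomm : Commute v w := by
      have h3 : z * v = v * z := by
        have := Subgroup.mem_centralizer_iff.mp hzF v (hVF hv)
        exact this.symm
      have h4 : w = v⁻¹ * z := by rw [← hvw]; group
      show v * w = w * v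
      rw [h4, ← mul_assoc, mul_inv_cancel, one_mul, mul_assoc, h3, ← mul_assoc, inv_mul_cancel,
        one_mul]
    refine ⟨a + b, ?_⟩
    rw [pow_add, pow_mul, ← hz, ← hvw, hcomm.mul_pow, hb', one_mul]
    exact W.pow_mem hw _
  -- `L` is nilpotent
  have hLnil : Group.IsNilpotent L := by
    obtain ⟨Z, hZ⟩ : ∃ Z : Subgroup L, Z = (L ⊓ W).subgroupOf L := ⟨_, rfl⟩
    have hZn : Z.Normal := by
      rw [hZ]
      have : (L ⊓ W).Normal := inferInstance
      exact Subgroup.Normal.subgroupOf this L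
    have hZc : Z ≤ Subgroup.center L := by
      intro z hz
      rw [hZ, Subgroup.mem_subgroupOf] at hz
      rw [Subgroup.mem_center_iff]
      intro g
      apply Subtype.ext
      have hg : (g : S) ∈ Subgroup.centralizer (W : Set S) := (hL.le g.2).2
      show (g : S) * (z : S) = (z : S) * (g : S)
      exact (Subgroup.mem_centralizer_iff.mp hg (z : S) hz.2).symm
    have hQp : IsPGroup p (L ⧸ Z) := by
      intro g
      obtain ⟨y, rfl⟩ := QuotientGroup.mk_surjective g
      obtain ⟨n, hn⟩ := hpow y y.2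
      refine ⟨n, ?_⟩
      rw [← QuotientGroup.mk_pow, QuotientGroup.eq_one_iff, hZ, Subgroup.mem_subgroupOf]
      refine ⟨?_, ?_⟩
      · exact (y ^ p ^ n).2
      · simpa using hn
    haveI : Group.IsNilpotent (L ⧸ Z) := hQp.isNilpotent
    apply _root_.isNilpotent_of_ker_le_center (QuotientGroup.mk' Z)
    rw [QuotientGroup.ker_mk']
    exact hZc
  exact le_fittingSubgroup hLn hLnil hxL

end Cfsg.Agent.Lib.Helper4.SCNH
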