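import Mathlib
import Cfsg.Agent.Lib.Helper4.SCNH2

set_option autoImplicit false

/-! Self-centralizing normal subgroups of the Fitting subgroup of a Hall subgroup: the core case
`O_{π'}(S) = 1` gives `C_S(A) = A`. -/

namespace Cfsg.Agent.Lib.Helper4.SCNH

open Cfsg Cfsg.Agent.Lib.Lead Cfsg.Agent.Lib.Helper4 Cfsg.Agent.Lib.Helper4.BG8

open scoped commutatorElement Pointwise

universe u

variable {S : Type u} [Group S] [Finite S]

theorem scn_core [Group.IsSolvable S] (π : Set ℕ) (hπ5 : ∀ p ∈ π, p.Prime → 5 ≤ p)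
    (hK : Cfsg.piCore πᶜ S = ⊥) (H : Subgroup S) (hH : IsPiHall π H) (A : Subgroup S)
    (hA : IsSCN (fittingOf H) A) : Subgroup.centralizer (A : Set S) ≤ A := by
  classical
  have hOq : ∀ q : ℕ, q.Prime → q ∉ π → pCore q S = ⊥ := by
    intro q hq hqπ
    haveI : Fact q.Prime := ⟨hq⟩
    apply le_bot_iff.mp
    rw [← hK]
    apply le_piCore (Cfsg.Agent.Lib.Lead.pCore_normal q)
    obtain ⟨n, hn⟩ := IsPGroup.iff_card.mp (pCore_isPGroup (G := S) q)
    rw [hn]
    exact IsPiNum.pow (show q ∈ πᶜ from hqπ) hq n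
  have hOF : ∀ q : ℕ, q.Prime → pCore q S ≤ fittingOf H := by
    intro q hq
    haveI : Fact q.Prime := ⟨hq⟩
    by_cases hqπ : q ∈ π
    · have hn := Cfsg.Agent.Lib.Lead.pCore_normal (G := S) q
      have h1 : pCore q S ≤ H := by
        apply le_of_isPiHall hH
        obtain ⟨n, hn⟩ := IsPGroup.iff_card.mp (pCore_isPGroup (G := S) q)
        rw [hn]; exact IsPiNum.pow hqπ hq n
      apply le_fittingOf h1
      · rw [Subgroup.normalizer_eq_top_iff.mpr hn]; exact le_top
      · exact (pCore_isPGroup q).isNilpotent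
    · rw [hOq q hq hqπ]; exact bot_le
  have hF0 : fittingSubgroup S ≤ fittingOf H := by
    rw [fittingSubgroup_eq_iSup_pCore]
    exact iSup_le (fun q => hOF q q.2)
  obtain ⟨hAF, hFA, hCA⟩ := hA
  have hFC : ∀ f ∈ fittingOf H, ∀ c ∈ Subgroup.centralizer (A : Set S),
      f * c * f⁻¹ ∈ Subgroup.centralizer (A : Set S) := by
    intro f hf c hc
    rw [Subgroup.mem_centralizer_iff]
    intro a ha
    have hf' : f⁻¹ ∈ Subgroup.normalizer (A : Set S) := Subgroup.inv_mem _ (hFA hf)
    have ha' : f⁻¹ * a * f⁻¹⁻¹ ∈ A := (Subgroup.mem_normalizer_iff.mp hf' a).mp ha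
    have h1 := Subgroup.mem_centralizer_iff.mp hc _ ha'
    have e1 : a * (f * c * f⁻¹) = f * ((f⁻¹ * a * f⁻¹⁻¹) * c) * f⁻¹ := by group
    have e2 : f * c * f⁻¹ * a = f * (c * (f⁻¹ * a * f⁻¹⁻¹)) * f⁻¹ := by group
    rw [e1, e2, h1]
  have hcomm1 : ∀ q : ℕ, q.Prime → ⁅pCore q S, Subgroup.centralizer (A : Set S)⁆ ≤ A := by
    intro q hq
    rw [Subgroup.commutator_le]
    intro y hy c hc
    have hn := Cfsg.Agent.Lib.Lead.pCore_normal (G := S) q
    have hyF : y ∈ fittingOf H := hOF q hq hy
    rw [← hCA]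
    refine ⟨?_, ?_⟩
    · apply hOF q hq
      rw [commutatorElement_def]
      have e : y * c * y⁻¹ * c⁻¹ = y * (c * y⁻¹ * c⁻¹) := by group
      rw [e]
      exact Subgroup.mul_mem _ hy (hn.conj_mem _ (Subgroup.inv_mem _ hy) c)
    · rw [commutatorElement_def]
      exact Subgroup.mul_mem _ (hFC y hyF c hc) (Subgroup.inv_mem _ hc)
  have hAC : ⁅A, Subgroup.centralizer (A : Set S)⁆ = ⊥ := by
    rw [Subgroup.commutator_comm]
    exact Subgroup.commutator_eq_bot_iff_le_centralizer.mpr le_rfl
  have hcomm2 : ∀ q : ℕ, q.Prime → ∀ X : Subgroup S, X ≤ Subgroup.centralizer (A : Set S) →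
      ⁅⁅pCore q S, X⁆, X⁆ = ⊥ := by
    intro q hq X hX
    apply le_bot_iff.mp
    rw [← hAC]
    exact Subgroup.commutator_mono ((Subgroup.commutator_mono le_rfl hX).trans (hcomm1 q hq)) hX
  -- elements of prime power order
  have key : ∀ (p : ℕ), p.Prime → ∀ x ∈ Subgroup.centralizer (A : Set S),
      (∃ k : ℕ, x ^ (p ^ k) = 1) → x ∈ A := by
    intro p hp x hx ⟨k, hk⟩
    haveI : Fact p.Prime := ⟨hp⟩
    have hXC : Subgroup.zpowers x ≤ Subgroup.centralizer (A : Set S) := by
      rw [Subgroup.zpowers_le]; exact hx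
    have hordx : ∃ j : ℕ, Nat.card (Subgroup.zpowers x) = p ^ j := by
      rw [Nat.card_zpowers]
      obtain ⟨j, -, hj⟩ := (Nat.dvd_prime_pow hp).mp (orderOf_dvd_of_pow_eq_one hk)
      exact ⟨j, hj⟩
    -- `x` centralises `O_q(S)` for `q ≠ p`
    have h6a : ∀ q : ℕ, q.Prime → q ≠ p → x ∈ Subgroup.centralizer (pCore q S : Set S) := by
      intro q hq hqp
      haveI : Fact q.Prime := ⟨hq⟩
      have hn := Cfsg.Agent.Lib.Lead.pCore_normal (G := S) q
      have hXN : Subgroup.zpowers x ≤ Subgroup.normalizer (pCore q S : Set S) := by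
        rw [Subgroup.normalizer_eq_top_iff.mpr hn]; exact le_top
      have hcop : (Nat.card (Subgroup.zpowers x)).Coprime (Nat.card (pCore q S)) := by
        obtain ⟨j, hj⟩ := hordx
        obtain ⟨n, hn'⟩ := IsPGroup.iff_card.mp (pCore_isPGroup (G := S) q)
        rw [hj, hn']
        exact Nat.Coprime.pow _ _ ((Nat.coprime_primes hp hq).mpr (Ne.symm hqp))
      have hst := coprime_commutator_stable (Subgroup.zpowers x) (pCore q S) hXN hcop
        (Or.inl inferInstance)
      rw [hcomm2 q hq _ hXC] at hst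
      have h1 : ⁅Subgroup.zpowers x, pCore q S⁆ = ⊥ := by
        rw [Subgroup.commutator_comm]; exact hst.symm
      exact (Subgroup.commutator_eq_bot_iff_le_centralizer.mp h1) (Subgroup.mem_zpowers x)
    -- it suffices to show `x ∈ F(S)`
    suffices hxF : x ∈ fittingSubgroup S by
      rw [← hCA]
      exact ⟨hF0 hxF, hx⟩
    by_cases hpπ : p ∈ π
    · -- the stable case
      have hp5 := hπ5 p hpπ hp
      haveI hVn := Cfsg.Agent.Lib.Lead.pCore_normal (G := S) p
      have hVp := pCore_isPGroup (G := S) p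
      have hst := isPStableOn_of_solvable hp5 (pCore p S) hVp
      have h2 := hst x (hcomm2 p hp _ hXC)
      obtain ⟨W, hW⟩ : ∃ W : Subgroup S,
          W = ⨆ q : {q : Nat.Primes // (q : ℕ) ≠ p}, pCore ((q : Nat.Primes) : ℕ) S := ⟨_, rfl⟩
      haveI hWn : W.Normal := by
        rw [hW]
        haveI : ∀ q : {q : Nat.Primes // (q : ℕ) ≠ p},
            (pCore ((q : Nat.Primes) : ℕ) S).Normal := fun q => Cfsg.Agent.Lib.Lead.pCore_normal _
        exact Subgroup.iSup_normal _
      have hVF : pCore p S ≤ fittingSubgroup S := by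
        rw [fittingSubgroup_eq_iSup_pCore]
        exact le_iSup (fun q : Nat.Primes => pCore (q : ℕ) S) ⟨p, hp⟩
      have hWF : W ≤ fittingSubgroup S := by
        rw [hW, fittingSubgroup_eq_iSup_pCore]
        apply iSup_le
        intro q
        exact le_iSup (fun q : Nat.Primes => pCore (q : ℕ) S) (q : Nat.Primes)
      have hVW : fittingSubgroup S ≤ pCore p S ⊔ W := by
        rw [fittingSubgroup_eq_iSup_pCore]
        apply iSup_le
        intro q
        by_cases hqp : (q : ℕ) = p
        · rw [hqp]; exact le_sup_left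
        · refine le_trans ?_ le_sup_right
          rw [hW]
          exact le_iSup (fun q : {q : Nat.Primes // (q : ℕ) ≠ p} =>
            pCore ((q : Nat.Primes) : ℕ) S) ⟨q, hqp⟩
      have hxW : x ∈ Subgroup.centralizer (W : Set S) := by
        have h1 : W ≤ Subgroup.centralizer ({x} : Set S) := by
          rw [hW]
          apply iSup_le
          intro q y hy
          rw [Subgroup.mem_centralizer_singleton_iff]
          exact (Subgroup.mem_centralizer_iff.mp (h6a _ (q : Nat.Primes).2 q.2) y hy)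
        rw [Subgroup.mem_centralizer_iff]
        intro w hw
        have := h1 hw
        rw [Subgroup.mem_centralizer_singleton_iff] at this
        exact this
      exact mem_fitting_of_stable p (pCore p S) W hVp hVW hVF hWF x hxW h2
    · -- `O_p(S) = 1`
      apply Cfsg.Agent.S0044.result
      have h1 : fittingSubgroup S ≤ Subgroup.centralizer ({x} : Set S) := by
        rw [fittingSubgroup_eq_iSup_pCore]
        apply iSup_le
        intro q
        by_cases hqp : (q : ℕ) = p
        · rw [hqp, hOq p hp hpπ]; exact bot_le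
        · intro y hy
          rw [Subgroup.mem_centralizer_singleton_iff]
          exact (Subgroup.mem_centralizer_iff.mp (h6a _ q.2 hqp) y hy)
      rw [Subgroup.mem_centralizer_iff]
      intro w hw
      have := h1 hw
      rw [Subgroup.mem_centralizer_singleton_iff] at this
      exact this
  apply Cfsg.Agent.Lib.Helper3.Gen.le_of_forall_sylow_le
  intro q hq
  have := hq
  refine ⟨default, ?_⟩
  rintro y ⟨z, hz, rfl⟩
  obtain ⟨k, hk⟩ := (default : Sylow q ↥(Subgroup.centralizer (A : Set S))).isPGroup' ⟨z, hz⟩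
  apply key q hq.out _ z.2
  refine ⟨k, ?_⟩
  have := congrArg (fun w : ↥(default : Sylow q ↥(Subgroup.centralizer (A : Set S))) =>
    ((w : ↥(Subgroup.centralizer (A : Set S))) : S)) hk
  simpa using this

end Cfsg.Agent.Lib.Helper4.SCNH
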