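import Mathlib
import Cfsg.Agent.Lib.Helper4.SCNH3
import Cfsg.Agent.Lib.Helper4.HH6

set_option autoImplicit false

/-! Self-centralizing normal subgroups of the Fitting subgroup of a Hall subgroup: transport to
the quotient by `O_{π'}(S)` and the main theorem. -/

namespace Cfsg.Agent.Lib.Helper4.SCNH

open Cfsg Cfsg.Agent.Lib.Lead Cfsg.Agent.Lib.Helper4 Cfsg.Agent.Lib.Helper4.BG8
open Cfsg.Agent.Lib.Helper4.HH

open scoped commutatorElement Pointwise

universe u

variable {S : Type u} [Group S] [Finite S]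

section transport

variable {S' : Type u} [Group S'] [Finite S'] (φ : S →* S')

theorem map_fittingOf_le (H : Subgroup S) : (fittingOf H).map φ ≤ fittingOf (H.map φ) := by
  apply le_fittingOf (Subgroup.map_mono (fittingOf_le H))
  · exact (Subgroup.map_mono (le_normalizer_fittingOf H)).trans (Subgroup.le_normalizer_map φ)
  · haveI := isNilpotent_fittingOf H
    exact nilpotent_of_surjective _ (MonoidHom.subgroupMap_surjective φ (fittingOf H))

theorem fittingOf_map_le (H : Subgroup S) (hHK : H ⊓ φ.ker = ⊥) :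
    fittingOf (H.map φ) ≤ (fittingOf H).map φ := by
  obtain ⟨F', hF'⟩ : ∃ F' : Subgroup S, F' = (fittingOf (H.map φ)).comap φ ⊓ H := ⟨_, rfl⟩
  have hF'H : F' ≤ H := by rw [hF']; exact inf_le_right
  have hF'n : H ≤ Subgroup.normalizer (F' : Set S) := by
    rw [le_norm_iff]
    intro h hh y hy
    rw [hF'] at hy ⊢
    obtain ⟨hy1, hy2⟩ := Subgroup.mem_inf.mp hy
    refine Subgroup.mem_inf.mpr ⟨?_, H.mul_mem (H.mul_mem hh hy2) (H.inv_mem hh)⟩
    rw [Subgroup.mem_comap, map_mul, map_mul, map_inv]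
    have h1 : φ h ∈ Subgroup.normalizer ((fittingOf (H.map φ) : Subgroup S') : Set S') :=
      le_normalizer_fittingOf (H.map φ) (Subgroup.mem_map_of_mem φ hh)
    exact (Subgroup.mem_normalizer_iff.mp h1 _).mp hy1
  have hF'nil : Group.IsNilpotent F' := by
    have := isNilpotent_fittingOf (H.map φ)
    have hmem : ∀ y : F', φ (y : S) ∈ fittingOf (H.map φ) := by
      intro y
      have := hF'.le y.2
      exact (Subgroup.mem_inf.mp this).1
    let f : F' →* fittingOf (H.map φ) :=
      { toFun := fun y => ⟨φ (y : S), hmem y⟩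
        map_one' := by apply Subtype.ext; simp
        map_mul' := fun a b => by apply Subtype.ext; simp }
    apply Subgroup.isNilpotent_of_ker_le_center f
    intro y hy
    have h1 : φ (y : S) = 1 := by
      have := congrArg Subtype.val (MonoidHom.mem_ker.mp hy)
      simpa [f] using this
    have h2 : (y : S) ∈ H ⊓ φ.ker := Subgroup.mem_inf.mpr ⟨hF'H y.2, MonoidHom.mem_ker.mpr h1⟩
    rw [hHK, Subgroup.mem_bot] at h2
    have h3 : y = 1 := Subtype.ext h2
    rw [h3]
    exact Subgroup.one_mem _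
  have hF'F : F' ≤ fittingOf H := le_fittingOf hF'H hF'n hF'nil
  intro y hy
  obtain ⟨h, hh, rfl⟩ := fittingOf_le (H.map φ) hy
  refine ⟨h, hF'F ?_, rfl⟩
  rw [hF']
  exact Subgroup.mem_inf.mpr ⟨hy, hh⟩

theorem isPiHall_map {π : Set ℕ} (hφ : Function.Surjective φ) {H : Subgroup S}
    (hH : IsPiHall π H) : IsPiHall π (H.map φ) := by
  refine ⟨?_, ?_⟩
  · intro p hp hd
    exact hH.1 p hp (hd.trans (Subgroup.card_map_dvd H φ))
  · intro p hp hpπ hd
    exact hH.2 p hp hpπ (hd.trans (Subgroup.index_map_dvd H hφ))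

theorem isSCN_map (H A : Subgroup S) (hHK : H ⊓ φ.ker = ⊥) (hA : IsSCN (fittingOf H) A) :
    IsSCN (fittingOf (H.map φ)) (A.map φ) := by
  obtain ⟨hAF, hFA, hCA⟩ := hA
  have hAab : A ≤ Subgroup.centralizer (A : Set S) := by
    have : A ≤ fittingOf H ⊓ Subgroup.centralizer (A : Set S) := hCA.ge
    exact this.trans inf_le_right
  have hAle : A.map φ ≤ fittingOf (H.map φ) :=
    (Subgroup.map_mono hAF).trans (map_fittingOf_le φ H)
  refine ⟨hAle, ?_, ?_⟩
  · refine (fittingOf_map_le φ H hHK).trans ?_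
    exact (Subgroup.map_mono hFA).trans (Subgroup.le_normalizer_map φ)
  · apply le_antisymm
    · intro y hy
      obtain ⟨hy1, hy2⟩ := Subgroup.mem_inf.mp hy
      obtain ⟨f, hf, rfl⟩ := fittingOf_map_le φ H hHK hy1
      refine ⟨f, ?_, rfl⟩
      rw [← hCA]
      refine Subgroup.mem_inf.mpr ⟨hf, ?_⟩
      rw [Subgroup.mem_centralizer_iff]
      intro a ha
      have h1 : φ a * φ f = φ f * φ a :=
        Subgroup.mem_centralizer_iff.mp hy2 (φ a) (Subgroup.mem_map_of_mem φ ha)
      have h2 : f * a * f⁻¹ ∈ A := (Subgroup.mem_normalizer_iff.mp (hFA hf) a).mp ha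
      have h3 : f * a * f⁻¹ * a⁻¹ ∈ H ⊓ φ.ker := by
        refine Subgroup.mem_inf.mpr ⟨(fittingOf_le H) (hAF (A.mul_mem h2 (A.inv_mem ha))), ?_⟩
        rw [MonoidHom.mem_ker]
        simp only [map_mul, map_inv]
        rw [← h1]
        group
      rw [hHK, Subgroup.mem_bot] at h3
      have e : f * a = (f * a * f⁻¹ * a⁻¹) * (a * f) := by group
      rw [e, h3, one_mul]
    · apply le_inf hAle
      rintro y ⟨a, ha, rfl⟩
      rw [Subgroup.mem_centralizer_iff]
      rintro z ⟨b, hb, rfl⟩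
      rw [← map_mul, ← map_mul]
      congr 1
      exact Subgroup.mem_centralizer_iff.mp (hAab ha) b hb

end transport

end Cfsg.Agent.Lib.Helper4.SCNH
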