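import Mathlib
import Cfsg.Agent.Lib.Helper4.SCNH4

set_option autoImplicit false

/-! Self-centralizing normal subgroups of the Fitting subgroup of a Hall subgroup: the main
theorem `C_S(A) = A × D`. -/

namespace Cfsg.Agent.Lib.Helper4.SCNH

open Cfsg Cfsg.Agent.Lib.Lead Cfsg.Agent.Lib.Helper4 Cfsg.Agent.Lib.Helper4.BG8
open Cfsg.Agent.Lib.Helper4.HH

open scoped commutatorElement Pointwise

universe u

variable {S : Type u} [Group S] [Finite S]

theorem scn_main [Group.IsSolvable S]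
    (π : Set ℕ) (h2 : 2 ∉ π) (h3 : 3 ∉ π) (H : Subgroup S) (hH : Cfsg.IsPiHall π H)
    (A : Subgroup S) (hA : Cfsg.IsSCN ((Cfsg.fittingSubgroup H).map H.subtype) A) :
    ∃ D : Subgroup S, D ≤ Subgroup.centralizer (A : Set S) ∧
      (∀ c ∈ Subgroup.centralizer (A : Set S), ∀ d ∈ D, c * d * c⁻¹ ∈ D) ∧
      A ⊓ D = ⊥ ∧ A ⊔ D = Subgroup.centralizer (A : Set S) ∧
      ∀ q : ℕ, q.Prime → q ∣ Nat.card D → q ∉ π := by
  have hA' : IsSCN (fittingOf H) A := hA
  have hπ5 : ∀ p ∈ π, p.Prime → 5 ≤ p := by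
    intro p hp hpp
    by_contra hlt
    push Not at hlt
    have hp2 : p ≠ 2 := fun h => h2 (h ▸ hp)
    have hp3 : p ≠ 3 := fun h => h3 (h ▸ hp)
    interval_cases p
    · exact Nat.not_prime_zero hpp
    · exact Nat.not_prime_one hpp
    · exact hp2 rfl
    · exact hp3 rfl
    · exact (by decide : ¬ Nat.Prime 4) hpp
  obtain ⟨K, hKdef⟩ : ∃ K : Subgroup S, K = Cfsg.piCore πᶜ S := ⟨_, rfl⟩
  have hKn : K.Normal := by rw [hKdef]; infer_instance
  have hKπ : IsPiNum πᶜ (Nat.card K) := by rw [hKdef]; exact isPiNum_card_piCore πᶜ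
  have hHK : H ⊓ K = ⊥ := by
    apply Subgroup.inf_eq_bot_of_coprime
    apply Nat.coprime_of_dvd
    intro k hk h1 h2'
    exact hKπ k hk h2' (hH.1 k hk h1)
  have hcore : Subgroup.centralizer ((A.map (QuotientGroup.mk' (Cfsg.piCore πᶜ S)) :
      Subgroup (S ⧸ Cfsg.piCore πᶜ S)) : Set (S ⧸ Cfsg.piCore πᶜ S)) ≤
      A.map (QuotientGroup.mk' (Cfsg.piCore πᶜ S)) := by
    have hker : H ⊓ (QuotientGroup.mk' (Cfsg.piCore πᶜ S)).ker = ⊥ := by
      rw [QuotientGroup.ker_mk', ← hKdef]; exact hHK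
    exact scn_core π hπ5 (piCore_quotient_piCore πᶜ) (H.map (QuotientGroup.mk' (Cfsg.piCore πᶜ S)))
      (isPiHall_map _ (QuotientGroup.mk'_surjective _) hH) _ (isSCN_map _ H A hker hA')
  obtain ⟨hAF, hFA, hCA⟩ := hA'
  have hAab : A ≤ Subgroup.centralizer (A : Set S) := by
    have : A ≤ fittingOf H ⊓ Subgroup.centralizer (A : Set S) := hCA.ge
    exact this.trans inf_le_right
  refine ⟨K ⊓ Subgroup.centralizer (A : Set S), inf_le_right, ?_, ?_, ?_, ?_⟩
  · intro c hc d hd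
    obtain ⟨hd1, hd2⟩ := Subgroup.mem_inf.mp hd
    refine Subgroup.mem_inf.mpr ⟨hKn.conj_mem d hd1 c, ?_⟩
    exact Subgroup.mul_mem _ (Subgroup.mul_mem _ hc hd2) (Subgroup.inv_mem _ hc)
  · apply le_bot_iff.mp
    rw [← hHK]
    exact inf_le_inf (hAF.trans (fittingOf_le H)) inf_le_left
  · apply le_antisymm
    · exact sup_le hAab inf_le_right
    · intro c hc
      have h1 : QuotientGroup.mk' (Cfsg.piCore πᶜ S) c ∈
          Subgroup.centralizer ((A.map (QuotientGroup.mk' (Cfsg.piCore πᶜ S)) :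
            Subgroup (S ⧸ Cfsg.piCore πᶜ S)) : Set (S ⧸ Cfsg.piCore πᶜ S)) := by
        rw [Subgroup.mem_centralizer_iff]
        rintro z ⟨a, ha, rfl⟩
        rw [← map_mul, ← map_mul]
        congr 1
        exact Subgroup.mem_centralizer_iff.mp hc a ha
      obtain ⟨a, ha, hac⟩ := hcore h1
      have h2 : a⁻¹ * c ∈ K := by
        rw [hKdef, ← QuotientGroup.ker_mk' (Cfsg.piCore πᶜ S), MonoidHom.mem_ker, map_mul, map_inv,
          hac, inv_mul_cancel]
      have e : c = a * (a⁻¹ * c) := by group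
      rw [e]
      apply Subgroup.mul_mem _ (Subgroup.mem_sup_left ha)
      apply Subgroup.mem_sup_right
      refine Subgroup.mem_inf.mpr ⟨h2, ?_⟩
      exact Subgroup.mul_mem _ (Subgroup.inv_mem _ (hAab ha)) hc
  · intro q hq hqd hqπ
    have h1 : q ∣ Nat.card K := hqd.trans (Subgroup.card_dvd_of_le inf_le_left)
    exact hKπ q hq h1 hqπ

end Cfsg.Agent.Lib.Helper4.SCNH
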