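import Mathlib
import Cfsg.Agent.Lib.Helper8.SameOrdSS2

/-!
# S3999 swarm, package GA2

Quotients by normal Hall subgroups of the same order have the same order type.
(Copy of `Helper8.SameOrdSS.card_mul_s_quotient` with `q ^ j` replaced by the divisors of `n`.)
-/

set_option autoImplicit false

namespace Cfsg.Agent.Lib.Helper4.SameOrdGA2

open Cfsg.Agent.Lib.Helper7.SameOrd Cfsg.Agent.Lib.Helper8.SameOrdSS

universe u v

section quotient

variable {X : Type u} [Group X] [Finite X]

/-- the order of the image of `x` modulo a normal Hall subgroup of order `n`. -/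
theorem orderOf_mk_eq_iff_hall {n m : ℕ} (N : Subgroup X) [N.Normal]
    (hN : Nat.card N = n) (hcop : n.Coprime (Nat.card (X ⧸ N))) (hm : 0 < m)
    (hnm : n.Coprime m) (x : X) :
    orderOf (QuotientGroup.mk x : X ⧸ N) = m ↔ ∃ d ∈ n.divisors, orderOf x = m * d := by
  have hn0 : n ≠ 0 := by rw [← hN]; exact Nat.card_pos.ne'
  have hpowN : ∀ k : ℕ, (QuotientGroup.mk x : X ⧸ N) ^ k = 1 → x ^ (k * n) = 1 := by
    intro k hk
    rw [← QuotientGroup.mk_pow] at hk
    have hmem : x ^ k ∈ N := (QuotientGroup.eq_one_iff _).mp hk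
    have h2 : ((⟨x ^ k, hmem⟩ : N) ^ Nat.card N : N) = 1 := pow_card_eq_one'
    have h3 := congrArg Subtype.val h2
    rw [SubgroupClass.coe_pow, OneMemClass.coe_one, hN] at h3
    rw [pow_mul]
    exact h3
  have hdvd1 : orderOf (QuotientGroup.mk x : X ⧸ N) ∣ orderOf x :=
    orderOf_map_dvd (QuotientGroup.mk' N) x
  have hdcop : (orderOf (QuotientGroup.mk x : X ⧸ N)).Coprime n :=
    (Nat.Coprime.coprime_dvd_right (orderOf_dvd_natCard _) hcop).symm
  constructor
  · intro hd
    have h1 : m ∣ orderOf x := hd ▸ hdvd1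
    obtain ⟨t, ht⟩ := h1
    have h2 : orderOf x ∣ m * n :=
      orderOf_dvd_of_pow_eq_one (hpowN m (by rw [← hd]; exact pow_orderOf_eq_one _))
    rw [ht] at h2
    have h3 : t ∣ n := (Nat.mul_dvd_mul_iff_left hm).mp h2
    exact ⟨t, Nat.mem_divisors.mpr ⟨h3, hn0⟩, ht⟩
  · rintro ⟨d, hd, hj⟩
    have hdn : d ∣ n := (Nat.mem_divisors.mp hd).1
    set e := orderOf (QuotientGroup.mk x : X ⧸ N) with he
    have h1 : e ∣ m := by
      have : e ∣ m * d := hj ▸ hdvd1
      exact (Nat.Coprime.coprime_dvd_right hdn hdcop).dvd_of_dvd_mul_right this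
    have h2 : m ∣ e := by
      have h3 : orderOf x ∣ e * n :=
        orderOf_dvd_of_pow_eq_one (hpowN e (pow_orderOf_eq_one _))
      rw [hj] at h3
      have h4 : m ∣ e * n := (Dvd.intro _ rfl).trans h3
      exact hnm.symm.dvd_of_dvd_mul_right h4
    exact Nat.dvd_antisymm h1 h2

open Classical in
/-- counting the elements of `X` whose image modulo a normal Hall subgroup has order `m`. -/
theorem card_mul_s_quotient_hall {n m : ℕ} (N : Subgroup X) [N.Normal]
    (hN : Nat.card N = n) (hcop : n.Coprime (Nat.card (X ⧸ N))) (hm : 0 < m)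
    (hnm : n.Coprime m) :
    n * s (X ⧸ N) m = ∑ d ∈ n.divisors, s X (m * d) := by
  haveI : Fintype X := Fintype.ofFinite X
  have h1 := QuotientGroup.card_preimage_mk N {y : X ⧸ N | orderOf y = m}
  have h2 : Nat.card ↥{y : X ⧸ N | orderOf y = m} = s (X ⧸ N) m := rfl
  rw [h2, hN] at h1
  rw [← h1]
  have h3 : Nat.card ↥((QuotientGroup.mk : X → X ⧸ N) ⁻¹' {y : X ⧸ N | orderOf y = m}) =
      (Finset.univ.filter (fun x : X => orderOf (QuotientGroup.mk x : X ⧸ N) = m)).card := by
    have h5 : Nat.card ↥((QuotientGroup.mk : X → X ⧸ N) ⁻¹' {y : X ⧸ N | orderOf y = m}) =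
        Nat.card {x : X // orderOf (QuotientGroup.mk x : X ⧸ N) = m} := rfl
    rw [h5, Nat.card_eq_fintype_card, Fintype.card_subtype]
  rw [h3]
  have h4 : Finset.univ.filter (fun x : X => orderOf (QuotientGroup.mk x : X ⧸ N) = m) =
      (n.divisors).biUnion
        (fun d => Finset.univ.filter (fun x : X => orderOf x = m * d)) := by
    ext x
    simp only [Finset.mem_filter, Finset.mem_univ, true_and, Finset.mem_biUnion]
    exact orderOf_mk_eq_iff_hall N hN hcop hm hnm x
  rw [h4, Finset.card_biUnion]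
  · apply Finset.sum_congr rfl
    intro d _
    unfold s
    rw [Nat.card_eq_fintype_card, Fintype.card_subtype]
  · intro d _ d' _ hdd'
    rw [Function.onFun, Finset.disjoint_filter]
    intro x _ hx hx'
    rw [hx] at hx'
    exact hdd' (Nat.eq_of_mul_eq_mul_left hm hx')

end quotient

section main

variable {X : Type u} {Y : Type v} [Group X] [Finite X] [Group Y] [Finite Y]

/-- **GA2**: quotients by normal Hall subgroups of the same order have the same order type. -/
theorem sameType_quotient_hall (hT : SameType X Y) (N : Subgroup X) [N.Normal] (K : Subgroup Y)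
    [K.Normal] (hNK : Nat.card N = Nat.card K)
    (hcop : (Nat.card N).Coprime (Nat.card (X ⧸ N))) : SameType (X ⧸ N) (Y ⧸ K) := by
  set n := Nat.card N with hn
  have hn0 : 0 < n := Nat.card_pos
  have hXY : Nat.card X = Nat.card Y := hT.card_eq
  have hq : Nat.card (X ⧸ N) = Nat.card (Y ⧸ K) := by
    have h1 := Subgroup.card_eq_card_quotient_mul_card_subgroup N
    have h2 := Subgroup.card_eq_card_quotient_mul_card_subgroup K
    rw [← hn] at h1
    rw [← hNK, ← hXY, h1] at h2
    exact Nat.eq_of_mul_eq_mul_right hn0 h2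
  have hcopY : n.Coprime (Nat.card (Y ⧸ K)) := hq ▸ hcop
  intro m
  rcases Nat.eq_zero_or_pos m with rfl | hm
  · rw [s_zero, s_zero]
  by_cases hnm : n.Coprime m
  · have h1 := card_mul_s_quotient_hall N hn.symm hcop hm hnm
    have h2 := card_mul_s_quotient_hall K hNK.symm hcopY hm hnm
    have h3 : ∑ d ∈ n.divisors, s X (m * d) = ∑ d ∈ n.divisors, s Y (m * d) :=
      Finset.sum_congr rfl (fun d _ => hT _)
    rw [← h1, ← h2] at h3
    exact Nat.eq_of_mul_eq_mul_left hn0 h3
  · obtain ⟨q, hqp, hqn, hqm⟩ := Nat.Prime.not_coprime_iff_dvd.mp hnm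
    have hc1 : q.Coprime (Nat.card (X ⧸ N)) := Nat.Coprime.coprime_dvd_left hqn hcop
    have hc2 : q.Coprime (Nat.card (Y ⧸ K)) := Nat.Coprime.coprime_dvd_left hqn hcopY
    rw [s_eq_zero_of_dvd hqp hqm hc1, s_eq_zero_of_dvd hqp hqm hc2]

end main

end Cfsg.Agent.Lib.Helper4.SameOrdGA2
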