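import Mathlib
import Cfsg.Prelude
import Cfsg.Agent.Lib.Lead.Frobenius3

/-!
# S3999 swarm, package GA3

A normal Hall subgroup `K` (nontrivial, proper) of a finite group such that no element has order
`p * r` with `p ∣ |K|`, `r ∣ |X : K|` primes, has a complement which is a Frobenius complement.
-/

set_option autoImplicit false

namespace Cfsg.Agent.Lib.Helper4.SameOrdGA3

universe u

variable {X : Type u} [Group X] [Finite X]

/-- an element of prime order `p` among the powers of a nontrivial element -/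
theorem exists_pow_prime_order {x : X} (hx : x ≠ 1) :
    ∃ (p : ℕ) (n : ℕ), p.Prime ∧ orderOf (x ^ n) = p := by
  have h1 : orderOf x ≠ 1 := by
    intro h; exact hx (orderOf_eq_one_iff.mp h)
  obtain ⟨p, hp, hdvd⟩ := Nat.exists_prime_and_dvd h1
  exact ⟨p, orderOf x / p, hp, orderOf_pow_orderOf_div (orderOf_pos x).ne' hdvd⟩

/-- **GA3**: a normal Hall subgroup without mixed element orders is a Frobenius kernel. -/
theorem exists_frobenius_complement_of_no_mixed (K : Subgroup X) [K.Normal] (hK : K ≠ ⊥)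
    (hK' : K ≠ ⊤) (hcop : (Nat.card K).Coprime K.index)
    (hno : ∀ p r : ℕ, p.Prime → r.Prime → p ∣ Nat.card K → r ∣ K.index →
      ∀ g : X, orderOf g ≠ p * r) :
    ∃ C : Subgroup X, Cfsg.IsFrobeniusComplement C ∧ Subgroup.IsComplement' K C := by
  obtain ⟨C, hC⟩ := Subgroup.exists_right_complement'_of_coprime hcop
  have hidx : K.index = Nat.card C := hC.symm.index_eq_card
  have hCne : C ≠ ⊥ := by
    intro hCb
    apply hK'
    rw [← Subgroup.index_eq_one, hidx, hCb, Subgroup.card_bot]
  refine ⟨C, ?_, hC⟩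
  rw [Cfsg.Agent.Lib.Lead.isFrobeniusComplement_iff_fpf K C hC hK hCne]
  intro h hh hh1
  rw [eq_bot_iff]
  intro k hk
  obtain ⟨hkK, hkC⟩ := Subgroup.mem_inf.mp hk
  rw [Subgroup.mem_bot]
  by_contra hk1
  obtain ⟨p, n, hp, hpn⟩ := exists_pow_prime_order hk1
  obtain ⟨r, m, hr, hrm⟩ := exists_pow_prime_order hh1
  have hcomm0 : Commute k h := by
    rw [Subgroup.mem_centralizer_iff] at hkC
    exact (hkC h (Set.mem_singleton h)).symm
  have hcomm : Commute (k ^ n) (h ^ m) := (hcomm0.pow_left n).pow_right m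
  have hpK : p ∣ Nat.card K := by
    have h1 : orderOf (⟨k ^ n, K.pow_mem hkK n⟩ : K) = p := by
      rw [← Subgroup.orderOf_coe]; exact hpn
    rw [← h1]; exact orderOf_dvd_natCard _
  have hrC : r ∣ K.index := by
    rw [hidx]
    have h1 : orderOf (⟨h ^ m, C.pow_mem hh m⟩ : C) = r := by
      rw [← Subgroup.orderOf_coe]; exact hrm
    rw [← h1]; exact orderOf_dvd_natCard _
  have hpr : (orderOf (k ^ n)).Coprime (orderOf (h ^ m)) := by
    rw [hpn, hrm]
    exact Nat.Coprime.coprime_dvd_left hpK (Nat.Coprime.coprime_dvd_right hrC hcop)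
  have hord := hcomm.orderOf_mul_eq_mul_orderOf_of_coprime hpr
  rw [hpn, hrm] at hord
  exact hno p r hp hr hpK hrC _ hord

end Cfsg.Agent.Lib.Helper4.SameOrdGA3
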