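import Mathlib
import Cfsg.Agent.Lib.Lead.SchDefs
import Cfsg.Agent.Lib.Helper7.SchXDefs

/-!
# S4395, package STRB: from the minimal action of `y` on the normal `p`-subgroup `P` to a
Schmidt datum `SD p q X` with `C = C_P(y)`.
-/

set_option autoImplicit false
universe u

namespace Cfsg.Agent.Lib.Lead.Sch

open Cfsg.Agent.Lib.Helper9.Schm Cfsg.Agent.Lib.Helper7.SchX
open scoped commutatorElement

section Abstract

variable {T : Type u} [Group T] {p q : ℕ} [hp : Fact p.Prime] [hq : Fact q.Prime] {φ : T ≃* T}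

/-- the subgroup of fixed points of `φ` -/
def fixSub (φ : T ≃* T) : Subgroup T where
  carrier := {x | φ x = x}
  one_mem' := map_one φ
  mul_mem' := fun {a b} ha hb => by
    have ha' : φ a = a := ha
    have hb' : φ b = b := hb
    show φ (a * b) = a * b
    rw [map_mul, ha', hb']
  inv_mem' := fun {a} ha => by
    have ha' : φ a = a := ha
    show φ a⁻¹ = a⁻¹
    rw [map_inv, ha']

theorem mem_fixSub (φ : T ≃* T) (x : T) : x ∈ fixSub φ ↔ φ x = x := Iff.rfl

/-- the abstract information on `C = Fix φ` -/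
structure FixData (p : ℕ) (φ : T ≃* T) : Prop where
  central : fixSub φ ≤ Subgroup.center T
  exp : ∀ c ∈ fixSub φ, c ^ p = 1
  comm : ∀ a b : T, a * b * a⁻¹ * b⁻¹ ∈ fixSub φ
  pow : ∀ a : T, a ^ p ∈ fixSub φ
  gen : fixSub φ ≤ Subgroup.closure
    ({x : T | ∃ u : T, x = u ^ p} ∪ {x : T | ∃ u v : T, x = u * v * u⁻¹ * v⁻¹})
  nongen : ∀ D : Subgroup T, D ⊔ fixSub φ = ⊤ → D = ⊤

theorem comm_central_left {z : T} (hz : z ∈ Subgroup.center T) (d b : T) :
    (d * z) * b * (d * z)⁻¹ * b⁻¹ = d * b * d⁻¹ * b⁻¹ := by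
  have h1 := Subgroup.mem_center_iff.mp hz b
  calc (d * z) * b * (d * z)⁻¹ * b⁻¹ = d * (z * b) * z⁻¹ * d⁻¹ * b⁻¹ := by group
    _ = d * (b * z) * z⁻¹ * d⁻¹ * b⁻¹ := by rw [h1]
    _ = d * b * d⁻¹ * b⁻¹ := by group

theorem comm_central_right {z : T} (hz : z ∈ Subgroup.center T) (d b : T) :
    d * (b * z) * d⁻¹ * (b * z)⁻¹ = d * b * d⁻¹ * b⁻¹ := by
  have h1 := Subgroup.mem_center_iff.mp hz d⁻¹
  calc d * (b * z) * d⁻¹ * (b * z)⁻¹ = d * b * (z * d⁻¹) * z⁻¹ * b⁻¹ := by group
    _ = d * b * (d⁻¹ * z) * z⁻¹ * b⁻¹ := by rw [h1]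
    _ = d * b * d⁻¹ * b⁻¹ := by group

variable [Finite T]

/-- non-abelian case: everything is in Helper9's `MinAct` library -/
theorem fixData_nonab (h : MinAct p q T φ) : FixData p φ := by
  have hcen : fixSub φ ≤ Subgroup.center T := fun x hx => (fixed_iff h x).mp hx
  have key : ∀ c ∈ commutator T, c ∈ Subgroup.center T ∧ c ^ p = 1 := by
    intro c hc
    rw [commutator_eq_closure] at hc
    induction hc using Subgroup.closure_induction with
    | mem x hx =>
      obtain ⟨a, b, rfl⟩ := hx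
      refine ⟨comm_mem_center h a b, ?_⟩
      obtain ⟨ch, hch⟩ := exists_commHom h a
      have e1 : ⁅a, b⁆ = ch b := by rw [hch, commutatorElement_def]
      rw [e1, ← map_pow, hch]
      have hz := Subgroup.mem_center_iff.mp (pow_p_mem_center h b) a
      rw [hz]
      group
    | one => exact ⟨Subgroup.one_mem _, one_pow _⟩
    | mul x y _ _ hx hy =>
      refine ⟨Subgroup.mul_mem _ hx.1 hy.1, ?_⟩
      have hcomm : Commute x y := Subgroup.mem_center_iff.mp hy.1 x
      rw [hcomm.mul_pow, hx.2, hy.2, one_mul]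
    | inv x _ hx => exact ⟨Subgroup.inv_mem _ hx.1, by rw [inv_pow, hx.2, inv_one]⟩
  refine ⟨hcen, ?_, ?_, ?_, ?_, ?_⟩
  · intro c hc
    exact (key c (center_le_commutator h (hcen hc))).2
  · intro a b
    have := comm_mem_center h a b
    rw [commutatorElement_def] at this
    exact (fixed_iff h _).mpr this
  · intro a
    exact (fixed_iff h _).mpr (pow_p_mem_center h a)
  · intro x hx
    have h1 : x ∈ commutator T := center_le_commutator h (hcen hx)
    rw [commutator_eq_closure] at h1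
    refine Subgroup.closure_mono ?_ h1
    rintro g ⟨a, b, rfl⟩
    right
    exact ⟨a, b, by rw [commutatorElement_def]⟩
  · intro D hD
    have hZn : (fixSub φ).Normal := ⟨fun z hz g => by
      have hzc := Subgroup.mem_center_iff.mp (hcen hz) g
      rw [hzc, mul_inv_cancel_right]
      exact hz⟩
    have hdec : ∀ a : T, ∃ d ∈ D, ∃ z ∈ fixSub φ, a = d * z := by
      intro a
      have ha : a ∈ ((D ⊔ fixSub φ : Subgroup T) : Set T) := by rw [hD]; trivial
      rw [Subgroup.mul_normal D (fixSub φ)] at ha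
      obtain ⟨d, hd, z, hz, rfl⟩ := Set.mem_mul.mp ha
      exact ⟨d, hd, z, hz, rfl⟩
    have hcD : commutator T ≤ D := by
      rw [commutator_eq_closure, Subgroup.closure_le]
      rintro g ⟨a, b, rfl⟩
      obtain ⟨d, hd, z, hz, rfl⟩ := hdec a
      obtain ⟨d', hd', z', hz', rfl⟩ := hdec b
      rw [SetLike.mem_coe, commutatorElement_def, comm_central_left (hcen hz),
        comm_central_right (hcen hz')]
      exact D.mul_mem (D.mul_mem (D.mul_mem hd hd') (D.inv_mem hd)) (D.inv_mem hd')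
    have hZD : fixSub φ ≤ D := fun x hx => hcD (center_le_commutator h (hcen hx))
    rw [sup_eq_left.mpr hZD] at hD
    exact hD

/-- abelian case -/
theorem fixData_ab (h : WAct p q T φ) (hab : ∀ a b : T, a * b = b * a) : FixData p φ := by
  -- the homomorphism `x ↦ φ x * x⁻¹`
  let δ : T →* T := MonoidHom.mk' (fun x => φ x * x⁻¹) (by
    intro a b
    show φ (a * b) * (a * b)⁻¹ = φ a * a⁻¹ * (φ b * b⁻¹)
    rw [map_mul]
    calc φ a * φ b * (a * b)⁻¹ = φ a * ((φ b * b⁻¹) * a⁻¹) := by group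
      _ = φ a * (a⁻¹ * (φ b * b⁻¹)) := by rw [hab (φ b * b⁻¹) a⁻¹]
      _ = φ a * a⁻¹ * (φ b * b⁻¹) := by group)
  have hδ : ∀ x, δ x = φ x * x⁻¹ := fun x => rfl
  have hδtop : δ.range = ⊤ := by
    by_contra hne
    have hinv : ∀ x ∈ δ.range, φ x ∈ δ.range := by
      rintro _ ⟨x, rfl⟩
      exact ⟨φ x, by rw [hδ, hδ, map_mul, map_inv]⟩
    have hfix := h.min _ hne hinv
    obtain ⟨x, hx⟩ := h.nt
    apply hx
    have hn : φ x * x⁻¹ ∈ δ.range := ⟨x, rfl⟩
    have h1 := iterate_of_fixed φ x (φ x * x⁻¹) (by group) (hfix _ hn) q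
    rw [h.powq] at h1
    have h2 : (φ x * x⁻¹) ^ q = 1 := by
      have : (φ x * x⁻¹) ^ q * x = 1 * x := by rw [one_mul]; exact h1.symm
      exact mul_right_cancel this
    have h3 : φ x * x⁻¹ = 1 := by
      obtain ⟨k, hk⟩ := (IsPGroup.iff_orderOf.mp h.pgrp) (φ x * x⁻¹)
      have hd : orderOf (φ x * x⁻¹) ∣ q := orderOf_dvd_of_pow_eq_one h2
      have hcop : Nat.Coprime (orderOf (φ x * x⁻¹)) q := by
        rw [hk]
        apply Nat.Coprime.pow_left
        exact (Nat.coprime_primes hp.out hq.out).mpr (Ne.symm h.hqp)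
      exact orderOf_eq_one_iff.mp (Nat.Coprime.eq_one_of_dvd hcop hd)
    exact mul_inv_eq_one.mp h3
  have hδsurj : Function.Surjective δ := MonoidHom.range_eq_top.mp hδtop
  have hδinj : Function.Injective δ := Finite.injective_iff_surjective.mpr hδsurj
  have hbot : ∀ x ∈ fixSub φ, x = 1 := by
    intro x hx
    apply hδinj
    have hx' : φ x = x := hx
    rw [hδ, hx', map_one, mul_inv_cancel]
  -- `p`-th powers
  let π : T →* T := MonoidHom.mk' (fun x => x ^ p) (fun a b => Commute.mul_pow (hab a b) p)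
  have hπ : ∀ x, π x = x ^ p := fun x => rfl
  have hπne : π.range ≠ ⊤ := by
    intro htop
    have hsurj : Function.Surjective π := MonoidHom.range_eq_top.mp htop
    have hinj : Function.Injective π := Finite.injective_iff_surjective.mpr hsurj
    obtain ⟨x, hx⟩ := h.nt
    have hnt : Nontrivial T := ⟨⟨φ x, x, hx⟩⟩
    obtain ⟨n, hn⟩ := IsPGroup.iff_card.mp h.pgrp
    have hn0 : n ≠ 0 := by
      intro h0
      rw [h0, pow_zero] at hn
      have := Finite.one_lt_card (α := T)
      omega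
    have hdvd : p ∣ Nat.card T := by rw [hn]; exact dvd_pow_self p hn0
    obtain ⟨g, hg⟩ := exists_prime_orderOf_dvd_card' p hdvd
    have hg1 : g = 1 := by
      apply hinj
      rw [hπ, hπ, one_pow, ← hg, pow_orderOf_eq_one]
    rw [hg1, orderOf_one] at hg
    exact hp.out.one_lt.ne hg
  have hπinv : ∀ x ∈ π.range, φ x ∈ π.range := by
    rintro _ ⟨x, rfl⟩
    exact ⟨φ x, by rw [hπ, hπ, map_pow]⟩
  have hπfix := h.min _ hπne hπinv
  refine ⟨?_, ?_, ?_, ?_, ?_, ?_⟩
  · intro x _
    rw [Subgroup.mem_center_iff]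
    intro g
    exact hab g x
  · intro c hc
    rw [hbot c hc, one_pow]
  · intro a b
    have : a * b * a⁻¹ * b⁻¹ = 1 := by rw [hab a b]; group
    rw [this]
    exact Subgroup.one_mem _
  · intro a
    exact hπfix (a ^ p) ⟨a, rfl⟩
  · intro x hx
    rw [hbot x hx]
    exact Subgroup.one_mem _
  · intro D hD
    have hb : fixSub φ = ⊥ := (Subgroup.eq_bot_iff_forall _).mpr hbot
    rw [hb, sup_bot_eq] at hD
    exact hD

theorem fixData_of_wact (h : WAct p q T φ) : FixData p φ := by
  by_cases hab : ∀ a b : T, a * b = b * a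
  · exact fixData_ab h hab
  · push Not at hab
    exact fixData_nonab (h.minAct hab)

end Abstract

section Ambient

variable {X : Type u} [Group X] [Finite X]

/-- **STRB** -/
theorem strb (p q : ℕ) [Fact p.Prime] [Fact q.Prime] (hpq : p ≠ q)
    (P : Subgroup X) (y : X) (hPn : P.Normal) (hPp : IsPGroup p P) (r : ℕ) (hy : orderOf y = q ^ r)
    (hgen : P ⊔ Subgroup.zpowers y = ⊤) (hyq : y ^ q ∈ Subgroup.center X)
    (hmin : ∀ D : Subgroup X, D ≤ P → D ≠ P → (∀ d ∈ D, y * d * y⁻¹ ∈ D) → ∀ d ∈ D, y * d * y⁻¹ = d)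
    (hmoved : ∃ u ∈ P, y * u * y⁻¹ ≠ u) : ∃ sd : SD p q X, sd.P = P ∧ sd.y = y := by
  have := hPn
  have hφ : ∀ u : ↥P, (((MulAut.conjNormal y : MulAut P) u : ↥P) : X) = y * u * y⁻¹ :=
    fun u => MulAut.conjNormal_apply y u
  have hW : WAct p q ↥P (MulAut.conjNormal y : MulAut P) := by
    refine ⟨hPp, hpq.symm, ?_, ?_, ?_⟩
    · intro x
      apply Subtype.ext
      rw [iterate_conjNormal]
      have h1 := Subgroup.mem_center_iff.mp hyq (x : X)
      rw [← h1]
      group
    · intro N hN hinv x hx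
      have h1 : N.map P.subtype ≤ P := Subgroup.map_subtype_le N
      have h2 : N.map P.subtype ≠ P := by
        intro heq
        apply hN
        apply Subgroup.map_injective P.subtype_injective
        rw [heq, ← MonoidHom.range_eq_map, Subgroup.range_subtype]
      have h3 : ∀ d ∈ N.map P.subtype, y * d * y⁻¹ ∈ N.map P.subtype := by
        rintro _ ⟨n, hn, rfl⟩
        exact ⟨(MulAut.conjNormal y : MulAut P) n, hinv n hn, hφ n⟩
      have h4 := hmin _ h1 h2 h3 (x : X) ⟨x, hx, rfl⟩
      apply Subtype.ext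
      rw [hφ, h4]
    · obtain ⟨u, hu, hne⟩ := hmoved
      refine ⟨⟨u, hu⟩, fun heq => hne ?_⟩
      have h1 := congrArg Subtype.val heq
      rw [hφ] at h1
      exact h1
  have hF : FixData p (MulAut.conjNormal y : MulAut P) := fixData_of_wact hW
  refine ⟨{ P := P
            C := (fixSub (MulAut.conjNormal y : MulAut P)).map P.subtype
            y := y
            P_normal := hPn
            P_pgroup := hPp
            y_order := ⟨r, hy⟩
            gen := hgen
            yq_central := hyq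
            C_le := Subgroup.map_subtype_le _
            C_central := ?_
            C_exp := ?_
            quot_comm := ?_
            quot_exp := ?_
            C_gen := ?_
            irr := ?_
            nongen := ?_
            moved := hmoved }, rfl, rfl⟩
  · rintro _ ⟨c', hc', rfl⟩
    have hc'' : (MulAut.conjNormal y : MulAut P) c' = c' := hc'
    have hfix : y * (c' : X) * y⁻¹ = c' := by rw [← hφ, hc'']
    have hcen : c' ∈ Subgroup.center ↥P := hF.central hc'
    have hle : P ⊔ Subgroup.zpowers y ≤ Subgroup.centralizer {(c' : X)} := by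
      rw [sup_le_iff]
      constructor
      · intro u hu
        rw [Subgroup.mem_centralizer_singleton_iff]
        have h1 := Subgroup.mem_center_iff.mp hcen ⟨u, hu⟩
        exact congrArg Subtype.val h1
      · rw [Subgroup.zpowers_le, Subgroup.mem_centralizer_singleton_iff]
        calc y * (c' : X) = y * c' * y⁻¹ * y := by group
          _ = c' * y := by rw [hfix]
    rw [hgen] at hle
    show (c' : X) ∈ Subgroup.center X
    rw [Subgroup.mem_center_iff]
    intro g
    have h1 := hle (Subgroup.mem_top g)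
    rwa [Subgroup.mem_centralizer_singleton_iff] at h1
  · rintro _ ⟨c', hc', rfl⟩
    have h1 := congrArg Subtype.val (hF.exp c' hc')
    simpa using h1
  · intro u hu v hv
    exact ⟨(⟨u, hu⟩ : ↥P) * ⟨v, hv⟩ * (⟨u, hu⟩ : ↥P)⁻¹ * (⟨v, hv⟩ : ↥P)⁻¹, hF.comm _ _, rfl⟩
  · intro u hu
    exact ⟨(⟨u, hu⟩ : ↥P) ^ p, hF.pow _, rfl⟩
  · calc (fixSub (MulAut.conjNormal y : MulAut P)).map P.subtype
        ≤ (Subgroup.closure ({x : ↥P | ∃ u : ↥P, x = u ^ p} ∪
            {x : ↥P | ∃ u v : ↥P, x = u * v * u⁻¹ * v⁻¹})).map P.subtype := Subgroup.map_mono hF.gen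
      _ = Subgroup.closure (P.subtype '' ({x : ↥P | ∃ u : ↥P, x = u ^ p} ∪
            {x : ↥P | ∃ u v : ↥P, x = u * v * u⁻¹ * v⁻¹})) := MonoidHom.map_closure _ _
      _ ≤ _ := Subgroup.closure_mono (by
          rintro _ ⟨x, hx, rfl⟩
          rcases hx with ⟨u, rfl⟩ | ⟨u, v, rfl⟩
          · left
            exact ⟨u, u.2, by simp⟩
          · right
            exact ⟨u, u.2, v, v.2, by simp⟩)
  · intro D hCD hDP hinv
    by_cases hDeq : D = P
    · exact Or.inr hDeq
    · left
      refine le_antisymm (fun d hd => ?_) hCD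
      refine ⟨⟨d, hDP hd⟩, ?_, rfl⟩
      show (MulAut.conjNormal y : MulAut P) ⟨d, hDP hd⟩ = ⟨d, hDP hd⟩
      apply Subtype.ext
      rw [hφ]
      exact hmin D hDP hDeq hinv d hd
  · intro D hDP hDC
    have hC' : ((fixSub (MulAut.conjNormal y : MulAut P)).map P.subtype).subgroupOf P =
        fixSub (MulAut.conjNormal y : MulAut P) :=
      Subgroup.comap_map_eq_self_of_injective P.subtype_injective _
    have h1 : (D.subgroupOf P) ⊔ fixSub (MulAut.conjNormal y : MulAut P) = ⊤ := by
      rw [← hC', ← Subgroup.subgroupOf_sup hDP (Subgroup.map_subtype_le _), hDC,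
        Subgroup.subgroupOf_self]
    have h2 := hF.nongen _ h1
    exact le_antisymm hDP (Subgroup.subgroupOf_eq_top.mp h2)

end Ambient

end Cfsg.Agent.Lib.Lead.Sch
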