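import Mathlib
import Cfsg.Agent.Lib.Helper4.SchStrB

/-!
# S4395, FIBB helper: a minimal `m`-invariant `p`-subgroup `D` gives a Schmidt datum on `D ⊔ ⟨m⟩`.
-/

set_option autoImplicit false
universe u

namespace Cfsg.Agent.Lib.Lead.Sch

open Cfsg.Agent.Lib.Helper9.Schm

/-- **FB1**: `strb` applied to the type `↥(D ⊔ zpowers m)`. -/
theorem fib_min_sd {Γ : Type u} [Group Γ] [Finite Γ] (p q : ℕ) [Fact p.Prime] [Fact q.Prime]
    (hpq : p ≠ q)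
    (D : Subgroup Γ) (m : Γ) (r : ℕ) (hm : orderOf m = q ^ r) (hDp : IsPGroup p D)
    (hmD : ∀ d ∈ D, m * d * m⁻¹ ∈ D) (hmq : m ^ q ∈ Subgroup.center Γ)
    (hmin : ∀ E : Subgroup Γ, E ≤ D → E ≠ D → (∀ e ∈ E, m * e * m⁻¹ ∈ E) →
      ∀ e ∈ E, m * e * m⁻¹ = e)
    (hmoved : ∃ d ∈ D, m * d * m⁻¹ ≠ d) :
    ∃ sd : SD p q ↥(D ⊔ Subgroup.zpowers m), Nat.card sd.P = Nat.card D ∧ orderOf sd.y = q ^ r := by
  have hDM : D ≤ D ⊔ Subgroup.zpowers m := le_sup_left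
  have hmM : m ∈ D ⊔ Subgroup.zpowers m :=
    (le_sup_right : Subgroup.zpowers m ≤ _) (Subgroup.mem_zpowers m)
  have hN : D ⊔ Subgroup.zpowers m ≤ Subgroup.normalizer (D : Set Γ) := by
    apply sup_le Subgroup.le_normalizer
    rw [Subgroup.zpowers_le]
    exact mem_normalizer_of_conj_mem D m hmD
  have hPn : (D.subgroupOf (D ⊔ Subgroup.zpowers m)).Normal := by
    refine ⟨fun n hn g => ?_⟩
    rw [Subgroup.mem_subgroupOf] at hn ⊢
    have := (Subgroup.mem_normalizer_iff.mp (hN g.2) (n : Γ)).mp hn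
    simpa using this
  have hPp : IsPGroup p (D.subgroupOf (D ⊔ Subgroup.zpowers m)) := hDp.comap_subtype
  have hy : orderOf (⟨m, hmM⟩ : ↥(D ⊔ Subgroup.zpowers m)) = q ^ r := by
    rw [← Subgroup.orderOf_coe]
    exact hm
  have hmapP : (D.subgroupOf (D ⊔ Subgroup.zpowers m)).map (D ⊔ Subgroup.zpowers m).subtype = D := by
    rw [Subgroup.subgroupOf_map_subtype]
    exact inf_eq_left.mpr hDM
  have hgen : D.subgroupOf (D ⊔ Subgroup.zpowers m) ⊔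
      Subgroup.zpowers (⟨m, hmM⟩ : ↥(D ⊔ Subgroup.zpowers m)) = ⊤ := by
    apply Subgroup.map_injective (D ⊔ Subgroup.zpowers m).subtype_injective
    rw [Subgroup.map_sup, hmapP, MonoidHom.map_zpowers, ← MonoidHom.range_eq_map,
      Subgroup.range_subtype]
    rfl
  have hyq : (⟨m, hmM⟩ : ↥(D ⊔ Subgroup.zpowers m)) ^ q ∈
      Subgroup.center ↥(D ⊔ Subgroup.zpowers m) := by
    rw [Subgroup.mem_center_iff]
    intro g
    apply Subtype.ext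
    have := Subgroup.mem_center_iff.mp hmq (g : Γ)
    simpa using this
  have hmin' : ∀ E : Subgroup ↥(D ⊔ Subgroup.zpowers m),
      E ≤ D.subgroupOf (D ⊔ Subgroup.zpowers m) → E ≠ D.subgroupOf (D ⊔ Subgroup.zpowers m) →
      (∀ e ∈ E, (⟨m, hmM⟩ : ↥(D ⊔ Subgroup.zpowers m)) * e * (⟨m, hmM⟩ : ↥(D ⊔ Subgroup.zpowers m))⁻¹ ∈ E) →
      ∀ e ∈ E, (⟨m, hmM⟩ : ↥(D ⊔ Subgroup.zpowers m)) * e * (⟨m, hmM⟩ : ↥(D ⊔ Subgroup.zpowers m))⁻¹ = e := by
    intro E hEP hEne hinv e he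
    have h1 : E.map (D ⊔ Subgroup.zpowers m).subtype ≤ D := by
      rintro _ ⟨e', he', rfl⟩
      exact Subgroup.mem_subgroupOf.mp (hEP he')
    have h2 : E.map (D ⊔ Subgroup.zpowers m).subtype ≠ D := by
      intro heq
      apply hEne
      apply Subgroup.map_injective (D ⊔ Subgroup.zpowers m).subtype_injective
      rw [heq, hmapP]
    have h3 : ∀ e ∈ E.map (D ⊔ Subgroup.zpowers m).subtype,
        m * e * m⁻¹ ∈ E.map (D ⊔ Subgroup.zpowers m).subtype := by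
      rintro _ ⟨e', he', rfl⟩
      exact ⟨_, hinv e' he', rfl⟩
    have h4 := hmin _ h1 h2 h3 (e : Γ) ⟨e, he, rfl⟩
    apply Subtype.ext
    simpa using h4
  have hmoved' : ∃ u ∈ D.subgroupOf (D ⊔ Subgroup.zpowers m),
      (⟨m, hmM⟩ : ↥(D ⊔ Subgroup.zpowers m)) * u * (⟨m, hmM⟩ : ↥(D ⊔ Subgroup.zpowers m))⁻¹ ≠ u := by
    obtain ⟨d, hd, hne⟩ := hmoved
    refine ⟨⟨d, hDM hd⟩, Subgroup.mem_subgroupOf.mpr hd, fun heq => hne ?_⟩
    have := congrArg Subtype.val heq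
    simpa using this
  obtain ⟨sd, hP, hy'⟩ := strb p q hpq _ _ hPn hPp r hy hgen hyq hmin' hmoved'
  refine ⟨sd, ?_, ?_⟩
  · rw [hP]
    exact Nat.card_congr (Subgroup.subgroupOfEquivOfLe hDM).toEquiv
  · rw [hy', hy]

end Cfsg.Agent.Lib.Lead.Sch
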