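import Mathlib
import Cfsg.Agent.Lib.Lead.SchDefs
import Cfsg.Agent.Lib.Lead.MinNonPNilp
import Cfsg.Agent.Lib.Helper9.SchmPA
import Cfsg.Agent.Lib.Helper5.NilSym2

/-!
# S4395, package STRA: a minimal non-`p`-nilpotent group of order `p^t q^r` is `P ⋊ ⟨y⟩` with
the minimal action property.
-/

set_option autoImplicit false
universe u

namespace Cfsg.Agent.Lib.Lead.Sch

open Cfsg.Agent.Lib.Helper9.Schm Cfsg.Agent.Lib.Helper2.Schmidt Cfsg.Agent.Lib.Lead

variable {X : Type u} [Group X] [Finite X]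

/-- In a group all of whose proper subgroups are nilpotent: a `q`-element `z` normalizing a
`p`-subgroup `D` centralizes it, as soon as `D ⊔ ⟨z⟩` is proper (by counting). -/
theorem stra_comm (p q : ℕ) [hp : Fact p.Prime] [hq : Fact q.Prime] (hpq : p ≠ q)
    (hnil : ∀ H : Subgroup X, H ≠ ⊤ → Group.IsNilpotent H)
    (D : Subgroup X) (hDp : IsPGroup p D) (z : X) (k : ℕ) (hz : orderOf z = q ^ k)
    (hnorm : ∀ d ∈ D, z * d * z⁻¹ ∈ D)
    (hlt : Nat.card D * q ^ k < Nat.card X) : ∀ d ∈ D, z * d * z⁻¹ = d := by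
  have hzn : Subgroup.zpowers z ≤ Subgroup.normalizer (D : Set X) := by
    rw [Subgroup.zpowers_le]
    exact mem_normalizer_of_conj_mem D z hnorm
  have hdvd := card_sup_dvd_mul (Subgroup.zpowers z) D hzn
  have hne : Subgroup.zpowers z ⊔ D ≠ ⊤ := by
    intro htop
    rw [htop, Subgroup.card_top, Nat.card_zpowers, hz] at hdvd
    have h1 := Nat.le_of_dvd (Nat.mul_pos (pow_pos hq.out.pos k) Nat.card_pos) hdvd
    rw [mul_comm] at h1
    omega
  have hN := hnil _ hne
  intro d hd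
  have hdH : d ∈ Subgroup.zpowers z ⊔ D := (le_sup_right : D ≤ _) hd
  have hzH : z ∈ Subgroup.zpowers z ⊔ D :=
    (le_sup_left : Subgroup.zpowers z ≤ _) (Subgroup.mem_zpowers z)
  have hod : ∃ j : ℕ, orderOf d = p ^ j := by
    obtain ⟨j, hj⟩ := hDp ⟨d, hd⟩
    have h1 : d ^ p ^ j = 1 := by
      have := congrArg Subtype.val hj
      simpa using this
    exact (Nat.dvd_prime_pow hp.out).mp (orderOf_dvd_of_pow_eq_one h1) |>.imp fun _ h => h.2
  obtain ⟨j, hj⟩ := hod
  have hcop : (orderOf (⟨z, hzH⟩ : ↥(Subgroup.zpowers z ⊔ D))).Coprime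
      (orderOf (⟨d, hdH⟩ : ↥(Subgroup.zpowers z ⊔ D))) := by
    rw [← Subgroup.orderOf_coe, ← Subgroup.orderOf_coe]
    show (orderOf z).Coprime (orderOf d)
    rw [hz, hj]
    exact Nat.Coprime.pow _ _ ((Nat.coprime_primes hq.out hp.out).mpr hpq.symm)
  have hc := Cfsg.Agent.Lib.Helper5.NilSym.commute_of_coprime _ (⟨z, hzH⟩ : ↥(Subgroup.zpowers z ⊔ D))
    ⟨d, hdH⟩ (isOfFinOrder_of_finite _) (isOfFinOrder_of_finite _) hcop
  have hc' : z * d = d * z := congrArg Subtype.val hc.eq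
  rw [hc', mul_inv_cancel_right]

/-- **STRA** -/
theorem stra (p q : ℕ) [hp : Fact p.Prime] [hq : Fact q.Prime] (hpq : p ≠ q)
    (t r : ℕ) (hr : 1 ≤ r) (hX : MinNonPNilp p X) (hcard : Nat.card X = p ^ t * q ^ r) :
    ∃ (P : Subgroup X) (y : X), P.Normal ∧ IsPGroup p P ∧ Nat.card P = p ^ t ∧ orderOf y = q ^ r ∧
      P ⊔ Subgroup.zpowers y = ⊤ ∧ y ^ q ∈ Subgroup.center X ∧
      (∀ D : Subgroup X, D ≤ P → D ≠ P → (∀ d ∈ D, y * d * y⁻¹ ∈ D) → ∀ d ∈ D, y * d * y⁻¹ = d) ∧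
      (∃ u ∈ P, y * u * y⁻¹ ≠ u) := by
  obtain ⟨hnil, hnn, hsyl⟩ := minimal_non_pnilpotent hX.1 hX.2
  have hMN : Cfsg.IsMinimalNonNilpotent X := ⟨hnn, hnil⟩
  obtain ⟨p₀, q₀, hp₀, hq₀, hne, P₀, Q₀, hcyc, hQ₀n, hsup, hP₀n⟩ := schmidt_structure hMN
  have instp₀ : Fact p₀.Prime := ⟨hp₀⟩
  have instq₀ : Fact q₀.Prime := ⟨hq₀⟩
  have hcopPQ : (Nat.card (P₀ : Subgroup X)).Coprime (Nat.card (Q₀ : Subgroup X)) := by
    obtain ⟨a, ha⟩ := IsPGroup.iff_card.mp P₀.isPGroup'
    obtain ⟨b, hb⟩ := IsPGroup.iff_card.mp Q₀.isPGroup'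
    rw [ha, hb]
    exact Nat.Coprime.pow _ _ ((Nat.coprime_primes hp₀ hq₀).mpr hne)
  have hcardX := card_eq_mul_of_sup_eq_top (P₀ : Subgroup X) (Q₀ : Subgroup X) hcopPQ hsup
  -- a prime dividing `|X|` is `p` or `q`
  have hprime : ∀ ℓ : ℕ, ℓ.Prime → ℓ ∣ Nat.card X → ℓ = p ∨ ℓ = q := by
    intro ℓ hℓ hd
    rw [hcard] at hd
    rcases (Nat.Prime.dvd_mul hℓ).mp hd with h | h
    · left
      exact (Nat.prime_dvd_prime_iff_eq hℓ hp.out).mp (hℓ.dvd_of_dvd_pow h)
    · right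
      exact (Nat.prime_dvd_prime_iff_eq hℓ hq.out).mp (hℓ.dvd_of_dvd_pow h)
  -- `P₀ ≠ ⊥`, `Q₀ ≠ ⊥`
  have hP₀bot : (P₀ : Subgroup X) ≠ ⊥ := by
    intro hbot
    apply hP₀n
    rw [hbot]
    infer_instance
  have hQ₀bot : (Q₀ : Subgroup X) ≠ ⊥ := by
    intro hbot
    apply hP₀n
    rw [hbot, sup_bot_eq] at hsup
    rw [hsup]
    infer_instance
  have hdvd_of_ne_bot : ∀ (ℓ : ℕ) [Fact ℓ.Prime] (S : Sylow ℓ X), (S : Subgroup X) ≠ ⊥ →
      ℓ ∣ Nat.card X := by
    intro ℓ _ S hS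
    obtain ⟨k, hk⟩ := IsPGroup.iff_card.mp S.isPGroup'
    have hk0 : k ≠ 0 := by
      intro h0
      rw [h0, pow_zero] at hk
      exact hS (Subgroup.card_eq_one.mp hk)
    have : ℓ ∣ Nat.card (S : Subgroup X) := by
      rw [hk]
      exact dvd_pow_self ℓ hk0
    exact this.trans (Subgroup.card_subgroup_dvd_card _)
  have hp₀q : p₀ = q := by
    rcases hprime p₀ hp₀ (hdvd_of_ne_bot p₀ P₀ hP₀bot) with h | h
    · exfalso
      subst h
      exact hP₀n (hsyl P₀)
    · exact h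
  subst hp₀q
  have hq₀p : q₀ = p := by
    rcases hprime q₀ hq₀ (hdvd_of_ne_bot q₀ Q₀ hQ₀bot) with h | h
    · exact h
    · exact absurd h.symm hne
  subst hq₀p
  -- orders of the Sylow subgroups
  have hfp : (Nat.card X).factorization q₀ = t := by
    rw [hcard, Nat.factorization_mul (pow_ne_zero _ hq₀.ne_zero) (pow_ne_zero _ hp₀.ne_zero)]
    simp [Nat.factorization_pow, hq₀.factorization, hp₀.factorization, hne]
  have hfq : (Nat.card X).factorization p₀ = r := by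
    rw [hcard, Nat.factorization_mul (pow_ne_zero _ hq₀.ne_zero) (pow_ne_zero _ hp₀.ne_zero)]
    simp [Nat.factorization_pow, hq₀.factorization, hp₀.factorization, hne.symm]
  have hcP : Nat.card (Q₀ : Subgroup X) = q₀ ^ t := by
    rw [Sylow.card_eq_multiplicity, hfp]
  have hcQ : Nat.card (P₀ : Subgroup X) = p₀ ^ r := by
    rw [Sylow.card_eq_multiplicity, hfq]
  -- the generator
  obtain ⟨g, hg⟩ := hcyc.exists_generator
  have hzp : Subgroup.zpowers (g : X) = (P₀ : Subgroup X) := by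
    apply le_antisymm
    · rw [Subgroup.zpowers_le]
      exact g.2
    · intro x hx
      obtain ⟨k, hk⟩ := Subgroup.mem_zpowers_iff.mp (hg ⟨x, hx⟩)
      refine Subgroup.mem_zpowers_iff.mpr ⟨k, ?_⟩
      have := congrArg Subtype.val hk
      simpa using this
  have hog : orderOf (g : X) = p₀ ^ r := by
    rw [← Nat.card_zpowers, hzp, hcQ]
  have hgen : (Q₀ : Subgroup X) ⊔ Subgroup.zpowers (g : X) = ⊤ := by
    rw [hzp, sup_comm]
    exact hsup
  have hcardX' : Nat.card X = Nat.card (Q₀ : Subgroup X) * p₀ ^ r := by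
    rw [hcard, hcP]
  have hPpos : 0 < Nat.card (Q₀ : Subgroup X) := Nat.card_pos
  -- `y ^ q` centralizes `P`
  have hogq : orderOf ((g : X) ^ p₀) = p₀ ^ (r - 1) := by
    have hdv : p₀ ∣ orderOf (g : X) := by
      rw [hog]
      exact dvd_pow_self p₀ (by omega)
    rw [orderOf_pow_of_dvd hp₀.ne_zero hdv, hog]
    have : r = (r - 1) + 1 := by omega
    conv_lhs => rw [this, pow_succ]
    exact Nat.mul_div_cancel _ hp₀.pos
  have hyqP : ∀ u ∈ (Q₀ : Subgroup X), (g : X) ^ p₀ * u * ((g : X) ^ p₀)⁻¹ = u := by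
    apply stra_comm q₀ p₀ hne.symm hnil (Q₀ : Subgroup X) Q₀.isPGroup' ((g : X) ^ p₀) (r - 1) hogq
    · intro d hd
      exact hQ₀n.conj_mem d hd _
    · rw [hcardX']
      apply Nat.mul_lt_mul_of_pos_left _ hPpos
      exact Nat.pow_lt_pow_right hp₀.one_lt (by omega)
  have hyq : (g : X) ^ p₀ ∈ Subgroup.center X := by
    have hle : (Q₀ : Subgroup X) ⊔ Subgroup.zpowers (g : X) ≤
        Subgroup.centralizer {(g : X) ^ p₀} := by
      rw [sup_le_iff]
      constructor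
      · intro u hu
        rw [Subgroup.mem_centralizer_singleton_iff]
        have h1 := hyqP u hu
        calc u * (g : X) ^ p₀ = ((g : X) ^ p₀ * u * ((g : X) ^ p₀)⁻¹) * (g : X) ^ p₀ := by rw [h1]
          _ = (g : X) ^ p₀ * u := by group
      · rw [Subgroup.zpowers_le, Subgroup.mem_centralizer_singleton_iff]
        rw [← pow_succ, ← pow_succ']
    rw [hgen] at hle
    rw [Subgroup.mem_center_iff]
    intro x
    have h1 := hle (Subgroup.mem_top x)
    rwa [Subgroup.mem_centralizer_singleton_iff] at h1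
  refine ⟨(Q₀ : Subgroup X), (g : X), hQ₀n, Q₀.isPGroup', hcP, hog, hgen, hyq, ?_, ?_⟩
  · intro D hDP hDne hinv
    apply stra_comm q₀ p₀ hne.symm hnil D (Q₀.isPGroup'.to_le hDP) (g : X) r hog hinv
    rw [hcardX']
    apply Nat.mul_lt_mul_of_pos_right _ (pow_pos hp₀.pos r)
    by_contra hge
    push Not at hge
    exact hDne (Subgroup.eq_of_le_of_card_ge hDP hge)
  · by_contra hall
    push Not at hall
    apply hP₀n
    rw [← hzp]
    have hgc : (g : X) ∈ Subgroup.center X := by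
      have hle : (Q₀ : Subgroup X) ⊔ Subgroup.zpowers (g : X) ≤
          Subgroup.centralizer {(g : X)} := by
        rw [sup_le_iff]
        constructor
        · intro u hu
          rw [Subgroup.mem_centralizer_singleton_iff]
          have h1 := hall u hu
          calc u * (g : X) = ((g : X) * u * (g : X)⁻¹) * (g : X) := by rw [h1]
            _ = (g : X) * u := by group
        · rw [Subgroup.zpowers_le, Subgroup.mem_centralizer_singleton_iff]
      rw [hgen] at hle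
      rw [Subgroup.mem_center_iff]
      intro x
      have h1 := hle (Subgroup.mem_top x)
      rwa [Subgroup.mem_centralizer_singleton_iff] at h1
    refine ⟨fun n hn x => ?_⟩
    have hn' : n ∈ Subgroup.center X := by
      have : Subgroup.zpowers (g : X) ≤ Subgroup.center X := by
        rw [Subgroup.zpowers_le]
        exact hgc
      exact this hn
    have h1 := Subgroup.mem_center_iff.mp hn' x
    rw [h1, mul_inv_cancel_right]
    exact hn

end Cfsg.Agent.Lib.Lead.Sch
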