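import Mathlib
import Cfsg.Agent.Lib.Helper4.SchStrA
import Cfsg.Agent.Lib.Helper4.SchStrB

/-!
# S4395: `struct` = STRA + STRB
-/

set_option autoImplicit false
universe u

namespace Cfsg.Agent.Lib.Lead.Sch

/-- **STRUCT** (exact stub signature) -/
theorem struct {X : Type u} [Group X] [Finite X] (p q : ℕ) [Fact p.Prime] [Fact q.Prime] (hpq : p ≠ q)
    (t r : ℕ) (hr : 1 ≤ r) (hX : MinNonPNilp p X) (hcard : Nat.card X = p ^ t * q ^ r) :
    ∃ sd : SD p q X, orderOf sd.y = q ^ r ∧ Nat.card sd.P = p ^ t := by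
  obtain ⟨P, y, hPn, hPp, hcP, hy, hgen, hyq, hmin, hmoved⟩ := stra p q hpq t r hr hX hcard
  obtain ⟨sd, hP, hy'⟩ := strb p q hpq P y hPn hPp r hy hgen hyq hmin hmoved
  exact ⟨sd, by rw [hy', hy], by rw [hP, hcP]⟩

end Cfsg.Agent.Lib.Lead.Sch
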