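import Mathlib
import Cfsg.Agent.Lib.Helper5.SchmC2d

/-!
# S4394, piece L11: the final counting (`ctx_final`)
-/

set_option autoImplicit false
set_option linter.unusedSectionVars false

namespace Cfsg.Agent.Lib.Helper4.Schm

open Cfsg.Agent.Lib.Helper5.Schm

universe u

/-- strict inclusion of finite subgroups gives strict inequality of orders -/
theorem l11_card_lt {G : Type u} [Group G] [Finite G] {H K : Subgroup G} (hle : H ≤ K)
    {x : G} (hxK : x ∈ K) (hxH : x ∉ H) : Nat.card H < Nat.card K := by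
  have h1 : Nat.card H ≤ Nat.card K := Subgroup.card_le_of_le hle
  rcases Nat.lt_or_ge (Nat.card H) (Nat.card K) with h | h
  · exact h
  · exfalso
    have := Subgroup.eq_of_le_of_card_ge hle h
    rw [this] at hxH
    exact hxH hxK

/-- a power of `p` strictly between `p ^ a` and at most `p ^ (a + 1)` is `p ^ (a + 1)` -/
theorem l11_pow_eq {p : ℕ} (hp : p.Prime) {a k : ℕ} (h1 : p ^ a < p ^ k) (h2 : p ^ k ≤ p ^ (a + 1)) :
    k = a + 1 := by
  have h3 : a < k := (Nat.pow_lt_pow_iff_right hp.one_lt).mp h1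
  have h4 : k ≤ a + 1 := (Nat.pow_le_pow_iff_right hp.one_lt).mp h2
  omega

theorem ctx_final {p : ℕ} [hp : Fact p.Prime] {G : Type u} [Group G] [Finite G]
    {S R M : Subgroup G} {r : ℕ} {s : G}
    (c : Ctx p G S R M r s) (hp3 : p ≤ 3)
    (hH : ∀ h, h ∈ S → h ∈ Subgroup.centralizer (M : Set G) → h ∈ R)
    (hRab : ∀ a, a ∈ R → ∀ b, b ∈ R → a * b = b * a)
    (k0 : G) (hk0p : k0 ^ p = 1) (hZ : ∀ z, z ∈ ZS S → ∃ i : ℕ, z = k0 ^ i)
    (w : G) (hwR : w ∈ R) (hwZ : w ∉ ZS S) (hwp : w ^ p = 1) : False := by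
  classical
  have hpp : p.Prime := hp.out
  have hZS_S : ZS S ≤ S := inf_le_right
  -- (i) every element of `S` is `ρ * s ^ i` with `ρ ∈ R`
  have hi : ∀ x ∈ S, ∃ ρ ∈ R, ∃ i : ℕ, x = ρ * s ^ i := by
    intro x hx
    obtain ⟨ρ, hρ, h, hh, i, hxe⟩ := c.decomp x hx
    obtain ⟨hhS, hhC⟩ := Subgroup.mem_inf.mp hh
    exact ⟨ρ * h, R.mul_mem hρ (hH h hhS hhC), i, hxe⟩
  -- (ii) elements of `R` commuting with `s` are central in `S`
  have hii : ∀ x ∈ R, x * s = s * x → x ∈ ZS S := by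
    intro x hx hxs
    rw [mem_ZS]
    refine ⟨?_, c.RS hx⟩
    intro y hy
    obtain ⟨ρ, hρ, i, rfl⟩ := hi y hy
    have h1 : Commute x s := hxs
    have h2 : Commute x ρ := hRab x hx ρ hρ
    exact ((h2.mul_right (h1.pow_right i)).eq).symm
  -- central elements commute with everything in `S`
  have hcen : ∀ z ∈ ZS S, ∀ y ∈ S, z * y = y * z := by
    intro z hz y hy
    exact ((mem_ZS.mp hz).1 y hy).symm
  -- `|Z(S)| ≤ p`
  have hZcard : Nat.card (ZS S) ≤ p := by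
    choose f hf using fun z : ZS S => hZ z.1 z.2
    have hinj : Function.Injective
        (fun z : ZS S => (⟨f z % p, Nat.mod_lt _ hpp.pos⟩ : Fin p)) := by
      intro a b hab
      have h1 : f a % p = f b % p := congrArg Fin.val hab
      apply Subtype.ext
      rw [hf a, hf b, pow_eq_pow_mod (f a) hk0p, pow_eq_pow_mod (f b) hk0p, h1]
    have := Nat.card_le_card_of_injective _ hinj
    rwa [Nat.card_fin] at this
  -- the commutator homomorphism `R → Z(S)`
  let φ : ↥R →* ↥(ZS S) :=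
    { toFun := fun x => ⟨(x : G) * s * (x : G)⁻¹ * s⁻¹, c.cm_mem_ZS (c.RS x.2) c.sS⟩
      map_one' := by
        apply Subtype.ext
        show (1 : G) * s * (1 : G)⁻¹ * s⁻¹ = 1
        group
      map_mul' := by
        intro a b
        apply Subtype.ext
        show ((a : G) * (b : G)) * s * ((a : G) * (b : G))⁻¹ * s⁻¹
          = ((a : G) * s * (a : G)⁻¹ * s⁻¹) * ((b : G) * s * (b : G)⁻¹ * s⁻¹)
        have hb : (b : G) * s * (b : G)⁻¹ * s⁻¹ ∈ ZS S := c.cm_mem_ZS (c.RS b.2) c.sS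
        have ha : (a : G) * s * (a : G)⁻¹ * s⁻¹ ∈ ZS S := c.cm_mem_ZS (c.RS a.2) c.sS
        rw [cm_mul_left (a : G) (b : G) s (hcen _ hb _ (c.RS a.2))]
        exact (hcen _ hb _ (hZS_S ha)) }
  have hker : Nat.card φ.ker ≤ Nat.card (ZS S) := by
    have hmem : ∀ x : φ.ker, ((x : ↥R) : G) ∈ ZS S := by
      intro x
      have h1 : φ (x : ↥R) = 1 := x.2
      have h2 : ((x : ↥R) : G) * s * ((x : ↥R) : G)⁻¹ * s⁻¹ = 1 := congrArg Subtype.val h1
      apply hii _ (x : ↥R).2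
      calc ((x : ↥R) : G) * s = (((x : ↥R) : G) * s * ((x : ↥R) : G)⁻¹ * s⁻¹) * (s * ((x : ↥R) : G)) := by
            group
        _ = s * ((x : ↥R) : G) := by rw [h2, one_mul]
    apply Nat.card_le_card_of_injective (fun x : φ.ker => (⟨((x : ↥R) : G), hmem x⟩ : ↥(ZS S)))
    intro a b hab
    have h1 : ((a : ↥R) : G) = ((b : ↥R) : G) := by
      have := congrArg (fun t : ↥(ZS S) => (t : G)) hab
      exact this
    exact Subtype.ext (Subtype.ext h1)
  have hRle : Nat.card R ≤ p * p := by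
    have h1 := Subgroup.card_mul_index φ.ker
    rw [Subgroup.index_ker] at h1
    have h2 : Nat.card φ.range ≤ Nat.card (ZS S) := Subgroup.card_le_card_group _
    calc Nat.card R = Nat.card φ.ker * Nat.card φ.range := h1.symm
      _ ≤ p * p := Nat.mul_le_mul (hker.trans hZcard) (h2.trans hZcard)
  -- (iv)
  have hws : w * s * w⁻¹ * s⁻¹ ≠ 1 := by
    intro h
    apply hwZ
    apply hii w hwR
    calc w * s = (w * s * w⁻¹ * s⁻¹) * (s * w) := by group
      _ = s * w := by rw [h, one_mul]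
  have hwsZ : w * s * w⁻¹ * s⁻¹ ∈ ZS S := c.cm_mem_ZS (c.RS hwR) c.sS
  have hZp : IsPGroup p (ZS S) := c.Sp.to_le hZS_S
  have hZcard_eq : Nat.card (ZS S) = p := by
    obtain ⟨k, hk⟩ := IsPGroup.iff_card.mp hZp
    have h1 : 1 < Nat.card (ZS S) := by
      have := l11_card_lt (bot_le : (⊥ : Subgroup G) ≤ ZS S) hwsZ
        (by rw [Subgroup.mem_bot]; exact hws)
      rwa [Subgroup.card_bot] at this
    rw [hk] at h1 hZcard ⊢
    have h2 : p ^ 0 < p ^ k := by rwa [pow_zero]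
    have h3 : p ^ k ≤ p ^ (0 + 1) := by rwa [zero_add, pow_one]
    rw [l11_pow_eq hpp h2 h3, zero_add, pow_one]
  have hRcard : Nat.card R = p ^ 2 := by
    obtain ⟨k, hk⟩ := IsPGroup.iff_card.mp c.Rp
    have h1 : Nat.card (ZS S) < Nat.card R := l11_card_lt c.ZS_le_R hwR hwZ
    rw [hZcard_eq, hk] at h1
    rw [hk] at hRle ⊢
    have h2 : p ^ 1 < p ^ k := by rwa [pow_one]
    have h3 : p ^ k ≤ p ^ (1 + 1) := by rwa [pow_succ, pow_one]
    rw [l11_pow_eq hpp h2 h3]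
  -- (v)
  have hsR : s ∉ R := by
    intro hs
    apply hwZ
    rw [mem_ZS]
    refine ⟨?_, c.RS hwR⟩
    intro y hy
    obtain ⟨ρ, hρ, i, rfl⟩ := hi y hy
    exact hRab _ (R.mul_mem hρ (R.pow_mem hs i)) w hwR
  have hScard : Nat.card S = p ^ 3 := by
    obtain ⟨k, hk⟩ := IsPGroup.iff_card.mp c.Sp
    have h1 : Nat.card R < Nat.card S := l11_card_lt c.RS c.sS hsR
    have h2 : Nat.card S ≤ Nat.card R * p := by
      have hsurj : Function.Surjective
          (fun x : ↥R × Fin p => (⟨(x.1 : G) * s ^ (x.2 : ℕ),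
            S.mul_mem (c.RS x.1.2) (S.pow_mem c.sS _)⟩ : ↥S)) := by
        intro y
        obtain ⟨ρ, hρ, i, hy⟩ := hi y.1 y.2
        refine ⟨⟨⟨ρ * (s ^ p) ^ (i / p), R.mul_mem hρ (R.pow_mem c.sp_mem_R _)⟩,
          ⟨i % p, Nat.mod_lt _ hpp.pos⟩⟩, ?_⟩
        apply Subtype.ext
        show ρ * (s ^ p) ^ (i / p) * s ^ (i % p) = (y : G)
        rw [hy, mul_assoc, ← pow_mul, ← pow_add, Nat.div_add_mod]
      have := Nat.card_le_card_of_surjective _ hsurj
      rwa [Nat.card_prod, Nat.card_fin] at this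
    rw [hRcard, hk] at h1
    rw [hRcard, hk] at h2
    rw [hk]
    have h3 : p ^ k ≤ p ^ (2 + 1) := by rwa [pow_succ]
    rw [l11_pow_eq hpp h1 h3]
  -- (vi) `R` has exponent `p`
  let Ω : Subgroup G :=
    { carrier := {y | y ∈ R ∧ y ^ p = 1}
      one_mem' := ⟨R.one_mem, one_pow p⟩
      mul_mem' := by
        rintro a b ⟨ha, hap⟩ ⟨hb, hbp⟩
        refine ⟨R.mul_mem ha hb, ?_⟩
        have hc : Commute a b := hRab a ha b hb
        rw [hc.mul_pow, hap, hbp, one_mul]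
      inv_mem' := by
        rintro a ⟨ha, hap⟩
        exact ⟨R.inv_mem ha, by rw [inv_pow, hap, inv_one]⟩ }
  have hΩR : Ω ≤ R := fun y hy => hy.1
  have hZΩ : ZS S ≤ Ω := by
    intro z hz
    refine ⟨c.ZS_le_R hz, ?_⟩
    obtain ⟨i, rfl⟩ := hZ z hz
    rw [← pow_mul, mul_comm, pow_mul, hk0p, one_pow]
  have hwΩ : w ∈ Ω := ⟨hwR, hwp⟩
  have hΩcard : Nat.card Ω = p ^ 2 := by
    have h1 : Nat.card (ZS S) < Nat.card Ω := l11_card_lt hZΩ hwΩ hwZ
    have h2 : Nat.card Ω ∣ p ^ 2 := by rw [← hRcard]; exact Subgroup.card_dvd_of_le hΩR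
    obtain ⟨k, hk2, hk⟩ := (Nat.dvd_prime_pow hpp).mp h2
    rw [hZcard_eq, hk] at h1
    rw [hk]
    have h3 : p ^ 1 < p ^ k := by rwa [pow_one]
    have h4 : p ^ k ≤ p ^ (1 + 1) := (Nat.pow_le_pow_iff_right hpp.one_lt).mpr hk2
    rw [l11_pow_eq hpp h3 h4]
  have hΩeq : Ω = R := Subgroup.eq_of_le_of_card_ge hΩR (by rw [hΩcard, hRcard])
  have hRexp : ∀ x ∈ R, x ^ p = 1 := by
    intro x hx
    have : x ∈ Ω := by rw [hΩeq]; exact hx
    exact this.2
  -- (vii)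
  exact c.se.small hp3 ⟨hScard, R, c.RS, hRcard, hRexp⟩

end Cfsg.Agent.Lib.Helper4.Schm
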