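import Mathlib
import Cfsg.Agent.Lib.Helper4.KTransfer
import Cfsg.Agent.Lib.Helper4.TransferSect1
import Cfsg.Agent.Lib.Helper4.Sect6

set_option autoImplicit false
open scoped commutatorElement

/-! A group with a self-normalizing Sylow `p`-subgroup, `p ≥ 5`, has a normal subgroup of index `p`. -/

namespace Cfsg.Agent.Lib.Helper4

open Cfsg

universe u

/-- a nontrivial self-normalizing Sylow `p`-subgroup, `p ≥ 5`, is not contained in the derived subgroup -/
theorem not_le_commutator_of_self_normalizing {p : ℕ} [hp : Fact p.Prime] (hp5 : 5 ≤ p) :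
    ∀ (n : ℕ) (G : Type u) [Group G] [Finite G], Nat.card G = n → ∀ S : Sylow p G,
      (S : Subgroup G) ≠ ⊥ → Subgroup.normalizer ((S : Subgroup G) : Set G) = S →
      ¬ (S : Subgroup G) ≤ commutator G := by
  intro n
  induction n using Nat.strong_induction_on with
  | _ n ih =>
  intro G _ _ hcard S hS1 hNS hSG
  have hW := isCharPFunctor_kInfLower.{u} p
  obtain ⟨K, hKdef⟩ : ∃ K, K = inducedFunctor kInfLower (S : Subgroup G) := ⟨_, rfl⟩
  have hcf := isConjugacyFunctor_inducedFunctor (X := G) hW
  have hKS : K ≤ (S : Subgroup G) := by rw [hKdef]; exact inducedFunctor_le _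
  have hKne : K ≠ ⊥ := by rw [hKdef]; exact (hcf S S.isPGroup').2.1 hS1
  have hSN : (S : Subgroup G) ≤ Subgroup.normalizer ((K : Subgroup G) : Set G) := by
    rw [hKdef]
    exact Subgroup.le_normalizer.trans (normalizer_le_normalizer_functor hcf S.isPGroup')
  have hct : (S : Subgroup G) ⊓ commutator G = (S : Subgroup G) ⊓
      ⁅Subgroup.normalizer ((K : Subgroup G) : Set G), Subgroup.normalizer ((K : Subgroup G) : Set G)⁆ := by
    have hct := kInfLower_ct (G := G) (p := p) hp5
    have h1 := ctWith_of_controls hcf hct (le_top : (S : Subgroup G) ≤ ⊤) S.isPGroup'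
      (by rw [Subgroup.relIndex_top_right]; exact S.not_dvd_index)
    unfold CTWith at h1
    rw [top_inf_eq] at h1
    rw [commutator_def, h1, hKdef]
  by_cases htop : Subgroup.normalizer ((K : Subgroup G) : Set G) = ⊤
  · haveI hKn : K.Normal := Subgroup.normalizer_eq_top_iff.mp htop
    by_cases hKS' : K = (S : Subgroup G)
    · -- `S` is normal, so `G = S`
      have hStop : (S : Subgroup G) = ⊤ := by
        rw [← hNS, ← hKS']; exact htop
      have hGp : IsPGroup p G := by
        have := S.isPGroup'
        rw [hStop] at this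
        exact IsPGroup.of_equiv this Subgroup.topEquiv
      haveI : Nontrivial G := by
        by_contra hnt
        rw [not_nontrivial_iff_subsingleton] at hnt
        exact hS1 (Subsingleton.elim _ _)
      haveI : Group.IsNilpotent G := hGp.isNilpotent
      have hlt : commutator G < ⊤ := Group.IsSolvable.commutator_lt_top_of_nontrivial G
      rw [hStop] at hSG
      exact hlt.ne (top_le_iff.mp hSG)
    · -- pass to `G ⧸ K`
      have hsurj : Function.Surjective (QuotientGroup.mk' K) := QuotientGroup.mk'_surjective K
      have hlt : Nat.card (G ⧸ K) < n := by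
        rw [← hcard]; exact card_quotient_lt_of_ne_bot hKne
      obtain ⟨S', hS'def⟩ : ∃ S' : Sylow p (G ⧸ K), S' = S.mapSurjective hsurj := ⟨_, rfl⟩
      have hS'coe : (S' : Subgroup (G ⧸ K)) = (S : Subgroup G).map (QuotientGroup.mk' K) := by
        rw [hS'def]; rfl
      have hcomap : (S' : Subgroup (G ⧸ K)).comap (QuotientGroup.mk' K) = S := by
        rw [hS'coe, Subgroup.comap_map_eq, QuotientGroup.ker_mk', sup_eq_left.mpr hKS]
      apply ih _ hlt (G ⧸ K) rfl S'
      · intro hbot
        apply hKS'
        apply le_antisymm hKS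
        rw [hS'coe, Subgroup.map_eq_bot_iff, QuotientGroup.ker_mk'] at hbot
        exact hbot
      · apply le_antisymm _ Subgroup.le_normalizer
        intro x hx
        obtain ⟨g, rfl⟩ := hsurj x
        have hg : g ∈ Subgroup.normalizer ((S : Subgroup G) : Set G) := by
          have h1 := Subgroup.le_normalizer_comap (QuotientGroup.mk' K) (H := (S' : Subgroup (G ⧸ K)))
          have h2 : g ∈ (Subgroup.normalizer ((S' : Subgroup (G ⧸ K)) : Set (G ⧸ K))).comap
              (QuotientGroup.mk' K) := hx
          have h3 := h1 h2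
          rw [hcomap] at h3
          exact h3
        rw [hNS] at hg
        rw [hS'coe]
        exact ⟨g, hg, rfl⟩
      · rw [hS'coe]
        have : commutator (G ⧸ K) = (commutator G).map (QuotientGroup.mk' K) := by
          rw [commutator_def, commutator_def, Subgroup.map_commutator,
            Subgroup.map_top_of_surjective _ hsurj]
        rw [this]
        exact Subgroup.map_mono hSG
  · -- the normalizer of `K` is proper
    obtain ⟨H, hHdef⟩ : ∃ H, H = Subgroup.normalizer ((K : Subgroup G) : Set G) := ⟨_, rfl⟩
    rw [← hHdef] at hSN hct htop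
    have hlt : Nat.card ↥H < n := by
      rw [← hcard]; exact card_subgroup_lt_of_ne_top htop
    have hcoe : ((S.subtype hSN : Sylow p ↥H) : Subgroup ↥H) = (S : Subgroup G).subgroupOf H :=
      Sylow.coe_subtype _ _
    apply ih _ hlt ↥H rfl (S.subtype hSN)
    · rw [hcoe]
      intro hbot
      apply hS1
      rw [Subgroup.subgroupOf_eq_bot, disjoint_iff, inf_eq_left.mpr hSN] at hbot
      exact hbot
    · apply le_antisymm _ Subgroup.le_normalizer
      rw [hcoe]
      intro x hx
      rw [Subgroup.mem_subgroupOf]
      rw [← hNS]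
      rw [Subgroup.mem_normalizer_iff] at hx ⊢
      intro y
      constructor
      · intro hy
        have := (hx ⟨y, hSN hy⟩).mp (by rw [Subgroup.mem_subgroupOf]; exact hy)
        rw [Subgroup.mem_subgroupOf] at this
        exact this
      · intro hy
        have hyH : y ∈ H := by
          have h1 : (x : G)⁻¹ * ((x : G) * y * (x : G)⁻¹) * (x : G) ∈ H :=
            H.mul_mem (H.mul_mem (H.inv_mem x.2) (hSN hy)) x.2
          have h2 : (x : G)⁻¹ * ((x : G) * y * (x : G)⁻¹) * (x : G) = y := by group
          rw [h2] at h1; exact h1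
        have := (hx ⟨y, hyH⟩).mpr (by rw [Subgroup.mem_subgroupOf]; exact hy)
        rw [Subgroup.mem_subgroupOf] at this
        exact this
    · rw [hcoe]
      have h1 : (S : Subgroup G) ≤ ⁅H, H⁆ := by
        have : (S : Subgroup G) ⊓ commutator G = S := inf_eq_left.mpr hSG
        rw [hct] at this
        rw [← this]; exact inf_le_right
      have h2 : ⁅H, H⁆ = (commutator ↥H).map H.subtype := by
        rw [commutator_def, Subgroup.map_commutator, ← MonoidHom.range_eq_map, Subgroup.range_subtype]
      rw [h2] at h1
      intro x hx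
      rw [Subgroup.mem_subgroupOf] at hx
      obtain ⟨y, hy, hyx⟩ := h1 hx
      have : y = x := Subtype.ext hyx
      rw [← this]; exact hy

/-- a group with a nontrivial self-normalizing Sylow `p`-subgroup, `p ≥ 5`, has a normal subgroup of index `p` -/
theorem exists_normal_index_p_of_self_normalizing {G : Type u} [Group G] [Finite G] {p : ℕ}
    [hp : Fact p.Prime] (hp5 : 5 ≤ p) (S : Sylow p G) (hS1 : (S : Subgroup G) ≠ ⊥)
    (hNS : Subgroup.normalizer ((S : Subgroup G) : Set G) = S) :
    ∃ N : Subgroup G, N.Normal ∧ N.index = p :=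
  exists_normal_index_p_of_not_le_commutator S
    (not_le_commutator_of_self_normalizing hp5 _ G rfl S hS1 hNS)

end Cfsg.Agent.Lib.Helper4
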