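import Mathlib
import Cfsg.Agent.S0277
import Cfsg.Agent.Lib.Helper5.PSUAut9
import Cfsg.Agent.Lib.Helper1.SLCard
import Cfsg.Agent.Lib.Helper4.SimU2

set_option autoImplicit false
set_option linter.unusedSectionVars false
set_option linter.style.haveILetI false

/-! The index of the unitary similarity subgroup in `SL_n(q)`, `q = Q^2`: a prime `r` not dividing
`Q` that divides the index divides one of the factors `Q^i + (-1)^i`, `2 ≤ i ≤ n`. -/

namespace Cfsg.Agent.Lib.Helper4.SimU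

open Module Polynomial Finset
open Cfsg.Agent.Lib.Helper5.PSLCoset

section numeric

/-- The factor of `|GU_n(Q)|`. -/
def Ufac (Q i : ℕ) : ℕ := if Even i then Q ^ (i + 1) + 1 else Q ^ (i + 1) - 1

/-- The complementary factor. -/
def Dfac (Q i : ℕ) : ℕ := if Even i then Q ^ (i + 1) - 1 else Q ^ (i + 1) + 1

theorem succ_mul_pred (a : ℕ) (ha : 1 ≤ a) : (a + 1) * (a - 1) = a ^ 2 - 1 := by
  obtain ⟨b, rfl⟩ : ∃ b, a = b + 1 := ⟨a - 1, by omega⟩
  rw [Nat.add_sub_cancel]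
  apply (Nat.sub_eq_of_eq_add _).symm
  ring

theorem Ufac_mul_Dfac (Q i : ℕ) (hQ : 1 ≤ Q) : Ufac Q i * Dfac Q i = (Q ^ 2) ^ (i + 1) - 1 := by
  have ha : 1 ≤ Q ^ (i + 1) := Nat.one_le_pow _ _ hQ
  have h2 : (Q ^ 2) ^ (i + 1) = (Q ^ (i + 1)) ^ 2 := by rw [← pow_mul, ← pow_mul, mul_comm]
  unfold Ufac Dfac
  split_ifs
  · rw [h2, succ_mul_pred _ ha]
  · rw [h2, mul_comm, succ_mul_pred _ ha]

theorem Ufac_pos (Q i : ℕ) (hQ : 2 ≤ Q) : 0 < Ufac Q i := by
  have ha : 2 ≤ Q ^ (i + 1) := by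
    calc 2 ≤ Q := hQ
      _ = Q ^ 1 := (pow_one Q).symm
      _ ≤ Q ^ (i + 1) := Nat.pow_le_pow_right (by omega) (by omega)
  unfold Ufac
  split_ifs <;> omega

theorem prod_GL (q n : ℕ) (_hq : 1 ≤ q) :
    ∏ i : Fin n, (q ^ n - q ^ (i : ℕ)) =
      q ^ (n * (n - 1) / 2) * ∏ j ∈ range n, (q ^ (j + 1) - 1) := by
  rw [Fin.prod_univ_eq_prod_range (fun i => q ^ n - q ^ i) n]
  have h1 : ∀ i ∈ range n, q ^ n - q ^ i = q ^ i * (q ^ (n - 1 - i + 1) - 1) := by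
    intro i hi
    have hi' : i < n := mem_range.mp hi
    have h2 : n - 1 - i + 1 = n - i := by omega
    rw [h2, Nat.mul_sub, mul_one, ← pow_add, Nat.add_sub_cancel' hi'.le]
  rw [prod_congr rfl h1, prod_mul_distrib, prod_pow_eq_pow_sum, sum_range_id,
    prod_range_reflect (fun j => q ^ (j + 1) - 1) n]

theorem index_formula (Q n I NU NS : ℕ) (hQ : 2 ≤ Q) (hn : 1 ≤ n)
    (h1 : I * NU = NS)
    (h2 : (Q ^ 2 - 1) * NS = ∏ i : Fin n, ((Q ^ 2) ^ n - (Q ^ 2) ^ (i : ℕ)))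
    (h3 : (Q + 1) * NU = Q ^ (n * (n - 1) / 2) * ∏ i ∈ range n, Ufac Q i) :
    I = Q ^ (n * (n - 1) / 2) * ∏ j ∈ range (n - 1), Dfac Q (j + 1) := by
  set e := n * (n - 1) / 2 with he
  have hQ1 : 1 ≤ Q := by omega
  have hq1 : 1 ≤ Q ^ 2 := Nat.one_le_pow _ _ hQ1
  rw [prod_GL (Q ^ 2) n hq1, ← he] at h2
  have hUD : ∏ j ∈ range n, ((Q ^ 2) ^ (j + 1) - 1) =
      (∏ j ∈ range n, Ufac Q j) * ∏ j ∈ range n, Dfac Q j := by
    rw [← prod_mul_distrib]
    apply prod_congr rfl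
    intro j _
    rw [Ufac_mul_Dfac Q j hQ1]
  have hD : ∏ j ∈ range n, Dfac Q j = (∏ j ∈ range (n - 1), Dfac Q (j + 1)) * (Q - 1) := by
    obtain ⟨m, rfl⟩ : ∃ m, n = m + 1 := ⟨n - 1, by omega⟩
    rw [prod_range_succ', Nat.add_sub_cancel]
    congr 1
    unfold Dfac
    rw [if_pos (by decide : Even 0), zero_add, pow_one]
  have hQQ : (Q + 1) * (Q - 1) = Q ^ 2 - 1 := succ_mul_pred Q hQ1
  set PU := ∏ j ∈ range n, Ufac Q j with hPU
  set PD := ∏ j ∈ range (n - 1), Dfac Q (j + 1) with hPD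
  have hPUpos : 0 < PU := prod_pos (fun j _ => Ufac_pos Q j hQ)
  have hpos : 0 < (Q ^ 2 - 1) * (Q ^ e * PU) := by
    apply Nat.mul_pos
    · have : 4 ≤ Q ^ 2 := by nlinarith
      omega
    · exact Nat.mul_pos (pow_pos (by omega) e) hPUpos
  apply Nat.eq_of_mul_eq_mul_left hpos
  have e1 : (Q ^ 2) ^ e = Q ^ e * Q ^ e := by rw [← pow_mul, mul_comm, pow_mul, sq]
  calc (Q ^ 2 - 1) * (Q ^ e * PU) * I
      = (Q ^ 2 - 1) * (I * ((Q + 1) * NU)) := by rw [h3]; ring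
    _ = (Q + 1) * ((Q ^ 2 - 1) * NS) := by rw [← h1]; ring
    _ = (Q + 1) * ((Q ^ e * Q ^ e) * (PU * (PD * (Q - 1)))) := by rw [h2, hUD, hD, e1]
    _ = ((Q + 1) * (Q - 1)) * (Q ^ e * PU) * (Q ^ e * PD) := by ring
    _ = (Q ^ 2 - 1) * (Q ^ e * PU) * (Q ^ e * PD) := by rw [hQQ]

end numeric

section group
variable {F : Type*} [Field F] [Fintype F] {n : ℕ}

theorem relIndex_mul_card_inf {G : Type*} [Group G] (K S : Subgroup G) :
    K.relIndex S * Nat.card ↥(K ⊓ S) = Nat.card ↥S := by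
  have h1 := (K.subgroupOf S).index_mul_card
  rw [← Subgroup.inf_subgroupOf_right K S] at h1
  rw [← Nat.card_congr (Subgroup.subgroupOfEquivOfLe (inf_le_right : K ⊓ S ≤ S)).toEquiv]
  unfold Subgroup.relIndex
  rw [← Subgroup.inf_subgroupOf_right K S]
  exact h1

theorem card_specialLinear :
    Nat.card ↥(Cfsg.Geo.specialLinear (Fin n) F) =
      Nat.card (Matrix.SpecialLinearGroup (Fin n) F) := by
  have h : Cfsg.Geo.specialLinear (Fin n) F =
      (Matrix.SpecialLinearGroup.toGL :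
        Matrix.SpecialLinearGroup (Fin n) F →* GL (Fin n) F).range := by
    rw [Cfsg.Agent.Lib.Helper1.range_toGL_eq_ker_det]
    rfl
  rw [h]
  exact (Nat.card_congr (MonoidHom.ofInjective
    (Matrix.SpecialLinearGroup.toGL_injective (n := Fin n) (R := F))).toEquiv).symm

open Cfsg.Agent.Lib.Helper5.PSUAut in
theorem card_GU_inf {Q : ℕ} (hF : Fintype.card F = Q ^ 2) (hn : 1 ≤ n) :
    (Q + 1) * Nat.card ↥(Cfsg.GU n F Q ⊓ Cfsg.Geo.specialLinear (Fin n) F) =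
      Nat.card ↥(Cfsg.GU n F Q) := by
  have hker : (detGU hF n).ker =
      (Cfsg.GU n F Q ⊓ Cfsg.Geo.specialLinear (Fin n) F).subgroupOf (Cfsg.GU n F Q) := by
    ext a
    rw [MonoidHom.mem_ker, Subgroup.mem_subgroupOf, Subgroup.mem_inf]
    constructor
    · intro h
      refine ⟨a.2, ?_⟩
      have h1 := congrArg Subtype.val h
      rw [detGU_coe] at h1
      exact h1
    · rintro ⟨-, h⟩
      apply Subtype.ext
      rw [detGU_coe]
      exact h
  have h1 := (detGU hF n).ker.card_mul_index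
  rw [Subgroup.index_ker, MonoidHom.range_eq_top.2 (detGU_surjective hF hn),
    Nat.card_congr (Subgroup.topEquiv (G := ↥(U1 F Q))).toEquiv, card_U1 hF, hker,
    Nat.card_congr (Subgroup.subgroupOfEquivOfLe
      (inf_le_left : Cfsg.GU n F Q ⊓ Cfsg.Geo.specialLinear (Fin n) F ≤ Cfsg.GU n F Q)).toEquiv]
    at h1
  rw [← h1, mul_comm]

/-- A base change taking `f` to the standard Hermitian form. -/
theorem exists_GL_std {Q : ℕ} {σ : F ≃+* F} (hσ : orderOf σ = 2) (hσQ : ∀ a : F, σ a = a ^ Q)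
    (f : (Fin n → F) → (Fin n → F) → F) (hf : Cfsg.Geo.IsUnitaryFormPow Q f) :
    ∃ P : GL (Fin n) F, ∀ u v, f ((P : Matrix (Fin n) (Fin n) F).mulVec u)
      ((P : Matrix (Fin n) (Fin n) F).mulVec v) = Cfsg.hermForm n F Q u v := by
  have hf' := isHerm_of_unitary hσQ f hf
  obtain ⟨g, hg⟩ := exists_std_equiv hσ hf' (nondeg_of_unitary f hf) n (Module.finrank_fin_fun F)
  have hne : (LinearMap.toMatrix' (g : (Fin n → F) →ₗ[F] (Fin n → F))).det ≠ 0 := by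
    rw [LinearMap.det_toMatrix']
    exact (LinearEquiv.isUnit_det' g).ne_zero
  refine ⟨Matrix.GeneralLinearGroup.mkOfDetNeZero _ hne, ?_⟩
  intro u v
  have h1 : ∀ w, (LinearMap.toMatrix' (g : (Fin n → F) →ₗ[F] (Fin n → F))).mulVec w = g w := by
    intro w
    rw [← Matrix.toLin'_apply, Matrix.toLin'_toMatrix']
    rfl
  show f ((LinearMap.toMatrix' (g : (Fin n → F) →ₗ[F] (Fin n → F))).mulVec u)
    ((LinearMap.toMatrix' (g : (Fin n → F) →ₗ[F] (Fin n → F))).mulVec v) = _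
  rw [h1, h1, hg]
  unfold Cfsg.hermForm
  apply Finset.sum_congr rfl
  intro i _
  rw [hσQ]

/-- The order of `GU ⊓ SL` divides the order of `Sim(f) ⊓ SL`. -/
theorem card_GU_inf_dvd {Q : ℕ} {σ : F ≃+* F} (hσ : orderOf σ = 2) (hσQ : ∀ a : F, σ a = a ^ Q)
    (f : (Fin n → F) → (Fin n → F) → F) (hf : Cfsg.Geo.IsUnitaryFormPow Q f) :
    Nat.card ↥(Cfsg.GU n F Q ⊓ Cfsg.Geo.specialLinear (Fin n) F) ∣
      Nat.card ↥(Cfsg.Geo.similarityGroup f ⊓ Cfsg.Geo.specialLinear (Fin n) F) := by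
  obtain ⟨P, hP⟩ := exists_GL_std hσ hσQ f hf
  have hPP : (P : Matrix (Fin n) (Fin n) F) * ((P⁻¹ : GL (Fin n) F) : Matrix (Fin n) (Fin n) F) = 1 := by
    rw [← Units.val_mul, mul_inv_cancel, Units.val_one]
  have hmem : ∀ a : ↥(Cfsg.GU n F Q ⊓ Cfsg.Geo.specialLinear (Fin n) F),
      P * (a : GL (Fin n) F) * P⁻¹ ∈
        Cfsg.Geo.similarityGroup f ⊓ Cfsg.Geo.specialLinear (Fin n) F := by
    intro a
    obtain ⟨ha1, ha2⟩ := Subgroup.mem_inf.mp a.2
    refine Subgroup.mem_inf.mpr ⟨?_, ?_⟩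
    · refine ⟨1, ?_⟩
      intro u v
      have key : ∀ w : Fin n → F,
          ((P * (a : GL (Fin n) F) * P⁻¹ : GL (Fin n) F) : Matrix (Fin n) (Fin n) F).mulVec w =
          (P : Matrix (Fin n) (Fin n) F).mulVec (((a : GL (Fin n) F) : Matrix (Fin n) (Fin n) F).mulVec
            (((P⁻¹ : GL (Fin n) F) : Matrix (Fin n) (Fin n) F).mulVec w)) := by
        intro w
        rw [Units.val_mul, Units.val_mul, Matrix.mulVec_mulVec, Matrix.mulVec_mulVec,
          Matrix.mul_assoc]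
      have hw : ∀ w : Fin n → F, (P : Matrix (Fin n) (Fin n) F).mulVec
          (((P⁻¹ : GL (Fin n) F) : Matrix (Fin n) (Fin n) F).mulVec w) = w := by
        intro w
        rw [Matrix.mulVec_mulVec, hPP, Matrix.one_mulVec]
      rw [key, key, hP, Units.val_one, one_mul]
      have h1 := ha1 (((P⁻¹ : GL (Fin n) F) : Matrix (Fin n) (Fin n) F).mulVec u)
        (((P⁻¹ : GL (Fin n) F) : Matrix (Fin n) (Fin n) F).mulVec v)
      simp only [Units.coeHom_apply] at h1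
      rw [h1, ← hP, hw, hw]
    · change Matrix.GeneralLinearGroup.det (P * (a : GL (Fin n) F) * P⁻¹) = 1
      have h2 : Matrix.GeneralLinearGroup.det (a : GL (Fin n) F) = 1 := ha2
      rw [map_mul, map_mul, map_inv, h2, mul_one, mul_inv_cancel]
  let φ : ↥(Cfsg.GU n F Q ⊓ Cfsg.Geo.specialLinear (Fin n) F) →*
      ↥(Cfsg.Geo.similarityGroup f ⊓ Cfsg.Geo.specialLinear (Fin n) F) :=
    { toFun := fun a => ⟨P * (a : GL (Fin n) F) * P⁻¹, hmem a⟩
      map_one' := by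
        apply Subtype.ext
        show P * ((1 : ↥(Cfsg.GU n F Q ⊓ Cfsg.Geo.specialLinear (Fin n) F)) : GL (Fin n) F) * P⁻¹ = 1
        rw [Subgroup.coe_one, mul_one, mul_inv_cancel]
      map_mul' := by
        intro a b
        apply Subtype.ext
        show P * ((a * b : ↥(Cfsg.GU n F Q ⊓ Cfsg.Geo.specialLinear (Fin n) F)) : GL (Fin n) F) * P⁻¹
          = (P * (a : GL (Fin n) F) * P⁻¹) * (P * (b : GL (Fin n) F) * P⁻¹)
        rw [Subgroup.coe_mul]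
        group }
  apply Subgroup.card_dvd_of_injective φ
  intro a b hab
  apply Subtype.ext
  have h1 : P * (a : GL (Fin n) F) * P⁻¹ = P * (b : GL (Fin n) F) * P⁻¹ := congrArg Subtype.val hab
  have h2 : P⁻¹ * (P * (a : GL (Fin n) F) * P⁻¹) * P = P⁻¹ * (P * (b : GL (Fin n) F) * P⁻¹) * P := by
    rw [h1]
  have e1 : ∀ c : GL (Fin n) F, P⁻¹ * (P * c * P⁻¹) * P = c := fun c => by group
  rw [e1, e1] at h2
  exact h2

/-- A prime `r ∤ Q` dividing the index of the unitary similarity subgroup divides some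
`Dfac Q (j+1)`, `j + 1 < n`. -/
theorem exists_dvd_Dfac {Q : ℕ} {σ : F ≃+* F} (hσ : orderOf σ = 2) (hσQ : ∀ a : F, σ a = a ^ Q)
    (hF : Fintype.card F = Q ^ 2) (hn : 1 ≤ n)
    (f : (Fin n → F) → (Fin n → F) → F) (hf : Cfsg.Geo.IsUnitaryFormPow Q f)
    (r : ℕ) (hr : r.Prime) (hrQ : ¬ r ∣ Q)
    (hΩ : r ∣ (Cfsg.Geo.similarityGroup f).relIndex (Cfsg.Geo.specialLinear (Fin n) F)) :
    ∃ j, j < n - 1 ∧ r ∣ Dfac Q (j + 1) := by
  have hQ2 : 2 ≤ Q := by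
    by_contra hlt
    have hQle : Q ≤ 1 := by omega
    have h1 : 1 < Fintype.card F := Fintype.one_lt_card
    rw [hF] at h1
    have : Q ^ 2 ≤ 1 := by
      calc Q ^ 2 ≤ 1 ^ 2 := Nat.pow_le_pow_left hQle 2
        _ = 1 := one_pow 2
    omega
  obtain ⟨m, hm⟩ := card_GU_inf_dvd hσ hσQ f hf
  have h1 := relIndex_mul_card_inf (Cfsg.Geo.similarityGroup f) (Cfsg.Geo.specialLinear (Fin n) F)
  rw [hm, card_specialLinear] at h1
  have h2 := Cfsg.Agent.Lib.Helper1.card_SL_field (F := F) n hn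
  rw [hF] at h2
  have h3 := card_GU_inf hF hn
  rw [Cfsg.Agent.S0277.result hF n] at h3
  have h4 := index_formula Q n ((Cfsg.Geo.similarityGroup f).relIndex
      (Cfsg.Geo.specialLinear (Fin n) F) * m)
    (Nat.card ↥(Cfsg.GU n F Q ⊓ Cfsg.Geo.specialLinear (Fin n) F))
    (Nat.card (Matrix.SpecialLinearGroup (Fin n) F)) hQ2 hn
    (by rw [← h1]; ring) h2 h3
  have h5 : r ∣ Q ^ (n * (n - 1) / 2) * ∏ j ∈ range (n - 1), Dfac Q (j + 1) := by
    rw [← h4]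
    exact Dvd.dvd.mul_right hΩ m
  rcases (Nat.Prime.dvd_mul hr).mp h5 with h6 | h6
  · exact absurd (hr.dvd_of_dvd_pow h6) hrQ
  · obtain ⟨j, hj, hjd⟩ := (Nat.Prime.prime hr).exists_mem_finset_dvd h6
    exact ⟨j, mem_range.mp hj, hjd⟩

end group

end Cfsg.Agent.Lib.Helper4.SimU
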