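import Mathlib
import Cfsg.Agent.Lib.Helper4.EqDecD
import Cfsg.Agent.Lib.Helper4.SimU3

set_option autoImplicit false
set_option linter.unusedSectionVars false
set_option linter.style.haveILetI false

/-! The cyclotomic derangement: an element of order `r` of a unitary similarity group has
cyclotomic part of dimension at least `2c` when `(-Q)^i = -1` in `ZMod r` for some `i` and
`c = ord_r(Q^2) ≥ 2`. -/

namespace Cfsg.Agent.Lib.Helper4.SimU

open Module Polynomial
open Cfsg.Agent.Lib.Helper5.PSLCoset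
open Cfsg.Agent.H9SemiInv Cfsg.Agent.Lib.Helper9.H9Elus Cfsg.Agent.Lib.Helper4.EqDec

section frob
variable {F : Type*} [Field F] [Fintype F] {p : ℕ} [Fact p.Prime] [CharP F p]

theorem exists_pow_of_sq_card {Q : ℕ} (hF : Fintype.card F = Q ^ 2) : ∃ k, Q = p ^ k := by
  obtain ⟨m, -, hm⟩ := FiniteField.card F p
  have hp : p.Prime := Fact.out
  have h1 : Q ∣ p ^ (m : ℕ) := by
    rw [← hm, hF]
    exact dvd_pow_self Q two_ne_zero
  obtain ⟨k, -, hk⟩ := (Nat.dvd_prime_pow hp).mp h1
  exact ⟨k, hk⟩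

theorem frob_root {Q : ℕ} (hF : Fintype.card F = Q ^ 2) {σ : F ≃+* F}
    (hσ2 : ∀ a : F, σ (σ a) = a) (hσQ : ∀ a : F, σ a = a ^ Q) (g : F[X]) [Fact (Irreducible g)]
    (e : AdjoinRoot g) (he : aeval e (g.map (σ : F →+* F)) = 0) : aeval (e ^ Q) g = 0 := by
  obtain ⟨p, hchar⟩ := CharP.exists F
  haveI := hchar
  haveI : Fact p.Prime := ⟨CharP.char_is_prime F p⟩
  obtain ⟨k, hk⟩ := exists_pow_of_sq_card (p := p) hF
  haveI : CharP (AdjoinRoot g) p :=
    charP_of_injective_algebraMap (algebraMap F (AdjoinRoot g)).injective p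
  haveI : ExpChar (AdjoinRoot g) p := ExpChar.prime Fact.out
  set ψ : AdjoinRoot g →+* AdjoinRoot g := iterateFrobenius (AdjoinRoot g) p k with hψ
  have hψx : ∀ x, ψ x = x ^ Q := by
    intro x
    rw [hψ, iterateFrobenius_def, hk]
  have hcomm : ψ.comp (algebraMap F (AdjoinRoot g)) =
      (algebraMap F (AdjoinRoot g)).comp (σ : F →+* F) := by
    ext a
    rw [RingHom.comp_apply, RingHom.comp_apply, hψx, RingEquiv.coe_toRingHom, hσQ, map_pow]
  have hid : (σ : F →+* F).comp (σ : F →+* F) = RingHom.id F := by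
    ext a
    exact hσ2 a
  have h1 := congrArg ψ he
  rw [map_zero, aeval_def, hom_eval₂, hcomm, ← eval₂_map, Polynomial.map_map, hid,
    Polynomial.map_id, hψx] at h1
  rw [aeval_def]
  exact h1

theorem root_conj (g : F[X]) [Fact (Irreducible g)] (e : AdjoinRoot g) (he : aeval e g = 0) :
    ∃ j : ℕ, e = (AdjoinRoot.root g) ^ (Fintype.card F ^ j) := by
  have hg : Irreducible g := Fact.out
  have hg0 : g ≠ 0 := hg.ne_zero
  haveI : FiniteDimensional F (AdjoinRoot g) := (AdjoinRoot.powerBasis hg0).finite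
  haveI : Finite (AdjoinRoot g) := Module.finite_of_finite F
  have hroot : aeval (AdjoinRoot.root g) g = 0 := by
    rw [AdjoinRoot.aeval_eq, AdjoinRoot.mk_self]
  have h1 : minpoly F e = minpoly F (AdjoinRoot.root g) := by
    rw [← minpoly.eq_of_irreducible hg he, ← minpoly.eq_of_irreducible hg hroot]
  obtain ⟨τ, hτ⟩ := (Normal.minpoly_eq_iff_mem_orbit (F := F) (E := AdjoinRoot g)).mp h1
  obtain ⟨j, hj⟩ := (FiniteField.bijective_frobeniusAlgEquivOfAlgebraic_pow F (AdjoinRoot g)).2 τ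
  refine ⟨j, ?_⟩
  have hτ' : τ (AdjoinRoot.root g) = e := hτ
  have hj' : FiniteField.frobeniusAlgEquivOfAlgebraic F (AdjoinRoot g) ^ (j : ℕ) = τ := hj
  rw [← hτ', ← hj', AlgEquiv.coe_pow, FiniteField.coe_frobeniusAlgEquivOfAlgebraic_iterate]

end frob

section zmod

theorem neg_pow_of_dvd_Dfac (Q i r : ℕ) (hQ : 1 ≤ Q) (h : r ∣ Dfac Q i) :
    (-(Q : ZMod r)) ^ (i + 1) = -1 := by
  have ha : 1 ≤ Q ^ (i + 1) := Nat.one_le_pow _ _ hQ
  unfold Dfac at h
  split_ifs at h with hi
  · have h1 : ((Q ^ (i + 1) - 1 : ℕ) : ZMod r) = 0 := (ZMod.natCast_eq_zero_iff _ _).mpr h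
    rw [Nat.cast_sub ha, Nat.cast_pow, Nat.cast_one, sub_eq_zero] at h1
    rw [neg_pow, h1, Odd.neg_one_pow (Even.add_one hi), mul_one]
  · have h1 : ((Q ^ (i + 1) + 1 : ℕ) : ZMod r) = 0 := (ZMod.natCast_eq_zero_iff _ _).mpr h
    rw [Nat.cast_add, Nat.cast_pow, Nat.cast_one] at h1
    have h2 : (Q : ZMod r) ^ (i + 1) = -1 := eq_neg_of_add_eq_zero_left h1
    rw [Nat.not_even_iff_odd] at hi
    rw [neg_pow, h2, Even.neg_one_pow (Odd.add_one hi), one_mul]

/-- The arithmetic contradiction. -/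
theorem zmod_contra (Q r i j : ℕ) [Fact r.Prime] (hr2 : r ≠ 2) (hi : (-(Q : ZMod r)) ^ i = -1)
    (hj : ((Q : ZMod r) ^ 2) ^ j = -(Q : ZMod r)) : False := by
  have hr : r.Prime := Fact.out
  have h1 : (-(Q : ZMod r)) ^ (2 * j) = -(Q : ZMod r) := by
    rw [pow_mul, neg_sq]
    exact hj
  have h2 : ((-(Q : ZMod r)) ^ i) ^ (2 * j) = (-(Q : ZMod r)) ^ i := by
    rw [← pow_mul, mul_comm, pow_mul, h1]
  rw [hi, pow_mul, neg_one_sq, one_pow] at h2
  have h3 : (2 : ZMod r) = 0 := by
    have : (1 : ZMod r) + 1 = 0 := by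
      nth_rewrite 1 [h2]
      exact neg_add_cancel 1
    rw [← this]
    norm_num
  have h4 : ((2 : ℕ) : ZMod r) = 0 := by exact_mod_cast h3
  have h5 := (ZMod.natCast_eq_zero_iff _ _).mp h4
  exact hr2 ((Nat.prime_dvd_prime_iff_eq hr Nat.prime_two).mp h5)

end zmod

section main
variable {F : Type*} [Field F] [Fintype F] {p : ℕ} [Fact p.Prime] [CharP F p]
  {V : Type*} [AddCommGroup V] [Module F V] [FiniteDimensional F V]

/-- The key coprimality: an irreducible factor `g` of the `r`-th cyclotomic polynomial is coprime to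
its unitary twist `g^σ(X^(r-1))`. -/
theorem isCoprime_twist {Q : ℕ} (hF : Fintype.card F = Q ^ 2) {σ : F ≃+* F}
    (hσ2 : ∀ a : F, σ (σ a) = a) (hσQ : ∀ a : F, σ a = a ^ Q)
    (r : ℕ) [Fact r.Prime] (hr2 : r ≠ 2) (hrp : r ≠ p) (i : ℕ) (hi : (-(Q : ZMod r)) ^ i = -1)
    (g : F[X]) (hg : Irreducible g) (hgd : g ∣ cyclotomic r F) :
    IsCoprime g ((g.map (σ : F →+* F)).comp (X ^ (r - 1))) := by
  have hr : r.Prime := Fact.out
  rcases hg.isCoprime_or_dvd ((g.map (σ : F →+* F)).comp (X ^ (r - 1))) with h | h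
  · exact h
  exfalso
  haveI : Fact (Irreducible g) := ⟨hg⟩
  set ζ : AdjoinRoot g := AdjoinRoot.root g with hζ
  have hroot : aeval ζ g = 0 := by
    rw [hζ, AdjoinRoot.aeval_eq, AdjoinRoot.mk_self]
  have hdvd : g ∣ X ^ r - 1 := by
    rw [← cyclotomic_prime_mul_X_sub_one F r]
    exact Dvd.dvd.mul_right hgd _
  have hζr : ζ ^ r = 1 := by
    obtain ⟨s, hs⟩ := hdvd
    have h1 := congrArg (aeval ζ) hs
    rw [map_mul, hroot, zero_mul, map_sub, map_pow, aeval_X, map_one, sub_eq_zero] at h1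
    exact h1
  have hζ1 : ζ ≠ 1 := by
    intro h1
    have hc : IsCoprime (X - 1 : F[X]) (cyclotomic r F) := isCoprime_X_sub_one_cyclotomic r hrp
    have h2 : aeval ζ (cyclotomic r F) = 0 := by
      obtain ⟨s, hs⟩ := hgd
      rw [hs, map_mul, hroot, zero_mul]
    obtain ⟨a, b, hab⟩ := hc
    have h3 := congrArg (aeval ζ) hab
    rw [map_add, map_mul, map_mul, h2, mul_zero, add_zero, map_sub, aeval_X, map_one, h1, sub_self,
      mul_zero] at h3
    exact zero_ne_one h3
  have hord : orderOf ζ = r := orderOf_eq_prime hζr hζ1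
  -- the twisted root
  have h1 : aeval ζ ((g.map (σ : F →+* F)).comp (X ^ (r - 1))) = 0 := by
    obtain ⟨s, hs⟩ := h
    rw [hs, map_mul, hroot, zero_mul]
  rw [aeval_comp, map_pow, aeval_X] at h1
  have h2 := frob_root hF hσ2 hσQ g (ζ ^ (r - 1)) h1
  obtain ⟨j, hj⟩ := root_conj g _ h2
  have e0 : ∀ m, ζ ^ (m % r) = ζ ^ m := fun m => by
    have := pow_mod_orderOf ζ m
    rwa [hord] at this
  have hmod : ((r - 1) * Q) % r = (Fintype.card F ^ j) % r := by
    have e1 : ζ ^ (((r - 1) * Q) % r) = ζ ^ ((Fintype.card F ^ j) % r) := by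
      rw [e0, e0, pow_mul]
      exact hj
    exact pow_injOn_Iio_orderOf (x := ζ) (by rw [hord]; exact Nat.mod_lt _ hr.pos)
      (by rw [hord]; exact Nat.mod_lt _ hr.pos) e1
  have h3 : (((r - 1) * Q : ℕ) : ZMod r) = ((Fintype.card F ^ j : ℕ) : ZMod r) :=
    (ZMod.natCast_eq_natCast_iff' _ _ _).mpr hmod
  rw [hF, Nat.cast_mul, Nat.cast_sub hr.one_le, Nat.cast_pow, Nat.cast_pow, Nat.cast_one,
    ZMod.natCast_self, zero_sub, neg_one_mul] at h3
  exact zmod_contra Q r i j hr2 hi h3.symm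

/-- No similitude of order `r` with a small cyclotomic part. -/
theorem no_sim_of_small_cyc {Q : ℕ} (hF : Fintype.card F = Q ^ 2) {σ : F ≃+* F}
    (hσ2 : ∀ a : F, σ (σ a) = a) (hσQ : ∀ a : F, σ a = a ^ Q)
    (r : ℕ) [Fact r.Prime] (hr2 : r ≠ 2) (hrp : r ≠ p)
    (hc2 : 2 ≤ orderOf ((Fintype.card F : ℕ) : ZMod r))
    (i : ℕ) (hi : (-(Q : ZMod r)) ^ i = -1)
    (H : V → V → F) (hH : IsHerm σ H) (hnd : Nondeg H)
    (y : V →ₗ[F] V) (hy : y ^ r = 1) (hy1 : y ≠ 1) (μ : F) (hs : IsSim H y μ)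
    (hfix : finrank F V < finrank F ↥(fixE y) + 2 * orderOf ((Fintype.card F : ℕ) : ZMod r)) :
    False := by
  have hr : r.Prime := Fact.out
  set c := orderOf ((Fintype.card F : ℕ) : ZMod r) with hc
  -- V is nontrivial
  have hV : ∃ v : V, v ≠ 0 := by
    by_contra hcon
    push Not at hcon
    apply hy1
    apply LinearMap.ext
    intro v
    rw [hcon v, map_zero, map_zero]
  have hne := hnd.exists_ne hV
  -- the multiplier is one
  have hμr : μ ^ r = 1 := by
    have := hs.pow_eq hH hne r 1 (by rw [hy, one_smul])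
    rw [this, map_one, mul_one]
  have hμ0 : μ ≠ 0 := by
    intro h0
    rw [h0, zero_pow hr.ne_zero] at hμr
    exact zero_ne_one hμr
  have hμ1 : μ = 1 := by
    have h1 : μ ^ (Fintype.card F - 1) = 1 := FiniteField.pow_card_sub_one_eq_one μ hμ0
    have h2 := pow_gcd_eq_one.mpr ⟨hμr, h1⟩
    have hcop : Nat.gcd r (Fintype.card F - 1) = 1 := by
      rw [← Nat.coprime_iff_gcd_eq_one, Nat.Prime.coprime_iff_not_dvd hr]
      intro hd
      have h3 := (orderOf_dvd_iff_dvd r (Fintype.card F) Fintype.card_pos 1).mpr (by rwa [pow_one])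
      have := Nat.le_of_dvd one_pos h3
      omega
    rw [hcop, pow_one] at h2
    exact h2
  subst hμ1
  -- the adjoint of `y`
  have hyy : ∀ v, y ((y ^ (r - 1)) v) = v := by
    intro v
    rw [← Module.End.mul_apply, ← pow_succ', Nat.sub_add_cancel hr.one_le, hy, Module.End.one_apply]
  have hadj : ∀ u v, H (y u) v = H u ((y ^ (r - 1)) v) := by
    intro u v
    have := hs.adjoint hσ2 hH hyy u v
    rwa [map_one, one_smul] at this
  -- an irreducible factor of the cyclotomic polynomial with nonzero kernel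
  have hcyc : ∃ w : V, w ≠ 0 ∧ aeval y (cyclotomic r F) w = 0 := by
    by_contra hcon
    push Not at hcon
    apply hy1
    apply LinearMap.ext
    intro v
    have h1 : aeval y (cyclotomic r F) ((y - 1) v) = 0 := by
      have h2 : (aeval y (cyclotomic r F)) * (y - 1) = 0 := by
        have h3 := congrArg (aeval y) (cyclotomic_prime_mul_X_sub_one F r)
        simp only [map_mul, map_sub, map_pow, aeval_X, map_one, hy, sub_self] at h3
        exact h3
      rw [← Module.End.mul_apply, h2, LinearMap.zero_apply]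
    have h4 : (y - 1) v = 0 := by
      by_contra h5
      exact hcon _ h5 h1
    rw [LinearMap.sub_apply, Module.End.one_apply, sub_eq_zero] at h4
    rw [h4, Module.End.one_apply]
  obtain ⟨w, hw0, hw⟩ := hcyc
  have htop : Inv y (⊤ : Submodule F V) := fun x _ => Submodule.mem_top
  obtain ⟨g, hg, hgd, v, -, hv0, hgv⟩ := exists_irreducible_kernel y ⊤ htop (cyclotomic r F)
    (cyclotomic_ne_zero r F) w Submodule.mem_top hw0 hw
  set G : F[X] := (g.map (σ : F →+* F)).comp (X ^ (r - 1)) with hG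
  have hcop := isCoprime_twist (p := p) hF hσ2 hσQ r hr2 hrp i hi g hg hgd
  -- the two kernels have the same dimension
  have hGy : aeval y G = aeval (y ^ (r - 1)) (g.map (σ : F →+* F)) := by
    rw [hG, aeval_comp, map_pow, aeval_X]
  have hdim : finrank F (LinearMap.ker (aeval y g)) = finrank F (LinearMap.ker (aeval y G)) := by
    rw [hGy]
    exact finrank_ker_eq_of_adjoint hH hnd _ _ (adjoint_aeval hσ2 hH hadj g)
  -- lower bound for the dimension of `ker g(y)`
  have hle : LinearMap.ker (aeval y g) ≤ cycK r y := by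
    intro u hu
    obtain ⟨s, hs'⟩ := hgd
    rw [LinearMap.mem_ker] at hu ⊢
    rw [hs', mul_comm, map_mul, Module.End.mul_apply, hu, map_zero]
  have hdvd := order_dvd_finrank_inf_cycK r hrp y hy (LinearMap.ker (aeval y g))
    (inv_ker_aeval y g)
  rw [inf_eq_left.mpr hle] at hdvd
  have hpos : 0 < finrank F (LinearMap.ker (aeval y g)) := by
    rw [Module.finrank_pos_iff_exists_ne_zero]
    exact ⟨⟨v, LinearMap.mem_ker.mpr hgv⟩, fun h => hv0 (congrArg Subtype.val h)⟩
  have hcle : c ≤ finrank F (LinearMap.ker (aeval y g)) := Nat.le_of_dvd hpos hdvd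
  -- independence of the three kernels
  have hg1 : IsCoprime g (X - 1 : F[X]) := by
    have h1 : IsCoprime (X - 1 : F[X]) (cyclotomic r F) := isCoprime_X_sub_one_cyclotomic r hrp
    exact (h1.of_isCoprime_of_dvd_right hgd).symm
  have hG1 : IsCoprime G (X - 1 : F[X]) := by
    have hev : G.eval 1 ≠ 0 := by
      rw [hG, eval_comp, eval_pow, eval_X, one_pow, eval_map, eval₂_at_one]
      intro h0
      have h1 : g.eval 1 = 0 := by
        have := (map_eq_zero_iff (σ : F →+* F) σ.injective).mp h0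
        exact this
      obtain ⟨a, b, hab⟩ := hg1
      have h3 := congrArg (eval 1) hab
      simp only [eval_add, eval_mul, eval_sub, eval_X, eval_one, sub_self, mul_zero, add_zero,
        h1] at h3
      exact zero_ne_one h3
    have hirr : Irreducible (X - C 1 : F[X]) := irreducible_X_sub_C 1
    rcases hirr.isCoprime_or_dvd G with h | h
    · rw [map_one] at h
      exact h.symm
    · exfalso
      exact hev (dvd_iff_isRoot.mp h)
  have hd1 : Disjoint (LinearMap.ker (aeval y g)) (LinearMap.ker (aeval y G)) :=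
    disjoint_ker_aeval_of_isCoprime y hcop
  have hsup : LinearMap.ker (aeval y g) ⊔ LinearMap.ker (aeval y G) =
      LinearMap.ker (aeval y (g * G)) := sup_ker_aeval_eq_ker_aeval_mul_of_coprime y hcop
  have hd2 : Disjoint (LinearMap.ker (aeval y (g * G))) (fixE y) :=
    disjoint_ker_aeval_of_isCoprime y (IsCoprime.mul_left hg1 hG1)
  have e1 := Submodule.finrank_sup_add_finrank_inf_eq (LinearMap.ker (aeval y g))
    (LinearMap.ker (aeval y G))
  rw [hd1.eq_bot, finrank_bot, add_zero, hsup] at e1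
  have e2 := Submodule.finrank_sup_add_finrank_inf_eq (LinearMap.ker (aeval y (g * G))) (fixE y)
  rw [hd2.eq_bot, finrank_bot, add_zero] at e2
  have e3 := Submodule.finrank_le (LinearMap.ker (aeval y (g * G)) ⊔ fixE y)
  omega

end main

end Cfsg.Agent.Lib.Helper4.SimU
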