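import Mathlib
import Cfsg.Agent.Lib.Helper4.SimU2

set_option autoImplicit false
set_option linter.unusedSectionVars false
set_option linter.style.haveILetI false

/-! Eigenvalue symmetry of similitudes of Hermitian forms, and the `r`-th power criterion for the
`r`-th power of a similitude. -/

namespace Cfsg.Agent.Lib.Helper4.SimU

open Module Polynomial
open Cfsg.Agent.Lib.Helper5.PSLCoset

section eigen
variable {F : Type*} [Field F] [Finite F] {σ : F ≃+* F} {V : Type*} [AddCommGroup V] [Module F V]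
  [FiniteDimensional F V] {H : V → V → F}

/-- Eigenvalue symmetry: the eigenspaces of a similitude for `u` and `σ μ / σ u` have the same
dimension. -/
theorem IsSim.finrank_eigen (hσ2 : ∀ a : F, σ (σ a) = a) (h : IsHerm σ H) (hnd : Nondeg H)
    {t t' : V →ₗ[F] V} {μ : F} (ht : IsSim H t μ) (htt' : ∀ v, t (t' v) = v)
    (ht't : ∀ v, t' (t v) = v) (u : F) (hu : u ≠ 0) :
    finrank F (LinearMap.ker (t - u • (1 : V →ₗ[F] V))) =
      finrank F (LinearMap.ker (t - (σ μ / σ u) • (1 : V →ₗ[F] V))) := by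
  have hσu : σ u ≠ 0 := fun h0 => hu ((map_eq_zero_iff σ σ.injective).mp h0)
  set B : V →ₗ[F] V := (σ μ) • t' - (σ u) • (1 : V →ₗ[F] V) with hB
  have hAB : ∀ x v, H ((t - u • (1 : V →ₗ[F] V)) x) v = H x (B v) := by
    intro x v
    rw [LinearMap.sub_apply, LinearMap.smul_apply, Module.End.one_apply, h.sub_left, h.smul_left,
      ht.adjoint hσ2 h htt', hB, LinearMap.sub_apply, LinearMap.smul_apply (σ u),
      Module.End.one_apply, h.sub_right, h.smul_right (σ u), hσ2]
  rw [finrank_ker_eq_of_adjoint h hnd _ B hAB]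
  have hker : LinearMap.ker B = LinearMap.ker (t - (σ μ / σ u) • (1 : V →ₗ[F] V)) := by
    ext v
    rw [LinearMap.mem_ker, LinearMap.mem_ker, hB, LinearMap.sub_apply, LinearMap.sub_apply,
      LinearMap.smul_apply, LinearMap.smul_apply, LinearMap.smul_apply, Module.End.one_apply,
      sub_eq_zero, sub_eq_zero]
    constructor
    · intro hv
      have h1 := congrArg t hv
      rw [map_smul, htt', map_smul] at h1
      rw [div_eq_inv_mul, mul_smul, h1, smul_smul, inv_mul_cancel₀ hσu, one_smul]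
    · intro hv
      have h1 := congrArg t' hv
      rw [ht't, map_smul] at h1
      have h2 : σ u • v = σ u • ((σ μ / σ u) • t' v) := congrArg (fun w => σ u • w) h1
      rw [h2, smul_smul, mul_div_cancel₀ _ hσu]
  rw [hker]

end eigen

section power
variable {F : Type*} [Field F] [Fintype F] {σ : F ≃+* F} {V : Type*} [AddCommGroup V] [Module F V]
  {H : V → V → F}

/-- If the `r`-th power of a similitude is the scalar `z` and `r ∣ Q - 1`, then
`z ^ ((q - 1) / r) = 1` (so `z` is an `r`-th power). -/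
theorem pow_div_eq_one_of_isSim {Q : ℕ} (hF : Fintype.card F = Q ^ 2) (hσQ : ∀ a : F, σ a = a ^ Q)
    (r : ℕ) (hr0 : r ≠ 0) (hrQ : r ∣ Q - 1) (hQ : 1 ≤ Q) (h : IsHerm σ H) (hne : ∃ u v, H u v ≠ 0)
    (t : V →ₗ[F] V) (μ z : F) (hz : z ≠ 0) (hs : IsSim H t μ) (ht : t ^ r = z • 1) :
    z ^ ((Fintype.card F - 1) / r) = 1 := by
  obtain ⟨k, hk⟩ := hrQ
  have h1 : μ ^ r = z ^ (Q + 1) := by
    rw [hs.pow_eq h hne r z ht, hσQ, pow_succ']
  have hμ0 : μ ≠ 0 := by
    intro h0
    rw [h0, zero_pow hr0] at h1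
    exact pow_ne_zero _ hz h1.symm
  have h2 : μ ^ Q = μ := by
    rw [← hσQ]
    exact hs.sigma_mul h hne
  have h3 : μ ^ (Q - 1) = 1 := by
    have h4 : μ ^ (Q - 1) * μ = 1 * μ := by
      rw [← pow_succ, Nat.sub_add_cancel hQ, h2, one_mul]
    exact mul_right_cancel₀ hμ0 h4
  have h5 : (Fintype.card F - 1) / r = (Q + 1) * k := by
    have h6 : Q ^ 2 - 1 = r * ((Q + 1) * k) := by
      have : Q ^ 2 - 1 = (Q + 1) * (Q - 1) := by
        obtain ⟨m, rfl⟩ : ∃ m, Q = m + 1 := ⟨Q - 1, by omega⟩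
        rw [Nat.add_sub_cancel]
        apply Nat.sub_eq_of_eq_add
        ring
      rw [this, hk]
      ring
    rw [hF, h6, Nat.mul_div_cancel_left _ (Nat.pos_of_ne_zero hr0)]
  rw [h5, pow_mul, ← h1, ← pow_mul, ← hk, h3]

end power

end Cfsg.Agent.Lib.Helper4.SimU
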