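import Mathlib

set_option autoImplicit false

/-! PK-DIAG: eigenspace dimensions of a diagonal matrix. -/

namespace Cfsg.Agent.Lib.Helper4.SimU

open Module

section diag
variable {F : Type*} [Field F] [DecidableEq F] {n : ℕ}

theorem diag_sub_eq (d : Fin n → F) (u : F) :
    Matrix.toLin' (Matrix.diagonal d) - u • (1 : (Fin n → F) →ₗ[F] (Fin n → F)) =
      (Matrix.diagonal (fun k => d k - u)).mulVecLin := by
  apply LinearMap.ext
  intro v
  funext k
  rw [LinearMap.sub_apply, LinearMap.smul_apply, Module.End.one_apply, Matrix.toLin'_apply,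
    Matrix.mulVecLin_apply, Pi.sub_apply, Matrix.mulVec_diagonal, Matrix.mulVec_diagonal,
    Pi.smul_apply, smul_eq_mul]
  ring

theorem finrank_ker_diagonal_sub (d : Fin n → F) (u : F) :
    finrank F (LinearMap.ker (Matrix.toLin' (Matrix.diagonal d) -
      u • (1 : (Fin n → F) →ₗ[F] (Fin n → F)))) = (Finset.univ.filter (fun k => d k = u)).card := by
  rw [diag_sub_eq]
  have h1 := LinearMap.finrank_range_add_finrank_ker (Matrix.diagonal (fun k => d k - u)).mulVecLin
  have h2 : finrank F (LinearMap.range (Matrix.diagonal (fun k => d k - u)).mulVecLin) =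
      Fintype.card {i // d i - u ≠ 0} := by
    have := Matrix.rank_diagonal (fun k => d k - u)
    rw [Matrix.rank] at this
    exact this
  rw [h2, Module.finrank_fin_fun] at h1
  have h3 : Fintype.card {i // d i - u ≠ 0} =
      (Finset.univ.filter (fun k => ¬ d k = u)).card := by
    rw [Fintype.card_subtype]
    congr 1
    ext k
    simp only [Finset.mem_filter, Finset.mem_univ, true_and, ne_eq, sub_eq_zero]
  have h4 := Finset.card_filter_add_card_filter_not (s := (Finset.univ : Finset (Fin n)))
    (fun k => d k = u)
  rw [Finset.card_univ, Fintype.card_fin] at h4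
  omega

end diag

end Cfsg.Agent.Lib.Helper4.SimU
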