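import Mathlib
import Cfsg.Agent.Lib.Helper4.SimU4
import Cfsg.Agent.Lib.Helper4.SimU5
import Cfsg.Agent.Lib.Lead.SimU_ZETA
import Cfsg.Agent.Lib.Helper4.SimU_DIAG

set_option autoImplicit false
set_option linter.unusedSectionVars false
set_option linter.style.haveILetI false

/-! Derangement models for the unitary similarity subgroup. -/

namespace Cfsg.Agent.Lib.Helper4.SimU

open Module Polynomial
open Cfsg.Agent.Lib.Helper5.PSLCoset
open Cfsg.Agent.H9SemiInv Cfsg.Agent.Lib.Helper9.H9Elus Cfsg.Agent.Lib.Helper4.EqDec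

section defs
variable {F : Type*} [Field F] [Fintype F]

/-- A matrix of determinant one whose `r`-th power is scalar, which is not scalar and is not a
similitude of any nondegenerate Hermitian form. -/
def IsDerModel (σ : F ≃+* F) (r n : ℕ) : Prop :=
  ∃ M : Matrix (Fin n) (Fin n) F, M.det = 1 ∧
    (∃ z : F, M ^ r = z • (1 : Matrix (Fin n) (Fin n) F)) ∧
    (∀ c : F, M ≠ c • (1 : Matrix (Fin n) (Fin n) F)) ∧
    ∀ (H : (Fin n → F) → (Fin n → F) → F) (μ : F), IsHerm σ H → Nondeg H →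
      ¬ IsSim H (Matrix.toLin' M) μ

/-- A derangement model refutes the left-hand side of the statement. -/
theorem not_all_conj_of_model {σ : F ≃+* F} {Q : ℕ} (hσQ : ∀ a : F, σ a = a ^ Q) {n : ℕ}
    (f : (Fin n → F) → (Fin n → F) → F) (hf : Cfsg.Geo.IsUnitaryFormPow Q f) (r : ℕ)
    (hm : IsDerModel σ r n) :
    ¬ (∀ x ∈ Cfsg.Geo.specialLinear (Fin n) F,
      (∃ z : F, ((x ^ r : GL (Fin n) F) : Matrix (Fin n) (Fin n) F) =
        z • (1 : Matrix (Fin n) (Fin n) F)) →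
      (∀ z : F, (x : Matrix (Fin n) (Fin n) F) ≠ z • (1 : Matrix (Fin n) (Fin n) F)) →
      ∃ g ∈ Cfsg.Geo.specialLinear (Fin n) F, g⁻¹ * x * g ∈ Cfsg.Geo.similarityGroup f) := by
  intro hL
  obtain ⟨M, hdet, hpow, hns, hder⟩ := hm
  set x : GL (Fin n) F :=
    Matrix.GeneralLinearGroup.mkOfDetNeZero M (by rw [hdet]; exact one_ne_zero) with hx
  have hxc : (x : Matrix (Fin n) (Fin n) F) = M := rfl
  have hxmem : x ∈ Cfsg.Geo.specialLinear (Fin n) F := by
    change Matrix.GeneralLinearGroup.det x = 1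
    apply Units.ext
    rw [Matrix.GeneralLinearGroup.val_det_apply, hxc, hdet, Units.val_one]
  obtain ⟨g, -, hg⟩ := hL x hxmem
    (by rw [Units.val_pow_eq_pow_val, hxc]; exact hpow) (by rw [hxc]; exact hns)
  obtain ⟨H, μ, hH, hnd, hs⟩ := isSim_of_conj_mem (σ := σ) hσQ f hf x g hg
  rw [hxc] at hs
  exact hder H μ hH hnd hs

end defs

section diagonal
variable {F : Type*} [Field F] [Fintype F] [DecidableEq F] {σ : F ≃+* F} {n : ℕ}

theorem toLin'_diagonal_inv (d : Fin n → F) (hd : ∀ k, d k ≠ 0) (v : Fin n → F) :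
    Matrix.toLin' (Matrix.diagonal d) (Matrix.toLin' (Matrix.diagonal fun k => (d k)⁻¹) v) = v := by
  rw [← LinearMap.comp_apply, ← Matrix.toLin'_mul, Matrix.diagonal_mul_diagonal]
  have : (fun i => d i * (d i)⁻¹) = fun _ => (1 : F) := by
    funext i
    exact mul_inv_cancel₀ (hd i)
  rw [this, Matrix.diagonal_one, Matrix.toLin'_one, LinearMap.id_apply]

theorem toLin'_diagonal_inv' (d : Fin n → F) (hd : ∀ k, d k ≠ 0) (v : Fin n → F) :
    Matrix.toLin' (Matrix.diagonal fun k => (d k)⁻¹) (Matrix.toLin' (Matrix.diagonal d) v) = v := by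
  rw [← LinearMap.comp_apply, ← Matrix.toLin'_mul, Matrix.diagonal_mul_diagonal]
  have : (fun i => (d i)⁻¹ * d i) = fun _ => (1 : F) := by
    funext i
    exact inv_mul_cancel₀ (hd i)
  rw [this, Matrix.diagonal_one, Matrix.toLin'_one, LinearMap.id_apply]

/-- The multiplicities of the eigenvalues of a diagonal similitude are symmetric. -/
theorem card_filter_eq_of_isSim_diagonal (hσ2 : ∀ a : F, σ (σ a) = a)
    (H : (Fin n → F) → (Fin n → F) → F) (hH : IsHerm σ H) (hnd : Nondeg H)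
    (d : Fin n → F) (hd : ∀ k, d k ≠ 0) (μ : F)
    (hs : IsSim H (Matrix.toLin' (Matrix.diagonal d)) μ) (u : F) (hu : u ≠ 0) :
    (Finset.univ.filter (fun k => d k = u)).card =
      (Finset.univ.filter (fun k => d k = σ μ / σ u)).card := by
  rw [← finrank_ker_diagonal_sub, ← finrank_ker_diagonal_sub]
  exact hs.finrank_eigen hσ2 hH hnd (toLin'_diagonal_inv d hd) (toLin'_diagonal_inv' d hd) u hu

/-- Diagonal derangements: a majority eigenvalue `l` and an eigenvalue `d k₀` whose mirror image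
`l σ(l) / σ(d k₀)` is not an eigenvalue. -/
theorem isDerModel_diagonal (hσ2 : ∀ a : F, σ (σ a) = a) (r : ℕ) (d : Fin n → F)
    (hdet : ∏ k, d k = 1) (z : F) (hpow : ∀ k, d k ^ r = z) (k₀ k₁ : Fin n) (hne : d k₀ ≠ d k₁)
    (l : F) (hl : l ≠ 0) (hmaj : n < 2 * (Finset.univ.filter (fun k => d k = l)).card)
    (hnot : ∀ k, d k * σ (d k₀) ≠ l * σ l) : IsDerModel σ r n := by
  have hd : ∀ k, d k ≠ 0 := by
    intro k hk
    have := Finset.prod_eq_zero (Finset.mem_univ k) hk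
    rw [hdet] at this
    exact one_ne_zero this
  refine ⟨Matrix.diagonal d, by rw [Matrix.det_diagonal, hdet], ⟨z, ?_⟩, ?_, ?_⟩
  · rw [Matrix.diagonal_pow, Matrix.smul_one_eq_diagonal]
    congr 1
    funext k
    exact hpow k
  · intro c hc
    have h0 := congrFun (congrFun hc k₀) k₀
    have h1 := congrFun (congrFun hc k₁) k₁
    simp only [Matrix.diagonal_apply_eq, Matrix.smul_apply, Matrix.one_apply_eq, smul_eq_mul,
      mul_one] at h0 h1
    exact hne (h0.trans h1.symm)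
  · intro H μ hH hnd hs
    have hsym := card_filter_eq_of_isSim_diagonal hσ2 H hH hnd d hd μ hs
    have hσl : σ l ≠ 0 := fun h0 => hl ((map_eq_zero_iff σ σ.injective).mp h0)
    -- the majority eigenvalue is fixed
    have hfix : σ μ / σ l = l := by
      by_contra hcon
      have hdisj : Disjoint (Finset.univ.filter (fun k => d k = l))
          (Finset.univ.filter (fun k => d k = σ μ / σ l)) := by
        rw [Finset.disjoint_filter]
        intro k _ h1 h2
        exact hcon (h2.symm.trans h1)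
      have hle := Finset.card_le_univ ((Finset.univ.filter (fun k => d k = l)) ∪
        (Finset.univ.filter (fun k => d k = σ μ / σ l)))
      rw [Finset.card_union_of_disjoint hdisj, ← hsym l hl, Fintype.card_fin] at hle
      omega
    have hμ : σ μ = l * σ l := by
      calc σ μ = (σ μ / σ l) * σ l := (div_mul_cancel₀ _ hσl).symm
        _ = l * σ l := by rw [hfix]
    have hσd : σ (d k₀) ≠ 0 := fun h0 => hd k₀ ((map_eq_zero_iff σ σ.injective).mp h0)
    have h1 := hsym (d k₀) (hd k₀)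
    have hpos : 0 < (Finset.univ.filter (fun k => d k = d k₀)).card :=
      Finset.card_pos.mpr ⟨k₀, Finset.mem_filter.mpr ⟨Finset.mem_univ _, rfl⟩⟩
    have hzero : (Finset.univ.filter (fun k => d k = σ μ / σ (d k₀))).card = 0 := by
      rw [Finset.card_eq_zero, Finset.filter_eq_empty_iff]
      intro k _ hk
      apply hnot k
      rw [hk, div_mul_cancel₀ _ hσd, hμ]
    omega

end diagonal

section models
variable {F : Type*} [Field F] [Fintype F] {p : ℕ} [Fact p.Prime] [CharP F p] {σ : F ≃+* F}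

theorem dvd_card_sub_one {Q : ℕ} (hF : Fintype.card F = Q ^ 2) (r : ℕ) (hrQ : r ∣ Q - 1)
    (hQ : 1 ≤ Q) : r ∣ Fintype.card F - 1 := by
  have : Q ^ 2 - 1 = (Q + 1) * (Q - 1) := (succ_mul_pred Q hQ).symm
  rw [hF, this]
  exact Dvd.dvd.mul_left hrQ _

theorem sigma_root_eq {Q : ℕ} (hσQ : ∀ a : F, σ a = a ^ Q) (r : ℕ) (hrQ : r ∣ Q - 1) (hQ : 1 ≤ Q)
    (ζ : F) (hζ : ζ ^ r = 1) : σ ζ = ζ := by
  obtain ⟨k, hk⟩ := hrQ
  have h1 : Q = r * k + 1 := by omega
  rw [hσQ, h1, pow_succ, pow_mul, hζ, one_pow, one_mul]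

/-- The model `l • diag(ζ, 1, …, 1)` for `v_r(n) < v_r(q - 1)`. -/
theorem isDerModel_lt [DecidableEq F] {Q : ℕ} (hF : Fintype.card F = Q ^ 2)
    (hσ2 : ∀ a : F, σ (σ a) = a) (hσQ : ∀ a : F, σ a = a ^ Q) (r : ℕ) (hr : r.Prime)
    (hr2 : r ≠ 2) (hrQ : r ∣ Q - 1) (hQ : 1 ≤ Q) (n : ℕ) (hn : 3 ≤ n)
    (hv : padicValNat r n < padicValNat r (Fintype.card F - 1)) : IsDerModel σ r n := by
  obtain ⟨l, ζ, hζr, hζ1, hlζ⟩ := exists_scalar_root r hr (dvd_card_sub_one hF r hrQ hQ) n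
    (by omega) hv
  have hσζ : σ ζ = ζ := sigma_root_eq hσQ r hrQ hQ ζ hζr
  have hl : l ≠ 0 := by
    rintro rfl
    rw [zero_pow (by omega), zero_mul] at hlζ
    exact zero_ne_one hlζ
  have hσl : σ l ≠ 0 := fun h0 => hl ((map_eq_zero_iff σ σ.injective).mp h0)
  have hζ2 : ζ * ζ ≠ 1 := by
    intro h2
    -- ζ^2 = 1 and ζ^r = 1 with r odd give ζ = 1
    have h3 : ζ ^ 2 = 1 := by rw [sq]; exact h2
    have h4 := pow_gcd_eq_one.mpr ⟨h3, hζr⟩
    have hcop : Nat.gcd 2 r = 1 := by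
      rw [← Nat.coprime_iff_gcd_eq_one, Nat.coprime_primes Nat.prime_two hr]
      exact fun h => hr2 h.symm
    rw [hcop, pow_one] at h4
    exact hζ1 h4
  set k₀ : Fin n := ⟨0, by omega⟩ with hk₀
  set k₁ : Fin n := ⟨1, by omega⟩ with hk₁
  have h01 : k₁ ≠ k₀ := by
    intro h
    simpa [hk₀, hk₁] using congrArg Fin.val h
  set d : Fin n → F := fun k => l * (if k = k₀ then ζ else 1) with hd
  have hd0 : d k₀ = l * ζ := by rw [hd]; simp
  have hdk : ∀ k, k ≠ k₀ → d k = l := by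
    intro k hk
    rw [hd]
    simp [hk]
  refine isDerModel_diagonal hσ2 r d ?_ (l ^ r) ?_ k₀ k₁ ?_ l hl ?_ ?_
  · rw [hd, Finset.prod_mul_distrib, Finset.prod_const, Finset.card_univ, Fintype.card_fin,
      Finset.prod_ite_eq' Finset.univ k₀ (fun _ => ζ), if_pos (Finset.mem_univ _)]
    exact hlζ
  · intro k
    rw [hd]
    simp only
    rw [mul_pow]
    split_ifs
    · rw [hζr, mul_one]
    · rw [one_pow, mul_one]
  · rw [hd0, hdk k₁ h01]
    intro h
    apply hζ1
    have : l * ζ = l * 1 := by rw [h, mul_one]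
    exact mul_left_cancel₀ hl this
  · -- majority
    have hsub : (Finset.univ.filter (fun k => ¬ d k = l)) ⊆ {k₀} := by
      intro k hk
      rw [Finset.mem_filter] at hk
      rw [Finset.mem_singleton]
      by_contra hkk
      exact hk.2 (hdk k hkk)
    have h1 := Finset.card_le_card hsub
    rw [Finset.card_singleton] at h1
    have h2 := Finset.card_filter_add_card_filter_not (s := (Finset.univ : Finset (Fin n)))
      (fun k => d k = l)
    rw [Finset.card_univ, Fintype.card_fin] at h2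
    omega
  · intro k
    rw [hd0, map_mul, hσζ]
    by_cases hk : k = k₀
    · rw [hk, hd0]
      intro h
      apply hζ2
      have : l * σ l * (ζ * ζ) = l * σ l * 1 := by linear_combination h
      exact mul_left_cancel₀ (mul_ne_zero hl hσl) this
    · rw [hdk k hk]
      intro h
      apply hζ1
      have : l * σ l * ζ = l * σ l * 1 := by linear_combination h
      exact mul_left_cancel₀ (mul_ne_zero hl hσl) this

/-- The model `diag(ζ^a₁, ζ^a₂, ζ^a₃, 1, …, 1)` for `n ≥ 7`. -/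
theorem isDerModel_three [DecidableEq F] {Q : ℕ} (hF : Fintype.card F = Q ^ 2)
    (hσ2 : ∀ a : F, σ (σ a) = a) (hσQ : ∀ a : F, σ a = a ^ Q) (r : ℕ) (hr : r.Prime)
    (hrQ : r ∣ Q - 1) (hQ : 1 ≤ Q) (n : ℕ) (hn : 7 ≤ n) (a₁ a₂ a₃ : ℕ)
    (hsum : r ∣ a₁ + a₂ + a₃) (h1 : ¬ r ∣ a₁) (h2 : ¬ r ∣ a₁ + a₁) (h3 : ¬ r ∣ a₂ + a₁)
    (h4 : ¬ r ∣ a₃ + a₁) : IsDerModel σ r n := by
  obtain ⟨ζ, hζ0, hζord⟩ := exists_orderOf_eq (F := F) r (dvd_card_sub_one hF r hrQ hQ)
  have hζr : ζ ^ r = 1 := by rw [← hζord]; exact pow_orderOf_eq_one ζ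
  have hσζ : σ ζ = ζ := sigma_root_eq hσQ r hrQ hQ ζ hζr
  have hpow1 : ∀ m : ℕ, ¬ r ∣ m → ζ ^ m ≠ 1 := by
    intro m hm h
    exact hm (hζord ▸ orderOf_dvd_of_pow_eq_one h)
  set k₀ : Fin n := ⟨0, by omega⟩ with hk₀
  set k₁ : Fin n := ⟨1, by omega⟩ with hk₁
  set k₂ : Fin n := ⟨2, by omega⟩ with hk₂
  set k₃ : Fin n := ⟨3, by omega⟩ with hk₃
  have h10 : k₁ ≠ k₀ := by intro h; simpa [hk₀, hk₁] using congrArg Fin.val h
  have h20 : k₂ ≠ k₀ := by intro h; simpa [hk₀, hk₂] using congrArg Fin.val h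
  have h21 : k₂ ≠ k₁ := by intro h; simpa [hk₁, hk₂] using congrArg Fin.val h
  have h30 : k₃ ≠ k₀ := by intro h; simpa [hk₀, hk₃] using congrArg Fin.val h
  have h31 : k₃ ≠ k₁ := by intro h; simpa [hk₁, hk₃] using congrArg Fin.val h
  have h32 : k₃ ≠ k₂ := by intro h; simpa [hk₂, hk₃] using congrArg Fin.val h
  set d : Fin n → F := fun k => (if k = k₀ then ζ ^ a₁ else 1) * (if k = k₁ then ζ ^ a₂ else 1) *
    (if k = k₂ then ζ ^ a₃ else 1) with hd
  have hd0 : d k₀ = ζ ^ a₁ := by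
    rw [hd]; simp [h10.symm, h20.symm]
  have hd1 : d k₁ = ζ ^ a₂ := by
    rw [hd]; simp [h10, h21.symm]
  have hd2 : d k₂ = ζ ^ a₃ := by
    rw [hd]; simp [h20, h21]
  have hdk : ∀ k, k ≠ k₀ → k ≠ k₁ → k ≠ k₂ → d k = 1 := by
    intro k e0 e1 e2
    rw [hd]; simp [e0, e1, e2]
  refine isDerModel_diagonal hσ2 r d ?_ 1 ?_ k₀ k₃ ?_ 1 one_ne_zero ?_ ?_
  · rw [hd, Finset.prod_mul_distrib, Finset.prod_mul_distrib,
      Finset.prod_ite_eq' Finset.univ k₀ (fun _ => ζ ^ a₁), if_pos (Finset.mem_univ _),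
      Finset.prod_ite_eq' Finset.univ k₁ (fun _ => ζ ^ a₂), if_pos (Finset.mem_univ _),
      Finset.prod_ite_eq' Finset.univ k₂ (fun _ => ζ ^ a₃), if_pos (Finset.mem_univ _),
      ← pow_add, ← pow_add]
    obtain ⟨m, hm⟩ := hsum
    rw [hm, pow_mul, hζr, one_pow]
  · intro k
    rw [hd]
    simp only
    rw [mul_pow, mul_pow]
    have e : ∀ a : ℕ, (ζ ^ a) ^ r = 1 := fun a => by rw [← pow_mul, mul_comm, pow_mul, hζr, one_pow]
    split_ifs <;> simp [e]
  · rw [hd0, hdk k₃ h30 h31 h32]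
    exact hpow1 a₁ h1
  · have hsub : (Finset.univ.filter (fun k => ¬ d k = 1)) ⊆ {k₀, k₁, k₂} := by
      intro k hk
      rw [Finset.mem_filter] at hk
      simp only [Finset.mem_insert, Finset.mem_singleton]
      by_contra hkk
      push Not at hkk
      exact hk.2 (hdk k hkk.1 hkk.2.1 hkk.2.2)
    have h5 := Finset.card_le_card hsub
    have h6 : ({k₀, k₁, k₂} : Finset (Fin n)).card ≤ 3 := Finset.card_le_three
    have h7 := Finset.card_filter_add_card_filter_not (s := (Finset.univ : Finset (Fin n)))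
      (fun k => d k = 1)
    rw [Finset.card_univ, Fintype.card_fin] at h7
    omega
  · intro k
    rw [hd0, map_pow, hσζ, map_one, mul_one]
    by_cases e0 : k = k₀
    · rw [e0, hd0, ← pow_add]
      exact hpow1 _ h2
    · by_cases e1 : k = k₁
      · rw [e1, hd1, ← pow_add]
        exact hpow1 _ h3
      · by_cases e2 : k = k₂
        · rw [e2, hd2, ← pow_add]
          exact hpow1 _ h4
        · rw [hdk k e0 e1 e2, one_mul]
          exact hpow1 _ h1

/-- For an odd prime `r ∣ Q - 1` and `n ≥ 7` there is always a derangement. -/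
theorem isDerModel_of_seven_le [DecidableEq F] {Q : ℕ} (hF : Fintype.card F = Q ^ 2)
    (hσ2 : ∀ a : F, σ (σ a) = a) (hσQ : ∀ a : F, σ a = a ^ Q) (r : ℕ) (hr : r.Prime)
    (hr2 : r ≠ 2) (hrQ : r ∣ Q - 1) (hQ : 1 ≤ Q) (n : ℕ) (hn : 7 ≤ n) : IsDerModel σ r n := by
  have hr2' : 2 ≤ r := hr.two_le
  by_cases hr3 : r = 3
  · subst hr3
    exact isDerModel_three hF hσ2 hσQ 3 hr hrQ hQ n hn 1 1 1 (by norm_num) (by norm_num)
      (by norm_num) (by norm_num) (by norm_num)
  by_cases hr5 : r = 5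
  · subst hr5
    exact isDerModel_three hF hσ2 hσQ 5 hr hrQ hQ n hn 1 2 2 (by norm_num) (by norm_num)
      (by norm_num) (by norm_num) (by norm_num)
  have hr7 : 7 ≤ r := by
    by_contra hlt
    have : r = 4 ∨ r = 6 := by omega
    rcases this with rfl | rfl
    · exact absurd hr (by norm_num)
    · exact absurd hr (by norm_num)
  refine isDerModel_three hF hσ2 hσQ r hr hrQ hQ n hn 1 2 (r - 3) ⟨1, by omega⟩ ?_ ?_ ?_ ?_
  · intro h; have := Nat.le_of_dvd (by norm_num) h; omega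
  · intro h; have := Nat.le_of_dvd (by norm_num) h; omega
  · intro h; have := Nat.le_of_dvd (by norm_num) h; omega
  · intro h
    have : r - 3 + 1 = r - 2 := by omega
    rw [this] at h
    have := Nat.le_of_dvd (by omega) h
    omega

end models

end Cfsg.Agent.Lib.Helper4.SimU
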