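import Mathlib
import Cfsg.Agent.Lib.Helper4.SimU6
import Cfsg.Agent.Lib.Lead.SimU_KSC
import Cfsg.Agent.Lib.Helper1.SubF_EIG
import Cfsg.Agent.Lib.Helper1.SubF_CENT
import Cfsg.Agent.Lib.Helper9.GReal6

set_option autoImplicit false
set_option linter.unusedSectionVars false
set_option linter.style.haveILetI false

/-! The Kummer and one-block derangement models, and the semisimple positive direction. -/

namespace Cfsg.Agent.Lib.Helper4.SimU

open Module Polynomial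
open Cfsg.Agent.Lib.Helper5.PSLCoset
open Cfsg.Agent.H9SemiInv Cfsg.Agent.Lib.Helper9.H9Elus Cfsg.Agent.Lib.Helper4.EqDec

section models
variable {F : Type*} [Field F] [Fintype F] {p : ℕ} [Fact p.Prime] [CharP F p] {σ : F ≃+* F}

theorem exists_form_ne {n : ℕ} (hn : 1 ≤ n) (H : (Fin n → F) → (Fin n → F) → F) (hnd : Nondeg H) :
    ∃ u v, H u v ≠ 0 := by
  apply hnd.exists_ne
  refine ⟨Pi.single ⟨0, hn⟩ 1, ?_⟩
  intro h
  have := congrFun h ⟨0, hn⟩
  simp at this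

/-- The Kummer model: `x ^ r = z`, `z` not an `r`-th power, exists in `SL_n` when
`v_r(q - 1) < v_r(n)` and is a derangement. -/
theorem isDerModel_kummer {Q : ℕ} (hF : Fintype.card F = Q ^ 2) (hσQ : ∀ a : F, σ a = a ^ Q)
    (r : ℕ) (hr : r.Prime) (hrQ : r ∣ Q - 1) (hQ : 1 ≤ Q) (hneg : r = 2 → ∃ i : F, i ^ 2 = -1)
    (n : ℕ) (hv : padicValNat r (Fintype.card F - 1) < padicValNat r n) : IsDerModel σ r n := by
  have hrq := dvd_card_sub_one hF r hrQ hQ
  obtain ⟨z, hz, hdet⟩ := exists_kummer_scalar r hr hrq hneg n hv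
  have hn0 : n ≠ 0 := by
    rintro rfl
    simp at hv
  have hrn : r ∣ n := by
    haveI : Fact r.Prime := ⟨hr⟩
    exact dvd_of_one_le_padicValNat (by omega)
  obtain ⟨x, hx, hinv⟩ := model_irred r hr z hz n hrn hdet
  have hz0 : z ≠ 0 := by
    intro h0
    exact hz 0 (by rw [zero_pow hr.ne_zero, h0])
  refine ⟨(x : Matrix (Fin n) (Fin n) F), x.2, ⟨z, ?_⟩, ?_, ?_⟩
  · rw [← Matrix.SpecialLinearGroup.coe_pow]
    exact hx
  · intro c hc
    have hn1 : 1 ≤ n := by omega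
    set v : Fin n → F := Pi.single ⟨0, hn1⟩ 1 with hv'
    have hv0 : v ≠ 0 := by
      intro h
      have := congrFun h ⟨0, hn1⟩
      simp [hv'] at this
    have h1 := hinv (Submodule.span F {v}) (by
      rw [Submodule.map_span, Submodule.span_le]
      rintro _ ⟨w, hw, rfl⟩
      rw [Set.mem_singleton_iff] at hw
      rw [hw, hc, map_smul, Matrix.toLin'_one, LinearMap.smul_apply, LinearMap.id_apply]
      exact Submodule.smul_mem _ _ (Submodule.subset_span rfl))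
    rw [finrank_span_singleton hv0] at h1
    have := Nat.le_of_dvd one_pos h1
    have := hr.two_le
    omega
  · intro H μ hH hnd hs
    have hn1 : 1 ≤ n := by omega
    have hne := exists_form_ne hn1 H hnd
    have ht : Matrix.toLin' (x : Matrix (Fin n) (Fin n) F) ^ r = z • 1 := by
      rw [← Matrix.toLin'_pow, ← Matrix.SpecialLinearGroup.coe_pow, hx, map_smul,
        Matrix.toLin'_one]
      rfl
    have h1 := pow_div_eq_one_of_isSim hF hσQ r hr.ne_zero hrQ hQ hH hne _ μ z hz0 hs ht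
    obtain ⟨b, hb⟩ := exists_pow_eq_of_pow_div_eq_one r hr hrq z h1
    exact hz b hb

/-- The one-block model for `ord_r(q) ≥ 2`. -/
theorem isDerModel_one_block {Q : ℕ} (hF : Fintype.card F = Q ^ 2) (hσ2 : ∀ a : F, σ (σ a) = a)
    (hσQ : ∀ a : F, σ a = a ^ Q) (r : ℕ) [Fact r.Prime] (hr2 : r ≠ 2) (hrp : r ≠ p)
    (hc2 : 2 ≤ orderOf ((Fintype.card F : ℕ) : ZMod r)) (n : ℕ)
    (hcn : orderOf ((Fintype.card F : ℕ) : ZMod r) ≤ n) (i : ℕ)
    (hi : (-(Q : ZMod r)) ^ i = -1) : IsDerModel σ r n := by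
  obtain ⟨x, hx, hns, hfix⟩ := model_one_block (F := F) r hrp n hc2 hcn
  refine ⟨(x : Matrix (Fin n) (Fin n) F), x.2, ⟨1, ?_⟩, hns, ?_⟩
  · rw [← Matrix.SpecialLinearGroup.coe_pow, hx, one_smul]
  · intro H μ hH hnd hs
    have hy : Matrix.toLin' (x : Matrix (Fin n) (Fin n) F) ^ r = 1 := by
      rw [← Matrix.toLin'_pow, ← Matrix.SpecialLinearGroup.coe_pow, hx, Matrix.toLin'_one]
      rfl
    have hy1 : Matrix.toLin' (x : Matrix (Fin n) (Fin n) F) ≠ 1 := by
      intro h1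
      apply hns 1
      have := congrArg LinearMap.toMatrix' h1
      rw [LinearMap.toMatrix'_toLin', LinearMap.toMatrix'_one] at this
      rw [this, one_smul]
    refine no_sim_of_small_cyc (p := p) hF hσ2 hσQ r hr2 hrp hc2 i hi H hH hnd _ hy hy1 μ hs ?_
    rw [Module.finrank_fin_fun]
    have : n - orderOf ((Fintype.card F : ℕ) : ZMod r) ≤
        finrank F ↥(fixE (Matrix.toLin' (x : Matrix (Fin n) (Fin n) F))) := hfix
    omega

end models

section positive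
variable {F : Type*} [Field F] [Fintype F] {p : ℕ} [Fact p.Prime] [CharP F p] {σ : F ≃+* F}
  {n : ℕ}

/-- Positive direction for semisimple elements: an eigenbasis with an involution pairing the
eigenvalues. -/
theorem conj_mem_of_eigen {Q : ℕ} (hσ : orderOf σ = 2) (hσ2 : ∀ a : F, σ (σ a) = a)
    (hσQ : ∀ a : F, σ a = a ^ Q) (hn : 1 ≤ n)
    (f : (Fin n → F) → (Fin n → F) → F) (hf : Cfsg.Geo.IsUnitaryFormPow Q f)
    (r : ℕ) (hr0 : r ≠ 0) (hrp : ¬ p ∣ r) (x : GL (Fin n) F) (z : F) (hz : z ≠ 0)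
    (hx : Matrix.toLin' (x : Matrix (Fin n) (Fin n) F) ^ r = z • 1)
    {ι : Type*} [Fintype ι] (b : Basis ι F (Fin n → F)) (ν : ι → F)
    (hb : ∀ k, Matrix.toLin' (x : Matrix (Fin n) (Fin n) F) (b k) = ν k • b k)
    (π : ι → ι) (hπ : Function.Involutive π) (μ : F) (hμ0 : μ ≠ 0)
    (hμ : ∀ k, ν k * σ (ν (π k)) = μ) :
    ∃ g ∈ Cfsg.Geo.specialLinear (Fin n) F, g⁻¹ * x * g ∈ Cfsg.Geo.similarityGroup f := by
  haveI : Nontrivial (Fin n → F) := by
    haveI : Nonempty (Fin n) := ⟨⟨0, hn⟩⟩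
    infer_instance
  refine conj_mem_of_isSim hσ hσQ f hf x (piForm σ b π) μ hμ0 (isHerm_piForm hσ2 b π hπ)
    (nondeg_piForm b π hπ) (isSim_piForm_of_eigen hσ2 b π hπ _ ν hb μ hμ) ?_
  intro δ hδ
  exact Cfsg.Agent.Lib.Helper6.SubF.exists_commute_det_of_pow_eq_smul (p := p) r hr0 hrp z hz _ hx
    δ hδ

/-- `r = 2`, odd characteristic, `x ^ 2 = w ^ 2`. -/
theorem conj_mem_of_sq {Q : ℕ} (hσ : orderOf σ = 2) (hσ2 : ∀ a : F, σ (σ a) = a)
    (hσQ : ∀ a : F, σ a = a ^ Q) (hQodd : Odd Q) (hp2 : p ≠ 2) (hF : Fintype.card F = Q ^ 2)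
    (hn : 1 ≤ n) (f : (Fin n → F) → (Fin n → F) → F) (hf : Cfsg.Geo.IsUnitaryFormPow Q f)
    (x : GL (Fin n) F) (w : F) (hw : w ≠ 0)
    (hx : Matrix.toLin' (x : Matrix (Fin n) (Fin n) F) ^ 2 = (w ^ 2) • 1) :
    ∃ g ∈ Cfsg.Geo.specialLinear (Fin n) F, g⁻¹ * x * g ∈ Cfsg.Geo.similarityGroup f := by
  have hp : p.Prime := Fact.out
  set t := Matrix.toLin' (x : Matrix (Fin n) (Fin n) F) with ht
  set y : (Fin n → F) →ₗ[F] (Fin n → F) := w⁻¹ • t with hy
  have hy2 : y ^ 2 = 1 := by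
    rw [hy, _root_.smul_pow, hx, smul_smul, inv_pow, inv_mul_cancel₀ (pow_ne_zero 2 hw), one_smul]
  haveI : Fact (Nat.Prime 2) := ⟨Nat.prime_two⟩
  have h2q : 2 ∣ Fintype.card F - 1 := by
    rw [hF]
    obtain ⟨m, hm⟩ := hQodd
    have : Q ^ 2 - 1 = 2 * (2 * m * m + 2 * m) := by
      rw [hm]
      apply Nat.sub_eq_of_eq_add
      ring
    rw [this]
    exact Dvd.intro _ rfl
  obtain ⟨b, lam, hb⟩ := Cfsg.Agent.Lib.Helper6.SubF.exists_eigenbasis (p := p) 2
    (fun h => hp2 h.symm) h2q y hy2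
  have hlam2 : ∀ k, lam k ^ 2 = 1 := by
    intro k
    have h1 : (y ^ 2) (b k) = (lam k ^ 2) • b k := by
      rw [pow_two, Module.End.mul_apply, hb, map_smul, hb, smul_smul, pow_two]
    rw [hy2, Module.End.one_apply] at h1
    have h2 : ((1 : F) - lam k ^ 2) • b k = 0 := by
      rw [sub_smul, one_smul, ← h1, sub_self]
    rcases smul_eq_zero.mp h2 with h3 | h3
    · exact (sub_eq_zero.mp h3).symm
    · exact absurd h3 (b.ne_zero k)
  have htb : ∀ k, t (b k) = (w * lam k) • b k := by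
    intro k
    have h1 := hb k
    rw [hy, LinearMap.smul_apply] at h1
    rw [mul_smul, ← h1, smul_smul, mul_inv_cancel₀ hw, one_smul]
  have hσw : σ w ≠ 0 := fun h0 => hw ((map_eq_zero_iff σ σ.injective).mp h0)
  refine conj_mem_of_eigen (p := p) hσ hσ2 hσQ hn f hf 2 two_ne_zero ?_ x (w ^ 2)
    (pow_ne_zero 2 hw) hx b (fun k => w * lam k) htb id (fun _ => rfl) (w * σ w)
    (mul_ne_zero hw hσw) ?_
  · intro h
    exact hp2 ((Nat.prime_dvd_prime_iff_eq hp Nat.prime_two).mp h)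
  · intro k
    rw [id, map_mul, hσQ (lam k)]
    obtain ⟨m, hm⟩ := hQodd
    have h1 : lam k * lam k ^ Q = 1 := by
      rw [← pow_succ', hm]
      have : 2 * m + 1 + 1 = 2 * (m + 1) := by ring
      rw [this, pow_mul, hlam2, one_pow]
    calc w * lam k * (σ w * lam k ^ Q) = w * σ w * (lam k * lam k ^ Q) := by ring
      _ = w * σ w := by rw [h1, mul_one]

end positive

end Cfsg.Agent.Lib.Helper4.SimU
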