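import Mathlib
import Cfsg.Agent.Lib.Helper4.SimU2

set_option autoImplicit false

/-! PK-CH2: in characteristic 2 every `1 + N` with `N * N = 0` is an isometry of some nondegenerate
Hermitian form. -/

namespace Cfsg.Agent.Lib.Helper4.SimU

open Module Cfsg.Agent.Lib.Helper5.PSLCoset

section char2

/-- the involution of the index set of the adapted basis -/
def ch2Pi (k m : ℕ) : (Fin k ⊕ Fin m) ⊕ Fin k → (Fin k ⊕ Fin m) ⊕ Fin k
  | Sum.inr i => Sum.inl (Sum.inl i)
  | Sum.inl (Sum.inl i) => Sum.inr i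
  | Sum.inl (Sum.inr j) => Sum.inl (Sum.inr j)

theorem ch2Pi_involutive (k m : ℕ) : Function.Involutive (ch2Pi k m) := by
  rintro ((i | j) | i) <;> rfl

/-- A basis adapted to a square-zero endomorphism. -/
theorem exists_basis_of_sq_zero {F : Type*} [Field F] {V : Type*} [AddCommGroup V] [Module F V]
    [FiniteDimensional F V] (N : V →ₗ[F] V) (hN : N * N = 0) :
    ∃ (k m : ℕ) (b : Basis ((Fin k ⊕ Fin m) ⊕ Fin k) F V),
      (∀ i, N (b (Sum.inr i)) = b (Sum.inl (Sum.inl i))) ∧ ∀ x, N (b (Sum.inl x)) = 0 := by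
  have hNN : ∀ v, N (N v) = 0 := fun v => by
    have := LinearMap.congr_fun hN v
    simpa using this
  obtain ⟨W, hW⟩ := Submodule.exists_isCompl (LinearMap.ker N)
  let g : W →ₗ[F] LinearMap.ker N := (N.comp W.subtype).codRestrict (LinearMap.ker N) (fun w => by
    rw [LinearMap.mem_ker]; exact hNN _)
  have hg : ∀ w : W, (g w : V) = N w := fun w => rfl
  have hginj : Function.Injective g := by
    rw [← LinearMap.ker_eq_bot, LinearMap.ker_eq_bot']
    intro w hw
    have h1 : N (w : V) = 0 := by rw [← hg, hw]; rfl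
    have h2 : (w : V) ∈ LinearMap.ker N ⊓ W := Submodule.mem_inf.mpr ⟨LinearMap.mem_ker.mpr h1, w.2⟩
    rw [hW.inf_eq_bot] at h2
    exact Subtype.ext ((Submodule.mem_bot F).mp h2)
  obtain ⟨T, hT⟩ := Submodule.exists_isCompl (LinearMap.range g)
  let bW := Module.finBasis F W
  let bT := Module.finBasis F T
  let eR : W ≃ₗ[F] LinearMap.range g := LinearEquiv.ofInjective g hginj
  let bR := bW.map eR
  let bK := (bR.prod bT).map (Submodule.prodEquivOfIsCompl _ _ hT)
  let b := (bK.prod bW).map (Submodule.prodEquivOfIsCompl _ _ hW)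
  have hbl : ∀ x, b (Sum.inl x) = (bK x : V) := by
    intro x
    simp [b]
  have hbr : ∀ i, b (Sum.inr i) = (bW i : V) := by
    intro i
    simp [b]
  have hbKl : ∀ i, (bK (Sum.inl i) : V) = N (bW i) := by
    intro i
    simp [bK, bR, eR, hg]
  refine ⟨finrank F W, finrank F T, b, ?_, ?_⟩
  · intro i
    rw [hbr, hbl, hbKl]
  · intro x
    rw [hbl]
    exact (bK x).2

variable {F : Type*} [Field F] [Finite F] [CharP F 2] {V : Type*} [AddCommGroup V] [Module F V]
  [FiniteDimensional F V]

theorem exists_form_of_sq_zero {σ : F ≃+* F} (hσ2 : ∀ a : F, σ (σ a) = a) (N : V →ₗ[F] V)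
    (hN : N * N = 0) : ∃ H : V → V → F, IsHerm σ H ∧ Nondeg H ∧ IsSim H (1 + N) 1 := by
  classical
  obtain ⟨k, m, b, hb1, hb2⟩ := exists_basis_of_sq_zero N hN
  have hπ := ch2Pi_involutive k m
  have h := isHerm_piForm hσ2 b (ch2Pi k m) hπ
  refine ⟨piForm σ b (ch2Pi k m), h, nondeg_piForm b _ hπ, ?_⟩
  apply isSim_of_basis h b
  have h11 : (1 : F) + 1 = 0 := CharTwo.add_self_eq_zero 1
  rintro (x | i) (y | i')
  · simp only [LinearMap.add_apply, Module.End.one_apply, hb2, add_zero]
    rw [one_mul]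
  · simp only [LinearMap.add_apply, Module.End.one_apply, hb2, hb1, add_zero]
    simp only [h.add_right, piForm_basis, one_mul]
    rcases x with i | j <;> simp [ch2Pi]
  · simp only [LinearMap.add_apply, Module.End.one_apply, hb2, hb1, add_zero]
    simp only [h.add_left, piForm_basis, one_mul]
    rcases y with i' | j <;> simp [ch2Pi]
  · simp only [LinearMap.add_apply, Module.End.one_apply, hb1]
    simp only [h.add_left, h.add_right, piForm_basis, one_mul]
    by_cases hii : i' = i
    · subst hii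
      simp [ch2Pi, h11]
    · simp [ch2Pi, hii]

end char2

end Cfsg.Agent.Lib.Helper4.SimU
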