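import Mathlib
import Cfsg.Agent.Lib.Helper6.SubF_Comb

set_option autoImplicit false

/-! PK-COMB: every family `a : Fin r → ZMod r` with sum zero is symmetric about a point, `r ∈ {3, 5}`
(from helper6's `symm_r`). -/

namespace Cfsg.Agent.Lib.Helper4.SimU

theorem exists_symm_center (r : ℕ) (hr : r = 3 ∨ r = 5) (a : Fin r → ZMod r)
    (hsum : ∑ k, a k = 0) :
    ∃ t : ZMod r, ∀ j : ZMod r, (Finset.univ.filter (fun k => a k = t - j)).card =
      (Finset.univ.filter (fun k => a k = j)).card := by
  haveI : NeZero r := ⟨by rcases hr with rfl | rfl <;> norm_num⟩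
  set m : ZMod r → ℕ := fun u => (Finset.univ.filter (fun k => a k = u)).card with hm
  have hs : ∑ u, m u = r := by
    have h1 := Finset.card_eq_sum_card_fiberwise (f := a) (s := Finset.univ) (t := Finset.univ)
      (fun x _ => Finset.mem_univ _)
    rw [Finset.card_univ, Fintype.card_fin] at h1
    exact h1.symm
  have hw : ∑ u, (m u : ZMod r) * u = 0 := by
    rw [← hsum, ← Finset.sum_fiberwise Finset.univ a a]
    apply Finset.sum_congr rfl
    intro u _
    have h2 : ∑ i ∈ Finset.univ.filter (fun k => a k = u), a i =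
        ∑ _i ∈ Finset.univ.filter (fun k => a k = u), u := by
      apply Finset.sum_congr rfl
      intro i hi
      exact (Finset.mem_filter.mp hi).2
    rw [h2, Finset.sum_const, nsmul_eq_mul]
  obtain ⟨a₀, ha₀⟩ := Cfsg.Agent.Lib.Helper6.SubF.symm_r r hr m hs hw
  refine ⟨a₀ + a₀, ?_⟩
  intro j
  have h1 := ha₀ (a₀ - j)
  have e1 : a₀ + (a₀ - j) = a₀ + a₀ - j := by ring
  have e2 : a₀ - (a₀ - j) = j := by ring
  rw [e1, e2] at h1
  exact h1

end Cfsg.Agent.Lib.Helper4.SimU
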