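import Mathlib

set_option autoImplicit false

/-! PK-INV: an involution of the index set lifting an involution of the values. -/

namespace Cfsg.Agent.Lib.Helper4.SimU

section comb
variable {ι κ : Type*} [Fintype ι] [DecidableEq ι] [DecidableEq κ]

/-- transport between two fibres of the same size -/
noncomputable def invAux (a : ι → κ) (j j' : κ)
    (h : Fintype.card {k // a k = j} = Fintype.card {k // a k = j'}) (k : {k // a k = j}) :
    {k // a k = j'} :=
  (Fintype.equivFin {k // a k = j'}).symm (Fin.cast h (Fintype.equivFin {k // a k = j} k))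

theorem invAux_invAux (a : ι → κ) (j j' : κ)
    (h : Fintype.card {k // a k = j} = Fintype.card {k // a k = j'}) (k : {k // a k = j}) :
    invAux a j' j h.symm (invAux a j j' h k) = k := by
  unfold invAux
  rw [Equiv.apply_symm_apply]
  simp

theorem exists_involutive_lift (a : ι → κ) (τ : κ → κ) (hτ : Function.Involutive τ)
    (hcard : ∀ j, (Finset.univ.filter (fun k => a k = j)).card =
      (Finset.univ.filter (fun k => a k = τ j)).card) :
    ∃ π : ι → ι, Function.Involutive π ∧ ∀ k, a (π k) = τ (a k) := by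
  have hm : ∀ j, Fintype.card {k // a k = j} = Fintype.card {k // a k = τ j} := by
    intro j
    rw [Fintype.card_subtype, Fintype.card_subtype]
    exact hcard j
  set π : ι → ι := fun k => (invAux a (a k) (τ (a k)) (hm (a k)) ⟨k, rfl⟩).1 with hπ
  have hπa : ∀ k, a (π k) = τ (a k) := fun k => (invAux a (a k) (τ (a k)) (hm (a k)) ⟨k, rfl⟩).2
  have hgen : ∀ (j : κ) (k' : ι) (hk' : a k' = j) (j'' : κ) (_ : τ j = j'')
      (h : Fintype.card {k // a k = j} = Fintype.card {k // a k = j''}),
      π k' = (invAux a j j'' h ⟨k', hk'⟩).1 := by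
    intro j k' hk' j'' hj'' h
    subst hk'
    subst hj''
    rfl
  refine ⟨π, ?_, hπa⟩
  intro k
  have h1 := hgen (τ (a k)) (π k) (hπa k) (a k) (hτ (a k)) (hm (a k)).symm
  rw [h1]
  have h2 : (⟨π k, hπa k⟩ : {k' // a k' = τ (a k)}) =
      invAux a (a k) (τ (a k)) (hm (a k)) ⟨k, rfl⟩ := Subtype.ext rfl
  rw [h2, invAux_invAux]

end comb

end Cfsg.Agent.Lib.Helper4.SimU
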