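import Mathlib
import Cfsg.Agent.Lib.Helper4.SimU7
import Cfsg.Agent.Lib.Helper4.SimU_INV
import Cfsg.Agent.Lib.Helper4.SimU_COMB
import Cfsg.Agent.Lib.Helper4.SimU_CH2

set_option autoImplicit false
set_option linter.unusedSectionVars false
set_option linter.style.haveILetI false

/-! Positive direction: characteristic two involutions and the special cases `n = r ∈ {3, 5}`. -/

namespace Cfsg.Agent.Lib.Helper4.SimU

open Module Polynomial
open Cfsg.Agent.Lib.Helper5.PSLCoset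
open Cfsg.Agent.H9SemiInv Cfsg.Agent.Lib.Helper9.H9Elus Cfsg.Agent.Lib.Helper4.EqDec

section chartwo
variable {F : Type*} [Field F] [Fintype F] {σ : F ≃+* F} {n : ℕ}

/-- `r = p = 2`. -/
theorem conj_mem_char_two [CharP F 2] {Q : ℕ} (hσ : orderOf σ = 2) (hσ2 : ∀ a : F, σ (σ a) = a)
    (hσQ : ∀ a : F, σ a = a ^ Q)
    (f : (Fin n → F) → (Fin n → F) → F) (hf : Cfsg.Geo.IsUnitaryFormPow Q f)
    (x : GL (Fin n) F) (z : F) (hz : z ≠ 0)
    (hx : Matrix.toLin' (x : Matrix (Fin n) (Fin n) F) ^ 2 = z • 1)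
    (hns : ∀ c : F, Matrix.toLin' (x : Matrix (Fin n) (Fin n) F) ≠ c • 1) :
    ∃ g ∈ Cfsg.Geo.specialLinear (Fin n) F, g⁻¹ * x * g ∈ Cfsg.Geo.similarityGroup f := by
  have hsq : ∀ a : F, ∃ b : F, b * b = a := by
    intro a
    obtain ⟨b, hb⟩ := FiniteField.isSquare_of_char_two (ringChar.eq F 2) a
    exact ⟨b, hb.symm⟩
  obtain ⟨w, hw⟩ := hsq z
  have hw0 : w ≠ 0 := by
    rintro rfl
    rw [mul_zero] at hw
    exact hz hw.symm
  set t := Matrix.toLin' (x : Matrix (Fin n) (Fin n) F) with ht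
  set a : (Fin n → F) →ₗ[F] (Fin n → F) := w⁻¹ • t with ha
  have ha2 : a * a = 1 := by
    rw [ha, smul_mul_smul_comm, ← pow_two t, hx, smul_smul, ← hw]
    have : w⁻¹ * w⁻¹ * (w * w) = 1 := by field_simp
    rw [this, one_smul]
  have h2F : (2 : F) = 0 := CharTwo.two_eq_zero
  have hdbl : ∀ g : (Fin n → F) →ₗ[F] (Fin n → F), g + g = 0 := by
    intro g
    rw [← two_smul F g, h2F, zero_smul]
  set N : (Fin n → F) →ₗ[F] (Fin n → F) := a - 1 with hN
  have hNN : N * N = 0 := by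
    have : N * N = a * a - (a + a) + 1 := by
      rw [hN]
      simp only [sub_mul, mul_sub, mul_one, one_mul]
      abel
    rw [this, ha2, hdbl a, sub_zero, hdbl 1]
  have haN : a = 1 + N := by rw [hN]; abel
  obtain ⟨H, hH, hnd, hs1⟩ := exists_form_of_sq_zero hσ2 N hNN
  have htN : t = w • (1 + N) := by
    rw [← haN, ha, smul_smul, mul_inv_cancel₀ hw0, one_smul]
  have hst : IsSim H t (w * σ w * 1) := by
    rw [htN]
    exact hs1.smul hH w
  have hσw : σ w ≠ 0 := fun h0 => hw0 ((map_eq_zero_iff σ σ.injective).mp h0)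
  have hN0 : N ≠ 0 := by
    intro h0
    apply hns w
    rw [htN, h0, add_zero]
  refine conj_mem_of_isSim hσ hσQ f hf x H (w * σ w * 1)
    (mul_ne_zero (mul_ne_zero hw0 hσw) one_ne_zero) hH hnd hst ?_
  intro δ _
  obtain ⟨α, hα⟩ := hsq δ
  obtain ⟨c, hcN, hcdet⟩ := Cfsg.Agent.Lib.Helper9.H9GReal.cent_nil N 2 (by norm_num)
    (by rw [pow_two]; exact hNN) (by rw [show 2 - 1 = 1 from rfl, pow_one]; exact hN0) α
  refine ⟨c, by rw [hcdet, pow_two, hα], ?_⟩
  intro v
  show c (t v) = t (c v)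
  rw [htN]
  simp only [LinearMap.smul_apply, LinearMap.add_apply, Module.End.one_apply, map_smul, map_add,
    hcN]

end chartwo

section special
variable {F : Type*} [Field F] [Fintype F] {p : ℕ} [Fact p.Prime] [CharP F p] {σ : F ≃+* F}
  {n : ℕ}

theorem pow_eq_pow_of_zmod_eq (r : ℕ) (hr : 0 < r) (ζ : F) (hζ : ζ ^ r = 1) (m m' : ℕ)
    (h : (m : ZMod r) = (m' : ZMod r)) : ζ ^ m = ζ ^ m' := by
  have e : ∀ k : ℕ, ζ ^ k = ζ ^ (k % r) := by
    intro k
    conv_lhs => rw [← Nat.div_add_mod k r]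
    rw [pow_add, pow_mul, hζ, one_pow, one_mul]
  rw [e m, e m', (ZMod.natCast_eq_natCast_iff' m m' r).mp h]

/-- The pairing involution for `n = r ∈ {3, 5}`, `v_r(q - 1) = 1`. -/
theorem exists_involution_of_special {Q : ℕ} (hF : Fintype.card F = Q ^ 2)
    (hσQ : ∀ a : F, σ a = a ^ Q) (r : ℕ) [Fact r.Prime] (hr35 : r = 3 ∨ r = 5)
    (hrQ : r ∣ Q - 1) (hQ : 1 ≤ Q) (hs1 : padicValNat r (Fintype.card F - 1) = 1)
    {ι : Type*} [Fintype ι] [DecidableEq ι] (hcard : Fintype.card ι = r) (w : F) (hw : w ≠ 0)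
    (lam : ι → F) (hlam : ∀ k, lam k ^ r = 1) (hdet : ∏ k, (w * lam k) = 1) :
    ∃ (π : ι → ι) (μ : F), Function.Involutive π ∧ μ ≠ 0 ∧
      ∀ k, (w * lam k) * σ (w * lam (π k)) = μ := by
  classical
  have hr : r.Prime := Fact.out
  haveI : NeZero r := ⟨hr.ne_zero⟩
  have hrq := dvd_card_sub_one hF r hrQ hQ
  obtain ⟨ζ, hζ0, hord⟩ := exists_orderOf_eq (F := F) r hrq
  have hζr : ζ ^ r = 1 := by rw [← hord]; exact pow_orderOf_eq_one ζ
  have hprim : IsPrimitiveRoot ζ r := by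
    rw [← hord]
    exact IsPrimitiveRoot.orderOf ζ
  have hex : ∀ k, ∃ i : ℕ, i < r ∧ ζ ^ i = lam k := fun k => hprim.eq_pow_of_pow_eq_one (hlam k)
  choose e he using hex
  set a : ι → ZMod r := fun k => (e k : ZMod r) with ha
  have hval : ∀ k, (a k).val = e k := fun k => ZMod.val_natCast_of_lt (he k).1
  have hlam' : ∀ k, lam k = ζ ^ (a k).val := fun k => by rw [hval, (he k).2]
  -- the sum of the exponents vanishes
  have hprod : ∏ k, (w * lam k) = w ^ r * ζ ^ (∑ k, e k) := by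
    rw [Finset.prod_mul_distrib, Finset.prod_const, Finset.card_univ, hcard,
      ← Finset.prod_pow_eq_pow_sum]
    congr 1
    apply Finset.prod_congr rfl
    intro k _
    exact (he k).2.symm
  rw [hprod] at hdet
  have hq1 : Fintype.card F - 1 = r * ((Fintype.card F - 1) / r) :=
    (Nat.mul_div_cancel' hrq).symm
  set E := (Fintype.card F - 1) / r with hE
  have hrE : ¬ r ∣ E := by
    intro hd
    obtain ⟨m, hm⟩ := hd
    have h2 : r ^ 2 ∣ Fintype.card F - 1 := by
      rw [hq1, hm]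
      exact ⟨m, by ring⟩
    have hne : Fintype.card F - 1 ≠ 0 := by
      have : 1 < Fintype.card F := Fintype.one_lt_card
      omega
    have := (padicValNat_dvd_iff_le hne).mp h2
    omega
  have hsum : r ∣ ∑ k, e k := by
    have h1 : (w ^ r * ζ ^ (∑ k, e k)) ^ E = 1 := by rw [hdet, one_pow]
    rw [mul_pow, ← pow_mul, ← hq1, FiniteField.pow_card_sub_one_eq_one w hw, one_mul,
      ← pow_mul] at h1
    have h2 := orderOf_dvd_of_pow_eq_one h1
    rw [hord] at h2
    rcases (Nat.Prime.dvd_mul hr).mp h2 with h3 | h3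
    · exact h3
    · exact absurd h3 hrE
  have hasum : ∑ k, a k = 0 := by
    rw [ha]
    simp only
    rw [← Nat.cast_sum]
    exact (ZMod.natCast_eq_zero_iff _ _).mpr hsum
  -- symmetric about a point
  set eqv : Fin r ≃ ι := (Fintype.equivFinOfCardEq hcard).symm with heqv
  have hasum' : ∑ k, (a ∘ eqv) k = 0 := by
    rw [← hasum]
    exact Equiv.sum_comp eqv a
  obtain ⟨t, ht⟩ := exists_symm_center r hr35 (a ∘ eqv) hasum'
  have htr : ∀ j : ZMod r, (Finset.univ.filter (fun k : Fin r => (a ∘ eqv) k = j)).card =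
      (Finset.univ.filter (fun k : ι => a k = j)).card := by
    intro j
    apply Finset.card_equiv eqv
    intro i
    simp only [Finset.mem_filter, Finset.mem_univ, true_and, Function.comp]
  have hcardsym : ∀ j, (Finset.univ.filter (fun k => a k = j)).card =
      (Finset.univ.filter (fun k => a k = t - j)).card := by
    intro j
    rw [← htr, ← htr, ht]
  obtain ⟨π, hπ, hπa⟩ := exists_involutive_lift a (fun j => t - j)
    (fun j => sub_sub_cancel t j) hcardsym
  have hσw : σ w ≠ 0 := fun h0 => hw ((map_eq_zero_iff σ σ.injective).mp h0)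
  refine ⟨π, w * σ w * ζ ^ t.val, hπ,
    mul_ne_zero (mul_ne_zero hw hσw) (pow_ne_zero _ hζ0), ?_⟩
  intro k
  have hσl : σ (lam (π k)) = lam (π k) := sigma_root_eq hσQ r hrQ hQ _ (hlam _)
  rw [map_mul, hσl, hlam' k, hlam' (π k), hπa k]
  have h1 : ζ ^ (a k).val * ζ ^ (t - a k).val = ζ ^ t.val := by
    rw [← pow_add]
    apply pow_eq_pow_of_zmod_eq r hr.pos ζ hζr
    rw [Nat.cast_add, ZMod.natCast_zmod_val, ZMod.natCast_zmod_val, ZMod.natCast_zmod_val]
    ring
  calc w * ζ ^ (a k).val * (σ w * ζ ^ (t - a k).val)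
      = w * σ w * (ζ ^ (a k).val * ζ ^ (t - a k).val) := by ring
    _ = w * σ w * ζ ^ t.val := by rw [h1]

end special

end Cfsg.Agent.Lib.Helper4.SimU
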