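import Mathlib
import Cfsg.Agent.Lib.Helper4.SimU8

set_option autoImplicit false
set_option linter.unusedSectionVars false
set_option linter.style.haveILetI false

/-! Arithmetic and determinant lemmas for the assembly of S5982. -/

namespace Cfsg.Agent.Lib.Helper4.SimU

open Module Polynomial
open Cfsg.Agent.Lib.Helper5.PSLCoset
open Cfsg.Agent.H9SemiInv Cfsg.Agent.Lib.Helper9.H9Elus Cfsg.Agent.Lib.Helper4.EqDec

section arith

/-- If `r` is an odd prime dividing `Q^2 - 1` and `(-Q)^i = -1` in `ZMod r` then `r ∣ Q - 1`. -/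
theorem dvd_pred_of_neg_pow (Q r i : ℕ) [Fact r.Prime] (hr2 : r ≠ 2) (hQ : 1 ≤ Q)
    (hd : r ∣ Q ^ 2 - 1) (hi : (-(Q : ZMod r)) ^ i = -1) : r ∣ Q - 1 := by
  have hr : r.Prime := Fact.out
  rw [← succ_mul_pred Q hQ] at hd
  rcases (Nat.Prime.dvd_mul hr).mp hd with h | h
  · exfalso
    have h1 : ((Q + 1 : ℕ) : ZMod r) = 0 := (ZMod.natCast_eq_zero_iff _ _).mpr h
    rw [Nat.cast_add, Nat.cast_one] at h1
    have h2 : -(Q : ZMod r) = 1 := by
      rw [neg_eq_iff_eq_neg]
      exact eq_neg_of_add_eq_zero_left h1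
    rw [h2, one_pow] at hi
    have h3 : (2 : ZMod r) = 0 := by
      have : (1 : ZMod r) + 1 = 0 := by
        nth_rewrite 1 [hi]
        exact neg_add_cancel 1
      rw [← this]
      norm_num
    have h4 : ((2 : ℕ) : ZMod r) = 0 := by exact_mod_cast h3
    have h5 := (ZMod.natCast_eq_zero_iff _ _).mp h4
    exact hr2 ((Nat.prime_dvd_prime_iff_eq hr Nat.prime_two).mp h5)
  · exact h

/-- The order of `Q^2` modulo `r` divides `i` when `(-Q)^i = -1`. -/
theorem orderOf_sq_dvd (Q r i : ℕ) (hi : (-(Q : ZMod r)) ^ i = -1) :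
    orderOf (((Q ^ 2 : ℕ)) : ZMod r) ∣ i := by
  apply orderOf_dvd_of_pow_eq_one
  rw [Nat.cast_pow, ← neg_sq, ← pow_mul, mul_comm, pow_mul, hi, neg_one_sq]

/-- `v_r(Q^2 - 1) = v_r(Q - 1)` for an odd prime `r ∣ Q - 1`. -/
theorem padicVal_sq_sub_one (Q r : ℕ) [Fact r.Prime] (hr2 : r ≠ 2) (hQ : 2 ≤ Q)
    (hd : r ∣ Q - 1) : padicValNat r (Q ^ 2 - 1) = padicValNat r (Q - 1) := by
  have hr : r.Prime := Fact.out
  rw [← succ_mul_pred Q (by omega), padicValNat.mul (by omega) (by omega)]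
  have h1 : ¬ r ∣ Q + 1 := by
    intro h
    have h2 : r ∣ (Q + 1) - (Q - 1) := Nat.dvd_sub h hd
    have h3 : (Q + 1) - (Q - 1) = 2 := by omega
    rw [h3] at h2
    exact hr2 ((Nat.prime_dvd_prime_iff_eq hr Nat.prime_two).mp h2)
  rw [padicValNat.eq_zero_of_not_dvd h1, zero_add]

end arith

section field
variable {F : Type*} [Field F] [Fintype F]

theorem exists_sq_eq_neg_one {Q : ℕ} (hF : Fintype.card F = Q ^ 2) (hQ : Odd Q) :
    ∃ i : F, i ^ 2 = -1 := by
  have h1 : IsSquare (-1 : F) := by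
    rw [FiniteField.isSquare_neg_one_iff, hF]
    obtain ⟨m, rfl⟩ := hQ
    have : (2 * m + 1) ^ 2 = 4 * (m * m + m) + 1 := by ring
    rw [this]
    omega
  obtain ⟨i, hi⟩ := h1
  exact ⟨i, by rw [pow_two, ← hi]⟩

/-- The determinant of a map with an eigenbasis. -/
theorem det_eq_prod_of_eigenbasis {V : Type*} [AddCommGroup V] [Module F V] {ι : Type*} [Fintype ι]
    [DecidableEq ι] (b : Basis ι F V) (t : V →ₗ[F] V) (ν : ι → F)
    (hb : ∀ k, t (b k) = ν k • b k) : LinearMap.det t = ∏ k, ν k := by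
  rw [← LinearMap.det_toMatrix b]
  have : LinearMap.toMatrix b b t = Matrix.diagonal ν := by
    ext i j
    rw [LinearMap.toMatrix_apply, hb, map_smul, Finsupp.smul_apply, b.repr_self,
      Finsupp.single_apply, Matrix.diagonal_apply, smul_eq_mul]
    by_cases h : i = j
    · rw [if_pos h.symm, if_pos h, mul_one, h]
    · rw [if_neg (Ne.symm h), if_neg h, mul_zero]
  rw [this, Matrix.det_diagonal]

end field

end Cfsg.Agent.Lib.Helper4.SimU
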