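import Mathlib
import Cfsg.Agent.Lib.Helper8.SmTwoDefs
import Cfsg.Agent.Lib.Helper8.SmTwoB

set_option autoImplicit false

/-! S4409, package PN (backup race): `exists_sq_mem_of_ne` and (N1). -/

namespace Cfsg.Agent.Lib.Helper8.SmTwo

universe u

variable {G : Type u} [Group G]

/-- in a `2`-group `T`, a proper subgroup `N` has an element of `T` outside it whose square lies
in it -/
theorem exists_sq_mem_of_ne [Finite G] (N T : Subgroup G) (hT : IsPGroup 2 T) (hNT : N ≤ T)
    (hne : N ≠ T) (hn : T ≤ Subgroup.normalizer (N : Set G)) : ∃ t ∈ T, t ∉ N ∧ t ^ 2 ∈ N := by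
  classical
  have hex : ∃ t ∈ T, t ∉ N := by
    by_contra hcon
    push_neg at hcon
    exact hne (le_antisymm hNT hcon)
  obtain ⟨t, htT, htN⟩ := hex
  obtain ⟨k, hk⟩ := hT ⟨t, htT⟩
  have hk' : t ^ 2 ^ k = 1 := by
    have := congrArg Subtype.val hk
    simpa using this
  have hP : ∃ j : ℕ, t ^ 2 ^ j ∈ N := ⟨k, by rw [hk']; exact N.one_mem⟩
  have hj := Nat.find_spec hP
  have hjmin := fun m (hm : m < Nat.find hP) => Nat.find_min hP hm
  have hj0 : Nat.find hP ≠ 0 := by
    intro h0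
    rw [h0] at hj
    apply htN
    simpa using hj
  obtain ⟨m, hm⟩ := Nat.exists_eq_succ_of_ne_zero hj0
  refine ⟨t ^ 2 ^ m, T.pow_mem htT _, hjmin m (by omega), ?_⟩
  rw [← pow_mul, ← pow_succ]
  rw [hm] at hj
  exact hj

/-- (N1) -/
theorem not_small_of_central_v4 [Finite G] (W Y : Subgroup G) (hY : IsPGroup 2 Y) (hW : IsV4 W)
    (hWY : W ≤ Y) (hne : W ≠ Y) (hc : Y ≤ Subgroup.centralizer (W : Set G)) : ¬ Small Y := by
  intro hs
  have hn : Y ≤ Subgroup.normalizer (W : Set G) := hc.trans (Subgroup.centralizer_le_normalizer _)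
  obtain ⟨z, hzY, hzW, hz2⟩ := exists_sq_mem_of_ne W Y hY hWY hne hn
  have hz4 : z ^ 4 = 1 := by
    have := hW.2 _ hz2
    rw [← pow_mul] at this
    exact this
  have hbad := bad_sup_zpowers W z hW.1 hW.comm
    (fun a ha => by
      have := hW.2 a ha
      calc a ^ 4 = (a ^ 2) ^ 2 := by rw [← pow_mul]
        _ = 1 := by rw [this, one_pow])
    (fun a ha => (Subgroup.mem_centralizer_iff.mp (hc hzY) a ha).symm) hzW hz2 hz4
  refine hs _ ?_ hbad
  apply sup_le hWY
  rw [Subgroup.zpowers_le]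
  exact hzY

end Cfsg.Agent.Lib.Helper8.SmTwo
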