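import Mathlib
import Cfsg.Agent.Lib.Helper8.SmTwoDefs
import Cfsg.Agent.Lib.Helper8.SmTwoB
import Cfsg.Agent.Lib.Helper8.SmTwoD3
import Cfsg.Agent.Lib.Helper3.SmTwoPF
import Cfsg.Agent.Lib.Helper2.SmTwoPT
import Cfsg.Agent.Lib.Helper2.SmTwoPT2
import Cfsg.Agent.Lib.Helper9.SmTwoPQa
import Cfsg.Agent.Lib.Helper8.SmTwoSM

set_option autoImplicit false

/-! S4409, package P3b: the case `⁅X, H⁆ = X` with a proper `H`-invariant subgroup not inside
`phi2 X`. -/

namespace Cfsg.Agent.Lib.Helper8.SmTwo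

universe u

variable {G : Type u} [Group G]

open scoped commutatorElement

theorem p3b_mem_normalizer_of_conj_le [Finite G] (M : Subgroup G) (g : G)
    (h : ∀ m ∈ M, g * m * g⁻¹ ∈ M) : g ∈ Subgroup.normalizer (M : Set G) := by
  rw [Subgroup.mem_normalizer_iff]
  intro x
  refine ⟨h x, fun hx => ?_⟩
  let f : M → M := fun m => ⟨g * m * g⁻¹, h m m.2⟩
  have hinj : Function.Injective f := by
    intro a b hab
    have h1 : g * (a : G) * g⁻¹ = g * (b : G) * g⁻¹ := congrArg Subtype.val hab
    exact Subtype.ext (mul_left_cancel (mul_right_cancel h1))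
  have hsurj := Finite.surjective_of_injective hinj
  obtain ⟨m, hm⟩ := hsurj ⟨g * x * g⁻¹, hx⟩
  have h1 : g * (m : G) * g⁻¹ = g * x * g⁻¹ := congrArg Subtype.val hm
  have h2 : (m : G) = x := mul_left_cancel (mul_right_cancel h1)
  rw [← h2]
  exact m.2

theorem p3b_normalizer_sup [Finite G] {A U V : Subgroup G}
    (hU : A ≤ Subgroup.normalizer (U : Set G)) (hV : A ≤ Subgroup.normalizer (V : Set G)) :
    A ≤ Subgroup.normalizer ((U ⊔ V : Subgroup G) : Set G) := by
  intro g hg
  apply p3b_mem_normalizer_of_conj_le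
  have h1 : U ⊔ V ≤ (U ⊔ V).comap (MulAut.conj g).toMonoidHom := by
    apply sup_le
    · intro u hu
      rw [Subgroup.mem_comap]
      exact Subgroup.mem_sup_left ((Subgroup.mem_normalizer_iff.mp (hU hg) u).mp hu)
    · intro v hv
      rw [Subgroup.mem_comap]
      exact Subgroup.mem_sup_right ((Subgroup.mem_normalizer_iff.mp (hV hg) v).mp hv)
  intro m hm
  have := h1 hm
  rw [Subgroup.mem_comap] at this
  simpa [MulAut.conj_apply] using this

theorem p3b_normalizer_inf [Finite G] {A U V : Subgroup G}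
    (hU : A ≤ Subgroup.normalizer (U : Set G)) (hV : A ≤ Subgroup.normalizer (V : Set G)) :
    A ≤ Subgroup.normalizer ((U ⊓ V : Subgroup G) : Set G) := by
  intro g hg
  apply p3b_mem_normalizer_of_conj_le
  intro m hm
  exact ⟨(Subgroup.mem_normalizer_iff.mp (hU hg) m).mp hm.1,
    (Subgroup.mem_normalizer_iff.mp (hV hg) m).mp hm.2⟩

theorem p3b_normalizer_centralizer [Finite G] {A U : Subgroup G}
    (hU : A ≤ Subgroup.normalizer (U : Set G)) :
    A ≤ Subgroup.normalizer ((Subgroup.centralizer (U : Set G) : Subgroup G) : Set G) := by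
  intro g hg
  apply p3b_mem_normalizer_of_conj_le
  intro c hc
  rw [Subgroup.mem_centralizer_iff] at hc ⊢
  intro u hu
  have hu' : g⁻¹ * u * g ∈ U := by
    have := (Subgroup.mem_normalizer_iff.mp (A.inv_mem hg |> fun h => hU h) u).mp hu
    simpa using this
  have h1 := hc _ hu'
  -- (g⁻¹ u g) c = c (g⁻¹ u g)
  calc u * (g * c * g⁻¹) = g * ((g⁻¹ * u * g) * c) * g⁻¹ := by group
    _ = g * (c * (g⁻¹ * u * g)) * g⁻¹ := by rw [h1]
    _ = g * c * g⁻¹ * u := by group

theorem p3b_coprime [Finite G] {X H : Subgroup G} (hX : IsPGroup 2 X) (hodd : Odd (Nat.card H)) :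
    (Nat.card H).Coprime (Nat.card X) := by
  obtain ⟨n, hn⟩ := IsPGroup.iff_card.mp hX
  rw [hn]
  exact Nat.Coprime.pow_right n (Nat.coprime_two_right.mpr hodd)

/-- CLAIM (*) -/
theorem p3b_claim [Finite G] (X H : Subgroup G) (h : Sec3 X H) (heq : ⁅X, H⁆ = X)
    (Y₁ : Subgroup G) (hle : Y₁ ≤ X) (hne : Y₁ ≠ X)
    (hHY : H ≤ Subgroup.normalizer (Y₁ : Set G))
    (hphi : phi2 X ≤ Y₁) (hne2 : Y₁ ≠ phi2 X) :
    phi2 X = ⊥ ∨ (IsNA8 Y₁ ∧ ⁅Y₁, H⁆ = Y₁ ∧
      phi2 X = Y₁ ⊓ Subgroup.centralizer (Y₁ : Set G)) := by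
  have hHphi : H ≤ Subgroup.normalizer (phi2 X : Set G) :=
    h.hHX.trans (normalizer_le_normalizer_phi2 X)
  have hcop : (Nat.card H).Coprime (Nat.card X) := p3b_coprime h.hX h.hodd
  have hnc : ¬ H ≤ Subgroup.centralizer (Y₁ : Set G) := by
    intro hc
    have h1 : Y₁ ≤ X ⊓ Subgroup.centralizer (H : Set G) :=
      le_inf hle (Subgroup.le_centralizer_iff.mp hc)
    have h2 := centralizer_le_of_commutator_eq X H (phi2 X) h.hHX hHphi (phi2_le X)
      (commutator_le_phi2 X) hcop heq
    exact hne2 (le_antisymm (h1.trans h2) hphi)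
  have hs : Small Y₁ := h.hmin Y₁ hle hne hHY
  have hp : IsPGroup 2 Y₁ := h.hX.to_le hle
  obtain ⟨hcase, hcomm⟩ := sm Y₁ H hp hs hHY h.hodd hnc
  rcases hcase with hV | hN
  · rcases v4_invariant Y₁ H (phi2 X) hV hHY hcomm hphi hHphi with h1 | h1
    · left; exact h1
    · exact absurd h1.symm hne2
  · rcases na8_invariant Y₁ H (phi2 X) hN hHY hcomm hphi hHphi with h1 | h1 | h1
    · left; exact h1
    · right; exact ⟨hN, hcomm, h1⟩
    · exact absurd h1.symm hne2

theorem p3b_isAb_of_exp_two (X : Subgroup G) (hexp : ∀ x ∈ X, x ^ 2 = 1) : IsAb X := by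
  intro a ha b hb
  have h1 := hexp a ha
  have h2 := hexp b hb
  have h3 := hexp (a * b) (X.mul_mem ha hb)
  have e1 : a⁻¹ = a := inv_eq_of_mul_eq_one_right (by rw [← pow_two]; exact h1)
  have e2 : b⁻¹ = b := inv_eq_of_mul_eq_one_right (by rw [← pow_two]; exact h2)
  have e3 : (a * b)⁻¹ = a * b := inv_eq_of_mul_eq_one_right (by rw [← pow_two]; exact h3)
  rw [mul_inv_rev, e1, e2] at e3
  exact e3.symm

/-- P3b: the case `⁅X, H⁆ = X`, some proper `H`-invariant subgroup not inside `phi2 X` -/
theorem sec3_b [Finite G] (X H : Subgroup G) (h : Sec3 X H) (heq : ⁅X, H⁆ = X)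
    (Y : Subgroup G) (hYX : Y ≤ X) (hYne : Y ≠ X) (hHY : H ≤ Subgroup.normalizer (Y : Set G))
    (hYphi : ¬ Y ≤ phi2 X) : IsAb X ∨ SpecialData X 2 := by
  have hHphi : H ≤ Subgroup.normalizer (phi2 X : Set G) :=
    h.hHX.trans (normalizer_le_normalizer_phi2 X)
  obtain ⟨Y₁, hY₁⟩ : ∃ Y₁ : Subgroup G, Y₁ = Y ⊔ phi2 X := ⟨_, rfl⟩
  have hY1le : Y₁ ≤ X := by rw [hY₁]; exact sup_le hYX (phi2_le X)
  have hY1ne : Y₁ ≠ X := by
    intro e
    rw [hY₁] at e
    exact hYne (eq_of_sup_phi2 X Y h.hX hYX e)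
  have hY1H : H ≤ Subgroup.normalizer (Y₁ : Set G) := by
    rw [hY₁]; exact p3b_normalizer_sup hHY hHphi
  have hY1phi : phi2 X ≤ Y₁ := by rw [hY₁]; exact le_sup_right
  have hY1ne2 : Y₁ ≠ phi2 X := by
    intro e
    apply hYphi
    rw [← e, hY₁]
    exact le_sup_left
  rcases p3b_claim X H h heq Y₁ hY1le hY1ne hY1H hY1phi hY1ne2 with h0 | ⟨hNA, hcomm1, hZ1⟩
  · left
    exact p3b_isAb_of_exp_two X ((phi2_eq_bot_iff X).mp h0)
  · right
    obtain ⟨z, hzY, hz1, hz2, hzc, hsq, hcm, hcen, i, hi, hi2⟩ := hNA.facts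
    have hXn : X ≤ Subgroup.normalizer (Y₁ : Set G) := by
      intro x hx
      apply p3b_mem_normalizer_of_conj_le
      intro m hm
      have h1 : ⁅x, m⁆ ∈ ⁅X, X⁆ := Subgroup.commutator_mem_commutator hx (hY1le hm)
      have h2 : ⁅x, m⁆ ∈ Y₁ := hY1phi (commutator_le_phi2 X h1)
      have h3 := Y₁.mul_mem h2 hm
      rw [commutatorElement_def] at h3
      simpa using h3
    have hsup := na8_sup_centralizer Y₁ X H hNA h.hX hY1le hXn hY1H h.hHX h.hodd hcomm1
    obtain ⟨T, hT⟩ : ∃ T : Subgroup G, T = X ⊓ Subgroup.centralizer (Y₁ : Set G) := ⟨_, rfl⟩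
    have hTle : T ≤ X := by rw [hT]; exact inf_le_left
    have hTc : T ≤ Subgroup.centralizer (Y₁ : Set G) := by rw [hT]; exact inf_le_right
    have hTne : T ≠ X := by
      intro e
      obtain ⟨_, a, ha, b, hb, hab⟩ := hNA
      have hXc : X ≤ Subgroup.centralizer (Y₁ : Set G) := by rw [← e]; exact hTc
      exact hab (Subgroup.mem_centralizer_iff.mp (hXc (hY1le hb)) a ha)
    have hTH : H ≤ Subgroup.normalizer (T : Set G) := by
      rw [hT]; exact p3b_normalizer_inf h.hHX (p3b_normalizer_centralizer hY1H)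
    have hphiT : phi2 X ≤ T := by
      rw [hT, hZ1]; exact inf_le_inf_right _ hY1le
    have hTne2 : T ≠ phi2 X := by
      intro e
      apply hY1ne
      rw [← hT, e] at hsup
      rw [← hsup]
      exact (sup_eq_left.mpr hY1phi).symm
    have hzphi : z ∈ phi2 X := by
      rw [hZ1]
      exact ⟨hzY, Subgroup.mem_centralizer_iff.mpr (fun y hy => (hzc y hy).symm)⟩
    have hphine : phi2 X ≠ ⊥ := by
      intro e
      rw [e] at hzphi
      exact hz1 (Subgroup.mem_bot.mp hzphi)
    have hphi_elts : ∀ g ∈ phi2 X, g = 1 ∨ g = z := by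
      intro g hg
      rw [hZ1] at hg
      exact hcen g hg.1 (fun y hy => (Subgroup.mem_centralizer_iff.mp hg.2 y hy).symm)
    rcases p3b_claim X H h heq T hTle hTne hTH hphiT hTne2 with h0 | ⟨hNT, hcommT, hZT⟩
    · exact absurd h0 hphine
    · have hcenX : X ⊓ Subgroup.centralizer (X : Set G) = phi2 X := by
        apply le_antisymm
        · intro g hg
          have hgT : g ∈ T := by
            rw [hT]
            exact ⟨hg.1, Subgroup.centralizer_le (by exact_mod_cast hY1le) hg.2⟩
          rw [hZT]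
          exact ⟨hgT, Subgroup.centralizer_le (by exact_mod_cast hTle) hg.2⟩
        · intro g hg
          rw [Subgroup.mem_inf]
          refine ⟨phi2_le X hg, ?_⟩
          have h1 : g ∈ Subgroup.centralizer (Y₁ : Set G) := by
            have := hg; rw [hZ1] at this; exact this.2
          have h2 : g ∈ Subgroup.centralizer (T : Set G) := by
            have := hg; rw [hZT] at this; exact this.2
          rw [Subgroup.mem_centralizer_iff]
          intro x hx
          have hle1 : Y₁ ≤ Subgroup.centralizer ({g} : Set G) := by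
            intro y hy
            rw [Subgroup.mem_centralizer_iff]
            intro w hw
            rw [Set.mem_singleton_iff] at hw
            rw [hw]
            exact (Subgroup.mem_centralizer_iff.mp h1 y hy).symm
          have hle2 : T ≤ Subgroup.centralizer ({g} : Set G) := by
            intro y hy
            rw [Subgroup.mem_centralizer_iff]
            intro w hw
            rw [Set.mem_singleton_iff] at hw
            rw [hw]
            exact (Subgroup.mem_centralizer_iff.mp h2 y hy).symm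
          have hx' : x ∈ Y₁ ⊔ T := by rw [← hT] at hsup; rw [hsup]; exact hx
          have := (sup_le hle1 hle2) hx'
          rw [Subgroup.mem_centralizer_iff] at this
          exact (this g rfl).symm
      have hcomX : ⁅X, X⁆ = phi2 X := by
        apply le_antisymm (commutator_le_phi2 X)
        intro g hg
        obtain ⟨_, a, ha, b, hb, hab⟩ := hNA
        have hz' : z ∈ ⁅X, X⁆ := by
          rcases hcm a ha b hb with e | e
          · exact absurd e hab
          · have h1 : ⁅a, b⁆ ∈ ⁅X, X⁆ :=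
              Subgroup.commutator_mem_commutator (hY1le ha) (hY1le hb)
            have h2 : ⁅a, b⁆ = z := by
              rw [commutatorElement_def, e]
              have := hzc a ha
              calc b * a * z * a⁻¹ * b⁻¹ = b * (a * z) * a⁻¹ * b⁻¹ := by group
                _ = b * (z * a) * a⁻¹ * b⁻¹ := by rw [← hzc a ha]
                _ = b * z * b⁻¹ := by group
                _ = z * b * b⁻¹ := by rw [← hzc b hb]
                _ = z := by group
            rw [← h2]; exact h1
        rcases hphi_elts g hg with e | e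
        · rw [e]; exact Subgroup.one_mem _
        · rw [e]; exact hz'
      refine ⟨hcomX.trans hcenX.symm, fun x hx => by rw [hcomX]; exact sq_mem_phi2 X hx, ?_⟩
      rw [hcenX]
      have hzp : phi2 X = Subgroup.zpowers z := by
        apply le_antisymm
        · intro g hg
          rcases hphi_elts g hg with e | e
          · rw [e]; exact Subgroup.one_mem _
          · rw [e]; exact Subgroup.mem_zpowers z
        · rw [Subgroup.zpowers_le]; exact hzphi
      rw [hzp, Nat.card_zpowers]
      exact orderOf_eq_prime hz2 hz1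

end Cfsg.Agent.Lib.Helper8.SmTwo
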