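import Mathlib

/-! S4409, package PB: WITHDRAWN (emptied). helper6 landed the same bridge lemmas, with the same
names, one minute earlier in `Cfsg/Agent/Lib/Helper6/SmTwoPB.lean`; import that file. This file
holds no declarations so that the two can never clash. -/
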