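import Mathlib
import Cfsg.Prelude.Def_Transfer
import Cfsg.Agent.Lib.Lead.GenCentralizers
import Cfsg.Agent.Lib.Helper2.BGAux1
import Cfsg.Agent.Lib.Helper4.BG8b
import Cfsg.Agent.Lib.Helper4.BG8f
import Cfsg.Agent.S3765

set_option autoImplicit false
set_option linter.unusedSectionVars false
set_option linter.style.longLine false

/-! S3814, the case `F(G) = P × Q` (two normal Sylow subgroups): basic lemmas. -/

namespace Cfsg.Agent.Lib.Helper4.SolvTri

open Cfsg

universe u

variable {G : Type u} [Group G] [Finite G]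

/-- order of a product of three pairwise commuting elements of pairwise coprime orders -/
theorem orderOf_mul3 {a b c : G} (hab : Commute a b) (hac : Commute a c) (hbc : Commute b c)
    (h1 : (orderOf a).Coprime (orderOf b)) (h2 : (orderOf a).Coprime (orderOf c))
    (h3 : (orderOf b).Coprime (orderOf c)) :
    orderOf (a * b * c) = orderOf a * orderOf b * orderOf c := by
  have e1 : orderOf (a * b) = orderOf a * orderOf b :=
    hab.orderOf_mul_eq_mul_orderOf_of_coprime h1
  have hc : Commute (a * b) c := hac.mul_left hbc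
  have h4 : (orderOf (a * b)).Coprime (orderOf c) := by
    rw [e1]; exact Nat.Coprime.mul_left h2 h3
  rw [hc.orderOf_mul_eq_mul_orderOf_of_coprime h4, e1]

/-- a non-identity element has a power of prime order -/
theorem exists_pow_prime_order {g : G} (hg : g ≠ 1) :
    ∃ ℓ : ℕ, ℓ.Prime ∧ ℓ ∣ orderOf g ∧ ∃ k : ℕ, orderOf (g ^ k) = ℓ := by
  have h1 : orderOf g ≠ 1 := fun h => hg (orderOf_eq_one_iff.mp h)
  obtain ⟨ℓ, hℓ, hdvd⟩ := Nat.exists_prime_and_dvd h1
  refine ⟨ℓ, hℓ, hdvd, orderOf g / ℓ, ?_⟩
  exact orderOf_pow_orderOf_div (orderOf_pos g).ne' hdvd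

/-- extracting a fixed point from the generation lemma -/
theorem exists_fix (A K : Subgroup G) [IsMulCommutative A] (hA : ¬ IsCyclic A)
    (hAK : A ≤ Subgroup.normalizer (K : Set G)) (hcop : (Nat.card A).Coprime (Nat.card K))
    (hK : K ≠ ⊥) : ∃ a ∈ A, a ≠ 1 ∧ K ⊓ Subgroup.centralizer {a} ≠ ⊥ := by
  by_contra hcon
  push Not at hcon
  have h1 := Cfsg.Agent.Lib.Lead.generated_by_centralizers A K hA hAK hcop
  apply hK
  rw [← h1]
  apply le_antisymm _ bot_le
  apply iSup₂_le
  rintro a ⟨ha, ha1⟩
  rw [hcon a ha ha1]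

/-- the subgroup generated by two commuting elements -/
def pair (x y : G) : Subgroup G := Subgroup.closure {x, y}

theorem x_mem_pair (x y : G) : x ∈ pair x y := Subgroup.subset_closure (by simp)

theorem y_mem_pair (x y : G) : y ∈ pair x y := Subgroup.subset_closure (by simp)

theorem pair_le {x y : G} {H : Subgroup G} (hx : x ∈ H) (hy : y ∈ H) : pair x y ≤ H := by
  apply (Subgroup.closure_le H).mpr
  rintro z hz
  rcases hz with rfl | hz
  · exact hx
  · rw [Set.mem_singleton_iff] at hz; rw [hz]; exact hy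

theorem pair_comm {x y : G} (hxy : Commute x y) : IsMulCommutative (pair x y) := by
  apply Subgroup.isMulCommutative_closure
  intro a ha b hb
  rcases ha with rfl | ha <;> rcases hb with rfl | hb
  · rfl
  · rw [Set.mem_singleton_iff] at hb; rw [hb]; exact hxy.eq
  · rw [Set.mem_singleton_iff] at ha; rw [ha]; exact hxy.eq.symm
  · rw [Set.mem_singleton_iff] at ha hb; rw [ha, hb]

theorem pair_pow {x y : G} (hxy : Commute x y) {t : ℕ} (hx : x ^ t = 1) (hy : y ^ t = 1) :
    ∀ e ∈ pair x y, e ^ t = 1 := by
  intro e he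
  haveI h0 : IsMulCommutative ↥(Subgroup.closure ({x, y} : Set G)) := pair_comm hxy
  induction he using Subgroup.closure_induction with
  | mem z hz =>
    rcases hz with rfl | hz
    · exact hx
    · rw [Set.mem_singleton_iff] at hz; rw [hz]; exact hy
  | one => exact one_pow t
  | mul a b ha hb iha ihb =>
    have hc : Commute a b := setLike_mul_comm ha hb
    rw [hc.mul_pow, iha, ihb, one_mul]
  | inv a _ iha => rw [inv_pow, iha, inv_one]

theorem pair_isPGroup {x y : G} (hxy : Commute x y) {t : ℕ} (hx : x ^ t = 1) (hy : y ^ t = 1) :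
    IsPGroup t (pair x y) := by
  rintro ⟨e, he⟩
  refine ⟨1, ?_⟩
  apply Subtype.ext
  simpa using pair_pow hxy hx hy e he

theorem pair_not_cyclic {x y : G} (hxy : Commute x y) {t : ℕ} (ht : t.Prime) (hx : orderOf x = t)
    (hy : orderOf y = t) (hyx : y ∉ Subgroup.zpowers x) : ¬ IsCyclic (pair x y) := by
  intro hcyc
  have hxt : x ^ t = 1 := by rw [← hx]; exact pow_orderOf_eq_one x
  have hyt : y ^ t = 1 := by rw [← hy]; exact pow_orderOf_eq_one y
  have hpow := pair_pow hxy hxt hyt
  -- the exponent of the cyclic group equals its order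
  have hexp : Monoid.exponent (pair x y) = Nat.card (pair x y) := IsCyclic.exponent_eq_card
  have hle : Monoid.exponent (pair x y) ∣ t := by
    apply Monoid.exponent_dvd_of_forall_pow_eq_one
    rintro ⟨e, he⟩
    apply Subtype.ext
    simpa using hpow e he
  have hcard : Nat.card (pair x y) ≤ t := by
    rw [← hexp]; exact Nat.le_of_dvd ht.pos hle
  -- but zpowers x is a proper subgroup of order t
  have hzle : Subgroup.zpowers x ≤ pair x y := Subgroup.zpowers_le.mpr (x_mem_pair x y)
  have hzcard : Nat.card (Subgroup.zpowers x) = t := by rw [Nat.card_zpowers, hx]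
  have heq : Subgroup.zpowers x = pair x y := by
    apply Subgroup.eq_of_le_of_card_ge hzle
    rw [hzcard]; exact hcard
  apply hyx
  rw [heq]; exact y_mem_pair x y

end Cfsg.Agent.Lib.Helper4.SolvTri
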