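import Mathlib
import Cfsg.Agent.Lib.Helper4.SolvTriA

set_option autoImplicit false
set_option linter.unusedSectionVars false
set_option linter.style.longLine false

/-! S3814, the case `F(G) = P × Q`: the setting and the first consequences. -/

namespace Cfsg.Agent.Lib.Helper4.SolvTri

open Cfsg Cfsg.Agent.Lib.Helper4.BG8

universe u

variable {G : Type u} [Group G] [Finite G]

/-- The configuration of Case 2: `P`, `Q` normal elementary abelian Sylow subgroups for the primes `p`, `q`,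
`T` a solvable `{r,s}`-group acting faithfully on `P × Q` and irreducibly on `P` and on `Q`. -/
structure C2 (p q r s : ℕ) (P Q T : Subgroup G) : Prop where
  hp : p.Prime
  hq : q.Prime
  hr : r.Prime
  hs : s.Prime
  hpq : p ≠ q
  hpr : p ≠ r
  hps : p ≠ s
  hqr : q ≠ r
  hqs : q ≠ s
  hrs : r ≠ s
  Pn : P.Normal
  Qn : Q.Normal
  Pea : Cfsg.IsElementaryAbelian p P
  Qea : Cfsg.IsElementaryAbelian q Q
  P1 : P ≠ ⊥
  Q1 : Q ≠ ⊥
  Tsolv : Group.IsSolvable T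
  Tpi : ∀ ℓ : ℕ, ℓ.Prime → ℓ ∣ Nat.card T → ℓ = r ∨ ℓ = s
  faith : T ⊓ Subgroup.centralizer ((P ⊔ Q : Subgroup G) : Set G) = ⊥
  irrP : ∀ M : Subgroup G, M ≤ P → T ≤ Subgroup.normalizer (M : Set G) → M = ⊥ ∨ M = P
  irrQ : ∀ M : Subgroup G, M ≤ Q → T ≤ Subgroup.normalizer (M : Set G) → M = ⊥ ∨ M = Q
  no3 : ∀ g : G, orderOf g ≠ p * q * r ∧ orderOf g ≠ p * q * s ∧ orderOf g ≠ p * r * s ∧
    orderOf g ≠ q * r * s
  Er : ∃ x y : G, x ∈ T ∧ y ∈ T ∧ orderOf x = r ∧ orderOf y = r ∧ Commute x y ∧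
    y ∉ Subgroup.zpowers x
  Es : ∃ x y : G, x ∈ T ∧ y ∈ T ∧ orderOf x = s ∧ orderOf y = s ∧ Commute x y ∧
    y ∉ Subgroup.zpowers x

variable {p q r s : ℕ} {P Q T : Subgroup G}

theorem C2.swapPQ (h : C2 p q r s P Q T) : C2 q p r s Q P T where
  hp := h.hq
  hq := h.hp
  hr := h.hr
  hs := h.hs
  hpq := h.hpq.symm
  hpr := h.hqr
  hps := h.hqs
  hqr := h.hpr
  hqs := h.hps
  hrs := h.hrs
  Pn := h.Qn
  Qn := h.Pn
  Pea := h.Qea
  Qea := h.Pea
  P1 := h.Q1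
  Q1 := h.P1
  Tsolv := h.Tsolv
  Tpi := h.Tpi
  faith := by rw [sup_comm]; exact h.faith
  irrP := h.irrQ
  irrQ := h.irrP
  no3 := fun g => by
    obtain ⟨h1, h2, h3, h4⟩ := h.no3 g
    refine ⟨?_, ?_, h4, h3⟩
    · rw [mul_comm q p]; exact h1
    · rw [mul_comm q p]; exact h2
  Er := h.Er
  Es := h.Es

theorem C2.swapRS (h : C2 p q r s P Q T) : C2 p q s r P Q T where
  hp := h.hp
  hq := h.hq
  hr := h.hs
  hs := h.hr
  hpq := h.hpq
  hpr := h.hps
  hps := h.hpr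
  hqr := h.hqs
  hqs := h.hqr
  hrs := h.hrs.symm
  Pn := h.Pn
  Qn := h.Qn
  Pea := h.Pea
  Qea := h.Qea
  P1 := h.P1
  Q1 := h.Q1
  Tsolv := h.Tsolv
  Tpi := fun ℓ hℓ hd => (h.Tpi ℓ hℓ hd).symm
  faith := h.faith
  irrP := h.irrP
  irrQ := h.irrQ
  no3 := fun g => by
    obtain ⟨h1, h2, h3, h4⟩ := h.no3 g
    refine ⟨h2, h1, ?_, ?_⟩
    · rw [mul_assoc, mul_comm s r, ← mul_assoc]; exact h3
    · rw [mul_assoc, mul_comm s r, ← mul_assoc]; exact h4
  Er := h.Es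
  Es := h.Er

theorem C2.P_isPGroup (h : C2 p q r s P Q T) : IsPGroup p P := by
  rintro ⟨g, hg⟩
  refine ⟨1, ?_⟩
  apply Subtype.ext
  simpa using h.Pea.2 g hg

theorem C2.Q_isPGroup (h : C2 p q r s P Q T) : IsPGroup q Q := h.swapPQ.P_isPGroup

theorem C2.orderOf_P (h : C2 p q r s P Q T) {v : G} (hv : v ∈ P) (hv1 : v ≠ 1) : orderOf v = p :=
  haveI : Fact p.Prime := ⟨h.hp⟩
  orderOf_eq_prime (h.Pea.2 v hv) hv1

theorem C2.orderOf_Q (h : C2 p q r s P Q T) {v : G} (hv : v ∈ Q) (hv1 : v ≠ 1) : orderOf v = q :=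
  h.swapPQ.orderOf_P hv hv1

theorem C2.commute_PQ (h : C2 p q r s P Q T) {v w : G} (hv : v ∈ P) (hw : w ∈ Q) : Commute v w := by
  haveI : Fact p.Prime := ⟨h.hp⟩
  haveI : Fact q.Prime := ⟨h.hq⟩
  have hdis : Disjoint P Q := IsPGroup.disjoint_of_ne p q h.hpq P Q h.P_isPGroup h.Q_isPGroup
  exact Subgroup.commute_of_normal_of_disjoint P Q h.Pn h.Qn hdis v w hv hw

/-- prime divisors of orders of elements of `T` -/
theorem C2.prime_dvd_orderOf (h : C2 p q r s P Q T) {g : G} (hg : g ∈ T) {ℓ : ℕ} (hℓ : ℓ.Prime)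
    (hd : ℓ ∣ orderOf g) : ℓ = r ∨ ℓ = s := by
  apply h.Tpi ℓ hℓ
  have h1 : orderOf (⟨g, hg⟩ : T) ∣ Nat.card T := orderOf_dvd_natCard _
  rw [Subgroup.orderOf_mk] at h1
  exact hd.trans h1

theorem C2.card_dvd (h : C2 p q r s P Q T) {R : Subgroup G} (hR : R ≤ T) {ℓ : ℕ} (hℓ : ℓ.Prime)
    (hd : ℓ ∣ Nat.card R) : ℓ = r ∨ ℓ = s :=
  h.Tpi ℓ hℓ (hd.trans (Subgroup.card_dvd_of_le hR))

theorem C2.ne_p (h : C2 p q r s P Q T) {ℓ : ℕ} (hℓ : ℓ = r ∨ ℓ = s) : p ≠ ℓ := by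
  rcases hℓ with rfl | rfl
  · exact h.hpr
  · exact h.hps

theorem C2.ne_q (h : C2 p q r s P Q T) {ℓ : ℕ} (hℓ : ℓ = r ∨ ℓ = s) : q ≠ ℓ := h.swapPQ.ne_p hℓ

/-- (0): a non-identity element of `T` cannot have fixed points on both `P` and `Q` -/
theorem C2.c0' (h : C2 p q r s P Q T) {g : G} (hg : g ∈ T) (hg1 : g ≠ 1) {v w : G} (hv : v ∈ P)
    (hv1 : v ≠ 1) (hvg : Commute g v) (hw : w ∈ Q) (hw1 : w ≠ 1) (hwg : Commute g w) : False := by
  obtain ⟨ℓ, hℓ, hd, k, hk⟩ := exists_pow_prime_order hg1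
  have hℓrs := h.prime_dvd_orderOf hg hℓ hd
  have hov := h.orderOf_P hv hv1
  have how := h.orderOf_Q hw hw1
  have hvw : Commute v w := h.commute_PQ hv hw
  have hvk : Commute v (g ^ k) := (hvg.pow_left k).symm
  have hwk : Commute w (g ^ k) := (hwg.pow_left k).symm
  have hcop1 : (orderOf v).Coprime (orderOf w) := by
    rw [hov, how]; exact (Nat.coprime_primes h.hp h.hq).mpr h.hpq
  have hcop2 : (orderOf v).Coprime (orderOf (g ^ k)) := by
    rw [hov, hk]; exact (Nat.coprime_primes h.hp hℓ).mpr (h.ne_p hℓrs)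
  have hcop3 : (orderOf w).Coprime (orderOf (g ^ k)) := by
    rw [how, hk]; exact (Nat.coprime_primes h.hq hℓ).mpr (h.ne_q hℓrs)
  have ho := orderOf_mul3 hvw hvk hwk hcop1 hcop2 hcop3
  rw [hov, how, hk] at ho
  obtain ⟨h1, h2, -, -⟩ := h.no3 (v * w * g ^ k)
  rcases hℓrs with rfl | rfl
  · exact h1 ho
  · exact h2 ho

theorem mem_inf_centralizer_singleton {K : Subgroup G} {g v : G} :
    v ∈ K ⊓ Subgroup.centralizer {g} ↔ v ∈ K ∧ Commute g v := by
  rw [Subgroup.mem_inf, Subgroup.mem_centralizer_iff]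
  constructor
  · rintro ⟨h1, h2⟩
    exact ⟨h1, h2 g rfl⟩
  · rintro ⟨h1, h2⟩
    refine ⟨h1, ?_⟩
    intro x hx
    rw [Set.mem_singleton_iff] at hx
    rw [hx]; exact h2

theorem C2.c0 (h : C2 p q r s P Q T) {g : G} (hg : g ∈ T) (hg1 : g ≠ 1) :
    P ⊓ Subgroup.centralizer {g} = ⊥ ∨ Q ⊓ Subgroup.centralizer {g} = ⊥ := by
  by_contra hcon
  push Not at hcon
  obtain ⟨hP, hQ⟩ := hcon
  obtain ⟨v, hv, hv1⟩ := (Subgroup.bot_or_exists_ne_one _).resolve_left hP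
  obtain ⟨w, hw, hw1⟩ := (Subgroup.bot_or_exists_ne_one _).resolve_left hQ
  rw [mem_inf_centralizer_singleton] at hv hw
  exact h.c0' hg hg1 hv.1 hv1 hv.2 hw.1 hw1 hw.2

/-- conjugation by an element normalising `N` preserves `C(N)` -/
theorem conj_mem_centralizer {N : Subgroup G} {g x : G} (hg : g ∈ Subgroup.normalizer (N : Set G))
    (hx : x ∈ Subgroup.centralizer (N : Set G)) : g * x * g⁻¹ ∈ Subgroup.centralizer (N : Set G) := by
  rw [Subgroup.mem_centralizer_iff] at hx ⊢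
  intro n hn
  have hn' : g⁻¹ * n * g ∈ N := by
    have := (Subgroup.mem_normalizer_iff.mp (Subgroup.inv_mem _ hg) n).mp hn
    simpa using this
  have h1 := hx (g⁻¹ * n * g) hn'
  calc n * (g * x * g⁻¹) = g * ((g⁻¹ * n * g) * x) * g⁻¹ := by group
    _ = g * (x * (g⁻¹ * n * g)) * g⁻¹ := by rw [h1]
    _ = g * x * g⁻¹ * n := by group

/-- `C_K(N)` is normalised by whatever normalises `K` and `N` -/
theorem le_normalizer_inf_centralizer {K N X : Subgroup G} (hK : X ≤ Subgroup.normalizer (K : Set G))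
    (hN : X ≤ Subgroup.normalizer (N : Set G)) :
    X ≤ Subgroup.normalizer ((K ⊓ Subgroup.centralizer (N : Set G) : Subgroup G) : Set G) := by
  intro g hg
  have key : ∀ g : G, g ∈ X → ∀ x, x ∈ K ⊓ Subgroup.centralizer (N : Set G) →
      g * x * g⁻¹ ∈ K ⊓ Subgroup.centralizer (N : Set G) := by
    intro g hg x hx
    exact ⟨(Subgroup.mem_normalizer_iff.mp (hK hg) x).mp hx.1, conj_mem_centralizer (hN hg) hx.2⟩
  rw [Subgroup.mem_normalizer_iff]
  intro x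
  constructor
  · exact key g hg x
  · intro hx
    have := key g⁻¹ (X.inv_mem hg) _ hx
    simpa [mul_assoc] using this

/-- a non-trivial normal subgroup of `T` has no fixed points on `P` (given faithfulness on `P`) -/
theorem C2.fixP_eq_bot (h : C2 p q r s P Q T)
    (hf : T ⊓ Subgroup.centralizer (P : Set G) = ⊥) {N : Subgroup G} (hNT : N ≤ T) (hN1 : N ≠ ⊥)
    (hTN : T ≤ Subgroup.normalizer (N : Set G)) : P ⊓ Subgroup.centralizer (N : Set G) = ⊥ := by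
  haveI := h.Pn
  have hTP : T ≤ Subgroup.normalizer (P : Set G) := by
    rw [Subgroup.normalizer_eq_top_iff.mpr h.Pn]; exact le_top
  rcases h.irrP _ inf_le_left (le_normalizer_inf_centralizer hTP hTN) with h1 | h1
  · exact h1
  · exfalso
    apply hN1
    rw [eq_bot_iff, ← hf]
    refine le_inf hNT ?_
    intro n hn
    rw [Subgroup.mem_centralizer_iff]
    intro v hv
    have hv' : v ∈ P ⊓ Subgroup.centralizer (N : Set G) := by rw [h1]; exact hv
    exact (Subgroup.mem_centralizer_iff.mp hv'.2 n hn).symm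

/-- in a cyclic subgroup whose order is divisible by the prime `t` there is an element `a` of order `t` whose
powers are exactly the solutions of `b ^ t = 1` -/
theorem exists_char_prime {Z : Subgroup G} (hZ : IsCyclic Z) {t : ℕ} (ht : t.Prime)
    (hd : t ∣ Nat.card Z) :
    ∃ a ∈ Z, orderOf a = t ∧ ∀ b ∈ Z, b ^ t = 1 → b ∈ Subgroup.zpowers a := by
  classical
  haveI : Fact t.Prime := ⟨ht⟩
  obtain ⟨⟨a, haZ⟩, ha⟩ := exists_prime_orderOf_dvd_card' t hd
  rw [Subgroup.orderOf_mk] at ha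
  refine ⟨a, haZ, ha, ?_⟩
  intro b hbZ hbt
  -- the set of solutions of `x ^ t = 1` in `Z` has at most `t` elements and contains `zpowers a`
  haveI := hZ
  haveI : Fintype Z := Fintype.ofFinite Z
  have hle : Nat.card {x : Z // x ^ t = 1} ≤ t := by
    have := IsCyclic.card_pow_eq_one_le (α := Z) ht.pos
    rw [Nat.card_eq_fintype_card, Fintype.card_subtype]
    exact this
  let f : Subgroup.zpowers (⟨a, haZ⟩ : Z) → {x : Z // x ^ t = 1} := fun x => ⟨x.1, by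
    obtain ⟨k, hk⟩ := Subgroup.mem_zpowers_iff.mp x.2
    rw [← hk, ← zpow_natCast, ← zpow_mul, mul_comm, zpow_mul, zpow_natCast]
    have : (⟨a, haZ⟩ : Z) ^ t = 1 := by
      apply Subtype.ext
      simp only [Subgroup.coe_pow, Subgroup.coe_one]
      rw [← ha]; exact pow_orderOf_eq_one a
    rw [this, one_zpow]⟩
  have hfinj : Function.Injective f := by
    intro x y hxy
    apply Subtype.ext
    exact congrArg (fun z : {x : Z // x ^ t = 1} => z.1) hxy
  have hcardz : Nat.card (Subgroup.zpowers (⟨a, haZ⟩ : Z)) = t := by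
    rw [Nat.card_zpowers, Subgroup.orderOf_mk, ha]
  have hbij : Function.Bijective f := by
    rw [Nat.bijective_iff_injective_and_card]
    refine ⟨hfinj, le_antisymm (Nat.card_le_card_of_injective f hfinj) ?_⟩
    rw [hcardz]; exact hle
  have hb' : (⟨b, hbZ⟩ : Z) ^ t = 1 := by
    apply Subtype.ext
    simpa using hbt
  obtain ⟨x, hx⟩ := hbij.2 ⟨⟨b, hbZ⟩, hb'⟩
  have hx1 : (x.1 : Z) = ⟨b, hbZ⟩ := congrArg (fun z : {x : Z // x ^ t = 1} => z.1) hx
  obtain ⟨k, hk⟩ := Subgroup.mem_zpowers_iff.mp x.2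
  rw [Subgroup.mem_zpowers_iff]
  refine ⟨k, ?_⟩
  have := congrArg (fun z : Z => (z : G)) (hk.trans hx1)
  simpa using this

end Cfsg.Agent.Lib.Helper4.SolvTri
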