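import Mathlib
import Cfsg.Agent.Lib.Helper4.SolvTriB

set_option autoImplicit false
set_option linter.unusedSectionVars false
set_option linter.style.longLine false

/-! S3814, the case `F(G) = P × Q`: general group-theoretic lemmas. -/

namespace Cfsg.Agent.Lib.Helper4.SolvTri

open Cfsg Cfsg.Agent.Lib.Helper4.BG8

universe u

variable {G : Type u} [Group G] [Finite G]

/-- the centre of a non-trivial `t`-subgroup is non-trivial -/
theorem center_ne_bot' {t : ℕ} [Fact t.Prime] {R : Subgroup G} (hR : IsPGroup t R) (hne : R ≠ ⊥) :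
    R ⊓ Subgroup.centralizer (R : Set G) ≠ ⊥ := by
  haveI : Nontrivial ↥R := (Subgroup.nontrivial_iff_ne_bot _).mpr hne
  haveI := hR.center_nontrivial
  obtain ⟨z, hz⟩ := exists_ne (1 : Subgroup.center ↥R)
  intro hbot
  have hmem : ((z : ↥R) : G) ∈ R ⊓ Subgroup.centralizer (R : Set G) := by
    refine Subgroup.mem_inf.mpr ⟨(z : ↥R).2, ?_⟩
    rw [Subgroup.mem_centralizer_iff]
    intro g hg
    have h1 := Subgroup.mem_center_iff.mp z.2 ⟨g, hg⟩
    have := congrArg (fun y : ↥R => (y : G)) h1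
    simpa using this
  rw [hbot, Subgroup.mem_bot] at hmem
  apply hz
  apply Subtype.ext
  apply Subtype.ext
  simpa using hmem

theorem centralizer_zpowers_eq (a : G) :
    Subgroup.centralizer ((Subgroup.zpowers a : Subgroup G) : Set G) = Subgroup.centralizer {a} := by
  apply le_antisymm
  · apply Subgroup.centralizer_le
    intro x hx
    rw [Set.mem_singleton_iff] at hx
    rw [hx]; exact Subgroup.mem_zpowers a
  · intro x hx
    rw [Subgroup.mem_centralizer_iff] at hx ⊢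
    intro z hz
    obtain ⟨k, rfl⟩ := Subgroup.mem_zpowers_iff.mp hz
    have h1 : Commute a x := hx a rfl
    exact (h1.zpow_left k).eq

/-- elements of the group generated by two commuting elements -/
theorem exists_of_mem_pair {a w : G} (haw : Commute a w) {e : G} (he : e ∈ pair a w) :
    ∃ z ∈ Subgroup.zpowers a, ∃ j : ℤ, e = z * w ^ j := by
  induction he using Subgroup.closure_induction with
  | mem z hz =>
    rcases hz with rfl | hz
    · exact ⟨z, Subgroup.mem_zpowers z, 0, by simp⟩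
    · rw [Set.mem_singleton_iff] at hz
      exact ⟨1, Subgroup.one_mem _, 1, by simp [hz]⟩
  | one => exact ⟨1, Subgroup.one_mem _, 0, by simp⟩
  | mul x y _ _ ihx ihy =>
    obtain ⟨z1, hz1, j1, rfl⟩ := ihx
    obtain ⟨z2, hz2, j2, rfl⟩ := ihy
    refine ⟨z1 * z2, Subgroup.mul_mem _ hz1 hz2, j1 + j2, ?_⟩
    obtain ⟨k2, rfl⟩ := Subgroup.mem_zpowers_iff.mp hz2
    have hc : Commute (w ^ j1) (a ^ k2) := ((haw.zpow_left k2).zpow_right j1).symm
    rw [zpow_add]
    calc z1 * w ^ j1 * (a ^ k2 * w ^ j2) = z1 * (w ^ j1 * a ^ k2) * w ^ j2 := by group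
      _ = z1 * (a ^ k2 * w ^ j1) * w ^ j2 := by rw [hc.eq]
      _ = z1 * a ^ k2 * (w ^ j1 * w ^ j2) := by group
  | inv x _ ihx =>
    obtain ⟨z1, hz1, j1, rfl⟩ := ihx
    refine ⟨z1⁻¹, Subgroup.inv_mem _ hz1, -j1, ?_⟩
    obtain ⟨k1, rfl⟩ := Subgroup.mem_zpowers_iff.mp hz1
    have hc : Commute (w ^ j1) (a ^ k1) := ((haw.zpow_left k1).zpow_right j1).symm
    rw [mul_inv_rev, zpow_neg]
    exact (hc.inv_inv).eq

/-- an automorphism of `t`-power order of a group of order `t` is trivial: element version -/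
theorem pow_conj_trivial {t : ℕ} (ht : t.Prime) {g w : G} {A : Subgroup G} {n : ℕ}
    (hg : ∃ j : ℕ, g ^ (t ^ j) = 1) (hw : orderOf w = t)
    (hA1 : ∀ z ∈ A, Commute g z) (hA2 : ∀ z ∈ A, Commute w z)
    (hAw : A ⊓ Subgroup.zpowers w = ⊥) (hc : ∃ z ∈ A, g * w * g⁻¹ = z * w ^ n) : w ^ n = w := by
  haveI : Fact t.Prime := ⟨ht⟩
  obtain ⟨z0, hz0, hc⟩ := hc
  have iter : ∀ m : ℕ, ∃ z ∈ A, g ^ m * w * (g ^ m)⁻¹ = z * w ^ (n ^ m) := by
    intro m
    induction m with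
    | zero => exact ⟨1, A.one_mem, by simp⟩
    | succ m ih =>
      obtain ⟨z, hz, hm⟩ := ih
      refine ⟨z * z0 ^ (n ^ m), A.mul_mem hz (A.pow_mem hz0 _), ?_⟩
      have e1 : g ^ (m + 1) * w * (g ^ (m + 1))⁻¹ = g * (g ^ m * w * (g ^ m)⁻¹) * g⁻¹ := by
        rw [pow_succ']; group
      have e2 : g * (z * w ^ (n ^ m)) * g⁻¹ = z * (g * w * g⁻¹) ^ (n ^ m) := by
        have hgz : g * z = z * g := (hA1 z hz).eq
        rw [conj_pow]
        calc g * (z * w ^ (n ^ m)) * g⁻¹ = (g * z) * w ^ (n ^ m) * g⁻¹ := by group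
          _ = (z * g) * w ^ (n ^ m) * g⁻¹ := by rw [hgz]
          _ = z * (g * w ^ (n ^ m) * g⁻¹) := by group
      have e3 : (z0 * w ^ n) ^ (n ^ m) = z0 ^ (n ^ m) * w ^ (n ^ (m + 1)) := by
        have hcm : Commute z0 (w ^ n) := ((hA2 z0 hz0).symm.pow_right n)
        rw [hcm.mul_pow, ← pow_mul, pow_succ']
      rw [e1, hm, e2, hc, e3]; group
  obtain ⟨j, hj⟩ := hg
  obtain ⟨z, hz, hm⟩ := iter (t ^ j)
  rw [hj] at hm
  simp only [one_mul, inv_one, mul_one] at hm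
  -- `z = w * (w ^ _)⁻¹ ∈ A ⊓ zpowers w = ⊥`
  have hz1 : z = 1 := by
    have : z ∈ A ⊓ Subgroup.zpowers w := by
      refine ⟨hz, ?_⟩
      have : z = w * (w ^ (n ^ t ^ j))⁻¹ := eq_mul_inv_of_mul_eq hm.symm
      rw [this]
      exact Subgroup.mul_mem _ (Subgroup.mem_zpowers w)
        (Subgroup.inv_mem _ (Subgroup.pow_mem _ (Subgroup.mem_zpowers w) _))
    rw [hAw, Subgroup.mem_bot] at this
    exact this
  rw [hz1, one_mul] at hm
  -- `n ^ t ^ j ≡ 1 [MOD t]` hence `n ≡ 1`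
  have h1 : w ^ (n ^ t ^ j) = w ^ 1 := by rw [pow_one]; exact hm.symm
  rw [pow_eq_pow_iff_modEq, hw] at h1
  have h2 : ((n ^ t ^ j : ℕ) : ZMod t) = ((1 : ℕ) : ZMod t) := (ZMod.natCast_eq_natCast_iff _ _ _).mpr h1
  rw [Nat.cast_pow, ZMod.pow_card_pow] at h2
  have h3 : n ≡ 1 [MOD t] := (ZMod.natCast_eq_natCast_iff _ _ _).mp h2
  have h4 : w ^ n = w ^ 1 := by rw [pow_eq_pow_iff_modEq, hw]; exact h3
  rw [h4, pow_one]

/-- the normaliser condition inside a `t`-subgroup -/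
theorem exists_normalizing {t : ℕ} [Fact t.Prime] {S C : Subgroup G} (hS : IsPGroup t S) (hCS : C ≤ S)
    (hne : C ≠ S) : ∃ g ∈ S, g ∉ C ∧ ∀ c ∈ C, g * c * g⁻¹ ∈ C := by
  haveI : Group.IsNilpotent ↥S := hS.isNilpotent
  have hnc : NormalizerCondition ↥S := Group.normalizerCondition_of_isNilpotent
  have hlt : C.subgroupOf S < ⊤ := by
    rw [lt_top_iff_ne_top]
    intro htop
    apply hne
    apply le_antisymm hCS
    intro x hx
    have : (⟨x, hx⟩ : ↥S) ∈ C.subgroupOf S := by rw [htop]; exact Subgroup.mem_top _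
    exact Subgroup.mem_subgroupOf.mp this
  have h1 := hnc _ hlt
  obtain ⟨g, hgN, hgC⟩ := SetLike.exists_of_lt h1
  refine ⟨g.1, g.2, fun hg => hgC (Subgroup.mem_subgroupOf.mpr hg), ?_⟩
  intro c hc
  have hc' : (⟨c, hCS hc⟩ : ↥S) ∈ C.subgroupOf S := Subgroup.mem_subgroupOf.mpr hc
  have := (Subgroup.mem_normalizer_iff.mp hgN ⟨c, hCS hc⟩).mp hc'
  have h2 := Subgroup.mem_subgroupOf.mp this
  simpa using h2

/-- conjugating fixed points -/
theorem inf_centralizer_conj_ne_bot {N : Subgroup G} {g e : G}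
    (hg : g ∈ Subgroup.normalizer (N : Set G)) (h : N ⊓ Subgroup.centralizer {e} ≠ ⊥) :
    N ⊓ Subgroup.centralizer {g * e * g⁻¹} ≠ ⊥ := by
  obtain ⟨v, hv, hv1⟩ := (Subgroup.bot_or_exists_ne_one _).resolve_left h
  rw [mem_inf_centralizer_singleton] at hv
  intro hbot
  have hmem : g * v * g⁻¹ ∈ N ⊓ Subgroup.centralizer {g * e * g⁻¹} := by
    rw [mem_inf_centralizer_singleton]
    refine ⟨(Subgroup.mem_normalizer_iff.mp hg v).mp hv.1, ?_⟩
    have h1 : e * v = v * e := hv.2.eq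
    show g * e * g⁻¹ * (g * v * g⁻¹) = g * v * g⁻¹ * (g * e * g⁻¹)
    calc g * e * g⁻¹ * (g * v * g⁻¹) = g * (e * v) * g⁻¹ := by group
      _ = g * (v * e) * g⁻¹ := by rw [h1]
      _ = g * v * g⁻¹ * (g * e * g⁻¹) := by group
  rw [hbot, Subgroup.mem_bot] at hmem
  apply hv1
  have : v = g⁻¹ * (g * v * g⁻¹) * g := by group
  rw [this, hmem]; group

/-- fixed points of an element are fixed by its powers -/
theorem inf_centralizer_zpow_ne_bot {N : Subgroup G} {e : G} (k : ℤ)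
    (h : N ⊓ Subgroup.centralizer {e} ≠ ⊥) : N ⊓ Subgroup.centralizer {e ^ k} ≠ ⊥ := by
  obtain ⟨v, hv, hv1⟩ := (Subgroup.bot_or_exists_ne_one _).resolve_left h
  rw [mem_inf_centralizer_singleton] at hv
  intro hbot
  have hmem : v ∈ N ⊓ Subgroup.centralizer {e ^ k} := by
    rw [mem_inf_centralizer_singleton]
    exact ⟨hv.1, hv.2.zpow_left k⟩
  rw [hbot, Subgroup.mem_bot] at hmem
  exact hv1 hmem

end Cfsg.Agent.Lib.Helper4.SolvTri
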