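import Mathlib
import Cfsg.Agent.Lib.Helper4.SolvTriC

set_option autoImplicit false
set_option linter.unusedSectionVars false
set_option linter.style.longLine false

/-! S3814, the case `F(G) = P × Q`: faithfulness on `P` and on `Q`, the non-singular lemma,
abelian normal subgroups are cyclic. -/

namespace Cfsg.Agent.Lib.Helper4.SolvTri

open Cfsg Cfsg.Agent.Lib.Helper4.BG8

universe u

variable {G : Type u} [Group G] [Finite G]

variable {p q r s : ℕ} {P Q T : Subgroup G}

theorem C2.T_le_normalizer_P (h : C2 p q r s P Q T) : T ≤ Subgroup.normalizer (P : Set G) := by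
  rw [Subgroup.normalizer_eq_top_iff.mpr h.Pn]; exact le_top

theorem C2.T_le_normalizer_Q (h : C2 p q r s P Q T) : T ≤ Subgroup.normalizer (Q : Set G) :=
  h.swapPQ.T_le_normalizer_P

/-- subgroups of `T` have order prime to `|P|` -/
theorem C2.coprime_P (h : C2 p q r s P Q T) {R V : Subgroup G} (hR : R ≤ T) (hV : V ≤ P) :
    (Nat.card R).Coprime (Nat.card V) := by
  haveI : Fact p.Prime := ⟨h.hp⟩
  by_contra hcon
  obtain ⟨ℓ, hℓ, h1, h2⟩ := Nat.Prime.not_coprime_iff_dvd.mp hcon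
  have h3 := h.card_dvd hR hℓ h1
  obtain ⟨n, hn⟩ := (IsPGroup.iff_card).mp h.P_isPGroup
  have h4 : ℓ ∣ p ^ n := by
    rw [← hn]; exact h2.trans (Subgroup.card_dvd_of_le hV)
  have h5 : ℓ = p := (Nat.prime_dvd_prime_iff_eq hℓ h.hp).mp (hℓ.dvd_of_dvd_pow h4)
  exact h.ne_p h3 h5.symm

theorem C2.coprime_Q (h : C2 p q r s P Q T) {R V : Subgroup G} (hR : R ≤ T) (hV : V ≤ Q) :
    (Nat.card R).Coprime (Nat.card V) := h.swapPQ.coprime_P hR hV

theorem C2.solvable_of_le (h : C2 p q r s P Q T) {K : Subgroup G} (hK : K ≤ T) :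
    Group.IsSolvable ↥K := by
  haveI := h.Tsolv
  exact Group.isSolvable_of_isSolvable_injective (Subgroup.inclusion_injective hK)

/-- an element of `E_s` different from `1` has order `s` -/
theorem orderOf_of_mem_pair {t : ℕ} (ht : t.Prime) {x y : G} (hxy : Commute x y) (hx : orderOf x = t)
    (hy : orderOf y = t) {e : G} (he : e ∈ pair x y) (he1 : e ≠ 1) : orderOf e = t := by
  haveI : Fact t.Prime := ⟨ht⟩
  have hxt : x ^ t = 1 := by rw [← hx]; exact pow_orderOf_eq_one x
  have hyt : y ^ t = 1 := by rw [← hy]; exact pow_orderOf_eq_one y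
  exact orderOf_eq_prime (pair_pow hxy hxt hyt e he) he1

/-- a subgroup that is commutative elementwise -/
theorem isMulCommutative_of_le_centralizer {Z : Subgroup G}
    (hZ : Z ≤ Subgroup.centralizer (Z : Set G)) : IsMulCommutative Z := by
  refine ⟨⟨fun a b => ?_⟩⟩
  apply Subtype.ext
  have := Subgroup.mem_centralizer_iff.mp (hZ b.2) a.1 a.2
  simpa using this

/-- the first step towards faithfulness on `P`: `O_r(C_T(P)) = 1` -/
theorem C2.faithP_aux (h : C2 p q r s P Q T) :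
    opOf r (T ⊓ Subgroup.centralizer (P : Set G)) = ⊥ := by
  haveI : Fact r.Prime := ⟨h.hr⟩
  haveI : Fact s.Prime := ⟨h.hs⟩
  haveI : Fact q.Prime := ⟨h.hq⟩
  by_contra hO
  have hTP := h.T_le_normalizer_P
  have hTQ := h.T_le_normalizer_Q
  have hTC : T ≤ Subgroup.normalizer
      ((T ⊓ Subgroup.centralizer (P : Set G) : Subgroup G) : Set G) :=
    le_normalizer_inf_centralizer Subgroup.le_normalizer hTP
  have hTO : T ≤ Subgroup.normalizer
      ((opOf r (T ⊓ Subgroup.centralizer (P : Set G)) : Subgroup G) : Set G) :=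
    hTC.trans (normalizer_le_normalizer_opOf r _)
  have hOC : opOf r (T ⊓ Subgroup.centralizer (P : Set G)) ≤ T ⊓ Subgroup.centralizer (P : Set G) :=
    opOf_le r _
  have hOr : IsPGroup r (opOf r (T ⊓ Subgroup.centralizer (P : Set G))) := opOf_isPGroup r _
  obtain ⟨Z, hZdef⟩ : ∃ Z : Subgroup G, Z = opOf r (T ⊓ Subgroup.centralizer (P : Set G)) ⊓
      Subgroup.centralizer ((opOf r (T ⊓ Subgroup.centralizer (P : Set G)) : Subgroup G) : Set G) :=
    ⟨_, rfl⟩
  have hZ1 : Z ≠ ⊥ := by rw [hZdef]; exact center_ne_bot' hOr hO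
  have hTZ : T ≤ Subgroup.normalizer (Z : Set G) := by
    rw [hZdef]; exact le_normalizer_inf_centralizer hTO hTO
  have hZO : Z ≤ opOf r (T ⊓ Subgroup.centralizer (P : Set G)) := by rw [hZdef]; exact inf_le_left
  have hZC : Z ≤ T ⊓ Subgroup.centralizer (P : Set G) := hZO.trans hOC
  have hZT : Z ≤ T := hZC.trans inf_le_left
  have hZr : IsPGroup r Z := hOr.to_le hZO
  -- every non-identity element of `C_T(P)` is fixed-point-free on `Q`
  have hfree : ∀ g ∈ T ⊓ Subgroup.centralizer (P : Set G), g ≠ 1 →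
      Q ⊓ Subgroup.centralizer {g} = ⊥ := by
    intro g hg hg1
    rcases h.c0 hg.1 hg1 with h1 | h1
    · exfalso
      apply h.P1
      rw [eq_bot_iff, ← h1]
      refine le_inf le_rfl ?_
      intro v hv
      rw [Subgroup.mem_centralizer_iff]
      intro x hx
      rw [Set.mem_singleton_iff] at hx
      rw [hx]
      exact (Subgroup.mem_centralizer_iff.mp hg.2 v hv).symm
    · exact h1
  haveI hZcomm : IsMulCommutative Z := by
    apply isMulCommutative_of_le_centralizer
    intro z hz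
    have hz' : z ∈ opOf r (T ⊓ Subgroup.centralizer (P : Set G)) ⊓
      Subgroup.centralizer ((opOf r (T ⊓ Subgroup.centralizer (P : Set G)) : Subgroup G) : Set G) := by
      rw [← hZdef]; exact hz
    exact Subgroup.centralizer_le (fun x hx => hZO hx) hz'.2
  -- `Z` is cyclic
  have hZc : IsCyclic Z := by
    by_contra hnc
    obtain ⟨a, haZ, ha1, hfix⟩ := exists_fix Z Q hnc (hZT.trans hTQ) (h.coprime_Q hZT le_rfl) h.Q1
    exact hfix (hfree a (hZC haZ) ha1)
  have hrZ : r ∣ Nat.card Z := by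
    rcases hZr.card_eq_or_dvd with h2 | h2
    · exact absurd (Subgroup.card_eq_one.mp h2) hZ1
    · exact h2
  obtain ⟨a, haZ, hao, hchar⟩ := exists_char_prime hZc h.hr hrZ
  have ha1 : a ≠ 1 := by
    intro h1; rw [h1, orderOf_one] at hao; exact h.hr.one_lt.ne hao
  have haC : a ∈ T ⊓ Subgroup.centralizer (P : Set G) := hZC haZ
  -- `zpowers a` is normalised by `T`
  have hTa : ∀ g ∈ T, g * a * g⁻¹ ∈ Subgroup.zpowers a := by
    intro g hg
    apply hchar _ ((Subgroup.mem_normalizer_iff.mp (hTZ hg) a).mp haZ)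
    rw [conj_pow, ← hao, pow_orderOf_eq_one]; group
  obtain ⟨x, y, hxT, hyT, hxo, hyo, hxy, hyx⟩ := h.Es
  have hE : pair x y ≤ T := pair_le hxT hyT
  haveI := pair_comm hxy
  obtain ⟨e, heE, he1, hefix⟩ := exists_fix (pair x y) P (pair_not_cyclic hxy h.hs hxo hyo hyx)
    (hE.trans hTP) (h.coprime_P hE le_rfl) h.P1
  have heo : orderOf e = s := orderOf_of_mem_pair h.hs hxy hxo hyo heE he1
  have heT : e ∈ T := hE heE
  by_cases hea : Commute e a
  · obtain ⟨v, hv, hv1⟩ := (Subgroup.bot_or_exists_ne_one _).resolve_left hefix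
    rw [mem_inf_centralizer_singleton] at hv
    have hva : Commute v a := (Subgroup.mem_centralizer_iff.mp haC.2 v hv.1)
    have hve : Commute v e := hv.2.symm
    have hov := h.orderOf_P hv.1 hv1
    have ho := orderOf_mul3 hva hve hea.symm
      (by rw [hov, hao]; exact (Nat.coprime_primes h.hp h.hr).mpr h.hpr)
      (by rw [hov, heo]; exact (Nat.coprime_primes h.hp h.hs).mpr h.hps)
      (by rw [hao, heo]; exact (Nat.coprime_primes h.hr h.hs).mpr h.hrs)
    rw [hov, hao, heo] at ho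
    exact (h.no3 _).2.2.1 ho
  · have hQa : ¬ Q ≤ Subgroup.centralizer ({a} : Set G) := by
      intro hle
      apply h.Q1
      rw [eq_bot_iff, ← hfree a haC ha1]
      exact le_inf le_rfl hle
    have hfr := Cfsg.Agent.Lib.Helper2.BGAux.frobenius_fixed (p := s) (q := r) (t := q)
      h.hrs.symm h.hqs h.hqr (z := e) (c := a) heo hao (hTa e heT) (fun hh => hea hh)
      (T := Q) h.Q_isPGroup (hTQ heT) (hTQ haC.1) hQa
    rcases h.c0 heT he1 with h1 | h1
    · exact hefix h1
    · exact hfr.1 h1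

/-- `T` acts faithfully on `P` -/
theorem C2.faithP (h : C2 p q r s P Q T) : T ⊓ Subgroup.centralizer (P : Set G) = ⊥ := by
  by_contra hC
  have hsolv : Group.IsSolvable ↥(T ⊓ Subgroup.centralizer (P : Set G)) :=
    h.solvable_of_le inf_le_left
  have hF := fittingOf_ne_bot hsolv hC
  have hcard : Nat.card (fittingOf (T ⊓ Subgroup.centralizer (P : Set G))) ≠ 1 := by
    intro h1; exact hF (Subgroup.card_eq_one.mp h1)
  obtain ⟨ℓ, hℓ, hd⟩ := Nat.exists_prime_and_dvd hcard
  haveI : Fact ℓ.Prime := ⟨hℓ⟩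
  have hO : opOf ℓ (T ⊓ Subgroup.centralizer (P : Set G)) ≠ ⊥ := (opOf_ne_bot_iff _).mpr hd
  rcases h.card_dvd ((fittingOf_le _).trans inf_le_left) hℓ hd with rfl | rfl
  · exact hO h.faithP_aux
  · exact hO h.swapRS.faithP_aux

theorem C2.faithQ (h : C2 p q r s P Q T) : T ⊓ Subgroup.centralizer (Q : Set G) = ⊥ :=
  h.swapPQ.faithP

/-- (NS) an element of order `r` of `T` centralises every `s`-subgroup of `T` that it normalises, provided
`s` is odd or the subgroup is abelian -/
theorem C2.ns2 (h : C2 p q r s P Q T) {x : G} (hxT : x ∈ T) (hxo : orderOf x = r) {R : Subgroup G}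
    (hRT : R ≤ T) (hRs : IsPGroup s R) (hxR : x ∈ Subgroup.normalizer (R : Set G))
    (hexc : s = 2 → IsMulCommutative R) : R ≤ Subgroup.centralizer {x} := by
  haveI : Fact r.Prime := ⟨h.hr⟩
  by_contra hnc
  have hx1 : x ≠ 1 := by
    intro h1; rw [h1, orderOf_one] at hxo; exact h.hr.one_lt.ne hxo
  have hXcard : Nat.card (Subgroup.zpowers x) = r := by rw [Nat.card_zpowers, hxo]
  have hXR : Subgroup.zpowers x ≤ Subgroup.normalizer (R : Set G) := Subgroup.zpowers_le.mpr hxR
  have hXT : Subgroup.zpowers x ≤ T := Subgroup.zpowers_le.mpr hxT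
  have hXf : Subgroup.zpowers x ⊓ Subgroup.centralizer (R : Set G) = ⊥ := by
    rw [eq_bot_iff]
    intro z hz
    rw [Subgroup.mem_bot]
    by_contra hz1
    apply hnc
    have h1 : x ∈ Subgroup.zpowers z :=
      Cfsg.Agent.Lib.Helper2.BGAux.mem_zpowers_of_prime_order hxo hz.1 hz1
    have h2 : Subgroup.zpowers z ≤ Subgroup.centralizer (R : Set G) := Subgroup.zpowers_le.mpr hz.2
    have h3 : x ∈ Subgroup.centralizer (R : Set G) := h2 h1
    intro g hg
    rw [Subgroup.mem_centralizer_iff]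
    intro y hy
    rw [Set.mem_singleton_iff] at hy
    rw [hy]
    exact (Subgroup.mem_centralizer_iff.mp h3 g hg).symm
  have hXRT : Subgroup.zpowers x ⊔ R ≤ T := sup_le hXT hRT
  have hfP : (Subgroup.zpowers x ⊔ R) ⊓ Subgroup.centralizer (P : Set G) = ⊥ := by
    rw [eq_bot_iff, ← h.faithP]; exact inf_le_inf_right _ hXRT
  have hfQ : (Subgroup.zpowers x ⊔ R) ⊓ Subgroup.centralizer (Q : Set G) = ⊥ := by
    rw [eq_bot_iff, ← h.faithQ]; exact inf_le_inf_right _ hXRT
  have hP := Cfsg.Agent.S3765.result h.hp h.hs h.hr h.hps h.hpr h.hrs.symm (Subgroup.zpowers x) R P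
    hXcard hRs hXR hXf h.Pea h.P1 (hXT.trans h.T_le_normalizer_P) (hRT.trans h.T_le_normalizer_P) hfP
    (fun h2 _ => hexc h2)
  have hQ := Cfsg.Agent.S3765.result h.hq h.hs h.hr h.hqs h.hqr h.hrs.symm (Subgroup.zpowers x) R Q
    hXcard hRs hXR hXf h.Qea h.Q1 (hXT.trans h.T_le_normalizer_Q) (hRT.trans h.T_le_normalizer_Q) hfQ
    (fun h2 _ => hexc h2)
  rw [centralizer_zpowers_eq] at hP hQ
  rcases h.c0 hxT hx1 with h1 | h1
  · exact hP h1
  · exact hQ h1

/-- (R) a non-cyclic abelian subgroup of `T` has no common fixed point on `P` -/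
theorem C2.R_P (h : C2 p q r s P Q T) {A : Subgroup G} (hAT : A ≤ T) [IsMulCommutative A]
    (hA : ¬ IsCyclic A) : P ⊓ Subgroup.centralizer (A : Set G) = ⊥ := by
  by_contra hne
  obtain ⟨v, hv, hv1⟩ := (Subgroup.bot_or_exists_ne_one _).resolve_left hne
  obtain ⟨a, haA, ha1, hfix⟩ := exists_fix A Q hA (hAT.trans h.T_le_normalizer_Q)
    (h.coprime_Q hAT le_rfl) h.Q1
  rcases h.c0 (hAT haA) ha1 with h1 | h1
  · apply hv1
    have : v ∈ P ⊓ Subgroup.centralizer {a} := by
      rw [mem_inf_centralizer_singleton]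
      exact ⟨hv.1, (Subgroup.mem_centralizer_iff.mp hv.2 a haA)⟩
    rw [h1, Subgroup.mem_bot] at this
    exact this
  · exact hfix h1

theorem C2.R_Q (h : C2 p q r s P Q T) {A : Subgroup G} (hAT : A ≤ T) [IsMulCommutative A]
    (hA : ¬ IsCyclic A) : Q ⊓ Subgroup.centralizer (A : Set G) = ⊥ := h.swapPQ.R_P hAT hA

/-- (4') an abelian `r`-subgroup of `T` normalised by `T` is cyclic -/
theorem C2.cyc4 (h : C2 p q r s P Q T) {B : Subgroup G} (hBT : B ≤ T) (hBr : IsPGroup r B)
    [IsMulCommutative B] (hTB : T ≤ Subgroup.normalizer (B : Set G)) : IsCyclic B := by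
  haveI : Fact r.Prime := ⟨h.hr⟩
  by_contra hnc
  have hTP := h.T_le_normalizer_P
  obtain ⟨x, y, hxT, hyT, hxo, hyo, hxy, hyx⟩ := h.Es
  have hE : pair x y ≤ T := pair_le hxT hyT
  haveI := pair_comm hxy
  obtain ⟨e, heE, he1, hefix⟩ := exists_fix (pair x y) P (pair_not_cyclic hxy h.hs hxo hyo hyx)
    (hE.trans hTP) (h.coprime_P hE le_rfl) h.P1
  have heo : orderOf e = s := orderOf_of_mem_pair h.hs hxy hxo hyo heE he1
  have heT : e ∈ T := hE heE
  have hBe : B ≤ Subgroup.centralizer {e} :=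
    h.swapRS.ns2 heT heo hBT hBr (hTB heT) (fun _ => inferInstance)
  -- `B` acts on `C_P(e)`
  have hBV : B ≤ Subgroup.normalizer ((P ⊓ Subgroup.centralizer {e} : Subgroup G) : Set G) := by
    rw [← centralizer_zpowers_eq]
    apply le_normalizer_inf_centralizer (hBT.trans hTP)
    rw [← centralizer_zpowers_eq] at hBe
    exact hBe.trans (Subgroup.centralizer_le_normalizer _)
  obtain ⟨b, hbB, hb1, hbfix⟩ := exists_fix B (P ⊓ Subgroup.centralizer {e}) hnc hBV
    (h.coprime_P hBT inf_le_left) hefix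
  obtain ⟨v, hv, hv1⟩ := (Subgroup.bot_or_exists_ne_one _).resolve_left hbfix
  rw [mem_inf_centralizer_singleton] at hv
  obtain ⟨hvPe, hbv⟩ := hv
  rw [mem_inf_centralizer_singleton] at hvPe
  obtain ⟨hvP, hev⟩ := hvPe
  have hbe : Commute b e := by
    have := Subgroup.mem_centralizer_iff.mp (hBe hbB) e rfl
    exact this.symm
  -- a power of `b` of order `r`
  obtain ⟨ℓ, hℓ, hd, k, hk⟩ := exists_pow_prime_order hb1
  have hℓr : ℓ = r := by
    obtain ⟨m, hm⟩ := (IsPGroup.iff_orderOf).mp hBr ⟨b, hbB⟩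
    rw [Subgroup.orderOf_mk] at hm
    rw [hm] at hd
    exact (Nat.prime_dvd_prime_iff_eq hℓ h.hr).mp (hℓ.dvd_of_dvd_pow hd)
  rw [hℓr] at hk
  have hov := h.orderOf_P hvP hv1
  have ho := orderOf_mul3 (hbv.pow_left k).symm hev.symm (hbe.pow_left k)
    (by rw [hov, hk]; exact (Nat.coprime_primes h.hp h.hr).mpr h.hpr)
    (by rw [hov, heo]; exact (Nat.coprime_primes h.hp h.hs).mpr h.hps)
    (by rw [hk, heo]; exact (Nat.coprime_primes h.hr h.hs).mpr h.hrs)
  rw [hov, hk, heo] at ho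
  exact (h.no3 _).2.2.1 ho

end Cfsg.Agent.Lib.Helper4.SolvTri
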