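import Mathlib
import Cfsg.Agent.Lib.Helper4.SolvTriD

set_option autoImplicit false
set_option linter.unusedSectionVars false
set_option linter.style.longLine false

/-! S3814, the case `F(G) = P × Q`: elements of order `r` are central in every `r`-subgroup containing
a normal subgroup of order `r` (Step B). -/

namespace Cfsg.Agent.Lib.Helper4.SolvTri

open Cfsg Cfsg.Agent.Lib.Helper4.BG8

universe u

variable {G : Type u} [Group G] [Finite G]

variable {p q r s : ℕ} {P Q T : Subgroup G}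

theorem exists_nat_pow_of_mem_zpowers {x y : G} (h : y ∈ Subgroup.zpowers x) : ∃ n : ℕ, x ^ n = y :=
  (Submonoid.mem_powers_iff _ _).mp (mem_powers_iff_mem_zpowers.mpr h)

theorem ne_one_of_orderOf_prime {t : ℕ} (ht : t.Prime) {a : G} (ha : orderOf a = t) : a ≠ 1 := by
  intro h1; rw [h1, orderOf_one] at ha; exact ht.one_lt.ne ha

theorem pow_eq_one_of_mem_zpowers {t : ℕ} {a z : G} (ha : orderOf a = t) (hz : z ∈ Subgroup.zpowers a) :
    z ^ t = 1 := by
  obtain ⟨k, rfl⟩ := Subgroup.mem_zpowers_iff.mp hz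
  rw [← zpow_natCast, ← zpow_mul, mul_comm, zpow_mul, zpow_natCast, ← ha, pow_orderOf_eq_one, one_zpow]

/-- elements of `zpowers a` commute with everything commuting with `a` -/
theorem commute_of_mem_zpowers {a z g : G} (hz : z ∈ Subgroup.zpowers a) (hg : Commute g a) :
    Commute g z := by
  obtain ⟨k, rfl⟩ := Subgroup.mem_zpowers_iff.mp hz
  exact hg.zpow_right k

/-- type `P` elements in `⟨a, w⟩` -/
theorem C2.exists_typeP (h : C2 p q r s P Q T) {a w : G} (haT : a ∈ T) (hwT : w ∈ T)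
    (hao : orderOf a = r) (hwo : orderOf w = r) (haw : Commute a w) (hwa : w ∉ Subgroup.zpowers a)
    (hfa : P ⊓ Subgroup.centralizer {a} = ⊥) :
    ∃ z ∈ Subgroup.zpowers a, P ⊓ Subgroup.centralizer {z * w} ≠ ⊥ := by
  haveI : Fact r.Prime := ⟨h.hr⟩
  have hE : pair a w ≤ T := pair_le haT hwT
  haveI := pair_comm haw
  obtain ⟨e, heE, he1, hefix⟩ := exists_fix (pair a w) P (pair_not_cyclic haw h.hr hao hwo hwa)
    (hE.trans h.T_le_normalizer_P) (h.coprime_P hE le_rfl) h.P1
  obtain ⟨z, hz, j, rfl⟩ := exists_of_mem_pair haw heE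
  by_cases hwj : w ^ j = 1
  · exfalso
    rw [hwj, mul_one] at he1 hefix
    have h1 : a ∈ Subgroup.zpowers z :=
      Cfsg.Agent.Lib.Helper2.BGAux.mem_zpowers_of_prime_order hao hz he1
    obtain ⟨k, hk⟩ := Subgroup.mem_zpowers_iff.mp h1
    have := inf_centralizer_zpow_ne_bot k hefix
    rw [hk] at this
    exact this hfa
  · have h1 : w ∈ Subgroup.zpowers (w ^ j) :=
      Cfsg.Agent.Lib.Helper2.BGAux.mem_zpowers_of_prime_order hwo
        (Subgroup.zpow_mem _ (Subgroup.mem_zpowers w) j) hwj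
    obtain ⟨k, hk⟩ := Subgroup.mem_zpowers_iff.mp h1
    refine ⟨z ^ k, Subgroup.zpow_mem _ hz k, ?_⟩
    have hc : Commute z (w ^ j) := ((commute_of_mem_zpowers hz haw.symm).symm).zpow_right j
    have := inf_centralizer_zpow_ne_bot k hefix
    rw [hc.mul_zpow, hk] at this
    exact this

/-- (*) a conjugation moving `w` inside `w ⟨a⟩` fixes `w` -/
theorem C2.star (h : C2 p q r s P Q T) {a w g c : G} (haT : a ∈ T) (hwT : w ∈ T) (hgT : g ∈ T)
    (hao : orderOf a = r) (hwo : orderOf w = r) (haw : Commute a w) (hwa : w ∉ Subgroup.zpowers a)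
    (hfP : P ⊓ Subgroup.centralizer {a} = ⊥) (hfQ : Q ⊓ Subgroup.centralizer {a} = ⊥)
    (hga : Commute g a) (hc : c ∈ Subgroup.zpowers a) (hconj : g * w * g⁻¹ = c * w) : c = 1 := by
  haveI : Fact r.Prime := ⟨h.hr⟩
  by_contra hc1
  obtain ⟨zP, hzP, hP⟩ := h.exists_typeP haT hwT hao hwo haw hwa hfP
  obtain ⟨zQ, hzQ, hQ⟩ := h.swapPQ.exists_typeP haT hwT hao hwo haw hwa hfQ
  have hac : a ∈ Subgroup.zpowers c :=
    Cfsg.Agent.Lib.Helper2.BGAux.mem_zpowers_of_prime_order hao hc hc1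
  have hle : Subgroup.zpowers a ≤ Subgroup.zpowers c := Subgroup.zpowers_le.mpr hac
  have hmem : zQ * zP⁻¹ ∈ Subgroup.zpowers c :=
    hle (Subgroup.mul_mem _ hzQ (Subgroup.inv_mem _ hzP))
  obtain ⟨m, hm⟩ := exists_nat_pow_of_mem_zpowers hmem
  have hgc : Commute g c := commute_of_mem_zpowers hc hga
  have iter : ∀ m : ℕ, g ^ m * w * (g ^ m)⁻¹ = c ^ m * w := by
    intro m
    induction m with
    | zero => simp
    | succ m ih =>
      have e1 : g ^ (m + 1) * w * (g ^ (m + 1))⁻¹ = g * (g ^ m * w * (g ^ m)⁻¹) * g⁻¹ := by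
        rw [pow_succ']; group
      have hgcm : g * c ^ m = c ^ m * g := (hgc.pow_right m).eq
      rw [e1, ih]
      calc g * (c ^ m * w) * g⁻¹ = (g * c ^ m) * w * g⁻¹ := by group
        _ = (c ^ m * g) * w * g⁻¹ := by rw [hgcm]
        _ = c ^ m * (g * w * g⁻¹) := by group
        _ = c ^ (m + 1) * w := by rw [hconj, pow_succ]; group
  -- conjugating `zP * w` by `g ^ m` gives `zQ * w`
  have hgzP : Commute (g ^ m) zP := (commute_of_mem_zpowers hzP hga).pow_left m
  have hzPQ : Commute zP zQ := by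
    obtain ⟨k1, rfl⟩ := Subgroup.mem_zpowers_iff.mp hzP
    obtain ⟨k2, rfl⟩ := Subgroup.mem_zpowers_iff.mp hzQ
    exact ((Commute.refl a).zpow_left k1).zpow_right k2
  have e2 : g ^ m * (zP * w) * (g ^ m)⁻¹ = zQ * w := by
    calc g ^ m * (zP * w) * (g ^ m)⁻¹ = (g ^ m * zP) * w * (g ^ m)⁻¹ := by group
      _ = (zP * g ^ m) * w * (g ^ m)⁻¹ := by rw [hgzP.eq]
      _ = zP * (g ^ m * w * (g ^ m)⁻¹) := by group
      _ = zP * (zQ * zP⁻¹ * w) := by rw [iter m, hm]
      _ = (zP * zQ) * zP⁻¹ * w := by group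
      _ = (zQ * zP) * zP⁻¹ * w := by rw [hzPQ.eq]
      _ = zQ * w := by group
  have hP' := inf_centralizer_conj_ne_bot (N := P) (g := g ^ m) (e := zP * w)
    (h.T_le_normalizer_P (T.pow_mem hgT m)) hP
  rw [e2] at hP'
  have hzQT : zQ ∈ T := (Subgroup.zpowers_le.mpr haT) hzQ
  have hne : zQ * w ≠ 1 := by
    intro h1
    apply hwa
    have : w = zQ⁻¹ := by
      have := congrArg (fun y => zQ⁻¹ * y) h1
      simpa using this
    rw [this]; exact Subgroup.inv_mem _ hzQ
  rcases h.c0 (T.mul_mem hzQT hwT) hne with h1 | h1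
  · exact hP' h1
  · exact hQ h1

/-- special case of the rank bound: `a, w, w'` pairwise commuting of exponent `r`, `a` fixed-point-free
on `P`; then `w' ∈ ⟨a, w⟩` -/
theorem C2.specC1 (h : C2 p q r s P Q T) {a w w' : G} (haT : a ∈ T) (hwT : w ∈ T) (hw'T : w' ∈ T)
    (hao : orderOf a = r) (hwo : orderOf w = r) (hw'r : w' ^ r = 1) (haw : Commute a w)
    (haw' : Commute a w') (hww' : Commute w w') (hwa : w ∉ Subgroup.zpowers a)
    (hfP : P ⊓ Subgroup.centralizer {a} = ⊥) :
    ∃ c ∈ Subgroup.zpowers a, ∃ n : ℕ, w' = c * w ^ n := by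
  haveI : Fact r.Prime := ⟨h.hr⟩
  by_cases hw'a : w' ∈ Subgroup.zpowers a
  · exact ⟨w', hw'a, 0, by simp⟩
  have hw'1 : w' ≠ 1 := fun h1 => hw'a (h1 ▸ Subgroup.one_mem _)
  have hw'o : orderOf w' = r := orderOf_eq_prime hw'r hw'1
  have hTP := h.T_le_normalizer_P
  obtain ⟨z, hz, hV⟩ := h.exists_typeP haT hwT hao hwo haw hwa hfP
  have hzT : z ∈ T := (Subgroup.zpowers_le.mpr haT) hz
  have hzwT : z * w ∈ T := T.mul_mem hzT hwT
  have hza : Commute a z := commute_of_mem_zpowers hz (Commute.refl a)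
  have hzw : Commute z w := (commute_of_mem_zpowers hz haw.symm).symm
  have hzw' : Commute z w' := (commute_of_mem_zpowers hz haw'.symm).symm
  -- `z * w` has order `r`
  have hzw1 : z * w ≠ 1 := by
    intro h1
    apply hwa
    have : w = z⁻¹ := by
      have := congrArg (fun y => z⁻¹ * y) h1
      simpa using this
    rw [this]; exact Subgroup.inv_mem _ hz
  have hzwo : orderOf (z * w) = r := by
    apply orderOf_eq_prime _ hzw1
    rw [hzw.mul_pow, pow_eq_one_of_mem_zpowers hao hz, ← hwo, pow_orderOf_eq_one, one_mul]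
  -- `⟨a, w'⟩` centralises `z * w`
  have hE : pair a w' ≤ T := pair_le haT hw'T
  have hEc : pair a w' ≤ Subgroup.centralizer {z * w} := by
    apply pair_le
    · rw [Subgroup.mem_centralizer_iff]
      intro x hx
      rw [Set.mem_singleton_iff] at hx
      rw [hx]
      exact ((hza.symm.mul_left haw.symm)).eq
    · rw [Subgroup.mem_centralizer_iff]
      intro x hx
      rw [Set.mem_singleton_iff] at hx
      rw [hx]
      exact ((hzw'.mul_left hww')).eq
  have hEV : pair a w' ≤ Subgroup.normalizer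
      ((P ⊓ Subgroup.centralizer {z * w} : Subgroup G) : Set G) := by
    rw [← centralizer_zpowers_eq]
    apply le_normalizer_inf_centralizer (hE.trans hTP)
    rw [← centralizer_zpowers_eq] at hEc
    exact hEc.trans (Subgroup.centralizer_le_normalizer _)
  haveI := pair_comm haw'
  obtain ⟨e, heE, he1, hefix⟩ := exists_fix (pair a w') (P ⊓ Subgroup.centralizer {z * w})
    (pair_not_cyclic haw' h.hr hao hw'o hw'a) hEV (h.coprime_P hE inf_le_left) hV
  have heo : orderOf e = r := orderOf_of_mem_pair h.hr haw' hao hw'o heE he1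
  have heT : e ∈ T := hE heE
  have hzwe : Commute (z * w) e := by
    have := Subgroup.mem_centralizer_iff.mp (hEc heE) (z * w) rfl
    exact this
  -- `⟨z w, e⟩` has a common fixed point on `P`, so it is cyclic
  have hcyc : e ∈ Subgroup.zpowers (z * w) := by
    by_contra hnot
    have hnc := pair_not_cyclic hzwe h.hr hzwo heo hnot
    haveI := pair_comm hzwe
    have hR := h.R_P (pair_le hzwT heT) hnc
    apply hefix
    rw [eq_bot_iff, ← hR]
    intro v hv
    rw [mem_inf_centralizer_singleton, mem_inf_centralizer_singleton] at hv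
    obtain ⟨⟨hvP, h1⟩, h2⟩ := hv
    refine Subgroup.mem_inf.mpr ⟨hvP, ?_⟩
    have hle : pair (z * w) e ≤ Subgroup.centralizer {v} := by
      apply pair_le
      · rw [Subgroup.mem_centralizer_iff]
        intro x hx
        rw [Set.mem_singleton_iff] at hx
        rw [hx]; exact h1.symm.eq
      · rw [Subgroup.mem_centralizer_iff]
        intro x hx
        rw [Set.mem_singleton_iff] at hx
        rw [hx]; exact h2.symm.eq
    rw [Subgroup.mem_centralizer_iff]
    intro x hx
    have := Subgroup.mem_centralizer_iff.mp (hle hx) v rfl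
    exact this.symm
  obtain ⟨m, hm⟩ := Subgroup.mem_zpowers_iff.mp hcyc
  obtain ⟨z', hz', j, hej⟩ := exists_of_mem_pair haw' heE
  have hePfix : P ⊓ Subgroup.centralizer {e} ≠ ⊥ := by
    intro hbot
    apply hefix
    rw [eq_bot_iff, ← hbot]
    exact inf_le_inf_right _ inf_le_left
  by_cases hwj : w' ^ j = 1
  · exfalso
    rw [hwj, mul_one] at hej
    rw [hej] at he1 hePfix
    have h1 : a ∈ Subgroup.zpowers z' :=
      Cfsg.Agent.Lib.Helper2.BGAux.mem_zpowers_of_prime_order hao hz' he1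
    obtain ⟨k, hk⟩ := Subgroup.mem_zpowers_iff.mp h1
    have := inf_centralizer_zpow_ne_bot k hePfix
    rw [hk] at this
    exact this hfP
  · have h1 : w' ∈ Subgroup.zpowers (w' ^ j) :=
      Cfsg.Agent.Lib.Helper2.BGAux.mem_zpowers_of_prime_order hw'o
        (Subgroup.zpow_mem _ (Subgroup.mem_zpowers w') j) hwj
    obtain ⟨k, hk⟩ := Subgroup.mem_zpowers_iff.mp h1
    -- `w' ^ j = z'⁻¹ * z ^ m * w ^ m`
    have e1 : w' ^ j = (z'⁻¹ * z ^ m) * w ^ m := by
      have : z' * w' ^ j = z ^ m * w ^ m := by rw [← hej, ← hm, hzw.mul_zpow]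
      calc w' ^ j = z'⁻¹ * (z' * w' ^ j) := by group
        _ = z'⁻¹ * (z ^ m * w ^ m) := by rw [this]
        _ = (z'⁻¹ * z ^ m) * w ^ m := by group
    have hcz : z'⁻¹ * z ^ m ∈ Subgroup.zpowers a :=
      Subgroup.mul_mem _ (Subgroup.inv_mem _ hz') (Subgroup.zpow_mem _ hz m)
    have hcw : Commute (z'⁻¹ * z ^ m) (w ^ m) :=
      ((commute_of_mem_zpowers hcz haw.symm).symm).zpow_right m
    have e2 : w' = (z'⁻¹ * z ^ m) ^ k * (w ^ m) ^ k := by
      rw [← hcw.mul_zpow, ← e1, hk]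
    obtain ⟨n, hn⟩ := exists_nat_pow_of_mem_zpowers
      (Subgroup.zpow_mem _ (Subgroup.zpow_mem _ (Subgroup.mem_zpowers w) m) k)
    refine ⟨(z'⁻¹ * z ^ m) ^ k, Subgroup.zpow_mem _ hcz k, n, ?_⟩
    rw [hn]; exact e2

/-- STEP B: in an `r`-subgroup `S` of `T` with a central element `a` of order `r` that is fixed-point-free on
`P` and on `Q`, every element of order dividing `r` is central -/
theorem C2.stepB (h : C2 p q r s P Q T) {S : Subgroup G} (hST : S ≤ T) (hS : IsPGroup r S) {a : G}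
    (haS : a ∈ S) (hao : orderOf a = r) (hac : ∀ g ∈ S, Commute g a)
    (hfP : P ⊓ Subgroup.centralizer {a} = ⊥) (hfQ : Q ⊓ Subgroup.centralizer {a} = ⊥)
    {w : G} (hwS : w ∈ S) (hwr : w ^ r = 1) : ∀ g ∈ S, Commute g w := by
  haveI : Fact r.Prime := ⟨h.hr⟩
  by_contra hcon
  push Not at hcon
  obtain ⟨g0, hg0S, hg0w⟩ := hcon
  have hwa : w ∉ Subgroup.zpowers a := by
    intro hw
    exact hg0w (commute_of_mem_zpowers hw (hac g0 hg0S))
  have hw1 : w ≠ 1 := fun h1 => hwa (h1 ▸ Subgroup.one_mem _)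
  have hwo : orderOf w = r := orderOf_eq_prime hwr hw1
  have hne : S ⊓ Subgroup.centralizer {w} ≠ S := by
    intro heq
    have : g0 ∈ S ⊓ Subgroup.centralizer {w} := by rw [heq]; exact hg0S
    rw [mem_inf_centralizer_singleton] at this
    exact hg0w this.2.symm
  obtain ⟨g, hgS, hgC, hgN⟩ := exists_normalizing hS inf_le_left hne
  have hwC : w ∈ S ⊓ Subgroup.centralizer {w} := by
    rw [mem_inf_centralizer_singleton]; exact ⟨hwS, Commute.refl w⟩
  have hw' := hgN w hwC
  rw [mem_inf_centralizer_singleton] at hw'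
  obtain ⟨hw'S, hww'⟩ := hw'
  have haw : Commute a w := (hac w hwS).symm
  have haw' : Commute a (g * w * g⁻¹) := (hac _ hw'S).symm
  have hw'r : (g * w * g⁻¹) ^ r = 1 := by rw [conj_pow, hwr]; group
  obtain ⟨c, hc, n, hcn⟩ := h.specC1 (hST haS) (hST hwS) (hST hw'S) hao hwo hw'r haw haw' hww' hwa hfP
  have hgpow : ∃ j : ℕ, g ^ (r ^ j) = 1 := by
    obtain ⟨j, hj⟩ := hS ⟨g, hgS⟩
    refine ⟨j, ?_⟩
    have := congrArg (fun y : ↥S => (y : G)) hj
    simpa using this
  have hAw : Subgroup.zpowers a ⊓ Subgroup.zpowers w = ⊥ := by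
    rw [eq_bot_iff]
    intro z hz
    rw [Subgroup.mem_bot]
    by_contra hz1
    apply hwa
    have h1 : w ∈ Subgroup.zpowers z :=
      Cfsg.Agent.Lib.Helper2.BGAux.mem_zpowers_of_prime_order hwo hz.2 hz1
    exact (Subgroup.zpowers_le.mpr hz.1) h1
  have hwn : w ^ n = w := pow_conj_trivial h.hr hgpow hwo
    (fun z hz => commute_of_mem_zpowers hz (hac g hgS))
    (fun z hz => commute_of_mem_zpowers hz haw.symm) hAw ⟨c, hc, hcn⟩
  rw [hwn] at hcn
  have hc1 := h.star (hST haS) (hST hwS) (hST hgS) hao hwo haw hwa hfP hfQ (hac g hgS) hc hcn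
  rw [hc1, one_mul] at hcn
  apply hgC
  rw [mem_inf_centralizer_singleton]
  refine ⟨hgS, ?_⟩
  have : g * w = w * g := by
    calc g * w = (g * w * g⁻¹) * g := by group
      _ = w * g := by rw [hcn]
  exact this.symm

end Cfsg.Agent.Lib.Helper4.SolvTri
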