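import Mathlib
import Cfsg.Agent.Lib.Helper4.SolvTriE

set_option autoImplicit false
set_option linter.unusedSectionVars false
set_option linter.style.longLine false

/-! S3814, the case `F(G) = P × Q`: the final contradiction. -/

namespace Cfsg.Agent.Lib.Helper4.SolvTri

open Cfsg Cfsg.Agent.Lib.Helper4.BG8

universe u

variable {G : Type u} [Group G] [Finite G]

variable {p q r s : ℕ} {P Q T : Subgroup G}

/-- the centre `Z(O_r(T))`, as a subgroup of the ambient group -/
def zO (r : ℕ) (T : Subgroup G) : Subgroup G :=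
  opOf r T ⊓ Subgroup.centralizer ((opOf r T : Subgroup G) : Set G)

theorem zO_le (r : ℕ) (T : Subgroup G) : zO r T ≤ T := inf_le_left.trans (opOf_le r T)

theorem zO_isPGroup (r : ℕ) (T : Subgroup G) : IsPGroup r (zO r T) :=
  (opOf_isPGroup r T).to_le inf_le_left

theorem le_normalizer_zO (r : ℕ) (T : Subgroup G) :
    T ≤ Subgroup.normalizer ((zO r T : Subgroup G) : Set G) :=
  le_normalizer_inf_centralizer (le_normalizer_opOf r T) (le_normalizer_opOf r T)

theorem zO_comm (r : ℕ) (T : Subgroup G) : IsMulCommutative (zO r T) := by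
  apply isMulCommutative_of_le_centralizer
  intro z hz
  exact Subgroup.centralizer_le (fun x hx => (inf_le_left : zO r T ≤ opOf r T) hx) hz.2

theorem C2.zO_cyclic (h : C2 p q r s P Q T) : IsCyclic (zO r T) := by
  haveI := zO_comm r T
  exact h.cyc4 (zO_le r T) (zO_isPGroup r T) (le_normalizer_zO r T)

/-- STEP B, applied: every element of order `r` of `T` centralises `O_r(T)` -/
theorem C2.centralizes_opOf (h : C2 p q r s P Q T) {x : G} (hxT : x ∈ T) (hxr : x ^ r = 1) :
    opOf r T ≤ Subgroup.centralizer {x} := by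
  haveI : Fact r.Prime := ⟨h.hr⟩
  by_cases hO : opOf r T = ⊥
  · rw [hO]; exact bot_le
  have hZ1 : zO r T ≠ ⊥ := center_ne_bot' (opOf_isPGroup r T) hO
  have hZr := zO_isPGroup r T
  have hrZ : r ∣ Nat.card (zO r T) := by
    rcases hZr.card_eq_or_dvd with h2 | h2
    · exact absurd (Subgroup.card_eq_one.mp h2) hZ1
    · exact h2
  obtain ⟨a, haZ, hao, hchar⟩ := exists_char_prime h.zO_cyclic h.hr hrZ
  have ha1 : a ≠ 1 := ne_one_of_orderOf_prime h.hr hao
  have haT : a ∈ T := zO_le r T haZ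
  have hTa : ∀ g ∈ T, g * a * g⁻¹ ∈ Subgroup.zpowers a := by
    intro g hg
    apply hchar _ ((Subgroup.mem_normalizer_iff.mp (le_normalizer_zO r T hg) a).mp haZ)
    rw [conj_pow, ← hao, pow_orderOf_eq_one]; group
  -- `a` is fixed-point-free on `P` and on `Q`
  have hN1 : Subgroup.zpowers a ≠ ⊥ := by
    intro hbot
    apply ha1
    have : a ∈ (⊥ : Subgroup G) := hbot ▸ Subgroup.mem_zpowers a
    exact Subgroup.mem_bot.mp this
  have hTN : T ≤ Subgroup.normalizer ((Subgroup.zpowers a : Subgroup G) : Set G) := by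
    intro g hg
    apply mem_normalizer_of_map_le
    rw [MonoidHom.map_zpowers]
    exact Subgroup.zpowers_le.mpr (hTa g hg)
  have hfP : P ⊓ Subgroup.centralizer {a} = ⊥ := by
    rw [← centralizer_zpowers_eq]
    exact h.fixP_eq_bot h.faithP (Subgroup.zpowers_le.mpr haT) hN1 hTN
  have hfQ : Q ⊓ Subgroup.centralizer {a} = ⊥ := by
    rw [← centralizer_zpowers_eq]
    exact h.swapPQ.fixP_eq_bot h.faithQ (Subgroup.zpowers_le.mpr haT) hN1 hTN
  -- the `r`-group `S = ⟨x⟩ O_r(T)`
  have hXr : IsPGroup r (Subgroup.zpowers x) := by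
    have hd : orderOf x ∣ r := orderOf_dvd_of_pow_eq_one hxr
    rcases (Nat.dvd_prime h.hr).mp hd with h1 | h1
    · apply IsPGroup.of_card (n := 0)
      rw [Nat.card_zpowers, h1, pow_zero]
    · apply IsPGroup.of_card (n := 1)
      rw [Nat.card_zpowers, h1, pow_one]
  have hXN : Subgroup.zpowers x ≤ Subgroup.normalizer ((opOf r T : Subgroup G) : Set G) :=
    Subgroup.zpowers_le.mpr (le_normalizer_opOf r T hxT)
  have hS : IsPGroup r (Subgroup.zpowers x ⊔ opOf r T : Subgroup G) :=
    IsPGroup.to_sup_of_normal_right' hXr (opOf_isPGroup r T) hXN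
  have hST : Subgroup.zpowers x ⊔ opOf r T ≤ T := sup_le (Subgroup.zpowers_le.mpr hxT) (opOf_le r T)
  have haS : a ∈ Subgroup.zpowers x ⊔ opOf r T :=
    (le_sup_right : opOf r T ≤ _) ((inf_le_left : zO r T ≤ opOf r T) haZ)
  have hxS : x ∈ Subgroup.zpowers x ⊔ opOf r T :=
    (le_sup_left : Subgroup.zpowers x ≤ _) (Subgroup.mem_zpowers x)
  -- `a` is central in `S`
  have hac : ∀ g ∈ Subgroup.zpowers x ⊔ opOf r T, Commute g a := by
    intro g hgS
    obtain ⟨n, hn⟩ := exists_nat_pow_of_mem_zpowers (hTa g (hST hgS))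
    have hgpow : ∃ j : ℕ, g ^ (r ^ j) = 1 := by
      obtain ⟨j, hj⟩ := hS ⟨g, hgS⟩
      refine ⟨j, ?_⟩
      have := congrArg (fun y : ↥(Subgroup.zpowers x ⊔ opOf r T : Subgroup G) => (y : G)) hj
      simpa using this
    have han : a ^ n = a := pow_conj_trivial (A := ⊥) h.hr hgpow hao
      (fun z hz => by rw [Subgroup.mem_bot.mp hz]; exact Commute.one_right g)
      (fun z hz => by rw [Subgroup.mem_bot.mp hz]; exact Commute.one_right a)
      (bot_inf_eq _) ⟨1, Subgroup.one_mem _, by rw [one_mul, hn]⟩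
    rw [han] at hn
    have : g * a = a * g := by
      calc g * a = (g * a * g⁻¹) * g := by group
        _ = a * g := by rw [← hn]
    exact this
  have hB := h.stepB hST hS haS hao hac hfP hfQ hxS hxr
  intro g hg
  rw [Subgroup.mem_centralizer_iff]
  intro y hy
  rw [Set.mem_singleton_iff] at hy
  rw [hy]
  exact (hB g ((le_sup_right : opOf r T ≤ _) hg)).eq.symm

/-- `O_ℓ(T) = 1` for primes `ℓ` other than `r`, `s` -/
theorem C2.opOf_eq_bot (h : C2 p q r s P Q T) {ℓ : ℕ} (hℓ : ℓ.Prime) (hr : ℓ ≠ r) (hs : ℓ ≠ s) :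
    opOf ℓ T = ⊥ := by
  haveI : Fact ℓ.Prime := ⟨hℓ⟩
  by_contra hne
  have h1 : ℓ ∣ Nat.card (opOf ℓ T) := by
    rcases (opOf_isPGroup ℓ T).card_eq_or_dvd with h2 | h2
    · exact absurd (Subgroup.card_eq_one.mp h2) hne
    · exact h2
  rcases h.card_dvd (opOf_le ℓ T) hℓ h1 with h3 | h3
  · exact hr h3
  · exact hs h3

theorem mem_centralizer_of_le_centralizer_singleton {K : Subgroup G} {x : G}
    (h : K ≤ Subgroup.centralizer {x}) : x ∈ Subgroup.centralizer (K : Set G) := by
  rw [Subgroup.mem_centralizer_iff]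
  intro g hg
  have := Subgroup.mem_centralizer_iff.mp (h hg) x rfl
  exact this.symm

/-- the contradiction, when `s` is odd -/
theorem C2.false_of_odd (h : C2 p q r s P Q T) (hs2 : s ≠ 2) : False := by
  haveI : Fact r.Prime := ⟨h.hr⟩
  obtain ⟨x, y, hxT, hyT, hxo, hyo, hxy, hyx⟩ := h.Er
  have hxr : x ^ r = 1 := by rw [← hxo]; exact pow_orderOf_eq_one x
  have hyr : y ^ r = 1 := by rw [← hyo]; exact pow_orderOf_eq_one y
  have hE : pair x y ≤ T := pair_le hxT hyT
  -- `E_r` centralises `O_r(T)` and `O_s(T)`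
  have hEr : pair x y ≤ Subgroup.centralizer ((opOf r T : Subgroup G) : Set G) :=
    pair_le (mem_centralizer_of_le_centralizer_singleton (h.centralizes_opOf hxT hxr))
      (mem_centralizer_of_le_centralizer_singleton (h.centralizes_opOf hyT hyr))
  have hEs : pair x y ≤ Subgroup.centralizer ((opOf s T : Subgroup G) : Set G) :=
    pair_le
      (mem_centralizer_of_le_centralizer_singleton
        (h.ns2 hxT hxo (opOf_le s T) (opOf_isPGroup s T) (le_normalizer_opOf s T hxT)
          (fun h2 => absurd h2 hs2)))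
      (mem_centralizer_of_le_centralizer_singleton
        (h.ns2 hyT hyo (opOf_le s T) (opOf_isPGroup s T) (le_normalizer_opOf s T hyT)
          (fun h2 => absurd h2 hs2)))
  have hEF : pair x y ≤ Subgroup.centralizer ((fittingOf T : Subgroup G) : Set G) := by
    apply le_centralizer_fittingOf
    intro ℓ hℓ
    by_cases h1 : ℓ = r
    · rw [h1]; exact hEr
    by_cases h2 : ℓ = s
    · rw [h2]; exact hEs
    rw [h.opOf_eq_bot hℓ h1 h2]
    intro g _
    rw [Subgroup.mem_centralizer_iff]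
    intro z hz
    have hz' : z ∈ (⊥ : Subgroup G) := hz
    rw [Subgroup.mem_bot.mp hz']; simp
  have hEF' : pair x y ≤ fittingOf T :=
    (le_inf hE hEF).trans (centralizer_fittingOf_le h.Tsolv)
  have hEO : pair x y ≤ opOf r T := le_opOf_of_le_fittingOf hEF' (pair_isPGroup hxy hxr hyr)
  have hEZ : pair x y ≤ zO r T := le_inf hEO hEr
  haveI hcyc : IsCyclic (zO r T) := h.zO_cyclic
  have hc2 : IsCyclic ((pair x y).subgroupOf (zO r T)) := inferInstance
  have hc3 : IsCyclic (pair x y) :=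
    (Subgroup.subgroupOfEquivOfLe hEZ).isCyclic.mp hc2
  exact pair_not_cyclic hxy h.hr hxo hyo hyx hc3

/-- Case 2 of S3814 is impossible -/
theorem C2.false (h : C2 p q r s P Q T) : False := by
  by_cases hs2 : s = 2
  · apply h.swapRS.false_of_odd
    intro hr2
    exact h.hrs (hr2.trans hs2.symm)
  · exact h.false_of_odd hs2

end Cfsg.Agent.Lib.Helper4.SolvTri
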