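import Mathlib
import Cfsg.Agent.Lib.Helper4.SolvTriF
import Cfsg.Agent.Lib.Helper5.SolvTriF

set_option autoImplicit false
set_option linter.unusedSectionVars false
set_option linter.unusedVariables false
set_option linter.style.longLine false
set_option linter.style.haveILetI false
set_option maxHeartbeats 800000

/-! S3814: the adapter from a minimal counterexample with two normal Sylow subgroups to the setting `C2`,
and `Case2Closed`. -/

namespace Cfsg.Agent.Lib.Helper4.SolvTri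

open Cfsg Cfsg.Agent.Lib.Helper5.SolvTri Cfsg.Agent.Lib.Lead

universe u

/-- the two elements of a four element set other than two given ones -/
theorem exists_other_two' {σ : Finset ℕ} (hcard : σ.card = 4) {t1 t2 : ℕ} (h1 : t1 ∈ σ) (h2 : t2 ∈ σ)
    (h12 : t1 ≠ t2) :
    ∃ r s, r ∈ σ ∧ s ∈ σ ∧ r ≠ s ∧ r ≠ t1 ∧ r ≠ t2 ∧ s ≠ t1 ∧ s ≠ t2 ∧
      ∀ a ∈ σ, a = t1 ∨ a = t2 ∨ a = r ∨ a = s := by
  have hc : ((σ.erase t1).erase t2).card = 2 := by
    rw [Finset.card_erase_of_mem (Finset.mem_erase.mpr ⟨h12.symm, h2⟩),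
      Finset.card_erase_of_mem h1, hcard]
  obtain ⟨r, s, hrs, heq⟩ := Finset.card_eq_two.mp hc
  have hr : r ∈ (σ.erase t1).erase t2 := by rw [heq]; simp
  have hs : s ∈ (σ.erase t1).erase t2 := by rw [heq]; simp
  simp only [Finset.mem_erase] at hr hs
  refine ⟨r, s, hr.2.2, hs.2.2, hrs, hr.2.1, hr.1, hs.2.1, hs.1, ?_⟩
  intro a ha
  by_cases ha1 : a = t1
  · exact Or.inl ha1
  by_cases ha2 : a = t2
  · exact Or.inr (Or.inl ha2)
  have : a ∈ (σ.erase t1).erase t2 :=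
    Finset.mem_erase.mpr ⟨ha2, Finset.mem_erase.mpr ⟨ha1, ha⟩⟩
  rw [heq] at this
  simp only [Finset.mem_insert, Finset.mem_singleton] at this
  exact Or.inr (Or.inr this)

variable {σ : Finset ℕ} {G : Type u} [Group G] [Finite G]

/-- the adapter to the Case 2 setting -/
theorem minCex_toC2 (h : MinCex σ G) {t1 t2 : ℕ} (h1 : t1 ∈ σ) (h2 : t2 ∈ σ) (h12 : t1 ≠ t2)
    (H1 : HasNormal G t1) (H2 : HasNormal G t2)
    (huniq : ∀ s : ℕ, s.Prime → HasNormal G s → s = t1 ∨ s = t2) :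
    ∃ (r s : ℕ) (P Q T : Subgroup G), C2 t1 t2 r s P Q T := by
  obtain ⟨P, hPn, hP, hP1⟩ := H1
  obtain ⟨Q, hQn, hQ, hQ1⟩ := H2
  haveI := hPn
  haveI := hQn
  have ht1 := h.1.prime t1 h1
  have ht2 := h.1.prime t2 h2
  haveI : Fact t1.Prime := ⟨ht1⟩
  haveI : Fact t2.Prime := ⟨ht2⟩
  haveI := h.1.solv
  obtain ⟨r, s, hr, hs, hrs, hr1, hr2, hs1, hs2, hall⟩ := exists_other_two' h.1.card4 h1 h2 h12
  obtain ⟨T, hT, hT1, hT2, hfaith⟩ := h.case2_struct h1 h2 h12 P Q hP hP1 hQ hQ1 huniq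
  have hPea := h.normal_t_elemAb h1 P hP hP1
  have hQea := h.normal_t_elemAb h2 Q hQ hQ1
  obtain ⟨j1, hj1⟩ := IsPGroup.iff_card.mp hP
  obtain ⟨j2, hj2⟩ := IsPGroup.iff_card.mp hQ
  have hcardF : Nat.card (P ⊔ Q : Subgroup G) = t1 ^ j1 * t2 ^ j2 := by
    have h3 := card_sup_mul_card_inf P Q (le_normalizer_of_normal' P Q)
    have hinf : P ⊓ Q = ⊥ := Subgroup.inf_eq_bot_of_coprime
      (IsPGroup.coprime_card_of_ne t1 t2 h12 P Q hP hQ)
    rw [hinf, Subgroup.card_bot, mul_one, hj1, hj2] at h3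
    exact h3
  have hcard : Nat.card G = Nat.card T * Nat.card (P ⊔ Q : Subgroup G) := by
    rw [← hT.card_mul_card, mul_comm]
  have hcop : (Nat.card T).Coprime (Nat.card (P ⊔ Q : Subgroup G)) := by
    rw [hcardF]
    exact Nat.Coprime.mul_right
      (Nat.Coprime.pow_right j1 ((Nat.Prime.coprime_iff_not_dvd ht1).mpr hT1).symm)
      (Nat.Coprime.pow_right j2 ((Nat.Prime.coprime_iff_not_dvd ht2).mpr hT2).symm)
  have conjT : ∀ U : Subgroup G, (Nat.card U).Coprime (Nat.card (P ⊔ Q : Subgroup G)) →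
      ∃ g : G, ∀ x ∈ U, g * x * g⁻¹ ∈ T :=
    fun U hU => hall_conj_into G (Nat.card T) (Nat.card (P ⊔ Q : Subgroup G)) hcard hcop T rfl U hU
  -- rank two subgroups inside `T`
  have rk : ∀ a ∈ σ, a ≠ t1 → a ≠ t2 → ∃ x y : G, x ∈ T ∧ y ∈ T ∧ orderOf x = a ∧
      orderOf y = a ∧ Commute x y ∧ y ∉ Subgroup.zpowers x := by
    intro a ha ha1 ha2
    have hap := h.1.prime a ha
    haveI : Fact a.Prime := ⟨hap⟩
    obtain ⟨x, y, hx, hy, hc, hyx⟩ := h.exists_rank2 ha
    have hxu : x ^ a = 1 := by rw [← hx]; exact pow_orderOf_eq_one x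
    have hyu : y ^ a = 1 := by rw [← hy]; exact pow_orderOf_eq_one y
    have hcopE : (Nat.card (E2 x y)).Coprime (Nat.card (P ⊔ Q : Subgroup G)) := by
      rw [hcardF]
      obtain ⟨k, hk⟩ := IsPGroup.iff_card.mp (E2_isPGroup hxu hyu hc)
      rw [hk]
      exact Nat.Coprime.pow_left k (Nat.Coprime.mul_right
        (Nat.Coprime.pow_right j1 ((Nat.coprime_primes hap ht1).mpr ha1))
        (Nat.Coprime.pow_right j2 ((Nat.coprime_primes hap ht2).mpr ha2)))
    obtain ⟨g, hg⟩ := conjT _ hcopE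
    refine ⟨g * x * g⁻¹, g * y * g⁻¹, hg x (left_mem_E2 x y), hg y (right_mem_E2 x y),
      by rw [Cfsg.Agent.Lib.Helper5.SolvTri.orderOf_conj', hx], by rw [Cfsg.Agent.Lib.Helper5.SolvTri.orderOf_conj', hy], ?_, ?_⟩
    · show g * x * g⁻¹ * (g * y * g⁻¹) = g * y * g⁻¹ * (g * x * g⁻¹)
      have : x * y = y * x := hc
      calc g * x * g⁻¹ * (g * y * g⁻¹) = g * (x * y) * g⁻¹ := by group
        _ = g * (y * x) * g⁻¹ := by rw [this]
        _ = g * y * g⁻¹ * (g * x * g⁻¹) := by group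
    · intro hmem
      obtain ⟨i, hi⟩ := Subgroup.mem_zpowers_iff.mp hmem
      apply hyx
      rw [Subgroup.mem_zpowers_iff]
      refine ⟨i, ?_⟩
      have h1' : (g * x * g⁻¹) ^ i = g * x ^ i * g⁻¹ := conj_zpow
      rw [h1'] at hi
      have h2' : g * x ^ i = g * y := mul_right_cancel hi
      exact mul_left_cancel h2'
  have hQP : Q ≤ Subgroup.centralizer (P : Set G) := by
    intro y hy
    rw [Subgroup.mem_centralizer_iff]
    intro x hx
    exact (commute_of_normal_pgroups h12 P Q hP hQ hx hy).eq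
  have hPQ : P ≤ Subgroup.centralizer (Q : Set G) := by
    intro x hx
    rw [Subgroup.mem_centralizer_iff]
    intro y hy
    exact (commute_of_normal_pgroups h12 P Q hP hQ hx hy).eq.symm
  refine ⟨r, s, P, Q, T, ?_⟩
  refine
    { hp := ht1
      hq := ht2
      hr := h.1.prime r hr
      hs := h.1.prime s hs
      hpq := h12
      hpr := hr1.symm
      hps := hs1.symm
      hqr := hr2.symm
      hqs := hs2.symm
      hrs := hrs
      Pn := hPn
      Qn := hQn
      Pea := hPea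
      Qea := hQea
      P1 := hP1
      Q1 := hQ1
      Tsolv := inferInstance
      Tpi := ?_
      faith := hfaith
      irrP := ?_
      irrQ := ?_
      no3 := ?_
      Er := rk r hr hr1 hr2
      Es := rk s hs hs1 hs2 }
  · intro ℓ hℓ hd
    have hℓσ : ℓ ∈ σ := h.mem_of_dvd_card hℓ (hd.trans (Subgroup.card_subgroup_dvd_card T))
    rcases hall ℓ hℓσ with e | e | e | e
    · exact absurd (e ▸ hd) hT1
    · exact absurd (e ▸ hd) hT2
    · exact Or.inl e
    · exact Or.inr e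
  · intro M hM hTM
    refine h.irred h1 P hP M hM T hTM ?_
    rw [eq_top_iff, ← hT.sup_eq_top]
    exact sup_le_sup_right (sup_le (le_centralizer_of_elemAb P hPea) hQP) T
  · intro M hM hTM
    refine h.irred h2 Q hQ M hM T hTM ?_
    rw [eq_top_iff, ← hT.sup_eq_top]
    exact sup_le_sup_right (sup_le hPQ (le_centralizer_of_elemAb Q hQea)) T
  · intro g
    exact ⟨h.1.triple t1 h1 t2 h2 r hr h12 hr2.symm hr1.symm g,
      h.1.triple t1 h1 t2 h2 s hs h12 hs2.symm hs1.symm g,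
      h.1.triple t1 h1 r hr s hs hr1.symm hrs hs1.symm g,
      h.1.triple t2 h2 r hr s hs hr2.symm hrs hs2.symm g⟩

/-- the two-primes case of S3814 is impossible -/
theorem case2Closed : Cfsg.Agent.Lib.Helper5.SolvTri.Case2Closed.{u} := by
  intro σ G _ _ h t1 h1 t2 h2 h12 H1 H2 huniq
  obtain ⟨r, s, P, Q, T, hC⟩ := minCex_toC2 h h1 h2 h12 H1 H2 huniq
  exact hC.false

end Cfsg.Agent.Lib.Helper4.SolvTri
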