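import Mathlib
import Cfsg.Prelude
import Cfsg.Agent.Lib.Helper5.SpRU.Act

set_option linter.unusedSectionVars false
set_option linter.unusedVariables false
set_option linter.style.longLine false

open Matrix

/-! # S2411, package PK-PW: the planewise homomorphism `SL₂(F) → Sp_{2(m+1)}(F)` -/

namespace Cfsg.Agent.Lib.Helper5.SpRU

variable {F : Type*} [Field F] {m : ℕ}

/-- the diagonal of a block of `pwMat`: `x` off the last index, `l` at the last index -/
def pwDiag (m : ℕ) {F : Type*} [Field F] (x l : F) : Fin (m + 1) → F :=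
  fun i => if i = Fin.last m then l else x

theorem pwDiag_mul_add (x y z w l1 l2 l3 l4 : F) :
    Matrix.diagonal (pwDiag m x l1) * Matrix.diagonal (pwDiag m y l2)
      + Matrix.diagonal (pwDiag m z l3) * Matrix.diagonal (pwDiag m w l4)
      = Matrix.diagonal (pwDiag m (x * y + z * w) (l1 * l2 + l3 * l4)) := by
  rw [Matrix.diagonal_mul_diagonal, Matrix.diagonal_mul_diagonal, Matrix.diagonal_add]
  congr 1
  funext i
  unfold pwDiag
  split_ifs <;> rfl

/-- the matrix acting as `S` on every plane `⟨e_i, f_i⟩`, `i ≠ last`, trivially on the last -/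
def pwMat (m : ℕ) {F : Type*} [Field F] (S : Matrix (Fin 2) (Fin 2) F) :
    Matrix (Fin (m + 1) ⊕ Fin (m + 1)) (Fin (m + 1) ⊕ Fin (m + 1)) F :=
  Matrix.fromBlocks (Matrix.diagonal (pwDiag m (S 0 0) 1)) (Matrix.diagonal (pwDiag m (S 0 1) 0))
    (Matrix.diagonal (pwDiag m (S 1 0) 0)) (Matrix.diagonal (pwDiag m (S 1 1) 1))

theorem pwMat_mul (S T : Matrix (Fin 2) (Fin 2) F) :
    pwMat m (S * T) = pwMat m S * pwMat m T := by
  unfold pwMat
  rw [Matrix.fromBlocks_multiply, pwDiag_mul_add, pwDiag_mul_add, pwDiag_mul_add, pwDiag_mul_add]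
  simp only [Matrix.mul_apply, Fin.sum_univ_two, mul_one, mul_zero, add_zero, zero_add]

theorem pwMat_one : pwMat m (1 : Matrix (Fin 2) (Fin 2) F) = 1 := by
  unfold pwMat
  have h1 : pwDiag m ((1 : Matrix (Fin 2) (Fin 2) F) 0 0) 1 = fun _ => 1 := by
    funext i; unfold pwDiag; simp
  have h2 : pwDiag m ((1 : Matrix (Fin 2) (Fin 2) F) 0 1) 0 = fun _ => 0 := by
    funext i; unfold pwDiag; simp
  have h3 : pwDiag m ((1 : Matrix (Fin 2) (Fin 2) F) 1 0) 0 = fun _ => 0 := by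
    funext i; unfold pwDiag; simp
  have h4 : pwDiag m ((1 : Matrix (Fin 2) (Fin 2) F) 1 1) 1 = fun _ => 1 := by
    funext i; unfold pwDiag; simp
  rw [h1, h2, h3, h4]
  have e1 : Matrix.diagonal (fun _ : Fin (m + 1) => (1 : F)) = 1 := Matrix.diagonal_one
  have e0 : Matrix.diagonal (fun _ : Fin (m + 1) => (0 : F)) = 0 := Matrix.diagonal_zero
  rw [e1, e0, Matrix.fromBlocks_one]

theorem pwMat_mem (S : Matrix.SpecialLinearGroup (Fin 2) F) :
    pwMat m S.1 ∈ Matrix.symplecticGroup (Fin (m + 1)) F := by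
  rw [SymplecticGroup.mem_iff]
  have hdet : S.1 0 0 * S.1 1 1 - S.1 0 1 * S.1 1 0 = 1 := by
    have := S.2
    rw [Matrix.det_fin_two] at this
    exact this
  unfold pwMat Matrix.J
  rw [Matrix.fromBlocks_transpose, Matrix.fromBlocks_multiply, Matrix.fromBlocks_multiply]
  simp only [Matrix.diagonal_transpose, Matrix.mul_zero, Matrix.mul_one, Matrix.mul_neg,
    zero_add, add_zero, Matrix.neg_mul]
  have k1 : ∀ x y l1 l2 : F, Matrix.diagonal (pwDiag m x l1) * Matrix.diagonal (pwDiag m y l2)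
      = Matrix.diagonal (pwDiag m (x * y) (l1 * l2)) := by
    intro x y l1 l2
    rw [Matrix.diagonal_mul_diagonal]
    congr 1
    funext i
    unfold pwDiag
    split_ifs <;> rfl
  rw [k1, k1, k1, k1, k1, k1, k1, k1]
  have k2 : ∀ x y l1 l2 : F, Matrix.diagonal (pwDiag m x l1) + -Matrix.diagonal (pwDiag m y l2)
      = Matrix.diagonal (pwDiag m (x - y) (l1 - l2)) := by
    intro x y l1 l2
    rw [← sub_eq_add_neg, Matrix.diagonal_sub]
    congr 1
    funext i
    unfold pwDiag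
    split_ifs <;> rfl
  rw [k2, k2, k2, k2]
  have z : pwDiag m (0 : F) 0 = fun _ => 0 := by
    funext i; unfold pwDiag; simp
  have o : pwDiag m (1 : F) 1 = fun _ => 1 := by
    funext i; unfold pwDiag; simp
  have o' : pwDiag m (-1 : F) (-1) = fun _ => -1 := by
    funext i; unfold pwDiag; simp
  have e1 : S.1 0 1 * S.1 0 0 - S.1 0 0 * S.1 0 1 = 0 := by ring
  have e2 : S.1 0 1 * S.1 1 0 - S.1 0 0 * S.1 1 1 = -1 := by linear_combination (-1 : F) * hdet
  have e3 : S.1 1 1 * S.1 0 0 - S.1 1 0 * S.1 0 1 = 1 := by linear_combination hdet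
  have e4 : S.1 1 1 * S.1 1 0 - S.1 1 0 * S.1 1 1 = 0 := by ring
  rw [e1, e2, e3, e4]
  have n1 : (0 * 1 - 1 * 0 : F) = 0 := by ring
  have n2 : (0 * 0 - 1 * 1 : F) = -1 := by ring
  have n3 : (1 * 1 - 0 * 0 : F) = 1 := by ring
  have n4 : (1 * 0 - 0 * 1 : F) = 0 := by ring
  rw [n1, n2, n3, n4, z, o, o']
  have d0 : Matrix.diagonal (fun _ : Fin (m + 1) => (0 : F)) = 0 := Matrix.diagonal_zero
  have d1 : Matrix.diagonal (fun _ : Fin (m + 1) => (1 : F)) = 1 := Matrix.diagonal_one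
  have dn : Matrix.diagonal (fun _ : Fin (m + 1) => (-1 : F)) = -1 := by
    rw [← Matrix.diagonal_neg, Matrix.diagonal_one]
  rw [d0, d1, dn]

/-- the planewise homomorphism -/
noncomputable def pwHom (m : ℕ) (F : Type*) [Field F] :
    Matrix.SpecialLinearGroup (Fin 2) F →* Matrix.symplecticGroup (Fin (m + 1)) F where
  toFun S := ⟨pwMat m S.1, pwMat_mem S⟩
  map_one' := by
    apply Subtype.ext
    show pwMat m ((1 : Matrix.SpecialLinearGroup (Fin 2) F) : Matrix (Fin 2) (Fin 2) F) = 1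
    rw [Matrix.SpecialLinearGroup.coe_one, pwMat_one]
  map_mul' S T := by
    apply Subtype.ext
    show pwMat m ((S * T : Matrix.SpecialLinearGroup (Fin 2) F) : Matrix (Fin 2) (Fin 2) F)
      = pwMat m S.1 * pwMat m T.1
    rw [Matrix.SpecialLinearGroup.coe_mul, pwMat_mul]

theorem pwHom_coe (S : Matrix.SpecialLinearGroup (Fin 2) F) :
    ((pwHom m F S : Matrix.symplecticGroup (Fin (m + 1)) F) : Matrix _ _ F) = pwMat m S.1 := rfl

theorem pwDiag_mulVec_single (x l : F) (i : Fin (m + 1)) :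
    Matrix.diagonal (pwDiag m x l) *ᵥ Pi.single i 1 = (pwDiag m x l i) • Pi.single i 1 := by
  funext k
  rw [Matrix.mulVec_diagonal]
  by_cases h : k = i
  · subst h; simp
  · simp [Pi.single_eq_of_ne h]

theorem pwMat_mulVec (S : Matrix (Fin 2) (Fin 2) F) (x y : Fin (m + 1) → F) :
    pwMat m S *ᵥ Sum.elim x y
      = Sum.elim (Matrix.diagonal (pwDiag m (S 0 0) 1) *ᵥ x + Matrix.diagonal (pwDiag m (S 0 1) 0) *ᵥ y)
          (Matrix.diagonal (pwDiag m (S 1 0) 0) *ᵥ x + Matrix.diagonal (pwDiag m (S 1 1) 1) *ᵥ y) := by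
  unfold pwMat
  rw [Matrix.fromBlocks_mulVec, Sum.elim_comp_inl, Sum.elim_comp_inr]

theorem pwHom_eV (S : Matrix.SpecialLinearGroup (Fin 2) F) (i : Fin (m + 1))
    (hi : i ≠ Fin.last m) :
    ((pwHom m F S : Matrix.symplecticGroup (Fin (m + 1)) F) : Matrix _ _ F) *ᵥ eV i
      = S.1 0 0 • eV i + S.1 1 0 • fV i := by
  rw [pwHom_coe, eV_eq, fV_eq, elim_smul, elim_smul, elim_add]
  rw [pwMat_mulVec]
  simp only [Matrix.mulVec_zero, add_zero, zero_add, pwDiag_mulVec_single]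
  unfold pwDiag
  simp only [if_neg hi, smul_zero, add_zero, zero_add]

theorem pwHom_fV (S : Matrix.SpecialLinearGroup (Fin 2) F) (i : Fin (m + 1))
    (hi : i ≠ Fin.last m) :
    ((pwHom m F S : Matrix.symplecticGroup (Fin (m + 1)) F) : Matrix _ _ F) *ᵥ fV i
      = S.1 0 1 • eV i + S.1 1 1 • fV i := by
  rw [pwHom_coe, eV_eq, fV_eq, elim_smul, elim_smul, elim_add]
  rw [pwMat_mulVec]
  simp only [Matrix.mulVec_zero, add_zero, zero_add, pwDiag_mulVec_single]
  unfold pwDiag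
  simp only [if_neg hi, smul_zero, add_zero, zero_add]

theorem pwHom_eV_last (S : Matrix.SpecialLinearGroup (Fin 2) F) :
    ((pwHom m F S : Matrix.symplecticGroup (Fin (m + 1)) F) : Matrix _ _ F) *ᵥ eV (Fin.last m)
      = eV (Fin.last m) := by
  rw [pwHom_coe, eV_eq]
  rw [pwMat_mulVec]
  simp only [Matrix.mulVec_zero, add_zero, zero_add, pwDiag_mulVec_single]
  unfold pwDiag
  simp

theorem pwHom_fV_last (S : Matrix.SpecialLinearGroup (Fin 2) F) :
    ((pwHom m F S : Matrix.symplecticGroup (Fin (m + 1)) F) : Matrix _ _ F) *ᵥ fV (Fin.last m)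
      = fV (Fin.last m) := by
  rw [pwHom_coe, fV_eq]
  rw [pwMat_mulVec]
  simp only [Matrix.mulVec_zero, add_zero, zero_add, pwDiag_mulVec_single]
  unfold pwDiag
  simp

end Cfsg.Agent.Lib.Helper5.SpRU
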