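import Mathlib
import Cfsg.Agent.Lib.Helper5.SpUn0
import Cfsg.Agent.Lib.Helper3.CarveL1

/-!
# S2316, package C (part 1): the hyperbolic part of `aSet`

If `A` lies in `aSet J` (adjoint `-1 - A`) and `A (A + 1)` is nilpotent, then `ker A^M` and `ker (A+1)^M`
form a pair of complementary Lagrangians, and `A` is conjugate under the symplectic group to
`diag(N, -1 - Nᵀ)` with `N` nilpotent.
-/

set_option autoImplicit false

namespace Cfsg.Agent.Lib.Helper4.SpUnC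

open Matrix Cfsg.Agent.Lib.Helper5.SpUn Cfsg.Agent.Lib.Helper9.Lag

universe u

variable {F : Type u} [Field F] {d : ℕ}

/-- the adjoint relation `Aᵀ J = -J (A + 1)`. -/
theorem transpose_mul_J {A : Matrix (Fin d ⊕ Fin d) (Fin d ⊕ Fin d) F} (hA : A ∈ aSet (J (Fin d) F)) :
    Aᵀ * J (Fin d) F = -(J (Fin d) F * (A + 1)) := by
  have h := mem_aSet.1 hA
  rw [Matrix.mul_add, Matrix.mul_one]
  rw [add_assoc] at h
  exact eq_neg_of_add_eq_zero_left h

theorem pow_transpose_mul_J {A : Matrix (Fin d ⊕ Fin d) (Fin d ⊕ Fin d) F}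
    (hA : A ∈ aSet (J (Fin d) F)) (k : ℕ) :
    (A ^ k)ᵀ * J (Fin d) F = (-1 : F) ^ k • (J (Fin d) F * (A + 1) ^ k) := by
  induction k with
  | zero => simp
  | succ k ih =>
    rw [pow_succ, transpose_mul, Matrix.mul_assoc, ih, Matrix.mul_smul, ← Matrix.mul_assoc,
      transpose_mul_J hA, Matrix.neg_mul, Matrix.mul_assoc, ← pow_succ', pow_succ (-1 : F), smul_neg,
      mul_neg, mul_one, neg_smul]

/-- the form relation `ω(A^k u, v) = (-1)^k ω(u, (A+1)^k v)`. -/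
theorem form_pow {A : Matrix (Fin d ⊕ Fin d) (Fin d ⊕ Fin d) F} (hA : A ∈ aSet (J (Fin d) F)) (k : ℕ)
    (u v : Fin d ⊕ Fin d → F) :
    Cfsg.sympForm d F ((A ^ k) *ᵥ u) v = (-1 : F) ^ k * Cfsg.sympForm d F u (((A + 1) ^ k) *ᵥ v) := by
  unfold Cfsg.sympForm
  rw [← Matrix.vecMul_transpose, ← Matrix.dotProduct_mulVec, Matrix.mulVec_mulVec,
    pow_transpose_mul_J hA, Matrix.smul_mulVec, dotProduct_smul, smul_eq_mul, Matrix.mulVec_mulVec]

theorem form_pow' {A : Matrix (Fin d ⊕ Fin d) (Fin d ⊕ Fin d) F} (hA : A ∈ aSet (J (Fin d) F)) (k : ℕ)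
    (u v : Fin d ⊕ Fin d → F) :
    Cfsg.sympForm d F u (((A + 1) ^ k) *ᵥ v) = (-1 : F) ^ k * Cfsg.sympForm d F ((A ^ k) *ᵥ u) v := by
  rw [form_pow hA, ← mul_assoc, ← mul_pow]
  simp

/-- Bezout for `A^M` and `(A+1)^M`. -/
theorem exists_bezout {n : Type*} [Fintype n] [DecidableEq n] (A : Matrix n n F) (M : ℕ) :
    ∃ a b : Matrix n n F, Commute a A ∧ Commute b A ∧ a * A ^ M + b * (A + 1) ^ M = 1 := by
  have hc : IsCoprime (Polynomial.X : Polynomial F) (Polynomial.X + 1) := ⟨-1, 1, by ring⟩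
  obtain ⟨a, b, hab⟩ := (hc.pow (m := M) (n := M))
  refine ⟨Polynomial.aeval A a, Polynomial.aeval A b, ?_, ?_, ?_⟩
  · have := (Polynomial.commute_X a).map (Polynomial.aeval A)
    rw [Polynomial.aeval_X] at this
    exact this.symm
  · have := (Polynomial.commute_X b).map (Polynomial.aeval A)
    rw [Polynomial.aeval_X] at this
    exact this.symm
  · have := congrArg (Polynomial.aeval A) hab
    simpa using this

/-- the two generalized eigenspaces. -/
noncomputable def kerU (A : Matrix (Fin d ⊕ Fin d) (Fin d ⊕ Fin d) F) (M : ℕ) :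
    Submodule F (Fin d ⊕ Fin d → F) := LinearMap.ker (Matrix.toLin' (A ^ M))

noncomputable def kerW (A : Matrix (Fin d ⊕ Fin d) (Fin d ⊕ Fin d) F) (M : ℕ) :
    Submodule F (Fin d ⊕ Fin d → F) := LinearMap.ker (Matrix.toLin' ((A + 1) ^ M))

theorem mem_kerU {A : Matrix (Fin d ⊕ Fin d) (Fin d ⊕ Fin d) F} {M : ℕ} {v : Fin d ⊕ Fin d → F} :
    v ∈ kerU A M ↔ (A ^ M) *ᵥ v = 0 := by
  unfold kerU
  rw [LinearMap.mem_ker, Matrix.toLin'_apply]

theorem mem_kerW {A : Matrix (Fin d ⊕ Fin d) (Fin d ⊕ Fin d) F} {M : ℕ} {v : Fin d ⊕ Fin d → F} :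
    v ∈ kerW A M ↔ ((A + 1) ^ M) *ᵥ v = 0 := by
  unfold kerW
  rw [LinearMap.mem_ker, Matrix.toLin'_apply]

theorem isLagPair_ker {A : Matrix (Fin d ⊕ Fin d) (Fin d ⊕ Fin d) F} (hA : A ∈ aSet (J (Fin d) F))
    {M : ℕ} (hM : (A * (A + 1)) ^ M = 0) : IsLagPair d F (kerU A M) (kerW A M) := by
  have hcomm : Commute A (A + 1) := (Commute.refl A).add_right (Commute.one_right A)
  have hz : A ^ M * (A + 1) ^ M = 0 := by rw [← hcomm.mul_pow]; exact hM
  have hz' : (A + 1) ^ M * A ^ M = 0 := by rw [← (hcomm.pow_pow M M).eq]; exact hz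
  obtain ⟨a, b, ha, hb, hab⟩ := exists_bezout A M
  have haM : Commute a (A ^ M) := ha.pow_right M
  have hbM : Commute b ((A + 1) ^ M) := (hb.add_right (Commute.one_right b)).pow_right M
  have haM' : Commute a ((A + 1) ^ M) := (ha.add_right (Commute.one_right a)).pow_right M
  have hbM' : Commute b (A ^ M) := hb.pow_right M
  have hsplit : ∀ v : Fin d ⊕ Fin d → F,
      v = (a * A ^ M) *ᵥ v + (b * (A + 1) ^ M) *ᵥ v := by
    intro v
    rw [← Matrix.add_mulVec, hab, Matrix.one_mulVec]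
  refine ⟨⟨?_, ?_⟩, ?_, ?_⟩
  · rw [Submodule.disjoint_def]
    intro v hU hW
    rw [mem_kerU] at hU
    rw [mem_kerW] at hW
    rw [hsplit v, ← Matrix.mulVec_mulVec, ← Matrix.mulVec_mulVec, hU, hW, Matrix.mulVec_zero,
      Matrix.mulVec_zero, add_zero]
  · rw [Submodule.codisjoint_iff_exists_add_eq]
    intro v
    refine ⟨(b * (A + 1) ^ M) *ᵥ v, (a * A ^ M) *ᵥ v, ?_, ?_, ?_⟩
    · rw [mem_kerU, Matrix.mulVec_mulVec, ← Matrix.mul_assoc, ← hbM'.eq, Matrix.mul_assoc, hz,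
        Matrix.mul_zero, Matrix.zero_mulVec]
    · rw [mem_kerW, Matrix.mulVec_mulVec, ← Matrix.mul_assoc, ← haM'.eq, Matrix.mul_assoc, hz',
        Matrix.mul_zero, Matrix.zero_mulVec]
    · rw [add_comm]
      exact (hsplit v).symm
  · intro u hu v hv
    rw [mem_kerU] at hu hv
    have hv' : v = ((A + 1) ^ M) *ᵥ (b *ᵥ v) := by
      conv_lhs => rw [hsplit v]
      rw [← Matrix.mulVec_mulVec, hv, Matrix.mulVec_zero, zero_add, hbM.eq, Matrix.mulVec_mulVec]
    rw [hv', form_pow' hA, hu]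
    unfold Cfsg.sympForm
    simp
  · intro u hu v hv
    rw [mem_kerW] at hu hv
    have hu' : u = (A ^ M) *ᵥ (a *ᵥ u) := by
      have h2 : (b * (A + 1) ^ M) *ᵥ u = 0 := by
        rw [← Matrix.mulVec_mulVec, hu, Matrix.mulVec_zero]
      conv_lhs => rw [hsplit u]
      rw [h2, add_zero, haM.eq, Matrix.mulVec_mulVec]
    rw [hu', form_pow hA, hv]
    unfold Cfsg.sympForm
    simp

end Cfsg.Agent.Lib.Helper4.SpUnC
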