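import Mathlib
import Cfsg.Agent.Lib.Helper4.SpUnC1

/-!
# S2316, package C (part 2): conjugating the hyperbolic part into block diagonal form
-/

set_option autoImplicit false

namespace Cfsg.Agent.Lib.Helper4.SpUnC

open Matrix Cfsg.Agent.Lib.Helper5.SpUn Cfsg.Agent.Lib.Helper9.Lag

universe u

variable {F : Type u} [Field F] {d : ℕ}

theorem toBlocks₂₁_eq_zero {B : Matrix (Fin d ⊕ Fin d) (Fin d ⊕ Fin d) F}
    (h : ∀ v ∈ stdU d F, B *ᵥ v ∈ stdU d F) : B.toBlocks₂₁ = 0 := by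
  ext j i
  have h1 : (Pi.single (Sum.inl i) 1 : Fin d ⊕ Fin d → F) ∈ stdU d F := by
    intro k
    simp
  have h2 := h _ h1 j
  rw [Matrix.mulVec_single_one] at h2
  exact h2

theorem toBlocks₁₂_eq_zero {B : Matrix (Fin d ⊕ Fin d) (Fin d ⊕ Fin d) F}
    (h : ∀ v ∈ stdW d F, B *ᵥ v ∈ stdW d F) : B.toBlocks₁₂ = 0 := by
  ext j i
  have h1 : (Pi.single (Sum.inr i) 1 : Fin d ⊕ Fin d → F) ∈ stdW d F := by
    intro k
    simp
  have h2 := h _ h1 j
  rw [Matrix.mulVec_single_one] at h2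
  exact h2

theorem fromBlocks_diag_pow {n m : Type*} [Fintype n] [Fintype m] [DecidableEq n] [DecidableEq m]
    (N : Matrix n n F) (N' : Matrix m m F) (k : ℕ) :
    (fromBlocks N 0 0 N') ^ k = fromBlocks (N ^ k) 0 0 (N' ^ k) := by
  induction k with
  | zero => simp [fromBlocks_one]
  | succ k ih =>
    rw [pow_succ, ih, fromBlocks_multiply, pow_succ, pow_succ]
    simp

theorem conj_pow_aux {n : Type*} [Fintype n] [DecidableEq n] {G Gi A : Matrix n n F}
    (h : G * Gi = 1) (k : ℕ) : (Gi * A * G) ^ k * Gi = Gi * A ^ k := by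
  induction k with
  | zero => simp
  | succ k ih =>
    rw [pow_succ', Matrix.mul_assoc, ih, pow_succ']
    simp only [Matrix.mul_assoc]
    rw [← Matrix.mul_assoc G Gi, h, Matrix.one_mul]

/-- conjugation by a symplectic matrix preserves `aSet J`. -/
theorem conj_mem_aSet {G Gi A : Matrix (Fin d ⊕ Fin d) (Fin d ⊕ Fin d) F}
    (hGiG : Gi * G = 1) (hGGi : G * Gi = 1) (hG : Gᵀ * J (Fin d) F * G = J (Fin d) F)
    (hGi : Giᵀ * J (Fin d) F * Gi = J (Fin d) F) (hA : A ∈ aSet (J (Fin d) F)) :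
    Gi * A * G ∈ aSet (J (Fin d) F) := by
  have e1 : Giᵀ * J (Fin d) F = J (Fin d) F * G := by
    calc Giᵀ * J (Fin d) F = Giᵀ * J (Fin d) F * (Gi * G) := by rw [hGiG, Matrix.mul_one]
      _ = (Giᵀ * J (Fin d) F * Gi) * G := by simp only [Matrix.mul_assoc]
      _ = J (Fin d) F * G := by rw [hGi]
  have e2 : J (Fin d) F * Gi = Gᵀ * J (Fin d) F := by
    calc J (Fin d) F * Gi = (Gᵀ * J (Fin d) F * G) * Gi := by rw [hG]
      _ = Gᵀ * J (Fin d) F * (G * Gi) := by simp only [Matrix.mul_assoc]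
      _ = Gᵀ * J (Fin d) F := by rw [hGGi, Matrix.mul_one]
  rw [mem_aSet]
  have h0 := mem_aSet.1 hA
  calc (Gi * A * G)ᵀ * J (Fin d) F + J (Fin d) F * (Gi * A * G) + J (Fin d) F
      = Gᵀ * (Aᵀ * J (Fin d) F + J (Fin d) F * A + J (Fin d) F) * G := by
        rw [Matrix.mul_add, Matrix.mul_add, Matrix.add_mul, Matrix.add_mul]
        congr 1
        · congr 1
          · rw [transpose_mul, transpose_mul, Matrix.mul_assoc, Matrix.mul_assoc, e1]
            simp only [Matrix.mul_assoc]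
          · rw [← Matrix.mul_assoc, ← Matrix.mul_assoc, e2]
            simp only [Matrix.mul_assoc]
        · exact hG.symm
    _ = 0 := by rw [h0]; simp

/-- **Block form.**  An element of `aSet J` with `A (A + 1)` nilpotent is symplectically conjugate to
`diag(N, -1 - Nᵀ)` with `N` nilpotent. -/
theorem exists_conj_block {A : Matrix (Fin d ⊕ Fin d) (Fin d ⊕ Fin d) F}
    (hA : A ∈ aSet (J (Fin d) F)) (hn : IsNilpotent (A * (A + 1))) :
    ∃ (g : Matrix.symplecticGroup (Fin d) F) (N : Matrix (Fin d) (Fin d) F), IsNilpotent N ∧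
      (g : Matrix (Fin d ⊕ Fin d) (Fin d ⊕ Fin d) F) * fromBlocks N 0 0 (-1 - Nᵀ) *
        ((g⁻¹ : Matrix.symplecticGroup (Fin d) F) : Matrix (Fin d ⊕ Fin d) (Fin d ⊕ Fin d) F) = A := by
  obtain ⟨M, hM⟩ := hn
  have hL := isLagPair_ker hA hM
  obtain ⟨g, hgU, hgW⟩ := Cfsg.Agent.Lib.Carve.L1.transitive d _ _ hL
  set G : Matrix (Fin d ⊕ Fin d) (Fin d ⊕ Fin d) F := (g : Matrix (Fin d ⊕ Fin d) (Fin d ⊕ Fin d) F) with hGdef
  set Gi : Matrix (Fin d ⊕ Fin d) (Fin d ⊕ Fin d) F :=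
    ((g⁻¹ : Matrix.symplecticGroup (Fin d) F) : Matrix (Fin d ⊕ Fin d) (Fin d ⊕ Fin d) F) with hGidef
  have hGiG : Gi * G = 1 := by
    rw [hGidef, hGdef, ← Submonoid.coe_mul, inv_mul_cancel, Submonoid.coe_one]
  have hGGi : G * Gi = 1 := by
    rw [hGidef, hGdef, ← Submonoid.coe_mul, mul_inv_cancel, Submonoid.coe_one]
  have hG : Gᵀ * J (Fin d) F * G = J (Fin d) F := SymplecticGroup.mem_iff'.1 g.2
  have hGi : Giᵀ * J (Fin d) F * Gi = J (Fin d) F := SymplecticGroup.mem_iff'.1 (g⁻¹).2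
  set B := Gi * A * G with hBdef
  have hBa : B ∈ aSet (J (Fin d) F) := conj_mem_aSet hGiG hGGi hG hGi hA
  have hcomm : Commute A (A + 1) := (Commute.refl A).add_right (Commute.one_right A)
  -- invariance of the standard Lagrangians
  have hinvU : ∀ v ∈ stdU d F, B *ᵥ v ∈ stdU d F := by
    intro v hv
    have h1 : G *ᵥ v ∈ kerU A M := by
      rw [← hgU]
      have := Submodule.mem_map_of_mem (f := Matrix.toLin' G) hv
      rwa [Matrix.toLin'_apply] at this
    have h2 : A *ᵥ (G *ᵥ v) ∈ kerU A M := by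
      rw [mem_kerU] at h1 ⊢
      rw [Matrix.mulVec_mulVec, ← pow_succ, pow_succ', ← Matrix.mulVec_mulVec, h1, Matrix.mulVec_zero]
    rw [← hgU] at h2
    obtain ⟨v', hv', hv'2⟩ := h2
    have h3 : B *ᵥ v = v' := by
      rw [hBdef, ← Matrix.mulVec_mulVec, ← Matrix.mulVec_mulVec, ← hv'2, Matrix.toLin'_apply,
        Matrix.mulVec_mulVec, hGiG, Matrix.one_mulVec]
    rw [h3]
    exact hv'
  have hinvW : ∀ v ∈ stdW d F, B *ᵥ v ∈ stdW d F := by
    intro v hv
    have h1 : G *ᵥ v ∈ kerW A M := by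
      rw [← hgW]
      have := Submodule.mem_map_of_mem (f := Matrix.toLin' G) hv
      rwa [Matrix.toLin'_apply] at this
    have h2 : A *ᵥ (G *ᵥ v) ∈ kerW A M := by
      rw [mem_kerW] at h1 ⊢
      rw [Matrix.mulVec_mulVec, ← (hcomm.pow_right M).eq, ← Matrix.mulVec_mulVec, h1,
        Matrix.mulVec_zero]
    rw [← hgW] at h2
    obtain ⟨v', hv', hv'2⟩ := h2
    have h3 : B *ᵥ v = v' := by
      rw [hBdef, ← Matrix.mulVec_mulVec, ← Matrix.mulVec_mulVec, ← hv'2, Matrix.toLin'_apply,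
        Matrix.mulVec_mulVec, hGiG, Matrix.one_mulVec]
    rw [h3]
    exact hv'
  have h21 := toBlocks₂₁_eq_zero hinvU
  have h12 := toBlocks₁₂_eq_zero hinvW
  have hB : fromBlocks B.toBlocks₁₁ 0 0 B.toBlocks₂₂ = B := by
    have := fromBlocks_toBlocks B
    rw [h12, h21] at this
    exact this
  -- the second block
  have hN' : B.toBlocks₂₂ = -1 - (B.toBlocks₁₁)ᵀ := by
    have h := mem_aSet.1 hBa
    rw [← hB, Matrix.J, fromBlocks_transpose, fromBlocks_multiply, fromBlocks_multiply,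
      fromBlocks_add, fromBlocks_add, ← fromBlocks_zero, fromBlocks_inj] at h
    obtain ⟨-, h2, -, -⟩ := h
    simp only [Matrix.mul_neg, Matrix.mul_one, Matrix.mul_zero, add_zero, zero_add,
      Matrix.neg_mul, Matrix.one_mul, transpose_zero] at h2
    have h3 : B.toBlocks₂₂ - (-1 - (B.toBlocks₁₁)ᵀ) =
        -(-B.toBlocks₁₁ᵀ + -B.toBlocks₂₂ + -1) := by abel
    rw [h2, neg_zero] at h3
    exact sub_eq_zero.1 h3
  -- nilpotency of the first block
  have hNil : B.toBlocks₁₁ ^ M = 0 := by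
    have hp := fromBlocks_diag_pow B.toBlocks₁₁ B.toBlocks₂₂ M
    rw [hB] at hp
    have hBM : B ^ M = Gi * A ^ M * G := by
      have := conj_pow_aux (A := A) hGGi M
      calc B ^ M = B ^ M * (Gi * G) := by rw [hGiG, Matrix.mul_one]
        _ = (B ^ M * Gi) * G := by rw [Matrix.mul_assoc]
        _ = Gi * A ^ M * G := by rw [hBdef, this]
    ext i j
    have h1 : (Pi.single (Sum.inl j) 1 : Fin d ⊕ Fin d → F) ∈ stdU d F := by
      intro k
      simp
    have h2 : G *ᵥ (Pi.single (Sum.inl j) 1 : Fin d ⊕ Fin d → F) ∈ kerU A M := by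
      rw [← hgU]
      have := Submodule.mem_map_of_mem (f := Matrix.toLin' G) h1
      rwa [Matrix.toLin'_apply] at this
    rw [mem_kerU] at h2
    have h3 : (B ^ M) *ᵥ (Pi.single (Sum.inl j) 1 : Fin d ⊕ Fin d → F) = 0 := by
      rw [hBM, ← Matrix.mulVec_mulVec, ← Matrix.mulVec_mulVec, h2, Matrix.mulVec_zero]
    have h4 := congrFun h3 (Sum.inl i)
    rw [Matrix.mulVec_single_one, hp] at h4
    exact h4
  refine ⟨g, B.toBlocks₁₁, ⟨M, hNil⟩, ?_⟩
  rw [← hN', hB, hBdef]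
  calc G * (Gi * A * G) * Gi = (G * Gi) * A * (G * Gi) := by simp only [Matrix.mul_assoc]
    _ = A := by rw [hGGi, Matrix.one_mul, Matrix.mul_one]

end Cfsg.Agent.Lib.Helper4.SpUnC
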