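import Mathlib
import Cfsg.Agent.Lib.Helper4.SpUnC2
import Cfsg.Agent.Lib.Helper7.LawPkgSp

/-!
# S2316, package C (part 3): the block matrices `diag(N, -1 - Nᵀ)` and their transporter
-/

set_option autoImplicit false

namespace Cfsg.Agent.Lib.Helper4.SpUnC

open Matrix Cfsg.Agent.Lib.Helper5.SpUn Cfsg.Agent.Lib.Helper7.LawAux

universe u

variable {F : Type u} [Field F] {d : ℕ}

/-- the block matrix `diag(N, -1 - Nᵀ)`. -/
def blk (N : Matrix (Fin d) (Fin d) F) : Matrix (Fin d ⊕ Fin d) (Fin d ⊕ Fin d) F :=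
  fromBlocks N 0 0 (-1 - Nᵀ)

theorem blk_injective : Function.Injective (blk : Matrix (Fin d) (Fin d) F → _) := by
  intro N N' h
  unfold blk at h
  exact (fromBlocks_inj.1 h).1

theorem blk_mem_aSet (N : Matrix (Fin d) (Fin d) F) : blk N ∈ aSet (J (Fin d) F) := by
  rw [mem_aSet, blk, Matrix.J, fromBlocks_transpose, fromBlocks_multiply, fromBlocks_multiply,
    fromBlocks_add, fromBlocks_add, ← fromBlocks_zero, fromBlocks_inj]
  refine ⟨?_, ?_, ?_, ?_⟩
  · simp
  · simp only [Matrix.mul_neg, Matrix.mul_one, Matrix.mul_zero, add_zero, zero_add,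
      Matrix.neg_mul, Matrix.one_mul, transpose_zero]
    abel
  · simp only [Matrix.mul_one, Matrix.mul_zero, add_zero, zero_add,
      Matrix.one_mul, transpose_zero, transpose_sub, transpose_neg, transpose_one, transpose_transpose]
    abel
  · simp

theorem isNilpotent_fromBlocks_diag {X Y : Matrix (Fin d) (Fin d) F} (hX : IsNilpotent X)
    (hY : IsNilpotent Y) : IsNilpotent (fromBlocks X 0 0 Y) := by
  obtain ⟨k1, h1⟩ := hX
  obtain ⟨k2, h2⟩ := hY
  refine ⟨k1 + k2, ?_⟩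
  rw [fromBlocks_diag_pow, pow_add, h1, Matrix.zero_mul, pow_add, h2, Matrix.mul_zero, fromBlocks_zero]

theorem blk_nilpotent {N : Matrix (Fin d) (Fin d) F} (hN : IsNilpotent N) :
    IsNilpotent (blk N * (blk N + 1)) := by
  have h1 : blk N + 1 = fromBlocks (N + 1) 0 0 (-Nᵀ) := by
    rw [blk, ← fromBlocks_one, fromBlocks_add]
    congr 1
    · simp
    · simp
    · abel
  rw [h1, blk, fromBlocks_multiply]
  simp only [Matrix.mul_zero, Matrix.zero_mul, add_zero, zero_add]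
  apply isNilpotent_fromBlocks_diag
  · have hc : Commute N (N + 1) := (Commute.refl N).add_right (Commute.one_right N)
    exact hc.isNilpotent_mul_right hN
  · have hT : IsNilpotent (-Nᵀ) := (Matrix.isNilpotent_transpose_iff.2 hN).neg
    have hc : Commute (-1 - Nᵀ) (-Nᵀ) := by
      apply Commute.neg_right
      apply Commute.sub_left
      · exact (Commute.one_left _).neg_left
      · exact Commute.refl _
    exact hc.isNilpotent_mul_left hT

theorem eq_zero_of_intertwine {X Y b : Matrix (Fin d) (Fin d) F} (hX : IsNilpotent X) (hY : IsUnit Y)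
    (h : X * b = b * Y) : b = 0 := by
  obtain ⟨k, hk⟩ := hX
  have hpow : ∀ j, X ^ j * b = b * Y ^ j := by
    intro j
    induction j with
    | zero => simp
    | succ j ih =>
      rw [pow_succ', Matrix.mul_assoc, ih, ← Matrix.mul_assoc, h, Matrix.mul_assoc, ← pow_succ']
  have h1 := hpow k
  rw [hk, Matrix.zero_mul] at h1
  obtain ⟨u, hu⟩ := hY.pow k
  have h2 : b = b * Y ^ k * ((u⁻¹ : (Matrix (Fin d) (Fin d) F)ˣ) : Matrix (Fin d) (Fin d) F) := by
    rw [← hu, Matrix.mul_assoc, Units.mul_inv, Matrix.mul_one]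
  rw [h2, ← h1, Matrix.zero_mul]

theorem eq_zero_of_intertwine' {X Y c : Matrix (Fin d) (Fin d) F} (hX : IsNilpotent X) (hY : IsUnit Y)
    (h : Y * c = c * X) : c = 0 := by
  obtain ⟨k, hk⟩ := hX
  have hpow : ∀ j, Y ^ j * c = c * X ^ j := by
    intro j
    induction j with
    | zero => simp
    | succ j ih =>
      rw [pow_succ', Matrix.mul_assoc, ih, ← Matrix.mul_assoc, h, Matrix.mul_assoc, ← pow_succ']
  have h1 := hpow k
  rw [hk, Matrix.mul_zero] at h1
  obtain ⟨u, hu⟩ := hY.pow k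
  have h2 : c = ((u⁻¹ : (Matrix (Fin d) (Fin d) F)ˣ) : Matrix (Fin d) (Fin d) F) * (Y ^ k * c) := by
    rw [← hu, ← Matrix.mul_assoc, Units.inv_mul, Matrix.one_mul]
  rw [h2, h1, Matrix.mul_zero]

theorem isUnit_neg_one_sub_transpose {N : Matrix (Fin d) (Fin d) F} (hN : IsNilpotent N) :
    IsUnit (-1 - Nᵀ) := by
  have h1 : (-1 - Nᵀ) = -(1 + Nᵀ) := by abel
  rw [h1]
  exact (Matrix.isNilpotent_transpose_iff.2 hN).isUnit_one_add.neg

/-- `P ↦ diag(P, P⁻ᵀ)` into the symplectic group. -/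
noncomputable def hypSp (F : Type u) [Field F] (d : ℕ) :
    GL (Fin d) F →* Matrix.symplecticGroup (Fin d) F :=
  (hypMat F d).codRestrict (Matrix.symplecticGroup (Fin d) F) (hypMat_mem_symplectic F d)

theorem hypSp_coe (P : GL (Fin d) F) :
    ((hypSp F d P : Matrix.symplecticGroup (Fin d) F) : Matrix (Fin d ⊕ Fin d) (Fin d ⊕ Fin d) F) =
      fromBlocks (P : Matrix (Fin d) (Fin d) F) 0 0
        ((P⁻¹ : GL (Fin d) F) : Matrix (Fin d) (Fin d) F)ᵀ := rfl

theorem hypSp_injective : Function.Injective (hypSp F d) := by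
  intro P Q h
  have h1 := congrArg (fun x : Matrix.symplecticGroup (Fin d) F =>
    (x : Matrix (Fin d ⊕ Fin d) (Fin d ⊕ Fin d) F)) h
  simp only [hypSp_coe] at h1
  exact Units.ext (fromBlocks_inj.1 h1).1

/-- conjugation as an action of the symplectic group on matrices. -/
noncomputable def cact (g : Matrix.symplecticGroup (Fin d) F)
    (x : Matrix (Fin d ⊕ Fin d) (Fin d ⊕ Fin d) F) : Matrix (Fin d ⊕ Fin d) (Fin d ⊕ Fin d) F :=
  (g : Matrix (Fin d ⊕ Fin d) (Fin d ⊕ Fin d) F) * x *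
    ((g⁻¹ : Matrix.symplecticGroup (Fin d) F) : Matrix (Fin d ⊕ Fin d) (Fin d ⊕ Fin d) F)

theorem cact_one (x : Matrix (Fin d ⊕ Fin d) (Fin d ⊕ Fin d) F) : cact 1 x = x := by
  unfold cact
  rw [inv_one, Submonoid.coe_one, Matrix.one_mul, Matrix.mul_one]

theorem cact_mul (g h : Matrix.symplecticGroup (Fin d) F)
    (x : Matrix (Fin d ⊕ Fin d) (Fin d ⊕ Fin d) F) : cact (g * h) x = cact g (cact h x) := by
  unfold cact
  rw [_root_.mul_inv_rev, Submonoid.coe_mul, Submonoid.coe_mul]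
  simp only [Matrix.mul_assoc]

theorem coe_mul_inv (g : Matrix.symplecticGroup (Fin d) F) :
    (g : Matrix (Fin d ⊕ Fin d) (Fin d ⊕ Fin d) F) *
      ((g⁻¹ : Matrix.symplecticGroup (Fin d) F) : Matrix (Fin d ⊕ Fin d) (Fin d ⊕ Fin d) F) = 1 := by
  rw [← Submonoid.coe_mul, mul_inv_cancel, Submonoid.coe_one]

theorem coe_inv_mul (g : Matrix.symplecticGroup (Fin d) F) :
    ((g⁻¹ : Matrix.symplecticGroup (Fin d) F) : Matrix (Fin d ⊕ Fin d) (Fin d ⊕ Fin d) F) *
      (g : Matrix (Fin d ⊕ Fin d) (Fin d ⊕ Fin d) F) = 1 := by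
  rw [← Submonoid.coe_mul, inv_mul_cancel, Submonoid.coe_one]

/-- the set of block matrices. -/
def sSet (F : Type u) [Field F] (d : ℕ) : Set (Matrix (Fin d ⊕ Fin d) (Fin d ⊕ Fin d) F) :=
  {s | ∃ N : Matrix (Fin d) (Fin d) F, IsNilpotent N ∧ blk N = s}

/-- the transporter of `sSet` is the image of `GL_d`. -/
theorem cact_mem_sSet_iff {s : Matrix (Fin d ⊕ Fin d) (Fin d ⊕ Fin d) F} (hs : s ∈ sSet F d)
    (g : Matrix.symplecticGroup (Fin d) F) : cact g s ∈ sSet F d ↔ g ∈ (hypSp F d).range := by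
  obtain ⟨N, hN, rfl⟩ := hs
  constructor
  · rintro ⟨N', hN', h⟩
    -- `g * blk N = blk N' * g`
    have h1 : (g : Matrix (Fin d ⊕ Fin d) (Fin d ⊕ Fin d) F) * blk N =
        blk N' * (g : Matrix (Fin d ⊕ Fin d) (Fin d ⊕ Fin d) F) := by
      rw [h]
      unfold cact
      rw [Matrix.mul_assoc, coe_inv_mul, Matrix.mul_one]
    have hg := fromBlocks_toBlocks (g : Matrix (Fin d ⊕ Fin d) (Fin d ⊕ Fin d) F)
    set a := (g : Matrix (Fin d ⊕ Fin d) (Fin d ⊕ Fin d) F).toBlocks₁₁ with ha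
    set b := (g : Matrix (Fin d ⊕ Fin d) (Fin d ⊕ Fin d) F).toBlocks₁₂ with hb
    set c := (g : Matrix (Fin d ⊕ Fin d) (Fin d ⊕ Fin d) F).toBlocks₂₁ with hc
    set e := (g : Matrix (Fin d ⊕ Fin d) (Fin d ⊕ Fin d) F).toBlocks₂₂ with he
    rw [← hg, blk, blk, fromBlocks_multiply, fromBlocks_multiply, fromBlocks_inj] at h1
    obtain ⟨-, h12, h21, -⟩ := h1
    simp only [Matrix.mul_zero, Matrix.zero_mul, add_zero, zero_add] at h12 h21
    have hb0 : b = 0 :=
      eq_zero_of_intertwine hN' (isUnit_neg_one_sub_transpose hN) h12.symm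
    have hc0 : c = 0 :=
      eq_zero_of_intertwine' hN (isUnit_neg_one_sub_transpose hN') h21.symm
    rw [hb0, hc0] at hg
    have hmem : fromBlocks a 0 0 e ∈ Matrix.symplecticGroup (Fin d) F := by
      rw [hg]
      exact g.2
    rw [SymplecticGroup.fromBlocks_mem_iff] at hmem
    obtain ⟨-, -, h3⟩ := hmem
    simp only [Matrix.mul_zero, sub_zero, transpose_zero] at h3
    -- `aᵀ * e = 1`
    have h4 : eᵀ * a = 1 := by
      have := congrArg transpose h3
      rwa [transpose_mul, transpose_transpose, transpose_one] at this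
    have h5 : a * eᵀ = 1 := mul_eq_one_comm.1 h4
    refine ⟨⟨a, eᵀ, h5, h4⟩, ?_⟩
    apply Subtype.ext
    rw [hypSp_coe]
    show fromBlocks a 0 0 (eᵀ)ᵀ = _
    rw [transpose_transpose, hg]
  · rintro ⟨P, rfl⟩
    refine ⟨(P : Matrix (Fin d) (Fin d) F) * N * ((P⁻¹ : GL (Fin d) F) : Matrix (Fin d) (Fin d) F), ?_, ?_⟩
    · obtain ⟨k, hk⟩ := hN
      refine ⟨k, ?_⟩
      rw [Units.conj_pow, hk, Matrix.mul_zero, Matrix.zero_mul]
    · unfold cact
      rw [← map_inv, hypSp_coe, hypSp_coe, inv_inv, blk, blk, fromBlocks_multiply, fromBlocks_multiply]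
      have h1 : ((P⁻¹ : GL (Fin d) F) : Matrix (Fin d) (Fin d) F)ᵀ * (P : Matrix (Fin d) (Fin d) F)ᵀ = 1 := by
        rw [← transpose_mul, ← Units.val_mul, mul_inv_cancel, Units.val_one, transpose_one]
      simp only [Matrix.mul_zero, Matrix.zero_mul, add_zero, zero_add]
      congr 1
      rw [transpose_mul, transpose_mul, Matrix.mul_sub, Matrix.sub_mul, Matrix.mul_neg, Matrix.mul_one,
        Matrix.neg_mul, h1, Matrix.mul_assoc]

end Cfsg.Agent.Lib.Helper4.SpUnC
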