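import Mathlib
import Cfsg.Agent.Lib.Helper4.SpUnC3

/-!
# S2316, package C: `hN n * |GL_n| = |Sp_2n| * (number of nilpotent n × n matrices)`
-/

set_option autoImplicit false

namespace Cfsg.Agent.Lib.Helper4.SpUnC

open Matrix Cfsg.Agent.Lib.Helper5.SpUn Cfsg.Agent.Lib.Helper5.NilCount

universe u

section sat
variable {F : Type u} [Field F] {d : ℕ}

theorem mem_saturation_iff (x : Matrix (Fin d ⊕ Fin d) (Fin d ⊕ Fin d) F) :
    (∃ g : Matrix.symplecticGroup (Fin d) F, ∃ s ∈ sSet F d, cact g s = x) ↔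
      (x ∈ aSet (J (Fin d) F) ∧ IsNilpotent (x * (x + 1))) := by
  constructor
  · rintro ⟨g, s, ⟨N, hN, rfl⟩, rfl⟩
    have hGGi := coe_mul_inv g
    have hGiG := coe_inv_mul g
    have hG : (g : Matrix (Fin d ⊕ Fin d) (Fin d ⊕ Fin d) F)ᵀ * J (Fin d) F *
        (g : Matrix (Fin d ⊕ Fin d) (Fin d ⊕ Fin d) F) = J (Fin d) F := SymplecticGroup.mem_iff'.1 g.2
    have hGi : ((g⁻¹ : Matrix.symplecticGroup (Fin d) F) : Matrix (Fin d ⊕ Fin d) (Fin d ⊕ Fin d) F)ᵀ *
        J (Fin d) F * ((g⁻¹ : Matrix.symplecticGroup (Fin d) F) : Matrix (Fin d ⊕ Fin d) (Fin d ⊕ Fin d) F) =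
        J (Fin d) F := SymplecticGroup.mem_iff'.1 (g⁻¹).2
    refine ⟨conj_mem_aSet hGGi hGiG hGi hG (blk_mem_aSet N), ?_⟩
    obtain ⟨k, hk⟩ := blk_nilpotent hN
    refine ⟨k, ?_⟩
    unfold cact
    set G := (g : Matrix (Fin d ⊕ Fin d) (Fin d ⊕ Fin d) F) with hGdef
    set Gi := ((g⁻¹ : Matrix.symplecticGroup (Fin d) F) : Matrix (Fin d ⊕ Fin d) (Fin d ⊕ Fin d) F)
      with hGidef
    have h1 : G * blk N * Gi * (G * blk N * Gi + 1) = G * (blk N * (blk N + 1)) * Gi := by
      have h2 : G * blk N * Gi + 1 = G * (blk N + 1) * Gi := by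
        rw [Matrix.mul_add, Matrix.add_mul, Matrix.mul_one, hGGi]
      rw [h2]
      calc G * blk N * Gi * (G * (blk N + 1) * Gi)
          = G * blk N * (Gi * G) * (blk N + 1) * Gi := by simp only [Matrix.mul_assoc]
        _ = G * (blk N * (blk N + 1)) * Gi := by
            rw [hGiG, Matrix.mul_one]
            simp only [Matrix.mul_assoc]
    rw [h1]
    have h3 := conj_pow_aux (G := Gi) (Gi := G) (A := blk N * (blk N + 1)) hGiG k
    calc (G * (blk N * (blk N + 1)) * Gi) ^ k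
        = (G * (blk N * (blk N + 1)) * Gi) ^ k * (G * Gi) := by rw [hGGi, Matrix.mul_one]
      _ = ((G * (blk N * (blk N + 1)) * Gi) ^ k * G) * Gi := (Matrix.mul_assoc _ _ _).symm
      _ = 0 := by rw [h3, hk, Matrix.mul_zero, Matrix.zero_mul]
  · rintro ⟨hA, hn⟩
    obtain ⟨g, N, hN, h⟩ := exists_conj_block hA hn
    exact ⟨g, blk N, ⟨N, hN, rfl⟩, h⟩

end sat

section count
variable (F : Type u) [Field F] [Fintype F]

/-- **Package C.** -/
theorem hN_mul (n : ℕ) : hN F n * glN F n = sN F n * nilN F n := by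
  classical
  have key := card_saturation (G := Matrix.symplecticGroup (Fin n) F)
    (X := Matrix (Fin n ⊕ Fin n) (Fin n ⊕ Fin n) F) cact cact_one cact_mul (sSet F n)
    (hypSp F n).range (fun s hs g => cact_mem_sSet_iff hs g)
  have e1 : Nat.card {x : Matrix (Fin n ⊕ Fin n) (Fin n ⊕ Fin n) F //
      ∃ g : Matrix.symplecticGroup (Fin n) F, ∃ s ∈ sSet F n, cact g s = x} = hN F n := by
    unfold hN
    exact Nat.card_congr (Equiv.subtypeEquivRight mem_saturation_iff)
  have e2 : Nat.card (hypSp F n).range = glN F n := by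
    unfold glN
    exact (Nat.card_congr (MonoidHom.ofInjective hypSp_injective).toEquiv).symm
  have e3 : Nat.card (Matrix.symplecticGroup (Fin n) F) = sN F n := by
    unfold sN
    exact Nat.card_congr (Equiv.subtypeEquivRight fun g => SymplecticGroup.mem_iff')
  have e4 : Nat.card (sSet F n) = nilN F n := by
    unfold nilN
    symm
    apply Nat.card_congr
    refine Equiv.ofBijective (fun N => ⟨blk N.1, N.1, N.2, rfl⟩) ⟨?_, ?_⟩
    · intro N N' h
      exact Subtype.ext (blk_injective (congrArg Subtype.val h))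
    · rintro ⟨s, N, hN, rfl⟩
      exact ⟨⟨N, hN⟩, rfl⟩
  rw [e1, e2, e3, e4] at key
  exact key

end count

end Cfsg.Agent.Lib.Helper4.SpUnC
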