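import Mathlib

set_option autoImplicit false

/-! # Sylvester–Schur, range R2: structural lemmas (no numerics)

`Bad n k` situation: every prime divisor of `n.choose k` is `≤ k`. -/

namespace Cfsg.Agent.Lib.Helper4.SylSchurR2

open Nat

/-- Under `Bad`, the prime factorisation of `C(n,k)` only involves primes `≤ min k (n/3)`. -/
theorem choose_factorization_small (n k M : ℕ) (hM : M = min k (n / 3)) (hn : 2 * k ≤ n)
    (h6 : 6 ≤ n) (hbad : ∀ p, p.Prime → p ∣ n.choose k → p ≤ k) :
    n.choose k = ∏ p ∈ Finset.range (M + 1), p ^ (n.choose k).factorization p := by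
  have hkn : k ≤ n := by omega
  refine (Eq.trans ?_ (Nat.prod_pow_factorization_choose n k hkn)).symm
  apply Finset.prod_subset
  · intro x hx
    rw [Finset.mem_range] at hx ⊢
    have : M ≤ k := hM ▸ min_le_left _ _
    omega
  intro x hx h2x
  rw [Finset.mem_range, Nat.lt_succ_iff] at hx
  rw [Finset.mem_range, Nat.lt_succ_iff, not_le] at h2x
  by_cases hxp : x.Prime
  · by_cases hxk : x ≤ k
    · have h3 : n / 3 < x := by
        rcases min_choice k (n / 3) with h | h <;> omega
      have hx3 : n < 3 * x := by omega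
      have hx2 : x ≠ 2 := by omega
      rw [Nat.factorization_choose_of_lt_three_mul hx2 hxk (by omega) hx3, pow_zero]
    · have : ¬ x ∣ n.choose k := fun h => hxk (hbad x hxp h)
      rw [Nat.factorization_eq_zero_of_not_dvd this, pow_zero]
  · rw [Nat.factorization_eq_zero_of_not_prime _ hxp, pow_zero]

/-- (U) Under `Bad`: `C(n,k) ≤ n ^ π(√n) * 4 ^ min k (n/3)`. -/
theorem choose_le_of_bad (n k : ℕ) (hn : 2 * k ≤ n) (h6 : 6 ≤ n)
    (hbad : ∀ p, p.Prime → p ∣ n.choose k → p ≤ k) :
    n.choose k ≤ n ^ Nat.primeCounting (Nat.sqrt n) * 4 ^ min k (n / 3) := by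
  have n_pos : 0 < n := by omega
  obtain ⟨M, hM⟩ : ∃ M, M = min k (n / 3) := ⟨_, rfl⟩
  rw [← hM]
  let S := {p ∈ Finset.range (M + 1) | Nat.Prime p}
  let f x := x ^ (n.choose k).factorization x
  have : ∏ x ∈ S, f x = ∏ x ∈ Finset.range (M + 1), f x := by
    refine Finset.prod_filter_of_ne fun p _ h => ?_
    contrapose h; dsimp only [f]
    rw [factorization_eq_zero_of_not_prime (n.choose k) h, _root_.pow_zero]
  rw [choose_factorization_small n k M hM hn h6 hbad, ← this, ←
    Finset.prod_filter_mul_prod_filter_not S (· ≤ sqrt n)]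
  apply mul_le_mul'
  · refine (Finset.prod_le_prod' fun p _ => (?_ : f p ≤ n)).trans ?_
    · exact pow_factorization_choose_le n_pos
    rw [Finset.prod_const]
    refine pow_right_mono₀ n_pos ?_
    rw [Nat.primeCounting, Nat.primeCounting', Nat.count_eq_card_filter_range]
    apply Finset.card_le_card
    intro x hx
    obtain ⟨h1, h2⟩ := Finset.mem_filter.1 hx
    exact Finset.mem_filter.2 ⟨Finset.mem_range.2 (by omega), (Finset.mem_filter.1 h1).2⟩
  · refine le_trans ?_ (primorial_le_four_pow M)
    refine (Finset.prod_le_prod' fun p hp => (?_ : f p ≤ p)).trans ?_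
    · obtain ⟨h1, h2⟩ := Finset.mem_filter.1 hp
      refine (pow_right_mono₀ (Finset.mem_filter.1 h1).2.one_lt.le ?_).trans (pow_one p).le
      exact Nat.factorization_choose_le_one (sqrt_lt'.mp <| not_le.1 h2)
    refine Finset.prod_le_prod_of_subset_of_one_le' (Finset.filter_subset _ _) ?_
    exact fun p hp _ => (Finset.mem_filter.1 hp).2.one_lt.le

/-- (Pi) `π(s) ≤ s/3 + 3`. -/
theorem primeCounting_le (s : ℕ) : Nat.primeCounting s ≤ s / 3 + 3 := by
  have h6 : Nat.primeCounting 6 = 3 := by decide
  rcases le_or_gt s 6 with h | h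
  · calc Nat.primeCounting s ≤ Nat.primeCounting 6 := Nat.monotone_primeCounting h
      _ = 3 := h6
      _ ≤ s / 3 + 3 := by omega
  · have h1 := Nat.primeCounting_add_le (a := 6) (k := 6) (by norm_num) le_rfl (s - 6)
    have ht : Nat.totient 6 = 2 := by decide
    rw [ht, h6, show 6 + (s - 6) = s by omega] at h1
    omega

/-- (L1) `n ^ k ≤ C(n,k) * k ^ k`. -/
theorem pow_le_choose_mul_pow (n k : ℕ) (hk : k ≤ n) : n ^ k ≤ n.choose k * k ^ k := by
  have h1 : n ^ k * k.factorial ≤ n.descFactorial k * k ^ k := by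
    rw [Nat.descFactorial_eq_prod_range, ← Nat.descFactorial_self k,
      Nat.descFactorial_eq_prod_range]
    have e1 : n ^ k = ∏ _i ∈ Finset.range k, n := by rw [Finset.prod_const, Finset.card_range]
    have e2 : k ^ k = ∏ _i ∈ Finset.range k, k := by rw [Finset.prod_const, Finset.card_range]
    rw [e1, e2, ← Finset.prod_mul_distrib, ← Finset.prod_mul_distrib]
    apply Finset.prod_le_prod' 
    intro i hi
    rw [Finset.mem_range] at hi
    obtain ⟨a, rfl⟩ := Nat.exists_eq_add_of_le hi.le
    obtain ⟨b, rfl⟩ := Nat.exists_eq_add_of_le (show i ≤ n by omega)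
    have hab : a ≤ b := by omega
    rw [Nat.add_sub_cancel_left, Nat.add_sub_cancel_left]
    nlinarith [Nat.mul_le_mul_left i hab]
  rw [Nat.descFactorial_eq_factorial_mul_choose] at h1
  have hpos : 0 < k.factorial := Nat.factorial_pos k
  have h2 : k.factorial * n ^ k ≤ k.factorial * (n.choose k * k ^ k) := by
    calc k.factorial * n ^ k = n ^ k * k.factorial := mul_comm _ _
      _ ≤ k.factorial * n.choose k * k ^ k := h1
      _ = k.factorial * (n.choose k * k ^ k) := mul_assoc _ _ _
  exact Nat.le_of_mul_le_mul_left h2 hpos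

/-- (L2) `4^k (3/2)^j ≤ 2k C(n,k)` for `j = min (n - 2k) k`. -/
theorem four_pow_mul_three_pow_le (n k : ℕ) (hk : 1 ≤ k) (hn : 2 * k ≤ n) :
    4 ^ k * 3 ^ min (n - 2 * k) k ≤ 2 * k * n.choose k * 2 ^ min (n - 2 * k) k := by
  -- induction on `d = n - 2k`
  obtain ⟨d, rfl⟩ := Nat.exists_eq_add_of_le hn
  rw [Nat.add_sub_cancel_left]
  induction d with
  | zero =>
    simp only [Nat.zero_min, pow_zero, mul_one, add_zero]
    have := Nat.four_pow_le_two_mul_self_mul_centralBinom k hk
    rwa [Nat.centralBinom_eq_two_mul_choose] at this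
  | succ d ih =>
    have ih := ih (by omega)
    have hstep : (2 * k + d).choose k * (2 * k + d + 1) =
        (2 * k + d + 1).choose k * (2 * k + d + 1 - k) := Nat.choose_mul_succ_eq _ _
    rcases le_or_gt k d with hkd | hkd
    · -- `d ≥ k`: both mins are `k`, monotone
      rw [min_eq_right (by omega : k ≤ d + 1)]
      rw [min_eq_right hkd] at ih
      have hmono : (2 * k + d).choose k ≤ (2 * k + (d + 1)).choose k :=
        Nat.choose_le_choose k (by omega)
      calc 4 ^ k * 3 ^ k ≤ 2 * k * (2 * k + d).choose k * 2 ^ k := ih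
        _ ≤ 2 * k * (2 * k + (d + 1)).choose k * 2 ^ k := by gcongr
    · -- `d < k`
      rw [min_eq_left (by omega : d + 1 ≤ k)]
      rw [min_eq_left hkd.le] at ih
      -- `3 C(n,k) ≤ 2 C(n+1,k)`
      have h32 : 3 * (2 * k + d).choose k ≤ 2 * (2 * k + (d + 1)).choose k := by
        have e : 2 * k + d + 1 - k = k + d + 1 := by omega
        rw [e] at hstep
        have hpos : 0 < k + d + 1 := by omega
        have : (k + d + 1) * (3 * (2 * k + d).choose k) ≤
            (k + d + 1) * (2 * (2 * k + (d + 1)).choose k) := by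
          have e2 : 2 * k + (d + 1) = 2 * k + d + 1 := by ring
          rw [e2]
          calc (k + d + 1) * (3 * (2 * k + d).choose k)
              = (2 * k + d).choose k * (3 * (k + d + 1)) := by ring
            _ ≤ (2 * k + d).choose k * (2 * (2 * k + d + 1)) := by
                apply Nat.mul_le_mul_left; omega
            _ = 2 * ((2 * k + d).choose k * (2 * k + d + 1)) := by ring
            _ = 2 * ((2 * k + d + 1).choose k * (k + d + 1)) := by rw [hstep]
            _ = (k + d + 1) * (2 * (2 * k + d + 1).choose k) := by ring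
        exact Nat.le_of_mul_le_mul_left this hpos
      calc 4 ^ k * 3 ^ (d + 1) = (4 ^ k * 3 ^ d) * 3 := by ring
        _ ≤ (2 * k * (2 * k + d).choose k * 2 ^ d) * 3 := by gcongr
        _ = 2 * k * (3 * (2 * k + d).choose k) * 2 ^ d := by ring
        _ ≤ 2 * k * (2 * (2 * k + (d + 1)).choose k) * 2 ^ d := by gcongr
        _ = 2 * k * (2 * k + (d + 1)).choose k * 2 ^ (d + 1) := by ring

end Cfsg.Agent.Lib.Helper4.SylSchurR2
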