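import Mathlib
import Cfsg.Agent.Lib.Helper4.SylSchur_R2base

set_option autoImplicit false

/-! # Sylvester–Schur, range R2 (`2^15 ≤ n`, `n^2 < k^3`): `ss_mid` -/

namespace Cfsg.Agent.Lib.Helper4.SylSchurR2

open Nat

theorem six_pow_le (a : ℕ) (ha : 15 ≤ a) : (a + 1) ^ 6 ≤ 10000 * 2 ^ a := by
  induction a, ha using Nat.le_induction with
  | base => norm_num
  | succ a ha ih =>
    have h1 : 100 * (a + 1 + 1) ^ 2 ≤ 113 * (a + 1) ^ 2 := by nlinarith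
    have h2 : (100 * (a + 1 + 1) ^ 2) ^ 3 ≤ (113 * (a + 1) ^ 2) ^ 3 :=
      Nat.pow_le_pow_left h1 3
    have h3 : 1000000 * (a + 1 + 1) ^ 6 ≤ 2000000 * (a + 1) ^ 6 := by
      calc 1000000 * (a + 1 + 1) ^ 6 = (100 * (a + 1 + 1) ^ 2) ^ 3 := by ring
        _ ≤ (113 * (a + 1) ^ 2) ^ 3 := h2
        _ = 1442897 * (a + 1) ^ 6 := by ring
        _ ≤ 2000000 * (a + 1) ^ 6 := by gcongr; norm_num
    have h4 : (a + 1 + 1) ^ 6 ≤ 2 * (a + 1) ^ 6 := by omega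
    calc (a + 1 + 1) ^ 6 ≤ 2 * (a + 1) ^ 6 := h4
      _ ≤ 2 * (10000 * 2 ^ a) := by gcongr
      _ = 10000 * 2 ^ (a + 1) := by ring

theorem sq_le (a : ℕ) (ha : 15 ≤ a) : 121 * (a + 1) ^ 2 ≤ 2 ^ a := by
  induction a, ha using Nat.le_induction with
  | base => norm_num
  | succ a ha ih =>
    have h1 : (a + 1 + 1) ^ 2 ≤ 2 * (a + 1) ^ 2 := by nlinarith
    calc 121 * (a + 1 + 1) ^ 2 ≤ 121 * (2 * (a + 1) ^ 2) := by gcongr
      _ = 2 * (121 * (a + 1) ^ 2) := by ring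
      _ ≤ 2 * 2 ^ a := by gcongr
      _ = 2 ^ (a + 1) := by ring

theorem three_pow_le (d e : ℕ) (h : d ≤ 3 * e) : 3 ^ d ≤ 4 ^ e * 2 ^ d := by
  have h1 : (3 ^ d) ^ 3 ≤ (4 ^ e * 2 ^ d) ^ 3 := by
    calc (3 ^ d) ^ 3 = 27 ^ d := by rw [← pow_mul, mul_comm, pow_mul]; norm_num
      _ ≤ 32 ^ d := Nat.pow_le_pow_left (by norm_num) d
      _ = 4 ^ d * 8 ^ d := by rw [← mul_pow]; norm_num
      _ ≤ 4 ^ (3 * e) * 8 ^ d := by
          gcongr
          · norm_num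
      _ = (4 ^ e * 2 ^ d) ^ 3 := by
          rw [mul_pow, ← pow_mul, ← pow_mul, mul_comm e 3, mul_comm d 3, pow_mul 2 3 d]
          norm_num
  exact (Nat.pow_le_pow_iff_left (by norm_num)).mp h1

theorem num1 (n k s a : ℕ) (hs1 : s * s ≤ n) (hs2 : n < (s + 1) * (s + 1)) (ha : 2 ^ a ≤ n)
    (h15 : 15 ≤ a) (hs : 181 ≤ s) (hlt : n ^ 2 < k ^ 3) : (a + 1) * (s / 3 + 3) ≤ 2 * k := by
  by_contra hcon
  push Not at hcon
  have h1 : (a + 1) ^ 3 < 100 * (s + 1) := by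
    have h2 : ((a + 1) ^ 3) ^ 2 < (100 * (s + 1)) ^ 2 := by
      calc ((a + 1) ^ 3) ^ 2 = (a + 1) ^ 6 := by ring
        _ ≤ 10000 * 2 ^ a := six_pow_le a h15
        _ ≤ 10000 * n := by gcongr
        _ < 10000 * ((s + 1) * (s + 1)) := by gcongr
        _ = (100 * (s + 1)) ^ 2 := by ring
    exact lt_of_pow_lt_pow_left₀ 2 (Nat.zero_le _) h2
  have h3 : 5 * k < (a + 1) * s := by
    have e1 : 15 * (s / 3 + 3) ≤ 6 * s := by omega
    have e2 := Nat.mul_le_mul_left (a + 1) e1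
    have e3 : 15 * ((a + 1) * (s / 3 + 3)) ≤ 6 * ((a + 1) * s) := by
      calc 15 * ((a + 1) * (s / 3 + 3)) = (a + 1) * (15 * (s / 3 + 3)) := by ring
        _ ≤ (a + 1) * (6 * s) := e2
        _ = 6 * ((a + 1) * s) := by ring
    omega
  have h4 : (5 * k) ^ 3 < ((a + 1) * s) ^ 3 := Nat.pow_lt_pow_left h3 (by norm_num)
  have h5 : s ^ 4 ≤ n ^ 2 := by
    calc s ^ 4 = (s * s) ^ 2 := by ring
      _ ≤ n ^ 2 := Nat.pow_le_pow_left hs1 2
  have h6 : s ^ 3 * (125 * s) < s ^ 3 * (100 * (s + 1)) := by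
    calc s ^ 3 * (125 * s) = 125 * s ^ 4 := by ring
      _ ≤ 125 * n ^ 2 := by gcongr
      _ < 125 * k ^ 3 := by gcongr
      _ = (5 * k) ^ 3 := by ring
      _ < ((a + 1) * s) ^ 3 := h4
      _ = (a + 1) ^ 3 * s ^ 3 := by ring
      _ ≤ 100 * (s + 1) * s ^ 3 := by gcongr
      _ = s ^ 3 * (100 * (s + 1)) := by ring
  have := Nat.lt_of_mul_lt_mul_left h6
  omega

theorem num2 (n k s a : ℕ) (hs1 : s * s ≤ n) (hs2 : n < (s + 1) * (s + 1)) (ha : 2 ^ a ≤ n)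
    (h15 : 15 ≤ a) (hs : 181 ≤ s) (h16 : n < 16 * k) :
    a + 12 + (a + 1) * (s / 3 + 3) ≤ 7 * (k / 12) := by
  have h11 : 11 * (a + 1) ≤ s := by
    have h2 : (11 * (a + 1)) ^ 2 < (s + 1) ^ 2 := by
      calc (11 * (a + 1)) ^ 2 = 121 * (a + 1) ^ 2 := by ring
        _ ≤ 2 ^ a := sq_le a h15
        _ ≤ n := ha
        _ < (s + 1) * (s + 1) := hs2
        _ = (s + 1) ^ 2 := by ring
    have := lt_of_pow_lt_pow_left₀ 2 (Nat.zero_le _) h2
    omega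
  have e1 : 3 * (s / 3 + 3) ≤ s + 9 := by omega
  have e2 : 11 * (a + 1) * (3 * (s / 3 + 3)) ≤ s * (s + 9) := Nat.mul_le_mul h11 e1
  have e3 : 33 * ((a + 1) * (s / 3 + 3)) ≤ n + 9 * s := by
    calc 33 * ((a + 1) * (s / 3 + 3)) = 11 * (a + 1) * (3 * (s / 3 + 3)) := by ring
      _ ≤ s * (s + 9) := e2
      _ = s * s + 9 * s := by ring
      _ ≤ n + 9 * s := by omega
  have e4 : 2304 * s + 113817 ≤ 39 * n := by nlinarith
  omega

/-- **Sylvester–Schur, range R2**. -/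
theorem ss_mid (n k : ℕ) (hk : 37 ≤ k) (hn : 2 * k ≤ n) (h15 : 2 ^ 15 ≤ n)
    (hlt : n ^ 2 < k ^ 3) : ∃ p, p.Prime ∧ k < p ∧ p ∣ n.choose k := by
  by_contra hcon
  have hbad : ∀ p, p.Prime → p ∣ n.choose k → p ≤ k := by
    intro p hp hd
    by_contra h
    exact hcon ⟨p, hp, by omega, hd⟩
  obtain ⟨s, hs⟩ : ∃ s, s = Nat.sqrt n := ⟨_, rfl⟩
  obtain ⟨a, ha⟩ : ∃ a, a = Nat.log 2 n := ⟨_, rfl⟩
  have hs1 : s * s ≤ n := hs ▸ Nat.sqrt_le n
  have hs2 : n < (s + 1) * (s + 1) := hs ▸ Nat.lt_succ_sqrt n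
  have ha1 : 2 ^ a ≤ n := ha ▸ Nat.pow_log_le_self 2 (by omega)
  have ha2 : n < 2 ^ (a + 1) := ha ▸ Nat.lt_pow_succ_log_self (by norm_num) n
  have h15a : 15 ≤ a := ha ▸ Nat.le_log_of_pow_le (by norm_num) h15
  have hs181 : 181 ≤ s := by
    rw [hs, Nat.le_sqrt]
    norm_num at h15 ⊢
    omega
  have hU := choose_le_of_bad n k hn (by norm_num at h15; omega) hbad
  rw [← hs] at hU
  have hP := primeCounting_le s
  obtain ⟨P, hPdef⟩ : ∃ P, P = Nat.primeCounting s := ⟨_, rfl⟩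
  rw [← hPdef] at hU hP
  obtain ⟨e, hedef⟩ : ∃ e, e = s / 3 + 3 := ⟨_, rfl⟩
  rw [← hedef] at hP
  have he0 : e ≠ 0 := by omega
  have hn0 : 0 < n := by omega
  have hnP : n ^ P < 2 ^ ((a + 1) * e) := by
    calc n ^ P ≤ n ^ e := Nat.pow_le_pow_right hn0 hP
      _ < (2 ^ (a + 1)) ^ e := Nat.pow_lt_pow_left ha2 he0
      _ = 2 ^ ((a + 1) * e) := by rw [← pow_mul]
  rcases le_or_gt (16 * k) n with h16 | h16
  · -- `16 k ≤ n`
    have hL1 := pow_le_choose_mul_pow n k (by omega)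
    have h1 : 16 ^ k * k ^ k ≤ n ^ P * 4 ^ k * k ^ k := by
      calc 16 ^ k * k ^ k = (16 * k) ^ k := by rw [mul_pow]
        _ ≤ n ^ k := Nat.pow_le_pow_left h16 k
        _ ≤ n.choose k * k ^ k := hL1
        _ ≤ (n ^ P * 4 ^ min k (n / 3)) * k ^ k := by gcongr
        _ ≤ (n ^ P * 4 ^ k) * k ^ k := by
            gcongr
            · norm_num
            · exact min_le_left _ _
    have hkk : 0 < k ^ k := by positivity
    have h2 : 16 ^ k ≤ n ^ P * 4 ^ k := Nat.le_of_mul_le_mul_right h1 hkk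
    have h3 : 4 ^ k ≤ n ^ P := by
      have : (16 : ℕ) ^ k = 4 ^ k * 4 ^ k := by rw [← mul_pow]; norm_num
      rw [this] at h2
      exact Nat.le_of_mul_le_mul_right h2 (by positivity)
    have h4 : 2 ^ (2 * k) < 2 ^ ((a + 1) * e) := by
      calc 2 ^ (2 * k) = 4 ^ k := by rw [pow_mul]; norm_num
        _ ≤ n ^ P := h3
        _ < _ := hnP
    have h5 : 2 * k < (a + 1) * e := (Nat.pow_lt_pow_iff_right (by norm_num)).mp h4
    have := num1 n k s a hs1 hs2 ha1 h15a hs181 hlt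
    rw [← hedef] at this
    omega
  · -- `n < 16 k`
    have hL2 := four_pow_mul_three_pow_le n k (by omega) hn
    have hkey : 3 ^ k ≤ 2 * k * n ^ P * 2 ^ k := by
      rcases le_or_gt (3 * k) n with h3k | h3k
      · rw [min_eq_right (by omega : k ≤ n - 2 * k)] at hL2
        rw [min_eq_left ((Nat.le_div_iff_mul_le (by norm_num)).mpr (by omega))] at hU
        have : 4 ^ k * 3 ^ k ≤ 4 ^ k * (2 * k * n ^ P * 2 ^ k) := by
          calc 4 ^ k * 3 ^ k ≤ 2 * k * n.choose k * 2 ^ k := hL2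
            _ ≤ 2 * k * (n ^ P * 4 ^ k) * 2 ^ k := by gcongr
            _ = 4 ^ k * (2 * k * n ^ P * 2 ^ k) := by ring
        exact Nat.le_of_mul_le_mul_left this (by positivity)
      · rw [min_eq_left (by omega : n - 2 * k ≤ k)] at hL2
        rw [min_eq_right (by omega : n / 3 ≤ k)] at hU
        obtain ⟨e', he'⟩ : ∃ e', k = n / 3 + e' := Nat.exists_eq_add_of_le (by omega)
        obtain ⟨d, hd⟩ : ∃ d, k = (n - 2 * k) + d := Nat.exists_eq_add_of_le (by omega)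
        obtain ⟨j, hj⟩ : ∃ j, j = n - 2 * k := ⟨_, rfl⟩
        rw [← hj] at hL2 hd
        have hde : d ≤ 3 * e' := by omega
        have h4k : 4 ^ k = 4 ^ (n / 3) * 4 ^ e' := by rw [← pow_add, ← he']
        have h3k' : 3 ^ k = 3 ^ j * 3 ^ d := by rw [← pow_add, ← hd]
        have h2k' : 2 ^ k = 2 ^ j * 2 ^ d := by rw [← pow_add, ← hd]
        have h1 : 4 ^ (n / 3) * (4 ^ e' * 3 ^ j) ≤ 4 ^ (n / 3) * (2 * k * n ^ P * 2 ^ j) := by
          calc 4 ^ (n / 3) * (4 ^ e' * 3 ^ j) = 4 ^ k * 3 ^ j := by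
                rw [h4k]; ring
            _ ≤ 2 * k * n.choose k * 2 ^ j := hL2
            _ ≤ 2 * k * (n ^ P * 4 ^ (n / 3)) * 2 ^ j := by gcongr
            _ = 4 ^ (n / 3) * (2 * k * n ^ P * 2 ^ j) := by ring
        have h2 : 4 ^ e' * 3 ^ j ≤ 2 * k * n ^ P * 2 ^ j :=
          Nat.le_of_mul_le_mul_left h1 (by positivity)
        calc 3 ^ k = 3 ^ d * 3 ^ j := by
              rw [h3k']; ring
          _ ≤ (4 ^ e' * 2 ^ d) * 3 ^ j := by
              gcongr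
              exact three_pow_le d e' hde
          _ = 2 ^ d * (4 ^ e' * 3 ^ j) := by ring
          _ ≤ 2 ^ d * (2 * k * n ^ P * 2 ^ j) := by gcongr
          _ = 2 * k * n ^ P * 2 ^ k := by
              rw [h2k']; ring
    obtain ⟨q, hq⟩ : ∃ q, q = k / 12 := ⟨_, rfl⟩
    have h19 : 2 ^ (19 * q) ≤ 3 ^ k := by
      calc 2 ^ (19 * q) = (2 ^ 19) ^ q := by rw [pow_mul]
        _ ≤ (3 ^ 12) ^ q := Nat.pow_le_pow_left (by norm_num) q
        _ = 3 ^ (12 * q) := by rw [pow_mul]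
        _ ≤ 3 ^ k := Nat.pow_le_pow_right (by norm_num) (by omega)
    have hlt2 : 2 ^ (19 * q) < 2 ^ (a + 1 + (a + 1) * e + k) := by
      calc 2 ^ (19 * q) ≤ 3 ^ k := h19
        _ ≤ 2 * k * n ^ P * 2 ^ k := hkey
        _ < 2 ^ (a + 1) * 2 ^ ((a + 1) * e) * 2 ^ k := by
            have h2k : 2 * k < 2 ^ (a + 1) := lt_of_le_of_lt hn ha2
            have hpos : 0 < 2 ^ k := by positivity
            apply Nat.mul_lt_mul_of_pos_right _ hpos
            exact Nat.mul_lt_mul'' h2k hnP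
        _ = 2 ^ (a + 1 + (a + 1) * e + k) := by rw [← pow_add, ← pow_add]
    have h5 : 19 * q < a + 1 + (a + 1) * e + k := (Nat.pow_lt_pow_iff_right (by norm_num)).mp hlt2
    have := num2 n k s a hs1 hs2 ha1 h15a hs181 h16
    rw [← hedef, ← hq] at this
    omega

end Cfsg.Agent.Lib.Helper4.SylSchurR2
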