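import Mathlib
import Cfsg.Prelude.Def_Transfer
set_option autoImplicit false

/-! # Transport of "unique largest elementary abelian subgroup" between Sylow subgroups -/

namespace Cfsg.Agent.Lib.Helper4.SylTransport

variable {G : Type*} [Group G]

theorem isElementaryAbelian_map (p : ℕ) (φ : G ≃* G) (A : Subgroup G)
    (h : Cfsg.IsElementaryAbelian p A) : Cfsg.IsElementaryAbelian p (A.map φ.toMonoidHom) := by
  obtain ⟨hc, hp⟩ := h
  refine ⟨⟨⟨?_⟩⟩, ?_⟩
  · rintro ⟨x, hx⟩ ⟨y, hy⟩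
    obtain ⟨a, ha, rfl⟩ := Subgroup.mem_map.mp hx
    obtain ⟨b, hb, rfl⟩ := Subgroup.mem_map.mp hy
    have hab : a * b = b * a := by
      have := hc.is_comm.comm (⟨a, ha⟩ : A) ⟨b, hb⟩
      exact congrArg Subtype.val this
    apply Subtype.ext
    show φ.toMonoidHom a * φ.toMonoidHom b = φ.toMonoidHom b * φ.toMonoidHom a
    rw [← map_mul, ← map_mul, hab]
  · intro x hx
    obtain ⟨a, ha, rfl⟩ := Subgroup.mem_map.mp hx
    rw [← map_pow, hp a ha, map_one]

theorem card_map_equiv (φ : G ≃* G) (A : Subgroup G) :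
    Nat.card (A.map φ.toMonoidHom) = Nat.card A :=
  Nat.card_congr (A.equivMapOfInjective φ.toMonoidHom φ.injective).toEquiv.symm

theorem normal_subgroupOf_map (φ : G ≃* G) (A P : Subgroup G)
    (h : (A.subgroupOf P).Normal) :
    ((A.map φ.toMonoidHom).subgroupOf (P.map φ.toMonoidHom)).Normal := by
  refine ⟨?_⟩
  rintro ⟨n, hn⟩ hnA ⟨g, hg⟩
  rw [Subgroup.mem_subgroupOf] at hnA ⊢
  obtain ⟨a, ha, rfl⟩ := Subgroup.mem_map.mp hnA
  obtain ⟨x, hx, rfl⟩ := Subgroup.mem_map.mp hg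
  obtain ⟨a', ha', haa'⟩ := Subgroup.mem_map.mp hn
  have haP : a ∈ P := by
    have : a' = a := φ.injective haa'
    exact this ▸ ha'
  have := h.conj_mem (⟨a, haP⟩ : P) (Subgroup.mem_subgroupOf.mpr ha) ⟨x, hx⟩
  rw [Subgroup.mem_subgroupOf] at this
  refine Subgroup.mem_map.mpr ⟨x * a * x⁻¹, this, ?_⟩
  show φ.toMonoidHom (x * a * x⁻¹) = φ.toMonoidHom x * φ.toMonoidHom a * (φ.toMonoidHom x)⁻¹
  rw [map_mul, map_mul, map_inv]

/-- The transport lemma: if `E0` is a normal elementary abelian subgroup of order `k` of the Sylow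
subgroup `P0`, and every elementary abelian subgroup of `P0` has order at most `k` with equality only
for `E0`, then in every Sylow subgroup `Q` the normal elementary abelian subgroups have order at most
`k` and exactly one of them has order `k`. -/
theorem sylow_transport_ea {p : ℕ} [Fact p.Prime] [Finite (Sylow p G)]
    (P0 Q : Sylow p G) (E0 : Subgroup G) (k : ℕ)
    (hE0 : E0 ≤ P0) (hN : (E0.subgroupOf P0).Normal) (hEA : Cfsg.IsElementaryAbelian p E0)
    (hk : Nat.card E0 = k)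
    (H : ∀ A : Subgroup G, A ≤ P0 → Cfsg.IsElementaryAbelian p A →
      Nat.card A ≤ k ∧ (Nat.card A = k → A = E0)) :
    (∀ A : Subgroup G, A ≤ Q → (A.subgroupOf Q).Normal → Cfsg.IsElementaryAbelian p A →
        Nat.card A ≤ k) ∧
    ∃! A : Subgroup G, A ≤ Q ∧ (A.subgroupOf Q).Normal ∧ Cfsg.IsElementaryAbelian p A ∧
        Nat.card A = k := by
  obtain ⟨g, hg⟩ := MulAction.exists_smul_eq G P0 Q
  set φ : G ≃* G := MulAut.conj g with hφ
  have hQ : (Q : Subgroup G) = (P0 : Subgroup G).map φ.toMonoidHom := by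
    rw [← hg]; rfl
  -- pull back
  have back : ∀ A : Subgroup G, A ≤ Q → Cfsg.IsElementaryAbelian p A →
      Nat.card A ≤ k ∧ (Nat.card A = k → A = E0.map φ.toMonoidHom) := by
    intro A hAQ hA
    have h1 : A.map φ.symm.toMonoidHom ≤ P0 := by
      intro x hx
      obtain ⟨a, ha, rfl⟩ := Subgroup.mem_map.mp hx
      have : a ∈ (P0 : Subgroup G).map φ.toMonoidHom := hQ ▸ hAQ ha
      obtain ⟨b, hb, rfl⟩ := Subgroup.mem_map.mp this
      simpa using hb
    have h2 := H _ h1 (isElementaryAbelian_map p φ.symm A hA)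
    rw [card_map_equiv] at h2
    refine ⟨h2.1, fun hc => ?_⟩
    have h3 := h2.2 hc
    rw [← h3, Subgroup.map_map]
    ext x
    simp
  refine ⟨fun A hAQ _ hA => (back A hAQ hA).1, E0.map φ.toMonoidHom, ⟨?_, ?_, ?_, ?_⟩, ?_⟩
  · rw [hQ]; exact Subgroup.map_mono hE0
  · rw [hQ]; exact normal_subgroupOf_map φ E0 P0 hN
  · exact isElementaryAbelian_map p φ E0 hEA
  · rw [card_map_equiv, hk]
  · rintro A ⟨hAQ, _, hA, hc⟩
    exact (back A hAQ hA).2 hc

end Cfsg.Agent.Lib.Helper4.SylTransport
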