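import Mathlib
import Cfsg.Agent.Lib.Helper4.TD15

set_option autoImplicit false

/-! Isaacs, Theorem 12.19 (Garrison), the case of a non-nilpotent kernel. -/

namespace Cfsg.Agent.Lib.Helper4.TD

open Cfsg Cfsg.Agent.Lib.Helper1 Cfsg.Agent.Lib.Helper4
open scoped ComplexConjugate

universe u

section CaseA

variable {G : Type u} [Group G] [Finite G]

theorem garrison_not_nilpotent (χ : G → ℂ) (hχ : Cfsg.IsIrrCharacter G χ) (K : Subgroup G)
    [hKn : K.Normal] (hK : ∀ g, g ∈ K ↔ χ g = χ 1) (hnil : ¬ Group.IsNilpotent K) :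
    ∃ ψ : G → ℂ, Cfsg.IsIrrCharacter G ψ ∧ (∃ a b : ℕ, χ 1 = a ∧ ψ 1 = b ∧ a < b) ∧
      ∃ H : Subgroup G, ¬ K ≤ H ∧ ∀ g, ψ g = ψ 1 → g ∈ K ⊓ H := by
  classical
  have hall : ¬ ∀ (p : ℕ) (_hp : Fact p.Prime) (P : Sylow p K), (↑P : Subgroup K).Normal := by
    intro h
    exact hnil (((isNilpotent_of_finite_tfae (G := K)).out 0 3).2 h)
  push Not at hall
  obtain ⟨p, hp, P, hPn⟩ := hall
  haveI := hp
  set Q : Subgroup G := (P : Subgroup K).map K.subtype with hQ
  have hQK : Q ≤ K := by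
    rintro _ ⟨x, -, rfl⟩
    exact x.2
  have hQsub : Q.subgroupOf K = (P : Subgroup K) := by
    rw [hQ]
    exact Subgroup.comap_map_eq_self_of_injective K.subtype_injective _
  set NQ : Subgroup G := Subgroup.normalizer (Q : Set G) with hNQ
  have hNQtop : NQ ≠ ⊤ := by
    intro h
    apply hPn
    have hQn : Q.Normal := Subgroup.normalizer_eq_top_iff.1 h
    rw [← hQsub]
    exact Subgroup.normal_subgroupOf
  have hfr : NQ ⊔ K = ⊤ := Sylow.normalizer_sup_eq_top P
  obtain ⟨H, hHmax, hNQH⟩ := (eq_top_or_exists_le_coatom NQ).resolve_left hNQtop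
  have hKH : ¬ K ≤ H := by
    intro h
    apply hHmax.1
    rw [eq_top_iff, ← hfr]
    exact sup_le hNQH h
  rcases max_subgroup_dichotomy χ hχ K hK H hHmax hKH with h | h
  · obtain ⟨ψ, hψ, hdeg, hker⟩ := h
    exact ⟨ψ, hψ, hdeg, H, hKH, hker⟩
  · exfalso
    obtain ⟨a, ha, ha0, -⟩ := irr_degree hχ
    have hχ1 : χ 1 ≠ 0 := by rw [ha]; exact Nat.cast_ne_zero.2 ha0.ne'
    set D : Subgroup G := K ⊓ H.normalCore with hD
    haveI hDn : D.Normal := inferInstance
    have hDH : D ≤ H := inf_le_right.trans (Subgroup.normalCore_le H)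
    have hDK : D ≤ K := inf_le_left
    have hQH : Q ≤ H := Subgroup.le_normalizer.trans hNQH
    have hQD : Q ≤ D := by
      intro x hx
      refine Subgroup.mem_inf.2 ⟨hQK hx, ?_⟩
      rw [Subgroup.normalCore, Subgroup.mem_mk]
      intro g
      by_contra hg
      have h1 := h x (hQH hx) g hg
      have h2 := (hK x).1 (hQK hx)
      rw [h1] at h2
      exact hχ1 h2.symm
    -- Q is a Sylow subgroup of D
    have hQp : IsPGroup p (Q.subgroupOf D) := by
      have h1 : IsPGroup p Q := P.2.map K.subtype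
      exact h1.comap_subtype
    have hidx : ¬ p ∣ (Q.subgroupOf D).index := by
      have h1 : Q.relIndex D * D.relIndex K = Q.relIndex K :=
        Subgroup.relIndex_mul_relIndex Q D K hQD hDK
      have h2 : Q.relIndex K = (P : Subgroup K).index := by
        rw [Subgroup.relIndex, hQsub]
      intro hdvd
      apply P.not_dvd_index
      rw [← h2, ← h1]
      exact Dvd.dvd.mul_right hdvd _
    set PD : Sylow p D := hQp.toSylow hidx with hPD
    have hfr2 := Sylow.normalizer_sup_eq_top PD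
    have hmap : ((PD : Subgroup D).map D.subtype) = Q := by
      rw [hPD, IsPGroup.toSylow_coe, Subgroup.subgroupOf_map_subtype, inf_of_le_left hQD]
    rw [hmap] at hfr2
    apply hHmax.1
    rw [eq_top_iff, ← hfr2]
    exact sup_le hNQH hDH

end CaseA

end Cfsg.Agent.Lib.Helper4.TD
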