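import Mathlib
import Cfsg.Agent.Lib.Helper2.FrattiniSocle
import Cfsg.Agent.Lib.Lead.Core
import Cfsg.Agent.S0044
import Cfsg.Agent.S0070

set_option autoImplicit false

/-! Maximal subgroups separating elements from the Fitting subgroup of a solvable group. -/

namespace Cfsg.Agent.Lib.Helper4.TD

open Cfsg Cfsg.Agent.Lib.Lead

universe u

section FrattiniFree

variable {Q : Type u} [Group Q] [Finite Q]

/-- In a solvable group with trivial Frattini subgroup, an element outside the Fitting subgroup is
separated from it by a maximal subgroup complementing a minimal normal subgroup. -/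
theorem exists_max_not_core_of_frattini_bot (hΦ : frattini Q = ⊥) (hsolv : Group.IsSolvable Q)
    (y : Q) (hy : y ∉ Cfsg.fittingSubgroup Q) :
    ∃ H : Subgroup Q, IsCoatom H ∧ ¬ Cfsg.fittingSubgroup Q ≤ H ∧
      ∀ f ∈ Cfsg.fittingSubgroup Q, ∀ h ∈ H, y = f * h → ∃ g : Q, g * h * g⁻¹ ∉ H := by
  classical
  set F := Cfsg.fittingSubgroup Q with hF
  have hFn : F.Normal := fittingSubgroup_normal
  have hFnil : Group.IsNilpotent F := fittingSubgroup_isNilpotent
  have hFab : IsMulCommutative F :=
    Cfsg.Agent.Lib.Helper2.FrattiniSocle.isMulCommutative_of_nilpotent_normal hΦ F hFnil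
  have hsoc := Cfsg.Agent.Lib.Helper2.FrattiniSocle.fitting_eq_abelian_socle hΦ (G := Q)
  have hcent : Subgroup.centralizer (F : Set Q) ≤ F := Cfsg.Agent.S0044.result
  have hy2 : y ∉ Subgroup.centralizer (F : Set Q) := fun h => hy (hcent h)
  -- a minimal normal subgroup not centralized by y
  obtain ⟨V, hVS, hyV⟩ : ∃ V : Subgroup Q, V ∈ {N : Subgroup Q | N.Normal ∧ N ≠ ⊥ ∧
      IsMulCommutative N ∧ ∀ K : Subgroup Q, K.Normal → K ≤ N → K = ⊥ ∨ K = N} ∧
      y ∉ Subgroup.centralizer (V : Set Q) := by
    by_contra hcon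
    push Not at hcon
    apply hy2
    have h1 : F ≤ Subgroup.centralizer {y} := by
      rw [hF, hsoc]
      apply sSup_le
      intro V hV v hv
      rw [Subgroup.mem_centralizer_iff]
      intro z hz
      rw [Set.mem_singleton_iff] at hz
      rw [hz]
      have := Subgroup.mem_centralizer_iff.1 (hcon V hV) v hv
      exact this.symm
    rw [Subgroup.mem_centralizer_iff]
    intro f hf
    have := Subgroup.mem_centralizer_iff.1 (h1 hf) y rfl
    exact this.symm
  obtain ⟨hVn, hVb, hVab, hVmin⟩ := hVS
  haveI := hVn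
  haveI := hVab
  have hVF : V ≤ F := by
    rw [hF, hsoc]
    exact le_sSup ⟨hVn, hVb, hVab, hVmin⟩
  obtain ⟨H, hVH, hVHb⟩ :=
    Cfsg.Agent.Lib.Helper2.FrattiniSocle.exists_complement_of_abelian_normal hΦ V
  have hVcomm : ∀ a ∈ V, ∀ b ∈ V, a * b = b * a := by
    intro a ha b hb
    have := isMulCommutative_iff.1 hVab (⟨a, ha⟩ : V) ⟨b, hb⟩
    exact congrArg Subtype.val this
  have hFcomm : ∀ a ∈ F, ∀ b ∈ F, a * b = b * a := by
    intro a ha b hb
    have := isMulCommutative_iff.1 hFab (⟨a, ha⟩ : F) ⟨b, hb⟩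
    exact congrArg Subtype.val this
  have hdec : ∀ q : Q, ∃ v ∈ V, ∃ h ∈ H, q = v * h := by
    intro q
    have hq : q ∈ ((V ⊔ H : Subgroup Q) : Set Q) := by rw [hVH]; trivial
    rw [Subgroup.normal_mul V H] at hq
    obtain ⟨v, hv, h, hh, rfl⟩ := Set.mem_mul.1 hq
    exact ⟨v, hv, h, hh, rfl⟩
  have hHtop : H ≠ ⊤ := by
    intro h
    apply hVb
    rw [← hVHb, h, inf_top_eq]
  have hHmax : IsCoatom H := by
    refine ⟨hHtop, ?_⟩
    intro M hHM
    set W : Subgroup Q := M ⊓ V with hW
    have hWb : W ≠ ⊥ := by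
      obtain ⟨m, hmM, hmH⟩ := SetLike.exists_of_lt hHM
      obtain ⟨v, hv, h, hh, rfl⟩ := hdec m
      have hvM : v ∈ M := by
        have := M.mul_mem hmM (M.inv_mem (hHM.le hh))
        simpa using this
      intro hbot
      have : v ∈ W := Subgroup.mem_inf.2 ⟨hvM, hv⟩
      rw [hbot, Subgroup.mem_bot] at this
      apply hmH
      rw [this, one_mul]
      exact hh
    have hMV : M ⊔ V = ⊤ := by
      rw [eq_top_iff, ← hVH]
      exact sup_le le_sup_right (le_sup_left.trans' hHM.le)
    have hWn : W.Normal := by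
      rw [← Subgroup.normalizer_eq_top_iff, eq_top_iff, ← hMV]
      apply sup_le
      · intro m hm
        rw [Subgroup.mem_normalizer_iff]
        intro w
        constructor
        · intro hw
          exact Subgroup.mem_inf.2 ⟨M.mul_mem (M.mul_mem hm (Subgroup.mem_inf.1 hw).1)
            (M.inv_mem hm), hVn.conj_mem w (Subgroup.mem_inf.1 hw).2 m⟩
        · intro hw
          have h1 := Subgroup.mem_inf.1 hw
          have h2 : w = m⁻¹ * (m * w * m⁻¹) * m := by group
          rw [h2]
          refine Subgroup.mem_inf.2 ⟨M.mul_mem (M.mul_mem (M.inv_mem hm) h1.1) hm, ?_⟩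
          have := hVn.conj_mem _ h1.2 m⁻¹
          simpa using this
      · intro v hv
        rw [Subgroup.mem_normalizer_iff]
        intro w
        have key : ∀ u ∈ V, v * u * v⁻¹ = u := by
          intro u hu
          rw [hVcomm v hv u hu, mul_inv_cancel_right]
        constructor
        · intro hw
          rw [key w (Subgroup.mem_inf.1 hw).2]
          exact hw
        · intro hw
          have h1 := Subgroup.mem_inf.1 hw
          have h2 : w ∈ V := by
            have := hVn.conj_mem _ h1.2 v⁻¹
            simpa [mul_assoc] using this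
          rw [key w h2] at hw
          exact hw
    rcases hVmin W hWn inf_le_right with h | h
    · exact absurd h hWb
    · rw [eq_top_iff, ← hVH]
      apply sup_le
      · rw [← h]
        exact inf_le_left
      · exact hHM.le
  refine ⟨H, hHmax, ?_, ?_⟩
  · intro hFH
    apply hVb
    rw [← hVHb]
    exact (inf_of_le_left (hVF.trans hFH)).symm
  · intro f hf h hh hyfh
    by_contra hcon
    push Not at hcon
    apply hyV
    rw [Subgroup.mem_centralizer_iff]
    intro v hv
    have h1 : v * h * v⁻¹ * h⁻¹ ∈ V ⊓ H := by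
      refine Subgroup.mem_inf.2 ⟨?_, ?_⟩
      · have h2 : v * h * v⁻¹ * h⁻¹ = v * (h * v⁻¹ * h⁻¹) := by group
        rw [h2]
        exact V.mul_mem hv (hVn.conj_mem _ (V.inv_mem hv) h)
      · exact H.mul_mem (hcon v) (H.inv_mem hh)
    rw [hVHb, Subgroup.mem_bot] at h1
    have hvh : v * h = h * v := by
      have h2 : v * h = (v * h * v⁻¹ * h⁻¹) * (h * v) := by group
      rw [h2, h1, one_mul]
    have hvf : v * f = f * v := hFcomm v (hVF hv) f hf
    rw [hyfh]
    calc v * (f * h) = (v * f) * h := by group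
      _ = f * (v * h) := by rw [hvf]; group
      _ = f * h * v := by rw [hvh]; group

end FrattiniFree

end Cfsg.Agent.Lib.Helper4.TD
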