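import Mathlib
import Cfsg.Agent.Lib.Helper4.TD16
import Cfsg.Agent.Lib.Helper4.TD17

set_option autoImplicit false

/-! Isaacs, Theorem 12.19 (Garrison): the case `ker χ = F(G)`, and the full statement. -/

namespace Cfsg.Agent.Lib.Helper4.TD

open Cfsg Cfsg.Agent.Lib.Helper1 Cfsg.Agent.Lib.Helper4 Cfsg.Agent.Lib.Lead
open scoped ComplexConjugate

universe u

section Pull

variable {G : Type u} [Group G] [Finite G]

/-- The comap of a coatom along a surjective homomorphism is a coatom. -/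
theorem isCoatom_comap_of_surjective {Q : Type u} [Group Q] (f : G →* Q)
    (hf : Function.Surjective f) (H : Subgroup Q) (hH : IsCoatom H) : IsCoatom (H.comap f) := by
  refine ⟨?_, ?_⟩
  · intro h
    apply hH.1
    rw [← Subgroup.map_comap_eq_self_of_surjective hf H, h, ← MonoidHom.range_eq_map,
      MonoidHom.range_eq_top.2 hf]
  · intro M hM
    have h1 : H ≤ M.map f := by
      rw [← Subgroup.map_comap_eq_self_of_surjective hf H]
      exact Subgroup.map_mono hM.le
    have h2 : H ≠ M.map f := by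
      intro h
      have h3 : M ≤ H.comap f := by
        rw [h]
        exact Subgroup.le_comap_map f M
      exact (not_le_of_gt hM) h3
    have h4 : M.map f = ⊤ := hH.2 _ (lt_of_le_of_ne h1 h2)
    have h5 : f.ker ≤ M := by
      intro x hx
      apply hM.le
      rw [Subgroup.mem_comap, MonoidHom.mem_ker.1 hx]
      exact H.one_mem
    rw [eq_top_iff]
    intro x _
    have hx : f x ∈ M.map f := by rw [h4]; trivial
    obtain ⟨m, hm, hmx⟩ := hx
    have h6 : m⁻¹ * x ∈ f.ker := by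
      rw [MonoidHom.mem_ker, map_mul, map_inv, hmx, inv_mul_cancel]
    have := M.mul_mem hm (h5 h6)
    simpa using this

/-- The Frattini quotient has trivial Frattini subgroup. -/
theorem frattini_quotient_eq_bot : frattini (G ⧸ frattini G) = ⊥ := by
  rw [eq_bot_iff]
  intro q hq
  obtain ⟨x, rfl⟩ := QuotientGroup.mk_surjective q
  rw [Subgroup.mem_bot, QuotientGroup.eq_one_iff]
  -- x lies in every coatom
  unfold frattini Order.radical
  rw [Subgroup.mem_iInf]
  intro M
  rw [Subgroup.mem_iInf]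
  intro hM
  have hΦM : frattini G ≤ M := frattini_le_coatom hM
  -- the image of M is a coatom
  set M' : Subgroup (G ⧸ frattini G) := M.map (QuotientGroup.mk' (frattini G)) with hM'
  have hcomap : M'.comap (QuotientGroup.mk' (frattini G)) = M := by
    rw [hM', Subgroup.comap_map_eq, QuotientGroup.ker_mk']
    exact sup_of_le_left hΦM
  have hM'co : IsCoatom M' := by
    refine ⟨?_, ?_⟩
    · intro h
      apply hM.1
      rw [← hcomap, h, Subgroup.comap_top]
    · intro B hB
      have h1 : M ≤ B.comap (QuotientGroup.mk' (frattini G)) := by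
        rw [← hcomap]
        exact Subgroup.comap_mono hB.le
      have h2 : M ≠ B.comap (QuotientGroup.mk' (frattini G)) := by
        intro h
        have h3 : B = M' := by
          rw [hM', h, Subgroup.map_comap_eq_self_of_surjective (QuotientGroup.mk'_surjective _)]
        rw [h3] at hB
        exact lt_irrefl _ hB
      have h4 := hM.2 _ (lt_of_le_of_ne h1 h2)
      rw [← Subgroup.map_comap_eq_self_of_surjective (QuotientGroup.mk'_surjective _) B, h4,
        ← MonoidHom.range_eq_map, MonoidHom.range_eq_top.2 (QuotientGroup.mk'_surjective _)]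
  have h5 : (x : G ⧸ frattini G) ∈ M' := frattini_le_coatom hM'co hq
  have h6 : x ∈ M'.comap (QuotientGroup.mk' (frattini G)) := h5
  rw [hcomap] at h6
  exact h6

/-- In a solvable group, an element outside the Fitting subgroup is separated from it by a
maximal subgroup. -/
theorem exists_max_not_core (hsolv : Group.IsSolvable G) (x : G)
    (hx : x ∉ Cfsg.fittingSubgroup G) :
    ∃ H : Subgroup G, IsCoatom H ∧ ¬ Cfsg.fittingSubgroup G ≤ H ∧
      ∀ f ∈ Cfsg.fittingSubgroup G, ∀ h ∈ H, x = f * h → ∃ g : G, g * h * g⁻¹ ∉ H := by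
  classical
  set Φ := frattini G with hΦ
  set π := QuotientGroup.mk' Φ with hπ
  have hπs : Function.Surjective π := QuotientGroup.mk'_surjective Φ
  have hFQ : Cfsg.fittingSubgroup (G ⧸ Φ) = (Cfsg.fittingSubgroup G).map π :=
    Cfsg.Agent.S0070.result
  have hΦF : Φ ≤ Cfsg.fittingSubgroup G :=
    le_fittingSubgroup inferInstance frattini_nilpotent
  have hy : π x ∉ Cfsg.fittingSubgroup (G ⧸ Φ) := by
    rw [hFQ]
    rintro ⟨f, hf, hfx⟩
    apply hx
    have h1 : f⁻¹ * x ∈ Φ := by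
      rw [← QuotientGroup.eq_one_iff]
      have : ((f⁻¹ * x : G) : G ⧸ Φ) = (π f)⁻¹ * π x := rfl
      rw [this, hfx, inv_mul_cancel]
    have := (Cfsg.fittingSubgroup G).mul_mem hf (hΦF h1)
    simpa using this
  have hQs : Group.IsSolvable (G ⧸ Φ) := inferInstance
  obtain ⟨H', hH'max, hFH', hmain⟩ :=
    exists_max_not_core_of_frattini_bot frattini_quotient_eq_bot hQs (π x) hy
  refine ⟨H'.comap π, isCoatom_comap_of_surjective π hπs H' hH'max, ?_, ?_⟩
  · intro h
    apply hFH'
    rw [hFQ]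
    rintro _ ⟨f, hf, rfl⟩
    exact h hf
  · intro f hf h hh hxfh
    obtain ⟨q, hq⟩ := hmain (π f) (by rw [hFQ]; exact ⟨f, hf, rfl⟩) (π h) hh (by
      rw [hxfh, map_mul])
    obtain ⟨g, rfl⟩ := hπs q
    refine ⟨g, ?_⟩
    intro hc
    apply hq
    have : π (g * h * g⁻¹) ∈ H' := hc
    rw [map_mul, map_mul, map_inv] at this
    exact this

end Pull

section CaseB

variable {G : Type u} [Group G] [Finite G]

theorem garrison_fitting (χ : G → ℂ) (hχ : Cfsg.IsIrrCharacter G χ) (K : Subgroup G)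
    [hKn : K.Normal] (hK : ∀ g, g ∈ K ↔ χ g = χ 1) (hKF : K = Cfsg.fittingSubgroup G)
    (hsolv : Group.IsSolvable (G ⧸ K)) (hKtop : K ≠ ⊤) :
    ∃ ψ : G → ℂ, Cfsg.IsIrrCharacter G ψ ∧ (∃ a b : ℕ, χ 1 = a ∧ ψ 1 = b ∧ a < b) ∧
      ∃ H : Subgroup G, ¬ K ≤ H ∧ ∀ g, ψ g = ψ 1 → g ∈ K ⊓ H := by
  classical
  haveI : Fintype G := Fintype.ofFinite G
  by_contra hcon
  -- G is solvable
  have hKnil : Group.IsNilpotent K := by
    rw [hKF]
    exact fittingSubgroup_isNilpotent
  have hKs : Group.IsSolvable K := inferInstance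
  have hGs : Group.IsSolvable G := by
    apply solvable_of_ker_le_range (K.subtype) (QuotientGroup.mk' K)
    rw [QuotientGroup.ker_mk', Subgroup.range_subtype]
  obtain ⟨a, ha, ha0, -⟩ := irr_degree hχ
  have hχ1 : χ 1 ≠ 0 := by rw [ha]; exact Nat.cast_ne_zero.2 ha0.ne'
  -- χ is constant on cosets of K
  obtain ⟨χ', hχ', hχeq⟩ := Cfsg.Agent.Lib.Helper8.exists_deflation K hχ
    (fun g hg => (hK g).1 hg)
  have hcoset : ∀ k ∈ K, ∀ g : G, χ (k * g) = χ g := by
    intro k hk g
    rw [← hχeq, ← hχeq, QuotientGroup.mk_mul, (QuotientGroup.eq_one_iff k).2 hk, one_mul]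
  -- χ vanishes off K
  have hvan : ∀ x : G, x ∉ K → χ x = 0 := by
    intro x hx
    have hx' : x ∉ Cfsg.fittingSubgroup G := by rw [← hKF]; exact hx
    obtain ⟨H, hHmax, hFH, hmain⟩ := exists_max_not_core hGs x hx'
    have hKH : ¬ K ≤ H := by rw [hKF]; exact hFH
    rcases max_subgroup_dichotomy χ hχ K hK H hHmax hKH with h | h
    · exfalso
      obtain ⟨ψ, hψ, hdeg, hker⟩ := h
      exact hcon ⟨ψ, hψ, hdeg, H, hKH, hker⟩
    · have hsup : K ⊔ H = ⊤ := by
        apply hHmax.2
        apply lt_of_le_of_ne le_sup_right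
        intro h'
        apply hKH
        rw [h']
        exact le_sup_left
      have hxm : x ∈ ((K ⊔ H : Subgroup G) : Set G) := by rw [hsup]; trivial
      rw [Subgroup.normal_mul K H] at hxm
      obtain ⟨f, hf, h', hh', rfl⟩ := Set.mem_mul.1 hxm
      obtain ⟨g, hg⟩ := hmain f (by rw [← hKF]; exact hf) h' hh' rfl
      rw [hcoset f hf h']
      exact h h' hh' g hg
  -- contradiction with K ≠ ⊤
  have htriv : Cfsg.IsIrrCharacter G (fun _ => (1 : ℂ)) := by
    have := isIrrCharacter_of_hom (1 : G →* ℂˣ)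
    simpa using this
  have hne : χ ≠ fun _ => (1 : ℂ) := by
    intro h
    apply hKtop
    rw [eq_top_iff]
    intro x _
    by_contra hx
    have := hvan x hx
    rw [h] at this
    exact one_ne_zero this
  have horth := classInner_irr_ne hχ htriv hne
  rw [classInner_def] at horth
  have hsum : ∑ g : G, χ g * conj ((fun _ => (1 : ℂ)) g)
      = ∑ g : G, if g ∈ K then χ 1 else 0 := by
    apply Finset.sum_congr rfl
    intro g _
    simp only [map_one, mul_one]
    split_ifs with h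
    · exact (hK g).1 h
    · exact hvan g h
  rw [hsum, Finset.sum_ite, Finset.sum_const_zero, add_zero, Finset.sum_const, nsmul_eq_mul]
    at horth
  have hG0 : (Nat.card G : ℂ) ≠ 0 := Nat.cast_ne_zero.2 Nat.card_pos.ne'
  have hc0 : ((Finset.univ.filter (fun g : G => g ∈ K)).card : ℂ) ≠ 0 := by
    apply Nat.cast_ne_zero.2
    apply Finset.card_ne_zero.2
    exact ⟨1, by simp [K.one_mem]⟩
  rcases mul_eq_zero.1 horth with h | h
  · exact hG0 (inv_eq_zero.1 h)
  · rcases mul_eq_zero.1 h with h' | h'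
    · exact hc0 h'
    · exact hχ1 h'

/-- Isaacs 12.19 (Garrison). -/
theorem garrison (χ : G → ℂ) (hχ : Cfsg.IsIrrCharacter G χ) (K : Subgroup G)
    [hKn : K.Normal] (hK : ∀ g, g ∈ K ↔ χ g = χ 1)
    (h : ¬ K ≤ Cfsg.fittingSubgroup G ∨
      (K = Cfsg.fittingSubgroup G ∧ Group.IsSolvable (G ⧸ K) ∧ K ≠ ⊤)) :
    ∃ ψ : G → ℂ, Cfsg.IsIrrCharacter G ψ ∧ (∃ a b : ℕ, χ 1 = a ∧ ψ 1 = b ∧ a < b) ∧
      ∃ L : Subgroup G, (∀ g : G, g ∈ L ↔ ψ g = ψ 1) ∧ L < K := by
  have key : ∃ ψ : G → ℂ, Cfsg.IsIrrCharacter G ψ ∧ (∃ a b : ℕ, χ 1 = a ∧ ψ 1 = b ∧ a < b) ∧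
      ∃ H : Subgroup G, ¬ K ≤ H ∧ ∀ g, ψ g = ψ 1 → g ∈ K ⊓ H := by
    rcases h with h | ⟨h1, h2, h3⟩
    · apply garrison_not_nilpotent χ hχ K hK
      intro hnil
      exact h (le_fittingSubgroup hKn hnil)
    · exact garrison_fitting χ hχ K hK h1 h2 h3
  obtain ⟨ψ, hψ, hdeg, H, hKH, hker⟩ := key
  obtain ⟨L, -, hL⟩ := exists_kernel hψ
  refine ⟨ψ, hψ, hdeg, L, hL, ?_⟩
  have hLKH : L ≤ K ⊓ H := fun g hg => hker g ((hL g).1 hg)
  apply lt_of_le_of_ne (hLKH.trans inf_le_left)
  intro h'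
  apply hKH
  rw [← h']
  exact hLKH.trans inf_le_right

end CaseB

end Cfsg.Agent.Lib.Helper4.TD
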