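import Mathlib
import Cfsg.Agent.Lib.Helper4.TD18

set_option autoImplicit false

/-! Isaacs, Corollary 12.21: the nilpotent length of a solvable group is at most the number of its
irreducible character degrees. -/

namespace Cfsg.Agent.Lib.Helper4.TD

open Cfsg Cfsg.Agent.Lib.Helper1 Cfsg.Agent.Lib.Helper4 Cfsg.Agent.Lib.Lead
open scoped ComplexConjugate

universe u

/-- The set of irreducible character degrees. -/
def degSet (G : Type u) [Group G] : Set ℕ :=
  {d | ∃ χ : Cfsg.IrrCharacter G, Cfsg.charDegree (χ : G → ℂ) = d}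

/-- A normal series with nilpotent factors. -/
def NilSeries {G : Type u} [Group G] (k : ℕ) (N : Fin (k + 1 + 1) → Subgroup G) : Prop :=
  N 0 = ⊥ ∧ N (Fin.last (k + 1)) = ⊤ ∧ Monotone N ∧ (∀ i, (N i).Normal) ∧
    ∀ i : Fin (k + 1), ∀ _h : ((N i.castSucc).subgroupOf (N i.succ)).Normal,
      Group.IsNilpotent (↥(N i.succ) ⧸ (N i.castSucc).subgroupOf (N i.succ))

section Sections

variable {G Q : Type u} [Group G] [Group Q]

/-- Nilpotency of a section passes to the comap of the section. -/
theorem nilpotent_section_comap (f : G →* Q) (A B : Subgroup Q)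
    [hn : (A.subgroupOf B).Normal] (hnil : Group.IsNilpotent (↥B ⧸ A.subgroupOf B))
    [hn' : ((A.comap f).subgroupOf (B.comap f)).Normal] :
    Group.IsNilpotent (↥(B.comap f) ⧸ (A.comap f).subgroupOf (B.comap f)) := by
  let g : ↥(B.comap f) →* ↥B := f.subgroupComap B
  have hle : (A.comap f).subgroupOf (B.comap f) ≤ (A.subgroupOf B).comap g := by
    intro x hx
    exact hx
  let φ : ↥(B.comap f) ⧸ (A.comap f).subgroupOf (B.comap f) →* ↥B ⧸ A.subgroupOf B :=
    QuotientGroup.map _ _ g hle
  have hker : φ.ker ≤ Subgroup.center _ := by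
    intro q hq
    obtain ⟨x, rfl⟩ := QuotientGroup.mk_surjective q
    rw [MonoidHom.mem_ker] at hq
    have h1 : φ (x : ↥(B.comap f) ⧸ (A.comap f).subgroupOf (B.comap f))
        = ((g x : ↥B) : ↥B ⧸ A.subgroupOf B) := rfl
    rw [h1, QuotientGroup.eq_one_iff] at hq
    have h2 : x ∈ (A.comap f).subgroupOf (B.comap f) := hq
    rw [(QuotientGroup.eq_one_iff x).2 h2]
    exact Subgroup.one_mem _
  haveI := hnil
  exact Subgroup.isNilpotent_of_ker_le_center φ hker

end Sections

section Degrees

variable {G : Type u} [Group G] [Finite G]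

theorem degSet_finite : (degSet G).Finite := by
  have : degSet G = Set.range (fun χ : Cfsg.IrrCharacter G => Cfsg.charDegree (χ : G → ℂ)) := by
    ext d
    simp [degSet]
  rw [this]
  exact Set.finite_range _

theorem one_mem_degSet : 1 ∈ degSet G := by
  have htriv : Cfsg.IsIrrCharacter G (fun _ => (1 : ℂ)) := by
    have := isIrrCharacter_of_hom (1 : G →* ℂˣ)
    simpa using this
  refine ⟨⟨_, htriv⟩, ?_⟩
  simp [Cfsg.charDegree]

theorem degSet_quotient_subset (F : Subgroup G) [F.Normal] : degSet (G ⧸ F) ⊆ degSet G := by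
  rintro d ⟨χ, hχ⟩
  refine ⟨⟨_, Cfsg.Agent.Lib.Helper8.isIrrCharacter_inflation F χ.2⟩, ?_⟩
  rw [← hχ]
  unfold Cfsg.charDegree
  simp only [QuotientGroup.mk_one]

/-- Passing to the quotient by a proper Fitting subgroup loses a character degree. -/
theorem degSet_fitting_quotient_ssubset (hsolv : Group.IsSolvable G)
    (hF : Cfsg.fittingSubgroup G ≠ ⊤) :
    haveI : (Cfsg.fittingSubgroup G).Normal := fittingSubgroup_normal
    degSet (G ⧸ Cfsg.fittingSubgroup G) ⊂ degSet G := by
  haveI hFn : (Cfsg.fittingSubgroup G).Normal := fittingSubgroup_normal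
  set F := Cfsg.fittingSubgroup G with hFdef
  refine ⟨degSet_quotient_subset F, ?_⟩
  intro hsub
  -- the maximal degree of the quotient
  obtain ⟨b, hb, hbmax⟩ := Set.Finite.exists_maximal (degSet_finite (G := G ⧸ F))
    ⟨1, one_mem_degSet⟩
  obtain ⟨χ', hχ'⟩ := hb
  set χ : G → ℂ := fun g => (χ' : G ⧸ F → ℂ) (g : G ⧸ F) with hχdef
  have hχ : Cfsg.IsIrrCharacter G χ := Cfsg.Agent.Lib.Helper8.isIrrCharacter_inflation F χ'.2
  obtain ⟨K, hKn, hK⟩ := exists_kernel hχ
  haveI := hKn
  have hFK : F ≤ K := by
    intro f hf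
    rw [hK]
    show (χ' : G ⧸ F → ℂ) (f : G ⧸ F) = (χ' : G ⧸ F → ℂ) ((1 : G) : G ⧸ F)
    rw [(QuotientGroup.eq_one_iff f).2 hf, QuotientGroup.mk_one]
  have hcase : ¬ K ≤ Cfsg.fittingSubgroup G ∨
      (K = Cfsg.fittingSubgroup G ∧ Group.IsSolvable (G ⧸ K) ∧ K ≠ ⊤) := by
    by_cases h : K ≤ F
    · right
      have hKF : K = F := le_antisymm h hFK
      refine ⟨hKF, inferInstance, ?_⟩
      rw [hKF]
      exact hF
    · left
      exact h
  obtain ⟨ψ, hψ, ⟨a, c, ha, hc, hac⟩, -⟩ := garrison χ hχ K hK hcase
  obtain ⟨h1, -⟩ := Cfsg.Agent.Lib.Helper8.irr_apply_one_eq_charDegree hχ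
  obtain ⟨h2, -⟩ := Cfsg.Agent.Lib.Helper8.irr_apply_one_eq_charDegree hψ
  have h3 : Cfsg.charDegree χ = a := by
    have : (Cfsg.charDegree χ : ℂ) = (a : ℂ) := by rw [← h1, ha]
    exact_mod_cast this
  have h4 : Cfsg.charDegree ψ = c := by
    have : (Cfsg.charDegree ψ : ℂ) = (c : ℂ) := by rw [← h2, hc]
    exact_mod_cast this
  have h5 : Cfsg.charDegree χ = b := by
    rw [← hχ']
    unfold Cfsg.charDegree
    simp only [hχdef, QuotientGroup.mk_one]
  have hcG : c ∈ degSet G := ⟨⟨ψ, hψ⟩, h4⟩
  have hcQ : c ∈ degSet (G ⧸ F) := hsub hcG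
  have h6 : c ≤ b := by
    by_contra hlt
    push Not at hlt
    have := hbmax hcQ hlt.le
    omega
  omega

end Degrees

section Series

/-- The series of a nilpotent group. -/
theorem nilSeries_of_nilpotent {G : Type u} [Group G] (hnil : Group.IsNilpotent G) (k : ℕ) :
    ∃ N : Fin (k + 1 + 1) → Subgroup G, NilSeries k N := by
  refine ⟨Fin.cons ⊥ (fun _ => ⊤), ?_, ?_, ?_, ?_, ?_⟩
  · rfl
  · rw [← Fin.succ_last, Fin.cons_succ]
  · intro a b hab
    induction a using Fin.cases with
    | zero => rw [Fin.cons_zero]; exact bot_le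
    | succ a' =>
      induction b using Fin.cases with
      | zero => exact absurd hab (by simp [Fin.le_def])
      | succ b' => rw [Fin.cons_succ, Fin.cons_succ]
  · intro i
    induction i using Fin.cases with
    | zero => rw [Fin.cons_zero]; infer_instance
    | succ a' => rw [Fin.cons_succ]; infer_instance
  · intro i h
    have h1 : Group.IsNilpotent ↥((Fin.cons ⊥ (fun _ => ⊤) : Fin (k + 1 + 1) → Subgroup G) i.succ) := by
      rw [Fin.cons_succ]
      exact Group.nilpotent_of_mulEquiv (Subgroup.topEquiv (G := G)).symm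
    infer_instance

theorem nilpotent_series_aux : ∀ m : ℕ, ∀ (G : Type u) [Group G] [Finite G], Nat.card G = m →
    Group.IsSolvable G → ∀ k : ℕ, (degSet G).ncard ≤ k + 1 →
      ∃ N : Fin (k + 1 + 1) → Subgroup G, NilSeries k N := by
  intro m
  induction m using Nat.strong_induction_on with
  | _ m ih =>
    intro G _ _ hcard hsolv k hk
    haveI hFn : (Cfsg.fittingSubgroup G).Normal := fittingSubgroup_normal
    by_cases hF : Cfsg.fittingSubgroup G = ⊤
    · apply nilSeries_of_nilpotent
      have h1 : Group.IsNilpotent ↥(Cfsg.fittingSubgroup G) := fittingSubgroup_isNilpotent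
      rw [hF] at h1
      exact Group.nilpotent_of_mulEquiv (Subgroup.topEquiv (G := G))
    · set F := Cfsg.fittingSubgroup G with hFdef
      -- F ≠ ⊥
      have hFb : F ≠ ⊥ := by
        intro h
        apply hF
        have h1 : Subgroup.centralizer (F : Set G) ≤ F := Cfsg.Agent.S0044.result
        rw [h] at h1
        rw [h, eq_comm, eq_bot_iff]
        intro x _
        apply h1
        rw [Subgroup.mem_centralizer_iff]
        intro y hy
        have : y = 1 := hy
        rw [this, one_mul, mul_one]
      have hlt : Nat.card (G ⧸ F) < m := by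
        rw [← hcard, ← Subgroup.index_eq_card, ← Subgroup.index_mul_card F]
        have h1 : 1 < Nat.card F := by
          rw [Subgroup.one_lt_card_iff_ne_bot]
          exact hFb
        have h2 : 0 < F.index := Nat.pos_of_ne_zero Subgroup.index_ne_zero_of_finite
        nlinarith
      have hss := degSet_fitting_quotient_ssubset hsolv hF
      have hnc : (degSet (G ⧸ F)).ncard < (degSet G).ncard :=
        Set.ncard_lt_ncard hss degSet_finite
      have hpos : 0 < (degSet (G ⧸ F)).ncard :=
        (Set.ncard_pos degSet_finite).2 ⟨1, one_mem_degSet⟩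
      obtain ⟨k', rfl⟩ : ∃ k', k = k' + 1 := ⟨k - 1, by omega⟩
      obtain ⟨N', hN'0, hN'last, hN'mono, hN'n, hN'q⟩ :=
        ih (Nat.card (G ⧸ F)) hlt (G ⧸ F) rfl inferInstance k' (by omega)
      set π := QuotientGroup.mk' F with hπ
      refine ⟨Fin.cons ⊥ (fun j => (N' j).comap π), ?_, ?_, ?_, ?_, ?_⟩
      · rfl
      · rw [← Fin.succ_last, Fin.cons_succ, hN'last, Subgroup.comap_top]
      · intro a b hab
        induction a using Fin.cases with
        | zero => rw [Fin.cons_zero]; exact bot_le
        | succ a' =>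
          induction b using Fin.cases with
          | zero => exact absurd hab (by simp [Fin.le_def])
          | succ b' =>
            rw [Fin.cons_succ, Fin.cons_succ]
            exact Subgroup.comap_mono (hN'mono (Fin.succ_le_succ_iff.1 hab))
      · intro i
        induction i using Fin.cases with
        | zero => rw [Fin.cons_zero]; infer_instance
        | succ a' =>
          rw [Fin.cons_succ]
          haveI := hN'n a'
          infer_instance
      · intro i
        induction i using Fin.cases with
        | zero =>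
          intro h
          have h1 : Group.IsNilpotent
              ↥((Fin.cons ⊥ (fun j => (N' j).comap π) : Fin (k' + 1 + 1 + 1) → Subgroup G)
                (0 : Fin (k' + 1 + 1)).succ) := by
            rw [Fin.cons_succ, hN'0, MonoidHom.comap_bot, hπ, QuotientGroup.ker_mk']
            exact fittingSubgroup_isNilpotent
          infer_instance
        | succ j =>
          intro h
          have h1 : (Fin.cons ⊥ (fun j => (N' j).comap π) : Fin (k' + 1 + 1 + 1) → Subgroup G)
              j.succ.succ = (N' j.succ).comap π := by rw [Fin.cons_succ]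
          have h2 : (Fin.cons ⊥ (fun j => (N' j).comap π) : Fin (k' + 1 + 1 + 1) → Subgroup G)
              j.succ.castSucc = (N' j.castSucc).comap π := by
            rw [← Fin.succ_castSucc, Fin.cons_succ]
          revert h
          rw [h1, h2]
          intro h
          have hnq : ((N' j.castSucc).subgroupOf (N' j.succ)).Normal := by
            haveI := hN'n j.castSucc
            exact Subgroup.normal_subgroupOf
          have h3 := hN'q j hnq
          exact nilpotent_section_comap π (N' j.castSucc) (N' j.succ) h3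

end Series

end Cfsg.Agent.Lib.Helper4.TD
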