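import Mathlib
import Cfsg.Agent.Lib.Helper4.TE1

set_option autoImplicit false

/-! An extraspecial `2`-group has exactly one irreducible character of even degree. -/

namespace Cfsg.Agent.Lib.Helper4.TE

open Cfsg Cfsg.Agent.Lib.Helper1 Cfsg.Agent.Lib.Helper4 Cfsg.Agent.Lib.Helper4.TD
open scoped ComplexConjugate

universe u

section Extra

variable {G : Type u} [Group G] [Finite G]

/-- The values of a nonlinear irreducible character of a group whose centre `{1, c}` is the
commutator subgroup. -/
theorem values_of_center_two (c : G) (hc1 : c ≠ 1) (hcZ : c ∈ Subgroup.center G)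
    (hZ : ∀ z ∈ Subgroup.center G, z = 1 ∨ z = c)
    (hcomm : commutator G = Subgroup.center G)
    {χ : G → ℂ} (hχ : Cfsg.IsIrrCharacter G χ) (hnl : χ 1 ≠ 1) :
    χ c = - χ 1 ∧ (∀ g : G, g ≠ 1 → g ≠ c → χ g = 0) ∧
      (Nat.card G : ℝ) = 2 * ‖χ 1‖ ^ 2 := by
  classical
  haveI : Fintype G := Fintype.ofFinite G
  have hcc : c * c = 1 := by
    rcases hZ (c * c) (Subgroup.mul_mem _ hcZ hcZ) with h | h
    · exact h
    · exfalso
      apply hc1
      have : c * c = c * 1 := by rw [h, mul_one]
      exact mul_left_cancel this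
  have hcentral : ∀ x : G, c * x * c⁻¹ * x⁻¹ = 1 := by
    intro x
    have := (Subgroup.mem_center_iff.1 hcZ) x
    rw [← this]
    group
  obtain ⟨ω, hω⟩ := apply_mul_of_central_mod_ker hχ c (fun x => by rw [hcentral x])
  have h1 : χ c = ω * χ 1 := by
    have := hω 1
    rwa [mul_one] at this
  have h2 : χ 1 = ω * χ c := by
    have := hω c
    rwa [hcc] at this
  have hχ1 : χ 1 ≠ 0 := irr_apply_one_ne_zero hχ
  have hω2 : ω * ω = 1 := by
    have : χ 1 = (ω * ω) * χ 1 := by rw [mul_assoc, ← h1, ← h2]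
    have h3 : (ω * ω - 1) * χ 1 = 0 := by rw [sub_mul, ← this, one_mul, sub_self]
    rcases mul_eq_zero.1 h3 with h | h
    · exact sub_eq_zero.1 h
    · exact absurd h hχ1
  have hωne : ω ≠ 1 := by
    intro h
    apply hnl
    apply linear_of_trivial_on_commutator hχ
    intro z hz
    rw [hcomm] at hz
    rcases hZ z hz with rfl | rfl
    · rfl
    · rw [h1, h, one_mul]
  have hωm : ω = -1 := by
    have : (ω - 1) * (ω + 1) = 0 := by ring_nf; rw [sq, hω2]; ring
    rcases mul_eq_zero.1 this with h | h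
    · exact absurd (sub_eq_zero.1 h) hωne
    · exact eq_neg_of_add_eq_zero_left h
  have hcχ : χ c = - χ 1 := by rw [h1, hωm]; ring
  have hvan : ∀ g : G, g ≠ 1 → g ≠ c → χ g = 0 := by
    intro g hg1 hgc
    have hgZ : g ∉ Subgroup.center G := by
      intro h
      rcases hZ g h with h | h
      · exact hg1 h
      · exact hgc h
    rw [Subgroup.mem_center_iff] at hgZ
    push Not at hgZ
    obtain ⟨x, hx⟩ := hgZ
    have hmem : x * g * x⁻¹ * g⁻¹ ∈ Subgroup.center G := by
      rw [← hcomm, commutator_def]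
      have := Subgroup.commutator_mem_commutator (Subgroup.mem_top x) (Subgroup.mem_top g)
      rwa [commutatorElement_def] at this
    have hne : x * g * x⁻¹ * g⁻¹ ≠ 1 := by
      intro h
      apply hx
      have : x * g = (x * g * x⁻¹ * g⁻¹) * (g * x) := by group
      rw [this, h, one_mul]
    have hxc : x * g * x⁻¹ * g⁻¹ = c := by
      rcases hZ _ hmem with h | h
      · exact absurd h hne
      · exact h
    have hconj : x * g * x⁻¹ = c * g := by
      rw [← hxc]; group
    have hcl := isClassFunction_of_isCharacter (isCharacter_of_irr hχ)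
    have h3 : χ (x * g * x⁻¹) = χ g := hcl g x
    rw [hconj, hω g, hωm] at h3
    have h4 : 2 * χ g = 0 := by linear_combination -h3
    rcases mul_eq_zero.1 h4 with h | h
    · norm_num at h
    · exact h
  refine ⟨hcχ, hvan, ?_⟩
  have hsum := sum_norm_sq_irr hχ
  have h5 : ∑ g : G, ‖χ g‖ ^ 2 = ‖χ 1‖ ^ 2 + ‖χ c‖ ^ 2 := by
    apply Finset.sum_eq_add_of_mem 1 c (Finset.mem_univ _) (Finset.mem_univ _) (Ne.symm hc1)
    intro g _ hg
    rw [hvan g hg.1 hg.2]
    simp
  rw [← hsum, h5, hcχ, norm_neg]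
  ring

end Extra

end Cfsg.Agent.Lib.Helper4.TE
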