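import Mathlib
import Cfsg.Agent.Lib.Helper4.TE2

set_option autoImplicit false

/-! An extraspecial `2`-group has exactly one irreducible character of even degree. -/

namespace Cfsg.Agent.Lib.Helper4.TE

open Cfsg Cfsg.Agent.Lib.Helper1 Cfsg.Agent.Lib.Helper4 Cfsg.Agent.Lib.Helper4.TD
open scoped ComplexConjugate

universe u

section Extra

variable {G : Type u} [Group G] [Finite G]

theorem unique_of_extraspecial (hG : Cfsg.IsExtraspecial 2 G) :
    ∃ χ₀ : G → ℂ, Cfsg.IsIrrCharacter G χ₀ ∧ 2 ∣ Cfsg.charDegree χ₀ ∧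
      ∀ ψ : G → ℂ, Cfsg.IsIrrCharacter G ψ → 2 ∣ Cfsg.charDegree ψ → ψ = χ₀ := by
  classical
  obtain ⟨⟨hp, hΦ, hcomm⟩, hcard⟩ := hG
  -- the centre is {1, c}
  obtain ⟨c', hc'1, hc'u⟩ := (Nat.card_eq_two_iff' (1 : Subgroup.center G)).1 hcard
  set c : G := (c' : G) with hcdef
  have hc1 : c ≠ 1 := by
    intro h
    apply hc'1
    exact Subtype.ext h
  have hcZ : c ∈ Subgroup.center G := c'.2
  have hZ : ∀ z ∈ Subgroup.center G, z = 1 ∨ z = c := by
    intro z hz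
    by_cases h : z = 1
    · exact Or.inl h
    · right
      have := hc'u ⟨z, hz⟩ (fun h' => h (congrArg Subtype.val h'))
      exact congrArg Subtype.val this
  -- G is not abelian
  have hnab : ¬ ∀ a b : G, a * b = b * a := by
    intro hab
    have : commutator G ≤ ⊥ := by
      rw [commutator_def, Subgroup.commutator_le]
      intro a _ b _
      rw [Subgroup.mem_bot, commutatorElement_def, hab a b]
      group
    have h2 : c ∈ commutator G := by rw [hcomm]; exact hcZ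
    exact hc1 ((Subgroup.mem_bot).1 (this h2))
  -- degrees
  have hdeg : ∀ χ : G → ℂ, Cfsg.IsIrrCharacter G χ → χ 1 ≠ 1 → 2 ∣ Cfsg.charDegree χ := by
    intro χ hχ hnl
    obtain ⟨h1, h2⟩ := Cfsg.Agent.Lib.Helper8.irr_apply_one_eq_charDegree hχ
    have h3 := Cfsg.Agent.Lib.Helper8.charDegree_dvd_card hχ
    obtain ⟨n, hn⟩ := (IsPGroup.iff_card (p := 2) (G := G)).1 hp
    rw [hn] at h3
    obtain ⟨k, -, hk⟩ := (Nat.dvd_prime_pow Nat.prime_two).1 h3
    rcases Nat.eq_zero_or_pos k with rfl | hk0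
    · exfalso
      apply hnl
      rw [h1, hk]
      simp
    · rw [hk]
      exact dvd_pow_self 2 hk0.ne'
  have hnl_of : ∀ χ : G → ℂ, Cfsg.IsIrrCharacter G χ → 2 ∣ Cfsg.charDegree χ → χ 1 ≠ 1 := by
    intro χ hχ h2 h1
    obtain ⟨h3, -⟩ := Cfsg.Agent.Lib.Helper8.irr_apply_one_eq_charDegree hχ
    rw [h3] at h1
    have : Cfsg.charDegree χ = 1 := by exact_mod_cast h1
    rw [this] at h2
    omega
  obtain ⟨χ₀, hχ₀, hχ₀nl⟩ := exists_nonlinear hnab
  refine ⟨χ₀, hχ₀, hdeg χ₀ hχ₀ hχ₀nl, ?_⟩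
  intro ψ hψ hψ2
  have hψnl := hnl_of ψ hψ hψ2
  obtain ⟨a1, a2, a3⟩ := values_of_center_two c hc1 hcZ hZ hcomm hχ₀ hχ₀nl
  obtain ⟨b1, b2, b3⟩ := values_of_center_two c hc1 hcZ hZ hcomm hψ hψnl
  obtain ⟨d₀, hd₀, -, -⟩ := irr_degree hχ₀
  obtain ⟨d₁, hd₁, -, -⟩ := irr_degree hψ
  have heq : ψ 1 = χ₀ 1 := by
    rw [hd₀, hd₁]
    rw [hd₀] at a3
    rw [hd₁] at b3
    rw [a3] at b3
    simp only [Complex.norm_natCast] at b3
    have h4 : (d₀ : ℝ) ^ 2 = (d₁ : ℝ) ^ 2 := by linarith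
    have h5 : (d₀ : ℝ) = d₁ := by
      have h6 : (0 : ℝ) ≤ d₀ := Nat.cast_nonneg _
      have h7 : (0 : ℝ) ≤ d₁ := Nat.cast_nonneg _
      nlinarith
    have : d₀ = d₁ := by exact_mod_cast h5
    rw [this]
  funext g
  by_cases hg1 : g = 1
  · rw [hg1, heq]
  · by_cases hgc : g = c
    · rw [hgc, a1, b1, heq]
    · rw [a2 g hg1 hgc, b2 g hg1 hgc]

end Extra

end Cfsg.Agent.Lib.Helper4.TE
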