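import Mathlib
import Cfsg.Agent.Lib.Helper4.TE4

set_option autoImplicit false

/-! A `p`-group with a unique nonlinear irreducible character: `|G'| = 2`. -/

namespace Cfsg.Agent.Lib.Helper4.TE

open Cfsg Cfsg.Agent.Lib.Helper1 Cfsg.Agent.Lib.Helper4 Cfsg.Agent.Lib.Helper4.TD
open scoped ComplexConjugate

universe u

section Count

variable {G : Type u} [Group G] [Finite G]

theorem card_commutator_of_unique_nonlinear (p : ℕ) [hp : Fact p.Prime] (hG : IsPGroup p G)
    {χ₀ : G → ℂ} (hχ₀ : Cfsg.IsIrrCharacter G χ₀)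
    (hnl : χ₀ 1 ≠ 1)
    (huniq : ∀ ψ : G → ℂ, Cfsg.IsIrrCharacter G ψ → ψ 1 ≠ 1 → ψ = χ₀) :
    p = 2 ∧ Nat.card (commutator G) = 2 := by
  classical
  have hcard := card_eq_of_unique_nonlinear hχ₀ hnl huniq
  obtain ⟨d, hd, hd0, hdG⟩ := irr_degree hχ₀
  rw [hd] at hcard
  have hcardN : Nat.card G = (commutator G).index + d * d := by exact_mod_cast hcard
  have hmul := Subgroup.card_mul_index (commutator G)
  obtain ⟨n, hn⟩ := (IsPGroup.iff_card (p := p) (G := G)).1 hG
  set c := Nat.card (commutator G) with hc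
  set I := (commutator G).index with hI
  have hcG : c ∣ Nat.card G := ⟨I, hmul.symm⟩
  rw [hn] at hcG hdG
  obtain ⟨a, -, ha⟩ := (Nat.dvd_prime_pow hp.out).1 hcG
  obtain ⟨k, -, hk⟩ := (Nat.dvd_prime_pow hp.out).1 hdG
  have hc1 : c ≠ 1 := by
    intro h
    have hbot : commutator G = ⊥ := by
      rw [← Subgroup.card_eq_one]
      exact h
    apply hnl
    apply linear_of_trivial_on_commutator hχ₀
    intro z hz
    rw [hbot, Subgroup.mem_bot] at hz
    rw [hz]
  have ha0 : a ≠ 0 := by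
    rintro rfl
    rw [pow_zero] at ha
    exact hc1 ha
  have hpc : p ∣ c := by
    rw [ha]
    exact dvd_pow_self p ha0
  have hcpos : 0 < c := Nat.card_pos
  have hI0 : 0 < I := by
    rw [hI]
    exact Nat.pos_of_ne_zero Subgroup.index_ne_zero_of_finite
  have hkey : (c - 1) * I = d * d := by
    have h1 : c * I = I + d * d := by rw [hmul, hcardN]
    have h2 : c = (c - 1) + 1 := by omega
    rw [h2] at h1
    rw [add_mul, one_mul] at h1
    omega
  have hdvd : (c - 1) ∣ p ^ (k + k) := by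
    rw [pow_add, ← hk]
    exact ⟨I, hkey.symm⟩
  obtain ⟨j, -, hj⟩ := (Nat.dvd_prime_pow hp.out).1 hdvd
  have hj0 : j = 0 := by
    by_contra h
    have h1 : p ∣ c - 1 := by
      rw [hj]
      exact dvd_pow_self p h
    have h2 : p ∣ c - (c - 1) := Nat.dvd_sub hpc h1
    have h3 : c - (c - 1) = 1 := by omega
    rw [h3] at h2
    exact hp.out.one_lt.ne' (Nat.dvd_one.1 h2)
  rw [hj0, pow_zero] at hj
  have hc2 : c = 2 := by omega
  refine ⟨?_, hc2⟩
  rw [hc2] at hpc
  exact (Nat.prime_dvd_prime_iff_eq hp.out Nat.prime_two).1 hpc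

end Count

end Cfsg.Agent.Lib.Helper4.TE
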