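import Mathlib
import Cfsg.Agent.Lib.Helper4.TE5
import Cfsg.Agent.Lib.Lead.Frattini

set_option autoImplicit false

/-! A `2`-group with a unique nonlinear irreducible character and `|G'| = 2` is extraspecial. -/

namespace Cfsg.Agent.Lib.Helper4.TE

open Cfsg Cfsg.Agent.Lib.Helper1 Cfsg.Agent.Lib.Helper4 Cfsg.Agent.Lib.Helper4.TD
open scoped ComplexConjugate

universe u

section Struct

variable {G : Type u} [Group G] [Finite G]

/-- If the commutator subgroup is the centre and has order two, the Frattini subgroup lies in
it. -/
theorem frattini_le_of_commutator_two (c : G) (hcc : c * c = 1)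
    (hZ : ∀ z ∈ commutator G, z = 1 ∨ z = c)
    (hcomm : commutator G = Subgroup.center G) :
    frattini G ≤ commutator G := by
  intro x hxΦ
  by_contra hx
  obtain ⟨μ, hμ⟩ := exists_hom_ne_one x hx
  have hker : commutator G ≤ μ.ker := Abelianization.commutator_subset_ker μ
  have hsqZ : ∀ g : G, g * g ∈ commutator G := by
    intro g
    rw [hcomm, Subgroup.mem_center_iff]
    intro h
    set e : G := g * h * g⁻¹ * h⁻¹ with he
    have heC : e ∈ commutator G := by
      rw [commutator_def]
      have := Subgroup.commutator_mem_commutator (Subgroup.mem_top g) (Subgroup.mem_top h)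
      rwa [commutatorElement_def] at this
    have hee : e * e = 1 := by
      rcases hZ e heC with h1 | h1
      · rw [h1, mul_one]
      · rw [h1, hcc]
    have hec : ∀ y : G, y * e = e * y := by
      intro y
      have : e ∈ Subgroup.center G := by rw [← hcomm]; exact heC
      exact (Subgroup.mem_center_iff.1 this) y
    have hgh : g * h = e * (h * g) := by rw [he]; group
    symm
    calc g * g * h = g * (g * h) := by group
      _ = g * (e * (h * g)) := by rw [hgh]
      _ = e * (g * h) * g := by rw [← mul_assoc g e, hec g]; group
      _ = e * (e * (h * g)) * g := by rw [hgh]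
      _ = (e * e) * (h * g * g) := by group
      _ = h * (g * g) := by rw [hee, one_mul]; group
  set f : G → ℂ := fun g => ((μ g : ℂˣ) : ℂ) with hf
  have hfmul : ∀ a b : G, f (a * b) = f a * f b := by
    intro a b
    simp only [hf, map_mul, Units.val_mul]
  have hf1 : ∀ g : G, f g = 1 → μ g = 1 := by
    intro g h
    exact Units.ext h
  have hsq : ∀ g : G, f g * f g = 1 := by
    intro g
    rw [← hfmul]
    have : μ (g * g) = 1 := hker (hsqZ g)
    simp only [hf, this, Units.val_one]
  have hval : ∀ g : G, f g = 1 ∨ f g = -1 := by
    intro g
    exact mul_self_eq_one_iff.1 (hsq g)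
  have hfx : f x = -1 := by
    rcases hval x with h | h
    · exact absurd (hf1 x h) hμ
    · exact h
  have hK : IsCoatom μ.ker := by
    constructor
    · intro htop
      apply hμ
      have : x ∈ μ.ker := by rw [htop]; exact Subgroup.mem_top x
      exact this
    · intro H hH
      obtain ⟨h, hhH, hhK⟩ := SetLike.exists_of_lt hH
      have hfh : f h = -1 := by
        rcases hval h with h1 | h1
        · exact absurd (hf1 h h1) hhK
        · exact h1
      rw [eq_top_iff]
      intro g _
      rcases hval g with h1 | h1
      · exact hH.le (hf1 g h1)
      · have h2 : f (g * h⁻¹) = 1 := by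
          have h3 : f (g * h⁻¹) * f h = f g := by
            rw [← hfmul]
            congr 1
            group
          rw [hfh, h1] at h3
          have : f (g * h⁻¹) * -1 = -1 := h3
          linear_combination -this
        have h4 : g * h⁻¹ ∈ H := hH.le (hf1 _ h2)
        have : g = (g * h⁻¹) * h := by group
        rw [this]
        exact H.mul_mem h4 hhH
  exact hμ (frattini_le_coatom hK hxΦ)

end Struct

end Cfsg.Agent.Lib.Helper4.TE
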