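import Mathlib
import Cfsg.Agent.Lib.Helper4.TE6

set_option autoImplicit false

/-! A `p`-group with a unique nonlinear irreducible character is an extraspecial `2`-group. -/

namespace Cfsg.Agent.Lib.Helper4.TE

open Cfsg Cfsg.Agent.Lib.Helper1 Cfsg.Agent.Lib.Helper4 Cfsg.Agent.Lib.Helper4.TD
open scoped ComplexConjugate

universe u

section Struct

variable {G : Type u} [Group G] [Finite G]

theorem extraspecial_of_unique_nonlinear (p : ℕ) [hp : Fact p.Prime] (hG : IsPGroup p G)
    {χ₀ : G → ℂ} (hχ₀ : Cfsg.IsIrrCharacter G χ₀)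
    (hnl : χ₀ 1 ≠ 1)
    (huniq : ∀ ψ : G → ℂ, Cfsg.IsIrrCharacter G ψ → ψ 1 ≠ 1 → ψ = χ₀) :
    p = 2 ∧ Cfsg.IsExtraspecial 2 G := by
  classical
  obtain ⟨hp2, hc2⟩ := card_commutator_of_unique_nonlinear p hG hχ₀ hnl huniq
  subst hp2
  refine ⟨rfl, ?_⟩
  obtain ⟨c', hc'1, hc'u⟩ := (Nat.card_eq_two_iff' (1 : commutator G)).1 hc2
  set c : G := (c' : G) with hcdef
  have hc1 : c ≠ 1 := by
    intro h
    apply hc'1
    exact Subtype.ext h
  have hcC : c ∈ commutator G := c'.2
  have hZ : ∀ z ∈ commutator G, z = 1 ∨ z = c := by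
    intro z hz
    by_cases h : z = 1
    · exact Or.inl h
    · right
      have := hc'u ⟨z, hz⟩ (fun h' => h (congrArg Subtype.val h'))
      exact congrArg Subtype.val this
  have hcc : c * c = 1 := by
    rcases hZ (c * c) (Subgroup.mul_mem _ hcC hcC) with h | h
    · exact h
    · exfalso
      apply hc1
      have : c * c = c * 1 := by rw [h, mul_one]
      exact mul_left_cancel this
  -- c is central
  have hnorm : (commutator G).Normal := inferInstance
  have hccen : c ∈ Subgroup.center G := by
    rw [Subgroup.mem_center_iff]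
    intro g
    have h1 : g * c * g⁻¹ ∈ commutator G := hnorm.conj_mem c hcC g
    rcases hZ _ h1 with h | h
    · exfalso
      apply hc1
      have : g * c * g⁻¹ = g * 1 * g⁻¹ := by rw [h]; group
      have h2 := mul_right_cancel this
      exact mul_left_cancel h2
    · have : g * c = (g * c * g⁻¹) * g := by group
      rw [this, h]
  have hle : commutator G ≤ Subgroup.center G := by
    intro z hz
    rcases hZ z hz with rfl | rfl
    · exact Subgroup.one_mem _
    · exact hccen
  have hvan := vanish_of_unique hχ₀ (fun ψ hψ h1 => huniq ψ hψ (by rw [h1]; exact hnl))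
  have hge : Subgroup.center G ≤ commutator G := by
    intro z hz
    by_contra hzc
    have h0 := hvan z hzc
    have h1 : ‖χ₀ z‖ = ‖χ₀ 1‖ := by
      apply norm_eq_of_central_mod_ker hχ₀ z
      intro x
      have := (Subgroup.mem_center_iff.1 hz) x
      have h2 : z * x * z⁻¹ * x⁻¹ = 1 := by
        rw [← this]; group
      rw [h2]
    rw [h0, norm_zero] at h1
    exact irr_apply_one_ne_zero hχ₀ (norm_eq_zero.1 h1.symm)
  have hcomm : commutator G = Subgroup.center G := le_antisymm hle hge
  have hΦ : frattini G = Subgroup.center G := by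
    rw [← hcomm]
    apply le_antisymm
    · exact frattini_le_of_commutator_two c hcc hZ hcomm
    · exact Cfsg.Agent.Lib.Lead.commutator_le_frattini_of_isPGroup hG
  refine ⟨⟨hG, hΦ, hcomm⟩, ?_⟩
  rw [← hcomm]
  exact hc2

end Struct

end Cfsg.Agent.Lib.Helper4.TE
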