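import Mathlib
import Cfsg.Agent.Lib.Helper4.TE1
import Cfsg.Agent.Lib.Helper2.CliffordDeg
import Cfsg.Agent.S0887
import Cfsg.Agent.S0148

set_option autoImplicit false

/-! Degrees divisible by `p` and normal `p`-subgroups. -/

namespace Cfsg.Agent.Lib.Helper4.TE

open Cfsg Cfsg.Agent.Lib.Helper1 Cfsg.Agent.Lib.Helper4 Cfsg.Agent.Lib.Helper4.TD
open scoped ComplexConjugate

universe u

section Deg

variable {G : Type u} [Group G] [Finite G]

/-- If `p` divides the degree of `χ` and not the index of the normal subgroup `N`, then it divides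
the degree of a constituent of the restriction of `χ` to `N`. -/
theorem exists_constituent_dvd (p : ℕ) (hp : p.Prime) (N : Subgroup G) [hN : N.Normal]
    {χ : G → ℂ} (hχ : Cfsg.IsIrrCharacter G χ) (d : ℕ) (hd : χ 1 = d) (hpd : p ∣ d)
    (hpi : ¬ p ∣ N.index) :
    ∃ α : N → ℂ, Cfsg.IsIrrCharacter N α ∧ ∃ a : ℕ, α 1 = a ∧ p ∣ a := by
  classical
  haveI : Fintype G := Fintype.ofFinite G
  haveI : Fintype N := Fintype.ofFinite N
  have hres : Cfsg.IsCharacter N (fun n : N => χ n) :=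
    Cfsg.Agent.S0148.isCharacter_restrict N (isCharacter_of_irr hχ)
  have h1 : (fun n : N => χ n) 1 ≠ 0 := irr_apply_one_ne_zero hχ
  obtain ⟨α, hα, m, hm, hin⟩ := exists_constituent hres h1
  obtain ⟨a, ha, ha0, -⟩ := irr_degree hα
  refine ⟨α, hα, a, ha, ?_⟩
  have hcon : Cfsg.classInner (fun n : N => χ n) α ≠ 0 := by
    rw [hin]
    exact_mod_cast hm.ne'
  obtain ⟨h2, h3⟩ := Cfsg.Agent.S0887.result N χ hχ α hα hcon d a hd ha
  have h4 : d = a * (d / a) := (Nat.mul_div_cancel' h2).symm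
  rw [h4] at hpd
  rcases (Nat.Prime.dvd_mul hp).1 hpd with h | h
  · exact h
  · exact absurd (h.trans h3) hpi

/-- A group with a nonabelian normal `p`-subgroup has an irreducible character of degree
divisible by `p`. -/
theorem exists_irr_dvd_of_normal_pgroup (p : ℕ) (hp : p.Prime) (Q : Subgroup G) [hQ : Q.Normal]
    (hQp : IsPGroup p Q) (hnab : ¬ ∀ a b : Q, a * b = b * a) :
    ∃ ψ : G → ℂ, Cfsg.IsIrrCharacter G ψ ∧ p ∣ Cfsg.charDegree ψ := by
  classical
  haveI : Fintype G := Fintype.ofFinite G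
  haveI : Fintype Q := Fintype.ofFinite Q
  haveI : Fact p.Prime := ⟨hp⟩
  obtain ⟨β, hβ, hβnl⟩ := exists_nonlinear hnab
  obtain ⟨b, hb, hb0, hbQ⟩ := irr_degree hβ
  obtain ⟨n, hn⟩ := (IsPGroup.iff_card (p := p) (G := Q)).1 hQp
  rw [hn] at hbQ
  obtain ⟨k, -, hk⟩ := (Nat.dvd_prime_pow hp).1 hbQ
  have hpb : p ∣ b := by
    rcases Nat.eq_zero_or_pos k with rfl | hk0
    · exfalso
      apply hβnl
      rw [hb, hk]
      simp
    · rw [hk]
      exact dvd_pow_self p hk0.ne'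
  obtain ⟨ψ, hψ, hcon⟩ := Cfsg.Agent.Lib.Helper2.CliffordDeg.exists_irr_over Q hβ
  refine ⟨ψ, hψ, ?_⟩
  obtain ⟨h1, -⟩ := Cfsg.Agent.Lib.Helper8.irr_apply_one_eq_charDegree hψ
  obtain ⟨h2, -⟩ := Cfsg.Agent.S0887.result Q ψ hψ β hβ hcon _ b h1 hb
  exact hpb.trans h2

end Deg

end Cfsg.Agent.Lib.Helper4.TE
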