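import Mathlib
import Cfsg.Agent.Lib.Helper4.TE8
import Cfsg.Agent.Lib.Helper2.FrattiniSocle

set_option autoImplicit false

/-! A nilpotent group with a unique irreducible character of degree divisible by `p` is a
`p`-group. -/

namespace Cfsg.Agent.Lib.Helper4.TE

open Cfsg Cfsg.Agent.Lib.Helper1 Cfsg.Agent.Lib.Helper4 Cfsg.Agent.Lib.Helper4.TD
open scoped ComplexConjugate

universe u

section PG

variable {G : Type u} [Group G] [Finite G]

theorem isPGroup_of_unique (p : ℕ) [hp : Fact p.Prime] [hnil : Group.IsNilpotent G]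
    {χ₀ : G → ℂ} (hχ₀ : Cfsg.IsIrrCharacter G χ₀) (hpd : p ∣ Cfsg.charDegree χ₀)
    (huniq : ∀ ψ : G → ℂ, Cfsg.IsIrrCharacter G ψ → p ∣ Cfsg.charDegree ψ → ψ = χ₀) :
    IsPGroup p G := by
  classical
  have hsyl : ∀ (q : ℕ) (_ : Fact q.Prime) (S : Sylow q G), (S : Subgroup G).Normal :=
    ((Group.isNilpotent_of_finite_tfae (G := G)).out 0 3).1 hnil
  obtain ⟨P⟩ : Nonempty (Sylow p G) := inferInstance
  haveI hPn : (P : Subgroup G).Normal := hsyl p hp P
  obtain ⟨h1, -⟩ := Cfsg.Agent.Lib.Helper8.irr_apply_one_eq_charDegree hχ₀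
  obtain ⟨α, hα, a, ha, hpa⟩ := exists_constituent_dvd p hp.out (P : Subgroup G) hχ₀ _ h1 hpd
    (Sylow.not_dvd_index P)
  have hPnab : ¬ ∀ x y : (P : Subgroup G), x * y = y * x := by
    intro hab
    have h2 := (Cfsg.Agent.S0187.result (G := (P : Subgroup G))).1 hab ⟨α, hα⟩
    have h3 : α 1 = 1 := h2
    rw [ha] at h3
    have h4 : a = 1 := by exact_mod_cast h3
    rw [h4] at hpa
    exact hp.out.one_lt.ne' (Nat.dvd_one.1 hpa)
  have hvan := vanish_of_unique hχ₀ (fun φ hφ h1 => huniq φ hφ (by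
    unfold Cfsg.charDegree; rw [h1]; exact hpd))
  have hprime : ∀ r : ℕ, r.Prime → r ∣ Nat.card G → r = p := by
    intro r hr hrG
    by_contra hne
    haveI : Fact r.Prime := ⟨hr⟩
    obtain ⟨R⟩ : Nonempty (Sylow r G) := inferInstance
    haveI hRn : (R : Subgroup G).Normal := hsyl r ⟨hr⟩ R
    have hRbot : (R : Subgroup G) ≠ ⊥ := Sylow.ne_bot_of_dvd_card R hrG
    set Q : Subgroup (G ⧸ (R : Subgroup G)) :=
      (P : Subgroup G).map (QuotientGroup.mk' (R : Subgroup G)) with hQdef
    haveI hQn : Q.Normal := Subgroup.Normal.map hPn _ (QuotientGroup.mk'_surjective _)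
    have hQp : IsPGroup p Q := P.2.map _
    have hdisj : Disjoint (P : Subgroup G) (R : Subgroup G) :=
      IsPGroup.disjoint_of_ne p r (Ne.symm hne) _ _ P.2 R.2
    have hQnab : ¬ ∀ a b : Q, a * b = b * a := by
      intro hab
      apply hPnab
      intro x y
      have hx : QuotientGroup.mk' (R : Subgroup G) (x : G) ∈ Q := Subgroup.mem_map_of_mem _ x.2
      have hy : QuotientGroup.mk' (R : Subgroup G) (y : G) ∈ Q := Subgroup.mem_map_of_mem _ y.2
      have h2 := congrArg Subtype.val (hab ⟨_, hx⟩ ⟨_, hy⟩)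
      have h3 : QuotientGroup.mk' (R : Subgroup G) ((x : G) * y) =
          QuotientGroup.mk' (R : Subgroup G) ((y : G) * x) := by
        rw [map_mul, map_mul]
        exact h2
      have h4 : ((x : G) * y)⁻¹ * ((y : G) * x) ∈ (R : Subgroup G) := QuotientGroup.eq.1 h3
      have h5 : ((x : G) * y)⁻¹ * ((y : G) * x) ∈ (P : Subgroup G) :=
        Subgroup.mul_mem _ (Subgroup.inv_mem _ (Subgroup.mul_mem _ x.2 y.2))
          (Subgroup.mul_mem _ y.2 x.2)
      have h6 : ((x : G) * y)⁻¹ * ((y : G) * x) = 1 := by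
        have := (Subgroup.disjoint_def.1 hdisj) h5 h4
        exact this
      apply Subtype.ext
      show (x : G) * y = y * x
      exact inv_mul_eq_one.1 h6
    obtain ⟨ψ, hψ, hpψ⟩ := exists_irr_dvd_of_normal_pgroup p hp.out Q hQp hQnab
    have hinf := Cfsg.Agent.Lib.Helper8.isIrrCharacter_inflation (R : Subgroup G) hψ
    have hdeg : Cfsg.charDegree (fun g : G => ψ (QuotientGroup.mk g)) = Cfsg.charDegree ψ := by
      unfold Cfsg.charDegree
      rfl
    have heq := huniq _ hinf (by rw [hdeg]; exact hpψ)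
    have hRle : (R : Subgroup G) ≤ commutator G := by
      intro y hy
      by_contra hyc
      have h0 := hvan y hyc
      have h5 : χ₀ y = χ₀ 1 := by
        rw [← heq]
        show ψ (QuotientGroup.mk y) = ψ (QuotientGroup.mk 1)
        rw [(QuotientGroup.eq_one_iff y).2 hy, QuotientGroup.mk_one]
      rw [h0] at h5
      exact irr_apply_one_ne_zero hχ₀ h5.symm
    have hRΦ : (R : Subgroup G) ≤ frattini G :=
      hRle.trans Cfsg.Agent.Lib.Helper2.FrattiniSocle.commutator_le_frattini_of_nilpotent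
    obtain ⟨H, hH⟩ := Subgroup.exists_right_complement'_of_coprime
      (N := (R : Subgroup G)) (Sylow.card_coprime_index R)
    have hsup : (R : Subgroup G) ⊔ H = ⊤ := hH.sup_eq_top
    have hHtop : H = ⊤ := by
      apply frattini_nongenerating
      rw [eq_top_iff, ← hsup]
      exact sup_le (hRΦ.trans le_sup_right) le_sup_left
    have hd := hH.disjoint
    rw [hHtop] at hd
    exact hRbot (disjoint_top.1 hd)
  have hcard := Nat.eq_prime_pow_of_unique_prime_dvd (Nat.card_pos (α := G)).ne'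
    (fun {d} hd hdG => hprime d hd hdG)
  exact IsPGroup.of_card hcard

end PG

end Cfsg.Agent.Lib.Helper4.TE
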