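import Mathlib

set_option autoImplicit false

/-!
# TI-families of subgroups of a 2-group: preliminaries
-/

namespace Cfsg.Agent.Lib.Helper4.TIFamily

/-- a finite group of exponent 2 has trivial Frattini subgroup -/
theorem frattini_eq_bot_of_sq_eq_one {G : Type*} [Group G] [Finite G] (h : ∀ g : G, g ^ 2 = 1) :
    frattini G = ⊥ := by
  classical
  have hcomm : ∀ a b : G, a * b = b * a := by
    intro a b
    have h1 := h (a * b)
    have ha := h a
    have hb := h b
    rw [pow_two] at h1 ha hb
    have ha' : a⁻¹ = a := inv_eq_of_mul_eq_one_right ha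
    have hb' : b⁻¹ = b := inv_eq_of_mul_eq_one_right hb
    have h2 : (a * b)⁻¹ = a * b := inv_eq_of_mul_eq_one_right h1
    rw [mul_inv_rev, ha', hb'] at h2
    exact h2.symm
  rw [Subgroup.eq_bot_iff_forall]
  intro g hg
  by_contra hg1
  have hfin : Set.Finite {H : Subgroup G | g ∉ H} := Set.toFinite _
  have hne : Set.Nonempty {H : Subgroup G | g ∉ H} := ⟨⊥, by
    show g ∉ (⊥ : Subgroup G)
    rw [Subgroup.mem_bot]; exact hg1⟩
  obtain ⟨H, hHmax⟩ := hfin.exists_maximal hne
  have hgH : g ∉ H := hHmax.prop
  have hco : IsCoatom H := by
    refine ⟨?_, ?_⟩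
    · intro htop
      apply hgH
      rw [htop]; trivial
    · intro K hK
      have hgK : g ∈ K := by
        by_contra hgK
        exact hK.not_ge (hHmax.le_of_ge hgK hK.le)
      rw [eq_top_iff]
      intro a _
      by_cases haH : a ∈ H
      · exact hK.le haH
      · -- `H ∪ Ha` is a subgroup containing `H` properly
        let L : Subgroup G :=
          { carrier := {x | x ∈ H ∨ x * a ∈ H}
            one_mem' := Or.inl H.one_mem
            mul_mem' := by
              rintro x y (hx | hx) (hy | hy)
              · exact Or.inl (H.mul_mem hx hy)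
              · right
                rw [mul_assoc]; exact H.mul_mem hx hy
              · right
                have : x * y * a = (x * a) * y := by
                  rw [mul_assoc, hcomm y a, ← mul_assoc]
                rw [this]; exact H.mul_mem hx hy
              · left
                have haa : a * a = 1 := by have := h a; rwa [pow_two] at this
                have : x * y = (x * a) * (y * a) := by
                  rw [mul_assoc x a, ← mul_assoc a y a, hcomm a y, mul_assoc y a a, haa, mul_one]
                rw [this]; exact H.mul_mem hx hy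
            inv_mem' := by
              rintro x (hx | hx)
              · exact Or.inl (H.inv_mem hx)
              · right
                have hx2 : x * x = 1 := by have := h x; rwa [pow_two] at this
                have : x⁻¹ = x := inv_eq_of_mul_eq_one_right hx2
                rw [this]; exact hx }
        have hHL : H ≤ L := fun x hx => Or.inl hx
        have haL : a ∈ L := by
          right
          have haa : a * a = 1 := by have := h a; rwa [pow_two] at this
          show a * a ∈ H
          rw [haa]; exact H.one_mem
        have hgL : g ∈ L := by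
          by_contra hgL
          have := hHmax.le_of_ge (show L ∈ {H : Subgroup G | g ∉ H} from hgL) hHL
          exact haH (this haL)
        rcases hgL with hgL | hgL
        · exact absurd hgL hgH
        · have haa : a * a = 1 := by have := h a; rwa [pow_two] at this
          have : a = (g * a)⁻¹ * g := by
            rw [mul_inv_rev]
            have ha' : a⁻¹ = a := inv_eq_of_mul_eq_one_right haa
            rw [ha', mul_assoc, inv_mul_cancel, mul_one]
          rw [this]
          exact K.mul_mem (K.inv_mem (hK.le hgL)) hgK
  exact hgH (frattini_le_coatom hco hg)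

theorem exists_sq_ne_one {S : Type*} [Group S] [Finite S] (R : Subgroup S)
    (h : frattini ↥R ≠ ⊥) : ∃ r ∈ R, r ^ 2 ≠ 1 := by
  by_contra hcon
  push Not at hcon
  apply h
  apply frattini_eq_bot_of_sq_eq_one
  intro g
  apply Subtype.ext
  exact hcon g g.2

/-- in a finite `p`-group, a proper subgroup `E` of `K` and a conjugate of `E` under `K` generate a
proper subgroup of `K` -/
theorem card_sup_conj_lt {S : Type*} [Group S] [Finite S] {p : ℕ} [Fact p.Prime]
    (hS : IsPGroup p S) (K E : Subgroup S) (hEK : E ≤ K) (hne : E ≠ K) (g : S) (hg : g ∈ K) :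
    Nat.card ↥(E ⊔ E.map (MulAut.conj g).toMonoidHom) < Nat.card ↥K := by
  have hKp : IsPGroup p ↥K := hS.to_subgroup K
  have hnil : Group.IsNilpotent ↥K := hKp.isNilpotent
  have hnc : NormalizerCondition ↥K := Group.normalizerCondition_of_isNilpotent
  have hE' : E.subgroupOf K ≠ ⊤ := by
    intro h
    apply hne
    apply le_antisymm hEK
    intro x hx
    have : (⟨x, hx⟩ : ↥K) ∈ E.subgroupOf K := by rw [h]; trivial
    exact this
  rcases eq_top_or_exists_le_coatom (E.subgroupOf K) with h | ⟨M', hM', hEM'⟩
  · exact absurd h hE'
  have hM'n : M'.Normal := Subgroup.NormalizerCondition.normal_of_coatom M' hnc hM'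
  set M : Subgroup S := M'.map K.subtype with hM
  have hEM : E ≤ M := by
    intro x hx
    exact ⟨⟨x, hEK hx⟩, hEM' hx, rfl⟩
  have hEgM : E.map (MulAut.conj g).toMonoidHom ≤ M := by
    rintro _ ⟨x, hx, rfl⟩
    have h1 : (⟨x, hEK hx⟩ : ↥K) ∈ M' := hEM' hx
    have h2 := hM'n.conj_mem _ h1 ⟨g, hg⟩
    exact ⟨_, h2, rfl⟩
  have hMK : M < K := by
    refine lt_of_le_of_ne (Subgroup.map_subtype_le M') ?_
    intro h
    apply hM'.1
    rw [eq_top_iff]
    intro x _
    have hx : (x : S) ∈ M := by rw [h]; exact x.2
    obtain ⟨y, hy, hyx⟩ := hx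
    have : y = x := Subtype.ext hyx
    rwa [← this]
  have h3 : E ⊔ E.map (MulAut.conj g).toMonoidHom ≤ M := sup_le hEM hEgM
  calc Nat.card ↥(E ⊔ E.map (MulAut.conj g).toMonoidHom) ≤ Nat.card ↥M := Subgroup.card_le_of_le h3
    _ < Nat.card ↥K := by
      rcases lt_or_eq_of_le (Subgroup.card_le_of_le hMK.le) with h | h
      · exact h
      · exact absurd (Subgroup.eq_of_le_of_card_ge hMK.le h.ge) hMK.ne

end Cfsg.Agent.Lib.Helper4.TIFamily
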