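import Mathlib
import Cfsg.Agent.Lib.Helper4.TIFamily1

set_option autoImplicit false

/-!
# TI-families of subgroups of a 2-group commute
-/

namespace Cfsg.Agent.Lib.Helper4.TIFamily

variable {S : Type*} [Group S]

/-- conjugate of a subgroup -/
abbrev cj (g : S) (D : Subgroup S) : Subgroup S := D.map (MulAut.conj g).toMonoidHom

theorem mem_cj {g : S} {D : Subgroup S} {x : S} (hx : x ∈ D) : g * x * g⁻¹ ∈ cj g D :=
  ⟨x, hx, rfl⟩

theorem mem_normalizer_of_cj_eq {g : S} {D : Subgroup S} (h : cj g D = D) :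
    g ∈ Subgroup.normalizer (D : Set S) := by
  rw [Subgroup.mem_normalizer_iff]
  intro x
  constructor
  · intro hx
    rw [← h]
    exact mem_cj hx
  · intro hx
    rw [← h] at hx
    obtain ⟨y, hy, hyx⟩ := hx
    have : y = x := by
      have h1 : g * y * g⁻¹ = g * x * g⁻¹ := hyx
      exact mul_left_cancel (mul_right_cancel h1)
    rwa [← this]

theorem cj_ne_of_not_mem_normalizer {g : S} {D : Subgroup S}
    (h : g ∉ Subgroup.normalizer (D : Set S)) : cj g D ≠ D :=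
  fun h' => h (mem_normalizer_of_cj_eq h')

/-- the TI hypotheses -/
structure TIHyp (Δ : Set (Subgroup S)) : Prop where
  inv : ∀ s : S, ∀ R ∈ Δ, cj s R ∈ Δ
  ti : ∀ R ∈ Δ, ∀ T ∈ Δ, R = T ∨ R ⊓ T = ⊥

variable {Δ : Set (Subgroup S)}

/-- Fact 0: centralizers of nonidentity elements of a member normalise it -/
theorem TIHyp.mem_normalizer (h : TIHyp Δ) {D : Subgroup S} (hD : D ∈ Δ) {d : S} (hd : d ∈ D)
    (hd1 : d ≠ 1) {g : S} (hg : g * d = d * g) : g ∈ Subgroup.normalizer (D : Set S) := by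
  apply mem_normalizer_of_cj_eq
  rcases h.ti _ (h.inv g D hD) D hD with h1 | h1
  · exact h1
  · exfalso
    have h2 : d ∈ cj g D ⊓ D := by
      refine ⟨?_, hd⟩
      have : g * d * g⁻¹ = d := by rw [hg, mul_inv_cancel_right]
      rw [← this]
      exact mem_cj hd
    rw [h1, Subgroup.mem_bot] at h2
    exact hd1 h2

/-- commuting with conjugates -/
def CommConj (T R : Subgroup S) : Prop :=
  ∀ r ∈ R, r ∉ Subgroup.normalizer (T : Set S) → ⁅T, cj r T⁆ = ⊥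

theorem CommConj.comm {T R : Subgroup S} (h : CommConj T R) {r : S} (hr : r ∈ R)
    (hrN : r ∉ Subgroup.normalizer (T : Set S)) {a b : S} (ha : a ∈ T) (hb : b ∈ T) :
    a * (r * b * r⁻¹) = (r * b * r⁻¹) * a := by
  have h1 := h r hr hrN
  rw [Subgroup.commutator_eq_bot_iff_le_centralizer] at h1
  have h2 := h1 ha
  rw [Subgroup.mem_centralizer_iff] at h2
  exact (h2 _ (mem_cj hb)).symm

theorem exists_central [Finite S] {p : ℕ} [Fact p.Prime] (hS : IsPGroup p S) (T : Subgroup S)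
    (hT1 : T ≠ ⊥) : ∃ z ∈ T, z ≠ 1 ∧ ∀ t ∈ T, z * t = t * z := by
  have hnt : Nontrivial ↥T := (Subgroup.nontrivial_iff_ne_bot T).mpr hT1
  have hTp : IsPGroup p ↥T := hS.to_subgroup T
  have := hTp.center_nontrivial
  obtain ⟨z, hz⟩ := exists_ne (1 : ↥(Subgroup.center ↥T))
  refine ⟨((z : ↥T) : S), (z : ↥T).2, ?_, ?_⟩
  · intro h
    apply hz
    apply Subtype.ext
    apply Subtype.ext
    exact h
  · intro t ht
    have h1 := Subgroup.mem_center_iff.mp z.2 ⟨t, ht⟩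
    have h2 := congrArg Subtype.val h1
    exact h2.symm

/-- Lemma A -/
theorem lemmaA [Finite S] {p : ℕ} [Fact p.Prime] (hS : IsPGroup p S) (h : TIHyp Δ)
    {R T : Subgroup S} (hR : R ∈ Δ) (hT : T ∈ Δ) (hne : R ≠ T)
    (hcard : Nat.card ↥R = Nat.card ↥T) (hT1 : T ≠ ⊥) (hc : CommConj T R)
    (hTN : T ≤ Subgroup.normalizer (R : Set S)) : R ≤ Subgroup.normalizer (T : Set S) := by
  by_contra hcon
  obtain ⟨r, hr, hrN⟩ := SetLike.not_le_iff_exists.mp hcon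
  obtain ⟨z, hzT, hz1, hzc⟩ := exists_central hS T hT1
  have hθR : ∀ t ∈ T, r * t * r⁻¹ * t⁻¹ ∈ R := by
    intro t ht
    have h1 : t * r⁻¹ * t⁻¹ ∈ R :=
      (Subgroup.mem_normalizer_iff.mp (hTN ht) r⁻¹).mp (R.inv_mem hr)
    have e : r * t * r⁻¹ * t⁻¹ = r * (t * r⁻¹ * t⁻¹) := by group
    rw [e]; exact R.mul_mem hr h1
  have hθN : ∀ t ∈ T, r * t * r⁻¹ * t⁻¹ ∈ Subgroup.normalizer (T : Set S) := by
    intro t ht
    apply h.mem_normalizer hT hzT hz1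
    have h1 : z * (r * t * r⁻¹) = (r * t * r⁻¹) * z := hc.comm hr hrN hzT ht
    have h2 : z * t⁻¹ = t⁻¹ * z := by
      have := hzc t ht
      calc z * t⁻¹ = t⁻¹ * (t * z) * t⁻¹ := by group
        _ = t⁻¹ * (z * t) * t⁻¹ := by rw [this]
        _ = t⁻¹ * z := by group
    calc r * t * r⁻¹ * t⁻¹ * z = r * t * r⁻¹ * (t⁻¹ * z) := by group
      _ = r * t * r⁻¹ * (z * t⁻¹) := by rw [h2]
      _ = (r * t * r⁻¹ * z) * t⁻¹ := by group
      _ = (z * (r * t * r⁻¹)) * t⁻¹ := by rw [h1]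
      _ = z * (r * t * r⁻¹ * t⁻¹) := by group
  let f : ↥T → ↥(R ⊓ Subgroup.normalizer (T : Set S)) :=
    fun t => ⟨r * (t : S) * r⁻¹ * (t : S)⁻¹, ⟨hθR t t.2, hθN t t.2⟩⟩
  have hf : Function.Injective f := by
    intro t t' htt
    have h1 : r * (t : S) * r⁻¹ * (t : S)⁻¹ = r * (t' : S) * r⁻¹ * (t' : S)⁻¹ :=
      congrArg Subtype.val htt
    by_contra hne'
    have hd1 : (t' : S)⁻¹ * (t : S) ≠ 1 := by
      intro h2
      apply hne'
      apply Subtype.ext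
      have := inv_mul_eq_one.mp h2
      exact this.symm
    have hcomm : r * ((t' : S)⁻¹ * (t : S)) = ((t' : S)⁻¹ * (t : S)) * r := by
      have h3 : (t : S) * r⁻¹ * (t : S)⁻¹ = (t' : S) * r⁻¹ * (t' : S)⁻¹ := by
        have e1 : r * (t : S) * r⁻¹ * (t : S)⁻¹ = r * ((t : S) * r⁻¹ * (t : S)⁻¹) := by group
        have e2 : r * (t' : S) * r⁻¹ * (t' : S)⁻¹ = r * ((t' : S) * r⁻¹ * (t' : S)⁻¹) := by group
        rw [e1, e2] at h1
        exact mul_left_cancel h1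
      have h4 : ((t' : S)⁻¹ * (t : S)) * r⁻¹ = r⁻¹ * ((t' : S)⁻¹ * (t : S)) := by
        calc ((t' : S)⁻¹ * (t : S)) * r⁻¹ = (t' : S)⁻¹ * ((t : S) * r⁻¹ * (t : S)⁻¹) * (t : S) := by
              group
          _ = (t' : S)⁻¹ * ((t' : S) * r⁻¹ * (t' : S)⁻¹) * (t : S) := by rw [h3]
          _ = r⁻¹ * ((t' : S)⁻¹ * (t : S)) := by group
      calc r * ((t' : S)⁻¹ * (t : S)) = r * (((t' : S)⁻¹ * (t : S)) * r⁻¹) * r := by group
        _ = r * (r⁻¹ * ((t' : S)⁻¹ * (t : S))) * r := by rw [h4]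
        _ = ((t' : S)⁻¹ * (t : S)) * r := by group
    exact hrN (h.mem_normalizer hT (T.mul_mem (T.inv_mem t'.2) t.2) hd1 hcomm)
  have h1 : Nat.card ↥T ≤ Nat.card ↥(R ⊓ Subgroup.normalizer (T : Set S)) :=
    Nat.card_le_card_of_injective f hf
  have h2 : R ⊓ Subgroup.normalizer (T : Set S) < R := by
    refine lt_of_le_of_ne inf_le_left ?_
    intro h3
    apply hrN
    have : r ∈ R ⊓ Subgroup.normalizer (T : Set S) := by rw [h3]; exact hr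
    exact this.2
  have h3 : Nat.card ↥(R ⊓ Subgroup.normalizer (T : Set S)) < Nat.card ↥R := by
    rcases lt_or_eq_of_le (Subgroup.card_le_of_le h2.le) with h4 | h4
    · exact h4
    · exact absurd (Subgroup.eq_of_le_of_card_ge h2.le h4.ge) h2.ne
  omega

/-- Lemma B -/
theorem lemmaB [Finite S] {p : ℕ} [Fact p.Prime] (hS : IsPGroup p S) (h : TIHyp Δ)
    {R T : Subgroup S} (hR : R ∈ Δ) (hT : T ∈ Δ) (hT1 : T ≠ ⊥) (hc : CommConj T R)
    (hr : ∃ r ∈ R, r ∉ Subgroup.normalizer (T : Set S))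
    (ht : ∃ t ∈ T, t ∉ Subgroup.normalizer (R : Set S)) :
    T ⊓ Subgroup.normalizer (R : Set S) = ⊥ := by
  obtain ⟨r, hr, hrN⟩ := hr
  obtain ⟨t₁, ht₁, ht₁N⟩ := ht
  rw [Subgroup.eq_bot_iff_forall]
  intro t₀ ht₀
  by_contra ht₀1
  obtain ⟨z, hzT, hz1, hzc⟩ := exists_central hS T hT1
  -- a pair `t ∉ N(R)`, `t₀' ∈ N(R)`, commuting
  obtain ⟨t, htT, htN, t₀', ht₀'T, ht₀'N, ht₀'1, hcomm⟩ : ∃ t ∈ T,
      t ∉ Subgroup.normalizer (R : Set S) ∧ ∃ t₀' ∈ T, t₀' ∈ Subgroup.normalizer (R : Set S) ∧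
        t₀' ≠ 1 ∧ t * t₀' = t₀' * t := by
    by_cases hzN : z ∈ Subgroup.normalizer (R : Set S)
    · exact ⟨t₁, ht₁, ht₁N, z, hzT, hzN, hz1, (hzc t₁ ht₁).symm⟩
    · exact ⟨z, hzT, hzN, t₀, ht₀.1, ht₀.2, ht₀1, hzc t₀ ht₀.1⟩
  -- `θ' = r t₀' r⁻¹ t₀'⁻¹ ∈ R` commutes with `t`
  have hθR : r * t₀' * r⁻¹ * t₀'⁻¹ ∈ R := by
    have h1 : t₀' * r⁻¹ * t₀'⁻¹ ∈ R :=
      (Subgroup.mem_normalizer_iff.mp ht₀'N r⁻¹).mp (R.inv_mem hr)
    have e : r * t₀' * r⁻¹ * t₀'⁻¹ = r * (t₀' * r⁻¹ * t₀'⁻¹) := by group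
    rw [e]; exact R.mul_mem hr h1
  have h1 : t * (r * t₀' * r⁻¹) = (r * t₀' * r⁻¹) * t := hc.comm hr hrN htT ht₀'T
  have h2 : t * t₀'⁻¹ = t₀'⁻¹ * t := by
    calc t * t₀'⁻¹ = t₀'⁻¹ * (t₀' * t) * t₀'⁻¹ := by group
      _ = t₀'⁻¹ * (t * t₀') * t₀'⁻¹ := by rw [hcomm]
      _ = t₀'⁻¹ * t := by group
  have h3 : t * (r * t₀' * r⁻¹ * t₀'⁻¹) = (r * t₀' * r⁻¹ * t₀'⁻¹) * t := by
    calc t * (r * t₀' * r⁻¹ * t₀'⁻¹) = (t * (r * t₀' * r⁻¹)) * t₀'⁻¹ := by group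
      _ = ((r * t₀' * r⁻¹) * t) * t₀'⁻¹ := by rw [h1]
      _ = (r * t₀' * r⁻¹) * (t * t₀'⁻¹) := by group
      _ = (r * t₀' * r⁻¹) * (t₀'⁻¹ * t) := by rw [h2]
      _ = (r * t₀' * r⁻¹ * t₀'⁻¹) * t := by group
  by_cases hθ1 : r * t₀' * r⁻¹ * t₀'⁻¹ = 1
  · have h4 : r * t₀' = t₀' * r := by
      have := mul_inv_eq_one.mp hθ1
      calc r * t₀' = (r * t₀' * r⁻¹) * r := by group
        _ = t₀' * r := by rw [this]
    exact hrN (h.mem_normalizer hT ht₀'T ht₀'1 h4)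
  · exact htN (h.mem_normalizer hR hθR hθ1 h3)

/-- iterated commutator formula -/
theorem comm_pow_formula {x t d : S} (hd : d = x * t * x⁻¹ * t⁻¹) (hdt : d * t = t * d) (j : ℕ) :
    x * t ^ j * x⁻¹ * (t ^ j)⁻¹ = d ^ j := by
  induction j with
  | zero => simp
  | succ j ih =>
    have e : x * t ^ (j + 1) * x⁻¹ * (t ^ (j + 1))⁻¹ =
        (x * t * x⁻¹ * t⁻¹) * t * (x * t ^ j * x⁻¹ * (t ^ j)⁻¹) * t⁻¹ := by
      rw [pow_succ']
      group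
    rw [e, ih, ← hd]
    have hdj : t * d ^ j = d ^ j * t := by
      have : Commute t d := hdt.symm
      exact (this.pow_right j)
    calc d * t * d ^ j * t⁻¹ = d * (t * d ^ j) * t⁻¹ := by group
      _ = d * (d ^ j * t) * t⁻¹ := by rw [hdj]
      _ = d ^ (j + 1) := by rw [pow_succ']; group

/-- Lemma C -/
theorem lemmaC [Finite S] (hS : IsPGroup 2 S) (h : TIHyp Δ)
    {R T : Subgroup S} (hR : R ∈ Δ) (hT : T ∈ Δ) (hT1 : T ≠ ⊥)
    (hcT : CommConj T R) (hcR : CommConj R T)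
    (hT0 : T ⊓ Subgroup.normalizer (R : Set S) = ⊥)
    (hR0 : R ⊓ Subgroup.normalizer (T : Set S) = ⊥)
    (hsq : ∃ r ∈ R, r ^ 2 ≠ 1) : False := by
  obtain ⟨r, hr, hr2⟩ := hsq
  obtain ⟨t, ht, ht1⟩ : ∃ t ∈ T, t ≠ 1 := by
    by_contra hcon
    push Not at hcon
    apply hT1
    rw [Subgroup.eq_bot_iff_forall]
    exact hcon
  have hr1 : r ≠ 1 := by
    rintro rfl
    simp at hr2
  have hnotN : ∀ x ∈ R, x ≠ 1 → x ∉ Subgroup.normalizer (T : Set S) := by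
    intro x hx hx1 hxN
    have : x ∈ R ⊓ Subgroup.normalizer (T : Set S) := ⟨hx, hxN⟩
    rw [hR0, Subgroup.mem_bot] at this
    exact hx1 this
  have hnotN' : ∀ y ∈ T, y ≠ 1 → y ∉ Subgroup.normalizer (R : Set S) := by
    intro y hy hy1 hyN
    have : y ∈ T ⊓ Subgroup.normalizer (R : Set S) := ⟨hy, hyN⟩
    rw [hT0, Subgroup.mem_bot] at this
    exact hy1 this
  -- the commutator commutes with both entries
  have hcomm_t : ∀ x ∈ R, x ≠ 1 → ∀ y ∈ T,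
      (x * y * x⁻¹ * y⁻¹) * y = y * (x * y * x⁻¹ * y⁻¹) := by
    intro x hx hx1 y hy
    have h1 : y * (x * y * x⁻¹) = (x * y * x⁻¹) * y := hcT.comm hx (hnotN x hx hx1) hy hy
    calc (x * y * x⁻¹ * y⁻¹) * y = ((x * y * x⁻¹) * y) * y⁻¹ := by group
      _ = (y * (x * y * x⁻¹)) * y⁻¹ := by rw [h1]
      _ = y * (x * y * x⁻¹ * y⁻¹) := by group
  have hcomm_r : ∀ x ∈ R, ∀ y ∈ T, y ≠ 1 →
      (x * y * x⁻¹ * y⁻¹) * x = x * (x * y * x⁻¹ * y⁻¹) := by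
    intro x hx y hy hy1
    have h1 : x * (y * x⁻¹ * y⁻¹) = (y * x⁻¹ * y⁻¹) * x :=
      hcR.comm hy (hnotN' y hy hy1) hx (R.inv_mem hx)
    calc (x * y * x⁻¹ * y⁻¹) * x = x * ((y * x⁻¹ * y⁻¹) * x) := by group
      _ = x * (x * (y * x⁻¹ * y⁻¹)) := by rw [h1]
      _ = x * (x * y * x⁻¹ * y⁻¹) := by group
  set c : S := r * t * r⁻¹ * t⁻¹ with hc
  have hct : c * t = t * c := hcomm_t r hr hr1 t ht
  have hcr : c * r = r * c := hcomm_r r hr t ht ht1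
  -- `[r², t] = c²`
  have hr2R : r ^ 2 ∈ R := R.pow_mem hr 2
  set d : S := r ^ 2 * t * (r ^ 2)⁻¹ * t⁻¹ with hd
  have hdc : d = c ^ 2 := by
    have e : d = r * (r * t * r⁻¹ * t⁻¹) * r⁻¹ * (r * t * r⁻¹ * t⁻¹) := by
      rw [hd, pow_two]; group
    rw [e, ← hc]
    calc r * c * r⁻¹ * c = (r * c) * r⁻¹ * c := by group
      _ = (c * r) * r⁻¹ * c := by rw [hcr]
      _ = c ^ 2 := by rw [pow_two]; group
  have hdt : d * t = t * d := hcomm_t (r ^ 2) hr2R hr2 t ht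
  -- order of `t`
  obtain ⟨k, hk⟩ := IsPGroup.iff_orderOf.mp hS t
  have hk1 : k ≠ 0 := by
    rintro rfl
    rw [pow_zero, orderOf_eq_one_iff] at hk
    exact ht1 hk
  obtain ⟨k', rfl⟩ := Nat.exists_eq_succ_of_ne_zero hk1
  set m := 2 ^ k' with hm
  have hnm : orderOf t = 2 * m := by rw [hk, pow_succ, mul_comm]
  have hcn : c ^ (2 * m) = 1 := by
    have h1 := comm_pow_formula hc hct (2 * m)
    have h2 : t ^ (2 * m) = 1 := by rw [← hnm]; exact pow_orderOf_eq_one t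
    rw [h2] at h1
    rw [← h1]; group
  have hum : t ^ m ≠ 1 := by
    intro h1
    have h2 := orderOf_dvd_of_pow_eq_one h1
    rw [hnm] at h2
    have hmpos : 0 < m := by positivity
    have := Nat.le_of_dvd hmpos h2
    omega
  have h5 : r ^ 2 * t ^ m * (r ^ 2)⁻¹ * (t ^ m)⁻¹ = 1 := by
    rw [comm_pow_formula hd hdt m, hdc, ← pow_mul, hcn]
  have h6 : t ^ m * r ^ 2 = r ^ 2 * t ^ m := by
    have h7 := mul_inv_eq_one.mp h5
    calc t ^ m * r ^ 2 = (r ^ 2 * t ^ m * (r ^ 2)⁻¹) * r ^ 2 := by rw [h7]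
      _ = r ^ 2 * t ^ m := by group
  have h8 : t ^ m ∈ Subgroup.normalizer (R : Set S) := h.mem_normalizer hR hr2R hr2 h6
  exact hnotN' (t ^ m) (T.pow_mem ht m) hum h8

end Cfsg.Agent.Lib.Helper4.TIFamily
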