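import Mathlib
import Cfsg.Agent.Lib.Helper4.TIFamily2

set_option autoImplicit false

/-!
# TI-families of subgroups of a 2-group commute: the main theorem
-/

namespace Cfsg.Agent.Lib.Helper4.TIFamily

variable {S : Type*} [Group S] {Δ : Set (Subgroup S)}

theorem commutator_eq_bot_of_normalize {R T : Subgroup S}
    (hRN : R ≤ Subgroup.normalizer (T : Set S)) (hTN : T ≤ Subgroup.normalizer (R : Set S))
    (hRT : R ⊓ T = ⊥) : ⁅R, T⁆ = ⊥ := by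
  rw [eq_bot_iff, ← hRT, Subgroup.commutator_le]
  intro r hr t ht
  rw [commutatorElement_def]
  constructor
  · have h1 : t * r⁻¹ * t⁻¹ ∈ R :=
      (Subgroup.mem_normalizer_iff.mp (hTN ht) r⁻¹).mp (R.inv_mem hr)
    have e : r * t * r⁻¹ * t⁻¹ = r * (t * r⁻¹ * t⁻¹) := by group
    rw [e]; exact R.mul_mem hr h1
  · have h1 : r * t * r⁻¹ ∈ T := (Subgroup.mem_normalizer_iff.mp (hRN hr) t).mp ht
    exact T.mul_mem h1 (T.inv_mem ht)

theorem main' [Finite S] (hS : IsPGroup 2 S) (h : TIHyp Δ)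
    (hsq : ∀ R ∈ Δ, ∃ r ∈ R, r ^ 2 ≠ 1)
    (hord : ∀ R ∈ Δ, ∀ T ∈ Δ, Nat.card ↥R = Nat.card ↥T) :
    ∀ n : ℕ, ∀ R ∈ Δ, ∀ T ∈ Δ, R ≠ T → Nat.card ↥(R ⊔ T) = n → ⁅R, T⁆ = ⊥ := by
  intro n
  induction n using Nat.strong_induction_on with
  | _ n ih =>
  intro R hR T hT hne hn
  by_contra hRT
  have hnb : ∀ D ∈ Δ, D ≠ ⊥ := by
    intro D hD hb
    obtain ⟨r, hr, hr2⟩ := hsq D hD
    rw [hb, Subgroup.mem_bot] at hr
    rw [hr, one_pow] at hr2
    exact hr2 rfl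
  have hinf : R ⊓ T = ⊥ := (h.ti R hR T hT).resolve_left hne
  have hTK : T ≠ R ⊔ T := by
    intro h1
    have h2 : R ≤ T := by rw [h1]; exact le_sup_left
    have h3 : R ⊓ T = R := inf_eq_left.mpr h2
    rw [hinf] at h3
    exact hnb R hR h3.symm
  have hRK : R ≠ R ⊔ T := by
    intro h1
    have h2 : T ≤ R := by rw [h1]; exact le_sup_right
    have h3 : R ⊓ T = T := inf_eq_right.mpr h2
    rw [hinf] at h3
    exact hnb T hT h3.symm
  have hcT : CommConj T R := by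
    intro r hr hrN
    have hlt := card_sup_conj_lt hS (R ⊔ T) T le_sup_right hTK r (Subgroup.mem_sup_left hr)
    rw [hn] at hlt
    exact ih _ hlt T hT (cj r T) (h.inv r T hT) (cj_ne_of_not_mem_normalizer hrN).symm rfl
  have hcR : CommConj R T := by
    intro t ht htN
    have hlt := card_sup_conj_lt hS (R ⊔ T) R le_sup_left hRK t (Subgroup.mem_sup_right ht)
    rw [hn] at hlt
    exact ih _ hlt R hR (cj t R) (h.inv t R hR) (cj_ne_of_not_mem_normalizer htN).symm rfl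
  by_cases hTN : T ≤ Subgroup.normalizer (R : Set S)
  · have hRN := lemmaA hS h hR hT hne (hord R hR T hT) (hnb T hT) hcT hTN
    exact hRT (commutator_eq_bot_of_normalize hRN hTN hinf)
  · by_cases hRN : R ≤ Subgroup.normalizer (T : Set S)
    · exact hTN (lemmaA hS h hT hR hne.symm (hord T hT R hR) (hnb R hR) hcR hRN)
    · obtain ⟨r, hr, hrN⟩ := SetLike.not_le_iff_exists.mp hRN
      obtain ⟨t, ht, htN⟩ := SetLike.not_le_iff_exists.mp hTN
      have hT0 := lemmaB hS h hR hT (hnb T hT) hcT ⟨r, hr, hrN⟩ ⟨t, ht, htN⟩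
      have hR0 := lemmaB hS h hT hR (hnb R hR) hcR ⟨t, ht, htN⟩ ⟨r, hr, hrN⟩
      exact lemmaC hS h hR hT (hnb T hT) hcT hcR hT0 hR0 (hsq R hR)

theorem main [Finite S] (hS : IsPGroup 2 S) (h : TIHyp Δ)
    (hΦ : ∀ R ∈ Δ, frattini ↥R ≠ ⊥)
    (hord : ∀ R ∈ Δ, ∀ T ∈ Δ, Nat.card ↥R = Nat.card ↥T) :
    ∀ n : ℕ, ∀ R ∈ Δ, ∀ T ∈ Δ, R ≠ T → Nat.card ↥(R ⊔ T) = n → ⁅R, T⁆ = ⊥ :=
  main' hS h (fun R hR => exists_sq_ne_one R (hΦ R hR)) hord

end Cfsg.Agent.Lib.Helper4.TIFamily
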