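import Mathlib
import Cfsg.Agent.Lib.Helper4.TIFamily3

set_option autoImplicit false

/-!
# TI-families inside a 2-subgroup of an arbitrary group
-/

namespace Cfsg.Agent.Lib.Helper4.TIFamily

variable {X : Type*} [Group X]

theorem map_cj_subtype (P : Subgroup X) (s : ↥P) (D' : Subgroup ↥P) :
    (cj s D').map P.subtype = cj (s : X) (D'.map P.subtype) := by
  ext x
  constructor
  · rintro ⟨_, ⟨d, hd, rfl⟩, rfl⟩
    exact ⟨(d : X), ⟨d, hd, rfl⟩, rfl⟩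
  · rintro ⟨_, ⟨d, hd, rfl⟩, rfl⟩
    exact ⟨s * d * s⁻¹, ⟨d, hd, rfl⟩, rfl⟩

theorem main_rel [Finite X] (P : Subgroup X) (hP : IsPGroup 2 ↥P)
    (Δ : Set (Subgroup X)) (hle : ∀ D ∈ Δ, D ≤ P)
    (hinv : ∀ s ∈ P, ∀ D ∈ Δ, cj s D ∈ Δ)
    (hti : ∀ D ∈ Δ, ∀ E ∈ Δ, D = E ∨ D ⊓ E = ⊥)
    (hsq : ∀ D ∈ Δ, ∃ r ∈ D, r ^ 2 ≠ 1)
    (hord : ∀ D ∈ Δ, ∀ E ∈ Δ, Nat.card ↥D = Nat.card ↥E) :
    ∀ D ∈ Δ, ∀ E ∈ Δ, D ≠ E → ∀ d ∈ D, ∀ e ∈ E, d * e = e * d := by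
  set Δ' : Set (Subgroup ↥P) := {D' | D'.map P.subtype ∈ Δ} with hΔ'
  have hinj := P.subtype_injective
  have hT : TIHyp Δ' := by
    refine ⟨?_, ?_⟩
    · intro s D' hD'
      show (cj s D').map P.subtype ∈ Δ
      rw [map_cj_subtype]
      exact hinv _ s.2 _ hD'
    · intro D' hD' E' hE'
      rcases hti _ hD' _ hE' with h | h
      · left
        exact Subgroup.map_injective hinj h
      · right
        rw [Subgroup.eq_bot_iff_forall]
        intro x hx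
        have h1 : (x : X) ∈ D'.map P.subtype ⊓ E'.map P.subtype :=
          ⟨⟨x, hx.1, rfl⟩, ⟨x, hx.2, rfl⟩⟩
        rw [h, Subgroup.mem_bot] at h1
        exact Subtype.ext h1
  have hsq' : ∀ D' ∈ Δ', ∃ r ∈ D', r ^ 2 ≠ 1 := by
    intro D' hD'
    obtain ⟨_, ⟨r, hr, rfl⟩, hr2⟩ := hsq _ hD'
    refine ⟨r, hr, ?_⟩
    intro h
    apply hr2
    have := congrArg Subtype.val h
    simpa using this
  have hcard : ∀ D' : Subgroup ↥P, Nat.card ↥(D'.map P.subtype) = Nat.card ↥D' := fun D' =>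
    Subgroup.card_map_of_injective hinj
  have hord' : ∀ D' ∈ Δ', ∀ E' ∈ Δ', Nat.card ↥D' = Nat.card ↥E' := by
    intro D' hD' E' hE'
    rw [← hcard D', ← hcard E']
    exact hord _ hD' _ hE'
  intro D hD E hE hne d hd e he
  have hD' : D.subgroupOf P ∈ Δ' := by
    show (D.subgroupOf P).map P.subtype ∈ Δ
    rw [Subgroup.map_subgroupOf_eq_of_le (hle D hD)]; exact hD
  have hE' : E.subgroupOf P ∈ Δ' := by
    show (E.subgroupOf P).map P.subtype ∈ Δ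
    rw [Subgroup.map_subgroupOf_eq_of_le (hle E hE)]; exact hE
  have hne' : D.subgroupOf P ≠ E.subgroupOf P := by
    intro h
    apply hne
    rw [← Subgroup.map_subgroupOf_eq_of_le (hle D hD), ← Subgroup.map_subgroupOf_eq_of_le (hle E hE), h]
  have h1 := main' hP hT hsq' hord' _ _ hD' _ hE' hne' rfl
  rw [Subgroup.commutator_eq_bot_iff_le_centralizer] at h1
  have h2 : (⟨d, hle D hD hd⟩ : ↥P) ∈ D.subgroupOf P := hd
  have h3 := h1 h2
  rw [Subgroup.mem_centralizer_iff] at h3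
  have h4 := h3 ⟨e, hle E hE he⟩ he
  have h5 := congrArg Subtype.val h4
  exact h5.symm

end Cfsg.Agent.Lib.Helper4.TIFamily
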