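import Mathlib
import Cfsg.Agent.Lib.Helper4.TIFamily4
import Cfsg.Agent.Lib.Lead.Frattini
import Cfsg.Agent.Lib.Lead.CoprimeFrattini
import Cfsg.Agent.Lib.Helper3.Components7
import Cfsg.Agent.Lib.Helper6.PCore

set_option autoImplicit false

/-!
# Abelian TI 2-subgroups in groups with `F*(X) = O_2(X)`
-/

namespace Cfsg.Agent.Lib.Helper4.TIFamily

open Cfsg

variable {X : Type*} [Group X]

theorem cj_cj (x y : X) (D : Subgroup X) : cj x (cj y D) = cj (x * y) D := by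
  ext z
  constructor
  · rintro ⟨_, ⟨d, hd, rfl⟩, rfl⟩
    refine ⟨d, hd, ?_⟩
    simp [MulAut.conj_apply, mul_assoc]
  · rintro ⟨d, hd, rfl⟩
    refine ⟨y * d * y⁻¹, ⟨d, hd, rfl⟩, ?_⟩
    simp [MulAut.conj_apply, mul_assoc]

theorem cj_mono (x : X) {D E : Subgroup X} (h : D ≤ E) : cj x D ≤ cj x E := Subgroup.map_mono h

theorem card_cj [Finite X] (x : X) (D : Subgroup X) : Nat.card ↥(cj x D) = Nat.card ↥D :=
  Subgroup.card_map_of_injective (MulAut.conj x).injective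

theorem cj_inf (x : X) (D E : Subgroup X) : cj x (D ⊓ E) = cj x D ⊓ cj x E :=
  Subgroup.map_inf D E _ (MulAut.conj x).injective

/-- the general TI property -/
theorem ti_general {A : Subgroup X}
    (hti : ∀ h : X, cj h A = A ∨ cj h A ⊓ A = ⊥) (x y : X) :
    cj x A = cj y A ∨ cj x A ⊓ cj y A = ⊥ := by
  have e : cj x A = cj y (cj (y⁻¹ * x) A) := by
    rw [cj_cj]; congr 1; group
  have e2 : cj y A = cj y A := rfl
  rcases hti (y⁻¹ * x) with h | h
  · left
    rw [e, h]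
  · right
    rw [e, ← cj_inf, h]
    exact Subgroup.map_bot _

/-- the subgroup generated by the squares -/
def sqSub (A : Subgroup X) : Subgroup X := Subgroup.closure ((fun a : X => a ^ 2) '' (A : Set X))

theorem sqSub_le (A : Subgroup X) : sqSub A ≤ A := by
  rw [sqSub, Subgroup.closure_le]
  rintro _ ⟨a, ha, rfl⟩
  exact A.pow_mem ha 2

theorem cj_sqSub (x : X) (A : Subgroup X) : cj x (sqSub A) = sqSub (cj x A) := by
  rw [sqSub, sqSub, cj, MonoidHom.map_closure]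
  congr 1
  ext z
  constructor
  · rintro ⟨_, ⟨a, ha, rfl⟩, rfl⟩
    refine ⟨x * a * x⁻¹, ⟨a, ha, rfl⟩, ?_⟩
    show (x * a * x⁻¹) ^ 2 = (MulAut.conj x) (a ^ 2)
    rw [map_pow]; rfl
  · rintro ⟨_, ⟨a, ha, rfl⟩, rfl⟩
    refine ⟨a ^ 2, ⟨a, ha, rfl⟩, ?_⟩
    show (MulAut.conj x) (a ^ 2) = ((MulAut.conj x) a) ^ 2
    rw [map_pow]

/-- elements acting trivially on the Frattini quotient of `O_2(X)` lie in `O_2(X)` when
`F*(X) = O_2(X)` -/
theorem mem_pCore_of_trivial_on_frattini_quotient [Finite X]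
    (hX : generalizedFittingSubgroup X = pCore 2 X) (b : X)
    (hb : ∀ q ∈ pCore 2 X, b * q * b⁻¹ * q⁻¹ ∈ (frattini ↥(pCore 2 X)).map (pCore 2 X).subtype) :
    b ∈ pCore 2 X := by
  classical
  set Q := pCore 2 X with hQ
  have hQn : Q.Normal := Cfsg.Agent.Lib.Lead.pCore_normal 2
  have hQ2 : IsPGroup 2 ↥Q := Cfsg.Agent.Lib.Helper6.pCore_isPGroup 2
  set Φ : Subgroup X := (frattini ↥Q).map Q.subtype with hΦ
  have hΦQ : Φ ≤ Q := Subgroup.map_subtype_le _
  have hΦn : Φ.Normal := by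
    rw [← Subgroup.normalizer_eq_top_iff, eq_top_iff]
    refine le_trans ?_ (Cfsg.Agent.Lib.Lead.le_normalizer_map_characteristic Q (frattini ↥Q))
    rw [Subgroup.normalizer_eq_top_iff.mpr hQn]
  have hcent : Subgroup.centralizer (Q : Set X) ≤ Q := by
    have := Cfsg.Agent.Lib.Helper3.centralizer_generalizedFittingSubgroup_le (G := X)
    rw [hX] at this
    exact this
  -- the subgroup of elements acting trivially on `Q/Φ`
  let C : Subgroup X :=
    { carrier := {x | ∀ q ∈ Q, x * q * x⁻¹ * q⁻¹ ∈ Φ}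
      one_mem' := by
        intro q _
        simp only [one_mul, inv_one, mul_one, mul_inv_cancel]
        exact Φ.one_mem
      mul_mem' := by
        intro x y hx hy q hq
        have h1 : x * (y * q * y⁻¹ * q⁻¹) * x⁻¹ ∈ Φ := hΦn.conj_mem _ (hy q hq) x
        have h2 := hx q hq
        have e : x * y * q * (x * y)⁻¹ * q⁻¹ =
            (x * (y * q * y⁻¹ * q⁻¹) * x⁻¹) * (x * q * x⁻¹ * q⁻¹) := by group
        rw [e]; exact Φ.mul_mem h1 h2
      inv_mem' := by
        intro x hx q hq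
        have hq' : x⁻¹ * q * x ∈ Q := by
          have := hQn.conj_mem q hq x⁻¹
          rwa [inv_inv] at this
        have h1 := hx _ hq'
        have e : x⁻¹ * q * x⁻¹⁻¹ * q⁻¹ = (x * (x⁻¹ * q * x) * x⁻¹ * (x⁻¹ * q * x)⁻¹)⁻¹ := by group
        rw [e]; exact Φ.inv_mem h1 }
  have hCmem : ∀ x, x ∈ C ↔ ∀ q ∈ Q, x * q * x⁻¹ * q⁻¹ ∈ Φ := fun _ => Iff.rfl
  have hCn : C.Normal := by
    refine ⟨?_⟩
    intro x hx g
    rw [hCmem] at hx ⊢
    intro q hq
    have hq' : g⁻¹ * q * g ∈ Q := by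
      have := hQn.conj_mem q hq g⁻¹
      rwa [inv_inv] at this
    have h1 := hΦn.conj_mem _ (hx _ hq') g
    have e : g * x * g⁻¹ * q * (g * x * g⁻¹)⁻¹ * q⁻¹ =
        g * (x * (g⁻¹ * q * g) * x⁻¹ * (g⁻¹ * q * g)⁻¹) * g⁻¹ := by group
    rw [e]; exact h1
  have hC2 : IsPGroup 2 ↥C := by
    have hcard : Nat.card ↥C = 2 ^ (Nat.card ↥C).primeFactorsList.length := by
      apply Nat.eq_prime_pow_of_unique_prime_dvd Nat.card_pos.ne'
      intro r hr hrd
      by_contra hr2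
      haveI : Fact r.Prime := ⟨hr⟩
      obtain ⟨y, hy⟩ := exists_prime_orderOf_dvd_card' r hrd
      set Y : Subgroup X := Subgroup.zpowers (y : X) with hY
      have hYcard : Nat.card ↥Y = r := by
        rw [hY, Nat.card_zpowers, Subgroup.orderOf_coe, hy]
      have hYN : Y ≤ Subgroup.normalizer (Q : Set X) := by
        rw [Subgroup.normalizer_eq_top_iff.mpr hQn]; exact le_top
      have hcop : (Nat.card ↥Y).Coprime (Nat.card ↥(frattini ↥Q)) := by
        rw [hYcard]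
        obtain ⟨k, hk⟩ := IsPGroup.iff_card.mp (hQ2.to_subgroup (frattini ↥Q))
        rw [hk]
        apply Nat.Coprime.pow_right
        exact (Nat.coprime_primes hr Nat.prime_two).mpr hr2
      have hYC : Y ≤ C := by
        rw [hY, Subgroup.zpowers_le]
        exact y.2
      have htriv : ∀ a ∈ Y, ∀ k ∈ Q, a * k * a⁻¹ * k⁻¹ ∈ (frattini ↥Q).map Q.subtype :=
        fun a ha k hk => (hCmem a).mp (hYC ha) k hk
      have h1 := Cfsg.Agent.Lib.Lead.coprime_trivial_on_frattini_quotient Y Q hYN hcop htriv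
      have h2 : (y : X) ∈ Q := hcent (h1 (Subgroup.mem_zpowers _))
      obtain ⟨k, hk⟩ := IsPGroup.iff_orderOf.mp hQ2 ⟨(y : X), h2⟩
      rw [Subgroup.orderOf_mk, Subgroup.orderOf_coe, hy] at hk
      have h3 : r ∣ 2 ^ k := by rw [← hk]
      have h4 := (Nat.prime_dvd_prime_iff_eq hr Nat.prime_two).mp (hr.dvd_of_dvd_pow h3)
      exact hr2 h4
    exact IsPGroup.of_card hcard
  have hCQ : C ≤ Q := Cfsg.Agent.Lib.Helper6.le_pCore hCn hC2
  exact hCQ ((hCmem b).mpr hb)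

end Cfsg.Agent.Lib.Helper4.TIFamily
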