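import Mathlib
import Cfsg.Agent.Lib.Helper4.TIFamily5

set_option autoImplicit false

/-!
# Abelian TI 2-subgroups in groups with `F*(X) = O_2(X)`: main results
-/

namespace Cfsg.Agent.Lib.Helper4.TIFamily

open Cfsg

variable {X : Type*} [Group X]

theorem comm_of_abelian {A : Subgroup X} (hAa : IsMulCommutative ↥A) {a b : X} (ha : a ∈ A)
    (hb : b ∈ A) : a * b = b * a := by
  have := mul_comm' (⟨a, ha⟩ : ↥A) ⟨b, hb⟩
  exact congrArg Subtype.val this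

theorem cj_abelian {A : Subgroup X} (hAa : IsMulCommutative ↥A) (x : X) {u v : X}
    (hu : u ∈ cj x A) (hv : v ∈ cj x A) : u * v = v * u := by
  obtain ⟨a, ha, rfl⟩ := hu
  obtain ⟨b, hb, rfl⟩ := hv
  show x * a * x⁻¹ * (x * b * x⁻¹) = x * b * x⁻¹ * (x * a * x⁻¹)
  have := comm_of_abelian hAa ha hb
  calc x * a * x⁻¹ * (x * b * x⁻¹) = x * (a * b) * x⁻¹ := by group
    _ = x * (b * a) * x⁻¹ := by rw [this]
    _ = x * b * x⁻¹ * (x * a * x⁻¹) := by group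

theorem sq_mem_pCore [Finite X] (hX : generalizedFittingSubgroup X = pCore 2 X)
    (A : Subgroup X) (hA2 : IsPGroup 2 ↥A) (hAa : IsMulCommutative ↥A)
    (hti : ∀ h : X, cj h A = A ∨ cj h A ⊓ A = ⊥) : ∀ a ∈ A, a ^ 2 ∈ pCore 2 X := by
  classical
  intro a ha
  set Q := pCore 2 X with hQ
  have hQn : Q.Normal := Cfsg.Agent.Lib.Lead.pCore_normal 2
  have hQ2 : IsPGroup 2 ↥Q := Cfsg.Agent.Lib.Helper6.pCore_isPGroup 2
  by_cases hall : ∀ a' ∈ A, a' ^ 2 = 1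
  · rw [hall a ha]; exact Q.one_mem
  push Not at hall
  obtain ⟨a₁, ha₁, ha₁2⟩ := hall
  set P : Subgroup X := A ⊔ Q with hP
  have hP2 : IsPGroup 2 ↥P := IsPGroup.to_sup_of_normal_right hA2 hQ2
  set Δ : Set (Subgroup X) := {D | ∃ s ∈ P, D = cj s A} with hΔ
  have hcomm := main_rel P hP2 Δ
    (by
      rintro D ⟨s, hs, rfl⟩
      rintro _ ⟨d, hd, rfl⟩
      exact P.mul_mem (P.mul_mem hs (Subgroup.mem_sup_left hd)) (P.inv_mem hs))
    (by
      rintro s hs D ⟨s', hs', rfl⟩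
      exact ⟨s * s', P.mul_mem hs hs', cj_cj s s' A⟩)
    (by
      rintro D ⟨s, _, rfl⟩ E ⟨s', _, rfl⟩
      exact ti_general hti s s')
    (by
      rintro D ⟨s, _, rfl⟩
      refine ⟨s * a₁ * s⁻¹, mem_cj ha₁, ?_⟩
      intro h
      apply ha₁2
      have e : (s * a₁ * s⁻¹) ^ 2 = s * a₁ ^ 2 * s⁻¹ := by
        rw [pow_two, pow_two]; group
      rw [e] at h
      have : a₁ ^ 2 = s⁻¹ * (s * a₁ ^ 2 * s⁻¹) * s := by group
      rw [this, h]; group)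
    (by
      rintro D ⟨s, _, rfl⟩ E ⟨s', _, rfl⟩
      rw [card_cj, card_cj])
  have hAΔ : A ∈ Δ := ⟨1, P.one_mem, by
    ext z
    constructor
    · intro hz
      exact ⟨z, hz, by simp⟩
    · rintro ⟨y, hy, rfl⟩
      simpa using hy⟩
  apply mem_pCore_of_trivial_on_frattini_quotient hX
  intro q hq
  -- the commutator `c`
  set c : X := a * q * a⁻¹ * q⁻¹ with hc
  have hcQ : c ∈ Q := by
    have h1 : a * q * a⁻¹ ∈ Q := hQn.conj_mem q hq a
    exact Q.mul_mem h1 (Q.inv_mem hq)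
  have hcA : ∀ a' ∈ A, c * a' = a' * c := by
    intro a' ha'
    have h1 : q * a⁻¹ * q⁻¹ ∈ cj q A := mem_cj (A.inv_mem ha)
    have h2 : (q * a⁻¹ * q⁻¹) * a' = a' * (q * a⁻¹ * q⁻¹) := by
      by_cases hqA : cj q A = A
      · rw [hqA] at h1
        exact comm_of_abelian hAa h1 ha'
      · have hqΔ : cj q A ∈ Δ := ⟨q, Subgroup.mem_sup_right hq, rfl⟩
        exact hcomm _ hqΔ _ hAΔ hqA _ h1 _ ha'
    have h3 := comm_of_abelian hAa ha ha'
    have e : c = a * (q * a⁻¹ * q⁻¹) := by rw [hc]; group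
    calc c * a' = a * ((q * a⁻¹ * q⁻¹) * a') := by rw [e]; group
      _ = a * (a' * (q * a⁻¹ * q⁻¹)) := by rw [h2]
      _ = (a * a') * (q * a⁻¹ * q⁻¹) := by group
      _ = (a' * a) * (q * a⁻¹ * q⁻¹) := by rw [h3]
      _ = a' * c := by rw [e]; group
  have hca : c * a = a * c := hcA a ha
  have e2 : a ^ 2 * q * (a ^ 2)⁻¹ * q⁻¹ = c ^ 2 := by
    have e3 : a ^ 2 * q * (a ^ 2)⁻¹ * q⁻¹ = a * c * a⁻¹ * c := by
      rw [hc, pow_two]; group
    rw [e3]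
    calc a * c * a⁻¹ * c = (a * c) * a⁻¹ * c := by group
      _ = (c * a) * a⁻¹ * c := by rw [hca]
      _ = c ^ 2 := by rw [pow_two]; group
  rw [e2]
  have h4 := Cfsg.Agent.Lib.Lead.pow_mem_frattini_of_isPGroup hQ2 (⟨c, hcQ⟩ : ↥Q)
  exact ⟨_, h4, rfl⟩

theorem normalClosure_comm [Finite X] (hX : generalizedFittingSubgroup X = pCore 2 X)
    (A : Subgroup X) (hA2 : IsPGroup 2 ↥A) (hAa : IsMulCommutative ↥A)
    (hti : ∀ h : X, cj h A = A ∨ cj h A ⊓ A = ⊥)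
    (b₁ : X) (hb₁ : b₁ ∈ sqSub A) (hb₁2 : b₁ ^ 2 ≠ 1) :
    IsMulCommutative ↥(Subgroup.normalClosure ((fun a : X => a ^ 2) '' (A : Set X))) := by
  classical
  set Q := pCore 2 X with hQ
  have hQn : Q.Normal := Cfsg.Agent.Lib.Lead.pCore_normal 2
  have hQ2 : IsPGroup 2 ↥Q := Cfsg.Agent.Lib.Helper6.pCore_isPGroup 2
  set B := sqSub A with hB
  have hBQ : B ≤ Q := by
    rw [hB, sqSub, Subgroup.closure_le]
    rintro _ ⟨a, ha, rfl⟩
    exact sq_mem_pCore hX A hA2 hAa hti a ha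
  have hBA : B ≤ A := sqSub_le A
  set Δ : Set (Subgroup X) := {D | ∃ x : X, D = cj x B} with hΔ
  have hcomm := main_rel Q hQ2 Δ
    (by
      rintro D ⟨x, rfl⟩
      rintro _ ⟨d, hd, rfl⟩
      exact hQn.conj_mem d (hBQ hd) x)
    (by
      rintro s _ D ⟨x, rfl⟩
      exact ⟨s * x, cj_cj s x B⟩)
    (by
      rintro D ⟨x, rfl⟩ E ⟨y, rfl⟩
      rcases ti_general hti x y with h | h
      · left
        rw [hB, cj_sqSub, cj_sqSub, h]
      · right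
        rw [eq_bot_iff, ← h]
        exact inf_le_inf (cj_mono x hBA) (cj_mono y hBA))
    (by
      rintro D ⟨x, rfl⟩
      refine ⟨x * b₁ * x⁻¹, mem_cj hb₁, ?_⟩
      intro h
      apply hb₁2
      have e : (x * b₁ * x⁻¹) ^ 2 = x * b₁ ^ 2 * x⁻¹ := by
        rw [pow_two, pow_two]; group
      rw [e] at h
      have : b₁ ^ 2 = x⁻¹ * (x * b₁ ^ 2 * x⁻¹) * x := by group
      rw [this, h]; group)
    (by
      rintro D ⟨x, rfl⟩ E ⟨y, rfl⟩
      rw [card_cj, card_cj])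
  rw [Subgroup.normalClosure]
  apply Subgroup.isMulCommutative_closure
  intro u hu v hv
  rw [Group.mem_conjugatesOfSet_iff] at hu hv
  obtain ⟨_, ⟨a, ha, rfl⟩, hconj⟩ := hu
  obtain ⟨_, ⟨a', ha', rfl⟩, hconj'⟩ := hv
  obtain ⟨x, rfl⟩ := isConj_iff.mp hconj
  obtain ⟨y, rfl⟩ := isConj_iff.mp hconj'
  have huB : x * a ^ 2 * x⁻¹ ∈ cj x B :=
    mem_cj (Subgroup.subset_closure ⟨a, ha, rfl⟩)
  have hvB : y * a' ^ 2 * y⁻¹ ∈ cj y B :=
    mem_cj (Subgroup.subset_closure ⟨a', ha', rfl⟩)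
  by_cases hxy : cj x B = cj y B
  · rw [← hxy] at hvB
    exact cj_abelian hAa x (cj_mono x hBA huB) (cj_mono x hBA hvB)
  · exact hcomm _ ⟨x, rfl⟩ _ ⟨y, rfl⟩ hxy _ huB _ hvB

end Cfsg.Agent.Lib.Helper4.TIFamily
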