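import Mathlib
import Cfsg.Agent.Lib.Lead.ThompsonPQ
import Cfsg.Agent.Lib.Lead.CoprimeAction2
import Cfsg.Agent.Lib.Lead.Baer3

set_option autoImplicit false

/-! Transitivity theorem under `p`-constrained locals: the class two signalizer lemma. -/

namespace Cfsg.Agent.Lib.Helper4.TT

open scoped commutatorElement
open Cfsg.Agent.Lib.Lead

universe u

variable {G : Type u} [Group G]

/-- elementwise nilpotency class at most two -/
def Cls2 (T : Subgroup G) : Prop := ∀ x ∈ T, ∀ y ∈ T, ∀ z ∈ T, ⁅⁅x, y⁆, z⁆ = 1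

theorem Cls2.mono {T U : Subgroup G} (h : Cls2 U) (hTU : T ≤ U) : Cls2 T :=
  fun x hx y hy z hz => h x (hTU hx) y (hTU hy) z (hTU hz)

theorem Cls2.map {H : Type*} [Group H] {T : Subgroup G} (h : Cls2 T) (f : G →* H) :
    Cls2 (T.map f) := by
  rintro _ ⟨x, hx, rfl⟩ _ ⟨y, hy, rfl⟩ _ ⟨z, hz, rfl⟩
  rw [← map_commutatorElement, ← map_commutatorElement, h x hx y hy z hz, map_one]

theorem Cls2.of_map {H : Type*} [Group H] {T : Subgroup G} (f : G →* H) (hf : Function.Injective f)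
    (h : Cls2 (T.map f)) : Cls2 T := by
  intro x hx y hy z hz
  apply hf
  rw [map_commutatorElement, map_commutatorElement, map_one]
  exact h _ ⟨x, hx, rfl⟩ _ ⟨y, hy, rfl⟩ _ ⟨z, hz, rfl⟩

/-- nilpotency class at most two, elementwise -/
theorem cls2_of_nilpotencyClass_le (S : Subgroup G) [hS : Group.IsNilpotent S]
    (h : Group.nilpotencyClass S ≤ 2) : Cls2 S := by
  have h1 : (⊤ : Subgroup ↥S).lowerCentralSeries 2 = ⊥ :=
    Subgroup.lowerCentralSeries_eq_bot_iff_nilpotencyClass_le.mpr h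
  intro x hx y hy z hz
  have h2 : ⁅(⟨x, hx⟩ : ↥S), ⟨y, hy⟩⁆ ∈ (⊤ : Subgroup ↥S).lowerCentralSeries 1 := by
    rw [Subgroup.lowerCentralSeries_succ, Subgroup.lowerCentralSeries_zero]
    exact Subgroup.commutator_mem_commutator (Subgroup.mem_top _) (Subgroup.mem_top _)
  have h3 : ⁅⁅(⟨x, hx⟩ : ↥S), (⟨y, hy⟩ : ↥S)⁆, (⟨z, hz⟩ : ↥S)⁆ ∈
      (⊤ : Subgroup ↥S).lowerCentralSeries 2 := by
    rw [Subgroup.lowerCentralSeries_succ]
    exact Subgroup.commutator_mem_commutator h2 (Subgroup.mem_top _)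
  rw [h1, Subgroup.mem_bot] at h3
  have h4 := congrArg Subtype.val h3
  simpa [commutatorElement_def] using h4

theorem hall_witt_aux (x y z : G) :
    ⁅z, ⁅x, y⁆⁆ = x * z * ⁅y, ⁅z⁻¹, x⁻¹⁆⁆⁻¹ * z⁻¹ * y * ⁅x⁻¹, ⁅y⁻¹, z⁆⁆⁻¹ * y⁻¹ * x⁻¹ := by
  simp only [commutatorElement_def]; group

theorem comm_mul_aux (r g h : G) : ⁅r, g * h⁆ = ⁅r, g⁆ * (g * ⁅r, h⁆ * g⁻¹) := by
  simp only [commutatorElement_def]; group

theorem comm_inv_aux (r g : G) : ⁅r, g⁻¹⁆ = g⁻¹ * ⁅r, g⁆⁻¹ * g := by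
  simp only [commutatorElement_def]; group

/-- **Core lemma**: `R` a normal `p`-subgroup, `A` a `p`-subgroup with `C_R(A) ≤ A` and `RA` of class at
most two.  Then every `p'`-subgroup normalized by `A` centralizes `R`. -/
theorem le_centralizer_of_cls2 [Finite G] {p : ℕ} [hpp : Fact p.Prime] (R : Subgroup G)
    [hRn : R.Normal] (hR : IsPGroup p R) (A Q : Subgroup G) (hA : IsPGroup p A)
    (hQ : (Nat.card Q).Coprime p) (hAQ : A ≤ Subgroup.normalizer (Q : Set G))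
    (h : ∀ x ∈ R, (∀ a ∈ A, a * x = x * a) → x ∈ A) (hcls : Cls2 (R ⊔ A)) :
    Q ≤ Subgroup.centralizer (R : Set G) := by
  classical
  set Z₀ := ⁅R, A⁆ with hZ₀
  have hZR : Z₀ ≤ R := Subgroup.commutator_le_left R A
  have hZ₀' : ⁅A, R⁆ = Z₀ := Subgroup.commutator_comm A R
  have hRpow : ∀ x ∈ R, ∃ k : ℕ, x ^ p ^ k = 1 := by
    intro x hx
    obtain ⟨k, hk⟩ := hR ⟨x, hx⟩
    refine ⟨k, ?_⟩
    have := congrArg Subtype.val hk
    simpa only [Subgroup.coe_pow, Subgroup.coe_one] using this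
  have hQpow : ∀ x ∈ Q, x ^ Nat.card Q = 1 := by
    intro x hx
    have h1 := pow_card_eq_one' (G := ↥Q) (x := ⟨x, hx⟩)
    have h2 := congrArg Subtype.val h1
    simpa only [Subgroup.coe_pow, Subgroup.coe_one] using h2
  have hQR : ∀ x, x ∈ Q → x ∈ R → x = 1 := by
    intro x hxQ hxR
    obtain ⟨k, hk⟩ := hRpow x hxR
    exact Baer.eq_one_of_pow_coprime (hQpow x hxQ) hk (Nat.Coprime.pow_right k hQ)
  have hZcen : Z₀ ≤ Subgroup.centralizer ((R ⊔ A : Subgroup G) : Set G) := by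
    rw [hZ₀, Subgroup.commutator_le]
    intro r hr a ha
    rw [Subgroup.mem_centralizer_iff]
    intro t ht
    have h1 := hcls r (Subgroup.mem_sup_left hr) a (Subgroup.mem_sup_right ha) t ht
    exact (commutatorElement_eq_one_iff_mul_comm.mp h1).symm
  have hZA' : ∀ z ∈ Z₀, ∀ a ∈ A, a * z = z * a := fun z hz a ha =>
    Subgroup.mem_centralizer_iff.mp (hZcen hz) a (Subgroup.mem_sup_right ha)
  have hZR' : ∀ z ∈ Z₀, ∀ r ∈ R, r * z = z * r := fun z hz r hr =>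
    Subgroup.mem_centralizer_iff.mp (hZcen hz) r (Subgroup.mem_sup_left hr)
  -- `Q` centralizes `C_R(A)`
  have hB : ∀ b ∈ R, (∀ a ∈ A, a * b = b * a) → ∀ x ∈ Q, b * x = x * b := by
    intro b hbR hbA x hx
    have hbA' : b ∈ A := h b hbR hbA
    have h1 : ⁅b, x⁆ ∈ Q := by
      rw [commutatorElement_def]
      exact Q.mul_mem ((Subgroup.mem_normalizer_iff.mp (hAQ hbA') x).mp hx) (Q.inv_mem hx)
    have h2 : ⁅b, x⁆ ∈ R := by
      have : ⁅b, x⁆ = b * (x * b⁻¹ * x⁻¹) := by rw [commutatorElement_def]; group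
      rw [this]
      exact R.mul_mem hbR (hRn.conj_mem _ (R.inv_mem hbR) x)
    exact commutatorElement_eq_one_iff_mul_comm.mp (hQR _ h1 h2)
  have hZQ : ∀ z ∈ Z₀, ∀ x ∈ Q, z * x = x * z := fun z hz x hx =>
    hB z (hZR hz) (hZA' z hz) x hx
  -- `C_Q(A)` centralizes `R`
  have hcopQ₁ : (Nat.card (Q ⊓ Subgroup.centralizer (A : Set G) : Subgroup G)).Coprime p :=
    Nat.Coprime.coprime_dvd_left (Subgroup.card_dvd_of_le inf_le_left) hQ
  have hstep3 : Q ⊓ Subgroup.centralizer (A : Set G) ≤ Subgroup.centralizer (R : Set G) := by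
    apply thompson_PQ p A (Q ⊓ Subgroup.centralizer (A : Set G)) R hA hcopQ₁ hR
    · intro a ha
      rw [Subgroup.mem_centralizer_iff]
      intro y hy
      exact (Subgroup.mem_centralizer_iff.mp hy.2 a ha).symm
    · rw [Subgroup.normalizer_eq_top_iff.mpr hRn]; exact le_top
    · rw [Subgroup.normalizer_eq_top_iff.mpr hRn]; exact le_top
    · rintro b ⟨hbR, hbA⟩
      rw [Subgroup.mem_centralizer_iff]
      intro y hy
      have hbA' : ∀ a ∈ A, a * b = b * a := Subgroup.mem_centralizer_iff.mp hbA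
      exact (hB b hbR hbA' y hy.1).symm
  -- the subgroup `D`
  let D : Subgroup G :=
    { carrier := {g | g ∈ Subgroup.centralizer (Z₀ : Set G) ∧ ∀ r ∈ R, ⁅r, g⁆ ∈ Z₀}
      one_mem' := ⟨Subgroup.one_mem _, fun r _ => by
        rw [commutatorElement_one_right]; exact Subgroup.one_mem _⟩
      mul_mem' := by
        rintro g k ⟨hg1, hg2⟩ ⟨hk1, hk2⟩
        refine ⟨Subgroup.mul_mem _ hg1 hk1, fun r hr => ?_⟩
        rw [comm_mul_aux]
        have h1 : g * ⁅r, k⁆ * g⁻¹ = ⁅r, k⁆ := by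
          have := Subgroup.mem_centralizer_iff.mp hg1 _ (hk2 r hr)
          rw [← this, mul_inv_cancel_right]
        rw [h1]
        exact Subgroup.mul_mem _ (hg2 r hr) (hk2 r hr)
      inv_mem' := by
        rintro g ⟨hg1, hg2⟩
        refine ⟨Subgroup.inv_mem _ hg1, fun r hr => ?_⟩
        rw [comm_inv_aux]
        have h0 : ⁅r, g⁆⁻¹ ∈ Z₀ := Subgroup.inv_mem _ (hg2 r hr)
        have h1 : g⁻¹ * ⁅r, g⁆⁻¹ * g = ⁅r, g⁆⁻¹ := by
          have := Subgroup.mem_centralizer_iff.mp hg1 _ h0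
          rw [mul_assoc, this, inv_mul_cancel_left]
        rw [h1]; exact h0 }
  have hDmem : ∀ g, g ∈ D ↔ g ∈ Subgroup.centralizer (Z₀ : Set G) ∧ ∀ r ∈ R, ⁅r, g⁆ ∈ Z₀ :=
    fun _ => Iff.rfl
  have hQcZ : Q ≤ Subgroup.centralizer (Z₀ : Set G) := by
    intro x hx
    rw [Subgroup.mem_centralizer_iff]
    intro z hz
    exact hZQ z hz x hx
  have hAcZ : A ≤ Subgroup.centralizer (Z₀ : Set G) := by
    intro a ha
    rw [Subgroup.mem_centralizer_iff]
    intro z hz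
    exact (hZA' z hz a ha).symm
  have hRcZ : R ≤ Subgroup.centralizer (Z₀ : Set G) := by
    intro r hr
    rw [Subgroup.mem_centralizer_iff]
    intro z hz
    exact (hZR' z hz r hr).symm
  have hstep4 : ⁅Q, A⁆ ≤ D := by
    rw [Subgroup.commutator_le]
    intro x hx a ha
    rw [hDmem]
    refine ⟨?_, fun r hr => ?_⟩
    · rw [commutatorElement_def]
      exact Subgroup.mul_mem _ (Subgroup.mul_mem _ (Subgroup.mul_mem _ (hQcZ hx) (hAcZ ha))
        (Subgroup.inv_mem _ (hQcZ hx))) (Subgroup.inv_mem _ (hAcZ ha))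
    · rw [hall_witt_aux]
      have hu : ⁅a⁻¹, r⁆ ∈ Z₀ := by
        rw [← hZ₀']; exact Subgroup.commutator_mem_commutator (A.inv_mem ha) hr
      have h1 : ⁅x⁻¹, ⁅a⁻¹, r⁆⁆ = 1 := by
        rw [commutatorElement_eq_one_iff_mul_comm]
        exact (hZQ _ hu _ (Q.inv_mem hx)).symm
      have hv : ⁅r⁻¹, x⁻¹⁆ ∈ R := by
        have : ⁅r⁻¹, x⁻¹⁆ = r⁻¹ * (x⁻¹ * r * x⁻¹⁻¹) := by rw [commutatorElement_def]; group
        rw [this]
        exact R.mul_mem (R.inv_mem hr) (hRn.conj_mem _ hr _)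
      have hw : ⁅a, ⁅r⁻¹, x⁻¹⁆⁆ ∈ Z₀ := by
        rw [← hZ₀']; exact Subgroup.commutator_mem_commutator ha hv
      have hw' : ⁅a, ⁅r⁻¹, x⁻¹⁆⁆⁻¹ ∈ Z₀ := Subgroup.inv_mem _ hw
      set w := ⁅a, ⁅r⁻¹, x⁻¹⁆⁆⁻¹ with hwdef
      rw [h1, inv_one, mul_one, mul_inv_cancel_right]
      have h2 : r * w = w * r := hZR' w hw' r hr
      have h3 : w * x = x * w := hZQ w hw' x hx
      have : x * r * w * r⁻¹ * x⁻¹ = w := by
        calc x * r * w * r⁻¹ * x⁻¹ = x * (r * w) * r⁻¹ * x⁻¹ := by group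
          _ = x * (w * r) * r⁻¹ * x⁻¹ := by rw [h2]
          _ = (x * w) * x⁻¹ := by group
          _ = (w * x) * x⁻¹ := by rw [h3]
          _ = w := by group
      rw [this]; exact hw'
  have hstep5 : ⁅Q, A⁆ ≤ Subgroup.centralizer (R : Set G) := by
    intro g hg
    have hgQ : g ∈ Q := commutator_le_left_of_le_normalizer Q A hAQ hg
    obtain ⟨hg1, hg2⟩ := (hDmem g).mp (hstep4 hg)
    rw [Subgroup.mem_centralizer_iff]
    intro r hr
    have hz := hg2 r hr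
    set z := ⁅r, g⁆ with hzdef
    have hzg : z * g = g * z := Subgroup.mem_centralizer_iff.mp hg1 z hz
    have h1 : r * g * r⁻¹ = z * g := by rw [hzdef, commutatorElement_def]; group
    have h2 : (z * g) ^ Nat.card Q = z ^ Nat.card Q * g ^ Nat.card Q :=
      (show Commute z g from hzg).mul_pow _
    have h3 : (r * g * r⁻¹) ^ Nat.card Q = 1 := by
      rw [conj_pow, hQpow g hgQ]; group
    rw [h1, h2, hQpow g hgQ, mul_one] at h3
    obtain ⟨k, hk⟩ := hRpow z (hZR hz)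
    have hz1 : z = 1 := Baer.eq_one_of_pow_coprime h3 hk (Nat.Coprime.pow_right k hQ)
    exact commutatorElement_eq_one_iff_mul_comm.mp hz1
  have hcop : (Nat.card A).Coprime (Nat.card Q) := by
    obtain ⟨k, hk⟩ := IsPGroup.iff_card.mp hA
    rw [hk]; exact (Nat.Coprime.pow_right k hQ).symm
  have hQeq := coprime_commutator_sup_centralizer A Q hAQ hcop
    (Or.inl (isSolvable_of_isPGroup p A hA))
  rw [← hQeq]
  exact sup_le hstep5 hstep3

end Cfsg.Agent.Lib.Helper4.TT
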