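import Mathlib
import Cfsg.Agent.Lib.Helper4.TT1
import Cfsg.Agent.Lib.Lead.SigCrit4

set_option autoImplicit false

/-! Transitivity theorem under `p`-constrained locals: signalizers in `p`-constrained groups whose
Sylow `p`-subgroups have class at most two. -/

namespace Cfsg.Agent.Lib.Helper4.TT

open scoped commutatorElement
open Cfsg.Agent.Lib.Lead

universe u

theorem isPGroup_zpowers_of_pow {X : Type u} [Group X] {p : ℕ} [hpp : Fact p.Prime] {u : X} {s : ℕ}
    (h : u ^ p ^ s = 1) : IsPGroup p (Subgroup.zpowers u) := by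
  rintro ⟨g, hg⟩
  refine ⟨s, ?_⟩
  obtain ⟨k, rfl⟩ := Subgroup.mem_zpowers_iff.mp hg
  apply Subtype.ext
  rw [Subgroup.coe_pow, Subgroup.coe_one]
  show (u ^ k) ^ p ^ s = 1
  rw [← zpow_natCast, ← zpow_mul, mul_comm, zpow_mul, zpow_natCast, h, one_zpow]

/-- lifting `p`-elements centralizing the image of `A` through a normal `p'`-subgroup -/
theorem lift_pelem {X : Type u} [Group X] [Finite X] {p : ℕ} [hpp : Fact p.Prime] (N : Subgroup X)
    [hNn : N.Normal] (hN : (Nat.card N).Coprime p) (A : Subgroup X) (hA : IsPGroup p A)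
    (hfull : ∀ x ∈ Subgroup.centralizer (A : Set X), IsPGroup p (Subgroup.zpowers x) → x ∈ A)
    (r : X ⧸ N) (k : ℕ) (hr : r ^ p ^ k = 1)
    (hrA : ∀ a ∈ A, (QuotientGroup.mk' N a) * r = r * (QuotientGroup.mk' N a)) :
    r ∈ A.map (QuotientGroup.mk' N) := by
  classical
  set π := QuotientGroup.mk' N with hπ
  obtain ⟨x₀, hx₀⟩ := QuotientGroup.mk'_surjective N r
  let F := {y : X // π y = r}
  have hFN : Nat.card F = Nat.card N := by
    apply Nat.card_congr
    refine
      { toFun := fun y => ⟨x₀⁻¹ * y.1, ?_⟩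
        invFun := fun n => ⟨x₀ * n.1, ?_⟩
        left_inv := fun y => Subtype.ext (by simp)
        right_inv := fun n => Subtype.ext (by simp) }
    · rw [← QuotientGroup.eq_one_iff, ← QuotientGroup.mk'_apply, ← hπ, map_mul, map_inv, hx₀, y.2,
        inv_mul_cancel]
    · show π (x₀ * n.1) = r
      rw [map_mul, hx₀]
      have : π n.1 = 1 := by
        rw [hπ, QuotientGroup.mk'_apply, QuotientGroup.eq_one_iff]; exact n.2
      rw [this, mul_one]
  haveI : Finite F := inferInstance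
  letI : MulAction ↥A F :=
    { smul := fun a y => ⟨a * y.1 * (a : X)⁻¹, by
        show π (a * y.1 * (a : X)⁻¹) = r
        rw [map_mul, map_mul, map_inv, y.2, hrA a a.2, mul_inv_cancel_right]⟩
      one_smul := fun y => Subtype.ext (by
        show ((1 : ↥A) : X) * y.1 * ((1 : ↥A) : X)⁻¹ = y.1
        simp)
      mul_smul := fun a b y => Subtype.ext (by
        show ((a * b : ↥A) : X) * y.1 * ((a * b : ↥A) : X)⁻¹ = a * (b * y.1 * (b : X)⁻¹) * (a : X)⁻¹
        rw [Subgroup.coe_mul]; group) }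
  have hsmul : ∀ (a : ↥A) (y : F), (a • y).1 = a * y.1 * (a : X)⁻¹ := fun _ _ => rfl
  have hnd : ¬ p ∣ Nat.card F := by
    rw [hFN]
    exact (Nat.Prime.coprime_iff_not_dvd hpp.out).mp hN.symm
  obtain ⟨y, hy⟩ := hA.nonempty_fixed_point_of_prime_not_dvd_card F hnd
  have hyC : y.1 ∈ Subgroup.centralizer (A : Set X) := by
    rw [Subgroup.mem_centralizer_iff]
    intro a ha
    have h1 := congrArg Subtype.val (hy ⟨a, ha⟩)
    rw [hsmul] at h1
    calc a * y.1 = (a * y.1 * a⁻¹) * a := by group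
      _ = y.1 * a := by rw [h1]
  rcases Nat.eq_zero_or_pos k with hk0 | hk0
  · rw [hk0, pow_zero, pow_one] at hr
    rw [hr]; exact Subgroup.one_mem _
  have ho : orderOf y.1 ≠ 0 := (orderOf_pos y.1).ne'
  obtain ⟨s, m, hm, hsm⟩ := Nat.exists_eq_pow_mul_and_not_dvd ho p hpp.out.ne_one
  have hmcop : Nat.Coprime m (p ^ k) :=
    Nat.Coprime.pow_right k ((Nat.Prime.coprime_iff_not_dvd hpp.out).mpr hm).symm
  have hpk1 : 1 < p ^ k := Nat.one_lt_pow hk0.ne' hpp.out.one_lt
  obtain ⟨m', -, hm'⟩ := Nat.exists_mul_mod_eq_one_of_coprime hmcop hpk1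
  set j := m * m' with hj
  set u := y.1 ^ j with hu
  have huC : u ∈ Subgroup.centralizer (A : Set X) := Subgroup.pow_mem _ hyC j
  have hπu : π u = r := by
    rw [hu, map_pow, y.2]
    have : j = p ^ k * (j / p ^ k) + 1 := by
      have := Nat.div_add_mod j (p ^ k)
      rw [hm'] at this
      exact this.symm
    rw [this, pow_succ, pow_mul, hr, one_pow, one_mul]
  have hups : u ^ p ^ s = 1 := by
    rw [hu, ← pow_mul]
    have : j * p ^ s = orderOf y.1 * m' := by rw [hj, hsm]; ring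
    rw [this, pow_mul, pow_orderOf_eq_one, one_pow]
  exact ⟨u, hfull u huC (isPGroup_zpowers_of_pow hups), hπu⟩

/-- **Theorem** (signalizers in `p`-constrained groups, class two version): `X` `p`-constrained with Sylow
`p`-subgroups of class at most two, `A` a `p`-subgroup containing every `p`-element of its centralizer.
Every `p'`-subgroup normalized by `A` lies in `O_{p'}(X)`. -/
theorem signalizer_le_pPrimeCore_cls2 {X : Type u} [Group X] [Finite X] (p : ℕ) [hpp : Fact p.Prime]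
    (hX : Cfsg.IsPConstrained p X) (hcls : ∀ S : Sylow p X, Cls2 (S : Subgroup X))
    (A : Subgroup X) (hAp : IsPGroup p ↥A)
    (hfull : ∀ x ∈ Subgroup.centralizer (A : Set X), IsPGroup p (Subgroup.zpowers x) → x ∈ A)
    (Q : Subgroup X) (hQ : ¬ p ∣ Nat.card ↥Q) (hAQ : A ≤ Subgroup.normalizer (Q : Set X)) :
    Q ≤ Cfsg.pPrimeCore p X := by
  classical
  set N := Cfsg.pPrimeCore p X with hNdef
  set π := QuotientGroup.mk' N with hπ
  have hπs : Function.Surjective π := QuotientGroup.mk'_surjective N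
  have hN : (Nat.card N).Coprime p := Cfsg.Agent.Lib.Helper6.pPrimeCore_coprime p
  haveI : (Cfsg.pCore p (X ⧸ N)).Normal := Cfsg.Agent.Lib.Lead.pCore_normal p
  have hR : IsPGroup p (Cfsg.pCore p (X ⧸ N)) := Cfsg.Agent.Lib.Lead.pCore_isPGroup p
  have hcons := (Cfsg.Agent.Lib.Helper2.PConstrained.isPConstrained_iff_quot).mp hX
  have hQcop : (Nat.card Q).Coprime p := ((Nat.Prime.coprime_iff_not_dvd hpp.out).mpr hQ).symm
  have hQ' : (Nat.card (Q.map π)).Coprime p :=
    Nat.Coprime.coprime_dvd_left (Subgroup.card_map_dvd Q π) hQcop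
  have hAQ' : A.map π ≤ Subgroup.normalizer ((Q.map π : Subgroup (X ⧸ N)) : Set (X ⧸ N)) :=
    (Subgroup.map_mono hAQ).trans (Subgroup.le_normalizer_map π)
  have hcls' : Cls2 (Cfsg.pCore p (X ⧸ N) ⊔ A.map π) := by
    have h1 : IsPGroup p (Cfsg.pCore p (X ⧸ N) ⊔ A.map π : Subgroup (X ⧸ N)) :=
      IsPGroup.to_sup_of_normal_left hR (hAp.map π)
    obtain ⟨P, hP⟩ := h1.exists_le_sylow
    obtain ⟨S, hS⟩ := Sylow.mapSurjective_surjective hπs p P
    have h2 : (P : Subgroup (X ⧸ N)) = (S : Subgroup X).map π := by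
      rw [← hS]; rfl
    have h3 : Cls2 (P : Subgroup (X ⧸ N)) := by
      rw [h2]; exact (hcls S).map π
    exact h3.mono hP
  have key : Q.map π ≤ Subgroup.centralizer ((Cfsg.pCore p (X ⧸ N) : Subgroup (X ⧸ N)) : Set (X ⧸ N)) := by
    apply le_centralizer_of_cls2 (Cfsg.pCore p (X ⧸ N)) hR (A.map π) (Q.map π)
      (hAp.map π) hQ' hAQ' _ hcls'
    intro r hrR hrA
    obtain ⟨k, hk⟩ := hR ⟨r, hrR⟩
    have hk' : r ^ p ^ k = 1 := by
      have := congrArg Subtype.val hk
      simpa only [Subgroup.coe_pow, Subgroup.coe_one] using this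
    apply lift_pelem N hN A hAp hfull r k hk'
    intro a ha
    exact hrA (π a) ⟨a, ha, rfl⟩
  have h1 : Q.map π ≤ Cfsg.pCore p (X ⧸ N) := key.trans hcons
  intro q hq
  have h2 : π q ∈ Cfsg.pCore p (X ⧸ N) := h1 ⟨q, hq, rfl⟩
  obtain ⟨k, hk⟩ := hR ⟨π q, h2⟩
  have hk' : (π q) ^ p ^ k = 1 := by
    have := congrArg Subtype.val hk
    simpa only [Subgroup.coe_pow, Subgroup.coe_one] using this
  have h3 : (π q) ^ Nat.card Q = 1 := by
    have h4 := pow_card_eq_one' (G := ↥Q) (x := ⟨q, hq⟩)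
    have h5 : q ^ Nat.card Q = 1 := by
      have := congrArg Subtype.val h4
      simpa only [Subgroup.coe_pow, Subgroup.coe_one] using this
    rw [← map_pow, h5, map_one]
  have h6 : π q = 1 := Baer.eq_one_of_pow_coprime h3 hk' (Nat.Coprime.pow_right k hQcop)
  rw [hπ, QuotientGroup.mk'_apply, QuotientGroup.eq_one_iff] at h6
  exact h6

end Cfsg.Agent.Lib.Helper4.TT
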