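import Mathlib
import Cfsg.Agent.Lib.Helper4.TT2
import Cfsg.Agent.Lib.Helper4.BG76c

set_option autoImplicit false

/-! Transitivity theorem under `p`-constrained locals: the local signalizer containers and the structure
of `C_G(E)`. -/

namespace Cfsg.Agent.Lib.Helper4.TT

open scoped commutatorElement
open Cfsg Cfsg.Agent.Lib.Lead Cfsg.Agent.Lib.Helper4 Cfsg.Agent.Lib.Helper4.BG7
open Cfsg.Agent.Lib.Helper4.BG76

universe u

variable {G : Type u} [Group G] [Finite G]

/-- the class two hypothesis descends to subgroups -/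
theorem cls2_sylow_subgroup (p : ℕ) [Fact p.Prime]
    (h2 : ∀ S : Sylow p G, Group.IsNilpotent (S : Subgroup G) ∧
      Group.nilpotencyClass (S : Subgroup G) ≤ 2) (X : Subgroup G) (S : Sylow p ↥X) :
    Cls2 (S : Subgroup ↥X) := by
  have h1 : IsPGroup p ((S : Subgroup ↥X).map X.subtype) := S.isPGroup'.map _
  obtain ⟨S', hS'⟩ := h1.exists_le_sylow
  obtain ⟨hn, hc⟩ := h2 S'
  haveI := hn
  have h3 : Cls2 (S' : Subgroup G) := cls2_of_nilpotencyClass_le _ hc
  exact Cls2.of_map X.subtype X.subtype_injective (h3.mono hS')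

/-- **Lemma A**: for `a ∈ E#` there is an `E`-invariant `p'`-subgroup containing every `E`-invariant
`p'`-subgroup of `C_G(a)`. -/
theorem exists_local_core (p : ℕ) [hpp : Fact p.Prime]
    (hloc : ∀ T : Subgroup G, IsPGroup p T → T ≠ ⊥ →
      Cfsg.IsPConstrained p ↥(Subgroup.normalizer (T : Set G)))
    (h2 : p = 2 → ∀ S : Sylow p G, Group.IsNilpotent (S : Subgroup G) ∧
      Group.nilpotencyClass (S : Subgroup G) ≤ 2)
    (E : Subgroup G) (hEp : IsPGroup p E) (hEc : IsMulCommutative E)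
    (hEfull : ∀ x ∈ Subgroup.centralizer (E : Set G), IsPGroup p (Subgroup.zpowers x) → x ∈ E)
    (a : G) (haE : a ∈ E) (ha1 : a ≠ 1) :
    ∃ M : Subgroup G, E ≤ Subgroup.normalizer (M : Set G) ∧ (Nat.card M).Coprime p ∧
      ∀ V : Subgroup G, V ≤ Subgroup.centralizer ({a} : Set G) → ¬ p ∣ Nat.card V →
        E ≤ Subgroup.normalizer (V : Set G) → V ≤ M := by
  classical
  set T := Subgroup.zpowers a with hT
  have hTE : T ≤ E := Subgroup.zpowers_le.mpr haE
  have hTp : IsPGroup p T := hEp.to_le hTE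
  have hT1 : T ≠ ⊥ := by
    intro h0
    apply ha1
    have : a ∈ T := Subgroup.mem_zpowers a
    rw [h0, Subgroup.mem_bot] at this
    exact this
  set X := Subgroup.normalizer (T : Set G) with hX
  have hXc : Cfsg.IsPConstrained p ↥X := hloc T hTp hT1
  have hCX : Subgroup.centralizer ({a} : Set G) ≤ X := by
    intro g hg
    have h1 : g ∈ Subgroup.centralizer (T : Set G) := by
      rw [Subgroup.mem_centralizer_iff]
      intro t ht
      obtain ⟨k, rfl⟩ := Subgroup.mem_zpowers_iff.mp ht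
      have h3 : Commute g a := Subgroup.mem_centralizer_singleton_iff.mp hg
      exact (h3.symm.zpow_left k).eq
    exact Subgroup.centralizer_le_normalizer _ h1
  have hEca : E ≤ Subgroup.centralizer ({a} : Set G) := by
    intro e he
    rw [Subgroup.mem_centralizer_singleton_iff]
    have := hEc.is_comm.comm ⟨e, he⟩ ⟨a, haE⟩
    exact congrArg Subtype.val this
  have hEX : E ≤ X := hEca.trans hCX
  set E' := E.subgroupOf X with hE'
  have hE'p : IsPGroup p E' := hEp.comap_subtype
  have hfull' : ∀ x ∈ Subgroup.centralizer (E' : Set ↥X), IsPGroup p (Subgroup.zpowers x) → x ∈ E' := by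
    intro x hx hxp
    rw [hE', Subgroup.mem_subgroupOf]
    apply hEfull
    · rw [Subgroup.mem_centralizer_iff]
      intro e he
      have h1 : (⟨e, hEX he⟩ : ↥X) ∈ E' := by rw [hE', Subgroup.mem_subgroupOf]; exact he
      have h2 := Subgroup.mem_centralizer_iff.mp hx _ h1
      exact congrArg Subtype.val h2
    · have h1 : Subgroup.zpowers (x : G) = (Subgroup.zpowers x).map X.subtype := by
        rw [MonoidHom.map_zpowers]; rfl
      rw [h1]; exact hxp.map _
  refine ⟨cG p X, hEX.trans (le_normalizer_cG p X), card_cG_coprime p X, ?_⟩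
  intro V hVa hVp hEV
  have hVX : V ≤ X := hVa.trans hCX
  apply le_cG_of_subgroupOf_le hVX
  have hVp' : ¬ p ∣ Nat.card (V.subgroupOf X) := by rw [card_subgroupOf_of_le hVX]; exact hVp
  have hEV' := subgroupOf_le_normalizer_subgroupOf X hEV
  by_cases hp : p = 2
  · exact signalizer_le_pPrimeCore_cls2 p hXc (cls2_sylow_subgroup p (h2 hp) X) E' hE'p hfull'
      (V.subgroupOf X) hVp' hEV'
  · apply SigCrit.signalizer_le_pPrimeCore p hp hXc E' hE'p _ (V.subgroupOf X) hVp' hEV'
    intro x hx hox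
    apply hfull' x hx
    apply isPGroup_zpowers_of_pow (s := 1)
    rw [pow_one, ← hox, pow_orderOf_eq_one]

/-- **Lemma B**: the `p'`-elements of `C_G(E)` lie in `O_{p'}(C_G(E))`. -/
theorem mem_cG_centralizer (p : ℕ) [hpp : Fact p.Prime] (E : Subgroup G) (hEp : IsPGroup p E)
    (hEc : IsMulCommutative E)
    (hEfull : ∀ x ∈ Subgroup.centralizer (E : Set G), IsPGroup p (Subgroup.zpowers x) → x ∈ E)
    (c : G) (hcE : c ∈ Subgroup.centralizer (E : Set G)) (n : ℕ) (hn : n.Coprime p) (hc : c ^ n = 1) :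
    c ∈ cG p (Subgroup.centralizer (E : Set G)) := by
  classical
  set C := Subgroup.centralizer (E : Set G) with hC
  have hEC : E ≤ C := by
    intro e he
    rw [hC, Subgroup.mem_centralizer_iff]
    intro h hh
    have := hEc.is_comm.comm ⟨h, hh⟩ ⟨e, he⟩
    exact congrArg Subtype.val this
  set E' := E.subgroupOf C with hE'
  have hE'p : IsPGroup p E' := hEp.comap_subtype
  have hE'cen : ∀ e ∈ E', ∀ x : ↥C, e * x = x * e := by
    intro e he x
    apply Subtype.ext
    rw [Subgroup.coe_mul, Subgroup.coe_mul]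
    exact Subgroup.mem_centralizer_iff.mp x.2 _ (Subgroup.mem_subgroupOf.mp he)
  haveI hE'n : E'.Normal := ⟨fun e he x => by
    rw [← hE'cen e he x, mul_inv_cancel_right]; exact he⟩
  obtain ⟨P, hP⟩ := hE'p.exists_le_sylow
  have hPE : (P : Subgroup ↥C) ≤ E' := by
    intro y hy
    rw [hE', Subgroup.mem_subgroupOf]
    apply hEfull _ y.2
    have h1 : IsPGroup p (Subgroup.zpowers y) := P.isPGroup'.to_le (Subgroup.zpowers_le.mpr hy)
    have h2 : Subgroup.zpowers (y : G) = (Subgroup.zpowers y).map C.subtype := by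
      rw [MonoidHom.map_zpowers]; rfl
    rw [h2]; exact h1.map _
  have hPeq : (P : Subgroup ↥C) = E' := le_antisymm hPE hP
  have hidx : ¬ p ∣ E'.index := by rw [← hPeq]; exact P.not_dvd_index
  have hcop : (Nat.card E').Coprime E'.index := by
    obtain ⟨k, hk⟩ := IsPGroup.iff_card.mp hE'p
    rw [hk]
    exact Nat.Coprime.pow_left k ((Nat.Prime.coprime_iff_not_dvd hpp.out).mpr hidx)
  obtain ⟨H, hH⟩ := Subgroup.exists_right_complement'_of_coprime hcop
  have hdisj : E' ⊓ H = ⊥ := hH.disjoint.eq_bot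
  have hsup : E' ⊔ H = ⊤ := hH.sup_eq_top
  have hdec : ∀ x : ↥C, ∃ e ∈ E', ∃ h ∈ H, e * h = x := by
    intro x
    have hx : x ∈ E' ⊔ H := by rw [hsup]; trivial
    exact Subgroup.mem_sup_of_normal_left.mp hx
  have hHn : H.Normal := by
    refine ⟨fun h hh x => ?_⟩
    obtain ⟨e, he, k, hk, rfl⟩ := hdec x
    have h1 : e * k * h * (e * k)⁻¹ = e * (k * h * k⁻¹) * e⁻¹ := by group
    rw [h1, hE'cen e he, mul_inv_cancel_right]
    exact H.mul_mem (H.mul_mem hk hh) (H.inv_mem hk)
  have hHcop : (Nat.card H).Coprime p := by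
    rw [← hH.symm.index_eq_card]
    exact ((Nat.Prime.coprime_iff_not_dvd hpp.out).mpr hidx).symm
  obtain ⟨e, he, h, hh, hehc⟩ := hdec ⟨c, hcE⟩
  have hcn : (⟨c, hcE⟩ : ↥C) ^ n = 1 := by
    apply Subtype.ext
    rw [Subgroup.coe_pow, Subgroup.coe_one]; exact hc
  rw [← hehc, (show Commute e h from hE'cen e he h).mul_pow] at hcn
  have hen : e ^ n ∈ E' ⊓ H := by
    refine ⟨E'.pow_mem he n, ?_⟩
    have : e ^ n = (h ^ n)⁻¹ := eq_inv_of_mul_eq_one_left hcn
    rw [this]; exact H.inv_mem (H.pow_mem hh n)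
  rw [hdisj, Subgroup.mem_bot] at hen
  obtain ⟨k, hk⟩ := hE'p ⟨e, he⟩
  have hk' : e ^ p ^ k = 1 := by
    have := congrArg Subtype.val hk
    simpa only [Subgroup.coe_pow, Subgroup.coe_one] using this
  have he1 : e = 1 := Baer.eq_one_of_pow_coprime hen hk' (Nat.Coprime.pow_right k hn)
  rw [he1, one_mul] at hehc
  have hHle : H ≤ pPrimeCore p ↥C := Cfsg.Agent.Lib.Helper6.le_pPrimeCore hHn hHcop
  refine ⟨⟨c, hcE⟩, hHle ?_, rfl⟩
  rw [← hehc]; exact hh

/-- `O_{p'}` through `primesNotDvd p` -/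
theorem piCoreOf_primesNotDvd_eq (p : ℕ) [hp : Fact p.Prime] (H : Subgroup G) :
    piCoreOf (primesNotDvd p) H = cG p H := by
  have key : ∀ m : ℕ, (∀ r : ℕ, r.Prime → r ∣ m → r ∈ primesNotDvd p) ↔ m.Coprime p := by
    intro m
    constructor
    · intro h
      rw [Nat.coprime_comm, Nat.Prime.coprime_iff_not_dvd hp.out]
      intro hpm
      exact (h p hp.out hpm).2 dvd_rfl
    · intro h r hr hrm
      refine ⟨hr, ?_⟩
      intro hrp
      have h1 : r = p := (Nat.prime_dvd_prime_iff_eq hr hp.out).mp hrp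
      rw [h1] at hrm
      rw [Nat.coprime_comm, Nat.Prime.coprime_iff_not_dvd hp.out] at h
      exact h hrm
  unfold piCoreOf cG
  congr 1
  unfold piCore pPrimeCore
  congr 1
  ext N
  simp only [Set.mem_setOf_eq]
  rw [key]

end Cfsg.Agent.Lib.Helper4.TT
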