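import Mathlib
import Cfsg.Agent.Lib.Helper4.TT3
import Cfsg.Agent.Lib.Helper4.BG7d

set_option autoImplicit false
open Pointwise

/-! Transitivity theorem under `p`-constrained locals: the bridging induction. -/

namespace Cfsg.Agent.Lib.Helper4.TT

open Cfsg Cfsg.Agent.Lib.Lead Cfsg.Agent.Lib.Helper4 Cfsg.Agent.Lib.Helper4.BG7
open Cfsg.Agent.Lib.Helper4.BG76

universe u

variable {G : Type u} [Group G] [Finite G]

omit [Finite G] in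
theorem le_normalizer_sup' {A B C : Subgroup G} (hB : A ≤ Subgroup.normalizer (B : Set G))
    (hC : A ≤ Subgroup.normalizer (C : Set G)) :
    A ≤ Subgroup.normalizer ((B ⊔ C : Subgroup G) : Set G) := by
  have key : ∀ g, g ∈ Subgroup.normalizer (B : Set G) → g ∈ Subgroup.normalizer (C : Set G) →
      ∀ x ∈ B ⊔ C, g * x * g⁻¹ ∈ B ⊔ C := by
    intro g hgB hgC x hx
    have h1 : B ⊔ C ≤ (B ⊔ C).comap (MulAut.conj g).toMonoidHom := by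
      apply sup_le
      · intro b hb
        exact Subgroup.mem_sup_left ((Subgroup.mem_normalizer_iff.mp hgB b).mp hb)
      · intro c hc
        exact Subgroup.mem_sup_right ((Subgroup.mem_normalizer_iff.mp hgC c).mp hc)
    exact h1 hx
  intro a ha
  rw [Subgroup.mem_normalizer_iff]
  intro x
  constructor
  · exact key a (hB ha) (hC ha) x
  · intro hx
    have h2 := key a⁻¹ (Subgroup.inv_mem _ (hB ha)) (Subgroup.inv_mem _ (hC ha)) _ hx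
    have h3 : a⁻¹ * (a * x * a⁻¹) * a⁻¹⁻¹ = x := by group
    rwa [h3] at h2

/-- invariant Sylow subgroups in a coprime invariant subgroup -/
theorem exists_inv_sylow_pair' {A L U₁ U₂ : Subgroup G} (hAL : A ≤ Subgroup.normalizer (L : Set G))
    (hcop : (Nat.card A).Coprime (Nat.card L))
    (hsolv : Group.IsSolvable A ∨ Group.IsSolvable L) {q : ℕ} [Fact q.Prime]
    (h₁L : U₁ ≤ L) (h₁q : IsPGroup q U₁) (h₁A : A ≤ Subgroup.normalizer (U₁ : Set G))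
    (h₂L : U₂ ≤ L) (h₂q : IsPGroup q U₂) (h₂A : A ≤ Subgroup.normalizer (U₂ : Set G)) :
    ∃ S₁ S₂ : Subgroup G, U₁ ≤ S₁ ∧ U₂ ≤ S₂ ∧ IsPGroup q S₁ ∧ IsPGroup q S₂ ∧
      A ≤ Subgroup.normalizer (S₁ : Set G) ∧ A ≤ Subgroup.normalizer (S₂ : Set G) ∧
      ∃ c ∈ L ⊓ Subgroup.centralizer (A : Set G), S₂ = S₁.map (MulAut.conj c).toMonoidHom := by
  obtain ⟨P₁, hP₁U, hP₁A⟩ := Cfsg.Agent.S0025.result A L hAL hcop hsolv q U₁ h₁L h₁q h₁A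
  obtain ⟨P₂, hP₂U, hP₂A⟩ := Cfsg.Agent.S0025.result A L hAL hcop hsolv q U₂ h₂L h₂q h₂A
  obtain ⟨c, hcA, hc⟩ := Cfsg.Agent.S0024.result A L hAL hcop hsolv q P₁ P₂ hP₁A hP₂A
  exact ⟨_, _, hP₁U, hP₂U, P₁.isPGroup'.map _, P₂.isPGroup'.map _, hP₁A, hP₂A, (c : G), ⟨c.2, hcA⟩,
    conj_sylow_map P₁ P₂ c hc⟩

/-- the bridging argument, general form -/
theorem bridge' {A : Subgroup G} {q : ℕ} [Fact q.Prime] {L U₁ U₂ Q₁ Q₂ : Subgroup G}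
    (hAL : A ≤ Subgroup.normalizer (L : Set G)) (hcop : (Nat.card A).Coprime (Nat.card L))
    (hsolv : Group.IsSolvable A ∨ Group.IsSolvable L)
    (hLK : L ⊓ Subgroup.centralizer (A : Set G) ≤ KA A)
    (h₁L : U₁ ≤ L) (h₂L : U₂ ≤ L) (h₁q : IsPGroup q U₁) (h₂q : IsPGroup q U₂)
    (h₁A : A ≤ Subgroup.normalizer (U₁ : Set G)) (h₂A : A ≤ Subgroup.normalizer (U₂ : Set G))
    (hyp : ∀ Q ∈ maxInvSubgroups ⊤ A {q}, ∀ Q' ∈ maxInvSubgroups ⊤ A {q},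
      (U₁ ≤ Q ⊓ Q' ∨ U₂ ≤ Q ⊓ Q') → KConj A Q Q')
    (hQ₁ : Q₁ ∈ maxInvSubgroups ⊤ A {q}) (hQ₂ : Q₂ ∈ maxInvSubgroups ⊤ A {q})
    (h₁Q : U₁ ≤ Q₁) (h₂Q : U₂ ≤ Q₂) : KConj A Q₁ Q₂ := by
  obtain ⟨S₁, S₂, hU₁S, hU₂S, hS₁q, hS₂q, hS₁A, hS₂A, c, hc, hS⟩ :=
    exists_inv_sylow_pair' hAL hcop hsolv h₁L h₁q h₁A h₂L h₂q h₂A
  have hcK : c ∈ KA A := hLK hc
  obtain ⟨Q₃, hQ₃, hS₁Q⟩ := exists_maxInv_ge (A := A) (π := {q}) (R := S₁)
    ⟨le_top, isPiNum_singleton_of_isPGroup hS₁q, hS₁A⟩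
  obtain ⟨Q₄, hQ₄, hS₂Q⟩ := exists_maxInv_ge (A := A) (π := {q}) (R := S₂)
    ⟨le_top, isPiNum_singleton_of_isPGroup hS₂q, hS₂A⟩
  have hQ₃c := map_conj_mem_maxInv (KA_le_centralizer A hcK) hQ₃
  have e1 : KConj A Q₁ Q₃ := hyp Q₁ hQ₁ Q₃ hQ₃ (Or.inl (le_inf h₁Q (hU₁S.trans hS₁Q)))
  have e2 : KConj A Q₃ (Q₃.map (MulAut.conj c).toMonoidHom) := ⟨c, hcK, rfl⟩
  have hS₂Q' : S₂ ≤ Q₃.map (MulAut.conj c).toMonoidHom := by
    rw [hS]; exact Subgroup.map_mono hS₁Q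
  have e3 : KConj A (Q₃.map (MulAut.conj c).toMonoidHom) Q₄ :=
    hyp _ hQ₃c Q₄ hQ₄ (Or.inr (le_inf (hU₂S.trans hS₂Q') (hU₂S.trans hS₂Q)))
  have e4 : KConj A Q₄ Q₂ := hyp Q₄ hQ₄ Q₂ hQ₂ (Or.inr (le_inf (hU₂S.trans hS₂Q) h₂Q))
  exact ((e1.trans e2).trans e3).trans e4

/-- the transitivity induction -/
theorem kconj_all (p : ℕ) [hpp : Fact p.Prime] (E : Subgroup G) (hEp : IsPGroup p E)
    (hEc : IsMulCommutative E) (E₁ : Subgroup G) (hE₁E : E₁ ≤ E) (hE₁ : IsElementaryAbelian p E₁)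
    (hE₁3 : p ^ 2 < Nat.card E₁)
    (hA : ∀ a ∈ E, a ≠ 1 → ∃ M : Subgroup G, E ≤ Subgroup.normalizer (M : Set G) ∧
      (Nat.card M).Coprime p ∧
      ∀ V : Subgroup G, V ≤ Subgroup.centralizer ({a} : Set G) → ¬ p ∣ Nat.card V →
        E ≤ Subgroup.normalizer (V : Set G) → V ≤ M)
    (hB : ∀ c ∈ Subgroup.centralizer (E : Set G), ∀ n : ℕ, n.Coprime p → c ^ n = 1 → c ∈ KA E)
    {q : ℕ} [hq : Fact q.Prime] (hqp : q ≠ p) :
    ∀ n : ℕ, ∀ Q₁ ∈ maxInvSubgroups ⊤ E {q}, ∀ Q₂ ∈ maxInvSubgroups ⊤ E {q},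
      Nat.card G - Nat.card (Q₁ ⊓ Q₂ : Subgroup G) = n → KConj E Q₁ Q₂ := by
  intro n
  induction n using Nat.strong_induction_on with
  | _ n ih =>
  intro Q₁ hQ₁ Q₂ hQ₂ hn
  set D := Q₁ ⊓ Q₂ with hD
  by_cases hDQ₁ : D = Q₁
  · have h1 : Q₁ ≤ Q₂ := by rw [← hDQ₁]; exact inf_le_right
    have h2 := hQ₁.2 Q₂ hQ₂.1 h1
    rw [h2]; exact KConj.refl E Q₁
  by_cases hDQ₂ : D = Q₂
  · have h1 : Q₂ ≤ Q₁ := by rw [← hDQ₂]; exact inf_le_left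
    have h2 := hQ₂.2 Q₁ hQ₁.1 h1
    rw [h2]; exact KConj.refl E Q₂
  have hQ₁q := isPGroup_of_mem_maxInv hQ₁
  have hQ₂q := isPGroup_of_mem_maxInv hQ₂
  have hDq : IsPGroup q D := hQ₁q.to_le inf_le_left
  obtain ⟨y₁, hy₁Q, hy₁D, hy₁N⟩ :=
    Cfsg.Agent.Lib.Helper4.CNMax.exists_normalizer_not_mem hQ₁q.isNilpotent (inf_le_left : D ≤ Q₁) hDQ₁
  obtain ⟨y₂, hy₂Q, hy₂D, hy₂N⟩ :=
    Cfsg.Agent.Lib.Helper4.CNMax.exists_normalizer_not_mem hQ₂q.isNilpotent (inf_le_right : D ≤ Q₂) hDQ₂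
  set N := Subgroup.normalizer (D : Set G) with hN
  have hED : E ≤ N := (le_inf hQ₁.1.2.2 hQ₂.1.2.2).trans (normalizer_inf_le' Q₁ Q₂)
  have hEN : E ≤ Subgroup.normalizer (N : Set G) := hED.trans Subgroup.le_normalizer
  have hqgrp : ∀ Y : Subgroup G, IsPGroup q Y → ¬ p ∣ Nat.card Y := by
    intro Y hY hpY
    obtain ⟨k, hk⟩ := IsPGroup.iff_card.mp hY
    rw [hk] at hpY
    have := hpp.out.dvd_of_dvd_pow hpY
    exact hqp ((Nat.prime_dvd_prime_iff_eq hpp.out hq.out).mp this).symm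
  have hside : ∀ Q : Subgroup G, Q ∈ maxInvSubgroups ⊤ E {q} → ∀ y ∈ Q, y ∉ D → y ∈ N →
      ∃ B : Subgroup G, B ≤ E₁ ∧ B.relIndex E₁ ≤ p ∧
        ¬ (Q ⊓ N ⊓ Subgroup.centralizer (B : Set G) ≤ D) := by
    intro Q hQ y hyQ hyD hyN
    have hQq := isPGroup_of_mem_maxInv hQ
    have hRq : IsPGroup q (Q ⊓ N : Subgroup G) := hQq.to_le inf_le_left
    have hER : E ≤ Subgroup.normalizer ((Q ⊓ N : Subgroup G) : Set G) :=
      (le_inf hQ.1.2.2 hEN).trans (normalizer_inf_le' Q N)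
    have hgen := Cfsg.Agent.S1324.result p E₁ (Q ⊓ N) hE₁ hE₁3.le (hqgrp _ hRq) (hE₁E.trans hER)
    by_contra hcon
    push Not at hcon
    have hle : Q ⊓ N ≤ D := by
      rw [hgen]
      apply iSup_le
      rintro ⟨B, hBE, hBi⟩
      exact hcon B hBE hBi
    exact hyD (hle ⟨hyQ, hyN⟩)
  obtain ⟨B₁, hB₁E, hB₁i, hB₁⟩ := hside Q₁ hQ₁ y₁ hy₁Q hy₁D hy₁N
  obtain ⟨B₂, hB₂E, hB₂i, hB₂⟩ := hside Q₂ hQ₂ y₂ hy₂Q hy₂D hy₂N
  have hB12 := hyperplanes_inf_ne_bot hE₁ hE₁3 hB₁E hB₂E hB₁i hB₂i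
  obtain ⟨a, haB, ha1⟩ : ∃ a ∈ B₁ ⊓ B₂, a ≠ 1 := by
    by_contra hcon
    push Not at hcon
    apply hB12
    rw [eq_bot_iff]
    intro x hx
    rw [Subgroup.mem_bot]; exact hcon x hx
  have haE : a ∈ E := hE₁E (hB₁E haB.1)
  obtain ⟨M, hEM, hMp, hMV⟩ := hA a haE ha1
  have hEca : E ≤ Subgroup.centralizer ({a} : Set G) := by
    intro e he
    rw [Subgroup.mem_centralizer_singleton_iff]
    have := hEc.is_comm.comm ⟨e, he⟩ ⟨a, haE⟩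
    exact congrArg Subtype.val this
  set L := (M ⊓ N) ⊔ D with hL
  have hside2 : ∀ Q : Subgroup G, Q ∈ maxInvSubgroups ⊤ E {q} → D ≤ Q → ∀ B : Subgroup G, a ∈ B →
      ¬ (Q ⊓ N ⊓ Subgroup.centralizer (B : Set G) ≤ D) →
      ∃ U : Subgroup G, U ≤ L ∧ IsPGroup q U ∧ E ≤ Subgroup.normalizer (U : Set G) ∧ U ≤ Q ∧
        Nat.card D < Nat.card U := by
    intro Q hQ hDQ B haB' hBD
    have hQq := isPGroup_of_mem_maxInv hQ
    set V := Q ⊓ N ⊓ Subgroup.centralizer ({a} : Set G) with hV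
    have hVa : V ≤ Subgroup.centralizer ({a} : Set G) := inf_le_right
    have hVQ : V ≤ Q := inf_le_left.trans inf_le_left
    have hVq : IsPGroup q V := hQq.to_le hVQ
    have hEV : E ≤ Subgroup.normalizer (V : Set G) := by
      have h1 : E ≤ Subgroup.normalizer ((Q ⊓ N : Subgroup G) : Set G) :=
        (le_inf hQ.1.2.2 hEN).trans (normalizer_inf_le' Q N)
      have h2 : E ≤ Subgroup.normalizer ((Subgroup.centralizer ({a} : Set G) : Subgroup G) : Set G) :=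
        hEca.trans Subgroup.le_normalizer
      exact (le_inf h1 h2).trans (normalizer_inf_le' _ _)
    have hVM : V ≤ M := hMV V hVa (hqgrp V hVq) hEV
    have hUQ : D ⊔ V ≤ Q := sup_le hDQ hVQ
    refine ⟨D ⊔ V, ?_, hQq.to_le hUQ, le_normalizer_sup' hED hEV, hUQ, ?_⟩
    · exact sup_le le_sup_right ((le_inf hVM (inf_le_left.trans inf_le_right)).trans le_sup_left)
    · by_contra hcon
      push Not at hcon
      have h1 : D = D ⊔ V := Subgroup.eq_of_le_of_card_ge le_sup_left hcon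
      apply hBD
      have h2 : Q ⊓ N ⊓ Subgroup.centralizer (B : Set G) ≤ V :=
        inf_le_inf_left _ (Subgroup.centralizer_le (Set.singleton_subset_iff.mpr haB'))
      rw [h1]
      exact h2.trans le_sup_right
  obtain ⟨U₁, hU₁L, hU₁q, hEU₁, hU₁Q, hU₁D⟩ := hside2 Q₁ hQ₁ inf_le_left B₁ haB.1 hB₁
  obtain ⟨U₂, hU₂L, hU₂q, hEU₂, hU₂Q, hU₂D⟩ := hside2 Q₂ hQ₂ inf_le_right B₂ haB.2 hB₂
  have hLcop : (Nat.card L).Coprime p := by
    have h1 := Cfsg.Agent.Lib.Helper2.card_sup_mul_card_inf (M ⊓ N) D (inf_le_right : M ⊓ N ≤ N)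
    have h2 : Nat.card L ∣ Nat.card (M ⊓ N : Subgroup G) * Nat.card D := by
      rw [hL, ← h1]; exact Dvd.intro _ rfl
    apply Nat.Coprime.coprime_dvd_left h2
    apply Nat.Coprime.mul_left
    · exact Nat.Coprime.coprime_dvd_left (Subgroup.card_dvd_of_le inf_le_left) hMp
    · exact ((Nat.Prime.coprime_iff_not_dvd hpp.out).mpr (hqgrp D hDq)).symm
  have hcop : (Nat.card E).Coprime (Nat.card L) := by
    obtain ⟨k, hk⟩ := IsPGroup.iff_card.mp hEp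
    rw [hk]; exact (Nat.Coprime.pow_right k hLcop).symm
  have hEL : E ≤ Subgroup.normalizer (L : Set G) :=
    le_normalizer_sup' ((le_inf hEM hEN).trans (normalizer_inf_le' M N)) hED
  have hLK : L ⊓ Subgroup.centralizer (E : Set G) ≤ KA E := by
    rintro c ⟨hcL, hcE⟩
    apply hB c hcE (Nat.card L) hLcop
    have h1 := pow_card_eq_one' (G := ↥L) (x := ⟨c, hcL⟩)
    have h2 := congrArg Subtype.val h1
    simpa only [Subgroup.coe_pow, Subgroup.coe_one] using h2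
  apply bridge' hEL hcop (Or.inl (isSolvable_of_isPGroup p E hEp)) hLK hU₁L hU₂L hU₁q hU₂q hEU₁ hEU₂ ?_
    hQ₁ hQ₂ hU₁Q hU₂Q
  intro Q hQ Q' hQ' hor
  have hlt : Nat.card D < Nat.card (Q ⊓ Q' : Subgroup G) := by
    rcases hor with h | h
    · exact hU₁D.trans_le (Subgroup.card_le_of_le h)
    · exact hU₂D.trans_le (Subgroup.card_le_of_le h)
  have hle : Nat.card (Q ⊓ Q' : Subgroup G) ≤ Nat.card G := Subgroup.card_le_card_group _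
  exact ih (Nat.card G - Nat.card (Q ⊓ Q' : Subgroup G)) (by omega) Q hQ Q' hQ' rfl

end Cfsg.Agent.Lib.Helper4.TT
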