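import Mathlib
import Cfsg.Agent.Lib.Helper2.PConstrained
import Cfsg.Agent.Lib.Helper4.HallHigman
import Cfsg.Agent.Lib.Helper4.SolvBalance
import Cfsg.Agent.Lib.Helper7.PSolvable
import Cfsg.Agent.Lib.Lead.SolvPSolv

set_option autoImplicit false

/-! Transitivity theorem, odd order setting: auxiliary facts. -/

namespace Cfsg.Agent.Lib.Helper4.TT

open Cfsg Cfsg.Agent.Lib.Helper4

universe u

variable {G : Type u} [Group G] [Finite G]

/-- soluble groups are `p`-constrained -/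
theorem isPConstrained_of_isSolvable (p : ℕ) [Fact p.Prime] [Group.IsSolvable G] :
    IsPConstrained p G := by
  have hG : IsPSolvable p G := Cfsg.Agent.Lib.Lead.SolvPSolv.isPSolvable_of_isSolvable' p G
  rw [Cfsg.Agent.Lib.Helper2.PConstrained.isPConstrained_iff_quot]
  exact centralizer_pCore_le_of_isPSolvable
    (Cfsg.Agent.Lib.Helper7.isPSolvable_quotient hG _) (pPrimeCore_quotient_self p)

/-- a self-centralizing normal abelian subgroup of a Sylow `p`-subgroup contains every `p`-element of its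
centralizer -/
theorem mem_of_pelem_centralizer (p : ℕ) [Fact p.Prime] (P : Sylow p G) (B : Subgroup G)
    (hBn : ∀ x ∈ (P : Subgroup G), ∀ b ∈ B, x * b * x⁻¹ ∈ B)
    (hBc : (P : Subgroup G) ⊓ Subgroup.centralizer (B : Set G) = B)
    (x : G) (hxB : x ∈ Subgroup.centralizer (B : Set G)) (hx : IsPGroup p (Subgroup.zpowers x)) :
    x ∈ B := by
  classical
  set N := Subgroup.normalizer (B : Set G) with hN
  have hconjB : ∀ g ∈ N, ∀ b ∈ B, g * b * g⁻¹ ∈ B := fun g hg b hb =>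
    (Subgroup.mem_normalizer_iff.mp hg b).mp hb
  have hPN : (P : Subgroup G) ≤ N := by
    intro y hy
    rw [hN, Subgroup.mem_normalizer_iff]
    intro b
    constructor
    · exact hBn y hy b
    · intro hb
      have h1 := hBn y⁻¹ (Subgroup.inv_mem _ hy) _ hb
      have h2 : y⁻¹ * (y * b * y⁻¹) * y⁻¹⁻¹ = b := by group
      rwa [h2] at h1
  have hxN : x ∈ N := Subgroup.centralizer_le_normalizer _ hxB
  let P' : Sylow p ↥N := P.subtype hPN
  have hH : IsPGroup p ((Subgroup.zpowers x).subgroupOf N) := hx.comap_subtype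
  obtain ⟨Q', hQ'⟩ := hH.exists_le_sylow
  obtain ⟨g, hg⟩ := MulAction.exists_smul_eq ↥N P' Q'
  have hxQ : (⟨x, hxN⟩ : ↥N) ∈ (Q' : Subgroup ↥N) := by
    apply hQ'
    rw [Subgroup.mem_subgroupOf]
    exact Subgroup.mem_zpowers x
  rw [← hg, Sylow.smul_def, Sylow.pointwise_smul_def, Subgroup.mem_pointwise_smul_iff_inv_smul_mem] at hxQ
  have h1 : ((g : G)⁻¹ * x * (g : G)) ∈ (P : Subgroup G) := by
    simp only [MulAut.smul_def, MulAut.conj_inv_apply] at hxQ
    have h2 : g⁻¹ * (⟨x, hxN⟩ : ↥N) * g ∈ ((P : Subgroup G).subgroupOf N) := hxQ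
    rw [Subgroup.mem_subgroupOf] at h2
    simpa using h2
  have h5 : ((g : G)⁻¹ * x * (g : G)) ∈ Subgroup.centralizer (B : Set G) := by
    rw [Subgroup.mem_centralizer_iff]
    intro b hb
    have hb' : (g : G) * b * (g : G)⁻¹ ∈ B := hconjB g g.2 b hb
    have h6 := Subgroup.mem_centralizer_iff.mp hxB _ hb'
    calc b * ((g : G)⁻¹ * x * (g : G)) = (g : G)⁻¹ * (((g : G) * b * (g : G)⁻¹) * x) * (g : G) := by group
      _ = (g : G)⁻¹ * (x * ((g : G) * b * (g : G)⁻¹)) * (g : G) := by rw [h6]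
      _ = (g : G)⁻¹ * x * (g : G) * b := by group
  have h7 : ((g : G)⁻¹ * x * (g : G)) ∈ B := by
    rw [← hBc]; exact ⟨h1, h5⟩
  have h8 := hconjB g g.2 _ h7
  have h9 : (g : G) * ((g : G)⁻¹ * x * (g : G)) * (g : G)⁻¹ = x := by group
  rwa [h9] at h8

end Cfsg.Agent.Lib.Helper4.TT
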