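import Mathlib
import Cfsg.Agent.Lib.Helper6.Th24Defs

set_option autoImplicit false

/-!
# S1632, package PK-1D: one-dimensional Gaussian Poisson summation with a complex shift

From `Complex.tsum_exp_neg_quadratic` with `a := t * a`, `b := I * w`.
-/

namespace Cfsg.Agent.Lib.Helper6.Theta24

open Matrix Complex Real ModularForm MatrixGroups
open UpperHalfPlane hiding I

namespace Pk1D

/-- `(t * a)^(1/2) = t^(1/2) * a^(1/2)` for `t ≠ 0` complex and `a > 0` real -/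
theorem mul_ofReal_cpow_half (a : ℝ) (ha : 0 < a) (t : ℂ) (ht : t ≠ 0) :
    (t * (a : ℂ)) ^ (1 / 2 : ℂ) = t ^ (1 / 2 : ℂ) * ((a ^ (1 / 2 : ℝ) : ℝ) : ℂ) := by
  have ha' : (a : ℂ) ≠ 0 := by exact_mod_cast ha.ne'
  have h1 : ((a ^ (1 / 2 : ℝ) : ℝ) : ℂ) = (a : ℂ) ^ (1 / 2 : ℂ) := by
    rw [Complex.ofReal_cpow ha.le]
    push_cast
    rfl
  rw [h1, Complex.cpow_def_of_ne_zero (mul_ne_zero ht ha'), Complex.cpow_def_of_ne_zero ht,
    Complex.cpow_def_of_ne_zero ha', ← Complex.exp_add, Complex.log_mul_ofReal a ha t ht,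
    Complex.ofReal_log ha.le]
  congr 1
  ring

end Pk1D

/-! ## PK-1D -/
theorem one_dim (a : ℝ) (ha : 0 < a) (t : ℂ) (ht : 0 < t.re) (w : ℂ) :
    ∑' x : ℤ, cexp (-π * (t * a) * (x : ℂ) ^ 2 + 2 * π * I * w * x)
      = 1 / (t ^ (1 / 2 : ℂ) * ((a ^ (1 / 2 : ℝ) : ℝ) : ℂ)) *
        ∑' m : ℤ, cexp (-π / (t * a) * ((m : ℂ) - w) ^ 2) := by
  have ht0 : t ≠ 0 := by
    rintro rfl
    simp at ht
  have hre : 0 < (t * (a : ℂ)).re := by
    rw [Complex.mul_re]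
    simp only [Complex.ofReal_re, Complex.ofReal_im, mul_zero, sub_zero]
    exact mul_pos ht ha
  have key := Complex.tsum_exp_neg_quadratic hre (I * w)
  rw [Pk1D.mul_ofReal_cpow_half a ha t ht0] at key
  have hL : ∀ x : ℤ, cexp (-π * (t * a) * (x : ℂ) ^ 2 + 2 * π * I * w * x) =
      cexp (-π * (t * a) * (x : ℂ) ^ 2 + 2 * π * (I * w) * x) := by
    intro x
    congr 1
    ring
  have hR : ∀ m : ℤ, cexp (-π / (t * a) * ((m : ℂ) - w) ^ 2) =
      cexp (-π / (t * a) * ((m : ℂ) + I * (I * w)) ^ 2) := by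
    intro m
    have hI2 : I * I = -1 := I_mul_I
    have : (m : ℂ) - w = (m : ℂ) + I * (I * w) := by linear_combination (-w) * hI2
    rw [this]
  rw [tsum_congr hL, tsum_congr hR]
  exact key

end Cfsg.Agent.Lib.Helper6.Theta24
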