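import Mathlib
import Cfsg.Prelude.Def_Local
import Cfsg.Agent.Lib.Helper4.DirectProj
import Cfsg.Agent.Lib.Helper4.AlperinTame
import Cfsg.Agent.Lib.Helper7.Wielandt1
import Cfsg.Agent.Lib.Lead.CoprimeSylow4

set_option autoImplicit false

/-! Tightly embedded subgroups: Aschbacher's lemma on Sylow 2-subgroups of `Q^g ∩ N(Q)`. -/

namespace Cfsg.Agent.Lib.Helper4

open Cfsg Cfsg.Agent.Lib.Helper7

variable {G : Type*} [Group G] [Finite G]

theorem eq_bot_of_two_group_le_odd {X Y : Subgroup G} (hX : IsPGroup 2 X) (hXY : X ≤ Y)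
    (hY : Odd (Nat.card Y)) : X = ⊥ := by
  obtain ⟨k, hk⟩ := IsPGroup.iff_card.mp hX
  have h1 : Nat.card X ∣ Nat.card Y := Subgroup.card_dvd_of_le hXY
  rcases Nat.eq_zero_or_pos k with h0 | hpos
  · rw [h0, pow_zero] at hk
    exact Subgroup.card_eq_one.mp hk
  · exfalso
    have h2 : 2 ∣ Nat.card X := by rw [hk]; exact dvd_pow_self 2 hpos.ne'
    exact (Nat.not_even_iff_odd.mpr hY) (even_iff_two_dvd.mpr (h2.trans h1))

theorem te_normalizer_le {Q : Subgroup G} (hQ : Cfsg.IsTightlyEmbedded Q) {X : Subgroup G}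
    (hXQ : X ≤ Q) (hX : IsPGroup 2 X) (hX1 : X ≠ ⊥) :
    Subgroup.normalizer (X : Set G) ≤ Subgroup.normalizer (Q : Set G) := by
  intro n hn
  by_contra hnQ
  apply hX1
  apply eq_bot_of_two_group_le_odd hX _ (hQ.2 n hnQ)
  refine le_inf hXQ ?_
  have h1 : cj n X = X := mem_normalizer_iff_cj.mp hn
  rw [← h1]
  exact cj_mono n hXQ

theorem te_conj {Q : Subgroup G} (hQ : Cfsg.IsTightlyEmbedded Q) (g : G) :
    Cfsg.IsTightlyEmbedded (cj g Q) := by
  refine ⟨by rw [card_cj]; exact hQ.1, ?_⟩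
  intro h hh
  have h1 : g⁻¹ * h * g ∉ Subgroup.normalizer (Q : Set G) := by
    intro hmem
    apply hh
    rw [normalizer_cj, mem_cj]
    exact hmem
  have h2 := hQ.2 _ h1
  have h3 : cj g Q ⊓ cj h (cj g Q) = cj g (Q ⊓ cj (g⁻¹ * h * g) Q) := by
    rw [cj_inf, ← cj_mul, ← cj_mul]
    congr 2
    group
  have h3' : (cj g Q ⊓ (cj g Q).map (MulAut.conj h).toMonoidHom) = cj g (Q ⊓ cj (g⁻¹ * h * g) Q) := h3
  rw [h3', card_cj]
  exact h2

/-- the key injection: `T` embeds in `N_S(T) ∩ Q` -/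
theorem te_inj (Q : Subgroup G) (hQ : Cfsg.IsTightlyEmbedded Q)
    (g : G) (hg : g ∉ Subgroup.normalizer (Q : Set G))
    (T : Subgroup G) (hT1 : T ≠ ⊥) (hT : T ≤ cj g Q ⊓ Subgroup.normalizer (Q : Set G))
    (hTsyl : IsPGroup 2 T ∧ ¬ 2 ∣ T.relIndex (cj g Q ⊓ Subgroup.normalizer (Q : Set G)))
    (S : Subgroup G) (hTS : T ≤ S) (hS : S ≤ Q ⊔ T) (hSsyl : IsPGroup 2 S ∧ ¬ 2 ∣ S.relIndex (Q ⊔ T)) :
    T ⊓ Q = ⊥ ∧
    (∀ t ∈ T, ∀ u ∈ S ⊓ Subgroup.normalizer (T : Set G) ⊓ Q, t * u = u * t) ∧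
    T ⊔ (S ⊓ Subgroup.normalizer (T : Set G) ⊓ Q) = S ⊓ Subgroup.normalizer (T : Set G) ∧
    (S ⊓ Subgroup.normalizer (T : Set G) ⊓ Q ≠ ⊥) ∧
    ∃ f : T →* ↥(S ⊓ Subgroup.normalizer (T : Set G) ⊓ Q), Function.Injective f := by
  classical
  have hTgQ : T ≤ cj g Q := hT.trans inf_le_left
  have hTNQ : T ≤ Subgroup.normalizer (Q : Set G) := hT.trans inf_le_right
  have hTQ : T ⊓ Q = ⊥ := by
    apply eq_bot_of_two_group_le_odd (hTsyl.1.to_le inf_le_left) _ (hQ.2 g hg)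
    exact le_inf inf_le_right (inf_le_left.trans hTgQ)
  obtain ⟨U, hUdef⟩ : ∃ U : Subgroup G, U = S ⊓ Subgroup.normalizer (T : Set G) ⊓ Q := ⟨_, rfl⟩
  rw [← hUdef]
  have hUS : U ≤ S := by rw [hUdef]; exact inf_le_left.trans inf_le_left
  have hUN : U ≤ Subgroup.normalizer (T : Set G) := by rw [hUdef]; exact inf_le_left.trans inf_le_right
  have hUQ : U ≤ Q := by rw [hUdef]; exact inf_le_right
  have hcomm : ∀ t ∈ T, ∀ u ∈ U, t * u = u * t := by
    intro t ht u hu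
    have h1 : u * t⁻¹ * u⁻¹ ∈ T := (Subgroup.mem_normalizer_iff.mp (hUN hu) t⁻¹).mp (T.inv_mem ht)
    have h2 : t * u * t⁻¹ ∈ Q := (Subgroup.mem_normalizer_iff.mp (hTNQ ht) u).mp (hUQ hu)
    have h3 : t * u * t⁻¹ * u⁻¹ ∈ T ⊓ Q := by
      refine Subgroup.mem_inf.mpr ⟨?_, Q.mul_mem h2 (Q.inv_mem (hUQ hu))⟩
      have : t * u * t⁻¹ * u⁻¹ = t * (u * t⁻¹ * u⁻¹) := by group
      rw [this]; exact T.mul_mem ht h1
    rw [hTQ, Subgroup.mem_bot] at h3
    have : t * u = (t * u * t⁻¹ * u⁻¹) * (u * t) := by group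
    rw [this, h3, one_mul]
  have hTU : T ⊓ U = ⊥ := by
    rw [eq_bot_iff, ← hTQ]
    exact inf_le_inf_left T hUQ
  obtain ⟨V, hVdef⟩ : ∃ V : Subgroup G, V = S ⊓ Subgroup.normalizer (T : Set G) := ⟨_, rfl⟩
  rw [← hVdef]
  have hTV : T ≤ V := by rw [hVdef]; exact le_inf hTS Subgroup.le_normalizer
  have hUV : U ≤ V := by rw [hUdef, hVdef]; exact inf_le_left
  have hsup : T ⊔ U = V := by
    apply le_antisymm (sup_le hTV hUV)
    intro v hv
    rw [hVdef] at hv
    obtain ⟨q, hq, t, ht, hvqt⟩ := exists_mul_of_mem_sup_normalizer hTNQ (hS hv.1)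
    have hqeq : q = v * t⁻¹ := by rw [hvqt]; group
    have hqU : q ∈ U := by
      rw [hUdef]
      refine Subgroup.mem_inf.mpr ⟨Subgroup.mem_inf.mpr ⟨?_, ?_⟩, hq⟩
      · rw [hqeq]; exact S.mul_mem hv.1 (S.inv_mem (hTS ht))
      · rw [hqeq]; exact Subgroup.mul_mem _ hv.2 (Subgroup.inv_mem _ (Subgroup.le_normalizer ht))
    rw [hvqt]
    exact Subgroup.mul_mem _ (Subgroup.mem_sup_right hqU) (Subgroup.mem_sup_left ht)
  -- the Sylow 2-subgroup R = S ∩ Q of Q
  obtain ⟨M, hMdef⟩ : ∃ M : Subgroup G, M = Q ⊔ T := ⟨_, rfl⟩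
  have hMN : M ≤ Subgroup.normalizer (Q : Set G) := by
    rw [hMdef]; exact sup_le Subgroup.le_normalizer hTNQ
  have hSsyl' : SylIn 2 M S := by rw [hMdef]; exact ⟨hS, hSsyl.1, hSsyl.2⟩
  have hRsyl : SylIn 2 Q (S ⊓ Q) := sylIn_inf_normal (by rw [hMdef]; exact le_sup_left) hMN hSsyl'
  -- U is nontrivial
  have hQeven : Even (Nat.card Q) := hQ.1
  have hR1 : S ⊓ Q ≠ ⊥ := by
    intro h
    have h2 := hRsyl.2.2
    rw [h, Subgroup.relIndex_bot_left] at h2
    exact h2 (even_iff_two_dvd.mp hQeven)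
  have hU1 : U ≠ ⊥ := by
    -- T acts on R = S ∩ Q, a nontrivial 2-group: nontrivial fixed points
    by_contra hU
    by_cases hST : S ≤ Subgroup.normalizer (T : Set G)
    · apply hR1
      rw [← hU, hUdef, inf_eq_left.mpr hST]
    · -- V < S
      have hVS : V < S := by
        rw [hVdef]
        refine lt_of_le_of_ne inf_le_left ?_
        intro h
        apply hST
        rw [← h]; exact inf_le_right
      have hVT : V = T := by rw [← hsup, hU, sup_bot_eq]
      have hgrow := Cfsg.Agent.Lib.Lead.pgroup_normalizer_grows 2 S V hSsyl.1 hVS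
      rw [hVT] at hgrow
      rw [← hVdef, hVT] at hgrow
      exact lt_irrefl _ hgrow
  refine ⟨hTQ, hcomm, hsup, hU1, ?_⟩
  by_cases hST : S ≤ Subgroup.normalizer (T : Set G)
  · -- case S = N_S(T): U = S ∩ Q is a Sylow 2-subgroup of Q
    have hUR : U = S ⊓ Q := by rw [hUdef, inf_eq_left.mpr hST]
    have hT₀ : cj g⁻¹ T ≤ Q := by
      have := cj_mono g⁻¹ hTgQ
      rwa [cj_inv_cj] at this
    obtain ⟨c, hc, hcT⟩ := hRsyl.exists_conj_le hT₀ (isPGroup_cj g⁻¹ hTsyl.1)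
    rw [← cj_mul, ← hUR] at hcT
    have hmem : ∀ t : T, (c * g⁻¹) * (t : G) * (c * g⁻¹)⁻¹ ∈ U := by
      intro t
      apply hcT
      exact ⟨t, t.2, rfl⟩
    let ψ : T →* ↥U :=
      { toFun := fun t => ⟨(c * g⁻¹) * (t : G) * (c * g⁻¹)⁻¹, hmem t⟩
        map_one' := by apply Subtype.ext; simp
        map_mul' := by
          intro a b
          apply Subtype.ext
          simp only [Subgroup.coe_mul]
          group }
    refine ⟨ψ, ?_⟩
    intro t₁ t₂ h
    have h1 : (c * g⁻¹) * (t₁ : G) * (c * g⁻¹)⁻¹ = (c * g⁻¹) * (t₂ : G) * (c * g⁻¹)⁻¹ :=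
      congrArg Subtype.val h
    apply Subtype.ext
    exact mul_left_cancel (mul_right_cancel h1)
  · -- case N_S(T) < S
    have hVS : V < S := by
      rw [hVdef]
      refine lt_of_le_of_ne inf_le_left ?_
      intro h
      apply hST
      rw [← h]; exact inf_le_right
    have hgrow := Cfsg.Agent.Lib.Lead.pgroup_normalizer_grows 2 S V hSsyl.1 hVS
    obtain ⟨x, hx, hxV⟩ := SetLike.exists_of_lt hgrow
    have hxS : x ∈ S := hx.1
    have hxNV : cj x V = V := mem_normalizer_iff_cj.mp hx.2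
    have hxT : x ∉ Subgroup.normalizer (T : Set G) := by
      intro h
      apply hxV
      rw [hVdef]; exact Subgroup.mem_inf.mpr ⟨hxS, h⟩
    have hTxV : cj x T ≤ V := by rw [← hxNV]; exact cj_mono x hTV
    have hxNQ : x ∈ Subgroup.normalizer (Q : Set G) := hMN (by rw [hMdef]; exact hS hxS)
    -- cj x T ∩ T = 1
    have hdisj : cj x T ⊓ T = ⊥ := by
      by_cases hcase : g⁻¹ * x * g ∈ Subgroup.normalizer (Q : Set G)
      · exfalso
        apply hxT
        -- x normalizes cj g Q and N(Q), so cj x T ≤ S ⊓ Y' = T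
        have hxgQ : cj x (cj g Q) = cj g Q := by
          have h1 : cj (g⁻¹ * x * g) Q = Q := mem_normalizer_iff_cj.mp hcase
          have h2 : x * g = g * (g⁻¹ * x * g) := by group
          rw [← cj_mul, h2, cj_mul, h1]
        have hxNN : cj x (Subgroup.normalizer (Q : Set G)) = Subgroup.normalizer (Q : Set G) :=
          cj_eq_self_of_mem hxNQ
        have hTxY : cj x T ≤ cj g Q ⊓ Subgroup.normalizer (Q : Set G) := by
          have := cj_mono x hT
          rwa [cj_inf, hxgQ, hxNN] at this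
        have hTxS : cj x T ≤ S := cj_le_of_mem hxS hTS
        have hSY : S ⊓ (cj g Q ⊓ Subgroup.normalizer (Q : Set G)) = T :=
          eq_of_isPGroup_of_relIndex (le_inf hTS hT) inf_le_right (hSsyl.1.to_le inf_le_left) hTsyl.2
        have hle : cj x T ≤ T := (le_inf hTxS hTxY).trans hSY.le
        exact mem_normalizer_iff_cj.mpr (cj_eq_of_le hle)
      · have hodd := hQ.2 _ hcase
        have h1 : cj x T ⊓ T ≤ cj g (Q ⊓ cj (g⁻¹ * x * g) Q) := by
          rw [cj_inf, ← cj_mul]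
          have h2 : g * (g⁻¹ * x * g) = x * g := by group
          rw [h2, cj_mul]
          exact le_inf (inf_le_right.trans hTgQ) (inf_le_left.trans (cj_mono x hTgQ))
        apply eq_bot_of_two_group_le_odd (hTsyl.1.to_le inf_le_right) h1
        rw [card_cj]; exact hodd
    obtain ⟨π, hπ⟩ := exists_proj_hom T U hcomm hTU
    have hconjmem : ∀ t : T, x * (t : G) * x⁻¹ ∈ T ⊔ U := by
      intro t
      rw [hsup]
      exact hTxV ⟨t, t.2, rfl⟩
    let φ : T →* ↥(T ⊔ U) :=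
      { toFun := fun t => ⟨x * (t : G) * x⁻¹, hconjmem t⟩
        map_one' := by apply Subtype.ext; simp
        map_mul' := by
          intro a b
          apply Subtype.ext
          simp only [Subgroup.coe_mul]
          group }
    refine ⟨π.comp φ, ?_⟩
    rw [injective_iff_map_eq_one]
    intro t ht
    have h1 : π (φ t) = 1 := ht
    obtain ⟨t', ht', heq⟩ := hπ (φ t)
    rw [h1] at heq
    have h2 : x * (t : G) * x⁻¹ = t' := by
      have : ((φ t : ↥(T ⊔ U)) : G) = x * (t : G) * x⁻¹ := rfl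
      rw [← this, heq]; simp
    have h3 : x * (t : G) * x⁻¹ ∈ cj x T ⊓ T :=
      Subgroup.mem_inf.mpr ⟨⟨t, t.2, rfl⟩, by rw [h2]; exact ht'⟩
    rw [hdisj, Subgroup.mem_bot] at h3
    apply Subtype.ext
    have : (t : G) = x⁻¹ * (x * (t : G) * x⁻¹) * x := by group
    rw [this, h3]; simp

end Cfsg.Agent.Lib.Helper4
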