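import Mathlib

set_option autoImplicit false

/-! The centralizer of a transvection in `SL(5,2)`: matrix computations. -/

namespace Cfsg.Agent.Lib.Helper4.TransvCent

abbrev M5 := Matrix (Fin 5) (Fin 5) (ZMod 2)

/-- shape of the matrices commuting with the transvection `1 + E₀₁` -/
structure HForm (A : M5) : Prop where
  c10 : A 1 0 = 0
  c20 : A 2 0 = 0
  c30 : A 3 0 = 0
  c40 : A 4 0 = 0
  r12 : A 1 2 = 0
  r13 : A 1 3 = 0
  r14 : A 1 4 = 0
  d00 : A 0 0 = 1
  d11 : A 1 1 = 1

theorem zmod2_eq_one {x : ZMod 2} (h : x ≠ 0) : x = 1 := by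
  revert h; revert x; decide

theorem hform_of_comm (A B : M5) (hBA : B * A = 1)
    (h : A * Matrix.transvection 0 1 1 = Matrix.transvection 0 1 1 * A) : HForm A := by
  have e : ∀ i k : Fin 5, (A * (Matrix.transvection 0 1 1 : M5)) i k =
      ((Matrix.transvection 0 1 1 : M5) * A) i k := by
    intro i k; rw [h]
  simp only [Matrix.transvection, Matrix.add_apply, Matrix.mul_apply, Fin.sum_univ_five,
    Matrix.single_apply] at e
  have e10 := e 1 1
  have e20 := e 2 1
  have e30 := e 3 1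
  have e40 := e 4 1
  have e02 := e 0 2
  have e03 := e 0 3
  have e04 := e 0 4
  have e01 := e 0 1
  simp at e10 e20 e30 e40 e02 e03 e04 e01
  have h00 : A 0 0 = 1 := by
    apply zmod2_eq_one
    intro h0
    have := congrFun (congrFun hBA 0) 0
    simp [Matrix.mul_apply, Fin.sum_univ_five, e10, e20, e30, e40, h0] at this
  have h11 : A 1 1 = 1 := by
    rw [← h00]
    have : A 0 1 + A 0 0 = A 0 1 + A 1 1 := by rw [add_comm]; exact e01
    exact (add_left_cancel this).symm
  exact ⟨e10, e20, e30, e40, e02, e03, e04, h00, h11⟩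

/-- the middle block -/
def ix (a : Fin 3) : Fin 5 := ⟨a.val + 2, by omega⟩

theorem ix0 : ix 0 = 2 := rfl
theorem ix1 : ix 1 = 3 := rfl
theorem ix2 : ix 2 = 4 := rfl

def blk (A : M5) : Matrix (Fin 3) (Fin 3) (ZMod 2) := Matrix.of fun a b => A (ix a) (ix b)

theorem blk_apply (A : M5) (a b : Fin 3) : blk A a b = A (ix a) (ix b) := rfl

theorem blk_mul {A B : M5} (hA : HForm A) (hB : HForm B) : blk (A * B) = blk A * blk B := by
  ext a b
  fin_cases a <;> fin_cases b <;>
    simp [blk_apply, ix0, ix1, ix2, Matrix.mul_apply, Fin.sum_univ_five, Fin.sum_univ_three, hA.c20, hA.c30, hA.c40,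
      hB.r12, hB.r13, hB.r14]

theorem blk_one : blk (1 : M5) = 1 := by
  ext a b
  fin_cases a <;> fin_cases b <;> simp [blk_apply, ix, Matrix.one_apply]

structure QForm (A : M5) : Prop extends HForm A where
  b22 : A 2 2 = 1
  b23 : A 2 3 = 0
  b24 : A 2 4 = 0
  b32 : A 3 2 = 0
  b33 : A 3 3 = 1
  b34 : A 3 4 = 0
  b42 : A 4 2 = 0
  b43 : A 4 3 = 0
  b44 : A 4 4 = 1

theorem qform_of_blk {A : M5} (hA : HForm A) (h : blk A = 1) : QForm A := by
  have e := fun a b => congrFun (congrFun h a) b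
  exact
    { toHForm := hA
      b22 := by simpa [blk_apply, ix] using e 0 0
      b23 := by simpa [blk_apply, ix] using e 0 1
      b24 := by simpa [blk_apply, ix] using e 0 2
      b32 := by simpa [blk_apply, ix] using e 1 0
      b33 := by simpa [blk_apply, ix] using e 1 1
      b34 := by simpa [blk_apply, ix] using e 1 2
      b42 := by simpa [blk_apply, ix] using e 2 0
      b43 := by simpa [blk_apply, ix] using e 2 1
      b44 := by simpa [blk_apply, ix] using e 2 2 }

theorem zmod2_add_self (x : ZMod 2) : x + x = 0 := by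
  revert x; decide

theorem qform_sq {A : M5} (hA : QForm A) :
    A * A = 1 + (A 0 2 * A 2 1 + A 0 3 * A 3 1 + A 0 4 * A 4 1) • Matrix.single 0 1 (1 : ZMod 2) := by
  ext i k
  fin_cases i <;> fin_cases k <;>
    simp [Matrix.mul_apply, Fin.sum_univ_five, Matrix.single_apply, Matrix.one_apply,
      hA.c10, hA.c20, hA.c30, hA.c40, hA.r12, hA.r13, hA.r14, hA.d00, hA.d11,
      hA.b22, hA.b23, hA.b24, hA.b32, hA.b33, hA.b34, hA.b42, hA.b43, hA.b44, zmod2_add_self]

theorem qform_pow_four {A : M5} (hA : QForm A) : A * A * (A * A) = 1 := by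
  rw [qform_sq hA]
  generalize A 0 2 * A 2 1 + A 0 3 * A 3 1 + A 0 4 * A 4 1 = c
  ext i k
  fin_cases i <;> fin_cases k <;>
    simp [Matrix.mul_apply, Fin.sum_univ_five, Matrix.single_apply, Matrix.one_apply,
      zmod2_add_self]

theorem row2_of_comm {A : M5} (hA : HForm A)
    (h : A * Matrix.transvection 0 2 1 = Matrix.transvection 0 2 1 * A) :
    A 2 0 = 0 ∧ A 2 1 = 0 ∧ A 2 2 = 1 ∧ A 2 3 = 0 ∧ A 2 4 = 0 := by
  have e : ∀ i k : Fin 5, (A * (Matrix.transvection 0 2 1 : M5)) i k =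
      ((Matrix.transvection 0 2 1 : M5) * A) i k := by
    intro i k; rw [h]
  simp only [Matrix.transvection, Matrix.add_apply, Matrix.mul_apply, Fin.sum_univ_five,
    Matrix.single_apply] at e
  have e0 := e 0 0
  have e1 := e 0 1
  have e2 := e 0 2
  have e3 := e 0 3
  have e4 := e 0 4
  simp [hA.d00] at e0 e1 e2 e3 e4
  have hd : A 2 2 = 1 := by
    have : A 0 2 + 1 = A 0 2 + A 2 2 := by rw [add_comm]; exact e2
    exact (add_left_cancel this).symm
  exact ⟨e0, e1, hd, e3, e4⟩

theorem row3_of_comm {A : M5} (hA : HForm A)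
    (h : A * Matrix.transvection 0 3 1 = Matrix.transvection 0 3 1 * A) :
    A 3 0 = 0 ∧ A 3 1 = 0 ∧ A 3 2 = 0 ∧ A 3 3 = 1 ∧ A 3 4 = 0 := by
  have e : ∀ i k : Fin 5, (A * (Matrix.transvection 0 3 1 : M5)) i k =
      ((Matrix.transvection 0 3 1 : M5) * A) i k := by
    intro i k; rw [h]
  simp only [Matrix.transvection, Matrix.add_apply, Matrix.mul_apply, Fin.sum_univ_five,
    Matrix.single_apply] at e
  have e0 := e 0 0
  have e1 := e 0 1
  have e2 := e 0 2
  have e3 := e 0 3
  have e4 := e 0 4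
  simp [hA.d00] at e0 e1 e2 e3 e4
  have hd : A 3 3 = 1 := by
    have : A 0 3 + 1 = A 0 3 + A 3 3 := by rw [add_comm]; exact e3
    exact (add_left_cancel this).symm
  exact ⟨e0, e1, e2, hd, e4⟩

theorem row4_of_comm {A : M5} (hA : HForm A)
    (h : A * Matrix.transvection 0 4 1 = Matrix.transvection 0 4 1 * A) :
    A 4 0 = 0 ∧ A 4 1 = 0 ∧ A 4 2 = 0 ∧ A 4 3 = 0 ∧ A 4 4 = 1 := by
  have e : ∀ i k : Fin 5, (A * (Matrix.transvection 0 4 1 : M5)) i k =
      ((Matrix.transvection 0 4 1 : M5) * A) i k := by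
    intro i k; rw [h]
  simp only [Matrix.transvection, Matrix.add_apply, Matrix.mul_apply, Fin.sum_univ_five,
    Matrix.single_apply] at e
  have e0 := e 0 0
  have e1 := e 0 1
  have e2 := e 0 2
  have e3 := e 0 3
  have e4 := e 0 4
  simp [hA.d00] at e0 e1 e2 e3 e4
  have hd : A 4 4 = 1 := by
    have : A 0 4 + 1 = A 0 4 + A 4 4 := by rw [add_comm]; exact e4
    exact (add_left_cancel this).symm
  exact ⟨e0, e1, e2, e3, hd⟩

theorem col2_of_comm {A : M5} (hA : HForm A)
    (h : A * Matrix.transvection 2 1 1 = Matrix.transvection 2 1 1 * A) :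
    A 0 2 = 0 ∧ A 1 2 = 0 ∧ A 2 2 = 1 ∧ A 3 2 = 0 ∧ A 4 2 = 0 := by
  have e : ∀ a b : Fin 5, (A * (Matrix.transvection 2 1 1 : M5)) a b =
      ((Matrix.transvection 2 1 1 : M5) * A) a b := by
    intro a b; rw [h]
  simp only [Matrix.transvection, Matrix.add_apply, Matrix.mul_apply, Fin.sum_univ_five,
    Matrix.single_apply] at e
  have e0 := e 0 1
  have e1 := e 1 1
  have e2 := e 2 1
  have e3 := e 3 1
  have e4 := e 4 1
  simp [hA.d11] at e0 e1 e2 e3 e4
  have hd : A 2 2 = 1 := by
    have : A 2 1 + A 2 2 = A 2 1 + 1 := by rw [e2, add_comm]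
    exact add_left_cancel this
  exact ⟨e0, e1, hd, e3, e4⟩

theorem col3_of_comm {A : M5} (hA : HForm A)
    (h : A * Matrix.transvection 3 1 1 = Matrix.transvection 3 1 1 * A) :
    A 0 3 = 0 ∧ A 1 3 = 0 ∧ A 2 3 = 0 ∧ A 3 3 = 1 ∧ A 4 3 = 0 := by
  have e : ∀ a b : Fin 5, (A * (Matrix.transvection 3 1 1 : M5)) a b =
      ((Matrix.transvection 3 1 1 : M5) * A) a b := by
    intro a b; rw [h]
  simp only [Matrix.transvection, Matrix.add_apply, Matrix.mul_apply, Fin.sum_univ_five,
    Matrix.single_apply] at e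
  have e0 := e 0 1
  have e1 := e 1 1
  have e2 := e 2 1
  have e3 := e 3 1
  have e4 := e 4 1
  simp [hA.d11] at e0 e1 e2 e3 e4
  have hd : A 3 3 = 1 := by
    have : A 3 1 + A 3 3 = A 3 1 + 1 := by rw [e3, add_comm]
    exact add_left_cancel this
  exact ⟨e0, e1, e2, hd, e4⟩

theorem col4_of_comm {A : M5} (hA : HForm A)
    (h : A * Matrix.transvection 4 1 1 = Matrix.transvection 4 1 1 * A) :
    A 0 4 = 0 ∧ A 1 4 = 0 ∧ A 2 4 = 0 ∧ A 3 4 = 0 ∧ A 4 4 = 1 := by
  have e : ∀ a b : Fin 5, (A * (Matrix.transvection 4 1 1 : M5)) a b =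
      ((Matrix.transvection 4 1 1 : M5) * A) a b := by
    intro a b; rw [h]
  simp only [Matrix.transvection, Matrix.add_apply, Matrix.mul_apply, Fin.sum_univ_five,
    Matrix.single_apply] at e
  have e0 := e 0 1
  have e1 := e 1 1
  have e2 := e 2 1
  have e3 := e 3 1
  have e4 := e 4 1
  simp [hA.d11] at e0 e1 e2 e3 e4
  have hd : A 4 4 = 1 := by
    have : A 4 1 + A 4 4 = A 4 1 + 1 := by rw [e4, add_comm]
    exact add_left_cancel this
  exact ⟨e0, e1, e2, e3, hd⟩

theorem zmod2_cases (x : ZMod 2) : x = 0 ∨ x = 1 := by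
  revert x; decide

/-- a matrix of the right shape commuting with the six transvections is `1` or the transvection -/
theorem eq_one_or_of_comm {A : M5} (hA : HForm A)
    (h2 : A * Matrix.transvection 0 2 1 = Matrix.transvection 0 2 1 * A)
    (h3 : A * Matrix.transvection 0 3 1 = Matrix.transvection 0 3 1 * A)
    (h4 : A * Matrix.transvection 0 4 1 = Matrix.transvection 0 4 1 * A)
    (k2 : A * Matrix.transvection 2 1 1 = Matrix.transvection 2 1 1 * A)
    (k3 : A * Matrix.transvection 3 1 1 = Matrix.transvection 3 1 1 * A)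
    (k4 : A * Matrix.transvection 4 1 1 = Matrix.transvection 4 1 1 * A) :
    A = 1 ∨ A = Matrix.transvection 0 1 1 := by
  obtain ⟨r20, r21, r22, r23, r24⟩ := row2_of_comm hA h2
  obtain ⟨r30, r31, r32, r33, r34⟩ := row3_of_comm hA h3
  obtain ⟨r40, r41, r42, r43, r44⟩ := row4_of_comm hA h4
  obtain ⟨c02, c12, -, -, -⟩ := col2_of_comm hA k2
  obtain ⟨c03, c13, -, -, -⟩ := col3_of_comm hA k3
  obtain ⟨c04, c14, -, -, -⟩ := col4_of_comm hA k4
  rcases zmod2_cases (A 0 1) with h01 | h01
  · left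
    ext i k
    fin_cases i <;> fin_cases k <;>
      simp [Matrix.one_apply, hA.c10, hA.d00, hA.d11, r20, r21, r22, r23, r24, r30, r31, r32, r33,
        r34, r40, r41, r42, r43, r44, c02, c12, c03, c13, c04, c14, h01]
  · right
    ext i k
    fin_cases i <;> fin_cases k <;>
      simp [Matrix.transvection, Matrix.single_apply, Matrix.one_apply, hA.c10, hA.d00, hA.d11, r20,
        r21, r22, r23, r24, r30, r31, r32, r33, r34, r40, r41, r42, r43, r44, c02, c12, c03, c13,
        c04, c14, h01]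

/-- the six transvections commute with the transvection `1 + E₀₁` -/
theorem transv_row_comm (j : Fin 5) (hj : j = 2 ∨ j = 3 ∨ j = 4) :
    (Matrix.transvection 0 j 1 : M5) * Matrix.transvection 0 1 1 =
      Matrix.transvection 0 1 1 * Matrix.transvection 0 j 1 := by
  rcases hj with rfl | rfl | rfl <;>
  · ext a b
    fin_cases a <;> fin_cases b <;>
      simp [Matrix.transvection, Matrix.mul_apply, Fin.sum_univ_five, Matrix.single_apply,
        Matrix.one_apply]

theorem transv_col_comm (i : Fin 5) (hi : i = 2 ∨ i = 3 ∨ i = 4) :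
    (Matrix.transvection i 1 1 : M5) * Matrix.transvection 0 1 1 =
      Matrix.transvection 0 1 1 * Matrix.transvection i 1 1 := by
  rcases hi with rfl | rfl | rfl <;>
  · ext a b
    fin_cases a <;> fin_cases b <;>
      simp [Matrix.transvection, Matrix.mul_apply, Fin.sum_univ_five, Matrix.single_apply,
        Matrix.one_apply]

theorem blk_transv_row (j : Fin 5) : blk (Matrix.transvection 0 j 1 : M5) = 1 := by
  ext a b
  fin_cases j <;> fin_cases a <;> fin_cases b <;>
    simp [blk_apply, ix, Matrix.transvection, Matrix.single_apply, Matrix.one_apply]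

theorem blk_transv_col (i : Fin 5) : blk (Matrix.transvection i 1 1 : M5) = 1 := by
  ext a b
  fin_cases i <;> fin_cases a <;> fin_cases b <;>
    simp [blk_apply, ix, Matrix.transvection, Matrix.single_apply, Matrix.one_apply]

end Cfsg.Agent.Lib.Helper4.TransvCent
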