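import Mathlib
import Cfsg.Agent.Lib.Helper4.TransvCent1
import Cfsg.Agent.Lib.Helper6.SylowIdx
import Cfsg.Agent.Lib.Lead.Nilpotent

set_option autoImplicit false

/-! The centre of a Sylow 2-subgroup of the centralizer of a transvection in `SL(5,2)`. -/

namespace Cfsg.Agent.Lib.Helper4.TransvCent

open Matrix

abbrev SL5 := Matrix.SpecialLinearGroup (Fin 5) (ZMod 2)

section
variable (s : SL5) (hs : (s : M5) = Matrix.transvection 0 1 1)
include hs

theorem hform_of_mem {h : SL5} (hh : h ∈ Subgroup.centralizer ({s} : Set SL5)) :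
    HForm (h : M5) := by
  have h1 : s * h = h * s := Subgroup.mem_centralizer_iff.mp hh s (Set.mem_singleton s)
  have h2 : (h : M5) * Matrix.transvection 0 1 1 = Matrix.transvection 0 1 1 * (h : M5) := by
    rw [← hs, ← Matrix.SpecialLinearGroup.coe_mul, ← Matrix.SpecialLinearGroup.coe_mul, h1]
  have h3 : ((h⁻¹ : SL5) : M5) * (h : M5) = 1 := by
    rw [← Matrix.SpecialLinearGroup.coe_mul, inv_mul_cancel, Matrix.SpecialLinearGroup.coe_one]
  exact hform_of_comm _ _ h3 h2

/-- the middle block, as a homomorphism -/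
def blkHom : ↥(Subgroup.centralizer ({s} : Set SL5)) →* Matrix (Fin 3) (Fin 3) (ZMod 2) where
  toFun h := blk ((h : SL5) : M5)
  map_one' := by
    show blk (((1 : SL5)) : M5) = 1
    rw [Matrix.SpecialLinearGroup.coe_one]; exact blk_one
  map_mul' a b := by
    show blk (((a : SL5) * (b : SL5) : SL5) : M5) = _
    rw [Matrix.SpecialLinearGroup.coe_mul]
    exact blk_mul (hform_of_mem s hs a.2) (hform_of_mem s hs b.2)

theorem blkHom_apply (h : ↥(Subgroup.centralizer ({s} : Set SL5))) :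
    blkHom s hs h = blk ((h : SL5) : M5) := rfl

theorem isPGroup_ker : IsPGroup 2 (blkHom s hs).ker := by
  intro g
  refine ⟨2, ?_⟩
  have hg : blk (((g : ↥(Subgroup.centralizer ({s} : Set SL5))) : SL5) : M5) = 1 := g.2
  have hq := qform_of_blk (hform_of_mem s hs (g : ↥(Subgroup.centralizer ({s} : Set SL5))).2) hg
  have h4 := qform_pow_four hq
  apply Subtype.ext
  apply Subtype.ext
  apply Subtype.ext
  have : (2 : ℕ) ^ 2 = 4 := by norm_num
  rw [this]
  simp only [Subgroup.coe_pow, Subgroup.coe_one, Matrix.SpecialLinearGroup.coe_pow,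
    Matrix.SpecialLinearGroup.coe_one]
  rw [show (4 : ℕ) = 2 + 2 by norm_num, pow_add, pow_two]
  exact h4

/-- the transvections `1 + E₀ⱼ` and `1 + Eᵢ₁` as elements of `SL(5,2)` -/
def tRow0 (j : Fin 5) (hj : j = 2 ∨ j = 3 ∨ j = 4) : SL5 :=
  ⟨Matrix.transvection 0 j 1, Matrix.det_transvection_of_ne 0 j (by
      rcases hj with rfl | rfl | rfl <;> decide) 1⟩

def tCol0 (i : Fin 5) (hi : i = 2 ∨ i = 3 ∨ i = 4) : SL5 :=
  ⟨Matrix.transvection i 1 1, Matrix.det_transvection_of_ne i 1 (by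
      rcases hi with rfl | rfl | rfl <;> decide) 1⟩

omit hs in
theorem coe_tRow0 (j : Fin 5) (hj : j = 2 ∨ j = 3 ∨ j = 4) :
    ((tRow0 j hj : SL5) : M5) = Matrix.transvection 0 j 1 := rfl

omit hs in
theorem coe_tCol0 (i : Fin 5) (hi : i = 2 ∨ i = 3 ∨ i = 4) :
    ((tCol0 i hi : SL5) : M5) = Matrix.transvection i 1 1 := rfl

theorem tRow0_mem (j : Fin 5) (hj : j = 2 ∨ j = 3 ∨ j = 4) :
    tRow0 j hj ∈ Subgroup.centralizer ({s} : Set SL5) := by
  rw [Subgroup.mem_centralizer_iff]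
  intro x hx
  rw [Set.mem_singleton_iff] at hx
  rw [hx]
  apply Subtype.ext
  rw [Matrix.SpecialLinearGroup.coe_mul, Matrix.SpecialLinearGroup.coe_mul, hs, coe_tRow0]
  exact (transv_row_comm j hj).symm

theorem tCol0_mem (i : Fin 5) (hi : i = 2 ∨ i = 3 ∨ i = 4) :
    tCol0 i hi ∈ Subgroup.centralizer ({s} : Set SL5) := by
  rw [Subgroup.mem_centralizer_iff]
  intro x hx
  rw [Set.mem_singleton_iff] at hx
  rw [hx]
  apply Subtype.ext
  rw [Matrix.SpecialLinearGroup.coe_mul, Matrix.SpecialLinearGroup.coe_mul, hs, coe_tCol0]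
  exact (transv_col_comm i hi).symm

theorem tRow_mem_ker (j : Fin 5) (hj : j = 2 ∨ j = 3 ∨ j = 4) :
    (⟨tRow0 j hj, tRow0_mem s hs j hj⟩ : ↥(Subgroup.centralizer ({s} : Set SL5))) ∈
      (blkHom s hs).ker := by
  rw [MonoidHom.mem_ker, blkHom_apply]
  exact blk_transv_row j

theorem tCol_mem_ker (i : Fin 5) (hi : i = 2 ∨ i = 3 ∨ i = 4) :
    (⟨tCol0 i hi, tCol0_mem s hs i hi⟩ : ↥(Subgroup.centralizer ({s} : Set SL5))) ∈
      (blkHom s hs).ker := by
  rw [MonoidHom.mem_ker, blkHom_apply]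
  exact blk_transv_col i

/-- an element centralizing a Sylow 2-subgroup of the centralizer of `s` is `1` or `s` -/
theorem center_sylow (T : Sylow 2 ↥(Subgroup.centralizer ({s} : Set SL5)))
    (y : ↥(Subgroup.centralizer ({s} : Set SL5))) (hy : ∀ t ∈ T, t * y = y * t) :
    y = 1 ∨ (y : SL5) = s := by
  have hFact : Fact (Nat.Prime 2) := ⟨Nat.prime_two⟩
  have hker : (blkHom s hs).ker ≤ T := (isPGroup_ker s hs).le_sylow_of_normal T
  have hA := hform_of_mem s hs y.2
  have key : ∀ t : ↥(Subgroup.centralizer ({s} : Set SL5)), t ∈ (blkHom s hs).ker →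
      ((y : SL5) : M5) * ((t : SL5) : M5) = ((t : SL5) : M5) * ((y : SL5) : M5) := by
    intro t ht
    have h1 := hy t (hker ht)
    have h2 := congrArg (fun u : ↥(Subgroup.centralizer ({s} : Set SL5)) => ((u : SL5) : M5)) h1
    simp only [Subgroup.coe_mul, Matrix.SpecialLinearGroup.coe_mul] at h2
    exact h2.symm
  have h2 := key _ (tRow_mem_ker s hs 2 (Or.inl rfl))
  have h3 := key _ (tRow_mem_ker s hs 3 (Or.inr (Or.inl rfl)))
  have h4 := key _ (tRow_mem_ker s hs 4 (Or.inr (Or.inr rfl)))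
  have k2 := key _ (tCol_mem_ker s hs 2 (Or.inl rfl))
  have k3 := key _ (tCol_mem_ker s hs 3 (Or.inr (Or.inl rfl)))
  have k4 := key _ (tCol_mem_ker s hs 4 (Or.inr (Or.inr rfl)))
  rcases eq_one_or_of_comm hA h2 h3 h4 k2 k3 k4 with h | h
  · left
    apply Subtype.ext
    apply Subtype.ext
    rw [h]; rfl
  · right
    apply Subtype.ext
    rw [h, hs]

end

end Cfsg.Agent.Lib.Helper4.TransvCent
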