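import Mathlib
import Cfsg.Agent.Lib.Helper4.TransvCent2

set_option autoImplicit false

/-! If `z` is the only non-identity element centralizing a Sylow 2-subgroup `T` of `C_G(z)`,
then `T` is a Sylow 2-subgroup of `G`. -/

namespace Cfsg.Agent.Lib.Helper4.TransvCent

variable {G : Type*} [Group G] [Finite G]

local notation "C[" z "]" => Subgroup.centralizer ({z} : Set G)

theorem self_mem_centralizer (z : G) : z ∈ Subgroup.centralizer ({z} : Set G) := by
  rw [Subgroup.mem_centralizer_iff]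
  intro x hx
  rw [Set.mem_singleton_iff] at hx
  rw [hx]

theorem sylow_of_center (z : G) (hz : orderOf z = 2)
    (T : Sylow 2 ↥(Subgroup.centralizer ({z} : Set G)))
    (hcen : ∀ y : ↥(Subgroup.centralizer ({z} : Set G)), (∀ t ∈ T, t * y = y * t) →
      y = 1 ∨ (y : G) = z) :
    ¬ 2 ∣ ((T : Subgroup ↥(Subgroup.centralizer ({z} : Set G))).map
      (Subgroup.subtype (Subgroup.centralizer ({z} : Set G)))).index := by
  have hFact : Fact (Nat.Prime 2) := ⟨Nat.prime_two⟩
  set T' := (T : Subgroup ↥C[z]).map (C[z]).subtype with hT'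
  have hT'C : T' ≤ C[z] := Subgroup.map_subtype_le _
  have hT'p : IsPGroup 2 T' := T.2.map _
  have hz1 : z ≠ 1 := by
    intro h
    rw [h, orderOf_one] at hz
    exact absurd hz (by norm_num)
  intro hdvd
  obtain ⟨P, hP⟩ := hT'p.exists_le_sylow
  have hne : T' ≠ P := by
    intro h
    rw [h] at hdvd
    exact P.not_dvd_index hdvd
  have hlt : T' < P := lt_of_le_of_ne hP hne
  obtain ⟨x, hxP, hxT, hxN⟩ := Cfsg.Agent.Lib.Helper6.exists_mem_normalizer_not_mem hlt P.2
  -- membership in `T'`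
  have hmemT' : ∀ t : ↥C[z], t ∈ T ↔ (t : G) ∈ T' := by
    intro t
    constructor
    · intro ht; exact ⟨t, ht, rfl⟩
    · rintro ⟨t', ht', hte⟩
      have : t' = t := Subtype.ext hte
      rw [← this]; exact ht'
  -- `z ∈ T'`
  let zC : ↥C[z] := ⟨z, self_mem_centralizer z⟩
  have hzcen : zC ∈ Subgroup.center ↥C[z] := by
    rw [Subgroup.mem_center_iff]
    intro g
    apply Subtype.ext
    have := Subgroup.mem_centralizer_iff.mp g.2 z (Set.mem_singleton z)
    simpa [zC] using this.symm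
  have hzT : zC ∈ T := by
    have hn : (Subgroup.zpowers zC).Normal := Cfsg.Agent.Lib.Lead.zpowers_normal_of_mem_center hzcen
    have hp : IsPGroup 2 (Subgroup.zpowers zC) := by
      apply IsPGroup.of_card (n := 1)
      rw [Nat.card_zpowers, pow_one]
      rw [← hz]
      exact Subgroup.orderOf_mk z _
    exact (hp.le_sylow_of_normal T) (Subgroup.mem_zpowers zC)
  have hzT' : z ∈ T' := (hmemT' zC).mp hzT
  -- `x z x⁻¹ ∈ T'` centralizes `T`
  have hw : x * z * x⁻¹ ∈ T' := (Subgroup.mem_normalizer_iff.mp hxN z).mp hzT'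
  have hwC : x * z * x⁻¹ ∈ C[z] := hT'C hw
  have hwcomm : ∀ t ∈ T, t * (⟨x * z * x⁻¹, hwC⟩ : ↥C[z]) = ⟨x * z * x⁻¹, hwC⟩ * t := by
    intro t ht
    apply Subtype.ext
    have ht' : (t : G) ∈ T' := (hmemT' t).mp ht
    have h1 : x⁻¹ * (t : G) * x ∈ T' := by
      have := (Subgroup.mem_normalizer_iff.mp (Subgroup.inv_mem _ hxN) (t : G)).mp ht'
      simpa using this
    have h2 := Subgroup.mem_centralizer_iff.mp (hT'C h1) z (Set.mem_singleton z)
    show (t : G) * (x * z * x⁻¹) = x * z * x⁻¹ * (t : G)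
    calc (t : G) * (x * z * x⁻¹) = x * ((x⁻¹ * (t : G) * x) * z) * x⁻¹ := by group
      _ = x * (z * (x⁻¹ * (t : G) * x)) * x⁻¹ := by rw [h2]
      _ = x * z * x⁻¹ * (t : G) := by group
  have hxC : x ∈ C[z] := by
    rcases hcen _ hwcomm with h | h
    · exfalso
      have h1 : x * z * x⁻¹ = 1 := congrArg Subtype.val h
      apply hz1
      calc z = x⁻¹ * (x * z * x⁻¹) * x := by group
        _ = 1 := by rw [h1]; group
    · have h1 : x * z * x⁻¹ = z := h
      rw [Subgroup.mem_centralizer_iff]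
      intro y hy
      rw [Set.mem_singleton_iff] at hy
      rw [hy]
      calc z * x = (x * z * x⁻¹) * x := by rw [h1]
        _ = x * z := by group
  -- the 2-subgroup `P ∩ C` of `C` contains `T` and `x`
  have hR : IsPGroup 2 ((P : Subgroup G).subgroupOf C[z]) := P.2.comap_subtype
  have hTR : (T : Subgroup ↥C[z]) ≤ (P : Subgroup G).subgroupOf C[z] := by
    intro t ht
    rw [Subgroup.mem_subgroupOf]
    exact hP ((hmemT' t).mp ht)
  have hRT := T.is_maximal' hR hTR
  have hxR : (⟨x, hxC⟩ : ↥C[z]) ∈ (P : Subgroup G).subgroupOf C[z] := by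
    rw [Subgroup.mem_subgroupOf]; exact hxP
  rw [hRT] at hxR
  exact hxT ((hmemT' _).mp hxR)

end Cfsg.Agent.Lib.Helper4.TransvCent
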