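import Mathlib
import Cfsg.Prelude.Def_ConjugacyFunctors
import Cfsg.Prelude.Def_LocalEven
import Cfsg.Agent.Lib.Helper4.Sect6
import Cfsg.Agent.Lib.Lead.TFQuot

set_option autoImplicit false

/-! # Factorizations `C(Ω₁Z(S)) N(W(S))` in constrained sections: transport along isomorphisms and
the lifting through the quotient by the `p'`-core -/

namespace Cfsg.Agent.Lib.Helper4.TriFac

open Cfsg Cfsg.Agent.Lib.Helper4 Cfsg.Agent.Lib.Helper7

universe u

/-- `Ω₁Z(T)` as a subgroup of the ambient group -/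
abbrev Zof {X : Type*} [Group X] (p : ℕ) (T : Subgroup X) : Subgroup X :=
  Cfsg.omegaOne p (T ⊓ Subgroup.centralizer (T : Set X))

theorem Zof_le {X : Type*} [Group X] (p : ℕ) (T : Subgroup X) : Zof p T ≤ T :=
  (Cfsg.Agent.Lib.Lead.TFQuot.omegaOne_le p _).trans inf_le_left

theorem Zof_le_centralizer {X : Type*} [Group X] (p : ℕ) (T : Subgroup X) :
    Zof p T ≤ Subgroup.centralizer (T : Set X) :=
  (Cfsg.Agent.Lib.Lead.TFQuot.omegaOne_le p _).trans inf_le_right

/-- the image of `Ω₁Z(T)` under a homomorphism which is injective on `T` -/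
theorem Zof_map {X Y : Type*} [Group X] [Group Y] (p : ℕ) (f : X →* Y) (T : Subgroup X)
    (hf : Set.InjOn f (T : Set X)) : Zof p (T.map f) = (Zof p T).map f := by
  have h1 : T.map f ⊓ Subgroup.centralizer ((T.map f : Subgroup Y) : Set Y) =
      (T ⊓ Subgroup.centralizer (T : Set X)).map f :=
    Cfsg.Agent.Lib.Lead.Thom.Zc_map_of_injOn f T hf
  unfold Zof
  rw [h1, Cfsg.Agent.Lib.Lead.TFQuot.omegaOne_map_of_injOn p f _ (hf.mono inf_le_left)]

variable {p : ℕ} [hp : Fact p.Prime]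

/-- the factorization `Y = C(Ω₁Z(T)) N(W(T))` for the Sylow subgroups `T` of `Y`, when `Y` is
constrained -/
def Fac (p : ℕ) (W : ∀ (Q : Type u) [Group Q], Subgroup Q) (Y : Type u) [Group Y] : Prop :=
  Subgroup.centralizer ((pCore p Y : Subgroup Y) : Set Y) ≤ pCore p Y →
    ∀ T : Sylow p Y, ∀ x : Y,
      ∃ a ∈ Subgroup.centralizer ((Zof p (T : Subgroup Y) : Subgroup Y) : Set Y),
      ∃ b ∈ Subgroup.normalizer ((inducedFunctor W (T : Subgroup Y) : Subgroup Y) : Set Y), x = a * b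

/-- transport of the factorization along an isomorphism -/
theorem Fac.of_mulEquiv {W : ∀ (Q : Type u) [Group Q], Subgroup Q} (hW : IsCharPFunctor.{u} p W)
    {Y Y' : Type u} [Group Y] [Group Y'] [Finite Y] (e : Y ≃* Y') (h : Fac p W Y') : Fac p W Y := by
  intro hc T x
  have hc' := centralizer_pCore_le_of_mulEquiv (p := p) e hc
  have hsurj : Function.Surjective e.toMonoidHom := e.surjective
  obtain ⟨a', ha', b', hb', hx⟩ := h hc' (T.mapSurjective hsurj) (e x)
  rw [Sylow.coe_mapSurjective] at ha' hb'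
  have hTp : IsPGroup p (T : Subgroup Y) := T.isPGroup'
  have hinj : Set.InjOn e.toMonoidHom ((T : Subgroup Y) : Set Y) := fun a _ b _ hab => e.injective hab
  have hZ : Zof p ((T : Subgroup Y).map e.toMonoidHom) = (Zof p (T : Subgroup Y)).map e.toMonoidHom :=
    Zof_map p e.toMonoidHom _ hinj
  have hV : inducedFunctor W ((T : Subgroup Y).map e.toMonoidHom) =
      (inducedFunctor W (T : Subgroup Y)).map e.toMonoidHom :=
    inducedFunctor_map hW e.toMonoidHom _ hTp (fun y _ hy => by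
      have : e y = e 1 := by rw [map_one]; exact hy
      exact e.injective this)
  rw [hZ] at ha'
  rw [hV, ← Subgroup.map_equiv_normalizer_eq] at hb'
  refine ⟨e.symm a', ?_, e.symm b', ?_, ?_⟩
  · rw [Subgroup.mem_centralizer_iff]
    intro z hz
    have h1 := Subgroup.mem_centralizer_iff.mp ha' (e z) ⟨z, hz, rfl⟩
    apply e.injective
    rw [map_mul, map_mul, MulEquiv.apply_symm_apply]
    exact h1
  · exact Subgroup.mem_map_equiv.mp hb'
  · apply e.injective
    rw [map_mul, MulEquiv.apply_symm_apply, MulEquiv.apply_symm_apply]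
    exact hx

/-- the lifting of the factorization through the quotient by the `p'`-core -/
theorem fac_of_quotient {W : ∀ (Q : Type u) [Group Q], Subgroup Q} (hW : IsCharPFunctor.{u} p W)
    {Y : Type u} [Group Y] [Finite Y] (T : Sylow p Y)
    (hN : pPrimeCore p Y ≤ Subgroup.centralizer ((Zof p (T : Subgroup Y) : Subgroup Y) : Set Y))
    (hq : ∀ x : Y ⧸ pPrimeCore p Y,
      ∃ a ∈ Subgroup.centralizer ((Zof p ((T.mapSurjective (QuotientGroup.mk'_surjective (pPrimeCore p Y)) :
        Sylow p (Y ⧸ pPrimeCore p Y)) : Subgroup (Y ⧸ pPrimeCore p Y)) : Subgroup _) : Set _),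
      ∃ b ∈ Subgroup.normalizer ((inducedFunctor W ((T.mapSurjective
        (QuotientGroup.mk'_surjective (pPrimeCore p Y)) : Sylow p (Y ⧸ pPrimeCore p Y)) :
          Subgroup (Y ⧸ pPrimeCore p Y)) : Subgroup _) : Set _), x = a * b) :
    ∀ y : Y, ∃ c ∈ Subgroup.centralizer ((Zof p (T : Subgroup Y) : Subgroup Y) : Set Y),
      ∃ n ∈ Subgroup.normalizer ((inducedFunctor W (T : Subgroup Y) : Subgroup Y) : Set Y), y = c * n := by
  intro y
  have hRc : (Nat.card (pPrimeCore p Y)).Coprime p := Cfsg.Agent.Lib.Helper6.pPrimeCore_coprime p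
  have hTp : IsPGroup p (T : Subgroup Y) := T.isPGroup'
  have hinj := Cfsg.Agent.Lib.Lead.GT.injOn_mk_of_coprime (pPrimeCore p Y) hRc (T : Subgroup Y) hTp
  obtain ⟨ab, hab, bb, hbb, hy⟩ := hq (QuotientGroup.mk' _ y)
  rw [Sylow.coe_mapSurjective] at hab hbb
  have hZ := Zof_map p (QuotientGroup.mk' (pPrimeCore p Y)) (T : Subgroup Y) hinj
  have hV : inducedFunctor W ((T : Subgroup Y).map (QuotientGroup.mk' (pPrimeCore p Y))) =
      (inducedFunctor W (T : Subgroup Y)).map (QuotientGroup.mk' (pPrimeCore p Y)) :=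
    inducedFunctor_map hW _ _ hTp (fun t ht h1 => by
      have : (QuotientGroup.mk' (pPrimeCore p Y)) t = (QuotientGroup.mk' (pPrimeCore p Y)) 1 := by
        rw [map_one]; exact h1
      exact hinj ht (Subgroup.one_mem _) this)
  rw [hZ, Cfsg.Agent.Lib.Lead.Thom.centralizer_map_mk (pPrimeCore p Y) hRc _
    (hTp.to_le (Zof_le p _))] at hab
  rw [hV, Cfsg.Agent.Lib.Lead.GT.normalizer_map_mk (pPrimeCore p Y) hRc _
    (hTp.to_le (inducedFunctor_le _))] at hbb
  obtain ⟨c, hc, rfl⟩ := hab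
  obtain ⟨n, hn, rfl⟩ := hbb
  rw [← map_mul] at hy
  have hk : y * (c * n)⁻¹ ∈ pPrimeCore p Y := by
    rw [← QuotientGroup.eq_one_iff, ← QuotientGroup.mk'_apply, map_mul, map_inv, hy, mul_inv_cancel]
  refine ⟨y * (c * n)⁻¹ * c, Subgroup.mul_mem _ (hN hk) hc, n, hn, by group⟩

end Cfsg.Agent.Lib.Helper4.TriFac
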