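import Mathlib
import Cfsg.Agent.Lib.Helper4.TriFac1

set_option autoImplicit false

/-! # The factorization `X = C(Ω₁Z(S)) N(W(S))` when `Ω₁Z(S) ≤ O_p(X)` and all constrained sections
factorize -/

namespace Cfsg.Agent.Lib.Helper4.TriFac

open Cfsg Cfsg.Agent.Lib.Helper4 Cfsg.Agent.Lib.Helper7

universe u

theorem isSectionOf_trans {G X Y : Type u} [Group G] [Group X] [Group Y]
    (h1 : IsSectionOf G X) (h2 : IsSectionOf X Y) : IsSectionOf G Y := by
  obtain ⟨K', f', hf'⟩ := h2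
  exact (h1.subgroup K').of_surjective f' hf'

theorem Zof_subgroupOf {X : Type*} [Group X] (p : ℕ) {T L : Subgroup X} (hTL : T ≤ L) :
    (Zof p (T.subgroupOf L)).map L.subtype = Zof p T := by
  have h := Zof_map p L.subtype (T.subgroupOf L) (fun a _ b _ hab => L.subtype_injective hab)
  rw [Subgroup.map_subgroupOf_eq_of_le hTL] at h
  exact h.symm

variable {p : ℕ}

theorem inducedFunctor_subgroupOf {W : ∀ (Q : Type u) [Group Q], Subgroup Q}
    (hW : IsCharPFunctor.{u} p W) {X : Type u} [Group X] [Finite X] {T L : Subgroup X} (hTL : T ≤ L)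
    (hT : IsPGroup p T) :
    (inducedFunctor W (T.subgroupOf L)).map L.subtype = inducedFunctor W T := by
  have hTp : IsPGroup p (T.subgroupOf L) := hT.comap_subtype
  have h := inducedFunctor_map hW L.subtype (T.subgroupOf L) hTp (fun x _ hx => by
    apply L.subtype_injective
    rw [map_one]; exact hx)
  rw [Subgroup.map_subgroupOf_eq_of_le hTL] at h
  exact h.symm

/-- a factorization inside the subgroup `L`, read in the ambient group -/
theorem fac_subgroup_to_ambient {W : ∀ (Q : Type u) [Group Q], Subgroup Q}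
    (hW : IsCharPFunctor.{u} p W) {X : Type u} [Group X] [Finite X] {T L : Subgroup X} (hTL : T ≤ L)
    (hT : IsPGroup p T)
    (h : ∀ y : ↥L, ∃ c ∈ Subgroup.centralizer ((Zof p (T.subgroupOf L) : Subgroup ↥L) : Set ↥L),
      ∃ n ∈ Subgroup.normalizer ((inducedFunctor W (T.subgroupOf L) : Subgroup ↥L) : Set ↥L),
        y = c * n) :
    ∀ y ∈ L, ∃ c ∈ L ⊓ Subgroup.centralizer ((Zof p T : Subgroup X) : Set X),
      ∃ n ∈ L ⊓ Subgroup.normalizer ((inducedFunctor W T : Subgroup X) : Set X), y = c * n := by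
  intro y hy
  obtain ⟨c, hc, n, hn, hyeq⟩ := h ⟨y, hy⟩
  refine ⟨(c : X), Subgroup.mem_inf.mpr ⟨c.2, ?_⟩, (n : X), Subgroup.mem_inf.mpr ⟨n.2, ?_⟩, ?_⟩
  · rw [← Zof_subgroupOf p hTL, Subgroup.mem_centralizer_iff]
    rintro _ ⟨z, hz, rfl⟩
    have := Subgroup.mem_centralizer_iff.mp hc z hz
    exact congrArg Subtype.val this
  · rw [← inducedFunctor_subgroupOf hW hTL hT]
    exact Subgroup.le_normalizer_map L.subtype ⟨n, hn, rfl⟩
  · exact congrArg Subtype.val hyeq

variable [hp : Fact p.Prime]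

/-- if `Ω₁Z(S) ≤ O_p(X)` and every constrained section of `X` factorizes, then
`X = C(Ω₁Z(S)) N(W(S))` -/
theorem fac_of_le_pCore {W : ∀ (Q : Type u) [Group Q], Subgroup Q} (hW : IsCharPFunctor.{u} p W)
    {X : Type u} [Group X] [Finite X] (S : Sylow p X)
    (hsec : ∀ (Y : Type u) [Group Y] [Finite Y], IsSectionOf X Y → Fac p W Y)
    (hZ : Zof p (S : Subgroup X) ≤ pCore p X) :
    ∀ x : X, ∃ c ∈ Subgroup.centralizer ((Zof p (S : Subgroup X) : Subgroup X) : Set X),
      ∃ n ∈ Subgroup.normalizer ((inducedFunctor W (S : Subgroup X) : Subgroup X) : Set X),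
        x = c * n := by
  intro x
  have hSp : IsPGroup p (S : Subgroup X) := S.isPGroup'
  obtain ⟨Q, hQdef⟩ : ∃ Q : Subgroup X, Q = pCore p X := ⟨_, rfl⟩
  have hQn : Q.Normal := by rw [hQdef]; infer_instance
  have hQS : Q ≤ (S : Subgroup X) := by rw [hQdef]; exact Cfsg.Agent.Lib.Helper6.pCore_le_sylow S
  rw [← hQdef] at hZ
  obtain ⟨CS, hCSdef⟩ : ∃ CS : Subgroup X,
    CS = (S : Subgroup X) ⊓ Subgroup.centralizer (Q : Set X) := ⟨_, rfl⟩
  obtain ⟨R', hR'def⟩ : ∃ R' : Subgroup X, R' = Q ⊔ CS := ⟨_, rfl⟩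
  obtain ⟨L, hLdef⟩ : ∃ L : Subgroup X, L = Subgroup.normalizer (R' : Set X) := ⟨_, rfl⟩
  have hx : x ∈ Subgroup.normalizer (((⊥ : Subgroup X) : Subgroup X) : Set X) := by
    rw [Subgroup.normalizer_eq_top]; exact Subgroup.mem_top x
  obtain ⟨c₀, hc₀, n₀, hn₀, hxeq, -⟩ := decomp_centralizer S Q (D := ⊥) bot_le hx
  rw [← hCSdef, ← hR'def, ← hLdef] at hn₀
  have hR'S : R' ≤ (S : Subgroup X) := by rw [hR'def, hCSdef]; exact sup_le hQS inf_le_left
  have hR'p : IsPGroup p R' := hSp.to_le hR'S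
  have hQR' : Q ≤ R' := by rw [hR'def]; exact le_sup_left
  have hCSR' : CS ≤ R' := by rw [hR'def]; exact le_sup_right
  have hSL : (S : Subgroup X) ≤ L := by
    intro s hs
    have h1 : s ∈ Subgroup.normalizer ((Q : Subgroup X) : Set X) := by
      rw [Subgroup.normalizer_eq_top]; exact Subgroup.mem_top s
    have h2 : s ∈ Subgroup.normalizer ((CS : Subgroup X) : Set X) := by
      rw [hCSdef]
      apply normalizer_inf_le
      refine ⟨Subgroup.le_normalizer hs, ?_⟩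
      have : (Subgroup.centralizer (Q : Set X)).Normal := Subgroup.normal_centralizer
      rw [Subgroup.normalizer_eq_top]; exact Subgroup.mem_top s
    rw [hLdef, mem_normalizer_iff_cj, hR'def, cj_sup, mem_normalizer_iff_cj.mp h1,
      mem_normalizer_iff_cj.mp h2]
  obtain ⟨SL, hSLdef⟩ : ∃ SL : Sylow p ↥L, (SL : Subgroup ↥L) = (S : Subgroup X).subgroupOf L :=
    ⟨S.subtype hSL, Sylow.coe_subtype S hSL⟩
  obtain ⟨RL, hRLdef⟩ : ∃ RL : Subgroup ↥L, RL = R'.subgroupOf L := ⟨_, rfl⟩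
  have hR'L : R' ≤ L := by rw [hLdef]; exact Subgroup.le_normalizer
  have hRLn : RL.Normal := by
    rw [hRLdef]; exact (Subgroup.normal_subgroupOf_iff_le_normalizer hR'L).mpr (by rw [hLdef])
  have hRLp : IsPGroup p RL := by rw [hRLdef]; exact hR'p.comap_subtype
  have hRLcore : RL ≤ pCore p ↥L := Cfsg.Agent.Lib.Helper6.le_pCore hRLn hRLp
  have hcon : (SL : Subgroup ↥L) ⊓ Subgroup.centralizer ((pCore p ↥L : Subgroup ↥L) : Set ↥L) ≤
      pCore p ↥L := by
    intro s hs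
    obtain ⟨hs1, hs2⟩ := Subgroup.mem_inf.mp hs
    apply hRLcore
    rw [hRLdef, Subgroup.mem_subgroupOf]
    apply hCSR'
    rw [hCSdef]
    refine Subgroup.mem_inf.mpr ⟨?_, ?_⟩
    · rw [hSLdef, Subgroup.mem_subgroupOf] at hs1; exact hs1
    · rw [Subgroup.mem_centralizer_iff]
      intro q hq
      have hqL : q ∈ L := hR'L (hQR' hq)
      have h1 : (⟨q, hqL⟩ : ↥L) ∈ pCore p ↥L := by
        apply hRLcore; rw [hRLdef, Subgroup.mem_subgroupOf]; exact hQR' hq
      have h2 := Subgroup.mem_centralizer_iff.mp hs2 _ h1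
      exact congrArg Subtype.val h2
  have hquot := centralizer_pCore_quotient_le SL hcon
  have hZmap : (Zof p (SL : Subgroup ↥L)).map L.subtype = Zof p (S : Subgroup X) := by
    rw [hSLdef]; exact Zof_subgroupOf p hSL
  have hZL : Zof p (SL : Subgroup ↥L) ≤ RL := by
    intro z hz
    rw [hRLdef, Subgroup.mem_subgroupOf]
    apply hQR'; apply hZ
    rw [← hZmap]; exact ⟨z, hz, rfl⟩
  have hK : pPrimeCore p ↥L ≤
      Subgroup.centralizer ((Zof p (SL : Subgroup ↥L) : Subgroup ↥L) : Set ↥L) := by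
    have hKc : (Nat.card (pPrimeCore p ↥L)).Coprime p :=
      Cfsg.Agent.Lib.Helper6.pPrimeCore_coprime p
    have hd : RL ⊓ pPrimeCore p ↥L = ⊥ :=
      Cfsg.Agent.Lib.Helper6.isPGroup_inf_coprime_eq_bot hKc hRLp
    have hcomm : ⁅pPrimeCore p ↥L, RL⁆ = ⊥ := by
      have := Subgroup.commutator_le_inf (pPrimeCore p ↥L) RL
      rw [inf_comm, hd] at this
      exact le_bot_iff.mp this
    have h1 : pPrimeCore p ↥L ≤ Subgroup.centralizer (RL : Set ↥L) :=
      Subgroup.commutator_eq_bot_iff_le_centralizer.mp hcomm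
    exact h1.trans (Subgroup.centralizer_le hZL)
  have hsecL : IsSectionOf X (↥L ⧸ pPrimeCore p ↥L) :=
    ((IsSectionOf.refl X).subgroup L).quotient _
  have hfacq := hsec (↥L ⧸ pPrimeCore p ↥L) hsecL hquot
    (SL.mapSurjective (QuotientGroup.mk'_surjective (pPrimeCore p ↥L)))
  have hfacL := fac_of_quotient hW SL hK hfacq
  rw [hSLdef] at hfacL
  obtain ⟨c₁, hc₁, n₁, hn₁, hn₀eq⟩ := fac_subgroup_to_ambient hW hSL hSp hfacL n₀ hn₀
  refine ⟨c₀ * c₁, ?_, n₁, (Subgroup.mem_inf.mp hn₁).2, ?_⟩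
  · apply Subgroup.mul_mem _ ?_ (Subgroup.mem_inf.mp hc₁).2
    exact Subgroup.centralizer_le hZ hc₀
  · rw [hxeq, hn₀eq, mul_assoc]

end Cfsg.Agent.Lib.Helper4.TriFac
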