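import Mathlib
import Cfsg.Agent.Lib.Helper4.TriFac2

set_option autoImplicit false

/-! # Normal closures of `Ω₁Z(S)` in the normalizers `N(W₁(S))`, `N(W₂(S))` under the triple
factorization, and the resulting strongly closed abelian subgroup -/

namespace Cfsg.Agent.Lib.Helper4.TriFac

open Cfsg Cfsg.Agent.Lib.Helper4 Cfsg.Agent.Lib.Helper7

universe u

section ncl

variable {G : Type*} [Group G]

/-- the normal closure of `Z` under `H`, as a subgroup of the ambient group -/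
def ncl (H Z : Subgroup G) : Subgroup G :=
  Subgroup.closure {x : G | ∃ h ∈ H, ∃ z ∈ Z, x = h * z * h⁻¹}

theorem le_ncl (H Z : Subgroup G) : Z ≤ ncl H Z := fun z hz =>
  Subgroup.subset_closure ⟨1, H.one_mem, z, hz, by simp⟩

theorem ncl_le {H Z B : Subgroup G} (hZB : Z ≤ B) (hHB : H ≤ Subgroup.normalizer (B : Set G)) :
    ncl H Z ≤ B := by
  unfold ncl
  rw [Subgroup.closure_le]
  rintro _ ⟨h, hh, z, hz, rfl⟩
  exact (Subgroup.mem_normalizer_iff.mp (hHB hh) z).mp (hZB hz)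

theorem le_normalizer_closure {H : Subgroup G} {s : Set G}
    (hs : ∀ h ∈ H, ∀ x ∈ s, h * x * h⁻¹ ∈ s) :
    H ≤ Subgroup.normalizer ((Subgroup.closure s : Subgroup G) : Set G) := by
  have key : ∀ h ∈ H, ∀ x ∈ Subgroup.closure s, h * x * h⁻¹ ∈ Subgroup.closure s := by
    intro h hh x hx
    induction hx using Subgroup.closure_induction with
    | mem x hx => exact Subgroup.subset_closure (hs h hh x hx)
    | one => simp
    | mul x y _ _ ihx ihy =>
      have e : h * (x * y) * h⁻¹ = (h * x * h⁻¹) * (h * y * h⁻¹) := by group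
      rw [e]; exact Subgroup.mul_mem _ ihx ihy
    | inv x _ ih =>
      have e : h * x⁻¹ * h⁻¹ = (h * x * h⁻¹)⁻¹ := by group
      rw [e]; exact Subgroup.inv_mem _ ih
  intro h hh
  rw [Subgroup.mem_normalizer_iff]
  intro x
  constructor
  · exact key h hh x
  · intro hx
    have h1 := key h⁻¹ (H.inv_mem hh) _ hx
    have e : h⁻¹ * (h * x * h⁻¹) * h⁻¹⁻¹ = x := by group
    rwa [e] at h1

theorem le_normalizer_ncl (H Z : Subgroup G) :
    H ≤ Subgroup.normalizer ((ncl H Z : Subgroup G) : Set G) := by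
  apply le_normalizer_closure
  rintro h hh _ ⟨k, hk, z, hz, rfl⟩
  exact ⟨h * k, H.mul_mem hh hk, z, hz, by group⟩

theorem ncl_eq_of_factor {H H' Z : Subgroup G} (hH'H : H' ≤ H)
    (hfac : ∀ y ∈ H, ∃ n ∈ H', ∃ c ∈ Subgroup.centralizer (Z : Set G), y = n * c) :
    ncl H Z = ncl H' Z := by
  apply le_antisymm
  · unfold ncl
    rw [Subgroup.closure_le]
    rintro _ ⟨y, hy, z, hz, rfl⟩
    obtain ⟨n, hn, c, hc, rfl⟩ := hfac y hy
    apply Subgroup.subset_closure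
    refine ⟨n, hn, z, hz, ?_⟩
    have hcz : z * c = c * z := Subgroup.mem_centralizer_iff.mp hc z hz
    calc n * c * z * (n * c)⁻¹ = n * (c * z) * c⁻¹ * n⁻¹ := by group
      _ = n * (z * c) * c⁻¹ * n⁻¹ := by rw [hcz]
      _ = n * z * n⁻¹ := by group
  · apply Subgroup.closure_mono
    rintro _ ⟨h, hh, z, hz, rfl⟩
    exact ⟨h, hH'H hh, z, hz, rfl⟩

/-- the statement's form of the normal closure -/
theorem map_normalClosure_subgroupOf {H Z : Subgroup G} (hZH : Z ≤ H) :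
    (Subgroup.normalClosure ((Z.subgroupOf H : Subgroup ↥H) : Set ↥H)).map H.subtype = ncl H Z := by
  apply le_antisymm
  · have hle : ncl H Z ≤ H := ncl_le hZH Subgroup.le_normalizer
    have hn : ((ncl H Z).subgroupOf H).Normal :=
      (Subgroup.normal_subgroupOf_iff_le_normalizer hle).mpr (le_normalizer_ncl H Z)
    have h1 : Subgroup.normalClosure ((Z.subgroupOf H : Subgroup ↥H) : Set ↥H) ≤
        (ncl H Z).subgroupOf H := by
      apply Subgroup.normalClosure_le_normal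
      intro z hz
      exact le_ncl H Z hz
    calc _ ≤ ((ncl H Z).subgroupOf H).map H.subtype := Subgroup.map_mono h1
      _ ≤ ncl H Z := by rw [Subgroup.map_subgroupOf_eq_of_le hle]
  · apply ncl_le
    · intro z hz
      exact ⟨⟨z, hZH hz⟩, Subgroup.subset_normalClosure hz, rfl⟩
    · intro h hh
      apply Subgroup.le_normalizer_map H.subtype
      refine ⟨⟨h, hh⟩, ?_, rfl⟩
      rw [Subgroup.normalizer_eq_top]
      exact Subgroup.mem_top _

theorem pow_eq_one_of_mem_closure {s : Set G} {B : Subgroup G} (n : ℕ) (hsB : s ⊆ B)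
    (hB : ∀ x ∈ B, ∀ y ∈ B, x * y = y * x) (hs : ∀ x ∈ s, x ^ n = 1) :
    ∀ x ∈ Subgroup.closure s, x ^ n = 1 := by
  intro x hx
  have hcl : Subgroup.closure s ≤ B := (Subgroup.closure_le B).mpr hsB
  induction hx using Subgroup.closure_induction with
  | mem x hx => exact hs x hx
  | one => exact one_pow n
  | mul x y hx hy ihx ihy =>
    have hc : Commute x y := hB x (hcl hx) y (hcl hy)
    rw [hc.mul_pow, ihx, ihy, one_mul]
  | inv x _ ih => rw [inv_pow, ih, inv_one]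

/-- `Ω₁Z(T)` has exponent `p` -/
theorem Zof_pow_eq_one (p : ℕ) (T : Subgroup G) : ∀ z ∈ Zof p T, z ^ p = 1 := by
  apply pow_eq_one_of_mem_closure (B := T ⊓ Subgroup.centralizer (T : Set G)) p
  · intro x hx; exact hx.1
  · intro x hx y hy
    exact (Subgroup.mem_centralizer_iff.mp (Subgroup.mem_inf.mp hy).2 x (Subgroup.mem_inf.mp hx).1)
  · intro x hx; exact hx.2

theorem fchain_mem_of_le {𝓦 : Set (Subgroup G → Subgroup G)} {H T M : Subgroup G} {A : Set G} {c : G}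
    (h : FChain 𝓦 H T A c)
    (hM : ∀ W ∈ 𝓦, Subgroup.normalizer ((W T : Subgroup G) : Set G) ≤ M) : c ∈ M := by
  induction h with
  | nil hA => exact M.one_mem
  | step c y _ hy _ ih =>
    obtain ⟨W, hW, hyW⟩ := hy
    exact M.mul_mem (hM W hW (Subgroup.mem_inf.mp hyW).2) ih

end ncl

variable {p : ℕ} [hp : Fact p.Prime]

/-- `N(W(S)) = (N(W(S)) ∩ N(W'(S))) C(Ω₁Z(S))` when `Ω₁Z(S) ≤ W(S)` and the constrained sections
factorize for `W'` -/
theorem normalizer_factor {W W' : ∀ (Q : Type u) [Group Q], Subgroup Q}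
    (hW : IsCharPFunctor.{u} p W) (hW' : IsCharPFunctor.{u} p W')
    {G : Type u} [Group G] [Finite G] (S : Sylow p G)
    (hsec' : ∀ (Y : Type u) [Group Y] [Finite Y], IsSectionOf G Y → Fac p W' Y)
    (hZ : Zof p (S : Subgroup G) ≤ inducedFunctor W (S : Subgroup G)) :
    ∀ y ∈ Subgroup.normalizer ((inducedFunctor W (S : Subgroup G) : Subgroup G) : Set G),
      ∃ n ∈ Subgroup.normalizer ((inducedFunctor W (S : Subgroup G) : Subgroup G) : Set G) ⊓
          Subgroup.normalizer ((inducedFunctor W' (S : Subgroup G) : Subgroup G) : Set G),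
        ∃ c ∈ Subgroup.centralizer ((Zof p (S : Subgroup G) : Subgroup G) : Set G), y = n * c := by
  have hSp : IsPGroup p (S : Subgroup G) := S.isPGroup'
  obtain ⟨V, hVdef⟩ : ∃ V : Subgroup G, V = inducedFunctor W (S : Subgroup G) := ⟨_, rfl⟩
  obtain ⟨N, hNdef⟩ : ∃ N : Subgroup G, N = Subgroup.normalizer (V : Set G) := ⟨_, rfl⟩
  rw [← hVdef] at hZ ⊢
  rw [← hNdef]
  have hVS : V ≤ (S : Subgroup G) := by rw [hVdef]; exact inducedFunctor_le _
  have hSN : (S : Subgroup G) ≤ N := by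
    rw [hNdef, hVdef]; exact le_normalizer_functor (isConjugacyFunctor_inducedFunctor hW) hSp
  have hVN : V ≤ N := hVS.trans hSN
  obtain ⟨SN, hSNdef⟩ : ∃ SN : Sylow p ↥N, (SN : Subgroup ↥N) = (S : Subgroup G).subgroupOf N :=
    ⟨S.subtype hSN, Sylow.coe_subtype S hSN⟩
  have hVNn : (V.subgroupOf N).Normal :=
    (Subgroup.normal_subgroupOf_iff_le_normalizer hVN).mpr (by rw [hNdef])
  have hVNp : IsPGroup p (V.subgroupOf N) := (hSp.to_le hVS).comap_subtype
  have hZcore : Zof p (SN : Subgroup ↥N) ≤ pCore p ↥N := by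
    intro z hz
    apply Cfsg.Agent.Lib.Helper6.le_pCore hVNn hVNp
    rw [Subgroup.mem_subgroupOf]
    apply hZ
    rw [← Zof_subgroupOf p hSN, ← hSNdef]
    exact ⟨z, hz, rfl⟩
  have hsecN : ∀ (Y : Type u) [Group Y] [Finite Y], IsSectionOf ↥N Y → Fac p W' Y := by
    intro Y _ _ hY
    exact hsec' Y (isSectionOf_trans ((IsSectionOf.refl G).subgroup N) hY)
  have hfacN := fac_of_le_pCore hW' SN hsecN hZcore
  rw [hSNdef] at hfacN
  have hfacG := fac_subgroup_to_ambient hW' hSN hSp hfacN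
  intro y hy
  obtain ⟨c, hc, n, hn, hyeq⟩ := hfacG y⁻¹ (N.inv_mem hy)
  refine ⟨n⁻¹, Subgroup.inv_mem _ hn, c⁻¹, Subgroup.inv_mem _ (Subgroup.mem_inf.mp hc).2, ?_⟩
  rw [← mul_inv_rev, ← hyeq, inv_inv]

/-- the main theorem, with the normal closure in the form `ncl` -/
theorem strongly_closed_of_factorization {G : Type u} [Group G] [Finite G] (S : Sylow p G)
    (W₁ W₂ : ∀ (Q : Type u) [Group Q], Subgroup Q)
    (hW₁ : IsCharPFunctor.{u} p W₁) (hW₂ : IsCharPFunctor.{u} p W₂)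
    (hsec₁ : ∀ (Y : Type u) [Group Y] [Finite Y], IsSectionOf G Y → Fac p W₁ Y)
    (hsec₂ : ∀ (Y : Type u) [Group Y] [Finite Y], IsSectionOf G Y → Fac p W₂ Y)
    (hctl : FamilyControlsStrongFusionIn p
      {inducedFunctor (G := G) W₁, inducedFunctor (G := G) W₂} ⊤)
    (hZ : Zof p (S : Subgroup G) ≤
      inducedFunctor W₁ (S : Subgroup G) ⊓ inducedFunctor W₂ (S : Subgroup G))
    (A : Subgroup G)
    (hA : A = ncl (Subgroup.normalizer ((inducedFunctor W₁ (S : Subgroup G) : Subgroup G) : Set G))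
      (Zof p (S : Subgroup G))) :
    A ≤ (S : Subgroup G) ∧ IsElementaryAbelian p A ∧ IsStronglyClosed A (S : Subgroup G) ∧
      ControlsStrongFusion p A := by
  have hSp : IsPGroup p (S : Subgroup G) := S.isPGroup'
  obtain ⟨Z, hZdef⟩ : ∃ Z : Subgroup G, Z = Zof p (S : Subgroup G) := ⟨_, rfl⟩
  obtain ⟨V₁, hV₁def⟩ : ∃ V : Subgroup G, V = inducedFunctor W₁ (S : Subgroup G) := ⟨_, rfl⟩
  obtain ⟨V₂, hV₂def⟩ : ∃ V : Subgroup G, V = inducedFunctor W₂ (S : Subgroup G) := ⟨_, rfl⟩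
  obtain ⟨N₁, hN₁def⟩ : ∃ N : Subgroup G, N = Subgroup.normalizer (V₁ : Set G) := ⟨_, rfl⟩
  obtain ⟨N₂, hN₂def⟩ : ∃ N : Subgroup G, N = Subgroup.normalizer (V₂ : Set G) := ⟨_, rfl⟩
  have hf₁ := normalizer_factor hW₁ hW₂ S hsec₂ (hZ.trans inf_le_left)
  have hf₂ := normalizer_factor hW₂ hW₁ S hsec₁ (hZ.trans inf_le_right)
  rw [← hZdef, ← hV₁def, ← hV₂def] at hZ
  rw [← hZdef, ← hV₁def, ← hV₂def, ← hN₁def, ← hN₂def] at hf₁ hf₂
  rw [← hZdef, ← hV₁def, ← hN₁def] at hA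
  have hZS : Z ≤ (S : Subgroup G) := by rw [hZdef]; exact Zof_le p _
  have hZc : Z ≤ Subgroup.centralizer ((S : Subgroup G) : Set G) := by
    rw [hZdef]; exact Zof_le_centralizer p _
  have hV₁S : V₁ ≤ (S : Subgroup G) := by rw [hV₁def]; exact inducedFunctor_le _
  have e₁ : ncl N₁ Z = ncl (N₁ ⊓ N₂) Z := ncl_eq_of_factor inf_le_left hf₁
  have e₂ : ncl N₂ Z = ncl (N₁ ⊓ N₂) Z := by
    rw [inf_comm]; exact ncl_eq_of_factor inf_le_left hf₂
  have hN₁A : N₁ ≤ Subgroup.normalizer (A : Set G) := by rw [hA]; exact le_normalizer_ncl N₁ Z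
  have hN₂A : N₂ ≤ Subgroup.normalizer (A : Set G) := by
    rw [hA, e₁, ← e₂]; exact le_normalizer_ncl N₂ Z
  -- `A ≤ Z(V₁)`
  have hAZV : A ≤ V₁ ⊓ Subgroup.centralizer (V₁ : Set G) := by
    rw [hA]
    unfold ncl
    rw [Subgroup.closure_le]
    rintro _ ⟨h, hh, z, hz, rfl⟩
    rw [hN₁def] at hh
    refine Subgroup.mem_inf.mpr ⟨?_, ?_⟩
    · exact (Subgroup.mem_normalizer_iff.mp hh z).mp (hZ hz).1
    · rw [Subgroup.mem_centralizer_iff]
      intro v hv
      have h1 : h⁻¹ * v * h⁻¹⁻¹ ∈ V₁ :=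
        (Subgroup.mem_normalizer_iff.mp (Subgroup.inv_mem _ hh) v).mp hv
      have h2 : (h⁻¹ * v * h⁻¹⁻¹) * z = z * (h⁻¹ * v * h⁻¹⁻¹) :=
        Subgroup.mem_centralizer_iff.mp (hZc hz) _ (hV₁S h1)
      calc v * (h * z * h⁻¹) = h * ((h⁻¹ * v * h⁻¹⁻¹) * z) * h⁻¹ := by group
        _ = h * (z * (h⁻¹ * v * h⁻¹⁻¹)) * h⁻¹ := by rw [h2]
        _ = h * z * h⁻¹ * v := by group
  have hAS : A ≤ (S : Subgroup G) := hAZV.trans (inf_le_left.trans hV₁S)
  have hcomm : ∀ x ∈ V₁ ⊓ Subgroup.centralizer (V₁ : Set G),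
      ∀ y ∈ V₁ ⊓ Subgroup.centralizer (V₁ : Set G), x * y = y * x := by
    intro x hx y hy
    exact Subgroup.mem_centralizer_iff.mp (Subgroup.mem_inf.mp hy).2 x (Subgroup.mem_inf.mp hx).1
  have hAel : IsElementaryAbelian p A := by
    refine ⟨⟨⟨fun a b => Subtype.ext (hcomm a (hAZV a.2) b (hAZV b.2))⟩⟩, ?_⟩
    have hgen : {x : G | ∃ h ∈ N₁, ∃ z ∈ Z, x = h * z * h⁻¹} ⊆
        ((V₁ ⊓ Subgroup.centralizer (V₁ : Set G) : Subgroup G) : Set G) := by
      intro x hx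
      apply hAZV
      rw [hA]
      exact Subgroup.subset_closure hx
    rw [hA]
    apply pow_eq_one_of_mem_closure p hgen hcomm
    rintro _ ⟨h, hh, z, hz, rfl⟩
    have hzp : z ^ p = 1 := by
      rw [hZdef] at hz; exact Zof_pow_eq_one p _ z hz
    rw [conj_pow, hzp, mul_one, mul_inv_cancel]
  -- fusion
  have h𝓦 : ∀ W ∈ ({inducedFunctor (G := G) W₁, inducedFunctor (G := G) W₂} :
      Set (Subgroup G → Subgroup G)), IsConjugacyFunctor p W := by
    intro W hW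
    rcases hW with rfl | rfl
    · exact isConjugacyFunctor_inducedFunctor hW₁
    · exact isConjugacyFunctor_inducedFunctor hW₂
  have hMle : ∀ W ∈ ({inducedFunctor (G := G) W₁, inducedFunctor (G := G) W₂} :
      Set (Subgroup G → Subgroup G)),
      Subgroup.normalizer ((W (S : Subgroup G) : Subgroup G) : Set G) ≤
        Subgroup.normalizer (A : Set G) := by
    intro W hW
    rcases hW with rfl | rfl
    · rw [← hV₁def, ← hN₁def]; exact hN₁A
    · rw [← hV₂def, ← hN₂def]; exact hN₂A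
  have hreach : ∀ (A' : Set G) (g : G), A' ⊆ (S : Subgroup G) →
      (fun a => g * a * g⁻¹) '' A' ⊆ (S : Subgroup G) →
      ∃ x ∈ Subgroup.normalizer (A : Set G), ∀ a ∈ A', g * a * g⁻¹ = x * a * x⁻¹ := by
    intro A' g hA' hgA'
    have hRi : ¬ p ∣ (S : Subgroup G).relIndex ⊤ := by
      rw [Subgroup.relIndex_top_right]; exact S.not_dvd_index
    obtain ⟨c, hch, hceq⟩ := reach_of_familyControls h𝓦 hctl (le_top : (S : Subgroup G) ≤ ⊤) hSp hRi
      A' g (Subgroup.mem_top g) hA' hgA'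
    exact ⟨c, fchain_mem_of_le hch hMle, fun a ha => (hceq a ha).symm⟩
  refine ⟨hAS, hAel, ⟨hAS, ?_⟩, ⟨S, hAS, fun A' hA' => ⟨hA', fun g hg => hreach A' g hA' hg⟩⟩⟩
  intro x hx g hgx
  obtain ⟨c, hc, hceq⟩ := hreach {x} g (by
    intro a ha; rw [Set.mem_singleton_iff] at ha; rw [ha]; exact hAS hx) (by
    rintro _ ⟨a, ha, rfl⟩; rw [Set.mem_singleton_iff] at ha; rw [ha]; exact hgx)
  rw [hceq x (Set.mem_singleton x)]
  exact (Subgroup.mem_normalizer_iff.mp hc x).mp hx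

end Cfsg.Agent.Lib.Helper4.TriFac
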