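import Mathlib

set_option autoImplicit false

/-! Step 4 of the proof of Vaughan-Lee's theorem (S3777), the double count, as PURE linear algebra
over a finite field `F` (abstract form: a function `Kf : V → Submodule F V` plays the role of
`u ↦ ker ψ(u, ·)`).  Main result: `step4_count`. -/

namespace Cfsg.Agent.Lib.Helper4.VL
open Module Submodule

section card

variable {F : Type*} [Field F] [Finite F] {V : Type*} [AddCommGroup V] [Module F V]
  [FiniteDimensional F V]

omit [Finite F] in
theorem natCard_submodule (S : Submodule F V) : Nat.card S = Nat.card F ^ finrank F S :=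
  Module.natCard_eq_pow_finrank

omit [Finite F] in
theorem ncard_submodule (S : Submodule F V) : (S : Set V).ncard = Nat.card F ^ finrank F S :=
  (Nat.card_coe_set_eq (S : Set V)).symm.trans (natCard_submodule S)

omit [Finite F] in
/-- two distinct subspaces of dimension `n` inside a subspace of dimension `n + 1` meet in dimension
`n - 1`. -/
theorem finrank_inf_add_one {n : ℕ} (A B T : Submodule F V) (hA : A ≤ T) (hB : B ≤ T)
    (hT : finrank F T = n + 1) (hAn : finrank F A = n) (hBn : finrank F B = n) (hne : A ≠ B) :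
    finrank F (A ⊓ B : Submodule F V) + 1 = n := by
  have hlt : A < A ⊔ B := by
    refine lt_of_le_of_ne le_sup_left (fun h => hne ?_)
    have hBA : B ≤ A := by rw [h]; exact le_sup_right
    exact (eq_of_le_of_finrank_eq hBA (by rw [hAn, hBn])).symm
  have h1 : n < finrank F (A ⊔ B : Submodule F V) := hAn ▸ finrank_lt_finrank_of_lt hlt
  have h2 : finrank F (A ⊔ B : Submodule F V) ≤ n + 1 := hT ▸ finrank_mono (sup_le hA hB)
  have h3 := finrank_sup_add_finrank_inf_eq A B
  omega

theorem ncard_diff_union (H A B : Submodule F V) (hA : A ≤ H) (hB : B ≤ H) :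
    ((H : Set V) \ ((A : Set V) ∪ (B : Set V))).ncard + Nat.card F ^ finrank F A
        + Nat.card F ^ finrank F B
      = Nat.card F ^ finrank F H + Nat.card F ^ finrank F (A ⊓ B : Submodule F V) := by
  have : Finite V := Module.finite_of_finite F
  have h1 := Set.ncard_sdiff_add_ncard_of_subset (s := (A : Set V) ∪ B) (t := (H : Set V))
    (Set.union_subset hA hB)
  have h2 := Set.ncard_union_add_ncard_inter (A : Set V) (B : Set V)
  rw [← Submodule.coe_inf, ncard_submodule, ncard_submodule, ncard_submodule] at h2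
  rw [ncard_submodule] at h1
  omega

theorem ncard_compl_submodule (M : Submodule F V) :
    ({u : V | u ∉ M}).ncard + Nat.card F ^ finrank F M = Nat.card F ^ finrank F V := by
  have : Finite V := Module.finite_of_finite F
  have h1 := Set.ncard_sdiff_add_ncard_of_subset (s := (M : Set V)) (t := (Set.univ : Set V))
    (Set.subset_univ _)
  rw [ncard_submodule, Set.ncard_univ, Module.natCard_eq_pow_finrank (K := F) (V := V)] at h1
  have : (Set.univ : Set V) \ (M : Set V) = {u : V | u ∉ M} := by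
    ext u; simp
  rw [this] at h1
  exact h1

end card

section count

variable {F : Type*} [Field F] [Finite F] {V : Type*} [AddCommGroup V] [Module F V]
  [FiniteDimensional F V]

open Classical in
/-- The double count, for `dim V = n + 3`. -/
theorem step4_count_aux {n : ℕ} (hd : finrank F V = n + 3) (M : Submodule F V)
    (hM : finrank F M = n + 2) (Kf : V → Submodule F V)
    (Bf : Submodule F V → Submodule F V)
    (hBf : ∀ H : Submodule F V, finrank F H = n + 2 → H ≠ M →
      Bf H ≤ H ∧ finrank F (Bf H) = n + 1 ∧ Bf H ≠ H ⊓ M ∧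
        ∀ u ∈ H, u ∉ M → u ∉ Bf H → Kf u ≤ H) :
    ∃ (_ : Fintype V) (X S : ℕ), X + 2 * Nat.card F ^ (n + 1) = Nat.card F ^ (n + 2) + Nat.card F ^ n ∧
      S + Nat.card F = Nat.card F ^ (n + 3) ∧
      S * X + (Finset.univ.filter (fun u : V => u ∉ M)).card
        ≤ ∑ u ∈ Finset.univ.filter (fun u : V => u ∉ M),
            Nat.card F ^ (n + 3 - finrank F (Kf u)) := by
  have hfinV : Finite V := Module.finite_of_finite F
  have hfinD : Finite (Dual F V) := Module.finite_of_finite F
  let _ : Fintype V := Fintype.ofFinite V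
  let _ : Fintype (Dual F V) := Fintype.ofFinite _
  set q := Nat.card F with hq
  -- the relation
  let r : Dual F V → V → Prop := fun α u => α u = 0 ∧ u ∉ Bf (LinearMap.ker α)
  let s : Finset (Dual F V) := Finset.univ.filter (fun α => α ∉ M.dualAnnihilator)
  let t : Finset V := Finset.univ.filter (fun u : V => u ∉ M)
  -- facts on `α ∈ s`
  have hs : ∀ α ∈ s, finrank F (LinearMap.ker α) = n + 2 ∧ LinearMap.ker α ≠ M := by
    intro α hα
    have hα' : α ∉ M.dualAnnihilator := (Finset.mem_filter.mp hα).2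
    have hne : α ≠ 0 := fun h => hα' (h ▸ Submodule.zero_mem _)
    refine ⟨?_, ?_⟩
    · have := Module.Dual.finrank_ker_add_one_of_ne_zero hne
      omega
    · intro h
      apply hα'
      rw [Submodule.mem_dualAnnihilator]
      intro w hw
      rw [← h] at hw
      exact hw
  -- cardinality of `s`
  have hcard_s : s.card + q = q ^ (n + 3) := by
    have h1 := ncard_compl_submodule (F := F) (M.dualAnnihilator)
    have h2 := Subspace.finrank_add_finrank_dualAnnihilator_eq M
    have h3 : finrank F M.dualAnnihilator = 1 := by omega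
    rw [h3, Subspace.dual_finrank_eq, hd, pow_one] at h1
    rw [← h1]
    congr 1
    rw [← Set.ncard_coe_finset]
    congr 1
    ext α
    simp [s]
  -- the common value of the row counts
  obtain ⟨X, hX⟩ : ∃ X : ℕ, X + 2 * q ^ (n + 1) = q ^ (n + 2) + q ^ n := by
    refine ⟨q ^ (n + 2) + q ^ n - 2 * q ^ (n + 1), ?_⟩
    have hq2 : 2 ≤ q := Finite.one_lt_card
    have : 2 * q ^ (n + 1) ≤ q ^ (n + 2) := by
      rw [pow_succ q (n + 1), mul_comm]
      exact Nat.mul_le_mul_left _ hq2
    omega
  have hrow : ∀ α ∈ s, (t.bipartiteAbove r α).card = X := by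
    intro α hα
    obtain ⟨hH, hHM⟩ := hs α hα
    obtain ⟨hB1, hB2, hB3, -⟩ := hBf _ hH hHM
    set H := LinearMap.ker α with hHdef
    have hHM2 : finrank F (H ⊓ M : Submodule F V) + 1 = n + 2 :=
      finrank_inf_add_one H M ⊤ le_top le_top (by rw [finrank_top, hd]) hH hM hHM
    have h1 := ncard_diff_union H (H ⊓ M) (Bf H) inf_le_left hB1
    have h2 : finrank F ((H ⊓ M) ⊓ Bf H : Submodule F V) + 1 = n + 1 :=
      finrank_inf_add_one (H ⊓ M) (Bf H) H inf_le_left hB1 hH (by omega) hB2 (Ne.symm hB3)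
    have h3 : finrank F (H ⊓ M : Submodule F V) = n + 1 := by omega
    have h4 : finrank F ((H ⊓ M) ⊓ Bf H : Submodule F V) = n := by omega
    rw [h3, hB2, hH, h4, ← hq] at h1
    have h5 : ((t.bipartiteAbove r α : Finset V) : Set V)
        = (H : Set V) \ (((H ⊓ M : Submodule F V) : Set V) ∪ (Bf H : Set V)) := by
      ext u
      simp only [Finset.bipartiteAbove, Finset.coe_filter, Finset.mem_filter, Finset.mem_univ,
        true_and, Set.mem_ofPred_eq, Set.mem_sdiff, SetLike.mem_coe, Set.mem_union,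
        Submodule.mem_inf, LinearMap.mem_ker, t, r, H]
      tauto
    rw [← Set.ncard_coe_finset, h5]
    omega
  -- the column counts
  have hcol : ∀ u ∈ t, (s.bipartiteBelow r u).card + 1 ≤ q ^ (n + 3 - finrank F (Kf u)) := by
    intro u hu
    have huM : u ∉ M := (Finset.mem_filter.mp hu).2
    have h1 := Subspace.finrank_add_finrank_dualAnnihilator_eq (Kf u)
    have h2 : n + 3 - finrank F (Kf u) = finrank F (Kf u).dualAnnihilator := by omega
    rw [h2, ← ncard_submodule (F := F) (Kf u).dualAnnihilator,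
      ← Set.ncard_sdiff_singleton_add_one (Submodule.zero_mem _ : (0 : Dual F V) ∈ _)]
    apply Nat.succ_le_succ
    rw [← Set.ncard_coe_finset]
    apply Set.ncard_le_ncard _ (Set.toFinite _)
    intro α hα
    simp only [Finset.bipartiteBelow, Finset.coe_filter, Set.mem_ofPred_eq] at hα
    obtain ⟨hαs, hα0, hαB⟩ := hα
    obtain ⟨hH, hHM⟩ := hs α hαs
    obtain ⟨-, -, -, hB4⟩ := hBf _ hH hHM
    have hle : Kf u ≤ LinearMap.ker α := hB4 u hα0 huM hαB
    refine ⟨?_, ?_⟩
    · rw [SetLike.mem_coe, Submodule.mem_dualAnnihilator]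
      intro w hw
      exact hle hw
    · intro h0
      have h0' : α = 0 := h0
      have hα' : α ∉ M.dualAnnihilator := (Finset.mem_filter.mp hαs).2
      exact hα' (h0' ▸ Submodule.zero_mem _)
  refine ⟨inferInstance, X, s.card, hX, hcard_s, ?_⟩
  have hdc := Finset.sum_card_bipartiteAbove_eq_sum_card_bipartiteBelow (s := s) (t := t) r
  rw [Finset.sum_congr rfl hrow, Finset.sum_const, smul_eq_mul] at hdc
  calc s.card * X + t.card = ∑ u ∈ t, ((s.bipartiteBelow r u).card + 1) := by
        rw [Finset.sum_add_distrib, ← hdc]; simp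
    _ ≤ _ := Finset.sum_le_sum hcol

theorem count_arith_int (q A X S N n1 n3 T : ℤ) (hq : 2 ≤ q) (hA : 0 < A)
    (hX : X + 2 * (q * A) = q ^ 2 * A + A) (hS : S + q = q ^ 3 * A)
    (hN : N + q ^ 2 * A = q ^ 3 * A) (hT : S * X + N ≤ T)
    (hTle : T ≤ N * (q * A) + n1 * (q ^ 2 * A - q * A) - n3 * (q * A - A)) :
    q ^ 4 * A + q + n3 ≤ q * n1 + 2 * (q ^ 3 * A) := by
  have hX' : X = A * (q - 1) ^ 2 := by linear_combination hX
  have hS' : S = q ^ 3 * A - q := by linear_combination hS
  have hN' : N = q ^ 2 * A * (q - 1) := by linear_combination hN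
  subst hX' hS' hN'
  have h := hT.trans hTle
  have hpos : 0 < A * (q - 1) := mul_pos hA (by linarith)
  have e : A * (q - 1) * (q * n1 + 2 * (q ^ 3 * A)) - A * (q - 1) * (q ^ 4 * A + q + n3)
      = (q ^ 2 * A * (q - 1) * (q * A) + n1 * (q ^ 2 * A - q * A) - n3 * (q * A - A))
        - ((q ^ 3 * A - q) * (A * (q - 1) ^ 2) + q ^ 2 * A * (q - 1)) := by ring
  have key : A * (q - 1) * (q ^ 4 * A + q + n3) ≤ A * (q - 1) * (q * n1 + 2 * (q ^ 3 * A)) := by
    linarith
  exact le_of_mul_le_mul_left key hpos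

omit [Finite F] in
theorem one_le_finrank_of_mem {S : Submodule F V} {u : V} (hu : u ∈ S) (hne : u ≠ 0) :
    1 ≤ finrank F S := by
  have : 0 < finrank F S := by
    rw [Module.finrank_pos_iff_exists_ne_zero]
    exact ⟨⟨u, hu⟩, fun h => hne (congrArg Subtype.val h)⟩
  exact this

open Classical in
/-- main case `dim V = n + 3` of the count. -/
theorem step4_count_main {n : ℕ} (hd : finrank F V = n + 3) (M : Submodule F V)
    (hM : finrank F M + 1 = finrank F V)
    (Kf : V → Submodule F V) (hself : ∀ v, v ∈ Kf v)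
    (hK : ∀ H : Submodule F V, finrank F H + 1 = finrank F V → H ≠ M →
      ∃ B : Submodule F V, B ≤ H ∧ finrank F B + 2 = finrank F V ∧ B ≠ H ⊓ M ∧
        ∀ u ∈ H, u ∉ M → u ∉ B → Kf u ≤ H) :
    Nat.card F ^ (finrank F V + 1) + Nat.card F
        + Nat.card {u : V // u ∉ M ∧ 3 ≤ finrank F (Kf u)}
      ≤ Nat.card F * Nat.card {u : V // u ∉ M ∧ finrank F (Kf u) = 1}
        + 2 * Nat.card F ^ finrank F V := by
  have hK' : ∀ H : Submodule F V, ∃ B : Submodule F V, finrank F H = n + 2 → H ≠ M →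
      (B ≤ H ∧ finrank F B = n + 1 ∧ B ≠ H ⊓ M ∧ ∀ u ∈ H, u ∉ M → u ∉ B → Kf u ≤ H) := by
    intro H
    by_cases h : finrank F H = n + 2 ∧ H ≠ M
    · obtain ⟨B, h1, h2, h3, h4⟩ := hK H (by omega) h.2
      exact ⟨B, fun _ _ => ⟨h1, by omega, h3, h4⟩⟩
    · exact ⟨⊥, fun h1 h2 => absurd ⟨h1, h2⟩ h⟩
  choose Bf hBf using hK'
  obtain ⟨hfin, X, S, hX, hS, hle⟩ := step4_count_aux hd M (by omega) Kf Bf hBf
  set q := Nat.card F with hq
  set t : Finset V := Finset.univ.filter (fun u : V => u ∉ M) with ht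
  have hq2 : 2 ≤ q := Finite.one_lt_card
  have he1 : ∀ u ∈ t, 1 ≤ finrank F (Kf u) := by
    intro u hu
    have huM : u ∉ M := (Finset.mem_filter.mp hu).2
    exact one_le_finrank_of_mem (hself u) (fun h => huM (h ▸ M.zero_mem))
  -- cardinalities
  have hN : t.card + q ^ (n + 2) = q ^ (n + 3) := by
    have h1 := ncard_compl_submodule (F := F) M
    rw [hd, show finrank F M = n + 2 by omega] at h1
    rw [← h1, ← Set.ncard_coe_finset]
    congr 2
    ext u
    simp [t]
  have hn1 : Nat.card {u : V // u ∉ M ∧ finrank F (Kf u) = 1}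
      = (t.filter (fun u => finrank F (Kf u) = 1)).card := by
    rw [Nat.card_eq_fintype_card, Fintype.card_subtype, Finset.filter_filter]
  have hn3 : Nat.card {u : V // u ∉ M ∧ 3 ≤ finrank F (Kf u)}
      = (t.filter (fun u => 3 ≤ finrank F (Kf u))).card := by
    rw [Nat.card_eq_fintype_card, Fintype.card_subtype, Finset.filter_filter]
  rw [hn1, hn3, hd]
  set n1 := (t.filter (fun u => finrank F (Kf u) = 1)).card
  set n3 := (t.filter (fun u => 3 ≤ finrank F (Kf u))).card
  -- pointwise bound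
  have hQ1 : (1 : ℤ) ≤ (q : ℤ) := by exact_mod_cast (by omega : 1 ≤ q)
  have hpt : ∀ u ∈ t, ((q : ℤ) ^ (n + 3 - finrank F (Kf u)))
      ≤ (q : ℤ) ^ (n + 1)
        + (if finrank F (Kf u) = 1 then ((q : ℤ) ^ (n + 2) - (q : ℤ) ^ (n + 1)) else 0)
        - (if 3 ≤ finrank F (Kf u) then ((q : ℤ) ^ (n + 1) - (q : ℤ) ^ n) else 0) := by
    intro u hu
    have h1 := he1 u hu
    rcases Nat.lt_or_ge (finrank F (Kf u)) 3 with h3 | h3
    · rw [if_neg (by omega : ¬ 3 ≤ finrank F (Kf u))]
      by_cases h : finrank F (Kf u) = 1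
      · rw [if_pos h, h, show n + 3 - 1 = n + 2 by omega]
        linarith
      · rw [if_neg h, show n + 3 - finrank F (Kf u) = n + 1 by omega]
        linarith
    · rw [if_pos h3, if_neg (by omega : ¬ finrank F (Kf u) = 1)]
      have : (q : ℤ) ^ (n + 3 - finrank F (Kf u)) ≤ (q : ℤ) ^ n :=
        pow_le_pow_right₀ hQ1 (by omega)
      linarith
  have hTle : ((∑ u ∈ t, q ^ (n + 3 - finrank F (Kf u)) : ℕ) : ℤ)
      ≤ (t.card : ℤ) * ((q : ℤ) * (q : ℤ) ^ n)
        + (n1 : ℤ) * ((q : ℤ) ^ 2 * (q : ℤ) ^ n - (q : ℤ) * (q : ℤ) ^ n)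
        - (n3 : ℤ) * ((q : ℤ) * (q : ℤ) ^ n - (q : ℤ) ^ n) := by
    push_cast
    refine (Finset.sum_le_sum hpt).trans (le_of_eq ?_)
    rw [Finset.sum_sub_distrib, Finset.sum_add_distrib, Finset.sum_const, Finset.sum_ite,
      Finset.sum_ite, Finset.sum_const_zero, Finset.sum_const_zero, Finset.sum_const,
      Finset.sum_const]
    simp only [nsmul_eq_mul, add_zero]
    ring
  have hfinal := count_arith_int (q : ℤ) ((q : ℤ) ^ n) X S t.card n1 n3
    ((∑ u ∈ t, q ^ (n + 3 - finrank F (Kf u)) : ℕ) : ℤ) (by exact_mod_cast hq2)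
    (by positivity)
    (by
      have : ((X + 2 * q ^ (n + 1) : ℕ) : ℤ) = ((q ^ (n + 2) + q ^ n : ℕ) : ℤ) := by rw [hX]
      push_cast at this
      linear_combination this)
    (by
      have : ((S + q : ℕ) : ℤ) = ((q ^ (n + 3) : ℕ) : ℤ) := by rw [hS]
      push_cast at this
      linear_combination this)
    (by
      have : ((t.card + q ^ (n + 2) : ℕ) : ℤ) = ((q ^ (n + 3) : ℕ) : ℤ) := by rw [hN]
      push_cast at this
      linear_combination this)
    (by exact_mod_cast hle) hTle
  have : ((q ^ (n + 3 + 1) + q + n3 : ℕ) : ℤ) ≤ ((q * n1 + 2 * q ^ (n + 3) : ℕ) : ℤ) := by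
    push_cast
    have e1 : (q : ℤ) ^ (n + 3 + 1) = (q : ℤ) ^ 4 * (q : ℤ) ^ n := by ring
    have e2 : (q : ℤ) ^ (n + 3) = (q : ℤ) ^ 3 * (q : ℤ) ^ n := by ring
    rw [e1, e2]
    exact hfinal
  exact_mod_cast this

/-- **Step 4, LA-A** (the double count). -/
theorem step4_count (M : Submodule F V) (hM : finrank F M + 1 = finrank F V)
    (Kf : V → Submodule F V) (hself : ∀ v, v ∈ Kf v)
    (hK : ∀ H : Submodule F V, finrank F H + 1 = finrank F V → H ≠ M →
      ∃ B : Submodule F V, B ≤ H ∧ finrank F B + 2 = finrank F V ∧ B ≠ H ⊓ M ∧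
        ∀ u ∈ H, u ∉ M → u ∉ B → Kf u ≤ H) :
    Nat.card F ^ (finrank F V + 1) + Nat.card F
        + Nat.card {u : V // u ∉ M ∧ 3 ≤ finrank F (Kf u)}
      ≤ Nat.card F * Nat.card {u : V // u ∉ M ∧ finrank F (Kf u) = 1}
        + 2 * Nat.card F ^ finrank F V := by
  have hfinV : Finite V := Module.finite_of_finite F
  rcases Nat.lt_or_ge (finrank F V) 3 with hd3 | hd3
  · have hd12 : finrank F V = 1 ∨ finrank F V = 2 := by omega
    rcases hd12 with hd | hd
    · -- `dim V = 1`
      have he : ∀ u : V, u ∉ M → finrank F (Kf u) = 1 := by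
        intro u hu
        have h1 := one_le_finrank_of_mem (hself u) (fun h => hu (h ▸ M.zero_mem))
        have h2 : finrank F (Kf u) ≤ finrank F V := Submodule.finrank_le _
        omega
      have hn3 : Nat.card {u : V // u ∉ M ∧ 3 ≤ finrank F (Kf u)} = 0 := by
        rw [Nat.card_eq_zero]
        left
        exact ⟨fun ⟨u, hu1, hu2⟩ => by have := he u hu1; omega⟩
      have hn1 : Nat.card {u : V // u ∉ M ∧ finrank F (Kf u) = 1} + 1 = Nat.card F := by
        have h1 := ncard_compl_submodule (F := F) M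
        rw [hd, show finrank F M = 0 by omega, pow_zero, pow_one] at h1
        rw [← h1]
        congr 1
        rw [← Nat.card_coe_set_eq]
        exact Nat.card_congr (Equiv.subtypeEquivRight
          (fun u => ⟨fun h => h.1, fun h => ⟨h, he u h⟩⟩))
      rw [hn3, hd]
      set q := Nat.card F
      have : q * (Nat.card {u : V // u ∉ M ∧ finrank F (Kf u) = 1} + 1) = q * q := by rw [hn1]
      have e2 : q ^ (1 + 1) = q * q := by ring
      rw [e2, pow_one]
      linarith
    · -- `dim V = 2` : the hypotheses are contradictory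
      exfalso
      have hMne : M ≠ ⊤ := by
        intro h
        rw [h, finrank_top] at hM
        omega
      obtain ⟨u, -, huM⟩ := SetLike.exists_of_lt (lt_top_iff_ne_top.mpr hMne)
      have hu0 : u ≠ 0 := fun h => huM (h ▸ M.zero_mem)
      have hH : finrank F (F ∙ u) = 1 := finrank_span_singleton hu0
      have hHM : (F ∙ u) ≠ M := fun h => huM (h ▸ Submodule.mem_span_singleton_self u)
      obtain ⟨B, h1, h2, h3, -⟩ := hK (F ∙ u) (by omega) hHM
      have hB : B = ⊥ := by
        rw [← Submodule.finrank_eq_zero (R := F)]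
        omega
      have hI : ((F ∙ u) ⊓ M : Submodule F V) = ⊥ := by
        rw [← Submodule.finrank_eq_zero (R := F)]
        have := finrank_inf_add_one (n := 1) (F ∙ u) M ⊤ le_top le_top
          (by rw [finrank_top, hd]) hH (by omega) hHM
        omega
      exact h3 (hB.trans hI.symm)
  · obtain ⟨n, hn⟩ : ∃ n, finrank F V = n + 3 := ⟨finrank F V - 3, by omega⟩
    exact step4_count_main hn M hM Kf hself hK

end count
end Cfsg.Agent.Lib.Helper4.VL
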