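import Mathlib
import Cfsg.Prelude.Def_Blocks
import Cfsg.Prelude.Def_BlockRank
import Cfsg.Prelude.Def_BrauerPairs
import Cfsg.Prelude.Def_BlockFusion
import Cfsg.Agent.Lib.Helper4.NilB16
import Cfsg.Agent.Lib.Helper8.Sub6
import Cfsg.Agent.Lib.Helper8.Sub7

/-!
# Stable functions on the defect group: the trace of the `*`-action on the characters of a block
-/

set_option autoImplicit false

namespace Cfsg.Agent.Lib.Helper4.WA

open scoped ComplexConjugate
open Cfsg Cfsg.Agent.Lib.Helper1 Cfsg.Agent.Lib.Helper4 Cfsg.Agent.Lib.Helper8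
  Cfsg.Agent.Lib.Helper8.BPS
  Cfsg.Agent.Lib.Helper8.MJ Cfsg.Agent.Lib.Helper8.BHI Cfsg.Agent.Lib.Helper8.VK
  Cfsg.Agent.Lib.Helper4.NilB

universe u

variable {G : Type u} [Group G] [Fintype G] {M : Ideal AlgInt} {p : ℕ} [Fact p.Prime]

open Classical in
/-- the contribution of one subsection to a weighted sum, averaged over the elements carrying it
into the maximal pair, for a stable function -/
theorem wOf_mul_mm_of_stable (hM : IsPModular p M) {B : Set (IrrCharacter G)}
    {D : Subgroup G} {eD : Set (IrrCharacter ↥(Subgroup.centralizer (D : Set G)))}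
    (hmax : IsMaximalBrauerPair p M B D eD)
    {Ω : D → ℂ} (hΩ : IsStableFun p M D eD Ω) {χ : IrrCharacter G} (hχ : χ ∈ B) {ξ : G → ℂ}
    (hξ : IsClassFunction G ξ) {u : G} (hu : ∃ k : ℕ, orderOf u = p ^ k)
    {b : Set (IrrCharacter ↥(cent u))} (hb : IsPBlock M b) :
    wOf p M D eD Ω u b * mm p ⟨Subgroup.zpowers u, b⟩ u (χ : G → ℂ) ξ =
      ∑ g : G, (if g ∈ carrP p M D eD ⟨Subgroup.zpowers u, b⟩ then
        ext0 D Ω (g * u * g⁻¹) * phi p M D eD (χ : G → ℂ) ξ (g * u * g⁻¹) else 0) := by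
  have hχcf : IsClassFunction G (χ : G → ℂ) := isClassFunction_of_isCharacter (isCharacter_of_irr χ.2)
  set a : BrauerPairIdx G := ⟨Subgroup.zpowers u, b⟩ with ha
  by_cases hne : ∃ g, g ∈ carrP p M D eD a
  · have key : ∀ g ∈ carrP p M D eD a,
        ext0 D Ω (g * u * g⁻¹) * phi p M D eD (χ : G → ℂ) ξ (g * u * g⁻¹) =
          wOf p M D eD Ω u b * mm p a u (χ : G → ℂ) ξ / (Nat.card ↥(carrP p M D eD a) : ℂ) := by
      intro g hg
      have hgu : g * u * g⁻¹ ∈ D := conj_mem_of_mem_carrP hg (Subgroup.mem_zpowers u)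
      have e := pairConj_eq_aOf hM hmax (a := a) rfl hg
      unfold phi
      rw [ext0_of_mem Ω hgu, ← e, mm_pairConj g a u hχcf hξ, card_carrP_pairConj,
        ← wOf_eq_of_stable hΩ hg hgu]
      ring
    have hN : (Nat.card ↥(carrP p M D eD a) : ℂ) ≠ 0 := by
      obtain ⟨g, hg⟩ := hne
      have : Nonempty ↥(carrP p M D eD a) := ⟨⟨g, hg⟩⟩
      exact Nat.cast_ne_zero.2 Nat.card_pos.ne'
    have h1 : ∀ g : G, (if g ∈ carrP p M D eD a then
        ext0 D Ω (g * u * g⁻¹) * phi p M D eD (χ : G → ℂ) ξ (g * u * g⁻¹) else 0) =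
        if g ∈ carrP p M D eD a then
          wOf p M D eD Ω u b * mm p a u (χ : G → ℂ) ξ / (Nat.card ↥(carrP p M D eD a) : ℂ)
        else 0 := by
      intro g
      by_cases hg : g ∈ carrP p M D eD a
      · rw [if_pos hg, if_pos hg, key g hg]
      · rw [if_neg hg, if_neg hg]
    rw [Finset.sum_congr rfl (fun g _ => h1 g)]
    have h2 := sum_ite_mem_const (carrP p M D eD a)
      (wOf p M D eD Ω u b * mm p a u (χ : G → ℂ) ξ / (Nat.card ↥(carrP p M D eD a) : ℂ))
    rw [show (∑ g : G, if g ∈ carrP p M D eD a then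
        wOf p M D eD Ω u b * mm p a u (χ : G → ℂ) ξ / (Nat.card ↥(carrP p M D eD a) : ℂ)
        else 0) = _ from h2]
    field_simp
  · have hnot : ¬ IsBrauerPairOf p M B (Subgroup.zpowers u) b := by
      intro hpair
      obtain ⟨x, hx⟩ := exists_conj_subpairLE hM hmax hpair
      exact hne ⟨x, hx⟩
    have h0 : mm p a u (χ : G → ℂ) ξ = 0 := by
      unfold mm
      rw [show contribF p (Subgroup.centralizer ((a.1 : Subgroup G) : Set G)) a.2 u (χ : G → ℂ) ξ = 0
        from contribF_eq_zero_of_not_pair hM hmax.1.2.1 hu hb hnot hχ ξ, mul_zero]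
    rw [h0, mul_zero]
    symm
    refine Finset.sum_eq_zero fun g _ => ?_
    rw [if_neg]
    intro hg
    exact hne ⟨g, hg⟩

/-- **Reduction to the defect group** of a weighted sum over the subsections, for a stable
function. -/
theorem sum_wOf_mm_of_stable (hM : IsPModular p M) {B : Set (IrrCharacter G)}
    {D : Subgroup G} {eD : Set (IrrCharacter ↥(Subgroup.centralizer (D : Set G)))}
    (hmax : IsMaximalBrauerPair p M B D eD)
    {Ω : D → ℂ} (hΩ : IsStableFun p M D eD Ω) {χ : IrrCharacter G} (hχ : χ ∈ B) {ξ : G → ℂ}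
    (hξ : IsClassFunction G ξ) :
    ∑ u ∈ pElts p G, ∑ b ∈ blocksFinset M ↥(cent u),
      wOf p M D eD Ω u b * mm p ⟨Subgroup.zpowers u, b⟩ u (χ : G → ℂ) ξ =
    (Nat.card G : ℂ) * ∑ v : G, ext0 D Ω v * phi p M D eD (χ : G → ℂ) ξ v := by
  classical
  set Ψ : G → ℂ := fun v => ext0 D Ω v * phi p M D eD (χ : G → ℂ) ξ v with hΨ
  have hDp : IsPGroup p D := hmax.1.1.1
  -- step 1
  have h1 : ∀ u ∈ pElts p G, ∑ b ∈ blocksFinset M ↥(cent u),
      wOf p M D eD Ω u b * mm p ⟨Subgroup.zpowers u, b⟩ u (χ : G → ℂ) ξ =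
      ∑ g : G, Ψ (g * u * g⁻¹) := by
    intro u hu
    rw [mem_pElts] at hu
    have h2 : ∀ b ∈ blocksFinset M ↥(cent u),
        wOf p M D eD Ω u b * mm p ⟨Subgroup.zpowers u, b⟩ u (χ : G → ℂ) ξ =
        ∑ g : G, if g ∈ carrP p M D eD ⟨Subgroup.zpowers u, b⟩ then Ψ (g * u * g⁻¹) else 0 := by
      intro b hb
      rw [mem_blocksFinset] at hb
      exact wOf_mul_mm_of_stable hM hmax hΩ hχ hξ hu hb
    rw [Finset.sum_congr rfl h2, Finset.sum_comm]
    refine Finset.sum_congr rfl fun g _ => ?_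
    by_cases hv : g * u * g⁻¹ ∈ D
    · obtain ⟨b₀, hb₀, hg₀⟩ := exists_block_of_conj_mem hM hmax hv
      rw [Finset.sum_eq_single b₀]
      · rw [if_pos hg₀]
      · intro b _ hne
        rw [if_neg]
        intro h
        exact hne (block_unique_of_mem_carrP hM hmax h hg₀)
      · intro h
        exact absurd ((mem_blocksFinset b₀).2 hb₀) h
    · have : Ψ (g * u * g⁻¹) = 0 := by
        rw [hΨ]
        show ext0 D Ω (g * u * g⁻¹) * _ = 0
        rw [ext0_of_not_mem Ω hv, zero_mul]
      rw [this]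
      refine Finset.sum_eq_zero fun b _ => ?_
      split_ifs <;> rfl
  rw [Finset.sum_congr rfl h1]
  -- step 2
  have h3 : ∑ u ∈ pElts p G, ∑ g : G, Ψ (g * u * g⁻¹) = ∑ u : G, ∑ g : G, Ψ (g * u * g⁻¹) := by
    apply Finset.sum_subset (Finset.subset_univ _)
    intro u _ hu
    rw [mem_pElts] at hu
    refine Finset.sum_eq_zero fun g _ => ?_
    have hv : g * u * g⁻¹ ∉ D := by
      intro hv
      apply hu
      obtain ⟨k, hk⟩ := IsPGroup.iff_orderOf.1 hDp ⟨g * u * g⁻¹, hv⟩
      refine ⟨k, ?_⟩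
      rw [← hk, Subgroup.orderOf_mk]
      have := (MulAut.conj g).orderOf_eq u
      rw [MulAut.conj_apply] at this
      exact this.symm
    rw [hΨ]
    show ext0 D Ω (g * u * g⁻¹) * _ = 0
    rw [ext0_of_not_mem Ω hv, zero_mul]
  rw [h3, Finset.sum_comm]
  have h4 : ∀ g : G, ∑ u : G, Ψ (g * u * g⁻¹) = ∑ v : G, Ψ v := by
    intro g
    have := Equiv.sum_comp (MulAut.conj g).toEquiv Ψ
    rw [← this]
    refine Finset.sum_congr rfl fun u _ => ?_
    rfl
  rw [Finset.sum_congr rfl (fun g _ => h4 g), Finset.sum_const, Finset.card_univ, nsmul_eq_mul,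
    Nat.card_eq_fintype_card]

/-- **the inner product of a `*`-function of a stable weight with a class function**, through the
defect group -/
theorem classInner_starFun_wOf_of_stable (hM : IsPModular p M) {B : Set (IrrCharacter G)}
    {D : Subgroup G} {eD : Set (IrrCharacter ↥(Subgroup.centralizer (D : Set G)))} [Fintype D]
    (hmax : IsMaximalBrauerPair p M B D eD)
    {η : D → ℂ} (hη : IsStableFun p M D eD η) {χ : IrrCharacter G} (hχ : χ ∈ B) {ξ : G → ℂ}
    (hξ : IsClassFunction G ξ) :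
    classInner (starFun p M (wOf p M D eD η) (χ : G → ℂ)) ξ =
      ∑ v : D, η v * phi p M D eD (χ : G → ℂ) ξ (v : G) := by
  classical
  have hχcf : IsClassFunction G (χ : G → ℂ) := isClassFunction_of_isCharacter (isCharacter_of_irr χ.2)
  have hG0 : (Nat.card G : ℂ) ≠ 0 := Nat.cast_ne_zero.2 Nat.card_pos.ne'
  rw [classInner_def, sum_starFun_wOf_mul_conj hM η hχcf hξ]
  have h2 : ∀ u ∈ pElts p G, ∀ b ∈ blocksFinset M ↥(cent u),
      wOf p M D eD η u b *
        ((Nat.card ↥(cent u) : ℂ) * contribF p (cent u) b u (χ : G → ℂ) ξ) =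
      wOf p M D eD η u b * mm p ⟨Subgroup.zpowers u, b⟩ u (χ : G → ℂ) ξ := by
    intro u _ b _
    rfl
  rw [Finset.sum_congr rfl (fun u hu => Finset.sum_congr rfl (h2 u hu)),
    sum_wOf_mm_of_stable hM hmax hη hχ hξ, ← mul_assoc, inv_mul_cancel₀ hG0, one_mul,
    sum_ext0_mul]

/-- the diagonal contributions of a subsection of the block `B`, summed over the characters of
`B`, give the rank of the block of the subsection -/
theorem sum_contribF_self (hM : IsPModular p M) {B : Set (IrrCharacter G)} {u : G}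
    (hu : ∃ k : ℕ, orderOf u = p ^ k) {b : Set (IrrCharacter ↥(cent u))}
    (hpair : IsBrauerPairOf p M B (Subgroup.zpowers u) b) [Fintype (IrrCharacter G)]
    [DecidablePred (· ∈ B)] :
    ∑ χ : IrrCharacter G,
        (if χ ∈ B then contribF p (cent u) b u (χ : G → ℂ) (χ : G → ℂ) else 0) =
      (blockRank p b : ℂ) := by
  classical
  have : Fintype ↥(cent u) := Fintype.ofFinite _
  have hC : ∀ t, t ∈ cent u ↔ t * u = u * t := fun t => mem_cent_iff
  have hb : IsPBlock M b := hpair.1.2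
  have hind := induced_of_pair_zpowers hM hpair
  have h1 := sum_irr_normSq_blockPart_section hM (cent u) hC hu hb
  have hC0 : (Nat.card ↥(cent u) : ℂ) ≠ 0 := Nat.cast_ne_zero.2 Nat.card_pos.ne'
  have h2 : ∀ χ : IrrCharacter G,
      (if χ ∈ B then contribF p (cent u) b u (χ : G → ℂ) (χ : G → ℂ) else 0) =
      (Nat.card ↥(cent u) : ℂ)⁻¹ * ((∑ c : ↥(cent u), Complex.normSq
        (pRegularPart p (blockPart b (fun c : ↥(cent u) => (χ : G → ℂ) (u * (c : G)))) c) : ℝ) : ℂ) := by
    intro χ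
    have hχcf : IsClassFunction G (χ : G → ℂ) :=
      isClassFunction_of_isCharacter (isCharacter_of_irr χ.2)
    by_cases hχ : χ ∈ B
    · rw [if_pos hχ, contribF_eq, contrib_eq_classInner hM (cent u) hC hb hχcf hχcf, classInner_def]
      congr 1
      rw [Complex.ofReal_sum]
      refine Finset.sum_congr rfl fun c _ => ?_
      rw [Complex.mul_conj]
      rfl
    · rw [if_neg hχ]
      have h0 : ∀ c : ↥(cent u), pRegularPart p
          (blockPart b (fun c : ↥(cent u) => (χ : G → ℂ) (u * (c : G)))) c = 0 := by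
        intro c
        by_cases hc : p ∣ orderOf c
        · rw [pRegularPart_of_dvd _ hc]
        · rw [pRegularPart_of_not_dvd _ hc]
          exact blockPart_section_eq_zero hM (cent u) hC hu hind hχ hc
      rw [Finset.sum_eq_zero (fun c _ => by rw [h0 c, map_zero]), Complex.ofReal_zero, mul_zero]
  rw [Finset.sum_congr rfl (fun χ _ => h2 χ), ← Finset.mul_sum, ← Complex.ofReal_sum, h1,
    Complex.ofReal_mul, Complex.ofReal_natCast, Complex.ofReal_natCast, ← mul_assoc,
    inv_mul_cancel₀ hC0, one_mul]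

/-- **the trace of the `*`-action of a stable function on the characters of the block** -/
theorem sum_classInner_starFun_self (hM : IsPModular p M) {B : Set (IrrCharacter G)}
    {P : Subgroup G} {e : Set (IrrCharacter ↥(Subgroup.centralizer (P : Set G)))}
    (hmax : IsMaximalBrauerPair p M B P e) [Fintype P] [Fintype (IrrCharacter G)]
    [DecidablePred (· ∈ B)] {η : P → ℂ} (hη : IsStableFun p M P e η) :
    ∑ χ : IrrCharacter G, (if χ ∈ B then
        classInner (starFun p M (wOf p M P e η) (χ : G → ℂ)) (χ : G → ℂ) else 0) =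
      ∑ v : P, η v * (blockRank p (subB p M P e (Subgroup.zpowers (v : G))) : ℂ) *
        (Nat.card ↥(cent (v : G)) : ℂ) /
          (Nat.card ↥(carrP p M P e (aOf p M P e (v : G))) : ℂ) := by
  classical
  have h1 : ∀ χ : IrrCharacter G, (if χ ∈ B then
        classInner (starFun p M (wOf p M P e η) (χ : G → ℂ)) (χ : G → ℂ) else 0) =
      ∑ v : P, η v * ((Nat.card ↥(cent (v : G)) : ℂ) /
          (Nat.card ↥(carrP p M P e (aOf p M P e (v : G))) : ℂ)) *
        (if χ ∈ B then contribF p (cent (v : G)) (subB p M P e (Subgroup.zpowers (v : G))) (v : G)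
          (χ : G → ℂ) (χ : G → ℂ) else 0) := by
    intro χ
    have hχcf : IsClassFunction G (χ : G → ℂ) :=
      isClassFunction_of_isCharacter (isCharacter_of_irr χ.2)
    by_cases hχ : χ ∈ B
    · rw [if_pos hχ, classInner_starFun_wOf_of_stable hM hmax hη hχ hχcf]
      refine Finset.sum_congr rfl fun v _ => ?_
      rw [if_pos hχ]
      unfold phi mm
      show η v * ((Nat.card ↥(cent (v : G)) : ℂ) *
        contribF p (cent (v : G)) (subB p M P e (Subgroup.zpowers (v : G))) (v : G)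
          (χ : G → ℂ) (χ : G → ℂ) / (Nat.card ↥(carrP p M P e (aOf p M P e (v : G))) : ℂ)) = _
      ring
    · rw [if_neg hχ]
      symm
      refine Finset.sum_eq_zero fun v _ => ?_
      rw [if_neg hχ, mul_zero]
  rw [Finset.sum_congr rfl (fun χ _ => h1 χ), Finset.sum_comm]
  refine Finset.sum_congr rfl fun v _ => ?_
  rw [← Finset.mul_sum,
    sum_contribF_self hM (exists_orderOf_eq_of_mem hmax.1.1.1 v.2) (aOf_isBrauerPairOf hM hmax v.2)]
  ring

end Cfsg.Agent.Lib.Helper4.WA
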