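import Mathlib

set_option autoImplicit false

/-!
# Free cyclic submodules over `𝔽_p[C_p]`: a counting lemma
-/

namespace Cfsg.Agent.Lib.Helper4.Wreath

open Polynomial

/-- `(X - 1)^(p-1) = 1 + X + ⋯ + X^(p-1)` over `𝔽_p`. -/
theorem poly_identity (p : ℕ) [Fact p.Prime] :
    ((X : (ZMod p)[X]) - 1) ^ (p - 1) = ∑ i ∈ Finset.range p, (X : (ZMod p)[X]) ^ i := by
  have hp : p.Prime := Fact.out
  have h1 : ((X : (ZMod p)[X]) - 1) * ((X : (ZMod p)[X]) - 1) ^ (p - 1) =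
      ((X : (ZMod p)[X]) - 1) * ∑ i ∈ Finset.range p, (X : (ZMod p)[X]) ^ i := by
    rw [mul_geom_sum, ← pow_succ', Nat.sub_add_cancel hp.one_lt.le, sub_pow_char, one_pow]
  have h2 : ((X : (ZMod p)[X]) - 1) ≠ 0 := by
    have := X_sub_C_ne_zero (1 : ZMod p)
    simpa using this
  exact mul_left_cancel₀ h2 h1

variable {p : ℕ} [Fact p.Prime] {M : Type*} [AddCommGroup M] [Module (ZMod p) M]

theorem sub_one_pow_p (T : M →ₗ[ZMod p] M) (hT : T ^ p = 1) : (T - 1) ^ p = 0 := by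
  have h1 : aeval T (((X : (ZMod p)[X]) - 1) ^ p) = aeval T ((X : (ZMod p)[X]) ^ p - 1) := by
    rw [sub_pow_char, one_pow]
  simpa [hT] using h1

theorem sub_one_pow_pred (T : M →ₗ[ZMod p] M) :
    (T - 1) ^ (p - 1) = ∑ i ∈ Finset.range p, T ^ i := by
  have h1 := congrArg (aeval T) (poly_identity p)
  simpa using h1

theorem pow_apply_mem {T : M →ₗ[ZMod p] M} {C : Submodule (ZMod p) M}
    (hC : ∀ c ∈ C, T c ∈ C) (k : ℕ) : ∀ c ∈ C, ((T - 1) ^ k) c ∈ C := by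
  induction k with
  | zero => intro c hc; simpa using hc
  | succ k ih =>
    intro c hc
    rw [pow_succ', Module.End.mul_apply, LinearMap.sub_apply, Module.End.one_apply]
    exact C.sub_mem (hC _ (ih c hc)) (ih c hc)

theorem pow_eq_zero_of_le {D : M →ₗ[ZMod p] M} (hD : D ^ p = 0) {k : ℕ} (hk : p ≤ k) :
    D ^ k = 0 := by
  obtain ⟨j, rfl⟩ := Nat.exists_eq_add_of_le hk
  rw [pow_add, hD, zero_mul]

/-- the counting lemma -/
theorem exists_functional [Finite M] (T : M →ₗ[ZMod p] M) (hT : T ^ p = 1) (m : M)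
    (hm : (∑ i ∈ Finset.range p, T ^ i) m ≠ 0) :
    ∃ φ : M →ₗ[ZMod p] ZMod p, φ ((∑ i ∈ Finset.range p, T ^ i) m) ≠ 0 ∧
      ∀ C : Submodule (ZMod p) M, C ≤ LinearMap.ker φ → (∀ c ∈ C, T c ∈ C) →
        p ^ p * Nat.card C ≤ Nat.card M := by
  classical
  have hp : p.Prime := Fact.out
  set D : M →ₗ[ZMod p] M := T - 1 with hDdef
  have hDp : D ^ p = 0 := sub_one_pow_p T hT
  have hDN : D ^ (p - 1) = ∑ i ∈ Finset.range p, T ^ i := sub_one_pow_pred T
  rw [← hDN] at hm ⊢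
  obtain ⟨φ, hφ⟩ : ∃ φ : Module.Dual (ZMod p) M, φ ((D ^ (p - 1)) m) ≠ 0 := by
    by_contra hcon
    push Not at hcon
    exact hm ((Module.forall_dual_apply_eq_zero_iff (ZMod p) _).mp hcon)
  refine ⟨φ, hφ, ?_⟩
  intro C hCφ hCT
  set Ψ : (Fin p → ZMod p) → M := fun c => ∑ j : Fin p, c j • (D ^ (j : ℕ)) m with hΨ
  have hΨsub : ∀ c c' : Fin p → ZMod p, Ψ c - Ψ c' = Ψ (c - c') := by
    intro c c'
    simp only [hΨ, ← Finset.sum_sub_distrib, Pi.sub_apply, sub_smul]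
  have key : ∀ c : Fin p → ZMod p, Ψ c ∈ C → c = 0 := by
    intro c hc
    by_contra hne
    have hex : ∃ j : Fin p, c j ≠ 0 := by
      by_contra h
      push Not at h
      exact hne (funext h)
    -- least index
    let k₀ : ℕ := Nat.find (p := fun n => ∃ h : n < p, c ⟨n, h⟩ ≠ 0)
      (by obtain ⟨j, hj⟩ := hex; exact ⟨j, j.2, hj⟩)
    have hk₀ : ∃ h : k₀ < p, c ⟨k₀, h⟩ ≠ 0 := Nat.find_spec (p := fun n => ∃ h : n < p, c ⟨n, h⟩ ≠ 0)
      (by obtain ⟨j, hj⟩ := hex; exact ⟨j, j.2, hj⟩)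
    have hmin : ∀ j : Fin p, (j : ℕ) < k₀ → c j = 0 := by
      intro j hj
      by_contra h
      exact Nat.find_min (p := fun n => ∃ h : n < p, c ⟨n, h⟩ ≠ 0)
        (by obtain ⟨i, hi⟩ := hex; exact ⟨i, i.2, hi⟩) hj ⟨j.2, h⟩
    obtain ⟨hk₀p, hck₀⟩ := hk₀
    have h1 : (D ^ (p - 1 - k₀)) (Ψ c) ∈ C := pow_apply_mem hCT _ _ hc
    have h2 : φ ((D ^ (p - 1 - k₀)) (Ψ c)) = 0 := hCφ h1
    have h3 : (D ^ (p - 1 - k₀)) (Ψ c) = ∑ j : Fin p, c j • (D ^ (p - 1 - k₀ + (j : ℕ))) m := by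
      simp only [hΨ, map_sum, map_smul]
      apply Finset.sum_congr rfl
      intro j _
      rw [pow_add, Module.End.mul_apply]
    rw [h3, map_sum] at h2
    rw [Finset.sum_eq_single (⟨k₀, hk₀p⟩ : Fin p)] at h2
    · rw [map_smul, smul_eq_mul] at h2
      have e : p - 1 - k₀ + k₀ = p - 1 := by omega
      simp only [e] at h2
      rcases mul_eq_zero.mp h2 with h | h
      · exact hck₀ h
      · exact hφ h
    · intro j _ hj
      rcases lt_or_gt_of_ne (fun h => hj (Fin.ext h) : (j : ℕ) ≠ k₀) with hlt | hgt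
      · rw [hmin j hlt, zero_smul, map_zero]
      · have : D ^ (p - 1 - k₀ + (j : ℕ)) = 0 := pow_eq_zero_of_le hDp (by omega)
        rw [this, LinearMap.zero_apply, smul_zero, map_zero]
    · intro h
      exact absurd (Finset.mem_univ _) h
  -- the injection
  have hinj : Function.Injective (fun cu : (Fin p → ZMod p) × ↥C => Ψ cu.1 + (cu.2 : M)) := by
    rintro ⟨c, u⟩ ⟨c', u'⟩ h
    simp only at h
    have h1 : Ψ (c - c') = (u' : M) - (u : M) := by
      rw [← hΨsub]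
      rw [sub_eq_sub_iff_add_eq_add, add_comm (u' : M)]
      exact h
    have h2 : c - c' = 0 := key _ (by rw [h1]; exact C.sub_mem u'.2 u.2)
    have h3 : c = c' := sub_eq_zero.mp h2
    subst h3
    have h4 : (u : M) = (u' : M) := by simpa using h
    exact Prod.ext rfl (Subtype.ext h4)
  have hcard := Nat.card_le_card_of_injective _ hinj
  rw [Nat.card_prod, Nat.card_fun, Nat.card_zmod, Nat.card_fin] at hcard
  exact hcard

end Cfsg.Agent.Lib.Helper4.Wreath
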