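import Mathlib
import Cfsg.Agent.Lib.Helper4.Wreath1

set_option autoImplicit false

/-!
# The counting lemma for abelian groups of exponent `p` with an automorphism of order `p`
-/

namespace Cfsg.Agent.Lib.Helper4.Wreath

theorem exists_hyperplane_aux {B : Type*} [CommGroup B] [Finite B] (p : ℕ) [Fact p.Prime]
    [Module (ZMod p) (Additive B)]
    (τ : B →* B) (hτ : ∀ b, (τ^[p]) b = b) (x : B)
    (hN : ∏ i ∈ Finset.range p, (τ^[i]) x ≠ 1) :
    ∃ H : Subgroup B, H.index = p ∧ ∀ C : Subgroup B, C ≤ H → (∀ c ∈ C, τ c ∈ C) →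
      p ^ p * Nat.card C ≤ Nat.card B := by
  classical
  have hfin : Finite (Additive B) := inferInstanceAs (Finite B)
  set T : Additive B →ₗ[ZMod p] Additive B :=
    AddMonoidHom.toZModLinearMap p (MonoidHom.toAdditive τ) with hTdef
  have hTapp : ∀ m : Additive B, T m = Additive.ofMul (τ m.toMul) := fun _ => rfl
  have hTpow : ∀ (i : ℕ) (m : Additive B), (T ^ i) m = Additive.ofMul ((τ^[i]) m.toMul) := by
    intro i
    induction i with
    | zero => intro m; rfl
    | succ i ih =>
      intro m
      rw [pow_succ', Module.End.mul_apply, ih, hTapp, Function.iterate_succ_apply']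
      rfl
  have hT : T ^ p = 1 := by
    apply LinearMap.ext
    intro m
    rw [hTpow, hτ]
    rfl
  have hsum : (∑ i ∈ Finset.range p, T ^ i) (Additive.ofMul x) =
      Additive.ofMul (∏ i ∈ Finset.range p, (τ^[i]) x) := by
    rw [LinearMap.sum_apply, ofMul_prod]
    apply Finset.sum_congr rfl
    intro i _
    rw [hTpow]
    rfl
  have hm : (∑ i ∈ Finset.range p, T ^ i) (Additive.ofMul x) ≠ 0 := by
    rw [hsum]
    intro h
    exact hN (Additive.ofMul.injective h)
  obtain ⟨φ, hφ, hφC⟩ := exists_functional T hT (Additive.ofMul x) hm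
  -- the hyperplane as a kernel
  let ψ : B →* Multiplicative (ZMod p) :=
    { toFun := fun b => Multiplicative.ofAdd (φ (Additive.ofMul b))
      map_one' := by
        change Multiplicative.ofAdd (φ 0) = 1
        rw [map_zero]; rfl
      map_mul' := by
        intro a b
        change Multiplicative.ofAdd (φ (Additive.ofMul a + Additive.ofMul b)) = _
        rw [map_add]; rfl }
  have hψs : Function.Surjective ψ := by
    intro t
    set v := (∑ i ∈ Finset.range p, T ^ i) (Additive.ofMul x) with hv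
    refine ⟨((t.toAdd / φ v) • v).toMul, ?_⟩
    change Multiplicative.ofAdd (φ ((t.toAdd / φ v) • v)) = t
    rw [map_smul, smul_eq_mul, div_mul_cancel₀ _ hφ]
    rfl
  refine ⟨ψ.ker, ?_, ?_⟩
  · rw [Subgroup.index_ker, MonoidHom.range_eq_top.mpr hψs, Subgroup.card_top]
    change Nat.card (ZMod p) = p
    exact Nat.card_zmod p
  · intro C hCH hCτ
    set C' : Submodule (ZMod p) (Additive B) :=
      AddSubgroup.toZModSubmodule p (Subgroup.toAddSubgroup C) with hC'
    have hmem : ∀ m : Additive B, m ∈ C' ↔ m.toMul ∈ C := fun _ => Iff.rfl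
    have h1 : C' ≤ LinearMap.ker φ := by
      intro m hm'
      have h2 : m.toMul ∈ ψ.ker := hCH ((hmem m).mp hm')
      rw [MonoidHom.mem_ker] at h2
      rw [LinearMap.mem_ker]
      exact Multiplicative.ofAdd.injective h2
    have h2 : ∀ c ∈ C', T c ∈ C' := by
      intro c hc
      rw [hmem, hTapp]
      exact hCτ _ ((hmem c).mp hc)
    have h3 := hφC C' h1 h2
    have h4 : Nat.card ↥C' = Nat.card ↥C :=
      Nat.card_congr (Equiv.subtypeEquiv Additive.toMul (fun m => hmem m))
    have h5 : Nat.card (Additive B) = Nat.card B := rfl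
    rw [h4, h5] at h3
    exact h3

theorem exists_hyperplane {B : Type*} [CommGroup B] [Finite B] (p : ℕ) [Fact p.Prime]
    (hexp : ∀ b : B, b ^ p = 1) (τ : B →* B) (hτ : ∀ b, (τ^[p]) b = b) (x : B)
    (hN : ∏ i ∈ Finset.range p, (τ^[i]) x ≠ 1) :
    ∃ H : Subgroup B, H.index = p ∧ ∀ C : Subgroup B, C ≤ H → (∀ c ∈ C, τ c ∈ C) →
      p ^ p * Nat.card C ≤ Nat.card B := by
  let _ : Module (ZMod p) (Additive B) := AddCommGroup.zmodModule (by
    intro a
    change Additive.ofMul (a.toMul ^ p) = 0
    rw [hexp]; rfl)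
  exact exists_hyperplane_aux p τ hτ x hN

end Cfsg.Agent.Lib.Helper4.Wreath
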