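import Mathlib
import Cfsg.Agent.Lib.Helper4.Wreath2
import Cfsg.Prelude.Def_Transfer

set_option autoImplicit false

/-!
# A `p`-group with an elementary abelian maximal subgroup and a nontrivial norm maps onto `Z_p ≀ Z_p`
-/

namespace Cfsg.Agent.Lib.Helper4.Wreath

theorem factorization_factorial_sq (p : ℕ) [Fact p.Prime] :
    ((p ^ 2).factorial).factorization p = p + 1 := by
  have hp : p.Prime := Fact.out
  rw [Nat.factorization_def _ hp]
  have h1 : emultiplicity p (p * p).factorial = emultiplicity p p.factorial + p :=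
    hp.emultiplicity_factorial_mul
  have h2 : emultiplicity p (p * 1).factorial = emultiplicity p (1).factorial + (1 : ℕ) :=
    hp.emultiplicity_factorial_mul
  rw [mul_one, Nat.factorial_one] at h2
  have h3 : emultiplicity p 1 = 0 := by
    rw [emultiplicity_eq_zero]
    exact hp.one_lt.ne' ∘ Nat.dvd_one.mp
  rw [h3, zero_add] at h2
  rw [h2] at h1
  have h4 : (padicValNat p (p ^ 2).factorial : ℕ∞) = emultiplicity p (p ^ 2).factorial :=
    padicValNat_eq_emultiplicity (Nat.factorial_ne_zero _)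
  rw [pow_two, h1] at h4
  have h5 : ((1 : ℕ) : ℕ∞) + (p : ℕ∞) = ((p + 1 : ℕ) : ℕ∞) := by push_cast; ring
  rw [h5] at h4
  rw [pow_two]
  exact_mod_cast h4

theorem map_prod_range {B P : Type*} [CommGroup B] [Group P] (ι : B →* P) (f : ℕ → B) (n : ℕ) :
    ι (∏ i ∈ Finset.range n, f i) = ((List.range n).map (fun i => ι (f i))).prod := by
  induction n with
  | zero => simp
  | succ n ih =>
    rw [Finset.prod_range_succ, map_mul, ih, List.range_succ, List.map_append, List.prod_append]
    simp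

theorem exists_perm_hom {P : Type*} [Group P] [Finite P] {p : ℕ} [Fact p.Prime]
    (hP : IsPGroup p P) (A : Subgroup P) [hAn : A.Normal]
    (hA : Cfsg.IsElementaryAbelian p A) (hidx : A.index = p) (x y : P) (hx : x ∈ A)
    (hprod : ((List.range p).map (fun i => (y ^ i)⁻¹ * x * y ^ i)).prod ≠ 1) :
    ∃ (Q : Sylow p (Equiv.Perm (Fin (p ^ 2))))
      (f : P →* ↥(Q : Subgroup (Equiv.Perm (Fin (p ^ 2))))), Function.Surjective f := by
  classical
  have hp : p.Prime := Fact.out
  have hAc : IsMulCommutative ↥A := hA.1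
  let instC : CommGroup ↥A :=
    { (inferInstance : Group ↥A) with mul_comm := fun a b => mul_comm' a b }
  have hexp : ∀ b : ↥A, b ^ p = 1 := fun b => Subtype.ext (hA.2 b b.2)
  -- the automorphism
  let τ : ↥A →* ↥A :=
    { toFun := fun a => ⟨y⁻¹ * (a : P) * y, by
        have := hAn.conj_mem (a : P) a.2 y⁻¹
        rwa [inv_inv] at this⟩
      map_one' := by
        apply Subtype.ext
        simp
      map_mul' := by
        intro a b
        apply Subtype.ext
        simp only [Subgroup.coe_mul]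
        group }
  have hτapp : ∀ a : ↥A, ((τ a : ↥A) : P) = y⁻¹ * (a : P) * y := fun _ => rfl
  have hτpow : ∀ (i : ℕ) (a : ↥A), (((τ^[i]) a : ↥A) : P) = (y ^ i)⁻¹ * (a : P) * y ^ i := by
    intro i
    induction i with
    | zero => intro a; simp
    | succ i ih =>
      intro a
      rw [Function.iterate_succ_apply', hτapp, ih]
      rw [pow_succ]
      group
  have hyp : y ^ p ∈ A := by
    have := Subgroup.pow_index_mem A y
    rwa [hidx] at this
  have hτ : ∀ b : ↥A, (τ^[p]) b = b := by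
    intro b
    apply Subtype.ext
    rw [hτpow]
    have h1 := mul_comm' (⟨y ^ p, hyp⟩ : ↥A) b
    have h2 : y ^ p * (b : P) = (b : P) * y ^ p := congrArg Subtype.val h1
    calc (y ^ p)⁻¹ * (b : P) * y ^ p = (y ^ p)⁻¹ * ((b : P) * y ^ p) := by group
      _ = (y ^ p)⁻¹ * (y ^ p * (b : P)) := by rw [h2]
      _ = (b : P) := by group
  have hN : ∏ i ∈ Finset.range p, (τ^[i]) ⟨x, hx⟩ ≠ 1 := by
    intro h
    apply hprod
    have h1 := map_prod_range (B := ↥A) A.subtype (fun i => (τ^[i]) ⟨x, hx⟩) p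
    rw [h, map_one] at h1
    have h2 : (fun i => A.subtype ((τ^[i]) ⟨x, hx⟩)) = fun i => (y ^ i)⁻¹ * x * y ^ i := by
      funext i
      exact hτpow i ⟨x, hx⟩
    rw [h2] at h1
    exact h1.symm
  obtain ⟨H, hHidx, hHC⟩ := exists_hyperplane p hexp τ hτ ⟨x, hx⟩ hN
  set Ht : Subgroup P := H.map A.subtype with hHt
  have hHtidx : Ht.index = p ^ 2 := by
    rw [hHt, Subgroup.index_map_subtype, hHidx, hidx, pow_two]
  set C : Subgroup P := Ht.normalCore with hCdef
  have hCn : C.Normal := Subgroup.normalCore_normal Ht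
  have hCHt : C ≤ Ht := Subgroup.normalCore_le Ht
  have hHtA : Ht ≤ A := Subgroup.map_subtype_le H
  have hCA : C ≤ A := hCHt.trans hHtA
  have h1 : C.subgroupOf A ≤ H := by
    intro a ha
    rw [Subgroup.mem_subgroupOf] at ha
    obtain ⟨b, hb, hba⟩ := hCHt ha
    have : b = a := Subtype.ext hba
    rwa [← this]
  have h2 : ∀ c ∈ C.subgroupOf A, τ c ∈ C.subgroupOf A := by
    intro c hc
    rw [Subgroup.mem_subgroupOf] at hc ⊢
    rw [hτapp]
    have := hCn.conj_mem (c : P) hc y⁻¹
    rwa [inv_inv] at this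
  have h3 := hHC (C.subgroupOf A) h1 h2
  have h4 : Nat.card ↥(C.subgroupOf A) = Nat.card ↥C :=
    Nat.card_congr (Subgroup.subgroupOfEquivOfLe hCA).toEquiv
  rw [h4] at h3
  have h5 : Nat.card ↥A * A.index = Nat.card P := Subgroup.card_mul_index A
  have h6 : Nat.card ↥C * C.index = Nat.card P := Subgroup.card_mul_index C
  have h7 : p ^ (p + 1) ≤ C.index := by
    have hCpos : 0 < Nat.card ↥C := Nat.card_pos
    have h8 : Nat.card ↥C * p ^ (p + 1) ≤ Nat.card ↥C * C.index := by
      rw [h6, ← h5, hidx, pow_succ]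
      calc Nat.card ↥C * (p ^ p * p) = (p ^ p * Nat.card ↥C) * p := by ring
        _ ≤ Nat.card ↥A * p := Nat.mul_le_mul_right p h3
    exact Nat.le_of_mul_le_mul_left h8 hCpos
  -- the permutation representation
  set f₀ : P →* Equiv.Perm (P ⧸ Ht) := MulAction.toPermHom P (P ⧸ Ht) with hf₀
  have hker₀ : f₀.ker = C := (Subgroup.normalCore_eq_ker Ht).symm
  have hcardq : Nat.card (P ⧸ Ht) = p ^ 2 := by rw [← Subgroup.index_eq_card, hHtidx]
  let e : (P ⧸ Ht) ≃ Fin (p ^ 2) := Finite.equivFinOfCardEq hcardq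
  set f₁ : P →* Equiv.Perm (Fin (p ^ 2)) := (Equiv.permCongrHom e).toMonoidHom.comp f₀ with hf₁
  have hker₁ : f₁.ker = C := by
    rw [← hker₀]
    ext g
    rw [MonoidHom.mem_ker, MonoidHom.mem_ker, hf₁, MonoidHom.comp_apply]
    constructor
    · intro h
      exact (Equiv.permCongrHom e).injective (by rw [MulEquiv.coe_toMonoidHom] at h; rw [h, map_one])
    · intro h
      rw [h, map_one]
  have hrangecard : Nat.card ↥f₁.range = C.index := by
    rw [← Subgroup.index_ker, hker₁]
  have hrp : IsPGroup p ↥f₁.range := by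
    rw [MonoidHom.range_eq_map]
    exact (hP.to_subgroup ⊤).map f₁
  obtain ⟨Q, hQ⟩ := hrp.exists_le_sylow
  have hQcard : Nat.card ↥(Q : Subgroup (Equiv.Perm (Fin (p ^ 2)))) = p ^ (p + 1) := by
    rw [Sylow.card_eq_multiplicity, Nat.card_perm, Nat.card_fin, factorization_factorial_sq]
  have hQeq : f₁.range = (Q : Subgroup (Equiv.Perm (Fin (p ^ 2)))) := by
    apply Subgroup.eq_of_le_of_card_ge hQ
    rw [hQcard, hrangecard]
    exact h7
  refine ⟨Q, f₁.codRestrict (Q : Subgroup (Equiv.Perm (Fin (p ^ 2)))) (fun g => hQ ⟨g, rfl⟩), ?_⟩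
  rintro ⟨q, hq⟩
  rw [← hQeq] at hq
  obtain ⟨g, hg⟩ := hq
  exact ⟨g, Subtype.ext hg⟩

end Cfsg.Agent.Lib.Helper4.Wreath
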